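import Mathlib
import Cfsg.Statements.S3158
import Cfsg.Agent.Lib.Helper16.Center

set_option autoImplicit false
open Cfsg

namespace Cfsg.Agent.S3158

open Cfsg.Agent.Helper16

/-- Let U be a group of order q² with q = 2^n ≥ 2, and y an automorphism of U of order q − 1 all of whose nontrivial powers fix only the identity. Let V be a proper normal y-invariant subgroup of U such that V and U/V are elementary abelian 2-groups and there is an isomorphism from V to U/V commuting with the actions of y. Then U is abelian. -/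
theorem result {U : Type*} [Group U] [Finite U] (n : ℕ) (hn : 1 ≤ n) (hU : Nat.card U = (2 ^ n) ^ 2)
    (y : MulAut U) (hy : orderOf y = 2 ^ n - 1) (hfp : ∀ k : ℕ, y ^ k ≠ 1 → ∀ u : U, (y ^ k) u = u → u = 1)
    (V : Subgroup U) [V.Normal] (hV : V ≠ ⊤) (hyV : ∀ v ∈ V, y v ∈ V)
    (hVe : ∀ v ∈ V, v ^ 2 = 1) (hQe : ∀ u : U, u ^ 2 ∈ V) (hQc : ∀ u w : U, u * w * u⁻¹ * w⁻¹ ∈ V)
    (φ : ↥V ≃* U ⧸ V) (hφ : ∀ (v : ↥V) (u : U), (QuotientGroup.mk u : U ⧸ V) = φ v → φ ⟨y v, hyV v v.2⟩ = QuotientGroup.mk (y u)) :
    IsMulCommutative U := by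
  have hF : Fact (Nat.Prime 2) := ⟨Nat.prime_two⟩
  have hU2 : IsPGroup 2 U := IsPGroup.of_card (n := 2 * n) (by rw [hU]; ring)
  have hq1 : 1 ≤ 2 ^ n := Nat.one_le_two_pow
  -- |V| = 2^n
  have hVcard : Nat.card V = 2 ^ n := by
    have h1 : Nat.card U = Nat.card (U ⧸ V) * Nat.card V :=
      Subgroup.card_eq_card_quotient_mul_card_subgroup V
    have h2 : Nat.card V = Nat.card (U ⧸ V) := Nat.card_congr φ.toEquiv
    rw [← h2, hU] at h1
    have h3 : (2 ^ n) ^ 2 = (Nat.card V) ^ 2 := by rw [h1]; ring
    exact (Nat.pow_left_injective (by norm_num : 2 ≠ 0) h3).symm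
  -- powers preserve V
  have hyVk : ∀ k : ℕ, ∀ v ∈ V, (y ^ k) v ∈ V := by
    intro k
    induction k with
    | zero => intro v hv; simpa using hv
    | succ k ih =>
      intro v hv
      rw [pow_succ', MulAut.mul_apply]
      exact hyV _ (ih v hv)
  -- iterated equivariance
  have hφk : ∀ (k : ℕ) (v : V) (u : U), (QuotientGroup.mk u : U ⧸ V) = φ v →
      φ ⟨(y ^ k) v, hyVk k v v.2⟩ = QuotientGroup.mk ((y ^ k) u) := by
    intro k
    induction k with
    | zero =>
      intro v u h
      have : (⟨(y ^ 0) v, hyVk 0 v v.2⟩ : V) = v := Subtype.ext (by simp)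
      rw [this, ← h]; simp
    | succ k ih =>
      intro v u h
      have h1 := ih v u h
      have h2 := hφ ⟨(y ^ k) v, hyVk k v v.2⟩ ((y ^ k) u) h1.symm
      have e1 : (⟨(y ^ (k + 1)) v, hyVk (k + 1) v v.2⟩ : V) =
          ⟨y ((y ^ k) (v : U)), hyV _ (hyVk k v v.2)⟩ :=
        Subtype.ext (show (y ^ (k + 1)) (v : U) = y ((y ^ k) (v : U)) by
          rw [pow_succ', MulAut.mul_apply])
      have e2 : (y ^ (k + 1)) u = y ((y ^ k) u) := by rw [pow_succ', MulAut.mul_apply]
      rw [e1, e2]
      exact h2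
  -- transitivity of ⟨y⟩ on the non-identity elements of V
  have htrans : ∀ v ∈ V, v ≠ 1 → ∀ v' ∈ V, v' = 1 ∨ ∃ k : ℕ, (y ^ k) v = v' := by
    intro v hv hv1
    let g : Option (Fin (2 ^ n - 1)) → V := fun o =>
      match o with
      | none => 1
      | some k => ⟨(y ^ (k : ℕ)) v, hyVk k v hv⟩
    have hne : ∀ k : ℕ, (y ^ k) v ≠ 1 := by
      intro k h
      apply hv1
      have : (y ^ k) v = (y ^ k) 1 := by rw [h, map_one]
      exact (y ^ k).injective this
    have hlt : ∀ k l : ℕ, k < l → l < 2 ^ n - 1 → (y ^ k) v ≠ (y ^ l) v := by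
      intro k l hkl hl h
      have h1 : y ^ (l - k) ≠ 1 :=
        pow_ne_one_of_lt_orderOf (by omega) (by rw [hy]; omega)
      have h2 : (y ^ (l - k)) v = v := by
        have h3 : y ^ l = y ^ k * y ^ (l - k) := by rw [← pow_add]; congr 1; omega
        rw [h3, MulAut.mul_apply] at h
        exact ((y ^ k).injective h).symm
      exact hv1 (hfp _ h1 v h2)
    have hginj : Function.Injective g := by
      intro a b hab
      rcases a with _ | a <;> rcases b with _ | b
      · rfl
      · exfalso
        have := congrArg Subtype.val hab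
        exact hne b this.symm
      · exfalso
        have := congrArg Subtype.val hab
        exact hne a this
      · have h := congrArg Subtype.val hab
        simp only [g] at h
        congr 1
        apply Fin.ext
        rcases lt_trichotomy (a : ℕ) (b : ℕ) with h1 | h1 | h1
        · exact absurd h (hlt a b h1 b.2)
        · exact h1
        · exact absurd h.symm (hlt b a h1 a.2)
    have hcard : Nat.card V ≤ Nat.card (Option (Fin (2 ^ n - 1))) := by
      rw [hVcard, Nat.card_eq_fintype_card, Fintype.card_option, Fintype.card_fin]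
      omega
    have hgbij := Function.Injective.bijective_of_nat_card_le hginj hcard
    intro v' hv'
    obtain ⟨o, ho⟩ := hgbij.2 ⟨v', hv'⟩
    rcases o with _ | k
    · left
      have := congrArg Subtype.val ho
      exact this.symm
    · right
      refine ⟨k, ?_⟩
      have := congrArg Subtype.val ho
      exact this
  -- automorphisms preserve the centre
  have hcenter : ∀ (α : MulAut U) (z : U), z ∈ Subgroup.center U → α z ∈ Subgroup.center U := by
    intro α z hz
    rw [Subgroup.mem_center_iff] at hz ⊢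
    intro g
    have h1 := hz (α⁻¹ g)
    have h2 := congrArg α h1
    rw [map_mul, map_mul] at h2
    have h3 : α (α⁻¹ g) = g := by
      rw [← MulAut.mul_apply, mul_inv_cancel, MulAut.one_apply]
    rwa [h3] at h2
  -- V is central
  have hVbot : V ≠ ⊥ := by
    intro h
    rw [h, Subgroup.card_bot] at hVcard
    have : 2 ≤ 2 ^ n := by
      calc 2 = 2 ^ 1 := by norm_num
        _ ≤ 2 ^ n := Nat.pow_le_pow_right (by norm_num) hn
    omega
  have hVZ : ∀ v ∈ V, ∀ u : U, u * v = v * u := by
    obtain ⟨z, hzV, hzZ, hz1⟩ := exists_mem_center_of_normal_ne_bot' hU2 V hVbot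
    intro v hv u
    rcases htrans z hzV hz1 v hv with h | ⟨k, hk⟩
    · rw [h, mul_one, one_mul]
    · have := hcenter (y ^ k) z hzZ
      rw [hk, Subgroup.mem_center_iff] at this
      exact this u
  -- squaring is constant on cosets of V
  have hsqV : ∀ u : U, ∀ v ∈ V, (u * v) ^ 2 = u ^ 2 := by
    intro u v hv
    have h1 := hVZ v hv u
    have h2 := hVe v hv
    calc (u * v) ^ 2 = u * (v * u) * v := by rw [pow_two]; group
      _ = u * (u * v) * v := by rw [h1]
      _ = u ^ 2 * v ^ 2 := by rw [pow_two, pow_two]; group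
      _ = u ^ 2 := by rw [h2, mul_one]
  -- transitivity outside V
  have htransU : ∀ u : U, u ∉ V → ∀ u' : U, u' ∉ V → ∃ k : ℕ, ∃ v ∈ V,
      u' = (y ^ k) u * v ∧
        φ.symm (QuotientGroup.mk u') =
          ⟨(y ^ k) (φ.symm (QuotientGroup.mk u) : V), hyVk k _ (φ.symm (QuotientGroup.mk u)).2⟩ := by
    intro u hu u' hu'
    have ha1 : ((φ.symm (QuotientGroup.mk u) : V) : U) ≠ 1 := by
      intro h
      have h1 : φ.symm (QuotientGroup.mk u) = 1 := Subtype.ext h
      have h2 : (QuotientGroup.mk u : U ⧸ V) = 1 := by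
        have := congrArg φ h1
        rwa [φ.apply_symm_apply, map_one] at this
      exact hu ((QuotientGroup.eq_one_iff u).1 h2)
    have ha1' : ((φ.symm (QuotientGroup.mk u') : V) : U) ≠ 1 := by
      intro h
      have h1 : φ.symm (QuotientGroup.mk u') = 1 := Subtype.ext h
      have h2 : (QuotientGroup.mk u' : U ⧸ V) = 1 := by
        have := congrArg φ h1
        rwa [φ.apply_symm_apply, map_one] at this
      exact hu' ((QuotientGroup.eq_one_iff u').1 h2)
    rcases htrans _ (φ.symm (QuotientGroup.mk u)).2 ha1 _ (φ.symm (QuotientGroup.mk u')).2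
      with h | ⟨k, hk⟩
    · exact absurd h ha1'
    · have h1 := hφk k (φ.symm (QuotientGroup.mk u)) u (by rw [φ.apply_symm_apply])
      have h2 : (⟨(y ^ k) (φ.symm (QuotientGroup.mk u) : V),
          hyVk k _ (φ.symm (QuotientGroup.mk u)).2⟩ : V) = φ.symm (QuotientGroup.mk u') :=
        Subtype.ext hk
      rw [h2, φ.apply_symm_apply] at h1
      have h3 : ((y ^ k) u)⁻¹ * u' ∈ V := QuotientGroup.eq.1 h1.symm
      exact ⟨k, _, h3, by group, h2.symm⟩
  -- the squaring map is multiplicative
  have hsq : ∀ u w : U, (u * w) ^ 2 = u ^ 2 * w ^ 2 := by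
    obtain ⟨u₀, hu₀⟩ : ∃ u₀ : U, u₀ ∉ V := by
      by_contra h
      push Not at h
      exact hV (eq_top_iff.2 fun u _ => h u)
    by_cases h0 : u₀ ^ 2 = 1
    · have hall : ∀ u : U, u ^ 2 = 1 := by
        intro u
        by_cases hu : u ∈ V
        · exact hVe u hu
        · obtain ⟨k, v, hv, huv, -⟩ := htransU u₀ hu₀ u hu
          rw [huv, hsqV _ v hv, ← map_pow, h0, map_one]
      intro u w
      rw [hall, hall, hall, one_mul]
    · have ha1 : ((φ.symm (QuotientGroup.mk u₀) : V) : U) ≠ 1 := by
        intro h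
        have h1 : φ.symm (QuotientGroup.mk u₀) = 1 := Subtype.ext h
        have h2 : (QuotientGroup.mk u₀ : U ⧸ V) = 1 := by
          have := congrArg φ h1
          rwa [φ.apply_symm_apply, map_one] at this
        exact hu₀ ((QuotientGroup.eq_one_iff u₀).1 h2)
      rcases htrans _ (φ.symm (QuotientGroup.mk u₀)).2 ha1 _ (hQe u₀) with h | ⟨m, hm⟩
      · exact absurd h h0
      · have hform : ∀ u : U, u ^ 2 = (y ^ m) ((φ.symm (QuotientGroup.mk u) : V) : U) := by
          intro u
          by_cases hu : u ∈ V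
          · have h1 : (QuotientGroup.mk u : U ⧸ V) = 1 := (QuotientGroup.eq_one_iff u).2 hu
            rw [h1, map_one, Subgroup.coe_one, map_one]
            exact hVe u hu
          · obtain ⟨k, v, hv, huv, hsymm⟩ := htransU u₀ hu₀ u hu
            rw [hsymm]
            show u ^ 2 = (y ^ m) ((y ^ k) ((φ.symm (QuotientGroup.mk u₀) : V) : U))
            rw [huv, hsqV _ v hv, ← map_pow, ← hm, ← MulAut.mul_apply, ← MulAut.mul_apply,
              pow_mul_comm]
        intro u w
        rw [hform, hform, hform, QuotientGroup.mk_mul, map_mul, Subgroup.coe_mul, map_mul]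
  rw [isMulCommutative_iff]
  intro u w
  have h := hsq u w
  rw [pow_two, pow_two, pow_two] at h
  have h1 : u * (w * u) * w = u * (u * w) * w := by
    calc u * (w * u) * w = u * w * (u * w) := by group
      _ = u * u * (w * w) := h
      _ = u * (u * w) * w := by group
  have h2 := mul_right_cancel h1
  exact (mul_left_cancel h2).symm

end Cfsg.Agent.S3158
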