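import Mathlib
import Cfsg.Statements.S3163
import Cfsg.Agent.Lib.Helper16.Index

set_option autoImplicit false
open Cfsg

namespace Cfsg.Agent.S3163

open Cfsg.Agent.Helper16

theorem mem_cent_singleton {S : Type*} [Group S] {x g : S} :
    g ∈ Subgroup.centralizer ({x} : Set S) ↔ x * g = g * x := by
  rw [Subgroup.mem_centralizer_iff]
  simp

/-- Let S be a non-abelian finite 2-group which is the product S = AB of two elementary abelian subgroups A and B, and suppose that the centralizer in S of every element of A outside B is exactly A. Then the centralizer of every element of B outside A is exactly B; A and B are maximal elementary abelian subgroups of S and the only ones; the centre of S is A ∩ B; and every element of S outside A ∪ B has centralizer of order at most min(|A|, |B|). -/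
theorem result {S : Type*} [Group S] [Finite S] (hS : IsPGroup 2 S) (hna : ¬ IsMulCommutative S) (A B : Subgroup S)
    (hA : Cfsg.IsElementaryAbelian 2 A) (hB : Cfsg.IsElementaryAbelian 2 B) (hAB : ∀ s : S, ∃ a ∈ A, ∃ b ∈ B, s = a * b)
    (hC : ∀ a ∈ A, a ∉ B → Subgroup.centralizer ({a} : Set S) = A) :
    (∀ b ∈ B, b ∉ A → Subgroup.centralizer ({b} : Set S) = B) ∧
      (∀ E : Subgroup S, Cfsg.IsElementaryAbelian 2 E → (∀ E' : Subgroup S, Cfsg.IsElementaryAbelian 2 E' → E ≤ E' → E' = E) → E = A ∨ E = B) ∧
      (∀ E' : Subgroup S, Cfsg.IsElementaryAbelian 2 E' → A ≤ E' → E' = A) ∧ (∀ E' : Subgroup S, Cfsg.IsElementaryAbelian 2 E' → B ≤ E' → E' = B) ∧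
      Subgroup.center S = A ⊓ B ∧
      (∀ x : S, x ∉ A → x ∉ B → Nat.card ↥(Subgroup.centralizer ({x} : Set S)) ≤ min (Nat.card ↥A) (Nat.card ↥B)) := by
  -- elementwise forms
  have hAc : ∀ x ∈ A, ∀ y ∈ A, x * y = y * x := by
    intro x hx y hy
    have := (isMulCommutative_iff.1 hA.1) ⟨x, hx⟩ ⟨y, hy⟩
    simpa using congrArg (fun z : A => (z : S)) this
  have hBc : ∀ x ∈ B, ∀ y ∈ B, x * y = y * x := by
    intro x hx y hy
    have := (isMulCommutative_iff.1 hB.1) ⟨x, hx⟩ ⟨y, hy⟩
    simpa using congrArg (fun z : B => (z : S)) this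
  have hA2 := hA.2
  have hB2 := hB.2
  -- `S = B A` too
  have hBA : ∀ s : S, ∃ b ∈ B, ∃ a ∈ A, s = b * a := by
    intro s
    obtain ⟨a, ha, b, hb, h⟩ := hAB s⁻¹
    refine ⟨b⁻¹, B.inv_mem hb, a⁻¹, A.inv_mem ha, ?_⟩
    rw [← mul_inv_rev, ← h, inv_inv]
  -- A is not inside B and conversely
  have hAnB : ∃ a ∈ A, a ∉ B := by
    by_contra hcon
    push Not at hcon
    apply hna
    rw [isMulCommutative_iff]
    have hall : ∀ s : S, s ∈ B := by
      intro s
      obtain ⟨a, ha, b, hb, rfl⟩ := hAB s
      exact B.mul_mem (hcon a ha) hb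
    intro x y
    exact hBc x (hall x) y (hall y)
  have hBnA : ∃ b ∈ B, b ∉ A := by
    by_contra hcon
    push Not at hcon
    apply hna
    rw [isMulCommutative_iff]
    have hall : ∀ s : S, s ∈ A := by
      intro s
      obtain ⟨a, ha, b, hb, rfl⟩ := hAB s
      exact A.mul_mem ha (hcon b hb)
    intro x y
    exact hAc x (hall x) y (hall y)
  -- part 1
  have h1 : ∀ b ∈ B, b ∉ A → Subgroup.centralizer ({b} : Set S) = B := by
    intro b hb hbA
    ext x
    rw [mem_cent_singleton]
    constructor
    · intro hx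
      obtain ⟨a', ha', b', hb', rfl⟩ := hAB x
      have hcomm : b * a' = a' * b := by
        have e1 : b * (a' * b') = a' * b' * b := hx
        have e2 : b' * b = b * b' := hBc b' hb' b hb
        have : b * a' * b' = a' * b * b' := by
          rw [mul_assoc, e1, mul_assoc, e2, ← mul_assoc]
        exact mul_right_cancel this
      by_cases ha'B : a' ∈ B
      · exact B.mul_mem ha'B hb'
      · exfalso
        have := hC a' ha' ha'B
        have hb_in : b ∈ Subgroup.centralizer ({a'} : Set S) := by
          rw [mem_cent_singleton]; exact hcomm.symm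
        rw [this] at hb_in
        exact hbA hb_in
    · intro hx
      exact hBc b hb x hx
  -- elements outside A ∪ B are not involutions
  have hsq : ∀ x : S, x ∉ A → x ∉ B → x ^ 2 ≠ 1 := by
    intro x hxA hxB hx2
    obtain ⟨a, ha, b, hb, rfl⟩ := hAB x
    have haB : a ∉ B := fun h => hxB (B.mul_mem h hb)
    have hbA : b ∉ A := fun h => hxA (A.mul_mem ha h)
    have ha2 := hA2 a ha
    have hb2 := hB2 b hb
    have hcomm : a * b = b * a := by
      have e : a * b * (a * b) = 1 := by rw [← pow_two]; exact hx2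
      have e1 : a * b = (a * b)⁻¹ := eq_inv_of_mul_eq_one_left e
      have ha' : a⁻¹ = a := by
        rw [inv_eq_iff_mul_eq_one, ← pow_two]; exact ha2
      have hb' : b⁻¹ = b := by
        rw [inv_eq_iff_mul_eq_one, ← pow_two]; exact hb2
      rw [e1, mul_inv_rev, ha', hb']
    have hb_in : b ∈ Subgroup.centralizer ({a} : Set S) := by
      rw [mem_cent_singleton]; exact hcomm
    rw [hC a ha haB] at hb_in
    exact hbA hb_in
  -- elementary abelian subgroups lie in A or B
  have hcover : ∀ E : Subgroup S, Cfsg.IsElementaryAbelian 2 E → E ≤ A ∨ E ≤ B := by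
    intro E hE
    have hmem : ∀ x ∈ E, x ∈ A ∨ x ∈ B := by
      intro x hx
      by_contra hcon
      push Not at hcon
      exact hsq x hcon.1 hcon.2 (hE.2 x hx)
    by_contra hcon
    push Not at hcon
    obtain ⟨hEA, hEB⟩ := hcon
    obtain ⟨x, hxE, hxA⟩ := SetLike.not_le_iff_exists.1 hEA
    obtain ⟨y, hyE, hyB⟩ := SetLike.not_le_iff_exists.1 hEB
    have hxB : x ∈ B := (hmem x hxE).resolve_left hxA
    have hyA : y ∈ A := (hmem y hyE).resolve_right hyB
    rcases hmem (x * y) (E.mul_mem hxE hyE) with h | h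
    · apply hxA
      have : x = x * y * y⁻¹ := by group
      rw [this]
      exact A.mul_mem h (A.inv_mem hyA)
    · apply hyB
      have : y = x⁻¹ * (x * y) := by group
      rw [this]
      exact B.mul_mem (B.inv_mem hxB) h
  have hAleB : ¬ A ≤ B := by
    obtain ⟨a, ha, haB⟩ := hAnB
    exact fun h => haB (h ha)
  have hBleA : ¬ B ≤ A := by
    obtain ⟨b, hb, hbA⟩ := hBnA
    exact fun h => hbA (h hb)
  have h3 : ∀ E' : Subgroup S, Cfsg.IsElementaryAbelian 2 E' → A ≤ E' → E' = A := by
    intro E' hE' hle
    rcases hcover E' hE' with h | h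
    · exact le_antisymm h hle
    · exact absurd (hle.trans h) hAleB
  have h4 : ∀ E' : Subgroup S, Cfsg.IsElementaryAbelian 2 E' → B ≤ E' → E' = B := by
    intro E' hE' hle
    rcases hcover E' hE' with h | h
    · exact absurd (hle.trans h) hBleA
    · exact le_antisymm h hle
  have h2 : ∀ E : Subgroup S, Cfsg.IsElementaryAbelian 2 E →
      (∀ E' : Subgroup S, Cfsg.IsElementaryAbelian 2 E' → E ≤ E' → E' = E) → E = A ∨ E = B := by
    intro E hE hmax
    rcases hcover E hE with h | h
    · left; exact (hmax A hA h).symm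
    · right; exact (hmax B hB h).symm
  -- centre
  have h5 : Subgroup.center S = A ⊓ B := by
    apply le_antisymm
    · intro z hz
      rw [Subgroup.mem_center_iff] at hz
      obtain ⟨a₀, ha₀, ha₀B⟩ := hAnB
      have hzA : z ∈ A := by
        rw [← hC a₀ ha₀ ha₀B, mem_cent_singleton]
        exact hz a₀
      refine ⟨hzA, ?_⟩
      by_contra hzB
      have hcz := hC z hzA hzB
      apply hna
      rw [isMulCommutative_iff]
      have hall : ∀ s : S, s ∈ A := by
        intro s
        rw [← hcz, mem_cent_singleton]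
        exact (hz s).symm
      intro x y
      exact hAc x (hall x) y (hall y)
    · intro d hd
      rw [Subgroup.mem_inf] at hd
      obtain ⟨hdA, hdB⟩ := hd
      rw [Subgroup.mem_center_iff]
      intro s
      obtain ⟨a, ha, b, hb, rfl⟩ := hAB s
      have e1 : a * d = d * a := hAc a ha d hdA
      have e2 : b * d = d * b := hBc b hb d hdB
      rw [mul_assoc, e2, ← mul_assoc, e1, mul_assoc]
  refine ⟨h1, h2, h3, h4, h5, ?_⟩
  intro x hxA hxB
  obtain ⟨a, ha, b, hb, hx⟩ := hAB x
  have haB : a ∉ B := fun h => hxB (hx ▸ B.mul_mem h hb)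
  have hbA : b ∉ A := fun h => hxA (hx ▸ A.mul_mem ha h)
  have hCA : A ⊓ Subgroup.centralizer ({x} : Set S) ≤ B := by
    intro a' haa
    rw [Subgroup.mem_inf] at haa
    obtain ⟨ha', hc⟩ := haa
    rw [mem_cent_singleton] at hc
    by_contra ha'B
    have hcomm : a' * b = b * a' := by
      have e1 : a * b * a' = a' * (a * b) := hx ▸ hc
      have e2 : a' * a = a * a' := hAc a' ha' a ha
      have : a * (a' * b) = a * (b * a') := by
        calc a * (a' * b) = a' * a * b := by rw [e2, mul_assoc]
          _ = a' * (a * b) := by rw [mul_assoc]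
          _ = a * b * a' := e1.symm
          _ = a * (b * a') := by rw [mul_assoc]
      exact mul_left_cancel this
    have hb_in : b ∈ Subgroup.centralizer ({a'} : Set S) := by
      rw [mem_cent_singleton]; exact hcomm
    rw [hC a' ha' ha'B] at hb_in
    exact hbA hb_in
  have hCB : B ⊓ Subgroup.centralizer ({x} : Set S) ≤ A := by
    intro b' hbb
    rw [Subgroup.mem_inf] at hbb
    obtain ⟨hb', hc⟩ := hbb
    rw [mem_cent_singleton] at hc
    have hcomm : a * b' = b' * a := by
      have e1 : a * b * b' = b' * (a * b) := hx ▸ hc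
      have e2 : b * b' = b' * b := hBc b hb b' hb'
      have : a * b' * b = b' * a * b := by
        rw [mul_assoc, ← e2, ← mul_assoc, e1, mul_assoc]
      exact mul_right_cancel this
    have hb_in : b' ∈ Subgroup.centralizer ({a} : Set S) := by
      rw [mem_cent_singleton]; exact hcomm
    rw [hC a ha haB] at hb_in
    exact hb_in
  rw [le_min_iff]
  constructor
  · exact card_le_of_inf_le B A _ hAB hCB
  · exact card_le_of_inf_le A B _ hBA hCA

end Cfsg.Agent.S3163
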