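import Mathlib
import Cfsg.Statements.S3166

set_option autoImplicit false
open Cfsg

namespace Cfsg.Agent.S3166

/-- no perfect square strictly between consecutive squares -/
lemma no_sq_between (a x : ℤ) (ha : 0 ≤ a) (hx : 0 ≤ x) (h1 : a * a < x * x) (h2 : x * x < (a + 1) * (a + 1)) : False := by
  have h3 : a < x := by
    by_contra hcon
    push Not at hcon
    have := mul_le_mul hcon hcon hx ha
    linarith
  have h4 : x < a + 1 := by
    by_contra hcon
    push Not at hcon
    have := mul_le_mul hcon hcon (by linarith) hx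
    linarith
  omega

/-- the case `m = 3` -/
lemma cube_case (Q k : ℤ) (hQ : 2 ≤ Q) (hk : 1 ≤ k)
    (h : (1 + k * Q) ^ 3 = Q ^ 4 - Q ^ 3 + Q ^ 2 - Q + 1) : False := by
  have hQ0 : Q ≠ 0 := by omega
  set t : ℤ := Q ^ 2 - Q + 1 - 3 * k ^ 2 - k ^ 3 * Q with ht
  have h1 : 3 * k + 1 = Q * t := by
    have : Q * (3 * k + 1) = Q * (Q * t) := by
      rw [ht]; linear_combination h
    exact mul_left_cancel₀ hQ0 this
  have ht1 : 1 ≤ t := by
    by_contra hcon
    push Not at hcon
    have : t ≤ 0 := by omega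
    have : Q * t ≤ 0 := mul_nonpos_of_nonneg_of_nonpos (by omega) this
    omega
  -- k^3 * Q + 3 k^2 ≤ Q^2 - Q
  have h2 : k ^ 3 * Q + 3 * k ^ 2 ≤ Q ^ 2 - Q := by rw [ht] at ht1; linarith
  have h3 : k ^ 3 < Q := by
    by_contra hcon
    push Not at hcon
    have : Q * Q ≤ k ^ 3 * Q := mul_le_mul_of_nonneg_right hcon (by omega)
    nlinarith [sq_nonneg k]
  have h4 : Q ≤ 3 * k + 1 := by
    rw [h1]
    calc Q = Q * 1 := by ring
      _ ≤ Q * t := mul_le_mul_of_nonneg_left ht1 (by omega)
  have h5 : k = 1 := by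
    by_contra hcon
    have hk2 : 2 ≤ k := by omega
    have : 4 * k ≤ k ^ 3 := by nlinarith [mul_le_mul hk2 hk2 (by norm_num) (by omega : (0:ℤ) ≤ k)]
    omega
  subst h5
  have hQ4 : Q ≤ 4 := by omega
  interval_cases Q <;> simp at h

theorem result (n p m : ℕ) (hn : 1 ≤ n) (hp : p.Prime)
    (h : (2 ^ n) ^ 4 - (2 ^ n) ^ 3 + (2 ^ n) ^ 2 - 2 ^ n + 1 = p ^ m) : m = 1 := by
  set q : ℕ := 2 ^ n with hq
  have hq2 : 2 ≤ q := by
    calc 2 = 2 ^ 1 := by norm_num
      _ ≤ 2 ^ n := Nat.pow_le_pow_right (by norm_num) hn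
  have hq34 : q ^ 3 ≤ q ^ 4 := Nat.pow_le_pow_right (by omega) (by norm_num)
  have hq12 : q ≤ q ^ 2 := by nlinarith
  -- the basic identity in ℕ without subtraction
  have hN : p ^ m + q ^ 3 + q = q ^ 4 + q ^ 2 + 1 := by omega
  -- cast to ℤ
  have hZ : ((p : ℤ)) ^ m = (q : ℤ) ^ 4 - (q : ℤ) ^ 3 + (q : ℤ) ^ 2 - (q : ℤ) + 1 := by
    have := congrArg (Nat.cast : ℕ → ℤ) hN
    push_cast at this
    linarith
  have hQ2 : (2 : ℤ) ≤ (q : ℤ) := by exact_mod_cast hq2
  by_contra hm1
  -- m ≠ 0
  have hm0 : m ≠ 0 := by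
    intro h0
    rw [h0, pow_zero] at hZ
    nlinarith [sq_nonneg ((q : ℤ)), sq_nonneg ((q:ℤ)^2)]
  -- parity of m
  rcases Nat.even_or_odd m with hev | hodd
  · -- m even: p^m is a square
    obtain ⟨k, hk⟩ := hev
    have hsq : ((p : ℤ)) ^ m = ((p : ℤ) ^ k) * ((p : ℤ) ^ k) := by
      rw [hk, pow_add]
    apply no_sq_between (2 * (q : ℤ) ^ 2 - q) (2 * (p : ℤ) ^ k) (by nlinarith) (by positivity)
    · nlinarith
    · nlinarith
  · -- m odd, m ≥ 3
    have hm3 : 3 ≤ m := by
      obtain ⟨k, hk⟩ := hodd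
      omega
    -- p is odd
    have hqeven : Even q := by
      rw [hq]; exact (Nat.even_pow' (by omega)).mpr even_two
    have hpm_odd : Odd (p ^ m) := by
      have h1 : Even (q ^ 3 + q) := by
        apply Even.add
        · exact (Nat.even_pow' (by norm_num)).mpr hqeven
        · exact hqeven
      have h2 : Odd (q ^ 4 + q ^ 2 + 1) := by
        apply Even.add_one
        apply Even.add
        · exact (Nat.even_pow' (by norm_num)).mpr hqeven
        · exact (Nat.even_pow' (by norm_num)).mpr hqeven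
      by_contra hcon
      rw [Nat.not_odd_iff_even] at hcon
      have : Even (p ^ m + q ^ 3 + q) := by
        rw [add_assoc]; exact hcon.add h1
      rw [hN] at this
      exact (Nat.not_even_iff_odd.mpr h2) this
    have hp_odd : Odd p := Nat.Odd.of_mul_right (by
      have : p ^ m = p ^ (m - 1) * p := by
        rw [← pow_succ]; congr 1; omega
      rw [this] at hpm_odd; exact hpm_odd)
    -- geometric sum
    have hgeom : (∑ i ∈ Finset.range m, p ^ i) * (p - 1) = p ^ m - 1 := by
      have := Nat.geomSum_eq hp.two_le m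
      rw [this]
      exact Nat.div_mul_cancel (Nat.sub_one_dvd_pow_sub_one p m) -- may need adjusting
    -- the geometric sum is odd
    have hSodd : Odd (∑ i ∈ Finset.range m, p ^ i) := by
      rw [Finset.odd_sum_iff_odd_card_odd]
      have : (Finset.range m).filter (fun i => Odd (p ^ i)) = Finset.range m := by
        apply Finset.filter_true_of_mem
        intro i _
        exact hp_odd.pow
      rw [this, Finset.card_range]
      exact hodd
    -- q divides p^m - 1
    have hqdvd : q ∣ p ^ m - 1 := by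
      have h1 : p ^ m - 1 = (q ^ 4 + q ^ 2) - (q ^ 3 + q) := by omega
      rw [h1]
      apply Nat.dvd_sub
      · exact Dvd.dvd.add (dvd_pow_self q (by norm_num)) (dvd_pow_self q (by norm_num))
      · exact Dvd.dvd.add (dvd_pow_self q (by norm_num)) (dvd_refl q)
    have hcop : Nat.Coprime q (∑ i ∈ Finset.range m, p ^ i) := by
      rw [hq]
      exact Nat.Coprime.pow_left n (Nat.coprime_two_left.mpr hSodd)
    have hqp : q ∣ p - 1 := by
      rw [← hgeom] at hqdvd
      exact hcop.dvd_of_dvd_mul_left hqdvd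
    obtain ⟨k, hk⟩ := hqp
    have hp2 := hp.two_le
    have hk1 : 1 ≤ k := by
      rcases Nat.eq_zero_or_pos k with h0 | h0
      · rw [h0] at hk; omega
      · exact h0
    have hpk : p = 1 + k * q := by
      have : p = (p - 1) + 1 := by omega
      rw [this, hk]; ring
    -- m = 3
    have hm3' : m = 3 := by
      by_contra hne
      have hm5 : 4 ≤ m := by
        obtain ⟨j, hj⟩ := hodd
        omega
      have h1 : p ^ 4 ≤ p ^ m := Nat.pow_le_pow_right (by omega) hm5
      have h2 : (q + 1) ^ 4 ≤ p ^ 4 := by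
        apply Nat.pow_le_pow_left
        rw [hpk]
        nlinarith
      have h3 : q ^ 4 + q ^ 2 + 1 < (q + 1) ^ 4 := by nlinarith [sq_nonneg q]
      omega
    rw [hm3'] at hZ
    apply cube_case (q : ℤ) (k : ℤ) hQ2 (by exact_mod_cast hk1)
    rw [← hZ, hpk]
    push_cast
    ring

end Cfsg.Agent.S3166
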