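import Cfsg.Statements.S3171
import Cfsg.Agent.Lib.Helper26.M24QCert
import Cfsg.Agent.Lib.Helper29.StemSylow

set_option autoImplicit false
open Cfsg

namespace Cfsg.Agent.S3171

open Cfsg.Agent.Helper29 Cfsg.Agent.Helper29.Syl2 Cfsg.Agent.Helper26.M24Q

theorem P0_le : P0 ≤ M24 := fun g hg => ((mem_P0 g).1 hg).1

/-- every Sylow 2-subgroup is isomorphic to the listed one -/
theorem exists_equiv (P : Sylow 2 ↥Cfsg.M24) :
    Nonempty (↥P0 ≃* ↥(P : Subgroup ↥Cfsg.M24)) := by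
  have : Fact (Nat.Prime 2) := ⟨Nat.prime_two⟩
  have hp : IsPGroup 2 ↥(P0.subgroupOf M24) := by
    intro x
    refine ⟨3, ?_⟩
    apply Subtype.ext
    apply Subtype.ext
    have := P0_pow8 x.1.1 (Subgroup.mem_subgroupOf.1 x.2)
    simpa using this
  have hN : ∀ n : ↥M24, (∀ x ∈ P0.subgroupOf M24, n * x * n⁻¹ ∈ P0.subgroupOf M24) →
      n ∈ P0.subgroupOf M24 := by
    intro n hn
    rw [Subgroup.mem_subgroupOf]
    apply P0_normalizer n.1 n.2
    intro x hx
    have := hn ⟨x, P0_le hx⟩ (Subgroup.mem_subgroupOf.2 hx)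
    rw [Subgroup.mem_subgroupOf] at this
    exact this
  obtain ⟨S1, hS1⟩ :=
    StemSylow.exists_sylow_eq_of_selfNormalizing 2 (P0.subgroupOf M24) hp hN
  obtain ⟨g, rfl⟩ := MulAction.exists_smul_eq ↥M24 S1 P
  have e1 : ↥P0 ≃* ↥(P0.subgroupOf M24) := (Subgroup.subgroupOfEquivOfLe P0_le).symm
  have e2 : ↥(P0.subgroupOf M24) ≃* ↥(S1 : Subgroup ↥M24) := MulEquiv.subgroupCongr hS1.symm
  have e3 : ↥(S1 : Subgroup ↥M24) ≃* ↥((g • S1 : Sylow 2 ↥M24) : Subgroup ↥M24) :=
    Sylow.equivSMul S1 g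
  exact ⟨(e1.trans e2).trans e3⟩

/-- Let P be a Sylow 2-subgroup of the Mathieu group of degree 24 and S the quotient of P by its centre. Then the centre of every maximal subgroup of S has order at most 8; S has an elementary abelian subgroup of order 64; and S has only one abelian subgroup of order 64. -/
theorem result (P : Sylow 2 ↥Cfsg.M24) :
    (∀ M : Subgroup (↥(P : Subgroup ↥Cfsg.M24) ⧸ Subgroup.center ↥(P : Subgroup ↥Cfsg.M24)), IsCoatom M →
        Nat.card ↥(Subgroup.center ↥M) ≤ 8) ∧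
      (∃ A : Subgroup (↥(P : Subgroup ↥Cfsg.M24) ⧸ Subgroup.center ↥(P : Subgroup ↥Cfsg.M24)),
        Cfsg.IsElementaryAbelian 2 A ∧ Nat.card ↥A = 64) ∧
      ∀ A B : Subgroup (↥(P : Subgroup ↥Cfsg.M24) ⧸ Subgroup.center ↥(P : Subgroup ↥Cfsg.M24)),
        IsMulCommutative ↥A → Nat.card ↥A = 64 → IsMulCommutative ↥B → Nat.card ↥B = 64 → A = B := by
  obtain ⟨φ⟩ := exists_equiv P
  let f : ↥P0 →* (↥(P : Subgroup ↥Cfsg.M24) ⧸ Subgroup.center ↥(P : Subgroup ↥Cfsg.M24)) :=
    (QuotientGroup.mk' (Subgroup.center ↥(P : Subgroup ↥Cfsg.M24))).comp φ.toMonoidHom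
  have hf : Function.Surjective f :=
    (QuotientGroup.mk'_surjective _).comp φ.surjective
  have hk : f.ker = Subgroup.center ↥P0 := by
    ext x
    rw [MonoidHom.mem_ker]
    show QuotientGroup.mk' _ (φ x) = 1 ↔ _
    rw [QuotientGroup.mk'_apply, QuotientGroup.eq_one_iff, Subgroup.mem_center_iff,
      Subgroup.mem_center_iff]
    constructor
    · intro h t
      have := h (φ t)
      rw [← map_mul, ← map_mul] at this
      exact φ.injective this
    · intro h y
      obtain ⟨t, rfl⟩ := φ.surjective y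
      rw [← map_mul, ← map_mul, h t]
  exact concl (model_of_hom checkZ_ok f hf hk) checks

end Cfsg.Agent.S3171
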