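import Mathlib
import Cfsg.Statements.S3178
import Cfsg.Agent.S3225
import Cfsg.Agent.Lib.Helper16.SylowNormal
import Cfsg.Agent.Lib.Helper16.TwoNilpotent

set_option autoImplicit false
open Cfsg

namespace Cfsg.Agent.S3178

open Cfsg.Agent.Helper16

theorem mem_cent_singleton {S : Type*} [Group S] {x g : S} :
    g ∈ Subgroup.centralizer ({x} : Set S) ↔ x * g = g * x := by
  rw [Subgroup.mem_centralizer_iff]
  simp

/-- A subgroup with a central subgroup of relative index two is commutative. -/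
theorem comm_of_central_relIndex_two {K : Type*} [Group K] (P Z : Subgroup K)
    (hrel : Z.relIndex P = 2) (hcen : ∀ c ∈ Z, ∀ x ∈ P, x * c = c * x) :
    ∀ x ∈ P, ∀ y ∈ P, x * y = y * x := by
  rw [Subgroup.relIndex_eq_two_iff] at hrel
  obtain ⟨t, htP, ht⟩ := hrel
  have hform : ∀ x ∈ P, x ∈ Z ∨ x * t ∈ Z := by
    intro x hx
    rcases ht x hx with ⟨h, -⟩ | ⟨h, -⟩
    · right; exact h
    · left; exact h
  intro x hx y hy
  rcases hform x hx with h1 | h1
  · exact (hcen x h1 y hy).symm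
  · rcases hform y hy with h2 | h2
    · exact hcen y h2 x hx
    · -- x = c₁ t⁻¹, y = c₂ t⁻¹
      have e1 : x = (x * t) * t⁻¹ := by group
      have e2 : y = (y * t) * t⁻¹ := by group
      have htinv : t⁻¹ ∈ P := P.inv_mem htP
      have c1 : t⁻¹ * (x * t) = (x * t) * t⁻¹ := hcen _ h1 _ htinv
      have c2 : t⁻¹ * (y * t) = (y * t) * t⁻¹ := hcen _ h2 _ htinv
      have c3 : (y * t) * (x * t) = (x * t) * (y * t) := hcen _ h1 _ (P.mul_mem hy htP)
      calc x * y = ((x * t) * t⁻¹) * ((y * t) * t⁻¹) := by rw [← e1, ← e2]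
        _ = (x * t) * (t⁻¹ * (y * t)) * t⁻¹ := by group
        _ = (x * t) * ((y * t) * t⁻¹) * t⁻¹ := by rw [c2]
        _ = ((x * t) * (y * t)) * t⁻¹ * t⁻¹ := by group
        _ = ((y * t) * (x * t)) * t⁻¹ * t⁻¹ := by rw [c3]
        _ = (y * t) * ((x * t) * t⁻¹) * t⁻¹ := by group
        _ = (y * t) * (t⁻¹ * (x * t)) * t⁻¹ := by rw [c1]
        _ = ((y * t) * t⁻¹) * ((x * t) * t⁻¹) := by group
        _ = y * x := by rw [← e1, ← e2]

/-- Structure of the modular group inside `G`. -/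
theorem modular_structure {G : Type*} [Group G] [Finite G]
    (S : Subgroup G) (n : ℕ) (hn : 3 ≤ n) (hS : Nat.card S = 2 ^ (n + 1))
    (a b : G) (ha : a ∈ S) (hb : b ∈ S)
    (hao : orderOf a = 2 ^ n) (hbo : orderOf b = 2) (hrel : b * a * b⁻¹ = a ^ (2 ^ (n - 1) + 1)) :
    (∀ s ∈ S, ∃ i : ℕ, s = a ^ i ∨ s = a ^ i * b) ∧
    (∀ i : ℕ, (a ^ i) ^ 2 ^ (n - 1) = 1 ↔ Even i) ∧
    (∀ i : ℕ, (a ^ i * b) ^ 2 ^ (n - 1) = 1 ↔ Even i) ∧
    (∀ i : ℕ, b * a ^ i = a ^ i * b ↔ Even i) ∧
    (∀ i : ℕ, b * a ^ i = a ^ ((2 ^ (n - 1) + 1) * i) * b) := by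
  have hb2 : b * b = 1 := by rw [← pow_two, ← hbo, pow_orderOf_eq_one]
  have hbinv : b⁻¹ = b := inv_eq_of_mul_eq_one_left hb2
  have hN : 2 ^ n = 2 ^ (n - 1) * 2 := by rw [← pow_succ, Nat.sub_add_cancel (by omega)]
  have hhpos : 0 < 2 ^ (n - 1) := by positivity
  have hq : 2 ^ (n - 1) = 2 * 2 ^ (n - 2) := by
    rw [← pow_succ']; congr 1; omega
  have hqeven : Even (2 ^ (n - 2)) := (Nat.even_pow' (by omega)).2 even_two
  have hconj : ∀ i : ℕ, b * a ^ i * b⁻¹ = a ^ ((2 ^ (n - 1) + 1) * i) := by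
    intro i
    have := map_pow (MulAut.conj b) a i
    simp only [MulAut.conj_apply] at this
    rw [this, hrel, ← pow_mul]
  have hba : ∀ i : ℕ, b * a ^ i = a ^ ((2 ^ (n - 1) + 1) * i) * b := by
    intro i
    rw [← hconj i, hbinv]
    calc b * a ^ i = b * a ^ i * (b * b) := by rw [hb2, mul_one]
      _ = b * a ^ i * b * b := by group
  -- the involution a^h
  have hah2 : orderOf (a ^ 2 ^ (n - 1)) = 2 := by
    rw [orderOf_pow, hao]
    have : (2 ^ n).gcd (2 ^ (n - 1)) = 2 ^ (n - 1) :=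
      Nat.gcd_eq_right (pow_dvd_pow 2 (by omega))
    rw [this, hN, Nat.mul_div_cancel_left _ hhpos]
  have hahpow : ∀ j : ℕ, (a ^ 2 ^ (n - 1)) ^ j = 1 ↔ Even j := by
    intro j
    rw [← orderOf_dvd_iff_pow_eq_one, hah2, even_iff_two_dvd]
  have hcomm : ∀ i : ℕ, b * a ^ i = a ^ i * b ↔ Even i := by
    intro i
    rw [hba i]
    constructor
    · intro h
      have h1 : a ^ ((2 ^ (n - 1) + 1) * i) = a ^ i := mul_right_cancel h
      have h2 : a ^ ((2 ^ (n - 1) + 1) * i) = (a ^ 2 ^ (n - 1)) ^ i * a ^ i := by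
        rw [← pow_mul, ← pow_add]; congr 1; ring
      rw [h2] at h1
      have h3 : (a ^ 2 ^ (n - 1)) ^ i = 1 := by
        have : (a ^ 2 ^ (n - 1)) ^ i * a ^ i = 1 * a ^ i := by rw [one_mul]; exact h1
        exact mul_right_cancel this
      exact (hahpow i).1 h3
    · intro h
      have h2 : a ^ ((2 ^ (n - 1) + 1) * i) = (a ^ 2 ^ (n - 1)) ^ i * a ^ i := by
        rw [← pow_mul, ← pow_add]; congr 1; ring
      rw [h2, (hahpow i).2 h, one_mul]
  have hpow1 : ∀ i : ℕ, (a ^ i) ^ 2 ^ (n - 1) = 1 ↔ Even i := by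
    intro i
    rw [← pow_mul, mul_comm, pow_mul]
    exact hahpow i
  have hpow2 : ∀ i : ℕ, (a ^ i * b) ^ 2 ^ (n - 1) = 1 ↔ Even i := by
    intro i
    have hsq : (a ^ i * b) * (a ^ i * b) = a ^ (i + (2 ^ (n - 1) + 1) * i) := by
      calc (a ^ i * b) * (a ^ i * b) = a ^ i * (b * a ^ i) * b := by group
        _ = a ^ i * (a ^ ((2 ^ (n - 1) + 1) * i) * b) * b := by rw [hba i]
        _ = a ^ i * a ^ ((2 ^ (n - 1) + 1) * i) * (b * b) := by group
        _ = a ^ (i + (2 ^ (n - 1) + 1) * i) := by rw [hb2, mul_one, ← pow_add]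
    have h1 : (a ^ i * b) ^ 2 ^ (n - 1) = (a ^ 2 ^ (n - 1)) ^ (i * (2 ^ (n - 2) + 1)) := by
      rw [hq, pow_mul, pow_two, hsq, ← pow_mul, ← pow_mul]
      congr 1
      rw [hq]; ring
    rw [h1, hahpow]
    constructor
    · intro h
      rcases Nat.even_mul.1 h with h | h
      · exact h
      · exfalso
        have : ¬ Even (2 ^ (n - 2) + 1) := by
          rw [Nat.even_add_one]; exact not_not.2 hqeven
        exact this h
    · intro h
      exact Nat.even_mul.2 (Or.inl h)
  -- b is not a power of a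
  have hbA : b ∉ Subgroup.zpowers a := by
    intro h
    rw [← mem_powers_iff_mem_zpowers] at h
    obtain ⟨k, hk⟩ := h
    have hk : a ^ k = b := hk
    have h1 : b * a ^ 1 = a ^ 1 * b := by
      rw [← hk, ← pow_add, ← pow_add, add_comm]
    have := (hcomm 1).1 h1
    exact Nat.not_even_one this
  -- normal form
  have hA_le : Subgroup.zpowers a ≤ S := by
    rw [Subgroup.zpowers_le]; exact ha
  have hAcard : Nat.card (Subgroup.zpowers a) = 2 ^ n := by rw [Nat.card_zpowers, hao]
  have hArel : (Subgroup.zpowers a).relIndex S = 2 := by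
    have h1 : (Subgroup.zpowers a).relIndex S * Nat.card (Subgroup.zpowers a) = Nat.card S := by
      have := Subgroup.relIndex_mul_relIndex ⊥ (Subgroup.zpowers a) S bot_le hA_le
      rw [Subgroup.relIndex_bot_left, Subgroup.relIndex_bot_left] at this
      rw [mul_comm]; exact this
    rw [hAcard, hS, pow_succ, mul_comm] at h1
    exact Nat.eq_of_mul_eq_mul_left (by positivity) h1
  have hform : ∀ s ∈ S, ∃ i : ℕ, s = a ^ i ∨ s = a ^ i * b := by
    rw [Subgroup.relIndex_eq_two_iff] at hArel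
    obtain ⟨t, -, ht⟩ := hArel
    intro s hs
    by_cases hsA : s ∈ Subgroup.zpowers a
    · rw [← mem_powers_iff_mem_zpowers] at hsA
      obtain ⟨i, hi⟩ := hsA
      exact ⟨i, Or.inl hi.symm⟩
    · have h1 : s * t ∈ Subgroup.zpowers a := by
        rcases ht s hs with ⟨h, -⟩ | ⟨h, -⟩
        · exact h
        · exact absurd h hsA
      have h2 : b * t ∈ Subgroup.zpowers a := by
        rcases ht b hb with ⟨h, -⟩ | ⟨h, -⟩
        · exact h
        · exact absurd h hbA
      have h3 : s * b⁻¹ ∈ Subgroup.zpowers a := by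
        have : s * b⁻¹ = (s * t) * (b * t)⁻¹ := by group
        rw [this]
        exact Subgroup.mul_mem _ h1 (Subgroup.inv_mem _ h2)
      rw [← mem_powers_iff_mem_zpowers] at h3
      obtain ⟨i, hi⟩ := h3
      have hi : a ^ i = s * b⁻¹ := hi
      refine ⟨i, Or.inr ?_⟩
      rw [hi]; group
  exact ⟨hform, hpow1, hpow2, hcomm, hba⟩


/-- Groups with a modular Sylow 2-subgroup have a normal 2-complement. Let S, of order 2^(n+1) with n ≥ 3, be a Sylow 2-subgroup of a finite group G, and suppose S contains an element a of order 2^n and an involution b with b a b⁻¹ = a^(2^(n-1) + 1); so S is the non-abelian 2-group with a cyclic subgroup of index 2 that is neither dihedral, semidihedral nor generalized quaternion. Then G has a normal 2-complement. -/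
theorem result {G : Type*} [Group G] [Finite G]
    (S : Sylow 2 G) (n : ℕ) (hn : 3 ≤ n) (hS : Nat.card ↥(S : Subgroup G) = 2 ^ (n + 1))
    (a b : G) (ha : a ∈ (S : Subgroup G)) (hb : b ∈ (S : Subgroup G))
    (hao : orderOf a = 2 ^ n) (hbo : orderOf b = 2) (hrel : b * a * b⁻¹ = a ^ (2 ^ (n - 1) + 1)) :
    Cfsg.HasNormalPComplement 2 G := by
  have hF : Fact (Nat.Prime 2) := ⟨Nat.prime_two⟩
  obtain ⟨hform, hpow1, hpow2, hcomm, hba⟩ :=
    modular_structure (S : Subgroup G) n hn hS a b ha hb hao hbo hrel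
  have hb2 : b * b = 1 := by rw [← pow_two, ← hbo, pow_orderOf_eq_one]
  have hN : 2 ^ n = 2 ^ (n - 1) * 2 := by rw [← pow_succ, Nat.sub_add_cancel (by omega)]
  have hhpos : 0 < 2 ^ (n - 1) := by positivity
  have hah1 : a ^ 2 ^ (n - 1) ≠ 1 := by
    intro h
    have h1 := orderOf_dvd_of_pow_eq_one h
    rw [hao] at h1
    have h2 := Nat.le_of_dvd hhpos h1
    omega
  by_cases hex : ∃ G₁ : Subgroup G, G₁.index = 2
  · obtain ⟨G₁, hG₁⟩ := hex
    have hG₁n : G₁.Normal := Subgroup.normal_of_index_eq_two hG₁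
    apply hasNormalPComplement_of_index_two G₁ hG₁
    -- the Sylow subgroup of G₁
    have hP₁coe := coe_sylowInfNormal S G₁
    have hGcard : Nat.card G = Nat.card G₁ * 2 := by
      rw [← hG₁]; exact (Subgroup.card_mul_index G₁).symm
    have hfacG : (Nat.card G).factorization 2 = n + 1 := by
      have := S.card_eq_multiplicity
      rw [hS] at this
      exact (Nat.pow_right_injective (le_refl 2) this).symm
    have hfac : (Nat.card G).factorization 2 = (Nat.card G₁).factorization 2 + 1 := by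
      rw [hGcard, Nat.factorization_mul Nat.card_pos.ne' (by norm_num)]
      simp [Nat.Prime.factorization_self Nat.prime_two]
    have hP₁card : Nat.card ((sylowInfNormal S G₁ : Sylow 2 G₁) : Subgroup G₁) = 2 ^ (n - 1 + 1) := by
      rw [(sylowInfNormal S G₁).card_eq_multiplicity]
      congr 1
      omega
    have ha2G₁ : a ^ 2 ∈ G₁ := Subgroup.sq_mem_of_index_two hG₁ a
    have hu2o : orderOf (a ^ 2) = 2 ^ (n - 1) := by
      rw [orderOf_pow, hao]
      have : (2 ^ n).gcd 2 = 2 := Nat.gcd_eq_right (dvd_pow_self 2 (by omega))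
      rw [this, hN, Nat.mul_div_cancel _ (by norm_num)]
    have huo : orderOf (⟨a ^ 2, ha2G₁⟩ : G₁) = 2 ^ (n - 1) := by
      rw [← hu2o]; exact Subgroup.orderOf_mk _ _
    have huP : (⟨a ^ 2, ha2G₁⟩ : G₁) ∈ ((sylowInfNormal S G₁ : Sylow 2 G₁) : Subgroup G₁) := by
      rw [hP₁coe, Subgroup.mem_subgroupOf]
      exact Subgroup.pow_mem _ ha 2
    -- a^2 is central in S
    have hcen : ∀ c ∈ Subgroup.zpowers (a ^ 2), ∀ s ∈ (S : Subgroup G), s * c = c * s := by
      intro c hc s hs
      rw [Subgroup.mem_zpowers_iff] at hc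
      obtain ⟨k, rfl⟩ := hc
      have hbc : b * a ^ 2 = a ^ 2 * b := (hcomm 2).2 even_two
      obtain ⟨i, rfl | rfl⟩ := hform s hs
      · have h1 : Commute (a ^ i) (a ^ 2) := (Commute.refl a).pow_pow i 2
        exact (h1.zpow_right k).eq
      · have h1 : Commute (a ^ i) (a ^ 2) := (Commute.refl a).pow_pow i 2
        have h2 : Commute b (a ^ 2) := hbc
        exact ((h1.mul_left h2).zpow_right k).eq
    -- commutativity of P₁
    have hZP : Subgroup.zpowers (⟨a ^ 2, ha2G₁⟩ : G₁)
        ≤ ((sylowInfNormal S G₁ : Sylow 2 G₁) : Subgroup G₁) := by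
      rw [Subgroup.zpowers_le]; exact huP
    have hZcard : Nat.card (Subgroup.zpowers (⟨a ^ 2, ha2G₁⟩ : G₁)) = 2 ^ (n - 1) := by
      rw [Nat.card_zpowers, huo]
    have hZrel : (Subgroup.zpowers (⟨a ^ 2, ha2G₁⟩ : G₁)).relIndex
        ((sylowInfNormal S G₁ : Sylow 2 G₁) : Subgroup G₁) = 2 := by
      have h1 := Subgroup.relIndex_mul_relIndex ⊥ (Subgroup.zpowers (⟨a ^ 2, ha2G₁⟩ : G₁))
        ((sylowInfNormal S G₁ : Sylow 2 G₁) : Subgroup G₁) bot_le hZP
      rw [Subgroup.relIndex_bot_left, Subgroup.relIndex_bot_left, hZcard, hP₁card,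
        pow_succ (2 : ℕ) (n - 1)] at h1
      exact Nat.eq_of_mul_eq_mul_left hhpos h1
    have hc : ∀ x ∈ ((sylowInfNormal S G₁ : Sylow 2 G₁) : Subgroup G₁),
        ∀ y ∈ ((sylowInfNormal S G₁ : Sylow 2 G₁) : Subgroup G₁), x * y = y * x := by
      apply comm_of_central_relIndex_two _ _ hZrel
      intro c hc x hx
      rw [hP₁coe, Subgroup.mem_subgroupOf] at hx
      apply Subtype.ext
      rw [Subgroup.coe_mul, Subgroup.coe_mul]
      apply hcen _ _ _ hx
      rw [Subgroup.mem_zpowers_iff] at hc ⊢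
      obtain ⟨k, rfl⟩ := hc
      exact ⟨k, by simp⟩
    have hNC := normalizer_le_centralizer_of_abelian_two (sylowInfNormal S G₁) hc (n - 1)
      (by omega) hP₁card _ huP huo
    exact ⟨sylowInfNormal S G₁, (MonoidHom.transferSylow (sylowInfNormal S G₁) hNC).ker,
      inferInstance, MonoidHom.ker_transferSylow_isComplement' _ hNC⟩
  · exfalso
    push Not at hex
    -- M = C_S(b)
    have hMS : (S : Subgroup G) ⊓ Subgroup.centralizer ({b} : Set G) ≤ (S : Subgroup G) := inf_le_left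
    have hMmem : ∀ s ∈ (S : Subgroup G),
        (s ∈ (S : Subgroup G) ⊓ Subgroup.centralizer ({b} : Set G) ↔ s ^ 2 ^ (n - 1) = 1) := by
      intro s hs
      rw [Subgroup.mem_inf, mem_cent_singleton]
      obtain ⟨i, rfl | rfl⟩ := hform s hs
      · rw [hpow1, ← hcomm]
        exact ⟨fun h => h.2, fun h => ⟨hs, h⟩⟩
      · rw [hpow2, ← hcomm]
        constructor
        · rintro ⟨-, h⟩
          have : b * a ^ i * b = a ^ i * b * b := by rw [← mul_assoc] at h; exact h
          exact mul_right_cancel this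
        · intro h
          refine ⟨hs, ?_⟩
          rw [← mul_assoc, h]
    have hMrel : ((S : Subgroup G) ⊓ Subgroup.centralizer ({b} : Set G)).relIndex (S : Subgroup G)
        = 2 := by
      rw [Subgroup.relIndex_eq_two_iff]
      refine ⟨a, ha, ?_⟩
      intro s hs
      have hsa : s * a ∈ (S : Subgroup G) := Subgroup.mul_mem _ hs ha
      rw [hMmem s hs, hMmem _ hsa]
      obtain ⟨i, rfl | rfl⟩ := hform s hs
      · have e : a ^ i * a = a ^ (i + 1) := (pow_succ a i).symm
        rw [e, hpow1, hpow1]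
        by_cases hi : Even i
        · right; exact ⟨hi, by rw [Nat.even_add_one]; exact not_not.2 hi⟩
        · left; exact ⟨by rw [Nat.even_add_one]; exact hi, hi⟩
      · have e : a ^ i * b * a = a ^ (i + (2 ^ (n - 1) + 1)) * b := by
          have h1 := hba 1
          rw [pow_one, mul_one] at h1
          calc a ^ i * b * a = a ^ i * (b * a) := by group
            _ = a ^ i * (a ^ (2 ^ (n - 1) + 1) * b) := by rw [h1]
            _ = a ^ (i + (2 ^ (n - 1) + 1)) * b := by rw [pow_add]; group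
        rw [e, hpow2, hpow2]
        have heven : Even (2 ^ (n - 1)) := (Nat.even_pow' (by omega)).2 even_two
        have hodd : ¬ Even (2 ^ (n - 1) + 1) := by
          rw [Nat.even_add_one]; exact not_not.2 heven
        by_cases hi : Even i
        · right
          refine ⟨hi, ?_⟩
          rw [Nat.even_add]
          intro h
          exact hodd (h.1 hi)
        · left
          refine ⟨?_, hi⟩
          rw [Nat.even_add]
          exact ⟨fun h => absurd h hi, fun h => absurd h hodd⟩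
    have hord : ∀ y ∈ (S : Subgroup G), y ∉ (S : Subgroup G) ⊓ Subgroup.centralizer ({b} : Set G) →
        2 ^ (n - 1) < orderOf y := by
      intro y hy hyM
      rw [hMmem y hy] at hyM
      obtain ⟨k, hk⟩ := S.2 ⟨y, hy⟩
      have hk' : y ^ 2 ^ k = 1 := by
        simpa using congrArg (fun v : (S : Subgroup G) => (v : G)) hk
      obtain ⟨j, hj, hjo⟩ := (Nat.dvd_prime_pow Nat.prime_two).1 (orderOf_dvd_of_pow_eq_one hk')
      by_contra hcon
      push Not at hcon
      rw [hjo] at hcon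
      have hjn : j ≤ n - 1 := (Nat.pow_le_pow_iff_right (by norm_num)).1 hcon
      apply hyM
      have : orderOf y ∣ 2 ^ (n - 1) := by rw [hjo]; exact pow_dvd_pow 2 hjn
      exact orderOf_dvd_iff_pow_eq_one.1 this
    have hev : Even (Nat.card G) := by
      have h1 : Nat.card (S : Subgroup G) ∣ Nat.card G := Subgroup.card_subgroup_dvd_card _
      rw [hS] at h1
      exact even_iff_two_dvd.2 ((dvd_pow_self 2 (by omega)).trans h1)
    obtain ⟨g, hg⟩ := Cfsg.Agent.S3225.result hev hex S _ hMS hMrel n (by omega) hord a ha hao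
    have hgS : g * a * g⁻¹ ∈ (S : Subgroup G) := hMS hg
    rw [hMmem _ hgS] at hg
    have h1 : (g * a * g⁻¹) ^ 2 ^ (n - 1) = g * a ^ 2 ^ (n - 1) * g⁻¹ := by
      have := map_pow (MulAut.conj g) a (2 ^ (n - 1))
      simp only [MulAut.conj_apply] at this
      exact this.symm
    rw [h1] at hg
    apply hah1
    have : a ^ 2 ^ (n - 1) = g⁻¹ * (g * a ^ 2 ^ (n - 1) * g⁻¹) * g := by group
    rw [this, hg]; group

end Cfsg.Agent.S3178
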