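import Mathlib
import Cfsg.Statements.S3179
import Cfsg.Agent.Lib.Helper16.Gl52C
-- import your own Cfsg.Agent.* helpers here

set_option autoImplicit false
open Cfsg

namespace Cfsg.Agent.S3179

open Cfsg.Agent.Helper16.Gl52 in
/-- Let X be a section of the general linear group GL(5, 2), that is, a quotient of a subgroup of it. If X is isomorphic to PSL(2, 2^n) for some n ≥ 2, to a Suzuki group over the field with 2^(2m+1) elements for some m ≥ 1, or to PSU(3, 2^n) for some n ≥ 2, then X is isomorphic to PSL(2, 4). -/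
theorem result {H : Subgroup (GL (Fin 5) (ZMod 2))}
    {K : Subgroup ↥H} [K.Normal]
    (hX : (∃ (n : ℕ) (F : Type) (_ : Field F) (_ : Fintype F), 2 ≤ n ∧ Fintype.card F = 2 ^ n ∧
        Nonempty (↥H ⧸ K ≃* Matrix.ProjectiveSpecialLinearGroup (Fin 2) F)) ∨
      (∃ (m : ℕ) (F : Type) (_ : Field F) (_ : Fintype F), 1 ≤ m ∧ Fintype.card F = 2 ^ (2 * m + 1) ∧
        Nonempty (↥H ⧸ K ≃* ↥(Cfsg.Lie.Sz F (2 ^ (m + 1))))) ∨
      (∃ (n : ℕ) (F : Type) (_ : Field F) (_ : Fintype F), 2 ≤ n ∧ Fintype.card F = 4 ^ n ∧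
        Nonempty (↥H ⧸ K ≃* Cfsg.PSU 3 F (2 ^ n)))) :
    ∃ (F : Type) (_ : Field F) (_ : Fintype F), Fintype.card F = 4 ∧
      Nonempty (↥H ⧸ K ≃* Matrix.ProjectiveSpecialLinearGroup (Fin 2) F) := by
  have hdvd : Nat.card (↥H ⧸ K) ∣ 9999360 := by
    rw [← card_GL52]
    exact card_section_dvd H K
  rcases hX with ⟨n, F, _, _, hn, hF, ⟨e⟩⟩ | ⟨m, F, _, _, hm, hF, ⟨e⟩⟩ | ⟨n, F, _, _, hn, hF, ⟨e⟩⟩
  · -- the linear case
    have hcard : Nat.card (↥H ⧸ K) = 2 ^ n * (2 ^ n - 1) * (2 ^ n + 1) := by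
      rw [Nat.card_congr e.toEquiv, card_PSL2_even n (by omega) hF]
    have h2n : 2 ^ n ∣ 9999360 := by
      refine Dvd.dvd.trans ?_ hdvd
      rw [hcard, mul_assoc]
      exact Dvd.intro _ rfl
    have hn10 := le_ten_of_two_pow_dvd h2n
    rw [hcard] at hdvd
    interval_cases n
    · exact ⟨F, inferInstance, inferInstance, by rw [hF]; norm_num, ⟨e⟩⟩
    · -- `PSL₂(8)` has an element of order nine
      exfalso
      obtain ⟨x, hx9, hx3⟩ := exists_order_nine (F := F) (by rw [hF]; norm_num)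
      let y : Matrix.ProjectiveSpecialLinearGroup (Fin 2) F :=
        QuotientGroup.mk' (Subgroup.center (Matrix.SpecialLinearGroup (Fin 2) F)) x
      have hy9 : y ^ 9 = 1 := by
        show (QuotientGroup.mk' _ x) ^ 9 = 1
        rw [← map_pow, hx9, map_one]
      have hy3 : y ^ 3 ≠ 1 := by
        intro h
        apply hx3
        have : (QuotientGroup.mk' (Subgroup.center (Matrix.SpecialLinearGroup (Fin 2) F))) (x ^ 3) = 1 := by
          rw [map_pow]; exact h
        rwa [QuotientGroup.mk'_apply, QuotientGroup.eq_one_iff] at this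
      have hord : orderOf y = 9 := by
        have h1 : orderOf y ∣ 9 := orderOf_dvd_of_pow_eq_one hy9
        have h2 : ¬ orderOf y ∣ 3 := fun h => hy3 (orderOf_dvd_iff_pow_eq_one.mp h)
        have h3 : orderOf y ∈ Nat.divisors 9 := Nat.mem_divisors.mpr ⟨h1, by norm_num⟩
        have h4 : Nat.divisors 9 = {1, 3, 9} := by decide
        rw [h4] at h3
        simp only [Finset.mem_insert, Finset.mem_singleton] at h3
        rcases h3 with h | h | h
        · rw [h] at h2; exact absurd (one_dvd 3) h2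
        · rw [h] at h2; exact absurd (dvd_refl 3) h2
        · exact h
      obtain ⟨g, hg⟩ := exists_orderOf_of_section H K (e.symm y)
      rw [MulEquiv.orderOf_eq e.symm y, hord] at hg
      exact no_order_nine g hg
    all_goals (exfalso; norm_num at hdvd)
  · -- the Suzuki case
    exfalso
    obtain ⟨S⟩ := Cfsg.Agent.Helper2.Sz.nonempty_szData (m := m) hF
    obtain ⟨b⟩ := Cfsg.Agent.Helper2.Sz.nonempty_bridge hm hF
    have hcard : Nat.card (↥H ⧸ K) =
        (2 ^ (2 * m + 1)) ^ 2 * ((2 ^ (2 * m + 1)) ^ 2 + 1) * (2 ^ (2 * m + 1) - 1) := by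
      rw [Nat.card_congr e.toEquiv, ← Nat.card_congr b.toEquiv, S.card_Sz hm hF]
    have h2n : 2 ^ (2 * (2 * m + 1)) ∣ 9999360 := by
      refine Dvd.dvd.trans ?_ hdvd
      rw [hcard, mul_assoc, ← pow_mul, mul_comm (2 * m + 1) 2]
      exact Dvd.intro _ rfl
    have hm10 := le_ten_of_two_pow_dvd h2n
    rw [hcard] at hdvd
    have hm2 : m ≤ 2 := by omega
    interval_cases m <;> norm_num at hdvd
  · -- the unitary case
    exfalso
    have hF' : Fintype.card F = (2 ^ n) ^ 2 := by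
      rw [hF, ← pow_mul, mul_comm, pow_mul]; norm_num
    have hSU := Cfsg.Agent.Helper12.PSUAdj.card_SU_eq hF' 3 (by norm_num)
    have hZ := Cfsg.Agent.Helper11.Herm.card_center_SU hF' 3 (by norm_num)
    have hq := Subgroup.card_eq_card_quotient_mul_card_subgroup
      (Subgroup.center (Cfsg.SU 3 F (2 ^ n)))
    have hcard : Nat.card (↥H ⧸ K) = Nat.card (Cfsg.PSU 3 F (2 ^ n)) := Nat.card_congr e.toEquiv
    have hprod : ∏ i ∈ Finset.Ico 1 3, Cfsg.Agent.Helper12.PSUAdj.cfac (2 ^ n) i =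
        ((2 ^ n) ^ 2 - 1) * ((2 ^ n) ^ 3 + 1) := by
      rw [show Finset.Ico 1 3 = {1, 2} by decide, Finset.prod_pair (by norm_num)]
      simp [Cfsg.Agent.Helper12.PSUAdj.cfac]
    rw [hprod] at hSU
    -- the order of `SU` divides `9999360 * 3`
    have hdvd3 : (2 ^ n) ^ 3 * (((2 ^ n) ^ 2 - 1) * ((2 ^ n) ^ 3 + 1)) ∣ 9999360 * 3 := by
      have h3 : Nat.gcd 3 (2 ^ n + 1) ∣ 3 := Nat.gcd_dvd_left _ _
      have : (2 ^ n) ^ (3 * (3 - 1) / 2) = (2 ^ n) ^ 3 := by norm_num
      rw [this] at hSU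
      rw [← hSU, hq, hZ]
      exact Nat.mul_dvd_mul (hcard ▸ hdvd) h3
    have h2n : 2 ^ (n * 3) ∣ 9999360 * 3 := by
      refine Dvd.dvd.trans ?_ hdvd3
      rw [← pow_mul]
      exact Dvd.intro _ rfl
    have hn10 := le_ten_of_two_pow_dvd' h2n
    have hn3 : n ≤ 3 := by omega
    interval_cases n <;> norm_num at hdvd3

end Cfsg.Agent.S3179
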