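import Mathlib
import Cfsg.Statements.S3180
import Cfsg.Agent.Lib.Helper16.Basic

set_option autoImplicit false
open Cfsg

namespace Cfsg.Agent.S3180

open Cfsg.Agent.Helper16

/-- Let P be a Sylow p-subgroup of a finite group J and P₁ a subgroup of P that is weakly closed in P with respect to J. If J acts on a set and two points, each fixed by every element of P₁, lie in one J-orbit, then they lie in one orbit of the normalizer of P₁ in J. -/
theorem result {J : Type*} [Group J] [Finite J]
    {p : ℕ} [Fact p.Prime] (P : Sylow p J) (P₁ : Subgroup J) (hW : Cfsg.IsWeaklyClosed P₁ (P : Subgroup J))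
    {Ω : Type*} [MulAction J Ω] (x y : Ω) (hx : ∀ g ∈ P₁, g • x = x) (hy : ∀ g ∈ P₁, g • y = y)
    (hc : ∃ g : J, g • x = y) :
    ∃ g ∈ Subgroup.normalizer (P₁ : Set J), g • x = y := by
  obtain ⟨g, hg⟩ := hc
  obtain ⟨hle, hwc⟩ := hW
  have hP₁ : IsPGroup p P₁ := P.2.to_le hle
  set H := MulAction.stabilizer J y with hH
  set B := P₁.map (MulAut.conj g).toMonoidHom with hBdef
  have hAH : P₁ ≤ H := fun w hw => by
    rw [hH, MulAction.mem_stabilizer_iff]; exact hy w hw
  have hBH : B ≤ H := by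
    rintro _ ⟨w, hw, rfl⟩
    rw [hH, MulAction.mem_stabilizer_iff]
    simp only [MulEquiv.coe_toMonoidHom, MulAut.conj_apply]
    rw [← hg, mul_smul, mul_smul, inv_smul_smul, hx w hw]
  have hB : IsPGroup p B := hP₁.map _
  obtain ⟨h, hhH, R, hR, -, hAR, hBR⟩ := exists_conj_mem_common_pGroup H P₁ B hAH hBH hP₁ hB
  obtain ⟨k, hk⟩ := exists_conj_le_sylow hR P
  -- k normalizes P₁
  have hk1 : k ∈ Subgroup.normalizer (P₁ : Set J) := by
    apply mem_normalizer_of_map_conj_eq
    apply hwc
    rintro _ ⟨w, hw, rfl⟩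
    simpa using hk w (hAR hw)
  have hk2 : k * h * g ∈ Subgroup.normalizer (P₁ : Set J) := by
    apply mem_normalizer_of_map_conj_eq
    apply hwc
    rintro _ ⟨w, hw, rfl⟩
    have h1 : g * w * g⁻¹ ∈ B := ⟨w, hw, by simp⟩
    have h2 := hk _ (hBR _ h1)
    simp only [MulEquiv.coe_toMonoidHom, MulAut.conj_apply, mul_inv_rev]
    convert h2 using 1
    group
  refine ⟨h * g, ?_, ?_⟩
  · have : h * g = k⁻¹ * (k * h * g) := by group
    rw [this]
    exact Subgroup.mul_mem _ (Subgroup.inv_mem _ hk1) hk2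
  · rw [mul_smul, hg]
    exact MulAction.mem_stabilizer_iff.mp hhH

end Cfsg.Agent.S3180
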