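import Mathlib
import Cfsg.Statements.S3183
import Cfsg.Agent.Lib.Helper16.Basic
import Cfsg.Agent.Lib.Helper16.PGroup

set_option autoImplicit false
open Cfsg

namespace Cfsg.Agent.S3183

open Cfsg.Agent.Helper16
open scoped Pointwise

lemma mem_ZG {G : Type*} [Group G] (U : Subgroup G) (z : G) :
    z ∈ (Subgroup.center ↥U).map U.subtype ↔ z ∈ U ∧ ∀ u ∈ U, u * z = z * u := by
  constructor
  · rintro ⟨y, hy, rfl⟩
    refine ⟨y.2, fun u hu => ?_⟩
    have := Subgroup.mem_center_iff.mp hy ⟨u, hu⟩
    exact congrArg Subtype.val this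
  · rintro ⟨hz, hc⟩
    refine ⟨⟨z, hz⟩, ?_, rfl⟩
    show (⟨z, hz⟩ : U) ∈ Subgroup.center U
    rw [Subgroup.mem_center_iff]
    intro u
    ext
    exact hc u u.2

/-- a Sylow subgroup contained in another one equals it -/
lemma sylow_eq_of_le {G : Type*} [Group G] {p : ℕ} (S T : Sylow p G) (h : (S : Subgroup G) ≤ T) : S = T :=
  Sylow.ext (S.3 T.2 h).symm

/-- a proper subgroup of a Sylow 2-subgroup has even relative index -/
lemma two_dvd_relIndex {G : Type*} [Group G] [Finite G] (S : Sylow 2 G) (D : Subgroup G)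
    (hne : ¬ (S : Subgroup G) ≤ D) : 2 ∣ D.relIndex S := by
  have : Fact (Nat.Prime 2) := ⟨Nat.prime_two⟩
  obtain ⟨n, hn⟩ := (S.2).index (D.subgroupOf S)
  rw [Subgroup.relIndex, hn]
  rcases Nat.eq_zero_or_pos n with h0 | h0
  · exfalso
    apply hne
    rw [← Subgroup.relIndex_eq_one, Subgroup.relIndex, hn, h0, pow_zero]
  · exact dvd_pow_self 2 (by omega)

lemma card_sylow_eq {G : Type*} [Group G] [Finite G] (S T : Sylow 2 G) :
    Nat.card (S : Subgroup G) = Nat.card (T : Subgroup G) := by
  have : Fact (Nat.Prime 2) := ⟨Nat.prime_two⟩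
  rw [Sylow.card_eq_multiplicity, Sylow.card_eq_multiplicity]

theorem key {G : Type*} [Group G] [Finite G]
    (hCI : ∀ S T : Sylow 2 G, S ≠ T → ∃ U : Sylow 2 G,
      (S : Subgroup G) ⊓ (T : Subgroup G) ≤ (Subgroup.center ↥(U : Subgroup G)).map (U : Subgroup G).subtype) :
    ∀ m : ℕ, ∀ S T : Sylow 2 G, S ≠ T →
      Nat.card (S : Subgroup G) - Nat.card ↥((S : Subgroup G) ⊓ (T : Subgroup G)) = m →
      (S : Subgroup G) ⊓ (T : Subgroup G) ≤ (Subgroup.center ↥(S : Subgroup G)).map (S : Subgroup G).subtype := by
  have : Fact (Nat.Prime 2) := ⟨Nat.prime_two⟩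
  intro m
  induction m using Nat.strong_induction_on with
  | _ m ih =>
    intro S T hST hm
    set D := (S : Subgroup G) ⊓ (T : Subgroup G) with hD
    obtain ⟨U, hU⟩ := hCI S T hST
    have hDS : D ≤ S := inf_le_left
    have hnle : ¬ (S : Subgroup G) ≤ D := by
      intro hle
      exact hST (sylow_eq_of_le S T (le_trans hle inf_le_right))
    have hDp : IsPGroup 2 D := S.2.to_le hDS
    obtain ⟨K, hDK, hKS, hidx, hKp, hKnorm⟩ :=
      exists_two_overgroup D S hDS hDp (two_dvd_relIndex S D hnle)
    set N := Subgroup.normalizer (D : Set G) with hN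
    have hKN : K ≤ N := by
      intro g hg
      rw [hN, Subgroup.mem_normalizer_iff]
      intro d
      constructor
      · exact hKnorm g hg d
      · intro hd
        have := hKnorm g⁻¹ (K.inv_mem hg) _ hd
        simpa [mul_assoc] using this
    have hUN : (U : Subgroup G) ≤ N := by
      intro u hu
      rw [hN, Subgroup.mem_normalizer_iff]
      intro d
      constructor
      · intro hd
        have h1 := ((mem_ZG _ _).mp (hU hd)).2 u hu
        have : u * d * u⁻¹ = d := by rw [h1]; group
        rw [this]; exact hd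
      · intro hd
        have h1 := ((mem_ZG _ _).mp (hU hd)).2 u hu
        -- u * (u d u⁻¹) = (u d u⁻¹) * u  so  u d = d u
        have : u * d * u⁻¹ = d := by
          have h2 : u * (u * d * u⁻¹) = u * d := by
            calc u * (u * d * u⁻¹) = (u * d * u⁻¹) * u := h1
              _ = u * d := by group
          exact mul_left_cancel h2
        rw [← this]; exact hd
    obtain ⟨h, hhN, R, hR, -, hUR, hKR⟩ :=
      exists_conj_mem_common_pGroup N (U : Subgroup G) K hUN hKN U.2 hKp
    have hRU : R = U := U.3 hR hUR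
    set U' : Sylow 2 G := h⁻¹ • U with hU'
    have hmemU' : ∀ w : G, h * w * h⁻¹ ∈ (U : Subgroup G) → w ∈ (U' : Subgroup G) := by
      intro w hw
      rw [hU', Sylow.coe_subgroup_smul]
      have := Subgroup.smul_mem_pointwise_smul _ (MulAut.conj h⁻¹) (U : Subgroup G) hw
      have h2 : MulAut.conj h⁻¹ • (h * w * h⁻¹) = w := by
        simp [MulAut.smul_def, mul_assoc]
      rwa [h2] at this
    have hU'mem : ∀ w ∈ (U' : Subgroup G), h * w * h⁻¹ ∈ (U : Subgroup G) := by
      intro w hw
      rw [hU', Sylow.coe_subgroup_smul] at hw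
      obtain ⟨u, hu, rfl⟩ := hw
      have : h * (MulAut.conj h⁻¹ • u) * h⁻¹ = u := by
        simp [MulAut.smul_def, mul_assoc]
      change h * (MulAut.conj h⁻¹ • u) * h⁻¹ ∈ (U : Subgroup G)
      rw [this]; exact hu
    have hKU' : K ≤ (U' : Subgroup G) := by
      intro b hb
      exact hmemU' b (hRU ▸ hKR b hb)
    have hhD : ∀ d ∈ D, h * d * h⁻¹ ∈ D := fun d hd =>
      ((Subgroup.mem_normalizer_iff.mp hhN) d).mp hd
    have hDZU' : D ≤ (Subgroup.center ↥(U' : Subgroup G)).map (U' : Subgroup G).subtype := by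
      intro d hd
      rw [mem_ZG]
      have hd' := hhD d hd
      have hz := (mem_ZG _ _).mp (hU hd')
      refine ⟨hmemU' d hz.1, fun w hw => ?_⟩
      have h1 := hz.2 _ (hU'mem w hw)
      -- (h w h⁻¹) (h d h⁻¹) = (h d h⁻¹) (h w h⁻¹)
      have h2 : h * (w * d) * h⁻¹ = h * (d * w) * h⁻¹ := by
        calc h * (w * d) * h⁻¹ = (h * w * h⁻¹) * (h * d * h⁻¹) := by group
          _ = (h * d * h⁻¹) * (h * w * h⁻¹) := h1
          _ = h * (d * w) * h⁻¹ := by group
      exact mul_left_cancel (mul_right_cancel h2)
    by_cases hSU' : S = U'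
    · rw [hSU']; exact hDZU'
    · -- induction
      have hKle : K ≤ (S : Subgroup G) ⊓ (U' : Subgroup G) := le_inf hKS hKU'
      have hcardK : Nat.card D * 2 = Nat.card K := by
        have h1 := Subgroup.relIndex_mul_relIndex (⊥ : Subgroup G) D K bot_le hDK
        rw [Subgroup.relIndex_bot_left, Subgroup.relIndex_bot_left, hidx] at h1
        exact h1
      have hc1 : Nat.card K ≤ Nat.card ↥((S : Subgroup G) ⊓ (U' : Subgroup G)) :=
        Subgroup.card_le_of_le hKle
      have hc2 : Nat.card ↥((S : Subgroup G) ⊓ (U' : Subgroup G)) ≤ Nat.card (S : Subgroup G) :=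
        Subgroup.card_le_of_le inf_le_left
      have hDpos : 0 < Nat.card D := Nat.card_pos
      have hlt : Nat.card (S : Subgroup G) - Nat.card ↥((S : Subgroup G) ⊓ (U' : Subgroup G)) < m := by
        rw [← hm]; omega
      have := ih _ hlt S U' hSU' rfl
      exact le_trans (le_trans hDK hKle) this

/-- Let G be a finite group in which the intersection of any two distinct Sylow 2-subgroups is contained in the centre of some Sylow 2-subgroup, and let S be a Sylow 2-subgroup. Then for every x in S the centralizer of x in S is a Sylow 2-subgroup of the centralizer of x in G (no 2-subgroup centralizing x is larger), and for every other Sylow 2-subgroup T the intersection S ∩ T lies in both the centre of S and the centre of T. -/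
theorem result {G : Type*} [Group G] [Finite G]
    (hCI : ∀ S T : Sylow 2 G, S ≠ T → ∃ U : Sylow 2 G,
      (S : Subgroup G) ⊓ (T : Subgroup G) ≤ (Subgroup.center ↥(U : Subgroup G)).map (U : Subgroup G).subtype)
    (S : Sylow 2 G) :
    (∀ x ∈ (S : Subgroup G), ∀ P : Subgroup G, IsPGroup 2 ↥P → P ≤ Subgroup.centralizer ({x} : Set G) →
        Nat.card ↥P ≤ Nat.card ↥((S : Subgroup G) ⊓ Subgroup.centralizer ({x} : Set G))) ∧
    (∀ T : Sylow 2 G, T ≠ S →
        (S : Subgroup G) ⊓ (T : Subgroup G) ≤
          (Subgroup.center ↥(S : Subgroup G)).map (S : Subgroup G).subtype ⊓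
            (Subgroup.center ↥(T : Subgroup G)).map (T : Subgroup G).subtype) := by
  have : Fact (Nat.Prime 2) := ⟨Nat.prime_two⟩
  have hkey := fun S T hST => key hCI _ S T hST rfl
  constructor
  · intro x hx P hP hPC
    set C := Subgroup.centralizer ({x} : Set G) with hC
    by_cases hxZ : x ∈ (Subgroup.center ↥(S : Subgroup G)).map (S : Subgroup G).subtype
    · -- x central in S: C_S(x) = S
      have hSC : (S : Subgroup G) ≤ C := by
        intro s hs
        rw [hC, Subgroup.mem_centralizer_iff]
        intro y hy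
        rw [Set.mem_singleton_iff] at hy
        subst hy
        exact (((mem_ZG _ _).mp hxZ).2 s hs).symm
      rw [inf_eq_left.mpr hSC]
      obtain ⟨Q, hQ⟩ := hP.exists_le_sylow
      calc Nat.card P ≤ Nat.card (Q : Subgroup G) := Subgroup.card_le_of_le hQ
        _ = Nat.card (S : Subgroup G) := card_sylow_eq Q S
    · -- x not central in S
      set A := (S : Subgroup G) ⊓ C with hA
      have hAC : A ≤ C := inf_le_right
      have hAp : IsPGroup 2 A := S.2.to_le inf_le_left
      obtain ⟨c, hcC, R, hR, hRC, hPR, hAR⟩ := exists_conj_mem_common_pGroup C P A hPC hAC hP hAp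
      -- R lies in a Sylow subgroup S'
      obtain ⟨S', hS'⟩ := hR.exists_le_sylow
      -- S'' = c⁻¹ S' c contains A
      set S'' : Sylow 2 G := c⁻¹ • S' with hS''
      have hmemS'' : ∀ w : G, c * w * c⁻¹ ∈ (S' : Subgroup G) → w ∈ (S'' : Subgroup G) := by
        intro w hw
        rw [hS'', Sylow.coe_subgroup_smul]
        have := Subgroup.smul_mem_pointwise_smul _ (MulAut.conj c⁻¹) (S' : Subgroup G) hw
        have h2 : MulAut.conj c⁻¹ • (c * w * c⁻¹) = w := by
          simp [MulAut.smul_def, mul_assoc]
        rwa [h2] at this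
      have hAS'' : A ≤ (S'' : Subgroup G) := fun a ha => hmemS'' a (hS' (hAR a ha))
      have hxA : x ∈ A := by
        refine Subgroup.mem_inf.mpr ⟨hx, ?_⟩
        rw [hC, Subgroup.mem_centralizer_iff]
        intro y hy
        rw [Set.mem_singleton_iff] at hy
        rw [hy]
      have hSS'' : S'' = S := by
        by_contra hne
        have := hkey S S'' (Ne.symm hne)
        exact hxZ (this ⟨hx, hAS'' hxA⟩)
      -- c⁻¹ R c ≤ S ⊓ C
      have hcard : Nat.card R ≤ Nat.card A := by
        -- injection R → A, r ↦ c⁻¹ r c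
        have hmap : ∀ r ∈ R, c⁻¹ * r * c ∈ A := by
          intro r hr
          refine ⟨?_, ?_⟩
          · rw [← hSS'']
            apply hmemS''
            have : c * (c⁻¹ * r * c) * c⁻¹ = r := by group
            rw [this]; exact hS' hr
          · exact C.mul_mem (C.mul_mem (C.inv_mem hcC) (hRC hr)) hcC
        let f : R → A := fun r => ⟨c⁻¹ * r * c, hmap r r.2⟩
        have hf : Function.Injective f := by
          intro a b hab
          have := congrArg Subtype.val hab
          simp only [f] at this
          ext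
          exact mul_left_cancel (mul_right_cancel this)
        exact Nat.card_le_card_of_injective f hf
      exact le_trans (Subgroup.card_le_of_le hPR) hcard
  · intro T hT
    refine le_inf (hkey S T (Ne.symm hT)) ?_
    have := hkey T S hT
    rwa [inf_comm] at this

end Cfsg.Agent.S3183
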