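import Mathlib
import Cfsg.Statements.S3190
import Cfsg.Agent.Lib.Helper16.Conj
import Cfsg.Agent.Lib.Helper16.Center

set_option autoImplicit false
open Cfsg

namespace Cfsg.Agent.S3190

open Cfsg.Agent.Helper16

/-- Let p be an odd prime and, inside a finite group, let P be a p-subgroup normalized by a Klein four-group T. Let R be a subgroup of P, normal in P and normalized by T, such that P is the product of R with the centralizer of T in P. If T centralizes the centre of P, then T centralizes the centre of R. -/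
theorem result {X : Type*} [Group X] [Finite X]
    {p : ℕ} (hp : p.Prime) (hodd : Odd p) (P T R : Subgroup X) (hP : IsPGroup p ↥P) (hT : IsKleinFour ↥T)
    (hTP : T ≤ Subgroup.normalizer (P : Set X)) (hRP : R ≤ P) (hRn : (R.subgroupOf P).Normal)
    (hTR : T ≤ Subgroup.normalizer (R : Set X)) (hfac : R ⊔ (P ⊓ Subgroup.centralizer (T : Set X)) = P)
    (hZ : T ≤ Subgroup.centralizer (((Subgroup.center ↥P).map P.subtype : Subgroup X) : Set X)) :
    T ≤ Subgroup.centralizer (((Subgroup.center ↥R).map R.subtype : Subgroup X) : Set X) := by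
  have hpF : Fact p.Prime := ⟨hp⟩
  intro t ht
  rw [Subgroup.mem_centralizer_iff]
  intro z hz
  rw [SetLike.mem_coe] at hz
  have ht2 : t * t = 1 := by
    have h1 := Monoid.pow_exponent_eq_one (⟨t, ht⟩ : T)
    rw [hT.exponent_two] at h1
    have := congrArg (fun v : T => (v : X)) h1
    simpa [pow_two] using this
  have hPnR : P ≤ Subgroup.normalizer (R : Set X) :=
    (Subgroup.normal_subgroupOf_iff_le_normalizer hRP).1 hRn
  have hZ'R : (Subgroup.center R).map R.subtype ≤ R := by
    intro w hw; exact (mem_centerMap.1 hw).1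
  have hZ'comm : ∀ a ∈ (Subgroup.center R).map R.subtype,
      ∀ b ∈ (Subgroup.center R).map R.subtype, a * b = b * a := by
    intro a ha b hb
    exact (mem_centerMap.1 hb).2 a (hZ'R ha)
  let W : Subgroup X :=
    { carrier := {w | w ∈ (Subgroup.center R).map R.subtype ∧ t * w * t⁻¹ = w⁻¹}
      one_mem' := ⟨Subgroup.one_mem _, by simp⟩
      mul_mem' := by
        rintro a b ⟨ha, ha'⟩ ⟨hb, hb'⟩
        refine ⟨Subgroup.mul_mem _ ha hb, ?_⟩
        have : t * (a * b) * t⁻¹ = (t * a * t⁻¹) * (t * b * t⁻¹) := by group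
        rw [this, ha', hb', mul_inv_rev,
          hZ'comm _ (Subgroup.inv_mem _ ha) _ (Subgroup.inv_mem _ hb)]
      inv_mem' := by
        rintro a ⟨ha, ha'⟩
        refine ⟨Subgroup.inv_mem _ ha, ?_⟩
        have : t * a⁻¹ * t⁻¹ = (t * a * t⁻¹)⁻¹ := by group
        rw [this, ha'] }
  have hWmem : ∀ w, w ∈ W ↔ w ∈ (Subgroup.center R).map R.subtype ∧ t * w * t⁻¹ = w⁻¹ :=
    fun w => Iff.rfl
  have hWP : W ≤ P := fun w hw => hRP (hZ'R ((hWmem w).1 hw).1)
  have hRW : R ≤ Subgroup.normalizer (W : Set X) := by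
    intro r hr
    rw [mem_normalizer_iff_map_conj_eq]
    apply map_conj_eq_of_le
    rintro _ ⟨w, hw, rfl⟩
    have hw' := (hWmem w).1 hw
    have : (MulAut.conj r).toMonoidHom w = w := by
      simp only [MulEquiv.coe_toMonoidHom, MulAut.conj_apply]
      have := (mem_centerMap.1 hw'.1).2 r hr
      rw [this]; group
    rw [this]; exact hw
  have hCW : P ⊓ Subgroup.centralizer (T : Set X) ≤ Subgroup.normalizer (W : Set X) := by
    intro c hc
    rw [Subgroup.mem_inf] at hc
    obtain ⟨hcP, hcT⟩ := hc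
    rw [Subgroup.mem_centralizer_iff] at hcT
    have hct : t * c = c * t := hcT t ht
    rw [mem_normalizer_iff_map_conj_eq]
    apply map_conj_eq_of_le
    rintro _ ⟨w, hw, rfl⟩
    have hw' := (hWmem w).1 hw
    simp only [MulEquiv.coe_toMonoidHom, MulAut.conj_apply]
    rw [hWmem]
    refine ⟨conj_mem_centerMap (hPnR hcP) hw'.1, ?_⟩
    have hct' : t * c * t⁻¹ = c := by rw [hct]; group
    calc t * (c * w * c⁻¹) * t⁻¹
        = (t * c * t⁻¹) * (t * w * t⁻¹) * (t * c * t⁻¹)⁻¹ := by group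
      _ = c * w⁻¹ * c⁻¹ := by rw [hct', hw'.2]
      _ = (c * w * c⁻¹)⁻¹ := by group
  have hPW : P ≤ Subgroup.normalizer (W : Set X) := by
    rw [← hfac]; exact sup_le hRW hCW
  have hWn : (W.subgroupOf P).Normal :=
    (Subgroup.normal_subgroupOf_iff_le_normalizer hWP).2 hPW
  have hWbot : W.subgroupOf P = ⊥ := by
    by_contra hne
    obtain ⟨w, hwW, hwc, hw1⟩ := exists_mem_center_of_normal_ne_bot' hP (W.subgroupOf P) hne
    rw [Subgroup.mem_subgroupOf, hWmem] at hwW
    have hwZ : (w : X) ∈ (Subgroup.center P).map P.subtype := ⟨w, hwc, rfl⟩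
    have h1 := hZ ht
    rw [Subgroup.mem_centralizer_iff] at h1
    have h2 : (w : X) * t = t * (w : X) := h1 _ hwZ
    have h3 : t * (w : X) * t⁻¹ = (w : X)⁻¹ := hwW.2
    have h4 : (w : X) = (w : X)⁻¹ := by
      rw [← h3, ← h2]; group
    have h5 : (w : X) * (w : X) = 1 := by
      nth_rw 1 [h4]; group
    have h6 : w * w = 1 := Subtype.ext (by simpa using h5)
    exact hw1 (eq_one_of_mul_self_of_odd hodd hP h6)
  have hw : z⁻¹ * (t * z * t⁻¹) ∈ W := by
    rw [hWmem]
    refine ⟨Subgroup.mul_mem _ (Subgroup.inv_mem _ hz) (conj_mem_centerMap (hTR ht) hz), ?_⟩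
    calc t * (z⁻¹ * (t * z * t⁻¹)) * t⁻¹
        = (t * z * t⁻¹)⁻¹ * ((t * t) * z * (t * t)⁻¹) := by group
      _ = (t * z * t⁻¹)⁻¹ * z := by rw [ht2]; group
      _ = (z⁻¹ * (t * z * t⁻¹))⁻¹ := by group
  have hw1 : z⁻¹ * (t * z * t⁻¹) = 1 := by
    have : (⟨_, hWP hw⟩ : P) ∈ W.subgroupOf P := by
      rw [Subgroup.mem_subgroupOf]; exact hw
    rw [hWbot, Subgroup.mem_bot] at this
    exact congrArg (fun v : P => (v : X)) this
  have h7 : z = t * z * t⁻¹ := inv_mul_eq_one.1 hw1
  calc z * t = (t * z * t⁻¹) * t := by rw [← h7]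
    _ = t * z := by group

end Cfsg.Agent.S3190
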