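import Mathlib
import Cfsg.Statements.S3195
import Cfsg.Agent.Lib.Helper5.FourGroupO2

set_option autoImplicit false
open Cfsg

namespace Cfsg.Agent.S3195

open Cfsg.Agent.Helper5.FourGroupO2

/-- Let A be a Klein four-subgroup of a finite group G. If every G-conjugate of every involution of A commutes with some involution of A (its centralizer meets A nontrivially), then A meets the largest normal 2-subgroup O₂(G) nontrivially. -/
theorem result {G : Type*} [Group G] [Finite G]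
    (A : Subgroup G) (hA : IsKleinFour ↥A)
    (h : ∀ a ∈ A, a ≠ 1 → ∀ g : G, A ⊓ Subgroup.centralizer ({g * a * g⁻¹} : Set G) ≠ ⊥) :
    A ⊓ Cfsg.pCore 2 G ≠ ⊥ := by
  intro hbot
  haveI := hA
  have hmulself : ∀ x ∈ A, x * x = 1 := by
    intro x hx
    have h1 := IsKleinFour.mul_self (⟨x, hx⟩ : ↥A)
    exact congrArg Subtype.val h1
  have hcomm : ∀ x ∈ A, ∀ z ∈ A, Commute x z := by
    intro x hx z hz
    have h1 := hmulself (x * z) (A.mul_mem hx hz)
    show x * z = z * x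
    calc x * z = (x * z)⁻¹ := (inv_eq_self_of_sq h1).symm
      _ = z⁻¹ * x⁻¹ := mul_inv_rev x z
      _ = z * x := by rw [inv_eq_self_of_sq (hmulself z hz), inv_eq_self_of_sq (hmulself x hx)]
  have hcard : Nat.card ↥A = 4 := IsKleinFour.card_four
  -- a nonidentity element
  obtain ⟨a, ha, ha1⟩ : ∃ a ∈ A, a ≠ 1 := by
    by_contra hcon
    push_neg at hcon
    have : A = ⊥ := (Subgroup.eq_bot_iff_forall A).2 hcon
    rw [this, Subgroup.card_bot] at hcard
    omega
  have ha2 := hmulself a ha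
  -- a second one
  obtain ⟨b, hb, hbz⟩ : ∃ b ∈ A, b ∉ Subgroup.zpowers a := by
    by_contra hcon
    push_neg at hcon
    have hle : A ≤ Subgroup.zpowers a := hcon
    have heq : Subgroup.zpowers a = A := le_antisymm ((Subgroup.zpowers_le).2 ha) hle
    have hc2 : Nat.card ↥(Subgroup.zpowers a) = 2 := by
      rw [Nat.card_zpowers]
      haveI : Fact (Nat.Prime 2) := ⟨Nat.prime_two⟩
      exact orderOf_eq_prime (by rw [pow_two]; exact ha2) ha1
    rw [heq, hcard] at hc2
    omega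
  have hb1 : b ≠ 1 := fun hb1 => hbz (hb1 ▸ Subgroup.one_mem _)
  have hab : a ≠ b := fun hab => hbz (hab ▸ Subgroup.mem_zpowers a)
  have hb2 := hmulself b hb
  have hc : Commute a b := hcomm a ha b hb
  have hab1 : a * b ≠ 1 := by
    intro h1
    apply hab
    have : b = a⁻¹ := eq_inv_of_mul_eq_one_right h1
    rw [this, inv_eq_self_of_sq ha2]
  have hall : ∀ e ∈ A, e = 1 ∨ e = a ∨ e = b ∨ e = a * b := by
    intro e he
    by_cases h1 : e = 1
    · exact Or.inl h1
    by_cases h2 : e = a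
    · exact Or.inr (Or.inl h2)
    by_cases h3 : e = b
    · exact Or.inr (Or.inr (Or.inl h3))
    right; right; right
    have h4 := IsKleinFour.eq_mul_of_ne_all (G := ↥A) (x := ⟨a, ha⟩) (y := ⟨b, hb⟩) (z := ⟨e, he⟩)
      (fun h => ha1 (congrArg Subtype.val h)) (fun h => hb1 (congrArg Subtype.val h))
      (fun h => hab (congrArg Subtype.val h)) (fun h => h1 (congrArg Subtype.val h))
      (fun h => h2 (congrArg Subtype.val h)) (fun h => h3 (congrArg Subtype.val h))
    exact congrArg Subtype.val h4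
  have hnot : ∀ x ∈ A, x ≠ 1 → x ∉ Cfsg.pCore 2 G := fun x hx hx1 hxc =>
    hx1 ((Subgroup.eq_bot_iff_forall _).1 hbot x ⟨hx, hxc⟩)
  have hH : HypH a b := by
    rintro g₀ d ⟨g, x, hx, hd⟩
    have hxA : x ∈ A := by
      rcases hx with rfl | rfl | rfl
      exacts [ha, hb, A.mul_mem ha hb]
    have hx1 : x ≠ 1 := by
      rcases hx with rfl | rfl | rfl
      exacts [ha1, hb1, hab1]
    have hne := h x hxA hx1 (g₀⁻¹ * g)
    obtain ⟨e, he, he1⟩ : ∃ e ∈ A ⊓ Subgroup.centralizer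
        ({g₀⁻¹ * g * x * (g₀⁻¹ * g)⁻¹} : Set G), e ≠ 1 := by
      by_contra hcon
      push_neg at hcon
      exact hne ((Subgroup.eq_bot_iff_forall _).2 hcon)
    have heA : e ∈ A := he.1
    have heC : e ∈ Subgroup.centralizer ({g₀⁻¹ * g * x * (g₀⁻¹ * g)⁻¹} : Set G) := he.2
    rw [Subgroup.mem_centralizer_iff] at heC
    have hcomm1 : g₀⁻¹ * g * x * (g₀⁻¹ * g)⁻¹ * e = e * (g₀⁻¹ * g * x * (g₀⁻¹ * g)⁻¹) :=
      heC _ (Set.mem_singleton _)
    have key : Commute d (g₀ * e * g₀⁻¹) := by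
      show d * (g₀ * e * g₀⁻¹) = g₀ * e * g₀⁻¹ * d
      rw [hd]
      calc g * x * g⁻¹ * (g₀ * e * g₀⁻¹)
          = g₀ * (g₀⁻¹ * g * x * (g₀⁻¹ * g)⁻¹ * e) * g₀⁻¹ := by group
        _ = g₀ * (e * (g₀⁻¹ * g * x * (g₀⁻¹ * g)⁻¹)) * g₀⁻¹ := by rw [hcomm1]
        _ = g₀ * e * g₀⁻¹ * (g * x * g⁻¹) := by group
    rcases hall e heA with rfl | rfl | rfl | rfl
    · exact absurd rfl he1
    · exact Or.inl key
    · exact Or.inr (Or.inl key)
    · exact Or.inr (Or.inr key)
  -- witness for a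
  obtain ⟨g₁, ht, ht1⟩ := exists_odd_witness ha2 (hnot a ha ha1)
  obtain ⟨y, hy⟩ : ∃ y, y = g₁ * a * g₁⁻¹ := ⟨_, rfl⟩
  rw [← hy] at ht ht1
  have hy2 : y * y = 1 := by rw [hy]; exact conj_sq ha2
  have hyl := hH 1 y ⟨g₁, a, Or.inl rfl, hy⟩
  simp only [one_mul, inv_one, mul_one] at hyl
  rcases hyl with hya | hyb | hyc
  · exact ht1 (mul_eq_one_of_commute_invol ha2 hy2 hya.symm ht)
  · exact core ha2 hb2 hc hH ⟨g₁, hy⟩ ht ht1 hyb (hnot b hb hb1)
  · -- swap the roles of b and a * b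
    have hcA : a * b ∈ A := A.mul_mem ha hb
    have hc2 := hmulself (a * b) hcA
    have hcc : Commute a (a * b) := hcomm a ha (a * b) hcA
    have hacb : a * (a * b) = b := by rw [← mul_assoc, ha2, one_mul]
    have hH' : HypH a (a * b) := by
      rintro g₀ d ⟨g, x, hx, hd⟩
      rw [hacb] at hx ⊢
      have hx' : x = a ∨ x = b ∨ x = a * b := by
        rcases hx with h1 | h1 | h1
        · exact Or.inl h1
        · exact Or.inr (Or.inr h1)
        · exact Or.inr (Or.inl h1)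
      rcases hH g₀ d ⟨g, x, hx', hd⟩ with h1 | h1 | h1
      · exact Or.inl h1
      · exact Or.inr (Or.inr h1)
      · exact Or.inr (Or.inl h1)
    exact core ha2 hc2 hcc hH' ⟨g₁, hy⟩ ht ht1 hyc (hnot (a * b) hcA hab1)

end Cfsg.Agent.S3195
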