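import Mathlib
import Cfsg.Statements.S3196
import Cfsg.Agent.Lib.Helper5.PolarRad

set_option autoImplicit false
open Cfsg

namespace Cfsg.Agent.S3196

open Cfsg.Agent.Helper5.PolarRad

/-- Let p be a prime and K a set of subgroups of order p of a finite group G, closed under conjugation, such that at least two distinct members of K commute elementwise, and whenever two distinct members X, Y of K commute: every subgroup of order p of the group XY they generate belongs to K, and every member W of K has centralizer meeting XY nontrivially. Then some member V of K commutes elementwise with every member of K and lies in O_p(G); in particular G is not simple. -/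
theorem result {G : Type*} [Group G] [Finite G]
    {p : ℕ} (hp : p.Prime) (K : Set (Subgroup G)) (hK : ∀ X ∈ K, Nat.card ↥X = p)
    (hKc : ∀ X ∈ K, ∀ g : G, X.map (MulAut.conj g).toMonoidHom ∈ K)
    (hex : ∃ X ∈ K, ∃ Y ∈ K, X ≠ Y ∧ ∀ x ∈ X, ∀ y ∈ Y, x * y = y * x)
    (ha : ∀ X ∈ K, ∀ Y ∈ K, X ≠ Y → (∀ x ∈ X, ∀ y ∈ Y, x * y = y * x) →
      ∀ Z : Subgroup G, Z ≤ X ⊔ Y → Nat.card ↥Z = p → Z ∈ K)
    (hb : ∀ X ∈ K, ∀ Y ∈ K, X ≠ Y → (∀ x ∈ X, ∀ y ∈ Y, x * y = y * x) →
      ∀ W ∈ K, (X ⊔ Y) ⊓ Subgroup.centralizer (W : Set G) ≠ ⊥) :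
    (∃ V ∈ K, (∀ W ∈ K, ∀ v ∈ V, ∀ w ∈ W, v * w = w * v) ∧ V ≤ Cfsg.pCore p G) ∧ ¬ IsSimpleGroup G := by
  have H : Hyp p K :=
    { hp := hp
      hK := hK
      hKc := hKc
      ha := fun X hX Y hY hne h => ha X hX Y hY hne (perp_iff.1 h)
      hb := fun X hX Y hY hne h => hb X hX Y hY hne (perp_iff.1 h) }
  obtain ⟨X₀, hX₀, Y₀, hY₀, hne₀, hXY₀⟩ := hex
  obtain ⟨V, hV, hVrad⟩ := exists_radical H ⟨X₀, hX₀, Y₀, hY₀, hne₀, perp_iff.2 hXY₀⟩
  -- the subgroup generated by all members of `K`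
  obtain ⟨M, hM⟩ : ∃ M : Subgroup G, M = Subgroup.closure (⋃ W ∈ K, (W : Set G)) := ⟨_, rfl⟩
  have hWM : ∀ W ∈ K, W ≤ M := by
    intro W hW w hw
    rw [hM]
    exact Subgroup.subset_closure (Set.mem_biUnion hW hw)
  -- conjugates of V are in the radical as well
  have hconj_rad : ∀ g : G, ∀ W ∈ K, Perp (V.map (MulAut.conj g).toMonoidHom) W := by
    intro g W hW
    have hW' : W.map (MulAut.conj g⁻¹).toMonoidHom ∈ K := hKc W hW g⁻¹
    have h1 := hVrad _ hW'
    rw [perp_iff]
    intro a ha' w hw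
    rw [Subgroup.mem_map] at ha'
    obtain ⟨v, hv, rfl⟩ := ha'
    have hw' : g⁻¹ * w * g ∈ W.map (MulAut.conj g⁻¹).toMonoidHom :=
      Subgroup.mem_map.2 ⟨w, hw, by simp [MulAut.conj_apply]⟩
    have h2 : v * (g⁻¹ * w * g) = (g⁻¹ * w * g) * v := perp_iff.1 h1 v hv _ hw'
    show (MulAut.conj g) v * w = w * (MulAut.conj g) v
    simp only [MulAut.conj_apply]
    calc g * v * g⁻¹ * w = g * (v * (g⁻¹ * w * g)) * g⁻¹ := by group
      _ = g * ((g⁻¹ * w * g) * v) * g⁻¹ := by rw [h2]
      _ = w * (g * v * g⁻¹) := by group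
  -- the normal closure of V lies in M ⊓ centralizer M
  obtain ⟨N, hN⟩ : ∃ N : Subgroup G, N = Subgroup.normalClosure (V : Set G) := ⟨_, rfl⟩
  have hNnormal : N.Normal := by rw [hN]; exact Subgroup.normalClosure_normal
  have hVN : V ≤ N := by rw [hN]; exact Subgroup.le_normalClosure
  have hgen : ∀ a ∈ Group.conjugatesOfSet (V : Set G),
      a ∈ M ⊓ Subgroup.centralizer (M : Set G) ∧ a ^ p = 1 := by
    intro a ha'
    rw [Group.mem_conjugatesOfSet_iff] at ha'
    obtain ⟨v, hv, hva⟩ := ha'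
    rw [isConj_iff] at hva
    obtain ⟨g, rfl⟩ := hva
    have hmem : g * v * g⁻¹ ∈ V.map (MulAut.conj g).toMonoidHom :=
      Subgroup.mem_map.2 ⟨v, hv, by simp [MulAut.conj_apply]⟩
    have hVg : V.map (MulAut.conj g).toMonoidHom ∈ K := hKc V hV g
    refine ⟨⟨hWM _ hVg hmem, ?_⟩, ?_⟩
    · -- M ≤ centralizer {g v g⁻¹}
      have hle : M ≤ Subgroup.centralizer ({g * v * g⁻¹} : Set G) := by
        rw [hM, Subgroup.closure_le]
        intro w hw
        rw [Set.mem_iUnion₂] at hw
        obtain ⟨W, hW, hw⟩ := hw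
        have h1 := perp_iff.1 (hconj_rad g W hW) _ hmem w hw
        rw [SetLike.mem_coe, Subgroup.mem_centralizer_iff]
        intro y hy
        rw [Set.mem_singleton_iff] at hy
        rw [hy]
        exact h1
      show g * v * g⁻¹ ∈ Subgroup.centralizer (M : Set G)
      rw [Subgroup.mem_centralizer_iff]
      intro m hm
      have h2 := Subgroup.mem_centralizer_iff.1 (hle hm) (g * v * g⁻¹) (Set.mem_singleton _)
      exact h2.symm
    · rw [conj_pow, pow_eq_one_of_mem (hK V hV) hv]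
      group
  have hNle : N ≤ M ⊓ Subgroup.centralizer (M : Set G) := by
    rw [hN, Subgroup.normalClosure, Subgroup.closure_le]
    intro a ha'
    exact (hgen a ha').1
  have hNcomm : ∀ a ∈ N, ∀ b ∈ N, Commute a b := by
    intro a ha' b hb'
    have h1 := (hNle ha').2
    have h2 := (hNle hb').1
    exact (Subgroup.mem_centralizer_iff.1 h1 b h2).symm
  have hNpow : ∀ a ∈ N, a ^ p = 1 := by
    intro a ha'
    rw [hN, Subgroup.normalClosure] at ha'
    induction ha' using Subgroup.closure_induction with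
    | mem x hx => exact (hgen x hx).2
    | one => exact one_pow p
    | mul x y hx hy ihx ihy =>
      have hx' : x ∈ N := by rw [hN, Subgroup.normalClosure]; exact hx
      have hy' : y ∈ N := by rw [hN, Subgroup.normalClosure]; exact hy
      rw [(hNcomm x hx' y hy').mul_pow, ihx, ihy, one_mul]
    | inv x hx ihx => rw [inv_pow, ihx, inv_one]
  have hNp : IsPGroup p ↥N := by
    intro a
    refine ⟨1, ?_⟩
    rw [pow_one]
    apply Subtype.ext
    rw [Subgroup.coe_pow]
    exact hNpow a.1 a.2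
  have hNcore : N ≤ Cfsg.pCore p G := le_sSup ⟨hNnormal, hNp⟩
  refine ⟨⟨V, hV, fun W hW => perp_iff.1 (hVrad W hW), le_trans hVN hNcore⟩, ?_⟩
  intro hsimple
  have hVbot : V ≠ ⊥ := by
    intro h
    have := hK V hV
    rw [h, Subgroup.card_bot] at this
    exact hp.one_lt.ne this
  have hNtop : N = ⊤ := by
    rcases hNnormal.eq_bot_or_eq_top with h | h
    · exfalso
      apply hVbot
      rw [eq_bot_iff, ← h]
      exact hVN
    · exact h
  have hcommG : ∀ a b : G, a * b = b * a := by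
    intro a b
    exact (hNcomm a (hNtop ▸ Subgroup.mem_top a) b (hNtop ▸ Subgroup.mem_top b)).eq
  have hnorm : ∀ X : Subgroup G, X.Normal := by
    intro X
    refine ⟨fun n hn g => ?_⟩
    rw [hcommG g n, mul_assoc, mul_inv_cancel, mul_one]
    exact hn
  have htop : ∀ X ∈ K, X = ⊤ := by
    intro X hX
    rcases (hnorm X).eq_bot_or_eq_top with h | h
    · exfalso
      have := hK X hX
      rw [h, Subgroup.card_bot] at this
      exact hp.one_lt.ne this
    · exact h
  exact hne₀ ((htop X₀ hX₀).trans (htop Y₀ hY₀).symm)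

end Cfsg.Agent.S3196
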