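import Mathlib
import Cfsg.Statements.S3201
import Cfsg.Agent.Lib.Helper16.UniqueInvolution
import Cfsg.Agent.Lib.Helper21.PGroupFrattini

set_option autoImplicit false
open Cfsg

namespace Cfsg.Agent.S3201

open Cfsg.Agent.Helper16 Cfsg.Agent.Helper3

/-- Abstract splitting: a surjection `π` onto a generalized quaternion group with central kernel
`E` splits as soon as lifts `a`, `b` of the standard generators satisfy the quaternion relations
exactly. -/
theorem split_of_lift {S : Type*} [Group S] {N : ℕ} [NeZero N]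
    (π : S →* QuaternionGroup N) (a b : S) (ha : π a = QuaternionGroup.a 1)
    (hb : π b = QuaternionGroup.xa 0) (hx : a ^ (2 * N) = 1) (ht : b ^ 2 = a ^ N)
    (htx : b * a * b⁻¹ = a⁻¹) :
    ∃ f : QuaternionGroup N →* S, ∀ q, π (f q) = q := by
  have hne : NeZero (2 * N) := ⟨by have := NeZero.pos N; omega⟩
  refine ⟨quaternionLift a b hx ht htx, ?_⟩
  have hai : ∀ i : ZMod (2 * N), π (zmodPow a i) = QuaternionGroup.a i := by
    intro i
    unfold zmodPow
    rw [map_pow, ha, QuaternionGroup.a_one_pow, ZMod.natCast_zmod_val]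
  rintro (i | i)
  · exact hai i
  · show π (b * zmodPow a i) = QuaternionGroup.xa i
    rw [map_mul, hb, hai, QuaternionGroup.xa_mul_a, zero_add]

/-- Packaging: a split surjection with central kernel gives an internal direct product. -/
theorem direct_of_section {S Q : Type*} [Group S] [Group Q] (π : S →* Q) (f : Q →* S)
    (hsec : ∀ q, π (f q) = q) (hker : π.ker ≤ Subgroup.center S) :
    Cfsg.IsInternalDirectProduct π.ker f.range ⊤ := by
  refine ⟨le_top, le_top, ?_, ?_, ?_⟩
  · intro x hx y _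
    exact ((Subgroup.mem_center_iff.1 (hker hx)) y).symm
  · rw [eq_bot_iff]
    rintro x ⟨hx1, ⟨q, rfl⟩⟩
    have hx2 : f q ∈ π.ker := hx1
    rw [MonoidHom.mem_ker, hsec] at hx2
    rw [hx2, map_one]
    exact Subgroup.mem_bot.2 rfl
  · rw [eq_top_iff]
    intro x _
    have h1 : x * (f (π x))⁻¹ ∈ π.ker := by
      rw [MonoidHom.mem_ker, map_mul, map_inv, hsec, mul_inv_cancel]
    have h2 : x = x * (f (π x))⁻¹ * f (π x) := by group
    rw [h2]
    exact Subgroup.mul_mem _ (Subgroup.mem_sup_left h1) (Subgroup.mem_sup_right ⟨_, rfl⟩)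

/-- Let S be a finite 2-group whose centre Z(S) has n ≥ 2 distinct maximal subgroups C₁, …, Cₙ with trivial intersection such that each quotient S/Cᵢ is a non-abelian group with exactly one involution (a generalized quaternion group). Then S is the internal direct product of an elementary abelian subgroup and a non-abelian subgroup with exactly one involution. -/
theorem result {S : Type*} [Group S] [Finite S]
    (hS : IsPGroup 2 S) (n : ℕ) (hn : 2 ≤ n) (C : Fin n → Subgroup ↥(Subgroup.center S))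
    (hCmax : ∀ i, IsCoatom (C i)) (hCinj : Function.Injective C) (hCint : ⨅ i, C i = ⊥)
    (hCq : ∀ i, ∃ (_ : ((C i).map (Subgroup.center S).subtype).Normal),
      ¬ IsMulCommutative (S ⧸ (C i).map (Subgroup.center S).subtype) ∧
      ∃! x : S ⧸ (C i).map (Subgroup.center S).subtype, orderOf x = 2) :
    ∃ E Q : Subgroup S, Cfsg.IsInternalDirectProduct E Q ⊤ ∧ Cfsg.IsElementaryAbelian 2 E ∧
      ¬ IsMulCommutative ↥Q ∧ ∃! x : ↥Q, orderOf x = 2 := by
  have hF : Fact (Nat.Prime 2) := ⟨Nat.prime_two⟩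
  have hZ2 : IsPGroup 2 (Subgroup.center S) := hS.to_subgroup _
  -- F1
  have hidx : ∀ i, (C i).index = 2 := fun i =>
    Cfsg.Agent.Helper21.coatom_index_of_isPGroup hZ2 (C i) (hCmax i)
  -- F2
  have hZsq : ∀ w ∈ Subgroup.center S, w ^ 2 = 1 := by
    intro w hw
    have h1 : (⟨w, hw⟩ : Subgroup.center S) ^ 2 ∈ ⨅ i, C i := by
      rw [Subgroup.mem_iInf]
      intro i
      exact Subgroup.sq_mem_of_index_two (hidx i) _
    rw [hCint, Subgroup.mem_bot] at h1
    have := congrArg Subtype.val h1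
    simpa using this
  -- F3
  have hmemC : ∀ i (x : S) (hx : x ∈ Subgroup.center S),
      x ∈ (C i).map (Subgroup.center S).subtype ↔ (⟨x, hx⟩ : Subgroup.center S) ∈ C i := by
    intro i x hx
    constructor
    · rintro ⟨y, hy, hyx⟩
      have : y = ⟨x, hx⟩ := Subtype.ext hyx
      rw [← this]; exact hy
    · intro h
      exact ⟨⟨x, hx⟩, h, rfl⟩
  -- F4
  have hCZ : ∀ i, (C i).map (Subgroup.center S).subtype ≤ Subgroup.center S :=
    fun i => Subgroup.map_subtype_le _
  -- elements in all C' i are trivial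
  have hall : ∀ x : S, (∀ i, x ∈ (C i).map (Subgroup.center S).subtype) → x = 1 := by
    intro x hx
    have hn0 : 0 < n := by omega
    have hxZ : x ∈ Subgroup.center S := hCZ ⟨0, hn0⟩ (hx _)
    have h1 : (⟨x, hxZ⟩ : Subgroup.center S) ∈ ⨅ i, C i := by
      rw [Subgroup.mem_iInf]
      intro i
      exact (hmemC i x hxZ).1 (hx i)
    rw [hCint, Subgroup.mem_bot] at h1
    exact congrArg Subtype.val h1
  -- F5
  have hP : ∀ i (x : S), x ^ 2 ∈ (C i).map (Subgroup.center S).subtype →
      x ∈ Subgroup.center S := by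
    intro i x hx
    obtain ⟨hN, -, x₀, hx₀, huniq⟩ := hCq i
    obtain ⟨w, hw⟩ : ∃ w : Subgroup.center S, w ∉ C i := by
      by_contra hcon
      push Not at hcon
      exact (hCmax i).1 (eq_top_iff.2 fun w _ => hcon w)
    have hw' : (w : S) ∉ (C i).map (Subgroup.center S).subtype := by
      intro h
      exact hw ((hmemC i w w.2).1 h)
    have hinvol : ∀ y : S, y ^ 2 ∈ (C i).map (Subgroup.center S).subtype →
        y ∉ (C i).map (Subgroup.center S).subtype →
        (QuotientGroup.mk y : S ⧸ (C i).map (Subgroup.center S).subtype) = x₀ := by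
      intro y hy2 hy
      apply huniq
      apply orderOf_eq_prime
      · rw [← QuotientGroup.mk_pow]
        exact (QuotientGroup.eq_one_iff _).2 hy2
      · intro h
        exact hy ((QuotientGroup.eq_one_iff _).1 h)
    by_cases hxC : x ∈ (C i).map (Subgroup.center S).subtype
    · exact hCZ i hxC
    · have h1 := hinvol x hx hxC
      have h2 := hinvol w (by rw [hZsq w w.2]; exact Subgroup.one_mem _) hw'
      have h3 : (QuotientGroup.mk (w : S) : S ⧸ (C i).map (Subgroup.center S).subtype)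
          = QuotientGroup.mk x := by rw [h1, h2]
      have h4 : (w : S)⁻¹ * x ∈ (C i).map (Subgroup.center S).subtype := QuotientGroup.eq.1 h3
      have h5 : x = (w : S) * ((w : S)⁻¹ * x) := by group
      rw [h5]
      exact Subgroup.mul_mem _ w.2 (hCZ i h4)
  -- F6
  have hcoset : ∀ i (u v : S), u ∈ Subgroup.center S → v ∈ Subgroup.center S →
      u ∉ (C i).map (Subgroup.center S).subtype → u * v ∉ (C i).map (Subgroup.center S).subtype →
      v ∈ (C i).map (Subgroup.center S).subtype := by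
    intro i u v hu hv hun huvn
    rw [hmemC i v hv]
    rw [hmemC i u hu] at hun
    rw [hmemC i (u * v) (Subgroup.mul_mem _ hu hv)] at huvn
    have h1 := Subgroup.mul_mem_iff_of_index_two (hidx i) (a := ⟨u, hu⟩) (b := ⟨v, hv⟩)
    by_contra hvn
    apply huvn
    have : (⟨u, hu⟩ : Subgroup.center S) * ⟨v, hv⟩ ∈ C i := h1.2 ⟨fun h => absurd h hun,
      fun h => absurd h hvn⟩
    exact this
  -- the first quotient is generalized quaternion
  have hn0 : 0 < n := by omega
  obtain ⟨hN, hna, x₀, hx₀, huniq⟩ := hCq ⟨0, hn0⟩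
  have hQ2 : IsPGroup 2 (S ⧸ (C ⟨0, hn0⟩).map (Subgroup.center S).subtype) := hS.to_quotient _
  have hu : UniqueOrderP 2 (S ⧸ (C ⟨0, hn0⟩).map (Subgroup.center S).subtype) := by
    intro x y hx hy
    rw [huniq y hy, ← huniq x hx]
    exact Subgroup.mem_zpowers x
  rcases cyclic_or_quaternion_of_uniqueOrderP_two hQ2 hu with hcyc | ⟨k, ⟨e⟩⟩
  · exfalso
    exact hna IsCyclic.isMulCommutative
  -- k ≥ 1
  have hk : 1 ≤ k := by
    by_contra hk0
    have hk0' : k = 0 := by omega
    subst hk0'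
    apply hna
    have hc : IsCyclic (QuaternionGroup (2 ^ 0)) := by
      rw [pow_zero]; exact QuaternionGroup.quaternionGroup_one_isCyclic
    have : IsCyclic (S ⧸ (C ⟨0, hn0⟩).map (Subgroup.center S).subtype) :=
      isCyclic_of_surjective e.symm e.symm.surjective
    exact IsCyclic.isMulCommutative
  have hneN : NeZero (2 ^ k) := ⟨by positivity⟩
  have hne2N : NeZero (2 * 2 ^ k) := ⟨by positivity⟩
  set π : S →* QuaternionGroup (2 ^ k) :=
    e.toMonoidHom.comp (QuotientGroup.mk' ((C ⟨0, hn0⟩).map (Subgroup.center S).subtype)) with hπ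
  have hπker : ∀ x : S, π x = 1 ↔ x ∈ (C ⟨0, hn0⟩).map (Subgroup.center S).subtype := by
    intro x
    rw [hπ, MonoidHom.comp_apply, MulEquiv.coe_toMonoidHom, MulEquiv.map_eq_one_iff,
      QuotientGroup.mk'_apply, QuotientGroup.eq_one_iff]
  have hπsurj : Function.Surjective π := by
    rw [hπ]
    exact e.surjective.comp (QuotientGroup.mk'_surjective _)
  obtain ⟨a, ha⟩ := hπsurj (QuaternionGroup.a 1)
  obtain ⟨b, hb⟩ := hπsurj (QuaternionGroup.xa 0)
  -- the central involution a N of the quaternion group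
  have haN1 : (QuaternionGroup.a ((2 ^ k : ℕ) : ZMod (2 * 2 ^ k)) : QuaternionGroup (2 ^ k)) ≠ 1 := by
    rw [QuaternionGroup.one_def]
    intro h
    have h1 := QuaternionGroup.a.inj h
    have h2 : ((2 ^ k : ℕ) : ZMod (2 * 2 ^ k)) = 0 := h1
    rw [ZMod.natCast_eq_zero_iff] at h2
    have h3 := Nat.le_of_dvd (by positivity) h2
    have : 0 < 2 ^ k := by positivity
    omega
  have hπz : π (a ^ 2 ^ k) = QuaternionGroup.a ((2 ^ k : ℕ) : ZMod (2 * 2 ^ k)) := by
    rw [map_pow, ha, QuaternionGroup.a_one_pow]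
  have hπb2 : π (b ^ 2) = QuaternionGroup.a ((2 ^ k : ℕ) : ZMod (2 * 2 ^ k)) := by
    rw [map_pow, hb, QuaternionGroup.xa_sq]
  have haN2 : (QuaternionGroup.a ((2 ^ k : ℕ) : ZMod (2 * 2 ^ k)) : QuaternionGroup (2 ^ k)) ^ 2
      = 1 := by
    rw [pow_two, QuaternionGroup.a_mul_a, QuaternionGroup.one_def]
    congr 1
    rw [← Nat.cast_add, ← two_mul]
    exact ZMod.natCast_self _
  -- z is a central involution outside every C' i
  have hz2C : (a ^ 2 ^ k) ^ 2 ∈ (C ⟨0, hn0⟩).map (Subgroup.center S).subtype := by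
    rw [← hπker, map_pow, hπz, haN2]
  have hzZ : a ^ 2 ^ k ∈ Subgroup.center S := hP _ _ hz2C
  have hz2 : (a ^ 2 ^ k) ^ 2 = 1 := hZsq _ hzZ
  have hz1 : a ^ 2 ^ k ≠ 1 := by
    intro h
    rw [h, map_one] at hπz
    exact haN1 hπz.symm
  have hznot : ∀ i, a ^ 2 ^ k ∉ (C i).map (Subgroup.center S).subtype := by
    intro i hzi
    have h1 : (a ^ 2 ^ (k - 1)) ^ 2 = a ^ 2 ^ k := by
      rw [← pow_mul, ← pow_succ]; congr 2; omega
    have h2 : a ^ 2 ^ (k - 1) ∈ Subgroup.center S := hP i _ (by rw [h1]; exact hzi)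
    have h3 := hZsq _ h2
    rw [h1] at h3
    exact hz1 h3
  -- b^2 = z
  have hb2 : b ^ 2 = a ^ 2 ^ k := by
    have hc1 : (a ^ 2 ^ k)⁻¹ * b ^ 2 ∈ (C ⟨0, hn0⟩).map (Subgroup.center S).subtype := by
      rw [← hπker, map_mul, map_inv, hπz, hπb2, inv_mul_cancel]
    have hc1Z : (a ^ 2 ^ k)⁻¹ * b ^ 2 ∈ Subgroup.center S := hCZ _ hc1
    have hb2ne : b ^ 2 ≠ 1 := by
      intro h
      rw [h, map_one] at hπb2
      exact haN1 hπb2.symm
    have hb2not : ∀ i, b ^ 2 ∉ (C i).map (Subgroup.center S).subtype := by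
      intro i hbi
      have h1 := hZsq _ (hP i b hbi)
      exact hb2ne h1
    have h1 : (a ^ 2 ^ k)⁻¹ * b ^ 2 = 1 := by
      apply hall
      intro i
      apply hcoset i (a ^ 2 ^ k) _ hzZ hc1Z (hznot i)
      rw [mul_inv_cancel_left]
      exact hb2not i
    rw [inv_mul_eq_one] at h1
    exact h1.symm
  -- b inverts a
  have hbab : b * a * b⁻¹ = a⁻¹ := by
    have hc3 : b * a * b⁻¹ * a ∈ (C ⟨0, hn0⟩).map (Subgroup.center S).subtype := by
      rw [← hπker, map_mul, map_mul, map_mul, map_inv, ha, hb,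
        mul_eq_one_iff_eq_inv, mul_inv_eq_iff_eq_mul, eq_comm, inv_mul_eq_iff_eq_mul,
        QuaternionGroup.xa_mul_a, QuaternionGroup.a_mul_xa]
      simp
    have hc3Z : b * a * b⁻¹ * a ∈ Subgroup.center S := hCZ _ hc3
    have hba2 : (b * a) ^ 2 = a ^ 2 ^ k * (b * a * b⁻¹ * a) := by
      have h1 : (b * a) ^ 2 = (b * a * b⁻¹) * b ^ 2 * a := by rw [pow_two, pow_two]; group
      rw [h1, hb2]
      have h2 := (Subgroup.mem_center_iff.1 hzZ) (b * a * b⁻¹)
      rw [h2]; group
    have hπba : π ((b * a) ^ 2) = QuaternionGroup.a ((2 ^ k : ℕ) : ZMod (2 * 2 ^ k)) := by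
      rw [map_pow, map_mul, ha, hb, QuaternionGroup.xa_mul_a, QuaternionGroup.xa_sq]
    have hba2ne : (b * a) ^ 2 ≠ 1 := by
      intro h
      rw [h, map_one] at hπba
      exact haN1 hπba.symm
    have hba2not : ∀ i, (b * a) ^ 2 ∉ (C i).map (Subgroup.center S).subtype := by
      intro i hbi
      have h1 := hZsq _ (hP i (b * a) hbi)
      exact hba2ne h1
    have h1 : b * a * b⁻¹ * a = 1 := by
      apply hall
      intro i
      apply hcoset i (a ^ 2 ^ k) _ hzZ hc3Z (hznot i)
      rw [← hba2]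
      exact hba2not i
    exact mul_eq_one_iff_eq_inv.1 h1
  have hx : a ^ (2 * 2 ^ k) = 1 := by
    rw [mul_comm, pow_mul]; exact hz2
  obtain ⟨f, hsec⟩ := split_of_lift π a b ha hb hx hb2 hbab
  have hkerC : π.ker = (C ⟨0, hn0⟩).map (Subgroup.center S).subtype := by
    ext x
    rw [MonoidHom.mem_ker, hπker]
  have hkerZ : π.ker ≤ Subgroup.center S := by rw [hkerC]; exact hCZ _
  have hfinj : Function.Injective f := by
    intro q₁ q₂ h
    have := congrArg π h
    rwa [hsec, hsec] at this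
  refine ⟨π.ker, f.range, direct_of_section π f hsec hkerZ, ⟨?_, ?_⟩, ?_, ?_⟩
  · rw [isMulCommutative_iff]
    intro x y
    apply Subtype.ext
    exact ((Subgroup.mem_center_iff.1 (hkerZ x.2)) y).symm
  · intro x hx
    exact hZsq x (hkerZ hx)
  · intro hcomm
    apply hna
    rw [isMulCommutative_iff]
    intro x y
    apply e.injective
    rw [map_mul, map_mul]
    have h1 := hcomm.is_comm.comm (⟨f (e x), ⟨_, rfl⟩⟩ : f.range) ⟨f (e y), ⟨_, rfl⟩⟩
    have h2 : f (e x) * f (e y) = f (e y) * f (e x) := congrArg Subtype.val h1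
    have h3 := congrArg π h2
    rwa [map_mul, map_mul, hsec, hsec] at h3
  · have hord : ∀ q : QuaternionGroup (2 ^ k), orderOf (f q) = orderOf q :=
      fun q => orderOf_injective f hfinj q
    have hqN : ∀ q : QuaternionGroup (2 ^ k), orderOf q = 2 →
        q = QuaternionGroup.a ((2 ^ k : ℕ) : ZMod (2 * 2 ^ k)) := by
      intro q hq
      have h1 : orderOf (e.symm q) = 2 := by rw [MulEquiv.orderOf_eq, hq]
      have h2 : orderOf (e.symm (QuaternionGroup.a ((2 ^ k : ℕ) : ZMod (2 * 2 ^ k)))) = 2 := by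
        rw [MulEquiv.orderOf_eq]
        exact orderOf_eq_prime haN2 haN1
      have h3 := (huniq _ h1).trans (huniq _ h2).symm
      exact e.symm.injective h3
    refine ⟨⟨f (QuaternionGroup.a ((2 ^ k : ℕ) : ZMod (2 * 2 ^ k))), ⟨_, rfl⟩⟩, ?_, ?_⟩
    · show orderOf (⟨f (QuaternionGroup.a ((2 ^ k : ℕ) : ZMod (2 * 2 ^ k))), _⟩ : f.range) = 2
      rw [← Subgroup.orderOf_coe, hord]
      exact orderOf_eq_prime haN2 haN1
    · rintro ⟨y, ⟨q, rfl⟩⟩ hy
      have hy' : orderOf (f q) = 2 := by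
        rw [← Subgroup.orderOf_coe] at hy
        exact hy
      rw [hord] at hy'
      apply Subtype.ext
      show f q = f _
      rw [hqN q hy']

end Cfsg.Agent.S3201
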