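import Mathlib
import Cfsg.Statements.S3202
import Cfsg.Agent.Lib.Helper16.UniqueInvolution
import Cfsg.Agent.Lib.Helper16.QuatCentralExt
import Cfsg.Agent.Lib.Helper16.QuatNormal

set_option autoImplicit false
open Cfsg

namespace Cfsg.Agent.S3202

open Cfsg.Agent.Helper16

/-- Let S be a finite 2-group of 2-rank exactly 2 and D a maximal subgroup of the centre of S such that S/D is a non-abelian group with exactly one involution (a generalized quaternion group). Then S has a nontrivial cyclic characteristic subgroup. -/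
theorem result {S : Type*} [Group S]
    [Finite S] (hS : IsPGroup 2 S) (hr2 : Cfsg.PRankLE 2 2 S) (hr1 : ¬ Cfsg.PRankLE 2 1 S)
    (D : Subgroup ↥(Subgroup.center S)) (hD : IsCoatom D)
    (hq : ∃ (_ : (D.map (Subgroup.center S).subtype).Normal),
      ¬ IsMulCommutative (S ⧸ D.map (Subgroup.center S).subtype) ∧
      ∃! x : S ⧸ D.map (Subgroup.center S).subtype, orderOf x = 2) :
    ∃ C : Subgroup S, C ≠ ⊥ ∧ IsCyclic ↥C ∧ C.Characteristic := by
  obtain ⟨hN, hna, x0, hx0, hx0u⟩ := hq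
  have hD₀ : D.map (Subgroup.center S).subtype ≤ Subgroup.center S := Subgroup.map_subtype_le _
  generalize D.map (Subgroup.center S).subtype = D₀ at hN hna x0 hx0 hx0u hD₀
  have hQ2 : IsPGroup 2 (S ⧸ D₀) := hS.to_quotient D₀
  have hu : UniqueOrderP 2 (S ⧸ D₀) := by
    intro x y hx hy
    rw [hx0u y hy, ← hx0u x hx]
    exact Subgroup.mem_zpowers x
  rcases cyclic_or_quaternion_of_uniqueOrderP_two hQ2 hu with hcyc | ⟨n, ⟨e⟩⟩
  · exfalso
    exact hna IsCyclic.isMulCommutative
  have hne : NeZero (2 * 2 ^ n) := ⟨by positivity⟩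
  obtain ⟨a, ha⟩ := QuotientGroup.mk'_surjective D₀ (e.symm (QuaternionGroup.a 1))
  obtain ⟨b, hb⟩ := QuotientGroup.mk'_surjective D₀ (e.symm (QuaternionGroup.xa 0))
  have hea : e (QuotientGroup.mk' D₀ a) = QuaternionGroup.a 1 := by rw [ha, e.apply_symm_apply]
  have heb : e (QuotientGroup.mk' D₀ b) = QuaternionGroup.xa 0 := by rw [hb, e.apply_symm_apply]
  have hinv : b * a * b⁻¹ * a ∈ D₀ := by
    rw [← QuotientGroup.eq_one_iff]
    apply e.injective
    have : ((b * a * b⁻¹ * a : S) : S ⧸ D₀) = QuotientGroup.mk' D₀ b * QuotientGroup.mk' D₀ a *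
        (QuotientGroup.mk' D₀ b)⁻¹ * QuotientGroup.mk' D₀ a := by
      simp
    rw [this, map_mul, map_mul, map_mul, map_inv, hea, heb, map_one,
      mul_eq_one_iff_eq_inv, mul_inv_eq_iff_eq_mul, eq_comm, inv_mul_eq_iff_eq_mul,
      QuaternionGroup.xa_mul_a, QuaternionGroup.a_mul_xa]
    simp
  have hgen : Subgroup.closure ({a, b} ∪ (D₀ : Set S)) = ⊤ := by
    rw [eq_top_iff]
    intro x _
    have haC : a ∈ Subgroup.closure ({a, b} ∪ (D₀ : Set S)) :=
      Subgroup.subset_closure (Or.inl (Or.inl rfl))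
    have hbC : b ∈ Subgroup.closure ({a, b} ∪ (D₀ : Set S)) :=
      Subgroup.subset_closure (Or.inl (Or.inr rfl))
    have hDC : ∀ d ∈ D₀, d ∈ Subgroup.closure ({a, b} ∪ (D₀ : Set S)) :=
      fun d hd => Subgroup.subset_closure (Or.inr hd)
    have hai : ∀ i : ZMod (2 * 2 ^ n), e (QuotientGroup.mk' D₀ (a ^ i.val)) = QuaternionGroup.a i := by
      intro i
      rw [map_pow, map_pow, hea, QuaternionGroup.a_one_pow, ZMod.natCast_zmod_val]
    rcases hq : e (QuotientGroup.mk' D₀ x) with i | i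
    · have h1 : QuotientGroup.mk' D₀ x = QuotientGroup.mk' D₀ (a ^ i.val) :=
        e.injective (by rw [hq, hai])
      have h2 : (a ^ i.val)⁻¹ * x ∈ D₀ := QuotientGroup.eq.1 h1.symm
      have h3 : x = a ^ i.val * ((a ^ i.val)⁻¹ * x) := by group
      rw [h3]
      exact Subgroup.mul_mem _ (Subgroup.pow_mem _ haC _) (hDC _ h2)
    · have h1 : QuotientGroup.mk' D₀ x = QuotientGroup.mk' D₀ (b * a ^ i.val) := by
        apply e.injective
        rw [hq, map_mul, map_mul, heb, hai, QuaternionGroup.xa_mul_a, zero_add]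
      have h2 : (b * a ^ i.val)⁻¹ * x ∈ D₀ := QuotientGroup.eq.1 h1.symm
      have h3 : x = b * a ^ i.val * ((b * a ^ i.val)⁻¹ * x) := by group
      rw [h3]
      exact Subgroup.mul_mem _ (Subgroup.mul_mem _ hbC (Subgroup.pow_mem _ haC _)) (hDC _ h2)
  have hle := commutator_le_zpowers_of_inverting a b D₀ hD₀ hgen hinv
  refine ⟨commutator S, ?_, isCyclic_of_le' hle inferInstance, inferInstance⟩
  intro hbot
  apply hna
  rw [Subgroup.Normal.quotient_commutative_iff_commutator_le, hbot]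
  exact bot_le

end Cfsg.Agent.S3202
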