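import Mathlib
import Cfsg.Statements.S3203
import Cfsg.Agent.Lib.Helper16.Basic
import Cfsg.Agent.Lib.Helper16.Conj

set_option autoImplicit false
open Cfsg

namespace Cfsg.Agent.S3203

open Cfsg.Agent.Helper16

/-- elementary abelian 2-subgroup, elementwise form -/
def EAG {G : Type*} [Group G] (E : Subgroup G) : Prop :=
  (∀ x ∈ E, ∀ y ∈ E, x * y = y * x) ∧ ∀ x ∈ E, x ^ 2 = 1

theorem EAG.map_conj {G : Type*} [Group G] {E : Subgroup G} (h : EAG E) (g : G) :
    EAG (E.map (MulAut.conj g).toMonoidHom) := by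
  constructor
  · rintro _ ⟨x, hx, rfl⟩ _ ⟨y, hy, rfl⟩
    rw [← map_mul, ← map_mul, h.1 x hx y hy]
  · rintro _ ⟨x, hx, rfl⟩
    rw [← map_pow, h.2 x hx, map_one]

theorem EAG.isPGroup {G : Type*} [Group G] {E : Subgroup G} (h : EAG E) : IsPGroup 2 E := by
  intro x
  refine ⟨1, ?_⟩
  ext
  simpa using h.2 x x.2

theorem S_normalizes {G : Type*} [Group G] [Finite G] (S : Subgroup G) (A B : Subgroup G)
    (hAS : A ≤ S) (hBS : B ≤ S) (hAB : A ≠ B)
    (hAe : EAG A) (hBe : EAG B)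
    (hAmax : ∀ E : Subgroup G, E ≤ S → EAG E → A ≤ E → E = A)
    (hcover : ∀ E : Subgroup G, E ≤ S → EAG E → E ≤ A ∨ E ≤ B)
    (hprod : ∀ s ∈ S, ∃ a ∈ A, ∃ b ∈ B, a * b = s) :
    ∀ s ∈ S, A.map (MulAut.conj s).toMonoidHom = A := by
  have hb : ∀ b ∈ B, A.map (MulAut.conj b).toMonoidHom = A := by
    intro b hb
    have hle : A.map (MulAut.conj b).toMonoidHom ≤ S := by
      intro x hx
      rw [mem_map_conj] at hx
      have : x = b * (b⁻¹ * x * b) * b⁻¹ := by group
      rw [this]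
      exact S.mul_mem (S.mul_mem (hBS hb) (hAS hx)) (S.inv_mem (hBS hb))
    rcases hcover _ hle (hAe.map_conj b) with h | h
    · exact map_conj_eq_of_le h
    · exfalso
      have : A ≤ B := by
        have h2 := Subgroup.map_mono (f := (MulAut.conj b⁻¹).toMonoidHom) h
        rw [map_conj_inv_map_conj, map_conj_eq_of_mem (B.inv_mem hb)] at h2
        exact h2
      exact hAB (hAmax B hBS hBe this).symm
  intro s hs
  obtain ⟨a, ha, b, hb', rfl⟩ := hprod s hs
  rw [map_conj_mul, hb b hb', map_conj_eq_of_mem ha]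

theorem wc_aux {G : Type*} [Group G] [Finite G] (S : Sylow 2 G) (A B : Subgroup G)
    (hAS : A ≤ S) (hBS : B ≤ S) (hAB : A ≠ B)
    (hAe : EAG A) (hBe : EAG B)
    (hAmax : ∀ E : Subgroup G, E ≤ S → EAG E → A ≤ E → E = A)
    (hBmax : ∀ E : Subgroup G, E ≤ S → EAG E → B ≤ E → E = B)
    (hcover : ∀ E : Subgroup G, E ≤ S → EAG E → E ≤ A ∨ E ≤ B)
    (hprod : ∀ s ∈ (S : Subgroup G), ∃ a ∈ A, ∃ b ∈ B, a * b = s)
    (g : G) (hg : A.map (MulAut.conj g).toMonoidHom ≤ S) :
    A.map (MulAut.conj g).toMonoidHom = A := by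
  by_contra hne
  have hNA := S_normalizes (S : Subgroup G) A B hAS hBS hAB hAe hBe hAmax hcover hprod
  have hprod' : ∀ s ∈ (S : Subgroup G), ∃ b ∈ B, ∃ a ∈ A, b * a = s := by
    intro s hs
    obtain ⟨a, ha, b, hb, h⟩ := hprod s⁻¹ (inv_mem hs)
    refine ⟨b⁻¹, B.inv_mem hb, a⁻¹, A.inv_mem ha, ?_⟩
    rw [← mul_inv_rev, h, inv_inv]
  have hcover' : ∀ E : Subgroup G, E ≤ S → EAG E → E ≤ B ∨ E ≤ A :=
    fun E h1 h2 => (hcover E h1 h2).symm
  have hNB := S_normalizes (S : Subgroup G) B A hBS hAS hAB.symm hBe hAe hBmax hcover' hprod'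
  -- step (3a)
  have hgB : A.map (MulAut.conj g).toMonoidHom ≤ B := by
    rcases hcover _ hg (hAe.map_conj g) with h | h
    · exact absurd (map_conj_eq_of_le h) hne
    · exact h
  set Q := B.map (MulAut.conj g⁻¹).toMonoidHom with hQ
  have hAQ : A ≤ Q := by
    have h2 := Subgroup.map_mono (f := (MulAut.conj g⁻¹).toMonoidHom) hgB
    rwa [map_conj_inv_map_conj] at h2
  have hQe : EAG Q := hBe.map_conj g⁻¹
  have hQN : Q ≤ Subgroup.normalizer (A : Set G) := by
    intro q hq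
    rw [Subgroup.mem_normalizer_iff]
    intro a
    constructor
    · intro ha
      have : q * a * q⁻¹ = a := by
        rw [hQe.1 q hq a (hAQ ha)]; group
      rwa [this]
    · intro ha
      have h1 : q * a * q⁻¹ ∈ Q := hAQ ha
      have h2 : a = q⁻¹ * (q * a * q⁻¹) * q := by group
      have h3 : q⁻¹ * (q * a * q⁻¹) * q = q * a * q⁻¹ := by
        rw [hQe.1 q⁻¹ (Q.inv_mem hq) _ h1]; group
      rw [h2, h3]; exact ha
  have hSN : (S : Subgroup G) ≤ Subgroup.normalizer (A : Set G) := by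
    intro s hs
    exact mem_normalizer_iff_map_conj_eq.2 (hNA s hs)
  obtain ⟨h, hhN, R, hR, -, hSR, hQR⟩ :=
    exists_conj_mem_common_pGroup (p := 2) _ (S : Subgroup G) Q hSN hQN S.2 hQe.isPGroup
  have hRS : R = S := S.is_maximal' hR hSR
  have hQh : Q.map (MulAut.conj h).toMonoidHom ≤ S := by
    rintro _ ⟨q, hq, rfl⟩
    rw [← hRS]
    simpa using hQR q hq
  have hAQh : A ≤ Q.map (MulAut.conj h).toMonoidHom := by
    have h2 := Subgroup.map_mono (f := (MulAut.conj h).toMonoidHom) hAQ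
    rwa [map_conj_eq_of_mem_normalizer hhN] at h2
  have hQhA := hAmax _ hQh (hQe.map_conj h) hAQh
  have hcard : Nat.card B = Nat.card A := by
    rw [← hQhA, card_map_conj, hQ, card_map_conj]
  have hgAB : A.map (MulAut.conj g).toMonoidHom = B :=
    Subgroup.eq_of_le_of_card_ge hgB (by rw [card_map_conj, hcard])
  -- step (3b)
  have hSB : (S : Subgroup G) ≤ Subgroup.normalizer (B : Set G) :=
    fun s hs => mem_normalizer_iff_map_conj_eq.2 (hNB s hs)
  have hSgB : (S : Subgroup G).map (MulAut.conj g).toMonoidHom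
      ≤ Subgroup.normalizer (B : Set G) := by
    rintro _ ⟨s, hs, rfl⟩
    rw [mem_normalizer_iff_map_conj_eq]
    have : (MulAut.conj g).toMonoidHom s = g * s * g⁻¹ := by simp
    rw [this, map_conj_mul, map_conj_mul, ← hgAB, map_conj_inv_map_conj, hNA s hs]
  obtain ⟨n, hnN, R', hR', -, hSR', hSgR'⟩ :=
    exists_conj_mem_common_pGroup (p := 2) _ (S : Subgroup G)
      ((S : Subgroup G).map (MulAut.conj g).toMonoidHom) hSB hSgB S.2 (S.2.map _)
  have hR'S : R' = S := S.is_maximal' hR' hSR'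
  set m := n * g with hm
  have hmS : (S : Subgroup G).map (MulAut.conj m).toMonoidHom = S := by
    apply map_conj_eq_of_le
    rw [hm, map_conj_mul]
    rintro _ ⟨x, hx, rfl⟩
    rw [← hR'S]
    simpa using hSgR' x hx
  have hmA : A.map (MulAut.conj m).toMonoidHom = B := by
    rw [hm, map_conj_mul, hgAB, map_conj_eq_of_mem_normalizer hnN]
  -- step (3c)
  have hmB : B.map (MulAut.conj m).toMonoidHom = A := by
    have hle : B.map (MulAut.conj m).toMonoidHom ≤ S := by
      rw [← hmS]; exact Subgroup.map_mono hBS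
    rcases hcover _ hle (hBe.map_conj m) with h1 | h1
    · exact Subgroup.eq_of_le_of_card_ge h1 (by rw [card_map_conj, hcard])
    · exfalso
      have := map_conj_eq_of_le h1
      exact hAB (map_conj_injective m (hmA.trans this.symm))
  have hm2B : B.map (MulAut.conj (m ^ 2)).toMonoidHom = B := by
    rw [pow_two, map_conj_mul, hmB, hmA]
  have hmN : m ∈ Subgroup.normalizer ((S : Subgroup G) : Set G) :=
    mem_normalizer_iff_map_conj_eq.2 hmS
  have hnorm : ((S : Subgroup G).subgroupOf (Subgroup.normalizer ((S : Subgroup G) : Set G))).Normal :=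
    Subgroup.normal_in_normalizer
  have hpow := Subgroup.pow_index_mem
    ((S : Subgroup G).subgroupOf (Subgroup.normalizer ((S : Subgroup G) : Set G)))
    (⟨m, hmN⟩ : Subgroup.normalizer ((S : Subgroup G) : Set G))
  set j := ((S : Subgroup G).subgroupOf (Subgroup.normalizer ((S : Subgroup G) : Set G))).index
    with hj
  have hjodd : ¬ 2 ∣ j := by
    intro h2
    have h3 : (S : Subgroup G).relIndex (Subgroup.normalizer ((S : Subgroup G) : Set G))
        * (Subgroup.normalizer ((S : Subgroup G) : Set G)).index = (S : Subgroup G).index :=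
      Subgroup.relIndex_mul_index Subgroup.le_normalizer
    exact S.not_dvd_index (h3 ▸ Dvd.dvd.mul_right h2 _)
  have hmj : m ^ j ∈ (S : Subgroup G) := by
    have := hpow
    rw [Subgroup.mem_subgroupOf] at this
    simpa using this
  have hjA : A.map (MulAut.conj (m ^ j)).toMonoidHom = A := hNA _ hmj
  obtain ⟨k, hk⟩ : ∃ k, j = 2 * k + 1 := ⟨j / 2, by omega⟩
  rw [hk, pow_succ, pow_mul, map_conj_mul, hmA, map_conj_pow_eq_of_eq hm2B] at hjA
  exact hAB hjA.symm

theorem ea_map {G : Type*} [Group G] (S : Subgroup G) (C : Subgroup S)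
    (h : Cfsg.IsElementaryAbelian 2 C) : EAG (C.map S.subtype) := by
  obtain ⟨h1, h2⟩ := h
  rw [isMulCommutative_iff] at h1
  constructor
  · rintro _ ⟨x, hx, rfl⟩ _ ⟨y, hy, rfl⟩
    have := h1 ⟨x, hx⟩ ⟨y, hy⟩
    have := congrArg (fun z : C => ((z : S) : G)) this
    simpa using this
  · rintro _ ⟨x, hx, rfl⟩
    have := h2 x hx
    have := congrArg (fun z : S => (z : G)) this
    simpa using this

theorem ea_subgroupOf {G : Type*} [Group G] (S : Subgroup G) (E : Subgroup G)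
    (h : EAG E) : Cfsg.IsElementaryAbelian 2 (E.subgroupOf S) := by
  constructor
  · rw [isMulCommutative_iff]
    rintro ⟨x, hx⟩ ⟨y, hy⟩
    rw [Subgroup.mem_subgroupOf] at hx hy
    ext
    simpa using h.1 _ hx _ hy
  · intro a ha
    rw [Subgroup.mem_subgroupOf] at ha
    ext
    simpa using h.2 _ ha

/-- Let S be a Sylow 2-subgroup of a finite group G having exactly two subgroups A ≠ B that are maximal among its elementary abelian subgroups, with S = AB. Then A and B are each weakly closed in S with respect to G, and the normalizer of S normalizes both A and B. -/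
theorem result {G : Type*} [Group G] [Finite G] (S : Sylow 2 G)
    (A B : Subgroup ↥(S : Subgroup G)) (hAB : A ≠ B)
    (hA : Cfsg.IsElementaryAbelian 2 A ∧ ∀ C : Subgroup ↥(S : Subgroup G), Cfsg.IsElementaryAbelian 2 C → A ≤ C → C = A)
    (hB : Cfsg.IsElementaryAbelian 2 B ∧ ∀ C : Subgroup ↥(S : Subgroup G), Cfsg.IsElementaryAbelian 2 C → B ≤ C → C = B)
    (honly : ∀ C : Subgroup ↥(S : Subgroup G), Cfsg.IsElementaryAbelian 2 C →
      (∀ D : Subgroup ↥(S : Subgroup G), Cfsg.IsElementaryAbelian 2 D → C ≤ D → D = C) → C = A ∨ C = B)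
    (hprod : ∀ s : ↥(S : Subgroup G), ∃ a ∈ A, ∃ b ∈ B, a * b = s)
    (A' B' : Subgroup G) (hA' : A' = A.map (S : Subgroup G).subtype) (hB' : B' = B.map (S : Subgroup G).subtype) :
    Cfsg.IsWeaklyClosed A' (S : Subgroup G) ∧ Cfsg.IsWeaklyClosed B' (S : Subgroup G) ∧
      Subgroup.normalizer ((S : Subgroup G) : Set G) ≤ Subgroup.normalizer (A' : Set G) ⊓ Subgroup.normalizer (B' : Set G) := by
  have hinj : Function.Injective (S : Subgroup G).subtype := Subtype.coe_injective
  have hAS : A' ≤ S := by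
    rw [hA']; rintro _ ⟨x, -, rfl⟩; exact x.2
  have hBS : B' ≤ S := by
    rw [hB']; rintro _ ⟨x, -, rfl⟩; exact x.2
  have hAB' : A' ≠ B' := by
    rw [hA', hB']
    intro h
    exact hAB (Subgroup.map_injective hinj h)
  have hAe : EAG A' := hA' ▸ ea_map _ A hA.1
  have hBe : EAG B' := hB' ▸ ea_map _ B hB.1
  have hmaxgen : ∀ (X : Subgroup ↥(S : Subgroup G)) (X' : Subgroup G),
      X' = X.map (S : Subgroup G).subtype →
      (∀ C : Subgroup ↥(S : Subgroup G), Cfsg.IsElementaryAbelian 2 C → X ≤ C → C = X) →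
      ∀ E : Subgroup G, E ≤ S → EAG E → X' ≤ E → E = X' := by
    intro X X' hX' hX E hES hEe hXE
    have h1 := hX (E.subgroupOf S) (ea_subgroupOf _ E hEe) (by
      intro a ha
      rw [Subgroup.mem_subgroupOf]
      apply hXE
      rw [hX']
      exact ⟨a, ha, rfl⟩)
    rw [hX', ← h1, Subgroup.map_subgroupOf_eq_of_le hES]
  have hAmax := hmaxgen A A' hA' hA.2
  have hBmax := hmaxgen B B' hB' hB.2
  have hcover : ∀ E : Subgroup G, E ≤ S → EAG E → E ≤ A' ∨ E ≤ B' := by
    intro E hES hEe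
    have hfin : {D : Subgroup G | D ≤ S ∧ EAG D}.Finite := Set.toFinite _
    obtain ⟨D, hED, hD⟩ := hfin.exists_le_maximal (a := E) ⟨hES, hEe⟩
    obtain ⟨⟨hDS, hDe⟩, hDmax⟩ := hD
    have h1 := honly (D.subgroupOf S) (ea_subgroupOf _ D hDe) (by
      intro D₂ hD₂ hle
      have hD'mem : D₂.map (S : Subgroup G).subtype ∈ {D : Subgroup G | D ≤ S ∧ EAG D} := by
        refine ⟨?_, ea_map _ D₂ hD₂⟩
        rintro _ ⟨x, -, rfl⟩; exact x.2
      have hDD' : D ≤ D₂.map (S : Subgroup G).subtype := by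
        intro x hx
        exact ⟨⟨x, hDS hx⟩, hle (by rw [Subgroup.mem_subgroupOf]; exact hx), rfl⟩
      have hD'D := hDmax hD'mem hDD'
      apply le_antisymm _ hle
      intro y hy
      rw [Subgroup.mem_subgroupOf]
      exact hD'D ⟨y, hy, rfl⟩)
    have hDeq : D = (D.subgroupOf S).map (S : Subgroup G).subtype :=
      (Subgroup.map_subgroupOf_eq_of_le hDS).symm
    rcases h1 with h1 | h1
    · left
      rw [hA', ← h1, ← hDeq]; exact hED
    · right
      rw [hB', ← h1, ← hDeq]; exact hED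
  have hprod' : ∀ s ∈ (S : Subgroup G), ∃ a ∈ A', ∃ b ∈ B', a * b = s := by
    intro s hs
    obtain ⟨a, ha, b, hb, h⟩ := hprod ⟨s, hs⟩
    refine ⟨a, hA' ▸ ⟨a, ha, rfl⟩, b, hB' ▸ ⟨b, hb, rfl⟩, ?_⟩
    have := congrArg (fun z : (S : Subgroup G) => (z : G)) h
    simpa using this
  have hprod'' : ∀ s ∈ (S : Subgroup G), ∃ b ∈ B', ∃ a ∈ A', b * a = s := by
    intro s hs
    obtain ⟨a, ha, b, hb, h⟩ := hprod' s⁻¹ (inv_mem hs)
    refine ⟨b⁻¹, B'.inv_mem hb, a⁻¹, A'.inv_mem ha, ?_⟩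
    rw [← mul_inv_rev, h, inv_inv]
  have hcover' : ∀ E : Subgroup G, E ≤ S → EAG E → E ≤ B' ∨ E ≤ A' :=
    fun E h1 h2 => (hcover E h1 h2).symm
  have wA := wc_aux S A' B' hAS hBS hAB' hAe hBe hAmax hBmax hcover hprod'
  have wB := wc_aux S B' A' hBS hAS hAB'.symm hBe hAe hBmax hAmax hcover' hprod''
  refine ⟨⟨hAS, wA⟩, ⟨hBS, wB⟩, ?_⟩
  intro n hn
  have hnS : (S : Subgroup G).map (MulAut.conj n).toMonoidHom = S :=
    map_conj_eq_of_mem_normalizer hn
  rw [Subgroup.mem_inf]
  constructor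
  · apply mem_normalizer_iff_map_conj_eq.2
    apply wA
    rw [← hnS]; exact Subgroup.map_mono hAS
  · apply mem_normalizer_iff_map_conj_eq.2
    apply wB
    rw [← hnS]; exact Subgroup.map_mono hBS

end Cfsg.Agent.S3203
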