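import Mathlib
import Cfsg.Statements.S3208
import Cfsg.Agent.Lib.Helper16.PGroup

set_option autoImplicit false
open Cfsg

namespace Cfsg.Agent.S3208

open Cfsg.Agent.Helper16

/-- conjugation by a normalizing element as an automorphism of the subgroup -/
def conjEquiv {G : Type*} [Group G] (T : Subgroup G) (g : G) (hg : ∀ t ∈ T, g * t * g⁻¹ ∈ T)
    (hg' : ∀ t ∈ T, g⁻¹ * t * g ∈ T) : T ≃* T where
  toFun t := ⟨g * t * g⁻¹, hg t t.2⟩
  invFun t := ⟨g⁻¹ * t * g, hg' t t.2⟩
  left_inv t := by ext; simp [mul_assoc]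
  right_inv t := by ext; simp [mul_assoc]
  map_mul' a b := by ext; simp [mul_assoc]

lemma eq_of_mem_zpowers_of_orderOf_two {G : Type*} [Group G] (j x : G) (hj : orderOf j = 2)
    (hx : x ∈ Subgroup.zpowers j) (hx1 : x ≠ 1) : x = j := by
  obtain ⟨k, rfl⟩ := Subgroup.mem_zpowers_iff.mp hx
  have h := zpow_mod_orderOf j k
  rw [hj] at h
  have h2 : k % (2 : ℤ) = 0 ∨ k % (2 : ℤ) = 1 := by omega
  rcases h2 with h2 | h2
  · rw [show ((2 : ℕ) : ℤ) = 2 from rfl, h2, zpow_zero] at h
    exact absurd h.symm hx1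
  · rw [show ((2 : ℕ) : ℤ) = 2 from rfl, h2, zpow_one] at h
    exact h.symm

/-- Let j be an involution of a finite group G, H a subgroup of G, and T a Sylow 2-subgroup of H ∩ C_G(j) containing j such that ⟨j⟩ is a characteristic subgroup of T. Then T is a Sylow 2-subgroup of H. -/
theorem result {G : Type*} [Group G] [Finite G]
    (j : G) (hj : orderOf j = 2) (H T : Subgroup G) (hT : T ≤ H ⊓ Subgroup.centralizer ({j} : Set G)) (h2 : IsPGroup 2 ↥T)
    (hSyl : ¬ 2 ∣ T.relIndex (H ⊓ Subgroup.centralizer ({j} : Set G))) (hjT : j ∈ T)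
    (hchar : ((Subgroup.zpowers j).subgroupOf T).Characteristic) :
    ¬ 2 ∣ T.relIndex H := by
  intro hdvd
  have hTH : T ≤ H := le_trans hT inf_le_left
  obtain ⟨K, hTK, hKH, hidx, -, hnorm⟩ := exists_two_overgroup T H hTH h2 hdvd
  have hKC : K ≤ Subgroup.centralizer ({j} : Set G) := by
    intro g hg
    have hg1 : ∀ t ∈ T, g * t * g⁻¹ ∈ T := hnorm g hg
    have hg2 : ∀ t ∈ T, g⁻¹ * t * g ∈ T := by
      intro t ht
      have := hnorm g⁻¹ (K.inv_mem hg) t ht
      simpa using this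
    let φ := conjEquiv T g hg1 hg2
    have hmap := (Subgroup.characteristic_iff_map_le.mp hchar) φ
    have hj' : (⟨j, hjT⟩ : T) ∈ (Subgroup.zpowers j).subgroupOf T := by
      rw [Subgroup.mem_subgroupOf]
      exact Subgroup.mem_zpowers j
    have h3 : φ ⟨j, hjT⟩ ∈ (Subgroup.zpowers j).subgroupOf T :=
      hmap ⟨_, hj', rfl⟩
    rw [Subgroup.mem_subgroupOf] at h3
    have h4 : g * j * g⁻¹ ∈ Subgroup.zpowers j := h3
    have h5 : g * j * g⁻¹ ≠ 1 := by
      intro h
      have : j = 1 := by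
        have := congrArg (fun x => g⁻¹ * x * g) h
        simpa [mul_assoc] using this
      rw [this, orderOf_one] at hj
      omega
    have h6 := eq_of_mem_zpowers_of_orderOf_two j _ hj h4 h5
    rw [Subgroup.mem_centralizer_iff]
    intro x hx
    rw [Set.mem_singleton_iff] at hx
    subst hx
    calc x * g = (g * x * g⁻¹) * g := by rw [h6]
      _ = g * x := by group
  have hK : K ≤ H ⊓ Subgroup.centralizer ({j} : Set G) := le_inf hKH hKC
  have := Subgroup.relIndex_mul_relIndex T K _ hTK hK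
  rw [hidx] at this
  exact hSyl ⟨_, this.symm⟩

end Cfsg.Agent.S3208
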