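import Mathlib
import Cfsg.Statements.S3209
import Cfsg.Agent.Lib.Helper16.SL2Inv
import Cfsg.Agent.Lib.Helper16.Commutator

set_option autoImplicit false
open Cfsg

namespace Cfsg.Agent.S3209

open Cfsg.Agent.Helper16

theorem two_ne_zero_of_odd_card {F : Type*} [Field F] [Fintype F] (h : Odd (Fintype.card F)) :
    (2 : F) ≠ 0 := by
  intro h2
  obtain ⟨k, hk⟩ := h
  have h1 : ((Fintype.card F : ℕ) : F) = 0 := Nat.cast_card_eq_zero F
  rw [hk] at h1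
  push_cast at h1
  rw [h2, zero_mul, zero_add] at h1
  exact one_ne_zero h1

/-- The three properties of a subgroup isomorphic to `SL₂(F)`, `F` finite of odd order, with
central involution `j`, used in the proof. -/
theorem sl2_like {G : Type*} [Group G] {F : Type*} [Field F] [Fintype F]
    (hF : Odd (Fintype.card F)) (L : Subgroup G) (e : ↥L ≃* Matrix.SpecialLinearGroup (Fin 2) F)
    (j : G) (hj : orderOf j = 2) (hjL : j ∈ L) :
    (∀ a ∈ L, a ^ 2 = 1 → a = 1 ∨ a = j) ∧ (∃ w ∈ L, w ^ 2 = j) ∧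
      (∀ a ∈ L, ∀ a' ∈ L, a ^ 2 = j → a' ^ 2 = j → ∃ g ∈ L, g * a * g⁻¹ = a') := by
  have h2 : (2 : F) ≠ 0 := two_ne_zero_of_odd_card hF
  have hj1 : j ≠ 1 := by
    intro h; rw [h, orderOf_one] at hj; norm_num at hj
  have hj2 : j ^ 2 = 1 := by rw [← hj]; exact pow_orderOf_eq_one j
  have hej : e ⟨j, hjL⟩ = negOneSL F := by
    have h1 : (e ⟨j, hjL⟩) ^ 2 = 1 := by
      rw [← map_pow]
      have : (⟨j, hjL⟩ : L) ^ 2 = 1 := Subtype.ext (by simpa using hj2)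
      rw [this, map_one]
    rcases sl2_eq_one_or_negOne_of_sq_eq_one h2 _ h1 with h | h
    · exfalso
      have : (⟨j, hjL⟩ : L) = 1 := e.injective (by rw [h, map_one])
      exact hj1 (congrArg Subtype.val this)
    · exact h
  refine ⟨?_, ?_, ?_⟩
  · intro a ha ha2
    have h1 : (e ⟨a, ha⟩) ^ 2 = 1 := by
      rw [← map_pow]
      have : (⟨a, ha⟩ : L) ^ 2 = 1 := Subtype.ext (by simpa using ha2)
      rw [this, map_one]
    rcases sl2_eq_one_or_negOne_of_sq_eq_one h2 _ h1 with h | h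
    · left
      have : (⟨a, ha⟩ : L) = 1 := e.injective (by rw [h, map_one])
      exact congrArg Subtype.val this
    · right
      have : (⟨a, ha⟩ : L) = ⟨j, hjL⟩ := e.injective (by rw [h, hej])
      exact congrArg Subtype.val this
  · refine ⟨(e.symm (wSL F) : L), (e.symm (wSL F)).2, ?_⟩
    have h1 : (e.symm (wSL F)) ^ 2 = (⟨j, hjL⟩ : L) := by
      apply e.injective
      rw [map_pow, e.apply_symm_apply, wSL_sq, hej]
    have := congrArg Subtype.val h1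
    simpa using this
  · intro a ha a' ha' ha2 ha2'
    have h1 : (e ⟨a, ha⟩) ^ 2 = negOneSL F := by
      rw [← map_pow, ← hej]
      congr 1
      exact Subtype.ext (by simpa using ha2)
    have h1' : (e ⟨a', ha'⟩) ^ 2 = negOneSL F := by
      rw [← map_pow, ← hej]
      congr 1
      exact Subtype.ext (by simpa using ha2')
    have hconj := sl2_isConj_of_sq_eq_negOne h2 _ _ h1 h1'
    rw [isConj_iff] at hconj
    obtain ⟨c, hc⟩ := hconj
    refine ⟨(e.symm c : L), (e.symm c).2, ?_⟩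
    have h3 : e.symm c * ⟨a, ha⟩ * (e.symm c)⁻¹ = (⟨a', ha'⟩ : L) := by
      apply e.injective
      rw [map_mul, map_mul, map_inv, e.apply_symm_apply, hc]
    have := congrArg Subtype.val h3
    simpa using this

/-- The abstract form of the statement. -/
theorem abstract_result {G : Type*} [Group G] (L₁ L₂ : Subgroup G)
    (hc : ∀ x ∈ L₁, ∀ y ∈ L₂, x * y = y * x) (j : G) (hj : orderOf j = 2)
    (hm : L₁ ⊓ L₂ = Subgroup.zpowers j)
    (hU₁ : ∀ a ∈ L₁, a ^ 2 = 1 → a = 1 ∨ a = j) (hU₂ : ∀ a ∈ L₂, a ^ 2 = 1 → a = 1 ∨ a = j)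
    (hW₁ : ∃ w ∈ L₁, w ^ 2 = j) (hW₂ : ∃ w ∈ L₂, w ^ 2 = j)
    (hC₁ : ∀ a ∈ L₁, ∀ a' ∈ L₁, a ^ 2 = j → a' ^ 2 = j → ∃ g ∈ L₁, g * a * g⁻¹ = a')
    (hC₂ : ∀ a ∈ L₂, ∀ a' ∈ L₂, a ^ 2 = j → a' ^ 2 = j → ∃ g ∈ L₂, g * a * g⁻¹ = a') :
    ∃ x ∈ L₁ ⊔ L₂, orderOf x = 2 ∧ x ≠ j ∧
      ∀ y ∈ L₁ ⊔ L₂, orderOf y = 2 → y = j ∨ ∃ g ∈ L₁ ⊔ L₂, g * x * g⁻¹ = y := by
  have hj1 : j ≠ 1 := by
    intro h; rw [h, orderOf_one] at hj; norm_num at hj
  have hj2 : j ^ 2 = 1 := by rw [← hj]; exact pow_orderOf_eq_one j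
  have hjj : j * j = 1 := by rw [← pow_two]; exact hj2
  have hjinv : j⁻¹ = j := inv_eq_of_mul_eq_one_left hjj
  have hmem : ∀ z : G, z ∈ L₁ → z ∈ L₂ → z = 1 ∨ z = j := by
    intro z h1 h2
    have hz : z ∈ L₁ ⊓ L₂ := ⟨h1, h2⟩
    rw [hm, Subgroup.mem_zpowers_iff] at hz
    obtain ⟨k, rfl⟩ := hz
    rcases Int.even_or_odd' k with ⟨m, hm' | hm'⟩
    · left
      rw [hm', zpow_mul, zpow_two, hjj, one_zpow]
    · right
      rw [hm', zpow_add, zpow_mul, zpow_two, hjj, one_zpow, one_mul, zpow_one]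
  have hnorm : L₂ ≤ Subgroup.normalizer (L₁ : Set G) := by
    intro y hy
    rw [Subgroup.mem_normalizer_iff]
    intro x
    constructor
    · intro hx
      have : y * x * y⁻¹ = x := by rw [← hc x hx y hy, mul_inv_cancel_right]
      rw [this]; exact hx
    · intro hx
      have h1 := hc _ hx y hy
      have : x = y * x * y⁻¹ := by
        have h2 : y * x * y⁻¹ * y = y * (y * x * y⁻¹) := h1
        have h3 : y * x = y * (y * x * y⁻¹) := by simpa using h2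
        exact mul_left_cancel h3
      rw [this]; exact hx
  obtain ⟨a, haL, ha2⟩ := hW₁
  obtain ⟨b, hbL, hb2⟩ := hW₂
  -- squares in a commuting product
  have hsq : ∀ u ∈ L₁, ∀ v ∈ L₂, (u * v) ^ 2 = u ^ 2 * v ^ 2 := by
    intro u hu v hv
    have := hc u hu v hv
    rw [pow_two, pow_two, pow_two]
    calc u * v * (u * v) = u * (v * u) * v := by group
      _ = u * (u * v) * v := by rw [this]
      _ = u * u * (v * v) := by group
  have hxL : a * b ∈ L₁ ⊔ L₂ :=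
    Subgroup.mul_mem _ (Subgroup.mem_sup_left haL) (Subgroup.mem_sup_right hbL)
  have hx2 : (a * b) ^ 2 = 1 := by rw [hsq a haL b hbL, ha2, hb2, hjj]
  have hab_ne : ∀ z : G, z = 1 ∨ z = j → a * b ≠ z := by
    intro z hz h
    -- a = z * b⁻¹ ∈ L₂
    have hzL₂ : z ∈ L₂ := by
      rcases hz with hz' | hz'
      · rw [hz']; exact L₂.one_mem
      · have : j ∈ L₁ ⊓ L₂ := by rw [hm]; exact Subgroup.mem_zpowers j
        rw [hz']; exact this.2
    have haL₂ : a ∈ L₂ := by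
      have : a = z * b⁻¹ := by rw [← h]; group
      rw [this]; exact L₂.mul_mem hzL₂ (L₂.inv_mem hbL)
    rcases hmem a haL haL₂ with h1 | h1
    · rw [h1, one_pow] at ha2; exact hj1 ha2.symm
    · rw [h1, hj2] at ha2; exact hj1 ha2.symm
  refine ⟨a * b, hxL, ?_, hab_ne j (Or.inr rfl), ?_⟩
  · exact orderOf_eq_prime hx2 (hab_ne 1 (Or.inl rfl))
  · intro y hy hy2
    have hy1 : y ≠ 1 := by
      intro h; rw [h, orderOf_one] at hy2; norm_num at hy2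
    have hysq : y ^ 2 = 1 := by rw [← hy2]; exact pow_orderOf_eq_one y
    obtain ⟨u, hu, v, hv, rfl⟩ := (mem_sup_iff_of_le_normalizer hnorm).1 hy
    rw [hsq u hu v hv] at hysq
    have hu2L₂ : u ^ 2 ∈ L₂ := by
      have : u ^ 2 = (v ^ 2)⁻¹ := eq_inv_of_mul_eq_one_left hysq
      rw [this]; exact L₂.inv_mem (L₂.pow_mem hv 2)
    rcases hmem (u ^ 2) (L₁.pow_mem hu 2) hu2L₂ with h1 | h1
    · -- u^2 = 1, v^2 = 1
      left
      have hv2 : v ^ 2 = 1 := by rw [h1, one_mul] at hysq; exact hysq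
      rcases hU₁ u hu h1 with hu' | hu' <;> rcases hU₂ v hv hv2 with hv' | hv'
      · rw [hu', hv'] at hy1; exact absurd (one_mul 1) hy1
      · rw [hu', hv']; exact one_mul _
      · rw [hu', hv']; exact mul_one _
      · rw [hu', hv'] at hy1; exact absurd hjj hy1
    · right
      have hv2 : v ^ 2 = j := by
        rw [h1] at hysq
        have : v ^ 2 = j⁻¹ := eq_inv_of_mul_eq_one_right hysq
        rw [this, hjinv]
      obtain ⟨g₁, hg₁, hg₁'⟩ := hC₁ a haL u hu ha2 h1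
      obtain ⟨g₂, hg₂, hg₂'⟩ := hC₂ b hbL v hv hb2 hv2
      refine ⟨g₁ * g₂, Subgroup.mul_mem _ (Subgroup.mem_sup_left hg₁)
        (Subgroup.mem_sup_right hg₂), ?_⟩
      have e1 : g₂ * a = a * g₂ := (hc a haL g₂ hg₂).symm
      have e2 : g₁ * b = b * g₁ := hc g₁ hg₁ b hbL
      have e3 : g₁⁻¹ * g₂⁻¹ = g₂⁻¹ * g₁⁻¹ := hc _ (L₁.inv_mem hg₁) _ (L₂.inv_mem hg₂)
      have e4 : g₁⁻¹ * b = b * g₁⁻¹ := hc _ (L₁.inv_mem hg₁) b hbL
      rw [← hg₁', ← hg₂']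
      calc g₁ * g₂ * (a * b) * (g₁ * g₂)⁻¹
          = g₁ * (g₂ * a) * b * (g₂⁻¹ * g₁⁻¹) := by group
        _ = g₁ * (a * g₂) * b * (g₁⁻¹ * g₂⁻¹) := by rw [e1, e3]
        _ = g₁ * a * g₂ * (b * g₁⁻¹) * g₂⁻¹ := by group
        _ = g₁ * a * g₂ * (g₁⁻¹ * b) * g₂⁻¹ := by rw [e4]
        _ = g₁ * a * (g₂ * g₁⁻¹) * b * g₂⁻¹ := by group
        _ = g₁ * a * (g₁⁻¹ * g₂) * b * g₂⁻¹ := by
            rw [(hc _ (L₁.inv_mem hg₁) g₂ hg₂)]
        _ = g₁ * a * g₁⁻¹ * (g₂ * b * g₂⁻¹) := by group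

/-- Let L₁ ≅ SL₂(q₁) and L₂ ≅ SL₂(q₂), q₁ and q₂ odd, be elementwise-commuting subgroups of a finite group meeting in ⟨j⟩ for an involution j. Then L₁L₂ has exactly two conjugacy classes of involutions: the central involution j, and one further class (there is an involution x ≠ j in L₁L₂, and every involution of L₁L₂ other than j is conjugate to x by an element of L₁L₂). -/
theorem result {G : Type*} [Group G] [Finite G]
    {F₁ : Type*} [Field F₁] [Fintype F₁] {F₂ : Type*} [Field F₂] [Fintype F₂]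
    (hF₁ : Odd (Fintype.card F₁)) (hF₂ : Odd (Fintype.card F₂)) (L₁ L₂ : Subgroup G)
    (e₁ : ↥L₁ ≃* Matrix.SpecialLinearGroup (Fin 2) F₁) (e₂ : ↥L₂ ≃* Matrix.SpecialLinearGroup (Fin 2) F₂)
    (hc : ∀ x ∈ L₁, ∀ y ∈ L₂, x * y = y * x) (j : G) (hj : orderOf j = 2) (hm : L₁ ⊓ L₂ = Subgroup.zpowers j) :
    ∃ x ∈ L₁ ⊔ L₂, orderOf x = 2 ∧ x ≠ j ∧
      ∀ y ∈ L₁ ⊔ L₂, orderOf y = 2 → y = j ∨ ∃ g ∈ L₁ ⊔ L₂, g * x * g⁻¹ = y := by
  have hjL : j ∈ L₁ ⊓ L₂ := by rw [hm]; exact Subgroup.mem_zpowers j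
  obtain ⟨hU₁, hW₁, hC₁⟩ := sl2_like hF₁ L₁ e₁ j hj hjL.1
  obtain ⟨hU₂, hW₂, hC₂⟩ := sl2_like hF₂ L₂ e₂ j hj hjL.2
  exact abstract_result L₁ L₂ hc j hj hm hU₁ hU₂ hW₁ hW₂ hC₁ hC₂

end Cfsg.Agent.S3209
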