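import Mathlib
import Cfsg.Statements.S3210
import Cfsg.Agent.Lib.Helper16.SL2CentC
-- import your own Cfsg.Agent.* helpers here

set_option autoImplicit false
set_option linter.style.haveILetI false
open Cfsg

namespace Cfsg.Agent.S3210

open Cfsg.Agent.Helper16.SL2Cent in
/-- Let G be a finite group with subgroups L₁ ≅ SL₂(q₁) and L₂ ≅ SL₂(q₂), q₁ and q₂ odd prime powers, which commute elementwise and meet in ⟨j⟩ for an involution j, and suppose L₁L₂ has index 2 in C_G(j). Then every element n of C_G(j) outside L₁L₂ either normalizes both L₁ and L₂, or conjugates L₁ onto L₂; in the second case q₁ = q₂ and there is an element n′ of C_G(j) outside L₁L₂ conjugating L₁ onto L₂ with n′² ∈ ⟨j⟩. -/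
theorem result {G : Type*} [Group G] [Finite G]
    {F₁ : Type*} [Field F₁] [Fintype F₁] {F₂ : Type*} [Field F₂] [Fintype F₂]
    (hF₁ : Odd (Fintype.card F₁)) (hF₂ : Odd (Fintype.card F₂)) (L₁ L₂ : Subgroup G)
    (e₁ : ↥L₁ ≃* Matrix.SpecialLinearGroup (Fin 2) F₁) (e₂ : ↥L₂ ≃* Matrix.SpecialLinearGroup (Fin 2) F₂)
    (hc : ∀ x ∈ L₁, ∀ y ∈ L₂, x * y = y * x) (j : G) (hj : orderOf j = 2) (hm : L₁ ⊓ L₂ = Subgroup.zpowers j)
    (hle : L₁ ⊔ L₂ ≤ Subgroup.centralizer ({j} : Set G)) (hi : (L₁ ⊔ L₂).relIndex (Subgroup.centralizer ({j} : Set G)) = 2) (n : G) (hn : n ∈ Subgroup.centralizer ({j} : Set G)) (hn' : n ∉ L₁ ⊔ L₂) :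
    (L₁.map (MulAut.conj n).toMonoidHom = L₁ ∧ L₂.map (MulAut.conj n).toMonoidHom = L₂) ∨
      (L₁.map (MulAut.conj n).toMonoidHom = L₂ ∧ Fintype.card F₁ = Fintype.card F₂ ∧
        ∃ n' ∈ Subgroup.centralizer ({j} : Set G), n' ∉ L₁ ⊔ L₂ ∧ L₁.map (MulAut.conj n').toMonoidHom = L₂ ∧ n' ^ 2 ∈ Subgroup.zpowers j) := by
  have h21 := two_ne_zero_of_odd hF₁
  have h22 := two_ne_zero_of_odd hF₂
  set M := L₁ ⊔ L₂ with hM
  set C := Subgroup.centralizer ({j} : Set G) with hC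
  have hidx : (M.subgroupOf C).index = 2 := hi
  haveI hnorm : (M.subgroupOf C).Normal := Subgroup.normal_of_index_eq_two hidx
  have hconj : ∀ g ∈ C, ∀ x ∈ M, g * x * g⁻¹ ∈ M := by
    intro g hg x hx
    have hxC : x ∈ C := hle hx
    have : (⟨x, hxC⟩ : ↥C) ∈ M.subgroupOf C := Subgroup.mem_subgroupOf.mpr hx
    have := hnorm.conj_mem _ this ⟨g, hg⟩
    exact Subgroup.mem_subgroupOf.mp this
  have hnj : n * j = j * n := by
    have := Subgroup.mem_centralizer_iff.mp hn j (Set.mem_singleton j)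
    exact this.symm
  have hninv : n⁻¹ ∈ C := C.inv_mem hn
  have hcases := conj_cases h21 h22 L₁ L₂ e₁ e₂ hc j hj hm n hnj (hconj n hn)
    (fun x hx => by simpa using hconj n⁻¹ hninv x hx)
  rcases hcases with h | ⟨hN, hK, hcard⟩
  · exact Or.inl h
  · right
    refine ⟨hN, hcard, ?_⟩
    -- the square of `n` lies in `M`
    have hsq : n * n ∈ M := by
      have := Subgroup.mul_self_mem_of_index_two hidx (⟨n, hn⟩ : ↥C)
      exact Subgroup.mem_subgroupOf.mp this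
    obtain ⟨a, ha, b, hb, hab⟩ := exists_mul_of_mem_sup hc hsq
    have hσa : n * a * n⁻¹ ∈ L₂ := by
      rw [← hN]
      exact ⟨a, ha, by simp [MulAut.conj_apply]⟩
    have hσb : n * b * n⁻¹ ∈ L₁ := by
      rw [← hK]
      exact ⟨b, hb, by simp [MulAut.conj_apply]⟩
    -- `z = b σ(a)⁻¹`
    have hz : b * (n * a * n⁻¹)⁻¹ = a⁻¹ * (n * b * n⁻¹) := by
      have e1 : (n * a * n⁻¹) * (n * b * n⁻¹) = a * b := by
        calc (n * a * n⁻¹) * (n * b * n⁻¹) = n * (a * b) * n⁻¹ := by group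
          _ = n * (n * n) * n⁻¹ := by rw [hab]
          _ = n * n := by group
          _ = a * b := hab
      have e2 : (n * b * n⁻¹) * (n * a * n⁻¹) = (n * a * n⁻¹) * (n * b * n⁻¹) := hc _ hσb _ hσa
      calc b * (n * a * n⁻¹)⁻¹ = a⁻¹ * (a * b) * (n * a * n⁻¹)⁻¹ := by group
        _ = a⁻¹ * ((n * b * n⁻¹) * (n * a * n⁻¹)) * (n * a * n⁻¹)⁻¹ := by rw [← e1, e2]
        _ = a⁻¹ * (n * b * n⁻¹) := by group
    have hzmem : b * (n * a * n⁻¹)⁻¹ ∈ L₁ ⊓ L₂ := by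
      refine ⟨?_, L₂.mul_mem hb (L₂.inv_mem hσa)⟩
      rw [hz]
      exact L₁.mul_mem (L₁.inv_mem ha) hσb
    refine ⟨n * a⁻¹, C.mul_mem hn (C.inv_mem (hle (Subgroup.mem_sup_left ha))), ?_, ?_, ?_⟩
    · intro h
      apply hn'
      have : n = (n * a⁻¹) * a := by group
      rw [this]
      exact M.mul_mem h (Subgroup.mem_sup_left ha)
    · ext x
      rw [mem_map_conj, ← hN, mem_map_conj]
      have : (n * a⁻¹)⁻¹ * x * (n * a⁻¹) = a * (n⁻¹ * x * n) * a⁻¹ := by group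
      rw [this]
      constructor
      · intro h
        have : n⁻¹ * x * n = a⁻¹ * (a * (n⁻¹ * x * n) * a⁻¹) * a := by group
        rw [this]
        exact L₁.mul_mem (L₁.mul_mem (L₁.inv_mem ha) h) ha
      · intro h
        exact L₁.mul_mem (L₁.mul_mem ha h) (L₁.inv_mem ha)
    · rw [← hm]
      have e3 : (n * a⁻¹) ^ 2 = (n * a * n⁻¹)⁻¹ * b := by
        have hab' : a * b = b * a := hc a ha b hb
        calc (n * a⁻¹) ^ 2 = (n * a * n⁻¹)⁻¹ * (n * n) * a⁻¹ := by rw [pow_two]; group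
          _ = (n * a * n⁻¹)⁻¹ * (a * b) * a⁻¹ := by rw [hab]
          _ = (n * a * n⁻¹)⁻¹ * (b * a) * a⁻¹ := by rw [hab']
          _ = (n * a * n⁻¹)⁻¹ * b := by group
      have e4 : (n * a * n⁻¹)⁻¹ * b = b * (n * a * n⁻¹)⁻¹ := by
        have := hc _ hzmem.1 _ hσa
        calc (n * a * n⁻¹)⁻¹ * b
            = (n * a * n⁻¹)⁻¹ * ((b * (n * a * n⁻¹)⁻¹) * (n * a * n⁻¹)) := by group
          _ = (n * a * n⁻¹)⁻¹ * ((n * a * n⁻¹) * (b * (n * a * n⁻¹)⁻¹)) := by rw [this]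
          _ = b * (n * a * n⁻¹)⁻¹ := by group
      rw [e3, e4]
      exact hzmem

end Cfsg.Agent.S3210
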