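import Cfsg.Statements.S3211
import Cfsg.Agent.S0215
import Cfsg.Agent.Lib.Helper11.S11Defs
import Cfsg.Agent.Lib.Helper11.S11ROUT
import Cfsg.Agent.Lib.Helper11.S11TWO
import Cfsg.Agent.Lib.Helper11.S11ZFIN
import Cfsg.Agent.Lib.Helper19.S11CNT
import Cfsg.Agent.Lib.Helper23.S11SL2INV
import Cfsg.Agent.Lib.Helper24.S11FRAMEC
import Cfsg.Agent.Lib.Helper24.S11FRAMESL
import Cfsg.Agent.Lib.Helper25.S11RIN
import Cfsg.Agent.Lib.Helper28.S11DIH
import Cfsg.Agent.Lib.Helper28.S11TRANS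
import Cfsg.Agent.Lib.Helper3.S11NOINV
import Cfsg.Agent.Lib.Helper3.S11QLOW
import Cfsg.Agent.Lib.Helper6.S11FRAMEA
import Cfsg.Agent.Lib.Helper1.S11SL2CENT
import Cfsg.Agent.Lib.Helper1.S11SL2CONJ

set_option autoImplicit false
set_option linter.unusedVariables false
open Cfsg

namespace Cfsg.Agent.S3211

open Cfsg.Agent.Helper11.S11

/-- Let G be a finite group with subgroups L₁ ≅ SL₂(q₁) and L₂ ≅ SL₂(q₂), q₁ and q₂ odd prime powers, which commute elementwise and meet in ⟨j⟩ for an involution j, and suppose L₁L₂ has index 2 in C_G(j). If some n ∈ C_G(j) with n² = j interchanges L₁ and L₂ under conjugation (so that C_G(j) = L₁L₂⟨n⟩), then G = C_G(j)O(G). -/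
theorem result {G : Type*} [Group G] [Finite G]
    {F₁ : Type*} [Field F₁] [Fintype F₁] {F₂ : Type*} [Field F₂] [Fintype F₂]
    (hF₁ : Odd (Fintype.card F₁)) (hF₂ : Odd (Fintype.card F₂)) (L₁ L₂ : Subgroup G)
    (e₁ : ↥L₁ ≃* Matrix.SpecialLinearGroup (Fin 2) F₁) (e₂ : ↥L₂ ≃* Matrix.SpecialLinearGroup (Fin 2) F₂)
    (hc : ∀ x ∈ L₁, ∀ y ∈ L₂, x * y = y * x) (j : G) (hj : orderOf j = 2) (hm : L₁ ⊓ L₂ = Subgroup.zpowers j)
    (hle : L₁ ⊔ L₂ ≤ Subgroup.centralizer ({j} : Set G)) (hi : (L₁ ⊔ L₂).relIndex (Subgroup.centralizer ({j} : Set G)) = 2) (n : G) (hn : n ∈ Subgroup.centralizer ({j} : Set G))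
    (hn2 : n ^ 2 = j) (hswap : L₁.map (MulAut.conj n).toMonoidHom = L₂) :
    Subgroup.centralizer ({j} : Set G) ⊔ Cfsg.oddCore G = ⊤ := by
  have hjL : j ∈ L₁ := by
    have h1 : j ∈ L₁ ⊓ L₂ := by
      rw [hm]
      exact Subgroup.mem_zpowers j
    exact h1.1
  have h2 : (2 : F₁) ≠ 0 := two_ne_zero_of_odd_card hF₁
  obtain ⟨a, haL, haj, hinv, hcc, hconj⟩ := frame_sl2 L₁ e₁ j hj hjL (sl2_invol h2)
    (fun a x y => sl2_cent_comm h2 a x y) (fun a b => sl2_conj4 h2 a b)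
  obtain ⟨hcomm, hinter⟩ := frame_comm L₁ L₂ hc j hj hm n hswap
  have hcent := frame_cent L₁ L₂ hc j hj hm hle hi n hn hn2 hswap a haL haj
  have hj1 : j ≠ 1 := by
    intro h
    rw [h, orderOf_one] at hj
    norm_num at hj
  have hjj : j * j = 1 := by
    have h := pow_orderOf_eq_one j
    rw [hj, pow_two] at h
    exact h
  have hnn : n * n = j := by
    rw [← pow_two]
    exact hn2
  have H : Hyp L₁ n j a :=
    ⟨hjL, hj1, hjj, hinv, hnn, hcomm, hinter, hcent, haL, haj, hcc, hconj⟩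
  have hcnt := count_lt H (rin_card H) (rout_map H) (q_five H)
  have hstar := star_of_count j (a * sg n a) hjj hj1 (invol_conj H) hcnt
  have hpg : IsPGroup 2 (Subgroup.zpowers j) := by
    apply IsPGroup.of_card (n := 1)
    rw [Nat.card_zpowers, hj]
    norm_num
  obtain ⟨P, hP⟩ := hpg.exists_le_sylow
  have hjP : j ∈ P := hP (Subgroup.mem_zpowers j)
  obtain ⟨N, hN, hodd, hNc⟩ := Cfsg.Agent.S0215.result P j hj hjP
    (isolated_of_star j hj hstar P hjP)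
  exact cent_sup_oddCore j hj N hN hodd hNc

end Cfsg.Agent.S3211
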