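import Mathlib
import Cfsg.Statements.S3213
import Cfsg.Agent.Lib.Helper16.SpFixA
import Cfsg.Agent.Lib.Helper16.SpFixB
import Cfsg.Agent.Lib.Helper16.SpFixD
import Cfsg.Agent.Lib.Helper16.SpFixE
-- import your own Cfsg.Agent.* helpers here

set_option autoImplicit false
open Cfsg

namespace Cfsg.Agent.S3213

open Cfsg.Agent.Helper16.SpFix in
/-- Let F be the field with 3 elements and K the field with 5 elements. For every injective homomorphism φ from SL₂(K) into the symplectic group Sp₄(F) (4 × 4 matrices g with g J gᵀ = J for the standard alternating matrix J) and every element x of order 3 of SL₂(K), the vectors of F⁴ fixed by φ(x) form a 2-dimensional subspace that is totally isotropic for the alternating form defined by J. -/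
theorem result {F : Type*} [Field F] [Fintype F] (hF : Fintype.card F = 3)
    {K : Type*} [Field K] [Fintype K] (hK : Fintype.card K = 5)
    (φ : Matrix.SpecialLinearGroup (Fin 2) K →* ↥(Matrix.symplecticGroup (Fin 2) F)) (hφ : Function.Injective φ)
    (x : Matrix.SpecialLinearGroup (Fin 2) K) (hx : orderOf x = 3) :
    Module.finrank F ↥(LinearMap.ker (Matrix.toLin' ((φ x : Matrix (Fin 2 ⊕ Fin 2) (Fin 2 ⊕ Fin 2) F)) - LinearMap.id)) = 2 ∧
      ∀ v w : Fin 2 ⊕ Fin 2 → F, (φ x : Matrix (Fin 2 ⊕ Fin 2) (Fin 2 ⊕ Fin 2) F).mulVec v = v →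
        (φ x : Matrix (Fin 2 ⊕ Fin 2) (Fin 2 ⊕ Fin 2) F).mulVec w = w →
          dotProduct v ((Matrix.J (Fin 2) F).mulVec w) = 0 := by
  classical
  let ρ : Matrix.SpecialLinearGroup (Fin 2) K →* Matrix (Fin 2 ⊕ Fin 2) (Fin 2 ⊕ Fin 2) F :=
    (Matrix.symplecticGroup (Fin 2) F).subtype.comp φ
  have hρ : Function.Injective ρ := by
    intro a b hab
    apply hφ
    exact Subtype.ext hab
  have hρx : ρ x = (φ x : Matrix (Fin 2 ⊕ Fin 2) (Fin 2 ⊕ Fin 2) F) := rfl
  have hι : Fintype.card (Fin 2 ⊕ Fin 2) = 4 := by simp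
  obtain ⟨y, hxyx, hyy⟩ := exists_inverting hK x hx
  have hx3 : x ^ 3 = 1 := by rw [← hx]; exact pow_orderOf_eq_one x
  have hx1 : x ≠ 1 := by
    intro h
    rw [h, orderOf_one] at hx
    norm_num at hx
  have hA3 : (ρ x) ^ 3 = 1 := by rw [← map_pow, hx3, map_one]
  have hA1 : ρ x ≠ 1 := by
    intro h
    apply hx1
    apply hρ
    rw [h, map_one]
  have hAYA : ρ x * ρ y * ρ x = ρ y := by rw [← map_mul, ← map_mul, hxyx]
  have hYY : ρ y * ρ y = -1 := by
    rw [← map_mul]
    exact central_eq_neg_one hF hι hK ρ hρ (y * y) hyy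
  have heven := even_finrank_ker hF (ρ x) (ρ y) hAYA hYY
  have hpos := finrank_ker_pos hF (ρ x) hA3
  have hlt := finrank_ker_lt (ρ x) hA1
  rw [hι] at hlt
  have hdim : Module.finrank F ↥(LinearMap.ker (Matrix.toLin' (ρ x) - LinearMap.id)) = 2 := by
    obtain ⟨k, hk⟩ := heven
    omega
  refine ⟨hdim, ?_⟩
  intro v w hv hw
  exact isotropic_of_finrank_two hF hι (ρ x) (φ x).2 hA3 hdim v w hv hw

end Cfsg.Agent.S3213
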