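import Mathlib
import Cfsg.Statements.S3215
import Cfsg.Agent.Lib.Helper16.InvCent
import Cfsg.Agent.Lib.Helper16.FpfSylow
import Cfsg.Agent.Lib.Helper16.InvCentQuot

set_option autoImplicit false
open Cfsg

namespace Cfsg.Agent.S3215

/-- Let H be a finite solvable group with no nontrivial normal subgroup of odd order in which the centralizer of every involution has a normal 2-complement. Let X be a Hall 2'-subgroup of H (odd order, index a power of 2) and Y = O₂(H). Then no non-identity element of X commutes with a non-identity element of Y (so for X ≠ 1 the group XY is a Frobenius group with kernel Y), every Sylow subgroup of X is cyclic, XY is normal in H, and H/XY is a cyclic 2-group. -/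
theorem result {H : Type*} [Group H] [Finite H] (hsol : Group.IsSolvable H)
    (hO : Cfsg.oddCore H = ⊥)
    (hI : ∀ t : H, orderOf t = 2 → Cfsg.HasNormalPComplement 2 ↥(Subgroup.centralizer ({t} : Set H)))
    (X : Subgroup H) (hXodd : Odd (Nat.card X)) (hXidx : ∃ k : ℕ, X.index = 2 ^ k) :
    (∀ x ∈ X, x ≠ 1 → ∀ y ∈ Cfsg.pCore 2 H, y ≠ 1 → x * y ≠ y * x) ∧
      (∀ (p : ℕ) [Fact p.Prime] (P : Sylow p ↥X), IsCyclic ↥(P : Subgroup ↥X)) ∧
      (X ⊔ Cfsg.pCore 2 H).Normal ∧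
      ∀ hN : (X ⊔ Cfsg.pCore 2 H).Normal, IsCyclic (H ⧸ (X ⊔ Cfsg.pCore 2 H)) ∧ IsPGroup 2 (H ⧸ (X ⊔ Cfsg.pCore 2 H)) := by
  have hO' : pPrimeCore 2 H = ⊥ := hO
  have hXo : ∀ x ∈ X, Odd (orderOf x) := by
    intro x hx
    have h1 : orderOf (⟨x, hx⟩ : X) ∣ Nat.card X := orderOf_dvd_natCard _
    rw [Subgroup.orderOf_mk] at h1
    exact Odd.of_dvd_nat hXodd h1
  have key := Cfsg.Agent.Helper16.sup_pCore_normal_and_cyclic hsol hO' hI X hXodd hXidx
  refine ⟨?_, ?_, key.1, fun hN => ⟨key.2 hN, ?_⟩⟩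
  · intro x hx hx1 y hy hy1 hxy
    exact hx1 (Cfsg.Agent.Helper16.eq_one_of_odd_of_commute_pCore hsol hO' hI x (hXo x hx) y hy hy1 hxy)
  · intro p _ P
    exact Cfsg.Agent.Helper16.isCyclic_sylow_of_odd hsol hO' hI X hXodd p P
  · obtain ⟨k, hk⟩ := hXidx
    have h1 : (X ⊔ Cfsg.pCore 2 H).index ∣ X.index := Subgroup.index_dvd_of_le le_sup_left
    rw [hk] at h1
    obtain ⟨j, -, hj⟩ := (Nat.dvd_prime_pow Nat.prime_two).1 h1
    apply IsPGroup.of_card (n := j)
    rw [← Subgroup.index_eq_card, hj]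

end Cfsg.Agent.S3215
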