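import Mathlib
import Cfsg.Statements.S3224
import Cfsg.Agent.Lib.Helper16.MaxClass

set_option autoImplicit false
open Cfsg

namespace Cfsg.Agent.S3224

open Cfsg.Agent.Helper16

/-- A finite 2-group containing an involution whose centralizer has order 4 is dihedral, quasi-dihedral (semidihedral), or of order 4. -/
theorem result {S : Type*} [Group S] [Finite S] (hS : IsPGroup 2 S)
    (x : S) (hx : orderOf x = 2) (hC : Nat.card ↥(Subgroup.centralizer ({x} : Set S)) = 4) :
    (∃ n : ℕ, Nonempty (S ≃* DihedralGroup n)) ∨ Cfsg.IsQuasiDihedral S ∨ Nat.card S = 4 := by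
  have hF : Fact (Nat.Prime 2) := ⟨Nat.prime_two⟩
  obtain ⟨m, hm⟩ := IsPGroup.iff_card.1 hS
  have h4 : 4 ∣ Nat.card S := by
    rw [← hC]; exact Subgroup.card_subgroup_dvd_card _
  have hm2 : 2 ≤ m := by
    rw [hm] at h4
    have : (2 : ℕ) ^ 2 ∣ 2 ^ m := by simpa using h4
    exact (Nat.pow_dvd_pow_iff_le_right (by norm_num)).1 this
  by_cases hm' : m = 2
  · right; right
    rw [hm, hm']; norm_num
  have hm3 : 3 ≤ m := by omega
  obtain ⟨a, hao, hxa⟩ := exists_cyclic_max_of_centralizer_four m hm3 S hm x hx hC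
  have hcard : Nat.card S = 2 ^ (m - 1 + 1) := by
    rw [hm]; congr 1; omega
  rcases dihedral_or_quasiDihedral_of_cyclic_max (k := m - 1) (by omega) hcard a x hao hx hxa hC
    with h | h
  · exact Or.inl h
  · exact Or.inr (Or.inl h)

end Cfsg.Agent.S3224
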