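import Mathlib
import Cfsg.Statements.S3246
import Cfsg.Agent.Lib.Helper7.PCons3

set_option autoImplicit false
open Cfsg

namespace Cfsg.Agent.S3246

open Cfsg.Agent.Helper7 in
/-- Let G be a finite group whose Sylow 2-subgroup S has a self-centralizing normal subgroup of rank at least 3. Suppose that either every maximal 2-local subgroup of G is 2-constrained with no nontrivial normal subgroup of odd order, or the centralizer of every involution of G is 2-constrained with no nontrivial normal subgroup of odd order. Then S normalizes no nontrivial subgroup of G of odd order and every 2-local subgroup of G is 2-constrained. -/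
theorem result {G : Type*} [Group G] [Finite G]
    (S : Sylow 2 G) (A : Subgroup G) (hA : Cfsg.IsSCN (S : Subgroup G) A) (hA3 : ¬ Cfsg.PRankLE 2 2 ↥A)
    (h : (∀ M : Subgroup G, Cfsg.IsMaximalTwoLocal M → Cfsg.IsPConstrained 2 ↥M ∧ Cfsg.oddCore ↥M = ⊥) ∨
      (∀ t : G, orderOf t = 2 → Cfsg.IsPConstrained 2 ↥(Subgroup.centralizer ({t} : Set G)) ∧
        Cfsg.oddCore ↥(Subgroup.centralizer ({t} : Set G)) = ⊥)) :
    (∀ X : Subgroup G, Odd (Nat.card ↥X) → (S : Subgroup G) ≤ Subgroup.normalizer (X : Set G) → X = ⊥) ∧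
      (∀ T : Subgroup G, IsPGroup 2 ↥T → T ≠ ⊥ → Cfsg.IsPConstrained 2 ↥(Subgroup.normalizer (T : Set G))) := by
  haveI : Fact (Nat.Prime 2) := ⟨Nat.prime_two⟩
  -- every 2-local lies in a maximal 2-local
  have hmax : ∀ N : Subgroup G, Cfsg.IsTwoLocal N → ∃ M : Subgroup G, N ≤ M ∧ Cfsg.IsMaximalTwoLocal M := by
    intro N hN
    obtain ⟨M, hNM, hM⟩ := Finite.exists_le_maximal (p := fun M : Subgroup G => Cfsg.IsTwoLocal M) hN
    refine ⟨M, hNM, hM.prop, ?_⟩
    intro N' hN' hle
    exact le_antisymm (hM.le_of_ge hN' hle) hle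
  have hloc : ∀ b : G, orderOf b = 2 → ∃ M : Subgroup G, Subgroup.centralizer ({b} : Set G) ≤ M ∧
      Cfsg.IsPConstrained 2 ↥M ∧ Cfsg.pPrimeCore 2 ↥M = ⊥ := by
    intro b hb
    rcases h with h | h
    · have hloc : Cfsg.IsTwoLocal (Subgroup.normalizer ((Subgroup.zpowers b : Subgroup G) : Set G)) := by
        refine ⟨Subgroup.zpowers b, ?_, ?_, rfl⟩
        · apply IsPGroup.of_card (n := 1)
          rw [Nat.card_zpowers, hb, pow_one]
        · intro h0
          have : b = 1 := by
            have hm : b ∈ Subgroup.zpowers b := Subgroup.mem_zpowers b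
            rw [h0] at hm
            exact Subgroup.mem_bot.mp hm
          rw [this, orderOf_one] at hb
          omega
      obtain ⟨M, hNM, hM⟩ := hmax _ hloc
      refine ⟨M, ?_, (h M hM).1, (h M hM).2⟩
      refine le_trans ?_ hNM
      intro g hg
      rw [Subgroup.mem_normalizer_iff]
      intro x
      have hgb : b * g = g * b := Subgroup.mem_centralizer_iff.mp hg b rfl
      have hcomm : ∀ y ∈ Subgroup.zpowers b, g * y * g⁻¹ = y := by
        intro y hy
        obtain ⟨k, rfl⟩ := Subgroup.mem_zpowers_iff.mp hy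
        have hc : Commute g b := hgb.symm
        have := (hc.zpow_right k).eq
        rw [this]; group
      constructor
      · intro hx
        rw [hcomm x hx]; exact hx
      · intro hx
        have h4 := hcomm _ hx
        have h5 : g * x * g⁻¹ = x := by
          have h6 : g⁻¹ * (g * (g * x * g⁻¹) * g⁻¹) * g = g⁻¹ * (g * x * g⁻¹) * g := by rw [h4]
          have e1 : g⁻¹ * (g * (g * x * g⁻¹) * g⁻¹) * g = g * x * g⁻¹ := by group
          have e2 : g⁻¹ * (g * x * g⁻¹) * g = x := by group
          rw [e1, e2] at h6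
          exact h6
        rw [← h5]; exact hx
    · exact ⟨_, le_rfl, (h b hb).1, (h b hb).2⟩
  refine ⟨fun X hodd hSX => eq_bot_of_odd_sylow_invariant S A hA hA3 hloc X hodd hSX, ?_⟩
  intro T hT hT1
  rcases h with h | h
  · obtain ⟨M, hNM, hM⟩ := hmax (Subgroup.normalizer (T : Set G)) ⟨T, hT, hT1, rfl⟩
    have hTM : T ≤ M := (Subgroup.le_normalizer).trans hNM
    have h1 := isPConstrained_normalizer_inf 2 M (h M hM).1 T hTM hT
    have h2 : Subgroup.normalizer (T : Set G) ⊓ M = Subgroup.normalizer (T : Set G) := inf_eq_left.mpr hNM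
    rw [h2] at h1
    exact h1
  · exact isPConstrained_normalizer_of_centralizers 2 (fun x hx => (h x hx).1) T hT hT1

end Cfsg.Agent.S3246
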