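import Mathlib
import Cfsg.Statements.S3247
import Cfsg.Agent.Lib.Helper7.PCons1

set_option autoImplicit false
open Cfsg

namespace Cfsg.Agent.S3247

open Cfsg.Agent.Helper7 in
/-- Let G be a finite group and p a prime; here a p-local subgroup means the normalizer of a nontrivial p-subgroup, other than G itself. If every p-local subgroup of G that is maximal among p-local subgroups is p-constrained, or if the centralizer of every element of order p of G is p-constrained, then every p-local subgroup of G is p-constrained. -/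
theorem result {G : Type*} [Group G] [Finite G] (p : ℕ) [hp : Fact p.Prime]
    (h : (∀ M : Subgroup G, (∃ T : Subgroup G, IsPGroup p ↥T ∧ T ≠ ⊥ ∧ M = Subgroup.normalizer (T : Set G)) → M ≠ ⊤ →
        (∀ M' : Subgroup G, (∃ T' : Subgroup G, IsPGroup p ↥T' ∧ T' ≠ ⊥ ∧ M' = Subgroup.normalizer (T' : Set G)) → M' ≠ ⊤ → M ≤ M' → M = M') →
        Cfsg.IsPConstrained p ↥M) ∨
      (∀ x : G, orderOf x = p → Cfsg.IsPConstrained p ↥(Subgroup.centralizer ({x} : Set G))))
    (T : Subgroup G) (hT : IsPGroup p ↥T) (hT1 : T ≠ ⊥) (hTG : Subgroup.normalizer (T : Set G) ≠ ⊤) :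
    Cfsg.IsPConstrained p ↥(Subgroup.normalizer (T : Set G)) := by
  rcases h with h | h
  · set N := Subgroup.normalizer (T : Set G) with hN
    let P : Subgroup G → Prop := fun M =>
      (∃ T' : Subgroup G, IsPGroup p ↥T' ∧ T' ≠ ⊥ ∧ M = Subgroup.normalizer (T' : Set G)) ∧ M ≠ ⊤
    have hPN : P N := ⟨⟨T, hT, hT1, rfl⟩, hTG⟩
    obtain ⟨M, hNM, hMmax⟩ := Finite.exists_le_maximal (p := P) hPN
    have hMc : Cfsg.IsPConstrained p ↥M := by
      apply h M hMmax.prop.1 hMmax.prop.2
      intro M' hM'1 hM'2 hle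
      exact le_antisymm hle (hMmax.le_of_ge ⟨hM'1, hM'2⟩ hle)
    have hTM : T ≤ M := (Subgroup.le_normalizer).trans hNM
    have h1 := isPConstrained_normalizer_inf p M hMc T hTM hT
    have h2 : Subgroup.normalizer (T : Set G) ⊓ M = N := inf_eq_left.mpr hNM
    rw [h2] at h1
    exact h1
  · exact isPConstrained_normalizer_of_centralizers p h T hT hT1

end Cfsg.Agent.S3247
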