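import Mathlib
import Cfsg.Statements.S3261
import Cfsg.Agent.S0848
import Cfsg.Agent.Lib.Helper16.DihedralEightSimple
import Cfsg.Agent.Lib.Helper16.AltSixCent
import Cfsg.Agent.Lib.Helper16.Simple360g
import Cfsg.Agent.Lib.Helper16.Simple168c

set_option autoImplicit false
open Cfsg

namespace Cfsg.Agent.S3261

open Cfsg.Agent.Helper16 in
/-- Let α̃ be an involution of the alternating group A₆ that is a product of two disjoint transpositions (it lies in the centre of a Sylow 2-subgroup of A₆; its centralizer is dihedral of order 8). Let G be a finite group that has no subgroup of index 2 and contains an involution α, central in some Sylow 2-subgroup of G, with C_G(α) ≅ C_{A₆}(α̃). Then G is isomorphic to A₆ or to PSL₂(7). -/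
theorem result {G : Type*} [Group G] [Finite G]
    (hG : ∀ H : Subgroup G, H.index ≠ 2)
    (αt : ↥(alternatingGroup (Fin 6))) (hαt : orderOf αt = 2) (hsupp : (αt : Equiv.Perm (Fin 6)).support.card = 4)
    (α : G) (hα : orderOf α = 2) (S : Sylow 2 G) (hαS : α ∈ (S : Subgroup G)) (hαc : ∀ s ∈ (S : Subgroup G), s * α = α * s)
    (e : ↥(Subgroup.centralizer ({α} : Set G)) ≃* ↥(Subgroup.centralizer ({αt} : Set ↥(alternatingGroup (Fin 6))))) :
    Nonempty (G ≃* ↥(alternatingGroup (Fin 6))) ∨
      (∃ (F : Type) (_ : Field F) (_ : Fintype F), Fintype.card F = 7 ∧ Nonempty (G ≃* Matrix.ProjectiveSpecialLinearGroup (Fin 2) F)) := by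
  classical
  have : Fintype G := Fintype.ofFinite G
  have hF : Fact (Nat.Prime 2) := ⟨Nat.prime_two⟩
  obtain ⟨e0⟩ := AltSix.centralizer_equiv_dihedral αt hαt hsupp
  have e' : Subgroup.centralizer ({α} : Set G) ≃* DihedralGroup 4 := e.trans e0
  have hcardD : Nat.card (Subgroup.centralizer ({α} : Set G)) = 2 ^ 3 := by
    rw [Nat.card_congr e'.toEquiv, DihedralGroup.nat_card]; norm_num
  have hD2 : IsPGroup 2 (Subgroup.centralizer ({α} : Set G)) := IsPGroup.of_card (n := 3) hcardD
  obtain ⟨a, j, h, hj⟩ := exists_isDihedralSub (Subgroup.centralizer ({α} : Set G)) hD2 4 e'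
  have hj2 : j = 2 := by
    have h4 : (2 : ℕ) ^ 2 = 2 ^ j := by rw [← hj]; norm_num
    exact (Nat.pow_right_injective (le_refl 2) h4).symm
  subst hj2
  have hconj := DihEight.conj_of_no_index_two h hα (fun M _ => hG M)
  obtain ⟨d, s, hd0, hdn, hd1n, hs, heq⟩ := DihEight.exists_degree_equation h hα hconj
  obtain ⟨P, hP⟩ := DihEight.exists_sylow_eq h hα
  have hn0 : Nat.card G ≠ 0 := Nat.card_pos.ne'
  have hfac : (Nat.card G).factorization 2 = 3 := by
    have h1 := P.card_eq_multiplicity
    rw [hP, hcardD] at h1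
    exact (Nat.pow_right_injective (le_refl 2) h1).symm
  have h8 : 8 ∣ Nat.card G := by
    have := Nat.ordProj_dvd (Nat.card G) 2
    rw [hfac] at this
    exact this
  have h16 : ¬ 16 ∣ Nat.card G := by
    have := Nat.pow_succ_factorization_not_dvd hn0 Nat.prime_two
    rw [hfac] at this
    exact this
  have hcard := Cfsg.Agent.S0848.order_of_equation (Nat.card G) d s hn0 hd0 hdn hd1n hs h8 h16 heq
  have hsimple : IsSimpleGroup G := DihEight.isSimpleGroup h hα hconj
  rcases hcard with h168 | h360
  · right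
    obtain ⟨e1⟩ := O168.simple_168_equiv_psl h168
    exact ⟨ZMod 7, inferInstance, inferInstance, ZMod.card 7, ⟨e1⟩⟩
  · left
    exact O360.simple_360_equiv_alt h360 (DihEight.dihCent h hconj)

end Cfsg.Agent.S3261
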