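import Mathlib
import Cfsg.Statements.S3266
import Cfsg.Agent.Lib.Helper11.InvGraph3
import Cfsg.Agent.Lib.Helper11.InvGraph6

set_option autoImplicit false
open Cfsg

namespace Cfsg.Agent.S3266

theorem result {F : Type*} [Field F] [Fintype F] (hF : 4 ≤ Fintype.card F)
    (t : Matrix.ProjectiveSpecialLinearGroup (Fin 2) F) (ht : orderOf t = 2) :
    (SimpleGraph.fromRel fun x y : {x : Matrix.ProjectiveSpecialLinearGroup (Fin 2) F // IsConj t x} =>
        Odd (orderOf (x.1 * y.1))).Connected ∧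
      (SimpleGraph.fromRel fun x y : {x : Matrix.ProjectiveSpecialLinearGroup (Fin 2) F // IsConj t x} =>
        Odd (orderOf (x.1 * y.1))).diam = 2 := by
  obtain ⟨p, hp⟩ := CharP.exists F
  haveI := hp
  have hpp : p.Prime := CharP.char_is_prime F p
  haveI : Fact p.Prime := ⟨hpp⟩
  by_cases hp2 : p = 2
  · subst hp2
    exact Cfsg.Agent.Helper11.InvGraph.invgraph_even hF t ht
  · by_cases hm1 : IsSquare (-1 : F)
    · obtain ⟨i, hi⟩ := hm1
      exact Cfsg.Agent.Helper11.InvGraph.invgraph_sq p hp2 i hi.symm t ht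
    · exact Cfsg.Agent.Helper11.InvGraph.invgraph_nonsq p hm1 hF t ht

end Cfsg.Agent.S3266
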