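import Mathlib
import Cfsg.Statements.S3269
import Cfsg.Agent.S0215
import Cfsg.Agent.Lib.Helper16.QuatProdA
import Cfsg.Agent.Lib.Helper16.QuatProdC

set_option autoImplicit false
open Cfsg

namespace Cfsg.Agent.S3269

open Cfsg.Agent.Helper16.QuatProd in
/-- Let G be a finite group whose Sylow 2-subgroup S is an internal direct product Q × R with Q generalized quaternion (of order at least 8) and R a subgroup all of whose involutions are central in R. Then G is not simple. In particular no finite simple group has a Sylow 2-subgroup that is a direct product of one or more generalized quaternion groups. -/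
theorem result {G : Type*} [Group G] [Finite G]
    (S : Sylow 2 G) (Q R : Subgroup G) (hQR : Cfsg.IsInternalDirectProduct Q R (S : Subgroup G))
    (n : ℕ) (hn : 1 ≤ n) (eQ : ↥Q ≃* QuaternionGroup (2 ^ n))
    (hR : ∀ r ∈ R, orderOf r = 2 → ∀ s ∈ R, r * s = s * r) :
    ¬ IsSimpleGroup G := by
  intro hsimple
  obtain ⟨hQS, hRS, hcomm, hdisj, hsup⟩ := hQR
  have hk1 : 1 ≤ 2 ^ n := Nat.one_le_two_pow
  have hk2 : 2 ≤ 2 ^ n := by
    calc 2 = 2 ^ 1 := by norm_num
      _ ≤ 2 ^ n := Nat.pow_le_pow_right (by norm_num) hn
  -- the elements `z` and `b`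
  set zq : ↥Q := eQ.symm (QuaternionGroup.a ((2 ^ n : ℕ) : ZMod (2 * 2 ^ n))) with hzq
  set bq : ↥Q := eQ.symm (QuaternionGroup.xa 0) with hbq
  have hsetup : Setup (S : Subgroup G) Q R (zq : G) (bq : G) := by
    refine ⟨hQS, hRS, hcomm, hdisj, hsup, zq.2, ?_, ?_, bq.2, ?_, ?_, ?_, hR⟩
    · intro h1
      have : zq = 1 := Subtype.ext h1
      rw [hzq, ← eQ.symm.map_one] at this
      exact a_k_ne_one hk1 (eQ.symm.injective this)
    · have : zq * zq = 1 := by
        rw [hzq, ← map_mul, a_k_sq, map_one]
      have := congrArg Subtype.val this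
      simpa using this
    · have : bq * bq = zq := by
        rw [hbq, hzq, ← map_mul, xa_zero_sq]
      have := congrArg Subtype.val this
      simpa using this
    · intro x hx hxx
      have h1 : (⟨x, hx⟩ : ↥Q) * ⟨x, hx⟩ = 1 := Subtype.ext hxx
      have h2 : eQ ⟨x, hx⟩ * eQ ⟨x, hx⟩ = 1 := by rw [← map_mul, h1, map_one]
      rcases eq_one_or_eq_of_sq hk1 _ h2 with h3 | h3
      · left
        have : (⟨x, hx⟩ : ↥Q) = 1 := by
          apply eQ.injective
          rw [h3, map_one]
        exact congrArg Subtype.val this
      · right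
        have : (⟨x, hx⟩ : ↥Q) = zq := by
          apply eQ.injective
          rw [h3, hzq, MulEquiv.apply_symm_apply]
        exact congrArg Subtype.val this
    · intro c hc hcx
      have h2 : eQ ⟨c, hc⟩ * eQ ⟨c, hc⟩ = 1 := by
        apply sq_eq_one_of_central hk2
        intro x
        obtain ⟨y, rfl⟩ := eQ.surjective x
        rw [← map_mul, ← map_mul]
        congr 1
        apply Subtype.ext
        exact hcx y y.2
      have h3 : (⟨c, hc⟩ : ↥Q) * ⟨c, hc⟩ = 1 := by
        apply eQ.injective
        rw [map_mul, h2, map_one]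
      exact congrArg Subtype.val h3
  obtain ⟨e, he2, heS, hiso⟩ := hsetup.exists_isolated S
  obtain ⟨N0, hN0, hodd, hcommN⟩ := Cfsg.Agent.S0215.result S e he2 heS hiso
  have he1 : e ≠ 1 := by
    intro h
    rw [h, orderOf_one] at he2
    norm_num at he2
  rcases hN0.eq_bot_or_eq_top with h0 | h0
  · -- `e` is central, so `zpowers e` is a normal subgroup
    have hcen : ∀ g : G, e * g = g * e := by
      intro g
      have := hcommN g
      rw [h0, Subgroup.mem_bot] at this
      calc e * g = (e * g * e⁻¹ * g⁻¹) * (g * e) := by group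
        _ = g * e := by rw [this, one_mul]
    have hnorm : (Subgroup.zpowers e).Normal := by
      constructor
      intro x hx g
      obtain ⟨k, rfl⟩ := Subgroup.mem_zpowers_iff.1 hx
      have : g * e ^ k * g⁻¹ = e ^ k := by
        have hc : Commute g (e ^ k) := (Commute.zpow_right (hcen g).symm k)
        calc g * e ^ k * g⁻¹ = e ^ k * g * g⁻¹ := by rw [hc.eq]
          _ = e ^ k := by group
      rw [this]
      exact Subgroup.zpow_mem _ (Subgroup.mem_zpowers e) k
    rcases hnorm.eq_bot_or_eq_top with h1 | h1
    · apply he1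
      have : e ∈ Subgroup.zpowers e := Subgroup.mem_zpowers e
      rw [h1, Subgroup.mem_bot] at this
      exact this
    · -- every element squares to one, but `b * b = z ≠ 1`
      have hb : (bq : G) ∈ Subgroup.zpowers e := by rw [h1]; trivial
      obtain ⟨k, hk⟩ := Subgroup.mem_zpowers_iff.1 hb
      have hee : e * e = 1 := by
        have := pow_orderOf_eq_one e
        rw [he2, pow_two] at this
        exact this
      have : (bq : G) * bq = 1 := by
        rw [← hk, ← zpow_add, ← two_mul, zpow_mul, zpow_two, hee, one_zpow]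
      rw [hsetup.hbz] at this
      exact hsetup.hz1 this
  · -- `G` has odd order but contains an involution
    have hcard : Nat.card N0 = Nat.card G := by
      rw [h0]
      exact Nat.card_congr Subgroup.topEquiv.toEquiv
    rw [hcard] at hodd
    have hdvd : 2 ∣ Nat.card G := by
      rw [← he2]
      exact orderOf_dvd_natCard e
    rcases hodd with ⟨m, hm⟩
    omega

end Cfsg.Agent.S3269
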