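import Mathlib
import Cfsg.Statements.S3276
import Cfsg.Agent.Lib.Helper16.Dihedral

set_option autoImplicit false
open Cfsg

namespace Cfsg.Agent.S3276

open Cfsg.Agent.Helper16

/-- Let x and y be commuting, non-conjugate involutions of a finite group G, and suppose that for every involution u commuting with x, each conjugate of y that commutes with u also commutes with y. Then the normal closure of y is a proper, normal, elementary abelian 2-subgroup of G; and if y is the only involution of that normal closure commuting with x, it has order at most 4. -/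
theorem result {G : Type*} [Group G] [Finite G] (x y : G) (hx : orderOf x = 2) (hy : orderOf y = 2)
    (hxy : Commute x y) (hnc : ¬ IsConj x y)
    (hstar : ∀ u : G, orderOf u = 2 → Commute u x → ∀ g : G, Commute (g * y * g⁻¹) u → Commute (g * y * g⁻¹) y) :
    Subgroup.normalClosure ({y} : Set G) ≠ ⊤ ∧ Cfsg.IsElementaryAbelian 2 (Subgroup.normalClosure ({y} : Set G)) ∧
      ((∀ u ∈ Subgroup.normalClosure ({y} : Set G), orderOf u = 2 → Commute u x → u = y) →
        Nat.card ↥(Subgroup.normalClosure ({y} : Set G)) ≤ 4) := by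
  have hx2 : x * x = 1 := by rw [← pow_two, ← hx, pow_orderOf_eq_one]
  have hy2 : y * y = 1 := by rw [← pow_two, ← hy, pow_orderOf_eq_one]
  have hxinv : x⁻¹ = x := inv_eq_of_mul_eq_one_left hx2
  have hyinv : y⁻¹ = y := inv_eq_of_mul_eq_one_left hy2
  have hx1 : x ≠ 1 := by
    intro h; rw [h, orderOf_one] at hx; omega
  have hconj2 : ∀ g : G, (g * y * g⁻¹) * (g * y * g⁻¹) = 1 := by
    intro g
    have : (g * y * g⁻¹) * (g * y * g⁻¹) = g * (y * y) * g⁻¹ := by group
    rw [this, hy2, mul_one, mul_inv_cancel]
  -- every conjugate of y commutes with y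
  have hcy : ∀ g : G, Commute (g * y * g⁻¹) y := by
    intro g
    rcases involution_dichotomy x (g * y * g⁻¹) hx2 (hconj2 g) with ⟨c, hc⟩ | ⟨z, hz, hzx, hzt⟩
    · exfalso
      apply hnc
      rw [isConj_iff]
      refine ⟨g⁻¹ * c, ?_⟩
      have : g⁻¹ * c * x * (g⁻¹ * c)⁻¹ = g⁻¹ * (c * x * c⁻¹) * g := by group
      rw [this, hc]; group
    · exact hstar z hz hzx g hzt.symm
  have hcc : ∀ g h : G, Commute (g * y * g⁻¹) (h * y * h⁻¹) := by
    intro g h
    have h1 : (h⁻¹ * g * y * (h⁻¹ * g)⁻¹) * y = y * (h⁻¹ * g * y * (h⁻¹ * g)⁻¹) := hcy (h⁻¹ * g)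
    show (g * y * g⁻¹) * (h * y * h⁻¹) = (h * y * h⁻¹) * (g * y * g⁻¹)
    calc (g * y * g⁻¹) * (h * y * h⁻¹)
        = h * ((h⁻¹ * g * y * (h⁻¹ * g)⁻¹) * y) * h⁻¹ := by group
      _ = h * (y * (h⁻¹ * g * y * (h⁻¹ * g)⁻¹)) * h⁻¹ := by rw [h1]
      _ = (h * y * h⁻¹) * (g * y * g⁻¹) := by group
  have hgen : ∀ a ∈ Group.conjugatesOfSet ({y} : Set G), ∃ g, a = g * y * g⁻¹ := by
    intro a ha
    rw [Group.mem_conjugatesOfSet_iff] at ha
    obtain ⟨b, hb, hba⟩ := ha
    rw [Set.mem_singleton_iff] at hb
    subst hb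
    rw [isConj_iff] at hba
    obtain ⟨c, hc⟩ := hba
    exact ⟨c, hc.symm⟩
  have hN1 : Subgroup.normalClosure ({y} : Set G)
      ≤ Subgroup.centralizer (Group.conjugatesOfSet ({y} : Set G)) := by
    unfold Subgroup.normalClosure
    rw [Subgroup.closure_le]
    intro a ha
    obtain ⟨g, rfl⟩ := hgen a ha
    rw [SetLike.mem_coe, Subgroup.mem_centralizer_iff]
    intro b hb
    obtain ⟨h, rfl⟩ := hgen b hb
    exact hcc h g
  have hN2 : Subgroup.normalClosure ({y} : Set G)
      ≤ Subgroup.centralizer (Subgroup.normalClosure ({y} : Set G) : Set G) := by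
    conv_lhs => unfold Subgroup.normalClosure
    rw [Subgroup.closure_le]
    intro b hb
    rw [SetLike.mem_coe, Subgroup.mem_centralizer_iff]
    intro a ha
    have := hN1 ha
    rw [Subgroup.mem_centralizer_iff] at this
    exact (this b hb).symm
  have hNc : ∀ a ∈ Subgroup.normalClosure ({y} : Set G),
      ∀ b ∈ Subgroup.normalClosure ({y} : Set G), a * b = b * a := by
    intro a ha b hb
    have := hN2 hb
    rw [Subgroup.mem_centralizer_iff] at this
    exact this a ha
  have hN2' : ∀ a ∈ Subgroup.normalClosure ({y} : Set G), a ^ 2 = 1 := by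
    intro a ha
    have key : ∀ a ∈ Subgroup.closure (Group.conjugatesOfSet ({y} : Set G)), a ^ 2 = 1 := by
      intro a ha
      induction ha using Subgroup.closure_induction with
      | mem a ha =>
        obtain ⟨g, rfl⟩ := hgen a ha
        rw [pow_two]; exact hconj2 g
      | one => simp
      | mul a b ha hb iha ihb =>
        have hc : Commute a b := hNc a ha b hb
        rw [hc.mul_pow, iha, ihb, one_mul]
      | inv a ha iha => rw [inv_pow, iha, inv_one]
    exact key a ha
  have hyN : y ∈ Subgroup.normalClosure ({y} : Set G) :=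
    Subgroup.subset_normalClosure (Set.mem_singleton y)
  refine ⟨?_, ⟨isMulCommutative_iff.2 (fun a b => Subtype.ext (hNc a a.2 b b.2)), hN2'⟩, ?_⟩
  · intro htop
    have hcomm : ∀ a b : G, a * b = b * a := by
      intro a b
      exact hNc a (htop ▸ Subgroup.mem_top a) b (htop ▸ Subgroup.mem_top b)
    have key : ∀ a ∈ Subgroup.closure (Group.conjugatesOfSet ({y} : Set G)), a = 1 ∨ a = y := by
      intro a ha
      induction ha using Subgroup.closure_induction with
      | mem a ha =>
        obtain ⟨g, rfl⟩ := hgen a ha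
        right
        rw [hcomm g y, mul_assoc, mul_inv_cancel, mul_one]
      | one => left; rfl
      | mul a b ha hb iha ihb =>
        rcases iha with rfl | rfl <;> rcases ihb with rfl | rfl
        · left; simp
        · right; simp
        · right; simp
        · left; exact hy2
      | inv a ha iha =>
        rcases iha with rfl | rfl
        · left; simp
        · right; exact hyinv
    have hxN : x ∈ Subgroup.normalClosure ({y} : Set G) := htop ▸ Subgroup.mem_top x
    rcases key x hxN with h | h
    · exact hx1 h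
    · exact hnc (h ▸ IsConj.refl x)
  · intro hu
    have hnormal : (Subgroup.normalClosure ({y} : Set G)).Normal := Subgroup.normalClosure_normal
    -- elements of N commuting with x are 1 or y
    have hfix : ∀ u ∈ Subgroup.normalClosure ({y} : Set G), x * u * x⁻¹ = u → u = 1 ∨ u = y := by
      intro u huN hux
      by_cases h1 : u = 1
      · left; exact h1
      · right
        apply hu u huN (orderOf_eq_prime (hN2' u huN) h1)
        exact (mul_inv_eq_iff_eq_mul.1 hux).symm
    let φ : ↥(Subgroup.normalClosure ({y} : Set G)) →* ↥(Subgroup.normalClosure ({y} : Set G)) :=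
      MonoidHom.mk' (fun n => ⟨(n : G) * (x * (n : G) * x⁻¹),
          Subgroup.mul_mem _ n.2 (hnormal.conj_mem n n.2 x)⟩) (by
        intro n m
        apply Subtype.ext
        have hc : (m : G) * (x * (n : G) * x⁻¹) = (x * (n : G) * x⁻¹) * (m : G) :=
          hNc _ m.2 _ (hnormal.conj_mem n n.2 x)
        show ((n * m : ↥(Subgroup.normalClosure ({y} : Set G))) : G)
              * (x * ((n * m : ↥(Subgroup.normalClosure ({y} : Set G))) : G) * x⁻¹)
            = ((n : G) * (x * (n : G) * x⁻¹)) * ((m : G) * (x * (m : G) * x⁻¹))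
        rw [Subgroup.coe_mul]
        calc (n : G) * (m : G) * (x * ((n : G) * (m : G)) * x⁻¹)
            = (n : G) * ((m : G) * (x * (n : G) * x⁻¹)) * (x * (m : G) * x⁻¹) := by group
          _ = (n : G) * ((x * (n : G) * x⁻¹) * (m : G)) * (x * (m : G) * x⁻¹) := by rw [hc]
          _ = _ := by group)
    have hφ : ∀ n : ↥(Subgroup.normalClosure ({y} : Set G)),
        ((φ n : ↥(Subgroup.normalClosure ({y} : Set G))) : G) = (n : G) * (x * (n : G) * x⁻¹) :=
      fun n => rfl
    set y' : ↥(Subgroup.normalClosure ({y} : Set G)) := ⟨y, hyN⟩ with hy'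
    have hy'ord : orderOf y' = 2 := by
      rw [← hy, ← Subgroup.orderOf_coe]
    have hcardZ : Nat.card (Subgroup.zpowers y') = 2 := by
      rw [Nat.card_zpowers, hy'ord]
    have hmemZ : ∀ n : ↥(Subgroup.normalClosure ({y} : Set G)),
        ((n : G) = 1 ∨ (n : G) = y) → n ∈ Subgroup.zpowers y' := by
      intro n hn
      rcases hn with h | h
      · have : n = 1 := Subtype.ext h
        rw [this]; exact Subgroup.one_mem _
      · have : n = y' := Subtype.ext h
        rw [this]; exact Subgroup.mem_zpowers y'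
    have hker : φ.ker ≤ Subgroup.zpowers y' := by
      intro n hn
      rw [MonoidHom.mem_ker] at hn
      apply hmemZ
      apply hfix _ n.2
      have h1 : (n : G) * (x * (n : G) * x⁻¹) = 1 := by
        rw [← hφ, hn]; rfl
      have h2 : (n : G) * (n : G) = 1 := by rw [← pow_two]; exact hN2' _ n.2
      exact mul_left_cancel (h1.trans h2.symm)
    have hrange : φ.range ≤ Subgroup.zpowers y' := by
      rintro _ ⟨n, rfl⟩
      apply hmemZ
      apply hfix _ (φ n).2
      rw [hφ]
      have hc : (n : G) * (x * (n : G) * x⁻¹) = (x * (n : G) * x⁻¹) * (n : G) :=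
        hNc _ n.2 _ (hnormal.conj_mem n n.2 x)
      calc x * ((n : G) * (x * (n : G) * x⁻¹)) * x⁻¹
          = (x * (n : G) * x⁻¹) * ((x * x) * (n : G) * (x * x)⁻¹) := by group
        _ = (x * (n : G) * x⁻¹) * (n : G) := by rw [hx2]; group
        _ = _ := hc.symm
    have h1 : Nat.card φ.ker ≤ 2 := hcardZ ▸ Subgroup.card_le_of_le hker
    have h2 : Nat.card φ.range ≤ 2 := hcardZ ▸ Subgroup.card_le_of_le hrange
    have h3 : Nat.card φ.ker * φ.ker.index = Nat.card ↥(Subgroup.normalClosure ({y} : Set G)) :=
      Subgroup.card_mul_index _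
    rw [Subgroup.index_ker] at h3
    rw [← h3]
    calc Nat.card φ.ker * Nat.card φ.range ≤ 2 * 2 := Nat.mul_le_mul h1 h2
      _ = 4 := rfl

end Cfsg.Agent.S3276
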