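import Mathlib
import Cfsg.Statements.S3277
import Cfsg.Agent.Lib.Helper16.FourCentMain
import Cfsg.Agent.Lib.Helper16.FourCentEight
-- import your own Cfsg.Agent.* helpers here

set_option autoImplicit false
open Cfsg

namespace Cfsg.Agent.S3277

open Cfsg.Agent.Helper16

/-- Let G be a finite group containing an involution whose centralizer is elementary abelian of order 4. If G has no normal 2-complement and no normal elementary abelian 2-subgroup of order 2 or 4, then G is isomorphic to the alternating group of degree 5 (that is, to PSL(2, 5)). -/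
theorem result {G : Type*} [Group G] [Finite G] (x : G) (hx : orderOf x = 2)
    (hC4 : Nat.card ↥(Subgroup.centralizer ({x} : Set G)) = 4) (hCe : ∀ c ∈ Subgroup.centralizer ({x} : Set G), c ^ 2 = 1)
    (hnc : ¬ Cfsg.HasNormalPComplement 2 G)
    (hne : ∀ E : Subgroup G, E.Normal → Cfsg.IsElementaryAbelian 2 E → Nat.card ↥E ≠ 2 ∧ Nat.card ↥E ≠ 4) :
    Nonempty (G ≃* ↥(alternatingGroup (Fin 5))) := by
  classical
  by_cases h8 : 8 ∣ Nat.card G
  · exfalso
    obtain ⟨E, hEn, hEe, hcard⟩ := FourCent.exists_normal_of_eight_dvd x hx hC4 hCe h8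
    have h1 := hne E hEn hEe
    rcases hcard with h | h
    · exact h1.1 h
    · exact h1.2 h
  · rcases FourCent.main' x hx hC4 h8 with h1 | ⟨u, hf, h12⟩ | ⟨u, hf, h60⟩
    · exact absurd h1 hnc
    · exfalso
      set C : Subgroup G := Subgroup.centralizer ({x} : Set G) with hC
      -- the class of `x` has three elements
      have hcls := FourCent.card_eq_mul_card_conj x
      rw [h12, hC4] at hcls
      have h3 : Nat.card {c : G // IsConj x c} = 3 := by omega
      -- the nonidentity elements of `C` are conjugates of `x`
      have hconj : ∀ c ∈ C, c ≠ 1 → IsConj x c := by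
        intro c hc hc1
        obtain ⟨k, hk⟩ := hf.conj c (Subgroup.mem_centralizer_singleton_iff.1 hc) hc1
        exact (isConj_iff.2 ⟨k, hk⟩).symm
      let φ : {c : C // c ≠ 1} → {c : G // IsConj x c} := fun c =>
        ⟨c.1.1, hconj c.1.1 c.1.2 (fun h => c.2 (Subtype.ext h))⟩
      have hφinj : Function.Injective φ := by
        intro c c' h
        apply Subtype.ext
        apply Subtype.ext
        have h' : ((φ c).1 : G) = (φ c').1 := congrArg Subtype.val h
        exact h'
      have hcard3 : Nat.card {c : C // c ≠ 1} = 3 := by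
        have : Fintype C := Fintype.ofFinite C
        rw [Nat.card_eq_fintype_card, Fintype.card_subtype_compl, Fintype.card_subtype_eq,
          ← Nat.card_eq_fintype_card, hC4]
      have hφbij : Function.Bijective φ := by
        rw [Nat.bijective_iff_injective_and_card]
        exact ⟨hφinj, by rw [hcard3, h3]⟩
      have hCn : C.Normal := by
        constructor
        intro c hc g
        by_cases hc1 : c = 1
        · rw [hc1]; simp
        · have h4 : IsConj x (g * c * g⁻¹) :=
            (hconj c hc hc1).trans (isConj_iff.2 ⟨g, rfl⟩)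
          obtain ⟨c', hc'⟩ := hφbij.2 ⟨g * c * g⁻¹, h4⟩
          have h5 : (c'.1.1 : G) = g * c * g⁻¹ := congrArg Subtype.val hc'
          rw [← h5]
          exact c'.1.2
      have hCcomm : IsMulCommutative C :=
        IsPGroup.isMulCommutative_of_card_eq_prime_sq (p := 2) (by rw [hC4]; norm_num)
      exact (hne C hCn ⟨hCcomm, hCe⟩).2 hC4
    · exact hf.equiv_alt_five h8 h60

end Cfsg.Agent.S3277
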