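import Mathlib
import Cfsg.Statements.S3279
import Cfsg.Agent.Lib.Helper16.ThreeInvC

set_option autoImplicit false
open Cfsg

namespace Cfsg.Agent.S3279

open Cfsg.Agent.Helper16.ThreeInv

/-- Four pairwise distinct involutions in the centralizer of `x` contradict the bound. -/
theorem four_involutions_false {G : Type*} [Group G] [Finite G] (x : G)
    (h3 : Nat.card {u : ↥(Subgroup.centralizer ({x} : Set G)) // orderOf u = 2} ≤ 3)
    (a : Fin 4 → G) (ha : ∀ i, orderOf (a i) = 2) (hax : ∀ i, a i * x = x * a i)
    (hinj : Function.Injective a) : False := by
  have hmem : ∀ i, a i ∈ Subgroup.centralizer ({x} : Set G) := by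
    intro i
    rw [Subgroup.mem_centralizer_iff]
    intro y hy
    rw [Set.mem_singleton_iff] at hy
    subst hy
    exact (hax i).symm
  let f : Fin 4 → {u : ↥(Subgroup.centralizer ({x} : Set G)) // orderOf u = 2} :=
    fun i => ⟨⟨a i, hmem i⟩, by rw [Subgroup.orderOf_mk]; exact ha i⟩
  have hf : Function.Injective f := by
    intro i j hij
    apply hinj
    have := congrArg (fun u => ((u.1 : ↥(Subgroup.centralizer ({x} : Set G))) : G)) hij
    exact this
  have h4 := Nat.card_le_card_of_injective f hf
  rw [Nat.card_eq_fintype_card, Fintype.card_fin] at h4
  omega

/-- Let G be a finite simple group and x an involution of G whose centralizer contains at most three involutions. Then C_G(x) contains a Sylow 2-subgroup of G, and all involutions of G are conjugate. -/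
theorem result {G : Type*} [Group G] [Finite G] [IsSimpleGroup G] (x : G) (hx : orderOf x = 2)
    (h3 : Nat.card {u : ↥(Subgroup.centralizer ({x} : Set G)) // orderOf u = 2} ≤ 3) :
    (∃ S : Sylow 2 G, (S : Subgroup G) ≤ Subgroup.centralizer ({x} : Set G)) ∧
      ∀ u v : G, orderOf u = 2 → orderOf v = 2 → IsConj u v := by
  classical
  have : Fact (Nat.Prime 2) := ⟨Nat.prime_two⟩
  have hmemC : ∀ y : G, y ∈ Subgroup.centralizer ({x} : Set G) ↔ y * x = x * y := by
    intro y
    rw [Subgroup.mem_centralizer_iff]
    constructor
    · intro h; exact (h x (Set.mem_singleton x)).symm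
    · intro h y' hy'
      rw [Set.mem_singleton_iff] at hy'
      subst hy'
      exact h.symm
  by_cases hab : ∀ y z : G, y * z = z * y
  · -- the abelian case: `G` has order two
    constructor
    · obtain ⟨S⟩ : Nonempty (Sylow 2 G) := inferInstance
      exact ⟨S, fun s _ => (hmemC s).mpr (hab s x)⟩
    · intro u v hu hv
      have hN : (Subgroup.zpowers x).Normal := by
        constructor
        intro n hn g
        have : g * n * g⁻¹ = n := by rw [hab g n, mul_assoc, mul_inv_cancel, mul_one]
        rw [this]; exact hn
      have htop : Subgroup.zpowers x = ⊤ := by
        rcases hN.eq_bot_or_eq_top with h | h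
        · exfalso
          have h1 : x ∈ Subgroup.zpowers x := Subgroup.mem_zpowers x
          rw [h] at h1
          exact ne_one_of_inv hx (Subgroup.mem_bot.mp h1)
        · exact h
      have hcard : Nat.card G = 2 := by
        rw [← Subgroup.card_top (G := G), ← htop, Nat.card_zpowers, hx]
      obtain ⟨w, -, hw⟩ := (Nat.card_eq_two_iff' (1 : G)).mp hcard
      have h1 := hw u (ne_one_of_inv hu)
      have h2 := hw v (ne_one_of_inv hv)
      rw [h1, h2]
  · -- the non-abelian case
    have hdich : (∀ u : G, orderOf u = 2 → u * x = x * u → u = x) ∨ ∃ b c, Triple x b c := by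
      by_cases h : ∀ u : G, orderOf u = 2 → u * x = x * u → u = x
      · exact Or.inl h
      · right
        push Not at h
        obtain ⟨b, hb, hbx, hne⟩ := h
        have hc2 : orderOf (x * b) = 2 := inv_mul_of_commute hx hb hbx.symm (Ne.symm hne)
        have hcx : x * b ≠ x := by
          intro h1
          apply ne_one_of_inv hb
          have : x * b = x * 1 := by rw [mul_one]; exact h1
          exact mul_left_cancel this
        have hcb : x * b ≠ b := by
          intro h1
          apply ne_one_of_inv hx
          have : x * b = 1 * b := by rw [one_mul]; exact h1
          exact mul_right_cancel this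
        have hcomm : x * b * x = x * (x * b) := by
          rw [mul_assoc, hbx]
        refine ⟨b, x * b, ⟨hx, hb, hne, hbx.symm, rfl, ?_⟩⟩
        intro u hu hux
        by_contra hcon
        push Not at hcon
        obtain ⟨h1, h2, h3'⟩ := hcon
        apply four_involutions_false x h3 ![x, b, x * b, u]
        · intro i
          fin_cases i
          · exact hx
          · exact hb
          · exact hc2
          · exact hu
        · intro i
          fin_cases i
          · rfl
          · exact hbx
          · exact hcomm
          · exact hux
        · intro i j hij
          fin_cases i <;> fin_cases j <;>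
            first
              | rfl
              | exact absurd hij hne
              | exact absurd hij.symm hne
              | exact absurd hij hcx
              | exact absurd hij.symm hcx
              | exact absurd hij hcb
              | exact absurd hij.symm hcb
              | exact absurd hij h1
              | exact absurd hij.symm h1
              | exact absurd hij h2
              | exact absurd hij.symm h2
              | exact absurd hij h3'
              | exact absurd hij.symm h3'
    obtain ⟨S, hS⟩ := exists_sylow_le_centralizer hab hx hdich
    refine ⟨⟨S, fun s hs => (hmemC s).mpr (hS s hs)⟩, ?_⟩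
    suffices hall : ∀ v : G, orderOf v = 2 → IsConj x v by
      intro u v hu hv
      exact (hall u hu).symm.trans (hall v hv)
    rcases hdich with h | ⟨b, c, hT⟩
    · intro v hv
      obtain ⟨k, hk⟩ := exists_conj_mem_of_inv S hv
      have h1 : orderOf (k * v * k⁻¹) = 2 := by rw [orderOf_conj']; exact hv
      have h2 := h _ h1 (hS _ hk)
      rw [← h2]
      exact (isConj_iff.mpr ⟨k, rfl⟩ : IsConj v (k * v * k⁻¹)).symm
    · have hxb : IsConj x b := by
        by_contra hxb
        by_cases hxc : IsConj x c
        · exact hT.symm.false_of_isConj hab hxc hxb
        · by_cases hbc : IsConj b c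
          · exact hT.false_of_two_classes hab S hS hxb hxc hbc
          · exact hT.false_of_three_classes hab S hS hxb hxc hbc
      have hxc : IsConj x c := by
        by_contra hxc
        exact hT.false_of_isConj hab hxb hxc
      intro v hv
      rcases hT.isConj_cases S hS hv with h1 | h1 | h1
      · exact h1
      · exact hxb.trans h1
      · exact hxc.trans h1

end Cfsg.Agent.S3279
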