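import Mathlib
import Cfsg.Statements.S3294
import Cfsg.Agent.Lib.Helper16.QuatLike
import Cfsg.Agent.Lib.Helper16.Solvable2
import Cfsg.Agent.Lib.Helper7.PComp
import Cfsg.Agent.Lib.Helper22.PPrimeCore
import Cfsg.Agent.Lib.Helper14.Basic

set_option autoImplicit false
open Cfsg

namespace Cfsg.Agent.S3294

open Cfsg.Agent.Helper16

/-- A finite solvable group whose Sylow 2-subgroups are generalized quaternion of order at least 32 has a normal 2-complement. -/
theorem result {G : Type*} [Group G] [Finite G] (hsol : Group.IsSolvable G) (T : Sylow 2 G) (n : ℕ) (hn : 3 ≤ n) (hT : Nonempty ((T : Subgroup G) ≃* QuaternionGroup (2 ^ n))) : Cfsg.HasNormalPComplement 2 G := by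
  have hF : Fact (Nat.Prime 2) := ⟨Nat.prime_two⟩
  obtain ⟨e⟩ := hT
  have hOc : (Nat.card (pPrimeCore 2 G)).Coprime 2 :=
    Cfsg.Agent.Helper22.card_pPrimeCore_coprime 2
  have hπs : Function.Surjective (QuotientGroup.mk' (pPrimeCore 2 G)) :=
    QuotientGroup.mk'_surjective _
  have hsol' : Group.IsSolvable (G ⧸ pPrimeCore 2 G) := inferInstance
  have hO' : pPrimeCore 2 (G ⧸ pPrimeCore 2 G) = ⊥ :=
    Cfsg.Agent.Helper7.pPrimeCore_quotient_eq_bot' 2
  have hC := centralizer_pCore_le_of_isSolvable 2 hsol' hO'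
  -- the quotient map is injective on `T`
  have hinj : Function.Injective
      ((QuotientGroup.mk' (pPrimeCore 2 G)).subgroupMap (T : Subgroup G)) := by
    rw [injective_iff_map_eq_one]
    intro x hx
    have h1 : (QuotientGroup.mk' (pPrimeCore 2 G)) (x : G) = 1 := by
      have := congrArg Subtype.val hx
      simpa using this
    have h2 : (x : G) ∈ pPrimeCore 2 G := by
      rwa [QuotientGroup.mk'_apply, QuotientGroup.eq_one_iff] at h1
    obtain ⟨j, hj⟩ := T.2 x
    have h3 : (x : G) ^ 2 ^ j = 1 := by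
      have := congrArg Subtype.val hj
      simpa using this
    have h4 : (x : G) ^ Nat.card (pPrimeCore 2 G) = 1 := by
      have h := pow_card_eq_one' (G := pPrimeCore 2 G) (x := ⟨x, h2⟩)
      have h' := congrArg (fun z : pPrimeCore 2 G => (z : G)) h
      simpa only [Subgroup.coe_pow, Subgroup.coe_one] using h'
    have h5 : (x : G) = 1 :=
      Cfsg.Agent.Helper14.eq_one_of_pow_eq_one_of_coprime h4 h3
        (Nat.Coprime.pow_right j hOc)
    exact Subtype.ext h5
  let T' : Sylow 2 (G ⧸ pPrimeCore 2 G) := T.mapSurjective hπs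
  let f : (T : Subgroup G) ≃* (T' : Subgroup (G ⧸ pPrimeCore 2 G)) :=
    MulEquiv.ofBijective ((QuotientGroup.mk' (pPrimeCore 2 G)).subgroupMap (T : Subgroup G))
      ⟨hinj, MonoidHom.subgroupMap_surjective _ _⟩
  obtain ⟨a, hao, hidx, hout4, hinv⟩ := quaternionLike_of_mulEquiv n (f.symm.trans e)
  have hQT : pCore 2 (G ⧸ pPrimeCore 2 G) ≤ (T' : Subgroup (G ⧸ pPrimeCore 2 G)) :=
    Cfsg.Agent.Helper14.pCore_le_sylow T'
  have hA1 : IsPGroup 2 (MulAut ((pCore 2 (G ⧸ pPrimeCore 2 G)).subgroupOf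
      (T' : Subgroup (G ⧸ pPrimeCore 2 G)))) :=
    mulAut_isPGroup_of_normal_of_quaternionLike n hn a hao hidx hout4 hinv _
  have hA : IsPGroup 2 (MulAut (pCore 2 (G ⧸ pPrimeCore 2 G))) :=
    hA1.of_equiv (MulAut.congr (Subgroup.subgroupOfEquivOfLe hQT))
  have h2grp : IsPGroup 2 (G ⧸ pPrimeCore 2 G) :=
    isPGroup_of_aut_isPGroup (pCore 2 (G ⧸ pPrimeCore 2 G))
      (Cfsg.Agent.Helper14.pCore_isPGroup 2 _) hC hA
  have hT'top : (T' : Subgroup (G ⧸ pPrimeCore 2 G)) = ⊤ :=
    (T'.is_maximal' (Q := ⊤) (h2grp.to_subgroup ⊤) le_top).symm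
  have hcardT : Nat.card (T : Subgroup G) = Nat.card (G ⧸ pPrimeCore 2 G) := by
    rw [Nat.card_congr f.toEquiv, hT'top, Subgroup.card_top]
  refine ⟨T, pPrimeCore 2 G, inferInstance, ?_⟩
  apply Subgroup.isComplement'_of_coprime
  · rw [hcardT, mul_comm]
    exact (Subgroup.card_eq_card_quotient_mul_card_subgroup (pPrimeCore 2 G)).symm
  · obtain ⟨j, hj⟩ := IsPGroup.iff_card.1 T.2
    rw [hj]
    exact Nat.Coprime.pow_right j hOc

end Cfsg.Agent.S3294
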