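import Mathlib
import Cfsg.Statements.S3305
import Cfsg.Agent.Lib.Helper16.Basic

set_option autoImplicit false
open Cfsg

namespace Cfsg.Agent.S3305

open Cfsg.Agent.Helper16
open scoped Pointwise

lemma isCyclic_of_le {G : Type*} [Group G] {P K : Subgroup G} (h : P ≤ K) (hK : IsCyclic K) :
    IsCyclic P := by
  have : IsCyclic (P.subgroupOf K) := inferInstance
  exact isCyclic_of_surjective (Subgroup.subgroupOfEquivOfLe h) (Subgroup.subgroupOfEquivOfLe h).surjective

lemma isCyclic_map {G G' : Type*} [Group G] [Group G'] (f : G →* G') (P : Subgroup G)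
    (hP : IsCyclic P) : IsCyclic (P.map f) :=
  isCyclic_of_surjective (f.subgroupMap P) (f.subgroupMap_surjective P)

/-- If any two distinct Sylow 2-subgroups of the finite group G intersect in a cyclic group, then the same holds in every quotient group G/H, H a normal subgroup of G. -/
theorem result {G : Type*} [Group G] [Finite G]
    (hC : ∀ S T : Sylow 2 G, S ≠ T → IsCyclic ↥((S : Subgroup G) ⊓ (T : Subgroup G))) (H : Subgroup G) [H.Normal] :
    ∀ S T : Sylow 2 (G ⧸ H), S ≠ T → IsCyclic ↥((S : Subgroup (G ⧸ H)) ⊓ (T : Subgroup (G ⧸ H))) := by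
  have : Fact (Nat.Prime 2) := ⟨Nat.prime_two⟩
  intro Sb Tb hne
  set π := QuotientGroup.mk' H with hπ
  have hπs : Function.Surjective π := QuotientGroup.mk'_surjective H
  obtain ⟨S, hS⟩ := Sylow.mapSurjective_surjective hπs 2 Sb
  obtain ⟨T, hT⟩ := Sylow.mapSurjective_surjective hπs 2 Tb
  have hS' : (S : Subgroup G).map π = (Sb : Subgroup (G ⧸ H)) := by
    rw [← hS]; rfl
  have hT' : (T : Subgroup G).map π = (Tb : Subgroup (G ⧸ H)) := by
    rw [← hT]; rfl
  set D := (Sb : Subgroup (G ⧸ H)) ⊓ (Tb : Subgroup (G ⧸ H)) with hD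
  set P := (S : Subgroup G) ⊓ D.comap π with hP
  have hPmap : P.map π = D := by
    apply le_antisymm
    · rintro _ ⟨x, hx, rfl⟩
      exact hx.2
    · intro d hd
      have hdS : d ∈ (S : Subgroup G).map π := by rw [hS']; exact hd.1
      obtain ⟨s, hs, rfl⟩ := hdS
      exact ⟨s, ⟨hs, hd⟩, rfl⟩
  set TH := (Tb : Subgroup (G ⧸ H)).comap π with hTH
  have hT_TH : (T : Subgroup G) ≤ TH := by
    intro t ht
    show π t ∈ (Tb : Subgroup (G ⧸ H))
    rw [← hT']
    exact ⟨t, ht, rfl⟩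
  have hP_TH : P ≤ TH := by
    intro x hx
    exact hx.2.2
  have hPp : IsPGroup 2 P := S.2.to_le inf_le_left
  obtain ⟨x, hxTH, R, hR, -, hTR, hPR⟩ :=
    exists_conj_mem_common_pGroup TH (T : Subgroup G) P hT_TH hP_TH T.2 hPp
  have hRT : R = T := T.3 hR hTR
  -- decompose x = t * h
  have hx' : π x ∈ (T : Subgroup G).map π := by rw [hT']; exact hxTH
  obtain ⟨t, ht, htx⟩ := hx'
  set h := t⁻¹ * x with hh
  have hhH : h ∈ H := by
    rw [← QuotientGroup.eq_one_iff, hh]
    have : ((t⁻¹ * x : G) : G ⧸ H) = (π t)⁻¹ * π x := by simp [hπ]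
    rw [this, htx]; simp
  have hπh : π h = 1 := by
    simpa [hπ] using (QuotientGroup.eq_one_iff h).mpr hhH
  have hconj : ∀ b ∈ P, h * b * h⁻¹ ∈ (T : Subgroup G) := by
    intro b hb
    have h1 : x * b * x⁻¹ ∈ (T : Subgroup G) := hRT ▸ hPR b hb
    have : h * b * h⁻¹ = t⁻¹ * (x * b * x⁻¹) * t := by rw [hh]; group
    rw [this]
    exact Subgroup.mul_mem _ (Subgroup.mul_mem _ (Subgroup.inv_mem _ ht) h1) ht
  set T' : Sylow 2 G := h⁻¹ • T with hT'def
  have hPT' : P ≤ (T' : Subgroup G) := by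
    intro b hb
    rw [hT'def, Sylow.coe_subgroup_smul]
    have := Subgroup.smul_mem_pointwise_smul _ (MulAut.conj h⁻¹) (T : Subgroup G) (hconj b hb)
    have h2 : MulAut.conj h⁻¹ • (h * b * h⁻¹) = b := by
      simp [MulAut.smul_def, mul_assoc]
    rwa [h2] at this
  have hT'map : (T' : Subgroup G).map π = (T : Subgroup G).map π := by
    ext y
    constructor
    · rintro ⟨z, hz, rfl⟩
      rw [hT'def, Sylow.coe_subgroup_smul] at hz
      obtain ⟨w, hw, rfl⟩ := hz
      refine ⟨w, hw, ?_⟩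
      simp [MulAut.smul_def, hπh]
    · rintro ⟨w, hw, rfl⟩
      refine ⟨h⁻¹ * w * h, ?_, ?_⟩
      · rw [hT'def, Sylow.coe_subgroup_smul]
        refine ⟨w, hw, ?_⟩
        simp [MulAut.smul_def]
      · simp [hπh]
  have hST' : S ≠ T' := by
    intro heq
    apply hne
    apply Sylow.ext
    rw [← hS', ← hT', ← hT'map, heq]
  have hcyc := hC S T' hST'
  have hPcyc : IsCyclic P := isCyclic_of_le (le_inf inf_le_left hPT') hcyc
  have := isCyclic_map π P hPcyc
  rwa [hPmap] at this

end Cfsg.Agent.S3305
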