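import Mathlib
import Cfsg.Statements.S3303
import Cfsg.Agent.S3305
import Cfsg.Agent.Lib.Helper7.PComp
import Cfsg.Agent.Lib.Helper16.Solvable2

set_option autoImplicit false
open Cfsg

namespace Cfsg.Agent.S3303

open Cfsg.Agent.Helper16

/-- The automorphism group of a finite cyclic `2`-group is a `2`-group. -/
theorem mulAut_isPGroup_of_isCyclic {Q : Type*} [Group Q] [Finite Q] (hQ : IsPGroup 2 Q)
    (hc : IsCyclic Q) : IsPGroup 2 (MulAut Q) := by
  have hF : Fact (Nat.Prime 2) := ⟨Nat.prime_two⟩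
  obtain ⟨k, hk⟩ := IsPGroup.iff_card.1 hQ
  have h1 := IsCyclic.card_mulAut Q
  rw [hk] at h1
  rcases Nat.eq_zero_or_pos k with h0 | hpos
  · rw [h0, pow_zero, Nat.totient_one] at h1
    exact IsPGroup.of_card (n := 0) (by rw [h1, pow_zero])
  · rw [Nat.totient_prime_pow Nat.prime_two hpos] at h1
    exact IsPGroup.of_card (n := k - 1) (by rw [h1]; simp)

/-- Let G be a finite solvable group in which the intersection of any two distinct Sylow 2-subgroups is cyclic. Then G/O(G) has a normal Sylow 2-subgroup, where O(G) is the largest normal subgroup of odd order. -/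
theorem result {G : Type*} [Group G] [Finite G] (hs : Group.IsSolvable G)
    (hC : ∀ S T : Sylow 2 G, S ≠ T → IsCyclic ↥((S : Subgroup G) ⊓ (T : Subgroup G))) :
    ∃ P : Sylow 2 (G ⧸ Cfsg.oddCore G), (P : Subgroup (G ⧸ Cfsg.oddCore G)).Normal := by
  have hF : Fact (Nat.Prime 2) := ⟨Nat.prime_two⟩
  have hC' := Cfsg.Agent.S3305.result hC (Cfsg.oddCore G)
  have hsol : Group.IsSolvable (G ⧸ Cfsg.oddCore G) := inferInstance
  have hO : pPrimeCore 2 (G ⧸ Cfsg.oddCore G) = ⊥ :=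
    Cfsg.Agent.Helper7.pPrimeCore_quotient_eq_bot' 2
  have hHH := centralizer_pCore_le_of_isSolvable 2 hsol hO
  obtain ⟨P⟩ : Nonempty (Sylow 2 (G ⧸ Cfsg.oddCore G)) := inferInstance
  by_cases hsub : Subsingleton (Sylow 2 (G ⧸ Cfsg.oddCore G))
  · exact ⟨P, Sylow.normal_of_subsingleton P⟩
  · rw [not_subsingleton_iff_nontrivial] at hsub
    obtain ⟨P₁, P₂, hne⟩ := exists_pair_ne (Sylow 2 (G ⧸ Cfsg.oddCore G))
    have hcyc := hC' P₁ P₂ hne
    have hQle : pCore 2 (G ⧸ Cfsg.oddCore G)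
        ≤ (P₁ : Subgroup (G ⧸ Cfsg.oddCore G)) ⊓ (P₂ : Subgroup (G ⧸ Cfsg.oddCore G)) :=
      le_inf (Cfsg.Agent.Helper14.pCore_le_sylow P₁) (Cfsg.Agent.Helper14.pCore_le_sylow P₂)
    have hQcyc : IsCyclic (pCore 2 (G ⧸ Cfsg.oddCore G)) :=
      Cfsg.Agent.S3305.isCyclic_of_le hQle hcyc
    have hQp : IsPGroup 2 (pCore 2 (G ⧸ Cfsg.oddCore G)) :=
      Cfsg.Agent.Helper14.pCore_isPGroup 2 _
    have hA := mulAut_isPGroup_of_isCyclic hQp hQcyc
    have hG2 : IsPGroup 2 (G ⧸ Cfsg.oddCore G) :=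
      isPGroup_of_aut_isPGroup (pCore 2 (G ⧸ Cfsg.oddCore G)) hQp hHH hA
    refine ⟨P, ?_⟩
    have htop : IsPGroup 2 (⊤ : Subgroup (G ⧸ Cfsg.oddCore G)) := hG2.to_subgroup _
    have := P.is_maximal' htop le_top
    rw [← this]
    infer_instance

end Cfsg.Agent.S3303
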