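import Mathlib
import Cfsg.Statements.S3304
import Cfsg.Agent.Lib.Helper4.BinOctB
import Cfsg.Agent.Lib.Helper4.BinOctBO
import Cfsg.Agent.Lib.Helper9.PPrimeCoreSub
import Cfsg.Agent.Lib.Helper22.PPrimeCore

set_option autoImplicit false
open Cfsg

namespace Cfsg.Agent.S3304

/-- Let G be a finite solvable group in which the intersection of any two distinct Sylow 2-subgroups has 2-rank at most 1 (contains no Klein four-group). Write Q = G/O(G), O(G) the largest normal subgroup of odd order. Then Q has a normal Sylow 2-subgroup; or Q is isomorphic to GL(2,3); or Q has order 48, centre of order 2 with central quotient isomorphic to the symmetric group of degree 4, and generalized quaternion Sylow 2-subgroups of order 16 (the binary octahedral group). The last two are the two representation groups of the symmetric group of degree 4. -/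
theorem result {G : Type*} [Group G] [Finite G] (hs : Group.IsSolvable G)
    (hI : ∀ S T : Sylow 2 G, S ≠ T → Cfsg.PRankLE 2 1 ↥((S : Subgroup G) ⊓ (T : Subgroup G))) :
    (∃ P : Sylow 2 (G ⧸ Cfsg.oddCore G), (P : Subgroup (G ⧸ Cfsg.oddCore G)).Normal) ∨
    Nonempty ((G ⧸ Cfsg.oddCore G) ≃* GL (Fin 2) (ZMod 3)) ∨
    (Nat.card (G ⧸ Cfsg.oddCore G) = 48 ∧ Nat.card ↥(Subgroup.center (G ⧸ Cfsg.oddCore G)) = 2 ∧
      Nonempty ((G ⧸ Cfsg.oddCore G) ⧸ Subgroup.center (G ⧸ Cfsg.oddCore G) ≃* Equiv.Perm (Fin 4)) ∧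
      ∀ P : Sylow 2 (G ⧸ Cfsg.oddCore G), Nonempty (↥(P : Subgroup (G ⧸ Cfsg.oddCore G)) ≃* QuaternionGroup 4)) := by
  have hF : Fact (Nat.Prime 2) := ⟨Nat.prime_two⟩
  by_cases hn : ∃ P : Sylow 2 (G ⧸ Cfsg.oddCore G), (P : Subgroup (G ⧸ Cfsg.oddCore G)).Normal
  · exact Or.inl hn
  right
  have hK : (Nat.card (Cfsg.oddCore G)).Coprime 2 :=
    Cfsg.Agent.Helper22.card_pPrimeCore_coprime 2
  have hI' := Cfsg.Agent.Helper4.RankOne.quotient_hyp hK 1 hI
  haveI := hs
  have hs' : Group.IsSolvable (G ⧸ Cfsg.oddCore G) := inferInstance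
  have hO : Cfsg.pPrimeCore 2 (G ⧸ Cfsg.oddCore G) = ⊥ :=
    Cfsg.Agent.Helper9.pPrimeCore_quotient_eq_bot 2
  obtain ⟨R, hRn, e, hC, hcard, hRle⟩ := Cfsg.Agent.Helper4.BinOct.exists_setting hs' hO hI' hn
  obtain ⟨x, y, c, s, hrel, hsx, hsy, hsc, hss, hxR, hyR⟩ :=
    Cfsg.Agent.Helper4.BinOct.exists_generators R e hC hcard
  rcases hss with hss | hss
  · left
    exact Cfsg.Agent.Helper4.BinOct.nonempty_mulEquiv_GL23 hrel hcard hsx hsy hsc hss
  · right
    refine ⟨hcard, Cfsg.Agent.Helper4.BinOct.card_center R e hC,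
      Cfsg.Agent.Helper4.BinOct.nonempty_quotient_center_equiv R e hC hcard, ?_⟩
    intro P
    exact Cfsg.Agent.Helper4.BinOct.sylow_quaternion hrel hcard hsx hsy hsc hss P
      (hRle P hxR) (hRle P hyR)

end Cfsg.Agent.S3304
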