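import Mathlib
import Cfsg.Statements.S3309
import Cfsg.Agent.Lib.Helper16.TransferSign

set_option autoImplicit false
open Cfsg

namespace Cfsg.Agent.S3309

/-- The model group `Z₂ × D₈`. -/
abbrev T := Multiplicative (ZMod 2) × DihedralGroup 4

def cT : T := (Multiplicative.ofAdd 1, 1)
def aT : T := (1, DihedralGroup.r 1)
def xT : T := (1, DihedralGroup.sr 0)
def zT : T := (1, DihedralGroup.r 2)
def x1 : T := xT
def x2 : T := aT * xT
def x3 : T := cT * xT
def x4 : T := cT * (aT * xT)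

def chiCfun (t : T) : ℤˣ := if t.1 = 1 then 1 else -1
def chiAfun (t : T) : ℤˣ := match t.2 with
  | DihedralGroup.r i => (-1) ^ i.val
  | DihedralGroup.sr i => (-1) ^ i.val
def chiXfun (t : T) : ℤˣ := match t.2 with
  | DihedralGroup.r _ => 1
  | DihedralGroup.sr _ => -1

def chiC : T →* ℤˣ where
  toFun := chiCfun
  map_one' := by decide
  map_mul' := by decide

def chiA : T →* ℤˣ where
  toFun := chiAfun
  map_one' := by decide
  map_mul' := by decide

def chiX : T →* ℤˣ where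
  toFun := chiXfun
  map_one' := by decide
  map_mul' := by decide

def chiCA : T →* ℤˣ where
  toFun t := chiCfun t * chiAfun t
  map_one' := by decide
  map_mul' := by decide

def chiCX : T →* ℤˣ where
  toFun t := chiCfun t * chiXfun t
  map_one' := by decide
  map_mul' := by decide

def chiCAX : T →* ℤˣ where
  toFun t := chiCfun t * chiAfun t * chiXfun t
  map_one' := by decide
  map_mul' := by decide

theorem F_central : ∀ t : T, t * cT = cT * t ∧ t * zT = zT * t := by decide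
theorem F_sq : ∀ t : T, t ^ 2 ≠ 1 → t ^ 2 = zT := by decide
theorem F_centinv : ∀ t : T, (∀ s : T, s * t = t * s) → t ^ 2 = 1 → t ≠ 1 →
    t = cT ∨ t = zT ∨ t = cT * zT := by decide
theorem F_ne : cT ≠ zT ∧ cT ≠ cT * zT ∧ zT ≠ cT * zT ∧ zT ≠ 1 ∧ cT ≠ 1 ∧ cT * zT ≠ 1 := by decide
theorem F_pow : aT ^ 2 = zT ∧ aT ^ 4 = 1 ∧ cT ^ 2 = 1 ∧ zT ^ 2 = 1 ∧ (cT * zT) ^ 2 = 1 := by decide
theorem F_invol : ∀ t : T, t ^ 2 = 1 → t = 1 ∨ t = cT ∨ t = zT ∨ t = cT * zT ∨
    t = x1 ∨ t = zT * x1 ∨ t = x2 ∨ t = zT * x2 ∨ t = x3 ∨ t = zT * x3 ∨ t = x4 ∨ t = zT * x4 := by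
  decide
theorem F_conj : aT * x1 * aT⁻¹ = zT * x1 ∧ aT * x2 * aT⁻¹ = zT * x2 ∧
    aT * x3 * aT⁻¹ = zT * x3 ∧ aT * x4 * aT⁻¹ = zT * x4 := by decide
theorem F_chiC : ∀ t : T, t ^ 2 = 1 → chiC t = 1 →
    t = 1 ∨ t = zT ∨ t = x1 ∨ t = zT * x1 ∨ t = x2 ∨ t = zT * x2 := by decide
theorem F_chiCA : ∀ t : T, t ^ 2 = 1 → chiCA t = 1 →
    t = 1 ∨ t = zT ∨ t = x1 ∨ t = zT * x1 ∨ t = x4 ∨ t = zT * x4 := by decide
theorem F_chiCX : ∀ t : T, t ^ 2 = 1 → chiCX t = 1 →
    t = 1 ∨ t = zT ∨ t = x3 ∨ t = zT * x3 ∨ t = x4 ∨ t = zT * x4 := by decide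
theorem F_chiCAX : ∀ t : T, t ^ 2 = 1 → chiCAX t = 1 →
    t = 1 ∨ t = zT ∨ t = x2 ∨ t = zT * x2 ∨ t = x3 ∨ t = zT * x3 := by decide
theorem F_chiA4 : ∀ t : T, t ^ 2 ≠ 1 → chiA t = -1 := by decide
theorem F_chiAz : chiA zT = 1 := by decide

/-- Conjugacy, written as `g⁻¹ u g = v`. -/
def Cj {G : Type*} [Group G] (u v : G) : Prop := ∃ g : G, g⁻¹ * u * g = v

theorem Cj.symm {G : Type*} [Group G] {u v : G} (h : Cj u v) : Cj v u := by
  obtain ⟨g, rfl⟩ := h
  exact ⟨g⁻¹, by simp only [inv_inv, mul_assoc, mul_inv_cancel_left, mul_inv_cancel, mul_one]⟩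

theorem Cj.trans {G : Type*} [Group G] {u v w : G} (h₁ : Cj u v) (h₂ : Cj v w) : Cj u w := by
  obtain ⟨g, rfl⟩ := h₁
  obtain ⟨k, rfl⟩ := h₂
  exact ⟨g * k, by simp only [mul_inv_rev, mul_assoc]⟩

/-- The context: an isomorphism of the model group onto a subgroup `S`. -/
structure Ctx {G : Type*} [Group G] (S : Subgroup G) (ι : T →* G) : Prop where
  inj : Function.Injective ι
  mem : ∀ t, ι t ∈ S
  surj : ∀ s ∈ S, ∃ t, ι t = s

section
variable {G : Type*} [Group G] {S : Subgroup G} {ι : T →* G}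

theorem Ctx.ne_one (h : Ctx S ι) {t : T} (ht : t ≠ 1) : ι t ≠ 1 := by
  intro h1
  exact ht (h.inj (by rw [h1, map_one]))

theorem Ctx.conj_inv_mem (_h : Ctx S ι) {n : G} (hn : n ∈ Subgroup.normalizer (S : Set G)) {s : G}
    (hs : s ∈ S) : n⁻¹ * s * n ∈ S := by
  have h1 := (Subgroup.mem_normalizer_iff.1 (Subgroup.inv_mem _ hn) s).1 hs
  rwa [inv_inv] at h1

theorem Ctx.conj_mem (_h : Ctx S ι) {n : G} (hn : n ∈ Subgroup.normalizer (S : Set G)) {s : G}
    (hs : s ∈ S) : n * s * n⁻¹ ∈ S :=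
  (Subgroup.mem_normalizer_iff.1 hn s).1 hs

/-- `z` is fixed by the normalizer. -/
theorem Ctx.conj_z (h : Ctx S ι) {n : G} (hn : n ∈ Subgroup.normalizer (S : Set G)) :
    n⁻¹ * ι zT * n = ι zT := by
  obtain ⟨t, ht⟩ := h.surj _ (h.conj_inv_mem hn (h.mem aT))
  have h2 : ι (t ^ 2) = n⁻¹ * ι zT * n := by
    rw [map_pow, ht, ← F_pow.1, map_pow]
    simp only [pow_two, mul_assoc, mul_inv_cancel_left]
  have h3 : t ^ 2 ≠ 1 := by
    intro h3
    rw [h3, map_one] at h2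
    have : ι zT = 1 := by
      have := congrArg (fun y => n * y * n⁻¹) h2
      simp only [mul_one, mul_inv_cancel, mul_assoc, mul_inv_cancel_left] at this
      exact this.symm
    exact h.ne_one F_ne.2.2.2.1 this
  rw [← h2, F_sq t h3]

theorem Ctx.comm_c (h : Ctx S ι) {s : G} (hs : s ∈ S) : s * ι cT = ι cT * s := by
  obtain ⟨t, rfl⟩ := h.surj s hs
  rw [← map_mul, ← map_mul, (F_central t).1]

theorem Ctx.comm_z (h : Ctx S ι) {s : G} (hs : s ∈ S) : s * ι zT = ι zT * s := by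
  obtain ⟨t, rfl⟩ := h.surj s hs
  rw [← map_mul, ← map_mul, (F_central t).2]

end

section
variable {G : Type*} [Group G] [Finite G] {P : Sylow 2 G} {ι : T →* G}

/-- `c` is fixed by the normalizer. -/
theorem Ctx.conj_c (h : Ctx (P : Subgroup G) ι) {n : G}
    (hn : n ∈ Subgroup.normalizer ((P : Subgroup G) : Set G)) :
    n⁻¹ * ι cT * n = ι cT := by
  obtain ⟨t, ht⟩ := h.surj _ (h.conj_inv_mem hn (h.mem cT))
  -- `t` is central
  have hcent : ∀ s : T, s * t = t * s := by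
    intro s
    apply h.inj
    obtain ⟨s', hs'⟩ := h.surj _ (h.conj_mem hn (h.mem s))
    have hs : ι s = n⁻¹ * ι s' * n := by
      rw [hs']; simp only [mul_assoc, inv_mul_cancel_left, inv_mul_cancel, mul_one]
    rw [map_mul, map_mul, ht, hs]
    have hc := h.comm_c (h.mem s')
    calc n⁻¹ * ι s' * n * (n⁻¹ * ι cT * n) = n⁻¹ * (ι s' * ι cT) * n := by
          simp only [mul_assoc, mul_inv_cancel_left]
      _ = n⁻¹ * (ι cT * ι s') * n := by rw [hc]
      _ = n⁻¹ * ι cT * n * (n⁻¹ * ι s' * n) := by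
          simp only [mul_assoc, mul_inv_cancel_left]
  have hsq : t ^ 2 = 1 := by
    apply h.inj
    rw [map_pow, ht, map_one]
    have : ι cT * ι cT = 1 := by rw [← map_mul, ← pow_two, F_pow.2.2.1, map_one]
    calc (n⁻¹ * ι cT * n) ^ 2 = n⁻¹ * (ι cT * ι cT) * n := by
          simp only [pow_two, mul_assoc, mul_inv_cancel_left]
      _ = 1 := by rw [this, mul_one, inv_mul_cancel]
  have hne : t ≠ 1 := by
    rintro rfl
    rw [map_one] at ht
    have : ι cT = 1 := by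
      have := congrArg (fun y => n * y * n⁻¹) ht
      simp only [mul_one, mul_inv_cancel, mul_assoc, mul_inv_cancel_left] at this
      exact this.symm
    exact h.ne_one F_ne.2.2.2.2.1 this
  rcases F_centinv t hcent hsq hne with rfl | rfl | rfl
  · exact ht.symm
  · exfalso
    have h1 := (h.conj_z hn).trans ht
    have : ι zT = ι cT := by
      have := congrArg (fun y => n * y * n⁻¹) h1
      simpa only [mul_assoc, mul_inv_cancel_left, mul_inv_cancel, mul_one] using this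
    exact F_ne.1 (h.inj this.symm)
  · exfalso
    -- `n⁻¹ c n = c z`, so `n ^ 2` commutes with `c`
    have hz := h.conj_z hn
    have h2 : (n ^ 2)⁻¹ * ι cT * n ^ 2 = ι cT := by
      calc (n ^ 2)⁻¹ * ι cT * n ^ 2 = n⁻¹ * (n⁻¹ * ι cT * n) * n := by
            simp only [pow_two, mul_inv_rev, mul_assoc]
        _ = n⁻¹ * (ι cT * ι zT) * n := by rw [← ht, map_mul]
        _ = (n⁻¹ * ι cT * n) * (n⁻¹ * ι zT * n) := by
            simp only [mul_assoc, mul_inv_cancel_left]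
        _ = ι cT * ι zT * ι zT := by rw [hz, ← ht, map_mul]
        _ = ι cT := by
            rw [mul_assoc, ← map_mul, ← pow_two, F_pow.2.2.2.1, map_one, mul_one]
    have hn2 : n ^ 2 ∈ Subgroup.centralizer ({ι cT} : Set G) := by
      rw [Subgroup.mem_centralizer_singleton_iff]
      have := congrArg (fun y => n ^ 2 * y) h2
      simp only [mul_assoc, mul_inv_cancel_left] at this
      exact this.symm
    obtain ⟨k, r, hr, hkr⟩ := Nat.exists_eq_two_pow_mul_odd (n := orderOf n) (orderOf_pos n).ne'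
    have hrne : r ≠ 0 := by
      rintro rfl
      exact absurd hr (by decide)
    have hor : orderOf (n ^ r) = 2 ^ k := by
      rw [orderOf_pow_of_dvd hrne (hkr ▸ Dvd.intro_left _ rfl), hkr,
        Nat.mul_div_cancel _ (Nat.pos_of_ne_zero hrne)]
    have hnrP : n ^ r ∈ (P : Subgroup G) :=
      Helper16.mem_sylow_of_mem_normalizer_of_orderOf P (Subgroup.pow_mem _ hn r) hor
    have hnr : n ^ r ∈ Subgroup.centralizer ({ι cT} : Set G) := by
      rw [Subgroup.mem_centralizer_singleton_iff]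
      exact h.comm_c hnrP
    obtain ⟨j, rfl⟩ := hr
    have hnc : n ∈ Subgroup.centralizer ({ι cT} : Set G) := by
      have e1 : n = ((n ^ 2) ^ j)⁻¹ * n ^ (2 * j + 1) := by
        rw [← pow_mul, pow_succ, inv_mul_cancel_left]
      rw [e1]
      exact Subgroup.mul_mem _ (Subgroup.inv_mem _ (Subgroup.pow_mem _ hn2 j)) hnr
    rw [Subgroup.mem_centralizer_singleton_iff] at hnc
    have : n⁻¹ * ι cT * n = ι cT := by
      rw [mul_assoc, ← hnc, inv_mul_cancel_left]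
    rw [this] at ht
    exact F_ne.2.1 (h.inj ht.symm)

end

section
set_option linter.unusedSectionVars false
variable {G : Type*} [Group G] [Finite G] {P : Sylow 2 G} {ι : T →* G}

/-- The three central involutions. -/
def IsCen (u : T) : Prop := u = cT ∨ u = zT ∨ u = cT * zT

theorem Ctx.mem_centralizer (h : Ctx (P : Subgroup G) ι) {u : T} (hu : IsCen u) :
    ι u ∈ Subgroup.centralizer ((P : Subgroup G) : Set G) := by
  rw [Subgroup.mem_centralizer_iff]
  intro s hs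
  rcases hu with rfl | rfl | rfl
  · exact h.comm_c hs
  · exact h.comm_z hs
  · rw [map_mul, ← mul_assoc, h.comm_c hs, mul_assoc, h.comm_z hs, mul_assoc]

theorem Ctx.burnside (h : Ctx (P : Subgroup G) ι) {u : T} (hu : IsCen u) {g : G}
    (hg : g⁻¹ * ι u * g ∈ Subgroup.centralizer ((P : Subgroup G) : Set G)) :
    g⁻¹ * ι u * g = ι u := by
  have : Fact (Nat.Prime 2) := ⟨Nat.prime_two⟩
  obtain ⟨n, hn, hgn⟩ :=
    P.conj_eq_normalizer_conj_of_mem_centralizer (ι u) g (h.mem_centralizer hu) hg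
  rw [hgn]
  rcases hu with rfl | rfl | rfl
  · exact h.conj_c hn
  · exact h.conj_z hn
  · rw [map_mul]
    calc n⁻¹ * (ι cT * ι zT) * n = (n⁻¹ * ι cT * n) * (n⁻¹ * ι zT * n) := by
          simp only [mul_assoc, mul_inv_cancel_left]
      _ = ι cT * ι zT := by rw [h.conj_c hn, h.conj_z hn]

theorem Ctx.not_cj (h : Ctx (P : Subgroup G) ι) {u v : T} (hu : IsCen u) (hv : IsCen v)
    (hne : u ≠ v) : ¬ Cj (ι u) (ι v) := by
  rintro ⟨g, hg⟩
  have h1 := h.burnside hu (g := g) (by rw [hg]; exact h.mem_centralizer hv)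
  rw [hg] at h1
  exact hne (h.inj h1.symm)

theorem Ctx.not_cj_one (h : Ctx (P : Subgroup G) ι) {u : T} (hu : u ≠ 1) : ¬ Cj (ι u) (ι 1) := by
  rintro ⟨g, hg⟩
  rw [map_one] at hg
  have : ι u = 1 := by
    have := congrArg (fun y => g * y * g⁻¹) hg
    simpa only [mul_assoc, mul_inv_cancel_left, mul_inv_cancel, mul_one] using this
  exact h.ne_one hu this

theorem cj_of_conj {s t a : T} (hst : a * t * a⁻¹ = s) : Cj (ι s) (ι t) := by
  refine ⟨ι a, ?_⟩
  rw [← hst]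
  simp only [map_mul, map_inv, mul_assoc, inv_mul_cancel_left, inv_mul_cancel, mul_one]

theorem Ctx.thompson (h : Ctx (P : Subgroup G) ι) (hG2 : ∀ H : Subgroup G, H.index ≠ 2)
    (e : ↥(P : Subgroup G) ≃* T) (hιe : ∀ s : ↥(P : Subgroup G), ι (e s) = (s : G))
    (χ : T →* ℤˣ) (u : G) (hu : orderOf u = 2) :
    ∃ t : T, t ^ 2 = 1 ∧ χ t = 1 ∧ Cj u (ι t) := by
  obtain ⟨g, hmem, hε⟩ :=
    Helper16.exists_conj_sign_eq_one hG2 P (χ.comp e.toMonoidHom) u hu
  refine ⟨e ⟨g⁻¹ * u * g, hmem⟩, ?_, hε, ⟨g, (hιe ⟨g⁻¹ * u * g, hmem⟩).symm⟩⟩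
  apply h.inj
  rw [map_pow, hιe, map_one]
  have hu2 : u * u = 1 := by rw [← pow_two, ← hu]; exact pow_orderOf_eq_one u
  show (g⁻¹ * u * g) ^ 2 = 1
  calc (g⁻¹ * u * g) ^ 2 = g⁻¹ * (u * u) * g := by
        simp only [pow_two, mul_assoc, mul_inv_cancel_left]
    _ = 1 := by rw [hu2, mul_one, inv_mul_cancel]

theorem Ctx.orderOf_two (h : Ctx (P : Subgroup G) ι) {u : T} (hu2 : u ^ 2 = 1) (hu1 : u ≠ 1) :
    orderOf (ι u) = 2 := by
  have : Fact (Nat.Prime 2) := ⟨Nat.prime_two⟩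
  exact orderOf_eq_prime (by rw [← map_pow, hu2, map_one]) (h.ne_one hu1)

/-- One application of Thompson transfer. -/
theorem Ctx.thompson_pair (h : Ctx (P : Subgroup G) ι) (hG2 : ∀ H : Subgroup G, H.index ≠ 2)
    (e : ↥(P : Subgroup G) ≃* T) (hιe : ∀ s : ↥(P : Subgroup G), ι (e s) = (s : G))
    (χ : T →* ℤˣ) {u xi xj : T} (hu : IsCen u) (huz : u ≠ zT) (hu2 : u ^ 2 = 1) (hu1 : u ≠ 1)
    (hi : aT * xi * aT⁻¹ = zT * xi) (hj : aT * xj * aT⁻¹ = zT * xj)
    (hχ : ∀ t : T, t ^ 2 = 1 → χ t = 1 →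
      t = 1 ∨ t = zT ∨ t = xi ∨ t = zT * xi ∨ t = xj ∨ t = zT * xj) :
    Cj (ι u) (ι xi) ∨ Cj (ι u) (ι xj) := by
  obtain ⟨t, ht2, ht1, hcj⟩ := h.thompson hG2 e hιe χ (ι u) (h.orderOf_two hu2 hu1)
  rcases hχ t ht2 ht1 with rfl | rfl | rfl | rfl | rfl | rfl
  · exact absurd hcj (h.not_cj_one hu1)
  · exact absurd hcj (h.not_cj hu (Or.inr (Or.inl rfl)) huz)
  · exact Or.inl hcj
  · exact Or.inl (hcj.trans (cj_of_conj hi))
  · exact Or.inr hcj
  · exact Or.inr (hcj.trans (cj_of_conj hj))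

/-- Thompson transfer for `u = c` or `u = c z`. -/
theorem Ctx.thompson_all (h : Ctx (P : Subgroup G) ι) (hG2 : ∀ H : Subgroup G, H.index ≠ 2)
    (e : ↥(P : Subgroup G) ≃* T) (hιe : ∀ s : ↥(P : Subgroup G), ι (e s) = (s : G))
    {u : T} (hu : IsCen u) (huz : u ≠ zT) (hu2 : u ^ 2 = 1) (hu1 : u ≠ 1) :
    (Cj (ι u) (ι x1) ∧ Cj (ι u) (ι x3)) ∨ (Cj (ι u) (ι x2) ∧ Cj (ι u) (ι x4)) := by
  have h12 := h.thompson_pair hG2 e hιe chiC hu huz hu2 hu1 F_conj.1 F_conj.2.1 F_chiC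
  have h14 := h.thompson_pair hG2 e hιe chiCA hu huz hu2 hu1 F_conj.1 F_conj.2.2.2 F_chiCA
  have h34 := h.thompson_pair hG2 e hιe chiCX hu huz hu2 hu1 F_conj.2.2.1 F_conj.2.2.2 F_chiCX
  have h23 := h.thompson_pair hG2 e hιe chiCAX hu huz hu2 hu1 F_conj.2.1 F_conj.2.2.1 F_chiCAX
  tauto

end

section
set_option linter.unusedSectionVars false
variable {G : Type*} [Group G] [Finite G] {P : Sylow 2 G} {ι : T →* G}

theorem isCen_c : IsCen cT := Or.inl rfl
theorem isCen_z : IsCen zT := Or.inr (Or.inl rfl)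
theorem isCen_cz : IsCen (cT * zT) := Or.inr (Or.inr rfl)

/-- Every non-central involution of `S` is fused to `c` or `c z`. -/
theorem Ctx.fused (h : Ctx (P : Subgroup G) ι) (hG2 : ∀ H : Subgroup G, H.index ≠ 2)
    (e : ↥(P : Subgroup G) ≃* T) (hιe : ∀ s : ↥(P : Subgroup G), ι (e s) = (s : G)) :
    ∀ xi : T, (xi = x1 ∨ xi = x2 ∨ xi = x3 ∨ xi = x4) →
      Cj (ι cT) (ι xi) ∨ Cj (ι (cT * zT)) (ι xi) := by
  have hc := h.thompson_all hG2 e hιe isCen_c F_ne.1 F_pow.2.2.1 F_ne.2.2.2.2.1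
  have hcz := h.thompson_all hG2 e hιe isCen_cz (Ne.symm F_ne.2.2.1) F_pow.2.2.2.2 F_ne.2.2.2.2.2
  have hex : ∀ xi : T, Cj (ι cT) (ι xi) → Cj (ι (cT * zT)) (ι xi) → False := by
    intro xi h1 h2
    exact h.not_cj isCen_c isCen_cz F_ne.2.1 (h1.trans h2.symm)
  have e1 := hex x1
  have e2 := hex x2
  have e3 := hex x3
  have e4 := hex x4
  rintro xi (rfl | rfl | rfl | rfl) <;> tauto

/-- No other element of `S` is conjugate to `z`. -/
theorem Ctx.z_isolated (h : Ctx (P : Subgroup G) ι) (hG2 : ∀ H : Subgroup G, H.index ≠ 2)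
    (e : ↥(P : Subgroup G) ≃* T) (hιe : ∀ s : ↥(P : Subgroup G), ι (e s) = (s : G))
    {v : G} (hv : v ∈ (P : Subgroup G)) (hcj : Cj (ι zT) v) : v = ι zT := by
  obtain ⟨t, rfl⟩ := h.surj v hv
  have hfused := h.fused hG2 e hιe
  have ht2 : t ^ 2 = 1 := by
    obtain ⟨g, hg⟩ := hcj
    apply h.inj
    rw [map_pow, ← hg, map_one]
    have hz2 : ι zT * ι zT = 1 := by rw [← map_mul, ← pow_two, F_pow.2.2.2.1, map_one]
    calc (g⁻¹ * ι zT * g) ^ 2 = g⁻¹ * (ι zT * ι zT) * g := by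
          simp only [pow_two, mul_assoc, mul_inv_cancel_left]
      _ = 1 := by rw [hz2, mul_one, inv_mul_cancel]
  -- conjugacy of `z` to a non-central involution is impossible
  have hbad : ∀ xi : T, (xi = x1 ∨ xi = x2 ∨ xi = x3 ∨ xi = x4) → ¬ Cj (ι zT) (ι xi) := by
    intro xi hxi hz
    rcases hfused xi hxi with hc | hc
    · exact h.not_cj isCen_z isCen_c (Ne.symm F_ne.1) (hz.trans hc.symm)
    · exact h.not_cj isCen_z isCen_cz F_ne.2.2.1 (hz.trans hc.symm)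
  rcases F_invol t ht2 with rfl | rfl | rfl | rfl | rfl | rfl | rfl | rfl | rfl | rfl | rfl | rfl
  · exact absurd hcj (h.not_cj_one F_ne.2.2.2.1)
  · exact absurd hcj (h.not_cj isCen_z isCen_c (Ne.symm F_ne.1))
  · rfl
  · exact absurd hcj (h.not_cj isCen_z isCen_cz F_ne.2.2.1)
  · exact absurd hcj (hbad x1 (Or.inl rfl))
  · exact absurd (hcj.trans (cj_of_conj F_conj.1)) (hbad x1 (Or.inl rfl))
  · exact absurd hcj (hbad x2 (Or.inr (Or.inl rfl)))
  · exact absurd (hcj.trans (cj_of_conj F_conj.2.1)) (hbad x2 (Or.inr (Or.inl rfl)))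
  · exact absurd hcj (hbad x3 (Or.inr (Or.inr (Or.inl rfl))))
  · exact absurd (hcj.trans (cj_of_conj F_conj.2.2.1)) (hbad x3 (Or.inr (Or.inr (Or.inl rfl))))
  · exact absurd hcj (hbad x4 (Or.inr (Or.inr (Or.inr rfl))))
  · exact absurd (hcj.trans (cj_of_conj F_conj.2.2.2)) (hbad x4 (Or.inr (Or.inr (Or.inr rfl))))

end

/-- A finite group whose Sylow 2-subgroups are isomorphic to the direct product of a group of order 2 and the dihedral group of order 8 is not a non-abelian simple group. -/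
theorem result {G : Type*} [Group G] [Finite G] (S : Sylow 2 G) (hS : Nonempty (↥(S : Subgroup G) ≃* Multiplicative (ZMod 2) × DihedralGroup 4))
    [IsSimpleGroup G] (hG : ¬ IsMulCommutative G) : False := by
  classical
  have : Fact (Nat.Prime 2) := ⟨Nat.prime_two⟩
  obtain ⟨e⟩ := hS
  have hG2 := Helper16.index_ne_two_of_isSimpleGroup hG
  let ι : T →* G := (S : Subgroup G).subtype.comp e.symm.toMonoidHom
  have hιe : ∀ s : ↥(S : Subgroup G), ι (e s) = (s : G) := by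
    intro s
    show ((e.symm (e s) : ↥(S : Subgroup G)) : G) = s
    rw [e.symm_apply_apply]
  have h : Ctx (S : Subgroup G) ι := by
    refine ⟨?_, fun t => (e.symm t).2, fun s hs => ⟨e ⟨s, hs⟩, hιe ⟨s, hs⟩⟩⟩
    intro t₁ t₂ h12
    exact e.symm.injective (Subtype.ext h12)
  -- the element `a` of order four
  have ha4 : orderOf (ι aT) = 2 ^ 2 := by
    apply orderOf_eq_prime_pow
    · rw [pow_one, ← map_pow, F_pow.1]
      exact h.ne_one F_ne.2.2.2.1
    · rw [← map_pow]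
      have : aT ^ 2 ^ (1 + 1) = 1 := F_pow.2.1
      rw [this, map_one]
  obtain ⟨r, g, hmem, hr, hne⟩ :=
    Helper16.exists_conj_sign_ne hG2 S (chiA.comp e.toMonoidHom) (ι aT) 2 ha4
  apply hne
  show chiA (e ⟨g⁻¹ * ι aT ^ r * g, hmem⟩) = (-1 : ℤˣ) ^ r
  refine (?_ : ∀ t : T, ι t = g⁻¹ * ι aT ^ r * g → chiA t = (-1 : ℤˣ) ^ r) _ (hιe _)
  clear hne hmem
  intro t hιt
  have hr124 : r = 1 ∨ r = 2 ∨ r = 4 := by
    have hle := Nat.le_of_dvd (by norm_num) hr
    norm_num at hle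
    interval_cases r <;> simp_all
  rcases hr124 with rfl | rfl | rfl
  · -- an element of order four
    rw [pow_one] at hιt ⊢
    apply F_chiA4
    intro ht2
    have h1 : ι (t ^ 2) = g⁻¹ * ι zT * g := by
      rw [map_pow, hιt, ← F_pow.1, map_pow]
      simp only [pow_two, mul_assoc, mul_inv_cancel_left]
    rw [ht2, map_one] at h1
    have : ι zT = 1 := by
      have := congrArg (fun y => g * y * g⁻¹) h1
      simp only [mul_one, mul_inv_cancel, mul_assoc, mul_inv_cancel_left] at this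
      exact this.symm
    exact h.ne_one F_ne.2.2.2.1 this
  · -- a conjugate of `z`
    have h1 : ι t = g⁻¹ * ι zT * g := by rw [hιt, ← F_pow.1, map_pow]
    have h2 : ι t = ι zT :=
      h.z_isolated hG2 e hιe (h.mem t) ⟨g, h1.symm⟩
    rw [h.inj h2, F_chiAz]
    norm_num
  · -- the identity
    have h1 : ι t = 1 := by
      rw [hιt, ← map_pow, F_pow.2.1, map_one, mul_one, inv_mul_cancel]
    have h2 : t = 1 := h.inj (by rw [h1, map_one])
    rw [h2, map_one]
    norm_num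

end Cfsg.Agent.S3309




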