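import Mathlib
import Cfsg.Statements.S3315
import Cfsg.Agent.Lib.Helper17.HeisAut5

set_option autoImplicit false
open Cfsg

namespace Cfsg.Agent.S3315

/-- Let S be a Sylow 2-subgroup of SU₃(2ⁿ), n ≥ 2 (realised over the field with 4ⁿ elements). If a finite 2-group R contains a subgroup S' of index 2 isomorphic to S, then the centre of S' is contained in the centre of R. -/
theorem result {R : Type*} [Group R] [Finite R]
    (hR : IsPGroup 2 R) (n : ℕ) (hn : 2 ≤ n) {F : Type*} [Field F] [Fintype F] (hF : Fintype.card F = 4 ^ n)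
    (P : Sylow 2 ↥(Cfsg.SU 3 F (2 ^ n))) (S' : Subgroup R) (hS : Nonempty (↥S' ≃* ↥(P : Subgroup ↥(Cfsg.SU 3 F (2 ^ n)))))
    (hidx : S'.index = 2) :
    (Subgroup.center ↥S').map S'.subtype ≤ Subgroup.center R := by
  have hF' : Fintype.card F = (2 ^ n) ^ 2 := by
    rw [hF, ← pow_mul, mul_comm, pow_mul]
    norm_num
  obtain ⟨φ, hφ⟩ := Cfsg.Agent.Helper11.Herm.exists_frob hF'
  have hchar2 : CharP F 2 := by
    rw [← ringChar.eq_iff, FiniteField.even_card_iff_char_two, hF']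
    exact Nat.even_iff.1 (Nat.even_pow.2 ⟨Nat.even_pow.2 ⟨even_two, (by omega : n ≠ 0)⟩, two_ne_zero⟩)
  have hφφ : Fact (∀ x : F, φ (φ x) = x) := ⟨Cfsg.Agent.Helper11.Herm.frob_frob hF' φ hφ⟩
  obtain ⟨e⟩ := Cfsg.Agent.Helper17.HeisAut.exists_sylow_equiv_SU hF' φ hφ ⟨n, rfl⟩ P
  obtain ⟨e'⟩ := hS
  exact Cfsg.Agent.Helper17.HeisAut.center_le_center_of_index_two hF' φ hφ S' hidx (e'.trans e)

end Cfsg.Agent.S3315
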