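import Mathlib
import Cfsg.Statements.S3349

set_option autoImplicit false
open Cfsg

namespace Cfsg.Agent.S3349

/-- Let Q be a finite extraspecial p-group and α an automorphism of Q fixing every element of some maximal abelian subgroup of Q. Then the order of α is a power of p. -/
theorem result {Q : Type*} [Group Q] [Finite Q]
    (p : ℕ) [Fact p.Prime] (hQ : Cfsg.IsExtraspecial p Q) (α : MulAut Q)
    (A : Subgroup Q) (hA : IsMulCommutative A) (hmax : ∀ B : Subgroup Q, A ≤ B → IsMulCommutative B → B = A)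
    (hfix : ∀ a ∈ A, α a = a) :
    ∃ k : ℕ, orderOf α = p ^ k := by
  classical
  obtain ⟨⟨hpg, -, hcomm⟩, -⟩ := hQ
  have hp : p.Prime := Fact.out
  -- the centralizer of A is contained in A
  have hcent : ∀ x : Q, (∀ a ∈ A, x * a = a * x) → x ∈ A := by
    intro x hx
    have hB : IsMulCommutative (Subgroup.closure ((A : Set Q) ∪ {x})) := by
      apply Subgroup.isMulCommutative_closure
      intro u hu v hv
      rcases hu with hu | hu <;> rcases hv with hv | hv
      · have := isMulCommutative_iff.1 hA (⟨u, hu⟩ : A) ⟨v, hv⟩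
        exact congrArg Subtype.val this
      · rw [Set.mem_singleton_iff] at hv; subst hv
        exact (hx u hu).symm
      · rw [Set.mem_singleton_iff] at hu; subst hu
        exact hx v hv
      · rw [Set.mem_singleton_iff] at hu hv; subst hu; subst hv; rfl
    have hle : A ≤ Subgroup.closure ((A : Set Q) ∪ {x}) := fun a ha =>
      Subgroup.subset_closure (Or.inl ha)
    have := hmax _ hle hB
    rw [← this]
    exact Subgroup.subset_closure (Or.inr rfl)
  -- commutators are fixed by α
  have hfixc : ∀ x a : Q, α (x * a * x⁻¹ * a⁻¹) = x * a * x⁻¹ * a⁻¹ := by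
    intro x a
    apply hfix
    apply hcent
    intro b _
    have h1 : x * a * x⁻¹ * a⁻¹ ∈ commutator Q := by
      rw [commutator_eq_closure]
      exact Subgroup.subset_closure ⟨x, a, rfl⟩
    rw [hcomm, Subgroup.mem_center_iff] at h1
    exact (h1 b).symm
  have hstep : ∀ x : Q, x⁻¹ * α x ∈ A := by
    intro x
    apply hcent
    intro a ha
    have h1 := hfixc x a
    rw [map_mul, map_mul, map_mul, map_inv, map_inv, hfix a ha] at h1
    -- h1 : α x * a * (α x)⁻¹ * a⁻¹ = x * a * x⁻¹ * a⁻¹
    have h2 : α x * a * (α x)⁻¹ = x * a * x⁻¹ := by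
      have := congrArg (· * a) h1
      simpa using this
    calc x⁻¹ * α x * a = x⁻¹ * (α x * a * (α x)⁻¹) * α x := by group
      _ = x⁻¹ * (x * a * x⁻¹) * α x := by rw [h2]
      _ = a * (x⁻¹ * α x) := by group
  have hpow : ∀ (n : ℕ) (x : Q), (α ^ n) x = x * (x⁻¹ * α x) ^ n := by
    intro n x
    induction n with
    | zero => simp
    | succ n ih =>
      rw [pow_succ', MulAut.mul_apply, ih, map_mul, map_pow, hfix _ (hstep x),
        pow_succ' (x⁻¹ * α x) n, ← mul_assoc x, mul_inv_cancel_left]
  have hone : α ^ (Nat.card Q) = 1 := by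
    ext x
    rw [hpow, pow_card_eq_one', mul_one]
    rfl
  obtain ⟨m, hm⟩ := IsPGroup.iff_card.1 hpg
  have hdvd : orderOf α ∣ p ^ m := by
    rw [← hm]; exact orderOf_dvd_of_pow_eq_one hone
  obtain ⟨k, -, hk⟩ := (Nat.dvd_prime_pow hp).1 hdvd
  exact ⟨k, hk⟩

end Cfsg.Agent.S3349
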