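import Mathlib
import Cfsg.Statements.S3356

set_option autoImplicit false
open Cfsg

namespace Cfsg.Agent.S3356

theorem dvd_card_of_index_stab {B P : Type*} [Group B] [Finite B] [MulAction B P] [Finite P] (k : ℕ)
    (hk : ∀ y : P, (MulAction.stabilizer B y).index = k) : k ∣ Nat.card P := by
  classical
  have : Fintype (MulAction.orbitRel.Quotient B P) := Fintype.ofFinite _
  rw [Nat.card_congr (MulAction.selfEquivSigmaOrbits B P), Nat.card_sigma]
  apply Finset.dvd_sum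
  intro ω _
  rw [← hk (Quotient.out ω), MulAction.index_stabilizer, Nat.card_coe_set_eq]

/-- conjugation action of a subgroup on an invariant subset -/
@[reducible] def conjAct' {G : Type*} [Group G] (B : Subgroup G) (P : Set G)
    (hP : ∀ b ∈ B, ∀ y ∈ P, b * y * b⁻¹ ∈ P) : MulAction B P where
  smul b y := ⟨(b : G) * y * (b : G)⁻¹, hP b b.2 y y.2⟩
  one_smul y := by
    apply Subtype.ext
    show ((1 : B) : G) * y * ((1 : B) : G)⁻¹ = y
    simp
  mul_smul b c y := by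
    apply Subtype.ext
    show ((b * c : B) : G) * y * ((b * c : B) : G)⁻¹ = (b : G) * ((c : G) * y * (c : G)⁻¹) * (b : G)⁻¹
    simp [mul_assoc]

theorem mem_CA {G : Type*} [Group G] (A : Subgroup G) (x b : G) :
    b ∈ A ⊓ Subgroup.centralizer {x} ↔ b ∈ A ∧ b * x = x * b := by
  rw [Subgroup.mem_inf, Subgroup.mem_centralizer_singleton_iff]

theorem L1 {G : Type*} [Group G] [Finite G] (A B : Subgroup G) (hBA : B ≤ A) (h : ℕ) (P : Set G)
    (hinv : ∀ b ∈ B, ∀ y ∈ P, b * y * b⁻¹ ∈ P)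
    (hcb : ∀ y ∈ P, A ⊓ Subgroup.centralizer {y} ≤ B)
    (hcard : ∀ y ∈ P, Nat.card ↥(A ⊓ Subgroup.centralizer {y}) = h) (hh : 0 < h) :
    Nat.card B / h ∣ Nat.card P := by
  let _inst : MulAction ↥B ↥P := conjAct' B P hinv
  refine dvd_card_of_index_stab (B := ↥B) (P := ↥P) _ ?_
  intro y
  have h1 : Nat.card (MulAction.stabilizer B y) = h := by
    rw [← hcard y y.2]
    apply Nat.card_congr
    refine { toFun := fun b => ⟨b.1.1, ?_⟩, invFun := fun c => ⟨⟨c.1, hcb y y.2 c.2⟩, ?_⟩, left_inv := ?_, right_inv := ?_ }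
    · rw [mem_CA]
      refine ⟨hBA b.1.2, ?_⟩
      have hb := b.2
      rw [MulAction.mem_stabilizer_iff] at hb
      have hb' : (b.1 : G) * y * (b.1 : G)⁻¹ = y := congrArg Subtype.val hb
      calc (b.1 : G) * y = (b.1 : G) * y * (b.1 : G)⁻¹ * b.1 := by group
        _ = y * b.1 := by rw [hb']
    · rw [MulAction.mem_stabilizer_iff]
      apply Subtype.ext
      show (c.1 : G) * y * (c.1 : G)⁻¹ = y
      have hc := ((mem_CA A y c.1).mp c.2).2
      rw [hc]; group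
    · intro b; rfl
    · intro c; rfl
  have h2 := Subgroup.card_mul_index (MulAction.stabilizer B y)
  rw [h1] at h2
  rw [← h2, Nat.mul_div_cancel_left _ hh]

/-- the set stabiliser (inside `A`) of `P` under conjugation -/
def setStab {G : Type*} [Group G] (A : Subgroup G) (P : Set G) : Subgroup G where
  carrier := {b | b ∈ A ∧ (∀ y ∈ P, b * y * b⁻¹ ∈ P) ∧ (∀ y ∈ P, b⁻¹ * y * b ∈ P)}
  one_mem' := ⟨A.one_mem, fun y hy => by simpa using hy, fun y hy => by simpa using hy⟩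
  mul_mem' := by
    rintro b c ⟨hb, hb1, hb2⟩ ⟨hc, hc1, hc2⟩
    refine ⟨A.mul_mem hb hc, fun y hy => ?_, fun y hy => ?_⟩
    · have := hb1 _ (hc1 y hy)
      have e : b * c * y * (b * c)⁻¹ = b * (c * y * c⁻¹) * b⁻¹ := by group
      rw [e]; exact this
    · have := hc2 _ (hb2 y hy)
      have e : (b * c)⁻¹ * y * (b * c) = c⁻¹ * (b⁻¹ * y * b) * c := by group
      rw [e]; exact this
  inv_mem' := by
    rintro b ⟨hb, hb1, hb2⟩
    refine ⟨A.inv_mem hb, fun y hy => ?_, fun y hy => ?_⟩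
    · simpa using hb2 y hy
    · simpa using hb1 y hy

theorem L2 {G : Type*} [Group G] [Finite G] (A : Subgroup G) (h k : ℕ) (hh : 0 < h)
    (hAk : Nat.card A = h * k) (P : Set G)
    (hcard : ∀ y ∈ P, Nat.card ↥(A ⊓ Subgroup.centralizer {y}) = h)
    (hblock : ∀ b ∈ A, ∀ y ∈ P, b * y * b⁻¹ ∈ P → ∀ y' ∈ P, b * y' * b⁻¹ ∈ P)
    (hcop : Nat.Coprime (Nat.card P) k) :
    ∀ y ∈ P, ∀ y' ∈ P, ∀ b ∈ A, b * y = y * b → b * y' = y' * b := by
  intro y hy y' hy' b hbA hby
  set B := setStab A P with hB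
  have hBA : B ≤ A := fun b hb => hb.1
  have hcb : ∀ z ∈ P, A ⊓ Subgroup.centralizer {z} ≤ B := by
    intro z hz c hc
    rw [mem_CA] at hc
    have h1 : c * z * c⁻¹ = z := by rw [hc.2]; group
    have h2 : c⁻¹ * z * c⁻¹⁻¹ = z := by
      rw [inv_inv]
      calc c⁻¹ * z * c = c⁻¹ * (z * c) := by group
        _ = c⁻¹ * (c * z) := by rw [hc.2]
        _ = z := by group
    refine ⟨hc.1, fun w hw => ?_, fun w hw => ?_⟩
    · exact hblock c hc.1 z hz (by rw [h1]; exact hz) w hw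
    · have := hblock c⁻¹ (A.inv_mem hc.1) z hz (by rw [h2]; exact hz) w hw
      simpa using this
  have hinv : ∀ b ∈ B, ∀ y ∈ P, b * y * b⁻¹ ∈ P := fun b hb y hy => hb.2.1 y hy
  have hd := L1 A B hBA h P hinv hcb hcard hh
  have hhB : h ∣ Nat.card B := by
    rw [← hcard y hy]; exact Subgroup.card_dvd_of_le (hcb y hy)
  obtain ⟨k', hk'⟩ := hhB
  rw [hk', Nat.mul_div_cancel_left _ hh] at hd
  have hBdvd : Nat.card B ∣ Nat.card A := Subgroup.card_dvd_of_le hBA
  rw [hk', hAk] at hBdvd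
  have hk'k : k' ∣ k := Nat.dvd_of_mul_dvd_mul_left hh hBdvd
  have hk1 : k' = 1 := Nat.eq_one_of_dvd_one (hcop ▸ Nat.dvd_gcd hd hk'k)
  rw [hk1, mul_one] at hk'
  have heq : A ⊓ Subgroup.centralizer {y'} = B :=
    Subgroup.eq_of_le_of_card_ge (hcb y' hy') (by rw [hk', hcard y' hy'])
  have hbB : b ∈ B := hcb y hy ((mem_CA A y b).mpr ⟨hbA, hby⟩)
  rw [← heq] at hbB
  exact ((mem_CA A y' b).mp hbB).2

section core
variable {G : Type*} [Group G] [Finite G] (N A : Subgroup G) [N.Normal]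
    (h k : ℕ) (hh2 : 1 < h) (hAk : Nat.card A = h * k)
    (hfaith : ∀ g ∈ A, (∀ n ∈ N, g * n = n * g) → g = 1)
    (hcard : ∀ x ∈ N, x ≠ 1 → Nat.card ↥(A ⊓ Subgroup.centralizer {x}) = h)

include hh2 hAk hcard in
theorem coprimeNk : Nat.Coprime (Nat.card N) k := by
  have hh : 0 < h := by omega
  set P1 : Set G := {x | x ∈ N ∧ x ≠ 1} with hP1
  have hd := L1 A A le_rfl h P1
    (fun b _ y hy => ⟨‹N.Normal›.conj_mem y hy.1 b, fun e => hy.2 (by
      have : y = b⁻¹ * (b * y * b⁻¹) * b := by group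
      rw [this, e]; group)⟩)
    (fun y _ => inf_le_left) (fun y hy => hcard y hy.1 hy.2) hh
  rw [hAk, Nat.mul_div_cancel_left _ hh] at hd
  have hc : Nat.card P1 + 1 = Nat.card N := by
    have e1 : P1 = (N : Set G) \ {1} := by
      ext x; simp [hP1]
    rw [Nat.card_coe_set_eq, e1, Set.ncard_sdiff_singleton_add_one (N.one_mem), ← Nat.card_coe_set_eq]
    rfl
  have hg : Nat.gcd (Nat.card N) k ∣ 1 := by
    have h1 : Nat.gcd (Nat.card N) k ∣ Nat.card P1 := (Nat.gcd_dvd_right _ _).trans hd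
    have h2 : Nat.gcd (Nat.card N) k ∣ Nat.card P1 + 1 := hc ▸ Nat.gcd_dvd_left _ _
    exact (Nat.dvd_add_right h1).mp h2
  exact Nat.eq_one_of_dvd_one hg

include hh2 hAk hcard in
theorem hconj : ∀ x ∈ N, x ≠ 1 → ∀ n ∈ N, ∀ b ∈ A, b * x = x * b →
    b * (n * x * n⁻¹) = (n * x * n⁻¹) * b := by
  have hh : 0 < h := by omega
  have hcopN := coprimeNk N A h k hh2 hAk hcard
  intro x hx hx1 n hn b hb hbx
  set P : Set G := {y | ∃ m ∈ N, y = m * x * m⁻¹} with hP
  have hPN : ∀ y ∈ P, y ∈ N ∧ y ≠ 1 := by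
    rintro y ⟨m, hm, rfl⟩
    refine ⟨‹N.Normal›.conj_mem x hx m, fun e => hx1 ?_⟩
    have : x = m⁻¹ * (m * x * m⁻¹) * m := by group
    rw [this, e]; group
  have hinvN : ∀ b ∈ N, ∀ y ∈ P, b * y * b⁻¹ ∈ P := by
    rintro b hb y ⟨m, hm, e⟩
    exact ⟨b * m, N.mul_mem hb hm, by rw [e]; group⟩
  have hcardP : Nat.card P ∣ Nat.card N := by
    let _i : MulAction ↥N ↥P := conjAct' N P hinvN
    have htr : MulAction.IsPretransitive ↥N ↥P := ⟨fun y z => by
      obtain ⟨m1, hm1, e1⟩ := y.2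
      obtain ⟨m2, hm2, e2⟩ := z.2
      refine ⟨⟨m2 * m1⁻¹, N.mul_mem hm2 (N.inv_mem hm1)⟩, Subtype.ext ?_⟩
      show (m2 * m1⁻¹) * (y : G) * (m2 * m1⁻¹)⁻¹ = z
      rw [e1, e2]; group⟩
    have hxP : x ∈ P := ⟨1, N.one_mem, by simp⟩
    rw [← MulAction.index_stabilizer_of_transitive ↥N (⟨x, hxP⟩ : ↥P)]
    exact Subgroup.index_dvd_card _
  have hblock : ∀ b ∈ A, ∀ y ∈ P, b * y * b⁻¹ ∈ P → ∀ y' ∈ P, b * y' * b⁻¹ ∈ P := by
    rintro b _ y ⟨m, hm, e⟩ ⟨m', hm', e'⟩ y' ⟨m'', hm'', e''⟩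
    refine ⟨b * (m'' * m⁻¹) * b⁻¹ * m', N.mul_mem (‹N.Normal›.conj_mem _ (N.mul_mem hm'' (N.inv_mem hm)) b) hm', ?_⟩
    have e3 : b * y' * b⁻¹ = (b * (m'' * m⁻¹) * b⁻¹) * (b * y * b⁻¹) * (b * (m'' * m⁻¹) * b⁻¹)⁻¹ := by
      rw [e'', e]; group
    rw [e3, e']; group
  have hcop : Nat.Coprime (Nat.card P) k := Nat.Coprime.coprime_dvd_left hcardP hcopN
  exact L2 A h k hh hAk P (fun y hy => hcard y (hPN y hy).1 (hPN y hy).2) hblock hcop x
    ⟨1, N.one_mem, by simp⟩ (n * x * n⁻¹) ⟨n, hn, rfl⟩ b hb hbx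

include hcard in
theorem hCAeq : ∀ x ∈ N, x ≠ 1 → ∀ y ∈ N, y ≠ 1 → (∀ b ∈ A, b * x = x * b → b * y = y * b) →
    A ⊓ Subgroup.centralizer {x} = A ⊓ Subgroup.centralizer {y} := by
  intro x hx hx1 y hy hy1 hsub
  apply Subgroup.eq_of_le_of_card_ge
  · intro b hb
    rw [mem_CA] at hb ⊢
    exact ⟨hb.1, hsub b hb.1 hb.2⟩
  · rw [hcard x hx hx1, hcard y hy hy1]

include hh2 hAk hcard in
theorem hC1 : ∀ x ∈ N, x ≠ 1 → ∀ y ∈ N, y ≠ 1 →
    A ⊓ Subgroup.centralizer {x} ≠ A ⊓ Subgroup.centralizer {y} → x * y = y * x := by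
  intro x hx hx1 y hy hy1 hne
  by_contra hxy
  set c := x * y * x⁻¹ * y⁻¹ with hc
  have hcN : c ∈ N := N.mul_mem (N.mul_mem (N.mul_mem hx hy) (N.inv_mem hx)) (N.inv_mem hy)
  have hc1 : c ≠ 1 := fun e => hxy (by
    calc x * y = c * (y * x) := by rw [hc]; group
      _ = y * x := by rw [e, one_mul])
  have h1 : ∀ b ∈ A, b * x = x * b → b * c = c * b := by
    intro b hb hbx
    have h2 : Commute b (y * x * y⁻¹) := hconj N A h k hh2 hAk hcard x hx hx1 y hy b hb hbx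
    have hbx' : Commute b x := hbx
    have e : c = x * (y * x * y⁻¹)⁻¹ := by rw [hc]; group
    rw [e]
    exact (hbx'.mul_right h2.inv_right).eq
  have h2 : ∀ b ∈ A, b * y = y * b → b * c = c * b := by
    intro b hb hby
    have h2 : Commute b (x * y * x⁻¹) := hconj N A h k hh2 hAk hcard y hy hy1 x hx b hb hby
    have hby' : Commute b y := hby
    have e : c = (x * y * x⁻¹) * y⁻¹ := by rw [hc]
    rw [e]
    exact (h2.mul_right hby'.inv_right).eq
  have e1 := hCAeq N A h hcard x hx hx1 c hcN hc1 h1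
  have e2 := hCAeq N A h hcard y hy hy1 c hcN hc1 h2
  exact hne (e1.trans e2.symm)

include hh2 hAk hcard hfaith in
theorem hcomm : ∀ x ∈ N, ∀ y ∈ N, x * y = y * x := by
  intro x hx y hy
  by_cases hx1 : x = 1
  · rw [hx1]; simp
  by_cases hy1 : y = 1
  · rw [hy1]; simp
  by_cases hne : A ⊓ Subgroup.centralizer {x} = A ⊓ Subgroup.centralizer {y}
  swap
  · exact hC1 N A h k hh2 hAk hcard x hx hx1 y hy hy1 hne
  have hH : A ⊓ Subgroup.centralizer {x} ≠ ⊥ := by
    rw [← Subgroup.one_lt_card_iff_ne_bot, hcard x hx hx1]; exact hh2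
  obtain ⟨g, hg, hg1⟩ := (Subgroup.bot_or_exists_ne_one _).resolve_left hH
  have hgx := (mem_CA A x g).mp hg
  have hgy := (mem_CA A y g).mp (hne ▸ hg)
  have hz : ∃ z ∈ N, g * z ≠ z * g := by
    by_contra hcon
    push Not at hcon
    exact hg1 (hfaith g hgx.1 hcon)
  obtain ⟨z, hz, hgz⟩ := hz
  have hz1 : z ≠ 1 := by
    rintro rfl
    simp at hgz
  have hzx : A ⊓ Subgroup.centralizer {z} ≠ A ⊓ Subgroup.centralizer {x} := by
    intro e
    exact hgz ((mem_CA A z g).mp (e ▸ hg)).2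
  have hzy : A ⊓ Subgroup.centralizer {z} ≠ A ⊓ Subgroup.centralizer {y} := by
    rw [← hne]; exact hzx
  have c1 : z * x = x * z := hC1 N A h k hh2 hAk hcard z hz hz1 x hx hx1 hzx
  have hyz1 : y * z ≠ 1 := by
    intro e
    have : z = y⁻¹ := eq_inv_of_mul_eq_one_right e
    apply hgz
    rw [this]
    exact ((show Commute g y from hgy.2).inv_right).eq
  have hyzx : A ⊓ Subgroup.centralizer {y * z} ≠ A ⊓ Subgroup.centralizer {x} := by
    intro e
    have hgyz : Commute g (y * z) := ((mem_CA A (y * z) g).mp (e ▸ hg)).2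
    apply hgz
    have : Commute g (y⁻¹ * (y * z)) := (Commute.inv_right (show Commute g y from hgy.2)).mul_right hgyz
    simpa using this.eq
  have c3 : (y * z) * x = x * (y * z) :=
    hC1 N A h k hh2 hAk hcard (y * z) (N.mul_mem hy hz) hyz1 x hx hx1 hyzx
  have hfin : Commute x y := by
    have c3' : Commute x (y * z) := c3.symm
    have c1' : Commute x z := c1.symm
    have := c3'.mul_right c1'.inv_right
    simpa using this
  exact hfin.eq

include hh2 hAk hcard hfaith in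
theorem hirr : ∀ N0 : Subgroup G, N0 ≤ N → (∀ b ∈ A, ∀ n ∈ N0, b * n * b⁻¹ ∈ N0) →
    N0 = ⊥ ∨ N0 = N := by
  have hh : 0 < h := by omega
  have hcopN := coprimeNk N A h k hh2 hAk hcard
  intro N0 hN0 hinv
  by_contra hcon
  push Not at hcon
  obtain ⟨hbot, hneN⟩ := hcon
  obtain ⟨x1, hx1N0, hx11⟩ := (Subgroup.bot_or_exists_ne_one _).resolve_left hbot
  have hex : ∃ y ∈ N, y ∉ N0 := by
    by_contra hcon
    push Not at hcon
    exact hneN (le_antisymm hN0 hcon)
  obtain ⟨y1, hy1N, hy1⟩ := hex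
  have hy11 : y1 ≠ 1 := by
    rintro rfl
    exact hy1 N0.one_mem
  have key : ∀ y ∈ N, y ∉ N0 → ∀ n ∈ N0, ∀ b ∈ A, b * y = y * b → b * n = n * b := by
    intro y hy hyN0 n hn b hb hby
    set P : Set G := {w | ∃ m ∈ N0, w = y * m} with hP
    have hPN : ∀ w ∈ P, w ∈ N ∧ w ≠ 1 := by
      rintro w ⟨m, hm, rfl⟩
      refine ⟨N.mul_mem hy (hN0 hm), fun e => hyN0 ?_⟩
      have : y = m⁻¹ := eq_inv_of_mul_eq_one_left e
      rw [this]; exact N0.inv_mem hm
    have hcardP : Nat.card P = Nat.card N0 := by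
      apply Nat.card_congr
      refine { toFun := fun w => ⟨y⁻¹ * w.1, ?_⟩, invFun := fun m => ⟨y * m.1, ⟨m.1, m.2, rfl⟩⟩,
               left_inv := ?_, right_inv := ?_ }
      · obtain ⟨m, hm, e⟩ := w.2
        rw [e]; simpa using hm
      · intro w; apply Subtype.ext; simp
      · intro m; apply Subtype.ext; simp
    have hblock : ∀ b ∈ A, ∀ w ∈ P, b * w * b⁻¹ ∈ P → ∀ w' ∈ P, b * w' * b⁻¹ ∈ P := by
      rintro b hb w ⟨m, hm, e⟩ ⟨m', hm', e'⟩ w' ⟨m'', hm'', e''⟩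
      refine ⟨m' * (b * (m⁻¹ * m'') * b⁻¹), N0.mul_mem hm' (hinv b hb _ (N0.mul_mem (N0.inv_mem hm) hm'')), ?_⟩
      have e3 : b * w' * b⁻¹ = (b * w * b⁻¹) * (b * (m⁻¹ * m'') * b⁻¹) := by
        rw [e'', e]; group
      rw [e3, e']; group
    have hcop : Nat.Coprime (Nat.card P) k := by
      rw [hcardP]
      exact Nat.Coprime.coprime_dvd_left (Subgroup.card_dvd_of_le hN0) hcopN
    have h3 : Commute b (y * n) := L2 A h k hh hAk P (fun w hw => hcard w (hPN w hw).1 (hPN w hw).2) hblock hcop y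
      ⟨1, N0.one_mem, by simp⟩ (y * n) ⟨n, hn, rfl⟩ b hb hby
    have : Commute b (y⁻¹ * (y * n)) := (Commute.inv_right (show Commute b y from hby)).mul_right h3
    simpa using this.eq
  have hall : ∀ z ∈ N, z ≠ 1 → A ⊓ Subgroup.centralizer {z} = A ⊓ Subgroup.centralizer {y1} := by
    intro z hz hz1
    by_cases hzN0 : z ∈ N0
    · exact (hCAeq N A h hcard y1 hy1N hy11 z hz hz1
        (fun b hb hby => key y1 hy1N hy1 z hzN0 b hb hby)).symm
    · have e1 := hCAeq N A h hcard z hz hz1 x1 (hN0 hx1N0) hx11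
        (fun b hb hbz => key z hz hzN0 x1 hx1N0 b hb hbz)
      have e2 := hCAeq N A h hcard y1 hy1N hy11 x1 (hN0 hx1N0) hx11
        (fun b hb hby => key y1 hy1N hy1 x1 hx1N0 b hb hby)
      rw [e1, e2]
  have hH : A ⊓ Subgroup.centralizer {y1} ≠ ⊥ := by
    rw [← Subgroup.one_lt_card_iff_ne_bot, hcard y1 hy1N hy11]; exact hh2
  obtain ⟨g, hg, hg1⟩ := (Subgroup.bot_or_exists_ne_one _).resolve_left hH
  apply hg1
  apply hfaith g ((mem_CA A y1 g).mp hg).1
  intro n hn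
  by_cases hn1 : n = 1
  · rw [hn1]; simp
  · exact ((mem_CA A n g).mp (hall n hn hn1 ▸ hg)).2

include hh2 hAk hcard hfaith in
theorem hexp (hN1 : N ≠ ⊥) : ∃ p : ℕ, p.Prime ∧ ∀ x ∈ N, x ^ p = 1 := by
  have hcomm := hcomm N A h k hh2 hAk hfaith hcard
  have hirr := hirr N A h k hh2 hAk hfaith hcard
  have hcN : Nat.card N ≠ 1 := by
    intro e
    exact hN1 (Subgroup.card_eq_one.mp e)
  obtain ⟨p, hp, hpd⟩ := Nat.exists_prime_and_dvd hcN
  haveI := Fact.mk hp
  obtain ⟨u, hu⟩ := exists_prime_orderOf_dvd_card' (G := N) p hpd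
  let N0 : Subgroup G :=
    { carrier := {x | x ∈ N ∧ x ^ p = 1}
      one_mem' := ⟨N.one_mem, one_pow p⟩
      mul_mem' := by
        rintro a b ⟨ha, ha'⟩ ⟨hb, hb'⟩
        exact ⟨N.mul_mem ha hb, by
          rw [(show Commute a b from hcomm a ha b hb).mul_pow, ha', hb', one_mul]⟩
      inv_mem' := by
        rintro a ⟨ha, ha'⟩
        exact ⟨N.inv_mem ha, by rw [inv_pow, ha', inv_one]⟩ }
  have hN0N : N0 ≤ N := fun x hx => hx.1
  have hN0inv : ∀ b ∈ A, ∀ n ∈ N0, b * n * b⁻¹ ∈ N0 := fun b _ n hn =>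
    ⟨‹N.Normal›.conj_mem n hn.1 b, by rw [conj_pow, hn.2]; group⟩
  refine ⟨p, hp, ?_⟩
  rcases hirr N0 hN0N hN0inv with h0 | h0
  · exfalso
    have hu1 : (u : G) ∈ N0 := by
      refine ⟨u.2, ?_⟩
      have : u ^ p = 1 := by rw [← hu]; exact pow_orderOf_eq_one u
      have := congrArg Subtype.val this
      simpa using this
    rw [h0, Subgroup.mem_bot] at hu1
    have : u = 1 := Subtype.ext hu1
    rw [this, orderOf_one] at hu
    exact hp.one_lt.ne hu
  · intro x hx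
    rw [← h0] at hx
    exact hx.2

include hh2 hAk hcard hfaith in
theorem hmin (hG : ∀ g : G, ∃ n ∈ N, ∃ a ∈ A, g = n * a) :
    ∀ M : Subgroup G, M.Normal → M ≠ ⊥ → N ≤ M := by
  have hcomm := hcomm N A h k hh2 hAk hfaith hcard
  have hirr := hirr N A h k hh2 hAk hfaith hcard
  intro M hM hM1
  have hinv : ∀ b ∈ A, ∀ n ∈ M ⊓ N, b * n * b⁻¹ ∈ M ⊓ N := fun b _ n hn =>
    ⟨hM.conj_mem n hn.1 b, ‹N.Normal›.conj_mem n hn.2 b⟩
  rcases hirr (M ⊓ N) inf_le_right hinv with h0 | h0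
  · exfalso
    obtain ⟨m, hm, hm1⟩ := (Subgroup.bot_or_exists_ne_one _).resolve_left hM1
    have hcm : ∀ n ∈ N, m * n = n * m := by
      intro n hn
      have hc : m * n * m⁻¹ * n⁻¹ ∈ M ⊓ N := by
        refine ⟨?_, N.mul_mem (‹N.Normal›.conj_mem n hn m) (N.inv_mem hn)⟩
        have : m * n * m⁻¹ * n⁻¹ = m * (n * m⁻¹ * n⁻¹) := by group
        rw [this]
        exact M.mul_mem hm (hM.conj_mem _ (M.inv_mem hm) n)
      rw [h0, Subgroup.mem_bot] at hc
      calc m * n = (m * n * m⁻¹ * n⁻¹) * (n * m) := by group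
        _ = n * m := by rw [hc, one_mul]
    obtain ⟨n0, hn0, a, ha, e⟩ := hG m
    have ha1 : a = 1 := by
      apply hfaith a ha
      intro n hn
      have e' : a = n0⁻¹ * m := by rw [e]; group
      have c1 : Commute n0⁻¹ n := (show Commute n0 n from hcomm n0 hn0 n hn).inv_left
      have c2 : Commute m n := hcm n hn
      rw [e']
      exact (c1.mul_left c2).eq
    rw [ha1, mul_one] at e
    have : m ∈ M ⊓ N := ⟨hm, e ▸ hn0⟩
    rw [h0, Subgroup.mem_bot] at this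
    exact hm1 this
  · rw [← h0]; exact inf_le_left

end core


/-- Let G be a finite 3/2-transitive permutation group: G acts faithfully and transitively on a finite set, the point stabilizers are non-trivial, and for each point a all orbits of G_a on the remaining points have the same size. Suppose G has a regular normal subgroup N and G is not a Frobenius group (some two-point stabilizer is non-trivial). Then N is an elementary abelian p-group for some prime p, and every non-trivial normal subgroup of G contains N (so N is the unique minimal normal subgroup). -/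
theorem result {G Ω : Type*} [Group G] [Finite G]
    [MulAction G Ω] [FaithfulSMul G Ω] [Finite Ω] (htrans : MulAction.IsPretransitive G Ω)
    (hne : ∀ a : Ω, MulAction.stabilizer G a ≠ ⊥)
    (hhalf : ∀ a b c : Ω, b ≠ a → c ≠ a →
      Nat.card (MulAction.orbit (MulAction.stabilizer G a) b) = Nat.card (MulAction.orbit (MulAction.stabilizer G a) c))
    (N : Subgroup G) [hN : N.Normal] (hNt : MulAction.IsPretransitive N Ω) (hNr : ∀ a : Ω, MulAction.stabilizer N a = ⊥)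
    (hnotF : ∃ a b : Ω, a ≠ b ∧ MulAction.stabilizer G a ⊓ MulAction.stabilizer G b ≠ ⊥) :
    (∃ p : ℕ, p.Prime ∧ IsMulCommutative N ∧ ∀ x ∈ N, x ^ p = 1) ∧
    (∀ M : Subgroup G, M.Normal → M ≠ ⊥ → N ≤ M) := by
  obtain ⟨a, b0, hab, hst⟩ := hnotF
  set A := MulAction.stabilizer G a with hA
  have reg : ∀ n ∈ N, n • a = a → n = 1 := by
    intro n hn hna
    have h1 : (⟨n, hn⟩ : N) ∈ MulAction.stabilizer N a := by
      rw [MulAction.mem_stabilizer_iff]; exact hna
    rw [hNr a, Subgroup.mem_bot] at h1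
    exact congrArg Subtype.val h1
  have reg2 : ∀ n ∈ N, ∀ n' ∈ N, n • a = n' • a → n = n' := by
    intro n hn n' hn' e
    have : (n'⁻¹ * n) • a = a := by
      rw [mul_smul, e, ← mul_smul, inv_mul_cancel, one_smul]
    have := reg _ (N.mul_mem (N.inv_mem hn') hn) this
    calc n = n' * (n'⁻¹ * n) := by group
      _ = n' := by rw [this, mul_one]
  have tr : ∀ ω : Ω, ∃ n ∈ N, n • a = ω := by
    intro ω
    obtain ⟨n, hn⟩ := MulAction.exists_smul_eq N a ω
    exact ⟨n.1, n.2, hn⟩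
  have hstab : ∀ x ∈ N, A ⊓ MulAction.stabilizer G (x • a) = A ⊓ Subgroup.centralizer {x} := by
    intro x hx
    ext g
    rw [mem_CA, Subgroup.mem_inf]
    constructor
    · rintro ⟨hgA, hg⟩
      refine ⟨hgA, ?_⟩
      have hga : g • a = a := hgA
      rw [MulAction.mem_stabilizer_iff] at hg
      have h1 : (g * x * g⁻¹) • a = x • a := by
        calc (g * x * g⁻¹) • a = (g * x * g⁻¹) • (g • a) := by rw [hga]
          _ = g • (x • a) := by rw [← mul_smul, ← mul_smul]; congr 1; group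
          _ = x • a := hg
      have h2 := reg2 _ (hN.conj_mem x hx g) x hx h1
      calc g * x = (g * x * g⁻¹) * g := by group
        _ = x * g := by rw [h2]
    · rintro ⟨hgA, hg⟩
      refine ⟨hgA, ?_⟩
      have hga : g • a = a := hgA
      rw [MulAction.mem_stabilizer_iff, ← mul_smul, hg, mul_smul, hga]
  -- orbit-stabiliser
  have horb : ∀ ω : Ω, Nat.card ↥(A ⊓ MulAction.stabilizer G ω) * Nat.card (MulAction.orbit A ω) = Nat.card A := by
    intro ω
    have h1 := Subgroup.card_mul_index (MulAction.stabilizer A ω)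
    rw [MulAction.index_stabilizer, ← Nat.card_coe_set_eq] at h1
    rw [← h1]
    congr 1
    apply Nat.card_congr
    exact { toFun := fun g => ⟨⟨g.1, g.2.1⟩, g.2.2⟩
            invFun := fun g => ⟨g.1.1, ⟨g.1.2, g.2⟩⟩
            left_inv := fun g => rfl
            right_inv := fun g => rfl }
  obtain ⟨x0, hx0N, hx0⟩ := tr b0
  have hx01 : x0 ≠ 1 := by
    rintro rfl
    rw [one_smul] at hx0
    exact hab hx0
  set k := Nat.card (MulAction.orbit A b0) with hk
  have hkpos : 0 < k := by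
    rw [hk]
    haveI : Nonempty (MulAction.orbit A b0) := ⟨⟨b0, MulAction.mem_orbit_self b0⟩⟩
    exact Nat.card_pos
  set h := Nat.card ↥(A ⊓ Subgroup.centralizer {x0}) with hh
  have hAk : Nat.card A = h * k := by
    rw [hh, ← hstab x0 hx0N, hx0, hk]
    exact (horb b0).symm
  have hcard : ∀ x ∈ N, x ≠ 1 → Nat.card ↥(A ⊓ Subgroup.centralizer {x}) = h := by
    intro x hx hx1
    have hxa : x • a ≠ a := fun e => hx1 (reg x hx e)
    have h1 := horb (x • a)
    rw [hstab x hx, hhalf a (x • a) b0 hxa (Ne.symm hab), ← hk, hAk] at h1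
    exact Nat.eq_of_mul_eq_mul_right hkpos h1
  have hh2 : 1 < h := by
    rw [hh, Subgroup.one_lt_card_iff_ne_bot, ← hstab x0 hx0N, hx0]
    exact hst
  have hfaith : ∀ g ∈ A, (∀ n ∈ N, g * n = n * g) → g = 1 := by
    intro g hgA hg
    have hga : g • a = a := hgA
    apply FaithfulSMul.eq_of_smul_eq_smul (α := Ω)
    intro ω
    obtain ⟨n, hn, rfl⟩ := tr ω
    rw [one_smul, ← mul_smul, hg n hn, mul_smul, hga]
  have hG : ∀ g : G, ∃ n ∈ N, ∃ a' ∈ A, g = n * a' := by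
    intro g
    obtain ⟨n, hn, e⟩ := tr (g • a)
    refine ⟨n, hn, n⁻¹ * g, ?_, by group⟩
    show (n⁻¹ * g) • a = a
    rw [mul_smul, ← e, ← mul_smul, inv_mul_cancel, one_smul]
  have hN1 : N ≠ ⊥ := by
    intro e
    rw [e, Subgroup.mem_bot] at hx0N
    exact hx01 hx0N
  have hc := hcomm N A h k hh2 hAk hfaith hcard
  obtain ⟨p, hp, hpx⟩ := hexp N A h k hh2 hAk hfaith hcard hN1
  exact ⟨⟨p, hp, ⟨⟨fun x y => Subtype.ext (hc x x.2 y y.2)⟩⟩, hpx⟩,
    hmin N A h k hh2 hAk hfaith hcard hG⟩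

end Cfsg.Agent.S3356
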