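import Mathlib
import Cfsg.Statements.S3357
import Cfsg.Agent.Lib.Helper21.FrobLiftFrob
import Cfsg.Agent.Lib.Helper21.IrredMatrixRep

set_option autoImplicit false
open Cfsg

namespace Cfsg.Agent.S3357

open Cfsg.Agent.Helper21.FrobLift Cfsg.Agent.Helper21.IrredRep

/-- the space of norm-vanishing functions with values in a field -/
def nvSpace (G : Type*) [Group G] (K : Type*) [Field K] : Submodule K (G → K) where
  carrier := {w | IsNV w}
  zero_mem' := fun _ _ _ => by simp
  add_mem' := by
    intro w w' h h' c hc b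
    simp only [Pi.add_apply, Finset.sum_add_distrib, h c hc b, h' c hc b, add_zero]
  smul_mem' := by
    intro a w h c hc b
    simp only [Pi.smul_apply, smul_eq_mul, ← Finset.mul_sum, h c hc b, mul_zero]

/-- right translation -/
def trans (G : Type*) [Group G] (K : Type*) [Field K] : G →* ((G → K) →ₗ[K] (G → K)) where
  toFun g := LinearMap.funLeft K K (fun x => x * g)
  map_one' := by
    ext w x
    simp [LinearMap.funLeft]
  map_mul' a b := by
    ext w x
    simp [LinearMap.funLeft, mul_assoc]

theorem trans_apply (G : Type*) [Group G] (K : Type*) [Field K] (g : G) (w : G → K) (x : G) :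
    trans G K g w x = w (x * g) := rfl

theorem nvSpace_fpf (G : Type*) [Group G] [Finite G] (K : Type*) [Field K] [CharZero K]
    (g : G) (hg : g ≠ 1) (w : G → K) (hw : w ∈ nvSpace G K) (hfix : trans G K g w = w) : w = 0 := by
  funext x
  have h1 : ∀ i : ℕ, w (x * g ^ i) = w x := by
    intro i
    induction i with
    | zero => simp
    | succ i ih =>
      have h2 := congrFun hfix (x * g ^ i)
      rw [trans_apply] at h2
      rw [pow_succ, ← mul_assoc, h2, ih]
  set c : G := x * g * x⁻¹ with hc
  have hc1 : c ≠ 1 := by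
    intro h
    apply hg
    have : g = x⁻¹ * c * x := by rw [hc]; group
    rw [this, h]; group
  have hco : orderOf c = orderOf g := (MulAut.conj x).orderOf_eq g
  have h4 := hw c hc1 x
  have h5 : ∀ i : ℕ, c ^ i * x = x * g ^ i := by
    intro i
    rw [hc, conj_pow]; group
  simp only [h5, h1] at h4
  rw [Finset.sum_const, Finset.card_range, hco, nsmul_eq_mul] at h4
  rcases mul_eq_zero.mp h4 with h6 | h6
  · exfalso
    have : orderOf g = 0 := by exact_mod_cast h6
    exact (orderOf_pos g).ne' this
  · exact h6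

/-- Let G be a finite group that occurs as a Frobenius complement. Then G has a faithful irreducible representation over an algebraic closure of the rationals in which no non-identity element of G has 1 as an eigenvalue: there are n ≥ 1 and an injective homomorphism ρ from G to GL(n) over that field, with no invariant subspace other than 0 and the whole space, such that for g ≠ 1 the only vector fixed by ρ(g) is 0. -/
theorem result {G : Type*} [Group G] [Finite G]
    (hFC : ∃ (L : Type) (_ : Group L) (_ : Finite L) (H : Subgroup L), Cfsg.IsFrobeniusComplement H ∧ Nonempty (G ≃* H)) :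
    ∃ (n : ℕ) (ρ : G →* GL (Fin n) (AlgebraicClosure ℚ)), 0 < n ∧ Function.Injective ρ ∧
      (∀ W : Submodule (AlgebraicClosure ℚ) (Fin n → AlgebraicClosure ℚ),
        (∀ g : G, ∀ w ∈ W, ((ρ g : GL (Fin n) (AlgebraicClosure ℚ)) : Matrix (Fin n) (Fin n) (AlgebraicClosure ℚ)).mulVec w ∈ W) → W = ⊥ ∨ W = ⊤) ∧
      ∀ g : G, g ≠ 1 → ∀ v : Fin n → AlgebraicClosure ℚ,
        ((ρ g : GL (Fin n) (AlgebraicClosure ℚ)) : Matrix (Fin n) (Fin n) (AlgebraicClosure ℚ)).mulVec v = v → v = 0 := by
  classical
  obtain ⟨L, _, _, H, hH, ⟨e⟩⟩ := hFC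
  obtain ⟨v₀, hv₀, hnv₀⟩ := exists_int_nv_of_frobenius H hH
  let v : G → ℤ := fun g => v₀ (e g)
  have hnv : IsNV v := hnv₀.comp_equiv e
  have hv : ∃ x, v x ≠ 0 := by
    by_contra h
    push Not at h
    apply hv₀
    funext y
    have := h (e.symm y)
    simpa [v] using this
  obtain ⟨x₀, hx₀⟩ := hv
  let K := AlgebraicClosure ℚ
  haveI : Fintype G := Fintype.ofFinite G
  let Y : Submodule K (G → K) := nvSpace G K
  let φ := trans G K
  have hY : Y ≠ ⊥ := by
    intro h
    have h1 : (fun x => ((v x : ℤ) : K)) ∈ Y := by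
      intro c hc b
      show ∑ i ∈ Finset.range (orderOf c), ((v (c ^ i * b) : ℤ) : K) = 0
      rw [← Int.cast_sum, hnv c hc b, Int.cast_zero]
    rw [h, Submodule.mem_bot] at h1
    have h2 := congrFun h1 x₀
    have h3 : ((v x₀ : ℤ) : K) = 0 := h2
    exact hx₀ (by exact_mod_cast h3)
  have hYinv : ∀ g, ∀ w ∈ Y, φ g w ∈ Y := by
    intro g w hw c hc b
    have := hw c hc (b * g)
    simpa [φ, trans_apply, mul_assoc] using this
  obtain ⟨W, hWY, hW0, hWinv, hWmin⟩ := exists_minimal_invariant (fun g => φ g) Y hY hYinv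
  -- the restricted representation
  let φ' : G →* (W →ₗ[K] W) :=
    { toFun := fun g => (φ g).restrict (hWinv g)
      map_one' := by
        ext w
        simp [φ]
      map_mul' := fun a b => by
        ext w
        simp [φ] }
  have hφ' : ∀ (g : G) (w : W), ((φ' g w : W) : G → K) = φ g (w : G → K) := fun _ _ => rfl
  haveI : Nontrivial W := (Submodule.nontrivial_iff_ne_bot).mpr hW0
  have hirr : ∀ U : Submodule K W, (∀ g, ∀ w ∈ U, φ' g w ∈ U) → U = ⊥ ∨ U = ⊤ := by
    intro U hU
    have h1 : ∀ g, ∀ w ∈ U.map W.subtype, φ g w ∈ U.map W.subtype := by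
      rintro g _ ⟨w, hw, rfl⟩
      exact ⟨φ' g w, hU g w hw, rfl⟩
    rcases hWmin (U.map W.subtype) (Submodule.map_subtype_le W U) h1 with h | h
    · left
      apply Submodule.map_injective_of_injective W.injective_subtype
      rw [h, Submodule.map_bot]
    · right
      rw [eq_top_iff]
      intro w _
      have h2 : (w : G → K) ∈ U.map W.subtype := by rw [h]; exact w.2
      obtain ⟨w', hw', hww'⟩ := h2
      have : w' = w := Subtype.ext hww'
      rw [← this]; exact hw'
  have hfpf : ∀ g : G, g ≠ 1 → ∀ w : W, φ' g w = w → w = 0 := by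
    intro g hg w hw
    apply Subtype.ext
    apply nvSpace_fpf G K g hg (w : G → K) (hWY w.2)
    have := congrArg Subtype.val hw
    rwa [hφ'] at this
  exact exists_matrix_rep_irred φ' hirr hfpf

end Cfsg.Agent.S3357
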