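import Mathlib
import Cfsg.Statements.S3361
import Cfsg.Agent.S0685
import Cfsg.Agent.Lib.Helper4.ZasExc
import Cfsg.Agent.Lib.Helper4.ZasSemi

set_option autoImplicit false
open Cfsg
namespace Cfsg.Agent.S3361

open Cfsg.Agent.Helper4.Zas in
/-- Let q be a prime and V a non-trivial finite vector space over the field with q elements, and let G be a finite solvable group acting faithfully and linearly on V and regularly on the non-zero vectors (transitively, with only the identity fixing a non-zero vector). Then either V can be identified with the additive group of a finite field F so that every element of G acts as x ↦ a·σ(x) (a ∈ F, σ a field automorphism), or V has 5^2, 7^2, 11^2 or 23^2 elements. Moreover, if q ≠ 2 then G has a normal subgroup of index 2, except that when V has 25 elements G may be isomorphic to SL(2,3) and when V has 121 elements G may be isomorphic to SL(2,3) × C₅. -/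
theorem result
    (q : ℕ) [Fact q.Prime] {V : Type*} [AddCommGroup V] [Module (ZMod q) V] [Finite V] [Nontrivial V]
    {G : Type*} [Group G] [Finite G] (hsol : Group.IsSolvable G)
    (ρ : G →* (V ≃ₗ[ZMod q] V)) (hρ : Function.Injective ρ)
    (htrans : ∀ v w : V, v ≠ 0 → w ≠ 0 → ∃ g : G, ρ g v = w)
    (hreg : ∀ v : V, v ≠ 0 → ∀ g : G, ρ g v = v → g = 1) :
    ((∃ (F : Type) (_ : Field F) (_ : Fintype F) (e : V ≃+ F),
        ∀ g : G, ∃ (a : F) (σ : F ≃+* F), ∀ v : V, e (ρ g v) = a * σ (e v)) ∨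
      Nat.card V ∈ ({25, 49, 121, 529} : Set ℕ)) ∧
    (q ≠ 2 → (∃ N : Subgroup G, N.Normal ∧ N.index = 2) ∨
      (Nat.card V = 25 ∧ Nonempty (G ≃* Matrix.SpecialLinearGroup (Fin 2) (ZMod 3))) ∨
      (Nat.card V = 121 ∧ Nonempty (G ≃* Matrix.SpecialLinearGroup (Fin 2) (ZMod 3) × Multiplicative (ZMod 5)))) := by
  classical
  obtain ⟨H, hH⟩ : ∃ H : Subgroup (V ≃ₗ[ZMod q] V), H = ρ.range := ⟨_, rfl⟩
  have hmem : ∀ g : G, ρ g ∈ H := fun g => by rw [hH]; exact ⟨g, rfl⟩
  -- regularity of `H`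
  have hregH : Reg H := by
    intro v w hv hw
    obtain ⟨g, hg⟩ := htrans v w hv hw
    refine ⟨⟨ρ g, hmem g⟩, hg, ?_⟩
    rintro ⟨h', hh'⟩ hg'
    apply Subtype.ext
    rw [hH] at hh'
    obtain ⟨g', rfl⟩ := hh'
    have hg'' : ρ g' v = w := hg'
    have h1 : g⁻¹ * g' = 1 := by
      apply hreg v hv
      rw [map_mul, map_inv]
      show (ρ g).symm (ρ g' v) = v
      rw [hg'', ← hg, LinearEquiv.symm_apply_apply]
    have h2 : g' = g := by
      calc g' = g * (g⁻¹ * g') := by group
        _ = g := by rw [h1, mul_one]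
    show ρ g' = ρ g
    rw [h2]
  let f : G →* H := (ρ.codRestrict H hmem)
  have hfsurj : Function.Surjective f := by
    rintro ⟨h, hh⟩
    rw [hH] at hh
    obtain ⟨g, rfl⟩ := hh
    exact ⟨g, rfl⟩
  have hfinj : Function.Injective f := by
    intro a b hab
    apply hρ
    exact congrArg Subtype.val hab
  let ι : G ≃* H := MulEquiv.ofBijective f ⟨hfinj, hfsurj⟩
  have hsolH : Group.IsSolvable H := solvable_of_surjective hfsurj
  by_cases hI : ∀ A : Subgroup H, A.Normal → IsCyclic A → ∃ W : Submodule (ZMod q) V,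
      W ≠ ⊥ ∧ W ≠ ⊤ ∧ ∀ a ∈ A, ∀ v ∈ W, ((a : H) : V ≃ₗ[ZMod q] V) v ∈ W
  · -- the exceptional case
    obtain ⟨A, hA⟩ := exists_maxAb H
    have hAc : IsMulCommutative A := ⟨⟨fun a b => Subtype.ext (hA.comm a a.2 b b.2)⟩⟩
    have hAmax : ∀ B : Subgroup H, B.Normal → IsMulCommutative B → A ≤ B → B = A :=
      fun B hBn hBc hAB => hA.max B hBn
        (fun a ha b hb => congrArg Subtype.val (hBc.is_comm.comm ⟨a, ha⟩ ⟨b, hb⟩)) hAB
    obtain ⟨-, W, hW0, hWtop, hWinv, -, -⟩ :=
      Cfsg.Agent.S0684.result H hregH hI A hA.normal hAc hAmax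
    obtain ⟨-, hCna⟩ := Cfsg.Agent.S0685.result H hregH hI A hA.normal hAc hAmax
    have hCc : ¬ Comm (Subgroup.centralizer (A : Set H)) :=
      fun h => hCna ⟨⟨fun a b => Subtype.ext (h a a.2 b b.2)⟩⟩
    obtain ⟨N, hN⟩ := structure_thm hregH hsolH hA hCc W hW0 hWtop hWinv
    constructor
    · right
      show Nat.card V = 25 ∨ Nat.card V = 49 ∨ Nat.card V = 121 ∨ Nat.card V = 529
      rcases hN.hp with h | h | h | h <;> rw [hN.cardV, h] <;> norm_num
    · intro _
      obtain ⟨e⟩ := hN.iso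
      haveI := hN.normal
      rcases exc_index_two hregH N A e hN.centA hN.centN hN.cardV hN.cardA hN.hp with
        ⟨N₀, hN₀n, hN₀i⟩ | ⟨hp5, ⟨iso⟩⟩ | ⟨hp11, ⟨iso⟩⟩
      · left
        refine ⟨N₀.comap f, hN₀n.comap f, ?_⟩
        rw [Subgroup.index_comap_of_surjective N₀ hfsurj, hN₀i]
      · right; left
        refine ⟨by rw [hN.cardV, hp5]; norm_num, ⟨ι.trans iso⟩⟩
      · right; right
        refine ⟨by rw [hN.cardV, hp11]; norm_num, ⟨ι.trans iso⟩⟩
  · -- the semilinear case
    push Not at hI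
    obtain ⟨A₀, hA₀n, hA₀c, hA₀⟩ := hI
    have hirr : ∀ W : Submodule (ZMod q) V, Inv A₀ W → W = ⊥ ∨ W = ⊤ := by
      intro W hW
      by_contra hne
      push Not at hne
      obtain ⟨a, ha, v, hv, hav⟩ := hA₀ W hne.1 hne.2
      exact hav (hW a ha v hv)
    have hAc : ∀ a ∈ A₀, ∀ b ∈ A₀, a * b = b * a := by
      intro a ha b hb
      letI := IsCyclic.commGroup (α := A₀)
      exact congrArg Subtype.val (mul_comm (⟨a, ha⟩ : A₀) ⟨b, hb⟩)
    obtain ⟨F, hF, hFt, e, hs⟩ := semilinear_of_irreducible hregH A₀ hAc hirr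
    have hsG : ∀ g : G, ∃ (a : F) (σ : F ≃+* F), ∀ v : V, e (ρ g v) = a * σ (e v) :=
      fun g => hs ⟨ρ g, hmem g⟩
    constructor
    · left
      exact ⟨F, hF, hFt, e, hsG⟩
    · intro hq2
      left
      have hodd : ringChar F ≠ 2 := by
        intro h2
        rw [FiniteField.even_card_iff_char_two] at h2
        have h3 : Nat.card V = Fintype.card F := by
          rw [Nat.card_congr e.toEquiv, Nat.card_eq_fintype_card]
        have h4 : Nat.card V = q ^ Module.finrank (ZMod q) V := by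
          rw [Module.natCard_eq_pow_finrank (K := ZMod q) (V := V), Nat.card_zmod]
        have hqodd : Odd q := (Fact.out : q.Prime).odd_of_ne_two hq2
        have h5 : Odd (Nat.card V) := by rw [h4]; exact hqodd.pow
        rw [h3, Nat.odd_iff] at h5
        omega
      exact index_two_of_semilinear ρ htrans F e hsG hodd
end Cfsg.Agent.S3361
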