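import Mathlib
import Cfsg.Statements.S3362

set_option autoImplicit false
open Cfsg

namespace Cfsg.Agent.S3362

/-- One step of the Schreier–Sims verification. -/
theorem schreier_step {A Ω : Type*} [Group A] [Finite A] [MulAction A Ω] [DecidableEq Ω]
    (S : Set A) (H : Subgroup A) (b : Ω) (O : Finset Ω) (T : Ω → A)
    (hb : b ∈ O) (hT1 : T b = 1) (hTmem : ∀ p ∈ O, T p ∈ Subgroup.closure S)
    (hTb : ∀ p ∈ O, T p • b = p)
    (hHle : H ≤ Subgroup.closure S) (hHb : ∀ h ∈ H, h • b = b)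
    (hstep : ∀ g ∈ S, ∀ p ∈ O, g • p ∈ O ∧ (T (g • p))⁻¹ * g * T p ∈ H) :
    (∀ k ∈ Subgroup.closure S, k • b = b → k ∈ H) ∧
      Nat.card (Subgroup.closure S) = O.card * Nat.card H := by
  classical
  -- the union of the cosets `T p * H`
  let X : Set A := {k | ∃ p ∈ O, ∃ h ∈ H, k = T p * h}
  have hX1 : (1 : A) ∈ X := ⟨b, hb, 1, H.one_mem, by rw [hT1, one_mul]⟩
  have hXS : ∀ g ∈ S, ∀ k ∈ X, g * k ∈ X := by
    rintro g hg k ⟨p, hp, h, hh, rfl⟩
    obtain ⟨hgp, hsch⟩ := hstep g hg p hp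
    refine ⟨g • p, hgp, (T (g • p))⁻¹ * g * T p * h, H.mul_mem hsch hh, ?_⟩
    group
  -- the left stabilizer of `X` is a subgroup containing `S`
  let Y : Subgroup A :=
    { carrier := {k | ∀ z ∈ X, k * z ∈ X}
      one_mem' := by intro z hz; simpa using hz
      mul_mem' := by
        intro a c ha hc z hz
        rw [mul_assoc]; exact ha _ (hc _ hz)
      inv_mem' := by
        intro a ha
        have hpow : ∀ n : ℕ, ∀ z ∈ X, a ^ n * z ∈ X := by
          intro n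
          induction n with
          | zero => intro z hz; simpa using hz
          | succ n ih =>
            intro z hz
            rw [pow_succ, mul_assoc]
            exact ih _ (ha _ hz)
        intro z hz
        have hfin : IsOfFinOrder a := isOfFinOrder_of_finite a
        have hinv : a⁻¹ = a ^ (orderOf a - 1) := by
          have h1 : 0 < orderOf a := orderOf_pos a
          have : a ^ (orderOf a - 1) * a = 1 := by
            rw [← pow_succ, Nat.sub_add_cancel h1, pow_orderOf_eq_one]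
          exact (eq_inv_of_mul_eq_one_left this).symm
        rw [hinv]
        exact hpow _ z hz }
  have hSY : S ⊆ Y := fun g hg z hz => hXS g hg z hz
  have hclY : Subgroup.closure S ≤ Y := (Subgroup.closure_le Y).2 hSY
  have hclX : ∀ k ∈ Subgroup.closure S, k ∈ X := by
    intro k hk
    have := hclY hk 1 hX1
    simpa using this
  have hstab : ∀ k ∈ Subgroup.closure S, k • b = b → k ∈ H := by
    intro k hk hkb
    obtain ⟨p, hp, h, hh, rfl⟩ := hclX k hk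
    rw [mul_smul, hHb h hh, hTb p hp] at hkb
    rw [hkb, hT1, one_mul]
    exact hh
  refine ⟨hstab, ?_⟩
  -- the bijection `O × H ≃ closure S`
  let f : O × H → Subgroup.closure S := fun x =>
    ⟨T x.1 * x.2, (Subgroup.closure S).mul_mem (hTmem _ x.1.2) (hHle x.2.2)⟩
  have hfinj : Function.Injective f := by
    rintro ⟨⟨p, hp⟩, ⟨h, hh⟩⟩ ⟨⟨p', hp'⟩, ⟨h', hh'⟩⟩ heq
    have heq' : T p * h = T p' * h' := congrArg Subtype.val heq
    have hpp : p = p' := by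
      have := congrArg (· • b) heq'
      simp only [mul_smul, hHb h hh, hHb h' hh', hTb p hp, hTb p' hp'] at this
      exact this
    subst hpp
    have hhh : h = h' := mul_left_cancel heq'
    subst hhh
    rfl
  have hfsurj : Function.Surjective f := by
    rintro ⟨k, hk⟩
    obtain ⟨p, hp, h, hh, rfl⟩ := hclX k hk
    exact ⟨⟨⟨p, hp⟩, ⟨h, hh⟩⟩, rfl⟩
  have hcard := Nat.card_congr (Equiv.ofBijective f ⟨hfinj, hfsurj⟩)
  rw [← hcard, Nat.card_prod]
  congr 1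
  rw [Nat.card_eq_fintype_card, Fintype.card_coe]

/-- the eight generators in the order `u v w s t x₁ x₂ x₃` -/
def gen : Fin 8 → Equiv.Perm (Fin 12) :=
  ![Equiv.swap (4 : Fin 12) 9 * Equiv.swap (4 : Fin 12) 5 * Equiv.swap (4 : Fin 12) 6 * Equiv.swap (7 : Fin 12) 10 * Equiv.swap (7 : Fin 12) 11 * Equiv.swap (7 : Fin 12) 8,
    Equiv.swap (4 : Fin 12) 11 * Equiv.swap (4 : Fin 12) 5 * Equiv.swap (4 : Fin 12) 7 * Equiv.swap (6 : Fin 12) 8 * Equiv.swap (6 : Fin 12) 9 * Equiv.swap (6 : Fin 12) 10,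
    Equiv.swap (4 : Fin 12) 8 * Equiv.swap (4 : Fin 12) 5 * Equiv.swap (4 : Fin 12) 10 * Equiv.swap (6 : Fin 12) 7 * Equiv.swap (6 : Fin 12) 9 * Equiv.swap (6 : Fin 12) 11,
    Equiv.swap (3 : Fin 12) 5 * Equiv.swap (3 : Fin 12) 4 * Equiv.swap (6 : Fin 12) 8 * Equiv.swap (6 : Fin 12) 7 * Equiv.swap (9 : Fin 12) 11 * Equiv.swap (9 : Fin 12) 10,
    Equiv.swap (3 : Fin 12) 9 * Equiv.swap (3 : Fin 12) 6 * Equiv.swap (4 : Fin 12) 10 * Equiv.swap (4 : Fin 12) 7 * Equiv.swap (5 : Fin 12) 11 * Equiv.swap (5 : Fin 12) 8,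
    Equiv.swap (0 : Fin 12) 3 * Equiv.swap (6 : Fin 12) 7 * Equiv.swap (8 : Fin 12) 10 * Equiv.swap (9 : Fin 12) 11,
    Equiv.swap (0 : Fin 12) 1 * Equiv.swap (6 : Fin 12) 9 * Equiv.swap (7 : Fin 12) 10 * Equiv.swap (8 : Fin 12) 11,
    Equiv.swap (1 : Fin 12) 2 * Equiv.swap (6 : Fin 12) 11 * Equiv.swap (7 : Fin 12) 9 * Equiv.swap (8 : Fin 12) 10]

/-- the product of the generators named by a word -/
def evalW (w : List (Fin 8)) : Equiv.Perm (Fin 12) := (w.map gen).prod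

/-- the first `n` generators -/
def genSet (n : ℕ) : Set (Equiv.Perm (Fin 12)) := {g | ∃ j : Fin 8, (j : ℕ) < n ∧ gen j = g}

/-- the subgroup generated by the first `n` generators -/
def grp (n : ℕ) : Subgroup (Equiv.Perm (Fin 12)) := Subgroup.closure (genSet n)

theorem evalW_mem (n : ℕ) (w : List (Fin 8)) (hw : ∀ j ∈ w, (j : ℕ) < n) : evalW w ∈ grp n := by
  unfold evalW
  apply Subgroup.list_prod_mem
  intro g hg
  obtain ⟨j, hj, rfl⟩ := List.mem_map.1 hg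
  exact Subgroup.subset_closure ⟨j, hw j hj, rfl⟩

/-- numbers of generators of the members of the chain -/
def nlev : Fin 6 → ℕ := ![8, 7, 6, 5, 3, 0]

/-- base points -/
def base : Fin 5 → Fin 12 := ![2, 1, 0, 3, 4]

/-- the basic orbits -/
def orb : Fin 5 → Finset (Fin 12) :=
  ![Finset.univ, Finset.univ.filter (fun p => p ≠ 2), Finset.univ.filter (fun p => p ≠ 2 ∧ p ≠ 1),
    Finset.univ.filter (fun p => 3 ≤ p), Finset.univ.filter (fun p => 4 ≤ p)]
/-- transversal words -/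
def tw : Fin 5 → Fin 12 → List (Fin 8) :=
  ![![[6, 7], [7], [], [5, 6, 7], [3, 5, 6, 7], [3, 3, 5, 6, 7], [4, 5, 6, 7], [1, 3, 5, 6, 7], [0, 1, 3, 5, 6, 7], [4, 4, 5, 6, 7], [2, 3, 5, 6, 7], [2, 4, 5, 6, 7]],
    ![[6], [], [], [5, 6], [3, 5, 6], [3, 3, 5, 6], [4, 5, 6], [1, 3, 5, 6], [0, 1, 3, 5, 6], [4, 4, 5, 6], [2, 3, 5, 6], [2, 4, 5, 6]],
    ![[], [], [], [5], [3, 5], [3, 3, 5], [4, 5], [1, 3, 5], [0, 1, 3, 5], [4, 4, 5], [2, 3, 5], [2, 4, 5]],
    ![[], [], [], [], [3], [3, 3], [4], [1, 3], [0, 1, 3], [4, 4], [2, 3], [2, 4]],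
    ![[], [], [], [], [], [0, 0], [0], [1], [0, 1], [1, 2], [2], [2, 0]]]

/-- certificates for the Schreier generators -/
def cert : Fin 5 → Fin 8 → Fin 12 → List (Fin 8) :=
  ![![![[1], [2, 0], [0], [0, 1], [0, 1], [0, 1], [0, 1], [], [0, 1], [0, 1], [], [2]],
      ![[0, 1], [1, 2], [1], [1], [], [2], [2], [0, 0], [0, 1], [0, 1], [2], [2]],
      ![[1, 2], [0, 1], [2], [0], [], [0, 0], [], [0, 1], [], [0, 1], [0, 0], [0, 0]],
      ![[3], [3], [3], [], [], [], [2, 0], [0, 1], [1, 2], [1, 2], [], [0]],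
      ![[1, 3, 2, 0], [2, 4, 0, 1], [4], [], [2, 0], [0], [], [2], [0, 0], [], [0], [0]],
      ![[], [5], [5], [], [3, 3, 0, 0], [3, 0, 0], [3, 3, 0, 1], [2, 3], [3, 3, 0, 0], [2, 3, 0, 1], [3, 3, 0, 0], [0, 1, 3, 2]],
      ![[], [], [6], [5], [5], [5], [5], [5], [5, 2], [5], [5], [5, 2]],
      ![[6], [], [], [6], [6], [6], [6, 0], [6, 1], [6], [6, 0, 1], [6], [6, 0]]],
    ![![[1, 2], [0], [], [2], [2], [2], [2], [], [2], [2], [], [0, 1]],
      ![[2], [1], [], [1, 2], [], [0, 1], [0, 1], [0, 0], [2], [2], [0, 1], [0, 1]],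
      ![[1], [2], [], [2, 0], [], [0, 0], [], [2], [], [2], [0, 0], [0, 0]],
      ![[3], [3], [], [], [], [], [0], [2], [1], [1], [], [2, 0]],
      ![[4, 4], [4], [], [], [0], [2, 0], [], [0, 1], [0, 0], [], [2, 0], [2, 0]],
      ![[], [5], [], [], [3, 3, 0, 0], [3, 0, 0], [3, 3, 2], [0, 1, 3], [3, 3, 0, 0], [0, 1, 3, 2], [3, 3, 0, 0], [2, 3, 0, 1]],
      ![[], [], [], [5], [5], [5], [5], [5], [5, 0, 1], [5], [5], [5, 0, 1]],
      ![[], [], [], [], [], [], [], [], [], [], [], []]],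
    ![![[0], [], [], [1], [1], [1], [1], [], [1], [1], [], [2, 0]],
      ![[1], [], [], [0], [], [2, 0], [2, 0], [0, 0], [1], [1], [2, 0], [2, 0]],
      ![[2], [], [], [0, 1], [], [0, 0], [], [1], [], [1], [0, 0], [0, 0]],
      ![[3], [], [], [], [], [], [1, 2], [1], [2], [2], [], [0, 1]],
      ![[4], [], [], [], [1, 2], [0, 1], [], [2, 0], [0, 0], [], [0, 1], [0, 1]],
      ![[], [], [], [], [3, 3, 0, 0], [3, 0, 0], [3, 3, 1], [2, 4, 0], [3, 3, 0, 0], [2, 4, 0, 1], [3, 3, 0, 0], [1, 3, 2, 0]],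
      ![[], [], [], [], [], [], [], [], [], [], [], []],
      ![[], [], [], [], [], [], [], [], [], [], [], []]],
    ![![[], [], [], [0], [0], [0], [0], [], [0], [0], [], [1, 2]],
      ![[], [], [], [1], [], [1, 2], [1, 2], [0, 0], [0], [0], [1, 2], [1, 2]],
      ![[], [], [], [2], [], [0, 0], [], [0], [], [0], [0, 0], [0, 0]],
      ![[], [], [], [], [], [], [2, 0], [0], [0, 1], [0, 1], [], [2]],
      ![[], [], [], [], [2, 0], [2], [], [1, 2], [0, 0], [], [2], [2]],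
      ![[], [], [], [], [], [], [], [], [], [], [], []],
      ![[], [], [], [], [], [], [], [], [], [], [], []],
      ![[], [], [], [], [], [], [], [], [], [], [], []]],
    ![![[], [], [], [], [], [], [], [], [], [], [], []],
      ![[], [], [], [], [], [], [], [], [], [], [], []],
      ![[], [], [], [], [], [], [], [], [], [], [], []],
      ![[], [], [], [], [], [], [], [], [], [], [], []],
      ![[], [], [], [], [], [], [], [], [], [], [], []],
      ![[], [], [], [], [], [], [], [], [], [], [], []],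
      ![[], [], [], [], [], [], [], [], [], [], [], []],
      ![[], [], [], [], [], [], [], [], [], [], [], []]]]

theorem ok1 : ∀ i : Fin 5, base i ∈ orb i := by decide

theorem ok2 : ∀ i : Fin 5, tw i (base i) = [] := by decide

set_option maxRecDepth 1000000 in
theorem ok3 : ∀ i : Fin 5, ∀ p ∈ orb i,
    (∀ j ∈ tw i p, (j : ℕ) < nlev i.castSucc) ∧ evalW (tw i p) (base i) = p := by
  decide +kernel

set_option maxRecDepth 1000000 in
theorem ok4 : ∀ i : Fin 5, ∀ j : Fin 8, (j : ℕ) < nlev i.succ → gen j (base i) = base i := by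
  decide +kernel

set_option maxRecDepth 1000000 in
theorem ok5 : ∀ i : Fin 5, ∀ j : Fin 8, (j : ℕ) < nlev i.castSucc → ∀ p ∈ orb i, gen j p ∈ orb i ∧
    (∀ l ∈ cert i j p, (l : ℕ) < nlev i.succ) ∧
    evalW (tw i (gen j p)) * evalW (cert i j p) = gen j * evalW (tw i p) := by
  decide +kernel

theorem nlev_mono : ∀ i : Fin 5, nlev i.succ ≤ nlev i.castSucc := by decide

theorem evalW_nil : evalW [] = 1 := rfl

theorem grp_mono {n n' : ℕ} (h : n' ≤ n) : grp n' ≤ grp n := by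
  apply Subgroup.closure_mono
  rintro g ⟨j, hj, rfl⟩
  exact ⟨j, lt_of_lt_of_le hj h, rfl⟩

theorem level (i : Fin 5) (n n' : ℕ) (b : Fin 12) (c : ℕ) (hn : nlev i.castSucc = n)
    (hn' : nlev i.succ = n') (hb : base i = b) (hc : (orb i).card = c) :
    (∀ k ∈ grp n, k b = b → k ∈ grp n') ∧ Nat.card (grp n) = c * Nat.card (grp n') := by
  subst hn hn' hb hc
  apply schreier_step (genSet (nlev i.castSucc)) (grp (nlev i.succ)) (base i) (orb i)
    (fun p => evalW (tw i p))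
  · exact ok1 i
  · show evalW (tw i (base i)) = 1
    rw [ok2 i]; rfl
  · intro p hp
    exact evalW_mem _ _ (ok3 i p hp).1
  · intro p hp
    exact (ok3 i p hp).2
  · exact grp_mono (nlev_mono i)
  · intro h hh
    have hle : grp (nlev i.succ) ≤ MulAction.stabilizer (Equiv.Perm (Fin 12)) (base i) := by
      apply (Subgroup.closure_le _).2
      rintro g ⟨j, hj, rfl⟩
      exact ok4 i j hj
    exact hle hh
  · rintro g ⟨j, hj, rfl⟩ p hp
    obtain ⟨h1, h2, h3⟩ := ok5 i j hj p hp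
    refine ⟨h1, ?_⟩
    have e : (evalW (tw i (gen j p)))⁻¹ * gen j * evalW (tw i p) = evalW (cert i j p) := by
      rw [mul_assoc, ← h3]; group
    show (evalW (tw i (gen j • p)))⁻¹ * gen j * evalW (tw i p) ∈ grp (nlev i.succ)
    rw [Equiv.Perm.smul_def, e]
    exact evalW_mem _ _ h2

theorem grp_zero : grp 0 = ⊥ := by
  unfold grp
  have : genSet 0 = ∅ := by
    ext g
    simp [genSet]
  rw [this, Subgroup.closure_empty]

theorem L0 : (∀ k ∈ grp 8, k 2 = 2 → k ∈ grp 7) ∧ Nat.card (grp 8) = 12 * Nat.card (grp 7) :=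
  level 0 8 7 2 12 rfl rfl rfl (by decide)

theorem L1 : (∀ k ∈ grp 7, k 1 = 1 → k ∈ grp 6) ∧ Nat.card (grp 7) = 11 * Nat.card (grp 6) :=
  level 1 7 6 1 11 rfl rfl rfl (by decide)

theorem L2 : (∀ k ∈ grp 6, k 0 = 0 → k ∈ grp 5) ∧ Nat.card (grp 6) = 10 * Nat.card (grp 5) :=
  level 2 6 5 0 10 rfl rfl rfl (by decide)

theorem L3 : (∀ k ∈ grp 5, k 3 = 3 → k ∈ grp 3) ∧ Nat.card (grp 5) = 9 * Nat.card (grp 3) :=
  level 3 5 3 3 9 rfl rfl rfl (by decide)

theorem L4 : (∀ k ∈ grp 3, k 4 = 4 → k ∈ grp 0) ∧ Nat.card (grp 3) = 8 * Nat.card (grp 0) :=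
  level 4 3 0 4 8 rfl rfl rfl (by decide)

theorem card_grp0 : Nat.card (grp 0) = 1 := by
  rw [grp_zero]; exact Subgroup.card_bot

theorem card_grp8 : Nat.card (grp 8) = 95040 := by
  rw [L0.2, L1.2, L2.2, L3.2, L4.2, card_grp0]

theorem card_grp7 : Nat.card (grp 7) = 7920 := by
  rw [L1.2, L2.2, L3.2, L4.2, card_grp0]

theorem grp7_fix : ∀ k ∈ grp 7, k 2 = 2 := by
  intro k hk
  have hle : grp 7 ≤ MulAction.stabilizer (Equiv.Perm (Fin 12)) (2 : Fin 12) := by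
    apply (Subgroup.closure_le _).2
    rintro g ⟨j, hj, rfl⟩
    exact ok4 0 j hj
  exact hle hk

/-- the standard base as an embedding -/
def y0 : Fin 5 ↪ Fin 12 := ⟨![2, 1, 0, 3, 4], by decide⟩

theorem stab_y0 (k : Equiv.Perm (Fin 12)) (hk : k ∈ grp 8) (h : ∀ i, k (y0 i) = y0 i) : k = 1 := by
  have h0 : k 2 = 2 := h 0
  have h1 : k 1 = 1 := h 1
  have h2 : k 0 = 0 := h 2
  have h3 : k 3 = 3 := h 3
  have h4 : k 4 = 4 := h 4
  have := L4.1 k (L3.1 k (L2.1 k (L1.1 k (L0.1 k hk h0) h1) h2) h3) h4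
  rw [grp_zero, Subgroup.mem_bot] at this
  exact this

theorem stab_y0_bot : MulAction.stabilizer (grp 8) y0 = ⊥ := by
  rw [eq_bot_iff]
  intro k hk
  rw [MulAction.mem_stabilizer_iff] at hk
  rw [Subgroup.mem_bot]
  apply Subtype.ext
  apply stab_y0 k.1 k.2
  intro i
  have := congrArg (fun f : Fin 5 ↪ Fin 12 => f i) hk
  exact this

theorem orbit_y0 : MulAction.orbit (grp 8) y0 = Set.univ := by
  have h := MulAction.index_stabilizer (grp 8) y0
  rw [stab_y0_bot, Subgroup.index_bot, card_grp8] at h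
  have h' : (MulAction.orbit (grp 8) y0).ncard = 95040 := h.symm
  apply (Set.eq_univ_iff_ncard _).2
  refine h'.trans ?_
  rw [Nat.card_eq_fintype_card, Fintype.card_embedding_eq]
  simp [Nat.descFactorial]

theorem exists_of_embedding (y : Fin 5 ↪ Fin 12) :
    ∃ g : grp 8, ∀ i, y i = (g : Equiv.Perm (Fin 12)) (y0 i) := by
  have hy : y ∈ MulAction.orbit (grp 8) y0 := by rw [orbit_y0]; exact Set.mem_univ _
  obtain ⟨g, rfl⟩ := hy
  exact ⟨g, fun i => rfl⟩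

theorem trans5 : MulAction.IsMultiplyPretransitive (grp 8) (Fin 12) 5 := by
  rw [MulAction.isMultiplyPretransitive_iff]
  intro a b
  obtain ⟨g₁, h₁⟩ := exists_of_embedding a
  obtain ⟨g₂, h₂⟩ := exists_of_embedding b
  refine ⟨g₂ * g₁⁻¹, ?_⟩
  apply DFunLike.ext
  intro i
  show ((g₂ * g₁⁻¹ : grp 8) : Equiv.Perm (Fin 12)) (a i) = b i
  rw [h₁ i, h₂ i, Subgroup.coe_mul, Subgroup.coe_inv, Equiv.Perm.mul_apply,
    Equiv.Perm.inv_def, Equiv.symm_apply_apply]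

theorem sharp5 (y : Fin 5 ↪ Fin 12) : MulAction.stabilizer (grp 8) y = ⊥ := by
  obtain ⟨g, hg⟩ := exists_of_embedding y
  rw [eq_bot_iff]
  intro k hk
  rw [MulAction.mem_stabilizer_iff] at hk
  have hk' : ∀ i, (k : Equiv.Perm (Fin 12)) (y i) = y i :=
    fun i => congrArg (fun f : Fin 5 ↪ Fin 12 => f i) hk
  rw [Subgroup.mem_bot]
  apply Subtype.ext
  have e : ((g : Equiv.Perm (Fin 12)))⁻¹ * (k : Equiv.Perm (Fin 12)) * g = 1 := by
    apply stab_y0 _ ((grp 8).mul_mem ((grp 8).mul_mem ((grp 8).inv_mem g.2) k.2) g.2)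
    intro i
    rw [Equiv.Perm.mul_apply, Equiv.Perm.mul_apply, ← hg i, hk' i, hg i,
      Equiv.Perm.inv_def, Equiv.symm_apply_apply]
  have e2 : (k : Equiv.Perm (Fin 12))
      = g * ((g : Equiv.Perm (Fin 12))⁻¹ * k * g) * (g : Equiv.Perm (Fin 12))⁻¹ := by group
  rw [e2, e]
  simp

theorem genSet8 (s t u v w x₁ x₂ x₃ : Equiv.Perm (Fin 12))
    (hu : u = gen 0) (hv : v = gen 1) (hw : w = gen 2) (hs : s = gen 3) (ht : t = gen 4)
    (hx₁ : x₁ = gen 5) (hx₂ : x₂ = gen 6) (hx₃ : x₃ = gen 7) :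
    ({s, t, u, v, w, x₁, x₂, x₃} : Set (Equiv.Perm (Fin 12))) = genSet 8 := by
  subst hu hv hw hs ht hx₁ hx₂ hx₃
  ext g
  simp only [Set.mem_insert_iff, Set.mem_singleton_iff, genSet, Set.mem_ofPred_eq]
  constructor
  · rintro (rfl | rfl | rfl | rfl | rfl | rfl | rfl | rfl)
    · exact ⟨3, by decide, rfl⟩
    · exact ⟨4, by decide, rfl⟩
    · exact ⟨0, by decide, rfl⟩
    · exact ⟨1, by decide, rfl⟩
    · exact ⟨2, by decide, rfl⟩
    · exact ⟨5, by decide, rfl⟩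
    · exact ⟨6, by decide, rfl⟩
    · exact ⟨7, by decide, rfl⟩
  · rintro ⟨j, -, rfl⟩
    fin_cases j <;> simp

theorem genSet7 (s t u v w x₁ x₂ : Equiv.Perm (Fin 12))
    (hu : u = gen 0) (hv : v = gen 1) (hw : w = gen 2) (hs : s = gen 3) (ht : t = gen 4)
    (hx₁ : x₁ = gen 5) (hx₂ : x₂ = gen 6) :
    ({s, t, u, v, w, x₁, x₂} : Set (Equiv.Perm (Fin 12))) = genSet 7 := by
  subst hu hv hw hs ht hx₁ hx₂
  ext g
  simp only [Set.mem_insert_iff, Set.mem_singleton_iff, genSet, Set.mem_ofPred_eq]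
  constructor
  · rintro (rfl | rfl | rfl | rfl | rfl | rfl | rfl)
    · exact ⟨3, by decide, rfl⟩
    · exact ⟨4, by decide, rfl⟩
    · exact ⟨0, by decide, rfl⟩
    · exact ⟨1, by decide, rfl⟩
    · exact ⟨2, by decide, rfl⟩
    · exact ⟨5, by decide, rfl⟩
    · exact ⟨6, by decide, rfl⟩
  · rintro ⟨j, hj, rfl⟩
    fin_cases j <;> simp at hj ⊢

/-- An explicit construction of the Mathieu groups of degrees 11 and 12. On the points 0, …, 11 let s = (3 4 5)(6 7 8)(9 10 11), t = (3 6 9)(4 7 10)(5 8 11), u = (4 6 5 9)(7 8 11 10), v = (4 7 5 11)(6 10 9 8), w = (4 10 5 8)(6 11 9 7), x₁ = (0 3)(6 7)(8 10)(9 11), x₂ = (0 1)(6 9)(7 10)(8 11), x₃ = (1 2)(6 11)(7 9)(8 10) (each written as a product of transpositions). Then the group M₁₂ generated by all eight permutations is sharply 5-transitive on the 12 points and has order 95040, and the group M₁₁ generated by the first seven has order 7920 and is the stabilizer of the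 point 2 in M₁₂. -/
theorem result
    (s t u v w x₁ x₂ x₃ : Equiv.Perm (Fin 12))
    (hs : s = Equiv.swap (3 : Fin 12) 5 * Equiv.swap (3 : Fin 12) 4 * Equiv.swap (6 : Fin 12) 8 * Equiv.swap (6 : Fin 12) 7 * Equiv.swap (9 : Fin 12) 11 * Equiv.swap (9 : Fin 12) 10) (ht : t = Equiv.swap (3 : Fin 12) 9 * Equiv.swap (3 : Fin 12) 6 * Equiv.swap (4 : Fin 12) 10 * Equiv.swap (4 : Fin 12) 7 * Equiv.swap (5 : Fin 12) 11 * Equiv.swap (5 : Fin 12) 8)
    (hu : u = Equiv.swap (4 : Fin 12) 9 * Equiv.swap (4 : Fin 12) 5 * Equiv.swap (4 : Fin 12) 6 * Equiv.swap (7 : Fin 12) 10 * Equiv.swap (7 : Fin 12) 11 * Equiv.swap (7 : Fin 12) 8) (hv : v = Equiv.swap (4 : Fin 12) 11 * Equiv.swap (4 : Fin 12) 5 * Equiv.swap (4 : Fin 12) 7 * Equiv.swap (6 : Fin 12) 8 * Equiv.swap (6 : Fin 12) 9 * Equiv.swap (6 : Fin 12) 10) (hw : w = Equiv.swap (4 : Fin 12) 8 * Equiv.swap (4 : Fin 12) 5 * Equiv.swap (4 : Fin 12) 10 * Equiv.swap (6 : Fin 12)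 7 * Equiv.swap (6 : Fin 12) 9 * Equiv.swap (6 : Fin 12) 11)
    (hx₁ : x₁ = Equiv.swap (0 : Fin 12) 3 * Equiv.swap (6 : Fin 12) 7 * Equiv.swap (8 : Fin 12) 10 * Equiv.swap (9 : Fin 12) 11) (hx₂ : x₂ = Equiv.swap (0 : Fin 12) 1 * Equiv.swap (6 : Fin 12) 9 * Equiv.swap (7 : Fin 12) 10 * Equiv.swap (8 : Fin 12) 11)
    (hx₃ : x₃ = Equiv.swap (1 : Fin 12) 2 * Equiv.swap (6 : Fin 12) 11 * Equiv.swap (7 : Fin 12) 9 * Equiv.swap (8 : Fin 12) 10)
    (M₁₂ M₁₁ : Subgroup (Equiv.Perm (Fin 12))) (hM₁₂ : M₁₂ = Subgroup.closure {s, t, u, v, w, x₁, x₂, x₃})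
    (hM₁₁ : M₁₁ = Subgroup.closure {s, t, u, v, w, x₁, x₂}) :
    MulAction.IsMultiplyPretransitive M₁₂ (Fin 12) 5 ∧ (∀ y : Fin 5 ↪ Fin 12, MulAction.stabilizer M₁₂ y = ⊥) ∧
    Nat.card M₁₂ = 95040 ∧ Nat.card M₁₁ = 7920 ∧
    M₁₁ = M₁₂ ⊓ MulAction.stabilizer (Equiv.Perm (Fin 12)) (2 : Fin 12) := by
  have e8 : M₁₂ = grp 8 := by
    rw [hM₁₂]
    show Subgroup.closure _ = Subgroup.closure _
    rw [genSet8 s t u v w x₁ x₂ x₃ (by rw [hu]; rfl) (by rw [hv]; rfl) (by rw [hw]; rfl)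
      (by rw [hs]; rfl) (by rw [ht]; rfl) (by rw [hx₁]; rfl) (by rw [hx₂]; rfl) (by rw [hx₃]; rfl)]
  have e7 : M₁₁ = grp 7 := by
    rw [hM₁₁]
    show Subgroup.closure _ = Subgroup.closure _
    rw [genSet7 s t u v w x₁ x₂ (by rw [hu]; rfl) (by rw [hv]; rfl) (by rw [hw]; rfl)
      (by rw [hs]; rfl) (by rw [ht]; rfl) (by rw [hx₁]; rfl) (by rw [hx₂]; rfl)]
  subst e8 e7
  refine ⟨trans5, sharp5, card_grp8, card_grp7, ?_⟩
  ext k
  rw [Subgroup.mem_inf, MulAction.mem_stabilizer_iff]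
  constructor
  · intro hk
    exact ⟨grp_mono (by norm_num) hk, grp7_fix k hk⟩
  · rintro ⟨hk, h2⟩
    exact L0.1 k hk h2

end Cfsg.Agent.S3362
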