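import Mathlib
import Cfsg.Statements.S3370
import Cfsg.Agent.Lib.Helper20.TransVec3

set_option autoImplicit false
open Cfsg

namespace Cfsg.Agent.S3370

open Cfsg.Agent.Helper20.TransVec Cfsg.Agent.Helper20.PowSubOne

/-- Let q be a prime, V a non-trivial finite vector space over the field with q elements, and G a non-trivial finite p-group (p prime) acting faithfully and linearly on V and transitively on the non-zero vectors. Then either q = 2 and G has prime order p = |V| − 1; or p = 2, V has q elements with q = 2^m + 1 and G is cyclic of order 2^m; or p = 2, q = 3, V has 9 elements and G is cyclic of order 8, quaternion of order 8, or semidihedral of order 16. -/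
theorem result (q : ℕ) [Fact q.Prime] {V : Type*} [AddCommGroup V] [Module (ZMod q) V] [Finite V] [Nontrivial V]
    {G : Type*} [Group G] [Finite G] [Nontrivial G] (p : ℕ) [Fact p.Prime] (hG : IsPGroup p G)
    (ρ : G →* (V ≃ₗ[ZMod q] V)) (hρ : Function.Injective ρ)
    (htrans : ∀ v w : V, v ≠ 0 → w ≠ 0 → ∃ g : G, ρ g v = w) :
    (q = 2 ∧ p = Nat.card V - 1 ∧ Nat.card G = p) ∨
    (p = 2 ∧ Nat.card V = q ∧ (∃ m : ℕ, q = 2 ^ m + 1 ∧ Nat.card G = 2 ^ m) ∧ IsCyclic G) ∨
    (p = 2 ∧ q = 3 ∧ Nat.card V = 9 ∧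
      ((IsCyclic G ∧ Nat.card G = 8) ∨ Nonempty (G ≃* QuaternionGroup 2) ∨ (Cfsg.IsQuasiDihedral G ∧ Nat.card G = 16))) := by
  classical
  have hp : p.Prime := Fact.out
  have hq : q.Prime := Fact.out
  haveI : Module.Finite (ZMod q) V := Module.Finite.of_finite
  have hVcard : Nat.card V = q ^ Module.finrank (ZMod q) V := by
    rw [Module.natCard_eq_pow_finrank (K := ZMod q), Nat.card_zmod]
  have hV3 : 3 ≤ Nat.card V := three_le_card ρ hρ
  obtain ⟨v0, hv0⟩ := exists_ne (0 : V)
  obtain ⟨k, hk⟩ := (IsPGroup.iff_card (p := p) (G := G)).1 hG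
  have hcard := card_eq ρ htrans v0 hv0
  have hdvd : Nat.card V - 1 ∣ p ^ k := by
    rw [← hk, hcard]; exact dvd_mul_right _ _
  obtain ⟨j, hjk, hj⟩ := (Nat.dvd_prime_pow hp).1 hdvd
  generalize hn : Module.finrank (ZMod q) V = n at hVcard
  have hqn : q ^ n = p ^ j + 1 := by omega
  have hn1 : 1 ≤ n := by
    by_contra h0
    have : n = 0 := by omega
    rw [this, pow_zero] at hVcard
    omega
  have hj0 : j ≠ 0 := by
    rintro rfl
    rw [pow_zero] at hj
    omega
  by_cases hq2 : q = 2
  · left
    rw [hq2] at hqn hVcard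
    have hn2 : 2 ≤ n := by
      by_contra h
      have : n = 1 := by omega
      rw [this] at hVcard
      omega
    have hj1 := mersenne_pow p n j hp hn2 hqn
    rw [hj1, pow_one] at hj
    refine ⟨hq2, hj.symm, ?_⟩
    exact card_le_of_perm ρ hρ p hp hG (by omega)
  · right
    have hp2 : p = 2 := by
      have hqodd : Odd q := hq.odd_of_ne_two hq2
      have : Odd (q ^ n) := hqodd.pow
      rw [hqn] at this
      have hev : Even (p ^ j) := by
        by_contra hne
        rw [Nat.not_even_iff_odd] at hne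
        have := hne.add_odd odd_one
        exact (Nat.not_odd_iff_even.2 this) ‹Odd (p ^ j + 1)›
      have hpe : Even p := (Nat.even_pow.1 hev).1
      exact (Nat.Prime.even_iff hp).1 hpe
    rw [hp2] at hqn
    rcases fermat_pow q n j hq hq2 hn1 hqn with h1 | ⟨h3, h2⟩
    · left
      rw [h1, pow_one] at hVcard hqn
      refine ⟨hp2, hVcard, ⟨j, hqn, ?_⟩, isCyclic_of_card_V ρ hρ hVcard⟩
      rw [card_eq_of_card_V ρ hρ htrans hVcard]
      omega
    · right
      subst h3
      subst h2
      have hV9 : Nat.card V = 9 := by rw [hVcard]; norm_num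
      refine ⟨hp2, rfl, hV9, ?_⟩
      let b : Module.Basis (Fin 2) (ZMod 3) V := Module.finBasisOfFinrankEq (ZMod 3) V hn
      have h48 : Nat.card G ∣ 48 := card_dvd ρ b hρ
      have h8 : 8 ∣ Nat.card G := by
        rw [hcard, hV9]; exact dvd_mul_right _ _
      rw [hk, hp2] at h48 h8
      have hk3 : 3 ≤ k := by
        by_contra hlt
        have : k ≤ 2 := by omega
        have h1 : 2 ^ k ≤ 2 ^ 2 := Nat.pow_le_pow_right (by norm_num) this
        have h2 := Nat.le_of_dvd (by positivity) h8
        omega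
      have hk4 : k ≤ 4 := by
        by_contra hlt
        have h5 : 5 ≤ k := by omega
        have : 2 ^ 5 ∣ 48 := dvd_trans (Nat.pow_dvd_pow 2 h5) h48
        omega
      have hk34 : k = 3 ∨ k = 4 := by omega
      rcases hk34 with rfl | rfl
      · have hG8 : Nat.card G = 8 := by rw [hk, hp2]; norm_num
        rcases card_eight_case ρ hρ htrans hV9 hG8 with h | h
        · exact Or.inl h
        · exact Or.inr (Or.inl h)
      · have hG16 : Nat.card G = 16 := by rw [hk, hp2]; norm_num
        exact Or.inr (Or.inr ⟨quasiDihedral_of_card ρ b hρ htrans hV9 hG16, hG16⟩)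

end Cfsg.Agent.S3370
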