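import Mathlib
import Cfsg.Statements.S3371
import Cfsg.Agent.Lib.Helper8.HTDefs
import Cfsg.Agent.Lib.Helper8.HTSEMI
import Cfsg.Agent.Lib.Helper8.HTB1
import Cfsg.Agent.Lib.Helper8.HTQD
import Cfsg.Agent.Lib.Helper16.HTUNIQ
import Cfsg.Agent.Lib.Helper16.HTB2b
import Cfsg.Agent.Lib.Helper16.HTDIH
import Cfsg.Agent.Lib.Helper15.HTB2a
import Cfsg.Agent.Lib.Helper15.HTODD
import Cfsg.Agent.Lib.Helper16.UniqueInvolution
import Cfsg.Agent.Lib.Helper16.NormalFourC
import Cfsg.Agent.Lib.Helper16.NormalFourD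
import Cfsg.Agent.S0519

set_option autoImplicit false
open Cfsg

namespace Cfsg.Agent.S3371

open Cfsg.Agent.Helper8.HT Cfsg.Agent.Helper16

/-- Let q be a prime, V a non-trivial finite vector space over the field with q elements, and G a finite p-group (p prime) acting faithfully and linearly on V such that all G-orbits on the non-zero vectors have the same size. Then one of the following holds: G is cyclic or generalized quaternion and acts semiregularly on the non-zero vectors; or V has q² elements with q = 2^m − 1 and G is dihedral of order 2^(m+1) or semidihedral of order 2^(m+2); or V has q² elements with q = 2^m + 1 and, in suitable coordinates V = F_q², G is exactly the group of maps (x, y) ↦ (a x, ± a⁻¹ y) and (x, y) ↦ (± a⁻¹ y, a x) with a ≠ 0; or V has 81 elements (q = 3) and G is a 2-group. -/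
theorem result (q : ℕ) [Fact q.Prime] {V : Type*} [AddCommGroup V] [Module (ZMod q) V] [Finite V] [Nontrivial V]
    {G : Type*} [Group G] [Finite G] (p : ℕ) [Fact p.Prime] (hG : IsPGroup p G)
    (ρ : G →* (V ≃ₗ[ZMod q] V)) (hρ : Function.Injective ρ)
    (hhalf : ∀ v w : V, v ≠ 0 → w ≠ 0 → Nat.card {u : V | ∃ g : G, ρ g v = u} = Nat.card {u : V | ∃ g : G, ρ g w = u}) :
    ((IsCyclic G ∨ ∃ n : ℕ, Nonempty (G ≃* QuaternionGroup n)) ∧ ∀ v : V, v ≠ 0 → ∀ g : G, ρ g v = v → g = 1) ∨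
    (Nat.card V = q ^ 2 ∧ ∃ m : ℕ, q = 2 ^ m - 1 ∧
      (Nonempty (G ≃* DihedralGroup (2 ^ m)) ∨ (Cfsg.IsQuasiDihedral G ∧ Nat.card G = 2 ^ (m + 2)))) ∨
    (Nat.card V = q ^ 2 ∧ (∃ m : ℕ, q = 2 ^ m + 1) ∧
      ∃ e : V ≃ₗ[ZMod q] (Fin 2 → ZMod q), ∀ f : (Fin 2 → ZMod q) ≃ₗ[ZMod q] (Fin 2 → ZMod q),
        (∃ g : G, f = e.symm.trans ((ρ g).trans e)) ↔
        ∃ a s : ZMod q, a ≠ 0 ∧ (s = 1 ∨ s = -1) ∧
          ((∀ v, f v = ![a * v 0, s * a⁻¹ * v 1]) ∨ (∀ v, f v = ![s * a⁻¹ * v 1, a * v 0]))) ∨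
    (Nat.card V = 81 ∧ q = 3 ∧ p = 2) := by
  classical
  have hH : Half ρ := hhalf
  by_cases hpq : p = q
  · -- trivial group
    subst hpq
    have htriv := trivial_of_p_eq_q ρ hρ hH hG
    left
    refine ⟨Or.inl ?_, fun v _ g _ => htriv g⟩
    have : Subsingleton G := ⟨fun a b => (htriv a).trans (htriv b).symm⟩
    infer_instance
  by_cases hp2 : p = 2
  · subst hp2
    have hq2 : q ≠ 2 := fun h => hpq h.symm
    -- unique-order case helper
    have hfinish : UniqueOrderP 2 G →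
        ((IsCyclic G ∨ ∃ n : ℕ, Nonempty (G ≃* QuaternionGroup n)) ∧
          ∀ v : V, v ≠ 0 → ∀ g : G, ρ g v = v → g = 1) := by
      intro hu
      refine ⟨?_, semiregular_of_uniqueOrderP ρ hρ hH hpq hG hu⟩
      rcases cyclic_or_quaternion_of_uniqueOrderP_two hG hu with h | ⟨n, hn⟩
      · exact Or.inl h
      · exact Or.inr ⟨_, hn⟩
    by_cases hfour : ∃ U : Subgroup G, U.Normal ∧ Nat.card U = 4 ∧ ∀ u ∈ U, u ^ 2 = 1
    · -- case B
      obtain ⟨U, hUn, hU4, hU2⟩ := hfour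
      have := hUn
      obtain ⟨z, u, hzU, huU, hz1, hu1, huz, hzc, -, hconj⟩ :=
        NormalFour.normal_four_elements hG U hU4 hU2
      have hB : CaseB z u :=
        ⟨hzc, orderOf_eq_prime (hU2 z hzU) hz1, orderOf_eq_prime (hU2 u huU) hu1, huz, hconj⟩
      rcases caseB_card ρ hρ hH hq2 hG hB with ⟨h81, h3⟩ | ⟨hV, hm, h0⟩
      · right; right; right
        exact ⟨h81, h3, rfl⟩
      · right; right; left
        obtain ⟨e₀, e₁, hspan, hind, hform, hall⟩ := caseB_basis ρ hρ hH hq2 hB hV h0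
        exact ⟨hV, hm, caseB_coords_of_basis ρ e₀ e₁ hspan hind hform hall⟩
    · -- case A
      have hn : ∀ A : Subgroup G, A.Normal → IsMulCommutative A → IsCyclic A := by
        intro A hAn hAc
        by_contra hnc
        have := hAn
        exact hfour (NormalFour.noncyclic_case hG A
          (fun x hx y hy => congrArg Subtype.val (hAc.is_comm.comm ⟨x, hx⟩ ⟨y, hy⟩)) hnc)
      by_cases hm : ∃ B : Subgroup G, IsMulCommutative B ∧ ¬ IsCyclic B
      · obtain ⟨-, hcase⟩ := Cfsg.Agent.S0519.result 2 hG hn hm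
        rcases hcase with ⟨n, ⟨e⟩⟩ | ⟨n, hn8, ⟨e⟩⟩ | hQD
        · left
          have hu := uniqueOrderP_two_of_quaternion e
          exact ⟨Or.inr ⟨n, ⟨e⟩⟩, semiregular_of_uniqueOrderP ρ hρ hH hpq hG hu⟩
        · right; left
          obtain ⟨hV, m, hqm, he⟩ := dihedral_case ρ hρ hH hq2 hn8 hG e
          exact ⟨hV, m, hqm, Or.inl he⟩
        · right; left
          obtain ⟨hV, m, hqm, hc⟩ := quasiDihedral_case ρ hρ hH hq2 hQD
          exact ⟨hV, m, hqm, Or.inr ⟨hQD, hc⟩⟩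
      · left
        push Not at hm
        exact hfinish (uniqueOrderP_of_abelian_cyclic hG hm)
  · -- odd p
    left
    have hc := isCyclic_of_odd ρ hρ hH hp2 hpq hG
    exact ⟨Or.inl hc, semiregular_of_uniqueOrderP ρ hρ hH hpq hG (uniqueOrderP_of_isCyclic p hc)⟩

end Cfsg.Agent.S3371
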