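import Mathlib
import Cfsg.Statements.S3375

set_option autoImplicit false
open Cfsg

namespace Cfsg.Agent.S3375

theorem key {H : Type*} [Group H] [Finite H] (γ : MulAut H) (hγ2 : ∀ h, γ (γ h) = h)
    (M C : Subgroup H) (hM : ∀ h, γ h * h⁻¹ ∈ M) (hC : ∀ h, h ∈ C ↔ γ h = h)
    (hcard : Nat.card M * Nat.card C ≤ Nat.card H) : ∀ m ∈ M, γ m = m⁻¹ := by
  classical
  let F : H ⧸ C → M := fun q => Quotient.liftOn' q (fun h => (⟨γ h * h⁻¹, hM h⟩ : M)) (by
    intro a b hab
    rw [QuotientGroup.leftRel_apply] at hab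
    have := (hC _).1 hab
    apply Subtype.ext
    simp only
    rw [map_mul, map_inv] at this
    calc γ a * a⁻¹ = γ a * (a⁻¹ * b) * b⁻¹ := by group
      _ = γ a * ((γ a)⁻¹ * γ b) * b⁻¹ := by rw [this]
      _ = γ b * b⁻¹ := by group)
  have Finj : Function.Injective F := by
    intro q₁ q₂
    induction q₁ using Quotient.inductionOn' with | _ a
    induction q₂ using Quotient.inductionOn' with | _ b
    intro h
    have h' : γ a * a⁻¹ = γ b * b⁻¹ := congrArg Subtype.val h
    apply Quotient.sound'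
    rw [QuotientGroup.leftRel_apply, hC, map_mul, map_inv]
    calc (γ a)⁻¹ * γ b = (γ a)⁻¹ * (γ b * b⁻¹) * b := by group
      _ = (γ a)⁻¹ * (γ a * a⁻¹) * b := by rw [h']
      _ = a⁻¹ * b := by group
  have hidx : Nat.card (H ⧸ C) * Nat.card C = Nat.card H := by
    rw [← Subgroup.index_eq_card]; exact C.index_mul_card
  have hle : Nat.card M ≤ Nat.card (H ⧸ C) := by
    have hpos : 0 < Nat.card C := Nat.card_pos
    rw [← hidx] at hcard
    exact Nat.le_of_mul_le_mul_right hcard hpos
  have Fsurj : Function.Surjective F :=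
    (Function.Injective.bijective_of_nat_card_le Finj hle).2
  intro m hm
  obtain ⟨q, hq⟩ := Fsurj ⟨m, hm⟩
  induction q using Quotient.inductionOn' with | _ h
  have : γ h * h⁻¹ = m := congrArg Subtype.val hq
  rw [← this, map_mul, map_inv, hγ2]; group

theorem comm_of_inverted {H : Type*} [Group H] (γ : MulAut H) (M : Subgroup H)
    (h : ∀ m ∈ M, γ m = m⁻¹) : ∀ a ∈ M, ∀ b ∈ M, a * b = b * a := by
  intro a ha b hb
  have h1 := h (a * b) (M.mul_mem ha hb)
  rw [map_mul, h a ha, h b hb] at h1
  have := congrArg (·⁻¹) h1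
  simpa using this.symm

theorem exists_invariant {H : Type*} [Group H] (γ : MulAut H) (hγ2 : ∀ h, γ (γ h) = h)
    (M : Subgroup H) (hM : M.index = 2) :
    ∃ M' : Subgroup H, M'.index = 2 ∧ ∀ h, γ h ∈ M' ↔ h ∈ M' := by
  classical
  by_cases hinv : ∀ h, γ h ∈ M ↔ h ∈ M
  · exact ⟨M, hM, hinv⟩
  · push Not at hinv
    obtain ⟨a, ha⟩ := hinv
    let M' : Subgroup H :=
      { carrier := {h | h ∈ M ↔ γ h ∈ M}
        mul_mem' := by
          intro x y hx hy
          simp only [Set.mem_setOf_eq] at hx hy ⊢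
          rw [map_mul, Subgroup.mul_mem_iff_of_index_two hM, Subgroup.mul_mem_iff_of_index_two hM,
            hx, hy]
        one_mem' := by simp
        inv_mem' := by
          intro x hx
          simp only [Set.mem_setOf_eq] at hx ⊢
          rw [map_inv, inv_mem_iff, inv_mem_iff, hx] }
    have memM' : ∀ h, h ∈ M' ↔ (h ∈ M ↔ γ h ∈ M) := fun h => Iff.rfl
    refine ⟨M', ?_, ?_⟩
    · rw [Subgroup.index_eq_two_iff]
      refine ⟨a, fun b => ?_⟩
      rw [memM', memM', map_mul, Subgroup.mul_mem_iff_of_index_two hM,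
        Subgroup.mul_mem_iff_of_index_two hM]
      by_cases h1 : a ∈ M <;> by_cases h2 : γ a ∈ M <;> by_cases h3 : b ∈ M <;>
        by_cases h4 : γ b ∈ M <;> simp [h1, h2, h3, h4, Xor'] <;> tauto
    · intro h
      rw [memM', memM', hγ2]
      tauto

/-- Let γ be an automorphism of order 2 of a finite group H. (i) If γ fixes only the identity, then H is abelian and γ inverts every element. (ii) If γ has exactly two fixed points and H has a subgroup of index 2, then H has a γ-invariant abelian subgroup of index 2 on which γ acts by inversion. -/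
theorem result {H : Type*} [Group H] [Finite H] (γ : MulAut H) (hγ : orderOf γ = 2) :
    ((∀ h : H, γ h = h → h = 1) → (∀ a b : H, a * b = b * a) ∧ ∀ h : H, γ h = h⁻¹) ∧
    ((Nat.card {h : H // γ h = h} = 2 ∧ ∃ M : Subgroup H, M.index = 2) →
      ∃ A : Subgroup H, A.index = 2 ∧ IsMulCommutative A ∧ (∀ a ∈ A, γ a ∈ A) ∧ ∀ a ∈ A, γ a = a⁻¹) := by
  classical
  have hγ2 : ∀ h, γ (γ h) = h := by
    intro h
    have h2 : γ ^ 2 = 1 := by rw [← hγ]; exact pow_orderOf_eq_one γ
    have : (γ ^ 2) h = h := by rw [h2]; rfl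
    rwa [sq, MulAut.mul_apply] at this
  constructor
  · intro hfix
    have hinv : ∀ m ∈ (⊤ : Subgroup H), γ m = m⁻¹ := by
      apply key γ hγ2 ⊤ ⊥
      · intro h; exact Subgroup.mem_top _
      · intro h
        rw [Subgroup.mem_bot]
        constructor
        · rintro rfl; exact map_one γ
        · exact hfix h
      · simp
    refine ⟨fun a b => comm_of_inverted γ ⊤ hinv a (Subgroup.mem_top _) b (Subgroup.mem_top _),
      fun h => hinv h (Subgroup.mem_top _)⟩
  · rintro ⟨hc2, M, hM⟩
    obtain ⟨M', hM', hinvar⟩ := exists_invariant γ hγ2 M hM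
    let C : Subgroup H := MonoidHom.eqLocus γ.toMonoidHom (MonoidHom.id H)
    have hC : ∀ h, h ∈ C ↔ γ h = h := fun h => Iff.rfl
    have hcardC : Nat.card C = 2 := by
      rw [← hc2]
      exact Nat.card_congr (Equiv.subtypeEquivRight (fun h => hC h))
    have hinv : ∀ m ∈ M', γ m = m⁻¹ := by
      apply key γ hγ2 M' C
      · intro h
        rw [Subgroup.mul_mem_iff_of_index_two hM', hinvar, inv_mem_iff]
      · exact hC
      · rw [hcardC, ← M'.index_mul_card, hM', mul_comm]
    refine ⟨M', hM', ?_, ?_, hinv⟩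
    · rw [isMulCommutative_iff]
      intro a b
      exact Subtype.ext (comm_of_inverted γ M' hinv a a.2 b b.2)
    · intro a ha
      rw [hinv a ha]; exact M'.inv_mem ha

end Cfsg.Agent.S3375
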