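import Mathlib
import Cfsg.Statements.S3377

set_option autoImplicit false
open Cfsg

namespace Cfsg.Agent.S3377

section tables
variable {G : Type*} [Group G] (x y : G) (hx : x * x * x = 1) (hy : y * y * y * y * y = 1)
  (hxy : x * y * x * y = 1)

/-- coset representatives of `⟨y⟩` -/
def reps (x y : G) : List G :=
  [1, x, x * x, x * x * y, x * x * y * x, x * x * y * y, x * x * y * x * x, x * x * y * y * x, x * x * y * x * x * y, x * x * y * x * x * y * y, x * x * y * x * x * y * y * x, x * x * y * x * x * y * y * x * x]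

/-- the union of the twelve cosets -/
def cosetUnion (x y : G) : Set G := {g | ∃ k : ℕ, ∃ r ∈ reps x y, g = y ^ k * r}

include hx hy hxy

theorem ty_0 : y = y := by
  grind (acSteps := 100000)

theorem ty_1 : x * y = y * y * y * y * (x * x) := by
  grind (acSteps := 100000)

theorem tx_2 : x * x * x = 1 := by
  grind (acSteps := 100000)

theorem ty_4 : x * x * y * x * y = x := by
  grind (acSteps := 100000)

theorem ty_5 : x * x * y * y * y = y * (x * x * y * x) := by
  grind (acSteps := 100000)

theorem tx_6 : x * x * y * x * x * x = x * x * y := by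
  grind (acSteps := 100000)

theorem tx_7 : x * x * y * y * x * x = y * (x * x * y * x * x * y) := by
  grind (acSteps := 100000)

theorem ty_7 : x * x * y * y * x * y = x * x * y * x * x := by
  grind (acSteps := 100000)

theorem tx_8 : x * x * y * x * x * y * x = y * y * y * y * (x * x * y * y) := by
  grind (acSteps := 100000)

theorem ty_9 : x * x * y * x * x * y * y * y = y * (x * x * y * x * x * y * y * x) := by
  grind (acSteps := 100000)

theorem ty_10 : x * x * y * x * x * y * y * x * y = y * y * y * y * (x * x * y * y * x) := by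
  grind (acSteps := 100000)

theorem tx_11 : x * x * y * x * x * y * y * x * x * x = x * x * y * x * x * y * y := by
  grind (acSteps := 100000)

theorem ty_11 : x * x * y * x * x * y * y * x * x * y = y * y * y * y * (x * x * y * x * x * y * y * x * x) := by
  grind (acSteps := 100000)

theorem cosetUnion_mul_x {g : G} (hg : g ∈ cosetUnion x y) : g * x ∈ cosetUnion x y := by
  obtain ⟨k, r, hr, rfl⟩ := hg
  simp only [reps, List.mem_cons, List.not_mem_nil, or_false] at hr
  rcases hr with h | h | h | h | h | h | h | h | h | h | h | h <;> rw [h]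
  · refine ⟨k, x, by simp [reps], ?_⟩
    simp [mul_assoc]
  · refine ⟨k, x * x, by simp [reps], ?_⟩
    simp [mul_assoc]
  · refine ⟨k + 0, 1, by simp [reps], ?_⟩
    rw [mul_assoc (y ^ k), tx_2 x y hx hy hxy]
    simp [pow_add, pow_succ, mul_assoc]
  · refine ⟨k, x * x * y * x, by simp [reps], ?_⟩
    simp [mul_assoc]
  · refine ⟨k, x * x * y * x * x, by simp [reps], ?_⟩
    simp [mul_assoc]
  · refine ⟨k, x * x * y * y * x, by simp [reps], ?_⟩
    simp [mul_assoc]
  · refine ⟨k + 0, x * x * y, by simp [reps], ?_⟩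
    rw [mul_assoc (y ^ k), tx_6 x y hx hy hxy]
    simp [pow_add, pow_succ, mul_assoc]
  · refine ⟨k + 1, x * x * y * x * x * y, by simp [reps], ?_⟩
    rw [mul_assoc (y ^ k), tx_7 x y hx hy hxy]
    simp [pow_add, pow_succ, mul_assoc]
  · refine ⟨k + 4, x * x * y * y, by simp [reps], ?_⟩
    rw [mul_assoc (y ^ k), tx_8 x y hx hy hxy]
    simp [pow_add, pow_succ, mul_assoc]
  · refine ⟨k, x * x * y * x * x * y * y * x, by simp [reps], ?_⟩
    simp [mul_assoc]
  · refine ⟨k, x * x * y * x * x * y * y * x * x, by simp [reps], ?_⟩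
    simp [mul_assoc]
  · refine ⟨k + 0, x * x * y * x * x * y * y, by simp [reps], ?_⟩
    rw [mul_assoc (y ^ k), tx_11 x y hx hy hxy]
    simp [pow_add, pow_succ, mul_assoc]

theorem cosetUnion_mul_y {g : G} (hg : g ∈ cosetUnion x y) : g * y ∈ cosetUnion x y := by
  obtain ⟨k, r, hr, rfl⟩ := hg
  simp only [reps, List.mem_cons, List.not_mem_nil, or_false] at hr
  rcases hr with h | h | h | h | h | h | h | h | h | h | h | h <;> rw [h]
  · refine ⟨k + 1, 1, by simp [reps], ?_⟩
    have e := ty_0 x y hx hy hxy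
    simp [pow_add, pow_succ, mul_assoc]
  · refine ⟨k + 4, x * x, by simp [reps], ?_⟩
    rw [mul_assoc (y ^ k), ty_1 x y hx hy hxy]
    simp [pow_add, pow_succ, mul_assoc]
  · refine ⟨k, x * x * y, by simp [reps], ?_⟩
    simp [mul_assoc]
  · refine ⟨k, x * x * y * y, by simp [reps], ?_⟩
    simp [mul_assoc]
  · refine ⟨k + 0, x, by simp [reps], ?_⟩
    rw [mul_assoc (y ^ k), ty_4 x y hx hy hxy]
    simp [pow_add, pow_succ, mul_assoc]
  · refine ⟨k + 1, x * x * y * x, by simp [reps], ?_⟩
    rw [mul_assoc (y ^ k), ty_5 x y hx hy hxy]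
    simp [pow_add, pow_succ, mul_assoc]
  · refine ⟨k, x * x * y * x * x * y, by simp [reps], ?_⟩
    simp [mul_assoc]
  · refine ⟨k + 0, x * x * y * x * x, by simp [reps], ?_⟩
    rw [mul_assoc (y ^ k), ty_7 x y hx hy hxy]
    simp [pow_add, pow_succ, mul_assoc]
  · refine ⟨k, x * x * y * x * x * y * y, by simp [reps], ?_⟩
    simp [mul_assoc]
  · refine ⟨k + 1, x * x * y * x * x * y * y * x, by simp [reps], ?_⟩
    rw [mul_assoc (y ^ k), ty_9 x y hx hy hxy]
    simp [pow_add, pow_succ, mul_assoc]
  · refine ⟨k + 4, x * x * y * y * x, by simp [reps], ?_⟩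
    rw [mul_assoc (y ^ k), ty_10 x y hx hy hxy]
    simp [pow_add, pow_succ, mul_assoc]
  · refine ⟨k + 4, x * x * y * x * x * y * y * x * x, by simp [reps], ?_⟩
    rw [mul_assoc (y ^ k), ty_11 x y hx hy hxy]
    simp [pow_add, pow_succ, mul_assoc]

end tables

section closure
variable {G : Type*} [Group G] (x y : G) (hx : x * x * x = 1) (hy : y * y * y * y * y = 1)
  (hxy : x * y * x * y = 1)
include hx hy hxy

theorem one_mem_cosetUnion : (1 : G) ∈ cosetUnion x y :=
  ⟨0, 1, by simp [reps], by simp⟩

/-- the right-multiplication stabilizer of the union of cosets -/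
def stab (x y : G) : Subgroup G where
  carrier := {w | ∀ g, g * w ∈ cosetUnion x y ↔ g ∈ cosetUnion x y}
  one_mem' := by intro g; simp
  mul_mem' := by
    intro a b ha hb g
    rw [← mul_assoc, hb, ha]
  inv_mem' := by
    intro a ha g
    rw [← ha (g * a⁻¹)]
    simp

theorem x_mem_stab : x ∈ stab x y := by
  intro g
  constructor
  · intro h
    have h2 := cosetUnion_mul_x x y hx hy hxy (cosetUnion_mul_x x y hx hy hxy h)
    have e : g * x * x * x = g := by
      rw [mul_assoc, mul_assoc, ← mul_assoc x x x, hx, mul_one]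
    rwa [e] at h2
  · exact cosetUnion_mul_x x y hx hy hxy

theorem y_mem_stab : y ∈ stab x y := by
  intro g
  constructor
  · intro h
    have h2 := cosetUnion_mul_y x y hx hy hxy (cosetUnion_mul_y x y hx hy hxy
      (cosetUnion_mul_y x y hx hy hxy (cosetUnion_mul_y x y hx hy hxy h)))
    have e : g * y * y * y * y * y = g := by
      have : g * y * y * y * y * y = g * (y * y * y * y * y) := by simp [mul_assoc]
      rw [this, hy, mul_one]
    rwa [e] at h2
  · exact cosetUnion_mul_y x y hx hy hxy

theorem mem_cosetUnion_of_mem_stab {w : G} (hw : w ∈ stab x y) : w ∈ cosetUnion x y := by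
  have := (hw 1).2 (one_mem_cosetUnion x y hx hy hxy)
  simpa using this

theorem finite_and_card_le (hall : ∀ w : G, w ∈ cosetUnion x y) :
    Finite G ∧ Nat.card G ≤ 60 := by
  classical
  have hy5 : y ^ 5 = 1 := by
    rw [← hy]; simp [pow_succ, mul_assoc]
  let F : Finset G := (Finset.range 5 ×ˢ (reps x y).toFinset).image (fun p => y ^ p.1 * p.2)
  have hF : ∀ w : G, w ∈ F := by
    intro w
    obtain ⟨k, r, hr, rfl⟩ := hall w
    rw [Finset.mem_image]
    refine ⟨(k % 5, r), ?_, ?_⟩
    · rw [Finset.mem_product]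
      exact ⟨Finset.mem_range.2 (Nat.mod_lt _ (by norm_num)), List.mem_toFinset.2 hr⟩
    · simp only
      rw [← pow_eq_pow_mod k hy5]
  have hfin : Finite G := by
    have : (Set.univ : Set G) ⊆ ↑F := fun w _ => hF w
    exact Set.finite_univ_iff.1 (F.finite_toSet.subset this)
  refine ⟨hfin, ?_⟩
  have h1 : Nat.card G ≤ F.card := by
    haveI := Fintype.ofFinite G
    have : (Finset.univ : Finset G) ⊆ F := fun w _ => hF w
    rw [Nat.card_eq_fintype_card, ← Finset.card_univ]
    exact Finset.card_le_card this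
  have h2 : F.card ≤ 5 * 12 := by
    calc F.card ≤ (Finset.range 5 ×ˢ (reps x y).toFinset).card := Finset.card_image_le
      _ = 5 * (reps x y).toFinset.card := by rw [Finset.card_product, Finset.card_range]
      _ ≤ 5 * (reps x y).length := Nat.mul_le_mul_left _ (List.toFinset_card_le _)
      _ = 5 * 12 := by simp [reps]
  omega

end closure

/-- the 3-cycle `(1 4 2)` -/
def a5a : alternatingGroup (Fin 5) :=
  ⟨Equiv.swap 1 4 * Equiv.swap 4 2, Equiv.Perm.mem_alternatingGroup.2 (by decide)⟩

/-- the 5-cycle `(0 1 2 3 4)` -/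
def a5b : alternatingGroup (Fin 5) :=
  ⟨Equiv.swap 0 1 * Equiv.swap 1 2 * Equiv.swap 2 3 * Equiv.swap 3 4,
    Equiv.Perm.mem_alternatingGroup.2 (by decide)⟩

theorem a5a_rel : a5a * a5a * a5a = 1 := by decide

theorem a5b_rel : a5b * a5b * a5b * a5b * a5b = 1 := by decide

theorem a5ab_rel : a5a * a5b * a5a * a5b = 1 := by decide

set_option maxRecDepth 100000 in
theorem a5_cover : ∀ g : alternatingGroup (Fin 5),
    ∃ k : Fin 5, ∃ r ∈ reps a5a a5b, g = a5b ^ (k : ℕ) * r := by
  decide +kernel

theorem result :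
    Nonempty (PresentedGroup ({FreeGroup.of (0 : Fin 2) ^ 3, FreeGroup.of (1 : Fin 2) ^ 5,
        (FreeGroup.of (0 : Fin 2) * FreeGroup.of 1) ^ 2} : Set (FreeGroup (Fin 2))) ≃* alternatingGroup (Fin 5)) := by
  classical
  obtain ⟨rels, hrels⟩ : ∃ rels : Set (FreeGroup (Fin 2)), rels = {FreeGroup.of (0 : Fin 2) ^ 3,
      FreeGroup.of (1 : Fin 2) ^ 5, (FreeGroup.of (0 : Fin 2) * FreeGroup.of 1) ^ 2} := ⟨_, rfl⟩
  rw [← hrels]
  obtain ⟨x, hxdef⟩ : ∃ x : PresentedGroup rels, x = PresentedGroup.of 0 := ⟨_, rfl⟩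
  obtain ⟨y, hydef⟩ : ∃ y : PresentedGroup rels, y = PresentedGroup.of 1 := ⟨_, rfl⟩
  have h3 : x ^ 3 = 1 := by
    have h : PresentedGroup.mk rels (FreeGroup.of (0 : Fin 2) ^ 3) = 1 :=
      PresentedGroup.one_of_mem (by rw [hrels]; simp)
    rw [map_pow] at h
    rw [hxdef]; exact h
  have h5 : y ^ 5 = 1 := by
    have h : PresentedGroup.mk rels (FreeGroup.of (1 : Fin 2) ^ 5) = 1 :=
      PresentedGroup.one_of_mem (by rw [hrels]; simp)
    rw [map_pow] at h
    rw [hydef]; exact h
  have h2 : (x * y) ^ 2 = 1 := by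
    have h : PresentedGroup.mk rels ((FreeGroup.of (0 : Fin 2) * FreeGroup.of 1) ^ 2) = 1 :=
      PresentedGroup.one_of_mem (by rw [hrels]; simp)
    rw [map_pow, map_mul] at h
    rw [hxdef, hydef]; exact h
  have hx : x * x * x = 1 := by rw [← h3, pow_succ, pow_succ, pow_one]
  have hy : y * y * y * y * y = 1 := by
    rw [← h5, pow_succ, pow_succ, pow_succ, pow_succ, pow_one]
  have hxy : x * y * x * y = 1 := by rw [mul_assoc (x * y) x y, ← sq]; exact h2
  -- every element lies in the union of the twelve cosets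
  have hall : ∀ w : PresentedGroup rels, w ∈ cosetUnion x y := by
    intro w
    apply mem_cosetUnion_of_mem_stab x y hx hy hxy
    apply PresentedGroup.generated_by rels (stab x y)
    rw [Fin.forall_fin_two]
    constructor
    · rw [← hxdef]; exact x_mem_stab x y hx hy hxy
    · rw [← hydef]; exact y_mem_stab x y hx hy hxy
  obtain ⟨hfin, hcard⟩ := finite_and_card_le x y hx hy hxy hall
  -- the homomorphism onto A5
  have hlift : ∀ r ∈ rels, FreeGroup.lift (![a5a, a5b] : Fin 2 → alternatingGroup (Fin 5)) r = 1 := by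
    intro r hr
    rw [hrels] at hr
    simp only [Set.mem_insert_iff, Set.mem_singleton_iff] at hr
    rcases hr with rfl | rfl | rfl
    · simp only [map_pow, FreeGroup.lift_apply_of, Matrix.cons_val_zero]
      rw [pow_succ, pow_succ, pow_one]; exact a5a_rel
    · simp only [map_pow, FreeGroup.lift_apply_of, Matrix.cons_val_one, Matrix.cons_val_zero]
      rw [pow_succ, pow_succ, pow_succ, pow_succ, pow_one]; exact a5b_rel
    · simp only [map_pow, map_mul, FreeGroup.lift_apply_of, Matrix.cons_val_one,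
        Matrix.cons_val_zero]
      rw [sq, ← mul_assoc]; exact a5ab_rel
  let φ : PresentedGroup rels →* alternatingGroup (Fin 5) := PresentedGroup.toGroup hlift
  have hφx : φ x = a5a := by rw [hxdef]; exact PresentedGroup.toGroup.of hlift
  have hφy : φ y = a5b := by rw [hydef]; exact PresentedGroup.toGroup.of hlift
  have hmap : (reps x y).map φ = reps a5a a5b := by
    simp [reps, hφx, hφy]
  have hsurj : Function.Surjective φ := by
    intro g
    obtain ⟨k, r, hr, rfl⟩ := a5_cover g
    rw [← hmap] at hr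
    obtain ⟨r', -, rfl⟩ := List.mem_map.1 hr
    exact ⟨y ^ (k : ℕ) * r', by rw [map_mul, map_pow, hφy]⟩
  have hc60 : Nat.card (alternatingGroup (Fin 5)) = 60 := by
    rw [nat_card_alternatingGroup]; simp [Nat.factorial]
  have hbij : Function.Bijective φ :=
    hsurj.bijective_of_nat_card_le (by rw [hc60]; exact hcard)
  exact ⟨MulEquiv.ofBijective φ hbij⟩

end Cfsg.Agent.S3377
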