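import Mathlib
import Cfsg.Statements.S3379

set_option autoImplicit false
open Cfsg

namespace Cfsg.Agent.S3379

open Subgroup

/-- If `x⁻¹ y x = y ^ r` then `x⁻ʲ y xʲ = y ^ (r ^ j)`. -/
theorem conj_pow_eq {G : Type*} [Group G] (x y : G) (r : ℕ) (h : x⁻¹ * y * x = y ^ r) (j : ℕ) :
    (x ^ j)⁻¹ * y * x ^ j = y ^ (r ^ j) := by
  induction j with
  | zero => simp
  | succ j ih =>
    have h1 : (x ^ (j + 1))⁻¹ * y * x ^ (j + 1) = x⁻¹ * ((x ^ j)⁻¹ * y * x ^ j) * x := by
      rw [pow_succ, mul_inv_rev]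
      simp only [mul_assoc]
    rw [h1, ih]
    have h2 : x⁻¹ * y ^ (r ^ j) * x = (x⁻¹ * y * x) ^ (r ^ j) := by
      have := conj_pow (a := x⁻¹) (b := y) (i := r ^ j)
      rw [inv_inv] at this
      exact this.symm
    rw [h2, h, ← pow_mul, pow_succ, mul_comm]

/-- a group generated by two commuting elements is commutative -/
theorem comm_of_closure_pair {Q : Type*} [Group Q] (a b : Q) (hab : a * b = b * a)
    (hgen : Subgroup.closure {a, b} = ⊤) : ∀ u v : Q, u * v = v * u := by
  have hc : IsMulCommutative (Subgroup.closure ({a, b} : Set Q)) := by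
    apply Subgroup.isMulCommutative_closure
    intro s hs t ht
    simp only [Set.mem_insert_iff, Set.mem_singleton_iff] at hs ht
    rcases hs with rfl | rfl <;> rcases ht with rfl | rfl
    · rfl
    · exact hab
    · exact hab.symm
    · rfl
  intro u v
  have hu : u ∈ Subgroup.closure ({a, b} : Set Q) := hgen ▸ Subgroup.mem_top u
  have hv : v ∈ Subgroup.closure ({a, b} : Set Q) := hgen ▸ Subgroup.mem_top v
  have := (isMulCommutative_iff.1 hc) ⟨u, hu⟩ ⟨v, hv⟩
  exact congrArg Subtype.val this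

/-- Key: if `G = ⟨x, y⟩`, `⟨y⟩ = commutator G` and `x⁻¹ y x = y ^ r`, then `r - 1` is prime to the order of `y`. -/
theorem coprime_of_commutator {G : Type*} [Group G] [Finite G] (x y : G) (r : ℕ) (hr : 1 ≤ r)
    (hgen : Subgroup.closure {x, y} = ⊤) (hN : ∀ z ∈ commutator G, z ∈ Subgroup.zpowers y)
    (hy : y ∈ commutator G) (h : x⁻¹ * y * x = y ^ r) :
    Nat.Coprime (r - 1) (orderOf y) := by
  -- L = {z^(r-1) | z ∈ zpowers y}
  have hNcomm : ∀ a ∈ Subgroup.zpowers y, ∀ b ∈ Subgroup.zpowers y, a * b = b * a := by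
    intro a ha b hb
    obtain ⟨i, rfl⟩ := Subgroup.mem_zpowers_iff.1 ha
    obtain ⟨j, rfl⟩ := Subgroup.mem_zpowers_iff.1 hb
    exact (Commute.zpow_zpow_self y i j).eq
  have hNeq : ∀ z, z ∈ commutator G ↔ z ∈ Subgroup.zpowers y := by
    intro z
    refine ⟨hN z, fun hz => ?_⟩
    obtain ⟨i, rfl⟩ := Subgroup.mem_zpowers_iff.1 hz
    exact Subgroup.zpow_mem _ hy i
  let L : Subgroup G :=
    { carrier := {w | ∃ z ∈ Subgroup.zpowers y, z ^ (r - 1) = w}
      one_mem' := ⟨1, Subgroup.one_mem _, one_pow _⟩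
      mul_mem' := by
        rintro _ _ ⟨a, ha, rfl⟩ ⟨b, hb, rfl⟩
        refine ⟨a * b, Subgroup.mul_mem _ ha hb, ?_⟩
        exact (Commute.mul_pow (hNcomm a ha b hb) _)
      inv_mem' := by
        rintro _ ⟨a, ha, rfl⟩
        exact ⟨a⁻¹, Subgroup.inv_mem _ ha, inv_pow _ _⟩ }
  have hLn : L.Normal := by
    constructor
    rintro _ ⟨a, ha, rfl⟩ g
    refine ⟨g * a * g⁻¹, ?_, ?_⟩
    · rw [← hNeq]
      exact Subgroup.Normal.conj_mem inferInstance a ((hNeq a).2 ha) g
    · rw [conj_pow]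
  have hyL : y ^ (r - 1) ∈ L := ⟨y, Subgroup.mem_zpowers y, rfl⟩
  -- in the quotient the images of x and y commute
  have hcomm : (QuotientGroup.mk' L x) * (QuotientGroup.mk' L y) = (QuotientGroup.mk' L y) * (QuotientGroup.mk' L x) := by
    rw [← map_mul, ← map_mul]
    apply (QuotientGroup.eq).2
    -- (x*y)⁻¹ * (y*x) ∈ L
    have e : (x * y)⁻¹ * (y * x) = y⁻¹ * (x⁻¹ * y * x) := by
      rw [mul_inv_rev]; simp only [mul_assoc]
    rw [e, h]
    have e2 : y⁻¹ * y ^ r = y ^ (r - 1) := by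
      obtain ⟨k, rfl⟩ : ∃ k, r = k + 1 := ⟨r - 1, by omega⟩
      rw [pow_succ', inv_mul_cancel_left]
      simp
    rw [e2]
    exact hyL
  have hgenQ : Subgroup.closure ({QuotientGroup.mk' L x, QuotientGroup.mk' L y} : Set (G ⧸ L)) = ⊤ := by
    have := congrArg (Subgroup.map (QuotientGroup.mk' L)) hgen
    rw [MonoidHom.map_closure, Set.image_pair, ← MonoidHom.range_eq_map,
      MonoidHom.range_eq_top.2 (QuotientGroup.mk'_surjective L)] at this
    exact this
  have hQcomm := comm_of_closure_pair _ _ hcomm hgenQ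
  letI : CommGroup (G ⧸ L) := { (inferInstance : Group (G ⧸ L)) with mul_comm := hQcomm }
  have hle : commutator G ≤ (QuotientGroup.mk' L).ker := Abelianization.commutator_subset_ker _
  rw [QuotientGroup.ker_mk'] at hle
  obtain ⟨z, hz, hzy⟩ := hle hy
  obtain ⟨j, rfl⟩ := (mem_powers_iff_mem_zpowers.2 hz)
  rw [← pow_mul] at hzy
  have hmod : j * (r - 1) ≡ 1 [MOD orderOf y] := by
    rw [← pow_eq_pow_iff_modEq, hzy, pow_one]
  rw [mul_comm] at hmod
  exact Nat.coprime_of_mul_modEq_one j hmod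

/-- Let G be a finite group all of whose Sylow subgroups are cyclic. Then G is generated by two elements x and y of coprime orders n and m with x⁻¹yx = y^r, where gcd(r − 1, m) = 1 and r^n ≡ 1 (mod m). -/
theorem result {G : Type*} [Group G] [Finite G]
    (hZ : ∀ (p : ℕ) [Fact p.Prime] (P : Sylow p G), IsCyclic (P : Subgroup G)) :
    ∃ (x y : G) (n m r : ℕ), Subgroup.closure {x, y} = ⊤ ∧ orderOf x = n ∧ orderOf y = m ∧
      x⁻¹ * y * x = y ^ r ∧ Nat.Coprime (r - 1) m ∧ Nat.Coprime n m ∧ 1 ≤ r ∧ r ^ n % m = 1 % m := by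
  haveI : IsZGroup G := ⟨fun p hp P => by haveI := Fact.mk hp; exact hZ p P⟩
  have hNc : IsCyclic (commutator G) := IsZGroup.isCyclic_commutator G
  have hcop := IsZGroup.coprime_commutator_index G
  obtain ⟨H, hH⟩ := Subgroup.exists_right_complement'_of_coprime hcop
  have e1 : Abelianization G ≃* H := hH.symm.QuotientMulEquiv
  have hHc : IsCyclic H := isCyclic_of_surjective _ e1.surjective
  obtain ⟨⟨y, hyN⟩, hy⟩ := IsCyclic.exists_generator (α := commutator G)
  obtain ⟨⟨x, hxH⟩, hx⟩ := IsCyclic.exists_generator (α := H)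
  have hyord : orderOf y = Nat.card (commutator G) := by
    rw [← orderOf_eq_card_of_forall_mem_zpowers hy, Subgroup.orderOf_mk]
  have hxord : orderOf x = Nat.card H := by
    rw [← orderOf_eq_card_of_forall_mem_zpowers hx, Subgroup.orderOf_mk]
  have hNz : ∀ z ∈ commutator G, z ∈ Subgroup.zpowers y := by
    intro z hz
    obtain ⟨k, hk⟩ := Subgroup.mem_zpowers_iff.1 (hy ⟨z, hz⟩)
    exact Subgroup.mem_zpowers_iff.2 ⟨k, by simpa using congrArg Subtype.val hk⟩
  have hHz : ∀ z ∈ H, z ∈ Subgroup.zpowers x := by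
    intro z hz
    obtain ⟨k, hk⟩ := Subgroup.mem_zpowers_iff.1 (hx ⟨z, hz⟩)
    exact Subgroup.mem_zpowers_iff.2 ⟨k, by simpa using congrArg Subtype.val hk⟩
  have hgen : Subgroup.closure {x, y} = ⊤ := by
    rw [eq_top_iff, ← hH.sup_eq_top, sup_le_iff]
    constructor
    · intro z hz
      have h1 := hNz z hz
      have h2 : Subgroup.zpowers y ≤ Subgroup.closure {x, y} := by
        rw [Subgroup.zpowers_le]; exact Subgroup.subset_closure (by simp)
      exact h2 h1
    · intro z hz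
      have h1 := hHz z hz
      have h2 : Subgroup.zpowers x ≤ Subgroup.closure {x, y} := by
        rw [Subgroup.zpowers_le]; exact Subgroup.subset_closure (by simp)
      exact h2 h1
  -- x⁻¹ y x is a power of y
  have hconj : x⁻¹ * y * x ∈ commutator G := by
    have := Subgroup.Normal.conj_mem (inferInstance : (commutator G).Normal) y hyN x⁻¹
    simpa using this
  obtain ⟨k, hk⟩ := (mem_powers_iff_mem_zpowers.2 (hNz _ hconj))
  have hmpos : 0 < orderOf y := orderOf_pos y
  refine ⟨x, y, orderOf x, orderOf y, k + orderOf y, hgen, rfl, rfl, ?_, ?_, ?_, ?_, ?_⟩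
  · simp only at hk
    rw [pow_add, pow_orderOf_eq_one, mul_one, hk]
  · apply coprime_of_commutator x y (k + orderOf y) (by omega) hgen hNz hyN
    simp only at hk
    rw [pow_add, pow_orderOf_eq_one, mul_one, hk]
  · rw [hxord, hyord, ← hH.symm.index_eq_card]
    exact hcop.symm
  · omega
  · have hrel : x⁻¹ * y * x = y ^ (k + orderOf y) := by
      simp only at hk
      rw [pow_add, pow_orderOf_eq_one, mul_one, hk]
    have h2 := conj_pow_eq x y _ hrel (orderOf x)
    rw [pow_orderOf_eq_one, inv_one, one_mul, mul_one] at h2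
    have h3 : y ^ 1 = y ^ ((k + orderOf y) ^ orderOf x) := by rw [pow_one]; exact h2
    rw [pow_eq_pow_iff_modEq] at h3
    exact h3.symm

end Cfsg.Agent.S3379
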