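import Mathlib
import Cfsg.Statements.S3381

set_option autoImplicit false
open Cfsg

namespace Cfsg.Agent.S3381

open Module

section aux

variable {q : ℕ} [Fact q.Prime] {V : Type*} [AddCommGroup V] [Module (ZMod q) V]
  {G : Type*} [Group G] (ρ : G →* (V ≃ₗ[ZMod q] V))

theorem act_mul (g h : G) (v : V) : ρ (g * h) v = ρ g (ρ h v) := by
  rw [map_mul]; rfl

theorem act_one (v : V) : ρ 1 v = v := by
  rw [map_one]; rfl

theorem card_ne {α : Type*} [Finite α] (a : α) : Nat.card {x : α // x ≠ a} + 1 = Nat.card α := by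
  classical
  rw [← Finite.card_option, Nat.card_congr (Equiv.optionSubtypeNe a)]

variable (hstab : ∀ v : V, v ≠ 0 → Nat.card {g : G // ρ g v = v} = 2)

include hstab

/-- the non-trivial element of a stabiliser -/
theorem stab_two {v : V} (hv : v ≠ 0) :
    ∃ t : G, t ≠ 1 ∧ ρ t v = v ∧ ∀ g, ρ g v = v → g = 1 ∨ g = t := by
  have h := hstab v hv
  rw [Nat.card_eq_two_iff' (⟨1, act_one ρ v⟩ : {g : G // ρ g v = v})] at h
  obtain ⟨⟨t, ht⟩, ht1, huniq⟩ := h
  refine ⟨t, fun h => ht1 (Subtype.ext h), ht, fun g hg => ?_⟩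
  by_cases hg1 : g = 1
  · exact Or.inl hg1
  · right
    have := huniq ⟨g, hg⟩ (fun h => hg1 (congrArg Subtype.val h))
    exact congrArg Subtype.val this

/-- two non-trivial elements fixing a common non-zero vector are equal -/
theorem eq_of_fix {v : V} (hv : v ≠ 0) {a b : G} (ha1 : a ≠ 1) (hb1 : b ≠ 1)
    (ha : ρ a v = v) (hb : ρ b v = v) : a = b := by
  obtain ⟨t, -, -, ht⟩ := stab_two ρ hstab hv
  rcases ht a ha with h | h
  · exact absurd h ha1
  · rcases ht b hb with h' | h'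
    · exact absurd h' hb1
    · rw [h, h']

/-- a central involution has no non-zero fixed vector -/
theorem central_fix (hρ : Function.Injective ρ) {z : G} (hz : orderOf z = 2)
    (hzc : z ∈ Subgroup.center G) : ∀ w : V, ρ z w = w → w = 0 := by
  have hz1 : z ≠ 1 := by
    intro h
    rw [h, orderOf_one] at hz
    omega
  have hzz : z * z = 1 := by
    have := pow_orderOf_eq_one z
    rwa [hz, pow_two] at this
  have hcomm : ∀ g, g * z = z * g := Subgroup.mem_center_iff.1 hzc
  have hzzv : ∀ v, ρ z (ρ z v) = v := by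
    intro v
    rw [← act_mul, hzz, act_one]
  intro w hzw
  by_contra hw
  obtain ⟨v, hv⟩ : ∃ v, ρ z v ≠ v := by
    by_contra hcon
    push Not at hcon
    apply hz1
    apply hρ
    rw [map_one]
    apply LinearEquiv.ext
    intro v
    exact hcon v
  have hv0 : v ≠ 0 := by
    rintro rfl
    exact hv (map_zero _)
  obtain ⟨t, ht1, htv, -⟩ := stab_two ρ hstab hv0
  have htz : ρ t (ρ z v) = ρ z v := by
    rw [← act_mul, hcomm, act_mul, htv]
  by_cases hu : v + ρ z v = 0
  · have hzv : ρ z v = -v := eq_neg_of_add_eq_zero_right hu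
    have h2 : (2 : ZMod q) ≠ 0 := by
      intro h2
      apply hv
      rw [hzv]
      have : v + v = 0 := by rw [← two_smul (ZMod q) v, h2, zero_smul]
      exact (eq_neg_of_add_eq_zero_left this).symm
    have hvw : v + w ≠ 0 := by
      intro h
      apply hv
      have : v = -w := eq_neg_of_add_eq_zero_left h
      rw [this, map_neg, hzw]
    obtain ⟨s, hs1, hsvw, -⟩ := stab_two ρ hstab hvw
    have hsz : ρ s (-v + w) = -v + w := by
      have : ρ z (v + w) = -v + w := by rw [map_add, hzv, hzw]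
      rw [← this, ← act_mul, hcomm, act_mul, hsvw]
    have hs2w : ρ s ((2 : ZMod q) • w) = (2 : ZMod q) • w := by
      have : (2 : ZMod q) • w = (v + w) + (-v + w) := by rw [two_smul]; abel
      rw [this, map_add, hsvw, hsz]
    have hsw : ρ s w = w := by
      rw [map_smul] at hs2w
      exact smul_right_injective V h2 hs2w
    have hsv : ρ s v = v := by
      have h1 : ρ s (v + w) = ρ s v + ρ s w := map_add _ _ _
      rw [hsvw, hsw] at h1
      exact (add_right_cancel h1).symm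
    have : s = z := eq_of_fix ρ hstab hw hs1 hz1 hsw hzw
    rw [this] at hsv
    exact hv hsv
  · have hzu : ρ z (v + ρ z v) = v + ρ z v := by
      rw [map_add, hzzv, add_comm]
    have htu : ρ t (v + ρ z v) = v + ρ z v := by
      rw [map_add, htv, htz]
    have : t = z := eq_of_fix ρ hstab hu ht1 hz1 htu hzu
    rw [this] at htv
    exact hv htv

/-- a central involution acts as `-1` -/
theorem central_neg (hρ : Function.Injective ρ) {z : G} (hz : orderOf z = 2)
    (hzc : z ∈ Subgroup.center G) (v : V) : ρ z v = -v := by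
  have hzz : z * z = 1 := by
    have := pow_orderOf_eq_one z
    rwa [hz, pow_two] at this
  have h : ρ z (v + ρ z v) = v + ρ z v := by
    rw [map_add, ← act_mul, hzz, act_one, add_comm]
  exact eq_neg_of_add_eq_zero_right (central_fix ρ hstab hρ hz hzc _ h)

end aux

section main

variable {q : ℕ} [Fact q.Prime] {V : Type*} [AddCommGroup V] [Module (ZMod q) V]
  {G : Type*} [Group G] (ρ : G →* (V ≃ₗ[ZMod q] V))

/-- fixed space of a group element -/
def Fx (g : G) : Submodule (ZMod q) V :=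
  LinearMap.ker ((ρ g).toLinearMap - LinearMap.id)

theorem mem_Fx {g : G} {v : V} : v ∈ Fx ρ g ↔ ρ g v = v := by
  unfold Fx
  rw [LinearMap.mem_ker, LinearMap.sub_apply, sub_eq_zero]
  rfl

theorem Fx_inf (hstab : ∀ v : V, v ≠ 0 → Nat.card {g : G // ρ g v = v} = 2)
    {a b : G} (ha : a ≠ 1) (hb : b ≠ 1) (hab : a ≠ b) : Fx ρ a ⊓ Fx ρ b = ⊥ := by
  rw [eq_bot_iff]
  intro v hv
  rw [Submodule.mem_inf, mem_Fx, mem_Fx] at hv
  rw [Submodule.mem_bot]
  by_contra hv0
  exact hab (eq_of_fix ρ hstab hv0 ha hb hv.1 hv.2)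

theorem Fx_sup (h2 : (2 : ZMod q) ≠ 0) {t z : G} (htt : t * t = 1) (hneg : ∀ v, ρ z v = -v) :
    Fx ρ t ⊔ Fx ρ (t * z) = ⊤ := by
  rw [eq_top_iff]
  intro v _
  have h1 : v + ρ t v ∈ Fx ρ t := by
    rw [mem_Fx, map_add, ← act_mul, htt, act_one, add_comm]
  have h2' : v - ρ t v ∈ Fx ρ (t * z) := by
    rw [mem_Fx, act_mul, hneg, map_neg, map_sub, ← act_mul, htt, act_one]; abel
  have : v = (2 : ZMod q)⁻¹ • ((v + ρ t v) + (v - ρ t v)) := by
    have : (v + ρ t v) + (v - ρ t v) = (2 : ZMod q) • v := by rw [two_smul]; abel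
    rw [this, smul_smul, inv_mul_cancel₀ h2, one_smul]
  rw [this, smul_add]
  exact Submodule.add_mem_sup (Submodule.smul_mem _ _ h1) (Submodule.smul_mem _ _ h2')

theorem finrank_add_le [Finite V] (hstab : ∀ v : V, v ≠ 0 → Nat.card {g : G // ρ g v = v} = 2)
    {a b : G} (ha : a ≠ 1) (hb : b ≠ 1) (hab : a ≠ b) :
    finrank (ZMod q) (Fx ρ a) + finrank (ZMod q) (Fx ρ b) ≤ finrank (ZMod q) V := by
  have h := Submodule.finrank_sup_add_finrank_inf_eq (Fx ρ a) (Fx ρ b)
  rw [Fx_inf ρ hstab ha hb hab, finrank_bot, add_zero] at h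
  rw [← h]
  exact Submodule.finrank_le _

theorem key [Finite V] (hρ : Function.Injective ρ)
    (hstab : ∀ v : V, v ≠ 0 → Nat.card {g : G // ρ g v = v} = 2)
    {z : G} (hz1 : z ≠ 1) (hzz : z * z = 1) (hcomm : ∀ g, g * z = z * g)
    (hneg : ∀ v, ρ z v = -v) (h2 : (2 : ZMod q) ≠ 0)
    {s : G} (hss : s * s = 1) (hs1 : s ≠ 1) (hsz : s ≠ z) :
    (s * z) * (s * z) = 1 ∧ s * z ≠ 1 ∧ s * z ≠ z ∧ s * z ≠ s ∧
      finrank (ZMod q) (Fx ρ s) + finrank (ZMod q) (Fx ρ (s * z)) = finrank (ZMod q) V ∧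
      Fx ρ s ≠ ⊥ := by
  have e1 : (s * z) * (s * z) = 1 := by
    calc (s * z) * (s * z) = s * (z * s) * z := by group
      _ = s * (s * z) * z := by rw [← hcomm s]
      _ = (s * s) * (z * z) := by group
      _ = 1 := by rw [hss, hzz, one_mul]
  have e2 : s * z ≠ 1 := by
    intro h
    apply hsz
    have : s * z = z * z := by rw [h, hzz]
    exact mul_right_cancel this
  have e3 : s * z ≠ z := by
    intro h
    apply hs1
    have : s * z = 1 * z := by rw [h, one_mul]
    exact mul_right_cancel this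
  have e4 : s * z ≠ s := by
    intro h
    apply hz1
    have : s * z = s * 1 := by rw [h, mul_one]
    exact mul_left_cancel this
  have hsup := Fx_sup ρ h2 hss hneg
  refine ⟨e1, e2, e3, e4, ?_, ?_⟩
  · have h := Submodule.finrank_sup_add_finrank_inf_eq (Fx ρ s) (Fx ρ (s * z))
    rw [Fx_inf ρ hstab hs1 e2 (Ne.symm e4), finrank_bot, add_zero, hsup, finrank_top] at h
    exact h.symm
  · intro hbot
    rw [hbot, bot_sup_eq] at hsup
    apply e2
    apply hρ
    rw [map_one]
    apply LinearEquiv.ext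
    intro v
    have : v ∈ Fx ρ (s * z) := by rw [hsup]; exact Submodule.mem_top
    exact (mem_Fx ρ).1 this

theorem dim_eq [Finite V] (hρ : Function.Injective ρ)
    (hstab : ∀ v : V, v ≠ 0 → Nat.card {g : G // ρ g v = v} = 2)
    {z : G} (hz1 : z ≠ 1) (hzz : z * z = 1) (hcomm : ∀ g, g * z = z * g)
    (hneg : ∀ v, ρ z v = -v) (hfix : ∀ w : V, ρ z w = w → w = 0) (h2 : (2 : ZMod q) ≠ 0)
    {t : G} (htt : t * t = 1) (ht1 : t ≠ 1) (htz : t ≠ z) :
    finrank (ZMod q) V = 2 * finrank (ZMod q) (Fx ρ t) ∧ Fx ρ t ≠ ⊥ := by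
  obtain ⟨u1, u2, u3, u4, u5, u6⟩ := key ρ hρ hstab hz1 hzz hcomm hneg h2 htt ht1 htz
  have htzz : t * z * z = t := by rw [mul_assoc, hzz, mul_one]
  obtain ⟨-, -, -, -, -, w6⟩ := key ρ hρ hstab hz1 hzz hcomm hneg h2 u1 u2 u3
  obtain ⟨v, hv, hv0⟩ := Submodule.exists_mem_ne_zero_of_ne_bot u6
  obtain ⟨w, hw, hw0⟩ := Submodule.exists_mem_ne_zero_of_ne_bot w6
  have hinf := Fx_inf ρ hstab ht1 u2 (Ne.symm u4)
  have hvw : v + w ≠ 0 := by
    intro h
    apply hv0
    have hvw' : v = -w := eq_neg_of_add_eq_zero_left h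
    have : v ∈ Fx ρ t ⊓ Fx ρ (t * z) := by
      refine ⟨hv, ?_⟩
      rw [hvw']
      exact Submodule.neg_mem _ hw
    rw [hinf] at this
    exact (Submodule.mem_bot _).1 this
  obtain ⟨s, hs1, hsvw, hsall⟩ := stab_two ρ hstab hvw
  have hss : s * s = 1 := by
    have : ρ (s * s) (v + w) = v + w := by rw [act_mul, hsvw, hsvw]
    rcases hsall _ this with h | h
    · exact h
    · exfalso
      apply hs1
      have : s * s = s * 1 := by rw [h, mul_one]
      exact mul_left_cancel this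
  have hsz : s ≠ z := by
    intro h
    rw [h] at hsvw
    exact hvw (hfix _ hsvw)
  rw [mem_Fx] at hv hw
  have hst : s ≠ t := by
    intro h
    rw [h, map_add, hv] at hsvw
    have h1 : ρ t w = w := add_left_cancel hsvw
    apply hw0
    have : w ∈ Fx ρ t ⊓ Fx ρ (t * z) := ⟨(mem_Fx ρ).2 h1, (mem_Fx ρ).2 hw⟩
    rw [hinf] at this
    exact (Submodule.mem_bot _).1 this
  have hstz : s ≠ t * z := by
    intro h
    rw [h, map_add, hw] at hsvw
    have h1 : ρ (t * z) v = v := add_right_cancel hsvw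
    apply hv0
    have : v ∈ Fx ρ t ⊓ Fx ρ (t * z) := ⟨(mem_Fx ρ).2 hv, (mem_Fx ρ).2 h1⟩
    rw [hinf] at this
    exact (Submodule.mem_bot _).1 this
  obtain ⟨x1, x2, x3, x4, x5, x6⟩ := key ρ hρ hstab hz1 hzz hcomm hneg h2 hss hs1 hsz
  have hszt : s * z ≠ t := by
    intro h
    apply hstz
    rw [← h, mul_assoc, hzz, mul_one]
  have hsztz : s * z ≠ t * z := by
    intro h
    exact hst (mul_right_cancel h)
  have i1 := finrank_add_le ρ hstab hs1 ht1 hst
  have i2 := finrank_add_le ρ hstab hs1 u2 hstz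
  have i3 := finrank_add_le ρ hstab x2 ht1 hszt
  have i4 := finrank_add_le ρ hstab x2 u2 hsztz
  refine ⟨?_, u6⟩
  omega

end main

theorem arith_aux {N A n : ℕ} (hA : 2 ≤ A) (h1 : n + 1 = A * A) (h2 : n = N * (A - 1)) :
    N = A + 1 := by
  obtain ⟨B, rfl⟩ : ∃ B, A = B + 1 := ⟨A - 1, by omega⟩
  have hB : 0 < B := by omega
  simp only [Nat.add_sub_cancel] at h2
  have : N * B = (B + 2) * B := by
    have : n = (B + 2) * B := by
      have : (B + 1) * (B + 1) = (B + 2) * B + 1 := by ring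
      omega
    rw [← h2, this]
  have := Nat.eq_of_mul_eq_mul_right hB this
  omega

/-- Let G be a finite group acting faithfully and linearly on a non-trivial finite vector space V over the field with q elements (q prime) so that every non-zero vector has a stabilizer of order 2, and suppose G has a central involution. Then V has q^(2r) elements for some r and G contains exactly q^r + 1 non-central involutions. -/
theorem result
    (q : ℕ) [Fact q.Prime] {V : Type*} [AddCommGroup V] [Module (ZMod q) V] [Finite V] [Nontrivial V]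
    {G : Type*} [Group G] [Finite G] (ρ : G →* (V ≃ₗ[ZMod q] V)) (hρ : Function.Injective ρ)
    (hstab : ∀ v : V, v ≠ 0 → Nat.card {g : G // ρ g v = v} = 2)
    (z : G) (hz : orderOf z = 2) (hzc : z ∈ Subgroup.center G) :
    ∃ r : ℕ, Nat.card V = q ^ (2 * r) ∧
      Nat.card {g : G // orderOf g = 2 ∧ g ∉ Subgroup.center G} = q ^ r + 1 := by
  classical
  have hz1 : z ≠ 1 := by
    intro h
    rw [h, orderOf_one] at hz
    omega
  have hzz : z * z = 1 := by
    have := pow_orderOf_eq_one z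
    rwa [hz, pow_two] at this
  have hcomm : ∀ g, g * z = z * g := Subgroup.mem_center_iff.1 hzc
  have hfix := central_fix ρ hstab hρ hz hzc
  have hneg := central_neg ρ hstab hρ hz hzc
  obtain ⟨v0, hv0⟩ := exists_ne (0 : V)
  have h2 : (2 : ZMod q) ≠ 0 := by
    intro h2
    apply hv0
    apply hfix
    rw [hneg]
    have : v0 + v0 = 0 := by rw [← two_smul (ZMod q) v0, h2, zero_smul]
    exact (eq_neg_of_add_eq_zero_left this).symm
  have inv_iff : ∀ g : G, orderOf g = 2 ↔ g * g = 1 ∧ g ≠ 1 := by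
    intro g
    rw [orderOf_eq_prime_iff, pow_two]
  have hI : ∀ g : G, (orderOf g = 2 ∧ g ∉ Subgroup.center G) ↔ (g * g = 1 ∧ g ≠ 1 ∧ g ≠ z) := by
    intro g
    constructor
    · rintro ⟨h1, h2⟩
      obtain ⟨h3, h4⟩ := (inv_iff g).1 h1
      exact ⟨h3, h4, fun h => h2 (h ▸ hzc)⟩
    · rintro ⟨h1, h2, h3⟩
      have hg : orderOf g = 2 := (inv_iff g).2 ⟨h1, h2⟩
      refine ⟨hg, fun hgc => h3 ?_⟩
      apply hρ
      apply LinearEquiv.ext
      intro v
      rw [hneg, central_neg ρ hstab hρ hg hgc]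
  -- the involution attached to a non-zero vector
  have hτ : ∀ v : V, v ≠ 0 → ∃ t : G, (t * t = 1 ∧ t ≠ 1 ∧ t ≠ z) ∧ ρ t v = v := by
    intro v hv
    obtain ⟨t, ht1, htv, htall⟩ := stab_two ρ hstab hv
    refine ⟨t, ⟨?_, ht1, ?_⟩, htv⟩
    · have : ρ (t * t) v = v := by rw [act_mul, htv, htv]
      rcases htall _ this with h | h
      · exact h
      · exfalso
        apply ht1
        have : t * t = t * 1 := by rw [h, mul_one]
        exact mul_left_cancel this
    · intro h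
      rw [h] at htv
      exact hv (hfix _ htv)
  obtain ⟨t0, ⟨ht0, ht01, ht0z⟩, -⟩ := hτ v0 hv0
  have hdim : ∀ t : G, (t * t = 1 ∧ t ≠ 1 ∧ t ≠ z) →
      finrank (ZMod q) V = 2 * finrank (ZMod q) (Fx ρ t) ∧ Fx ρ t ≠ ⊥ := fun t ht =>
    dim_eq ρ hρ hstab hz1 hzz hcomm hneg hfix h2 ht.1 ht.2.1 ht.2.2
  refine ⟨finrank (ZMod q) (Fx ρ t0), ?_, ?_⟩
  · rw [Module.natCard_eq_pow_finrank (K := ZMod q) (V := V), Nat.card_zmod,
      (hdim t0 ⟨ht0, ht01, ht0z⟩).1]
  · rw [Nat.card_congr (Equiv.subtypeEquivRight hI)]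
    set r := finrank (ZMod q) (Fx ρ t0) with hr
    have hrt : ∀ t : G, (t * t = 1 ∧ t ≠ 1 ∧ t ≠ z) → finrank (ZMod q) (Fx ρ t) = r := by
      intro t ht
      have h1 := (hdim t ht).1
      have h2 := (hdim t0 ⟨ht0, ht01, ht0z⟩).1
      omega
    have hr0 : r ≠ 0 := by
      intro h
      apply (hdim t0 ⟨ht0, ht01, ht0z⟩).2
      exact Submodule.finrank_eq_zero.1 (hr ▸ h)
    let I' := {g : G // g * g = 1 ∧ g ≠ 1 ∧ g ≠ z}
    let f : (Σ t : I', {v : Fx ρ t.1 // v ≠ 0}) → {v : V // v ≠ 0} :=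
      fun x => ⟨x.2.1.1, fun h => x.2.2 (Subtype.ext h)⟩
    have hf : Function.Bijective f := by
      constructor
      · rintro ⟨⟨t, ht⟩, ⟨⟨v, hv⟩, hv0⟩⟩ ⟨⟨t', ht'⟩, ⟨⟨v', hv'⟩, hv0'⟩⟩ h
        have hvv : v = v' := congrArg Subtype.val h
        subst hvv
        have hvne : v ≠ 0 := fun h => hv0 (Subtype.ext h)
        have : t = t' := eq_of_fix ρ hstab hvne ht.2.1 ht'.2.1 ((mem_Fx ρ).1 hv) ((mem_Fx ρ).1 hv')
        subst this
        rfl
      · rintro ⟨v, hv⟩
        obtain ⟨t, ht, htv⟩ := hτ v hv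
        exact ⟨⟨⟨t, ht⟩, ⟨⟨v, (mem_Fx ρ).2 htv⟩, fun h => hv (congrArg Subtype.val h)⟩⟩, rfl⟩
    have hcard := Nat.card_eq_of_bijective f hf
    letI : Fintype I' := Fintype.ofFinite I'
    rw [Nat.card_sigma] at hcard
    have hterm : ∀ t : I', Nat.card {v : Fx ρ t.1 // v ≠ 0} = q ^ r - 1 := by
      intro t
      have h1 := card_ne (0 : Fx ρ t.1)
      rw [Module.natCard_eq_pow_finrank (K := ZMod q) (V := Fx ρ t.1), Nat.card_zmod,
        hrt t.1 t.2] at h1
      omega
    rw [Finset.sum_congr rfl (fun t _ => hterm t), Finset.sum_const, Finset.card_univ,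
      smul_eq_mul, ← Nat.card_eq_fintype_card] at hcard
    have hV := card_ne (0 : V)
    rw [Module.natCard_eq_pow_finrank (K := ZMod q) (V := V), Nat.card_zmod,
      (hdim t0 ⟨ht0, ht01, ht0z⟩).1, ← hr] at hV
    have hq2 : 2 ≤ q := (Fact.out : q.Prime).two_le
    have hA : 2 ≤ q ^ r := by
      calc 2 ≤ q := hq2
        _ = q ^ 1 := (pow_one q).symm
        _ ≤ q ^ r := Nat.pow_le_pow_right (by omega) (by omega)
    have hpow : q ^ (2 * r) = q ^ r * q ^ r := by rw [two_mul, pow_add]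
    rw [hpow] at hV
    exact arith_aux hA hV hcard.symm

end Cfsg.Agent.S3381
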