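import Mathlib
import Cfsg.Statements.S3382
import Cfsg.Agent.Lib.Helper17.MonoAut3
import Cfsg.Agent.Lib.Helper17.MonoAut4

set_option autoImplicit false
open Cfsg

namespace Cfsg.Agent.S3382

theorem zmod_two_aux : ∀ a : ZMod 2, a ≠ 0 → a = 1 := by decide

theorem zmod_three_aux : ∀ a : ZMod 3, a ≠ 0 → a = 1 ∨ a = -1 := by decide

theorem zmod_three_aux' : (2 : ZMod 3) ≠ 0 := by decide

/-- Let q = 2^m + 1 be a prime other than 5. Then the automorphism group of the group of linear maps of F_q² of the forms (x, y) ↦ (a x, ± a⁻¹ y) and (x, y) ↦ (± a⁻¹ y, a x) with a ≠ 0 is itself a 2-group. -/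
theorem result (q m : ℕ) [Fact q.Prime] (hq : q = 2 ^ m + 1) (hq5 : q ≠ 5)
    (T : Subgroup ((Fin 2 → ZMod q) ≃ₗ[ZMod q] (Fin 2 → ZMod q)))
    (hT : ∀ f, f ∈ T ↔ ∃ a s : ZMod q, a ≠ 0 ∧ (s = 1 ∨ s = -1) ∧
      ((∀ v, f v = ![a * v 0, s * a⁻¹ * v 1]) ∨ (∀ v, f v = ![s * a⁻¹ * v 1, a * v 0]))) :
    IsPGroup 2 (MulAut T) := by
  classical
  have hqp : q.Prime := Fact.out
  haveI : NeZero q := ⟨hqp.ne_zero⟩
  -- restate the membership condition
  have hT' : Cfsg.Agent.Helper17.MonoAut.IsMono T := by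
    intro f
    rw [hT f]
    constructor
    · rintro ⟨a, s, ha, hs, h⟩
      refine ⟨a, s * a⁻¹, ?_, h⟩
      have : a * (s * a⁻¹) = s := by
        rw [mul_left_comm, mul_inv_cancel₀ ha, mul_one]
      rw [this]; exact hs
    · rintro ⟨a, b, hab, h⟩
      have ha := (Cfsg.Agent.Helper17.MonoAut.nz_of_mul hab).1
      refine ⟨a, a * b, ha, hab, ?_⟩
      have : a * b * a⁻¹ = b := by
        rw [mul_comm a b, mul_assoc, mul_inv_cancel₀ ha, mul_one]
      rw [this]; exact h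
  -- finiteness
  haveI : Finite T := Finite.of_injective
    (fun x : T => ((x : (Fin 2 → ZMod q) ≃ₗ[ZMod q] (Fin 2 → ZMod q)) :
      (Fin 2 → ZMod q) → (Fin 2 → ZMod q)))
    (fun x y hxy => Subtype.ext (DFunLike.coe_injective hxy))
  apply Cfsg.Agent.Helper17.MonoAut.isPGroup_two_of_odd_trivial
  intro ψ r hr hψ
  by_cases h2 : q = 2
  · subst h2
    exact hT'.eq_one_of_two zmod_two_aux ψ
  by_cases h3 : q = 3
  · subst h3
    exact hT'.eq_one_of_three hr hψ zmod_three_aux' zmod_three_aux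
  · have e2 : (2 : ZMod q) ≠ 0 := by
      intro h
      have h' : ((2 : ℕ) : ZMod q) = 0 := by exact_mod_cast h
      rw [ZMod.natCast_eq_zero_iff] at h'
      exact h2 ((Nat.prime_dvd_prime_iff_eq hqp Nat.prime_two).mp h')
    have e15 : (15 : ZMod q) ≠ 0 := by
      intro h
      have h' : ((15 : ℕ) : ZMod q) = 0 := by exact_mod_cast h
      rw [ZMod.natCast_eq_zero_iff] at h'
      have h15 : (15 : ℕ) = 3 * 5 := by norm_num
      rw [h15] at h'
      rcases (Nat.Prime.dvd_mul hqp).mp h' with h'' | h''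
      · exact h3 ((Nat.prime_dvd_prime_iff_eq hqp Nat.prime_three).mp h'')
      · exact hq5 ((Nat.prime_dvd_prime_iff_eq hqp Nat.prime_five).mp h'')
    have hF : ∀ a : ZMod q, a ≠ 0 → a ^ (2 ^ m) = 1 := by
      intro a ha
      have h1 := ZMod.pow_card_sub_one_eq_one ha
      have hq' : q - 1 = 2 ^ m := by rw [hq]; exact Nat.add_sub_cancel _ _
      rwa [hq'] at h1
    exact hT'.eq_one_of_big hr hψ e2 e15 hF

end Cfsg.Agent.S3382
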