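import Mathlib
import Cfsg.Statements.S3383

set_option autoImplicit false
open Cfsg

namespace Cfsg.Agent.S3383

open scoped Pointwise

/-- Let H be a Frobenius complement in a finite group L and K the Frobenius kernel (as a subgroup). Then K is characteristic in L, and every normal subgroup of L either contains K or is contained in K. -/
theorem result {L : Type*} [Group L] [Finite L]
    (H : Subgroup L) (hH : Cfsg.IsFrobeniusComplement H)
    (K : Subgroup L) (hK : (K : Set L) = Cfsg.frobeniusKernel H) :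
    K.Characteristic ∧ ∀ N : Subgroup L, N.Normal → K ≤ N ∨ N ≤ K := by
  classical
  obtain ⟨hH1, hH2, hH3⟩ := hH
  have memK : ∀ x, x ∈ K ↔ (x = 1 ∨ ∀ g : L, x ∉ MulAut.conj g • H) := by
    intro x
    have : x ∈ (K : Set L) ↔ x ∈ Cfsg.frobeniusKernel H := by rw [hK]
    exact this
  have memconj : ∀ (g x : L), x ∈ MulAut.conj g • H ↔ g⁻¹ * x * g ∈ H := by
    intro g x
    rw [Subgroup.mem_pointwise_smul_iff_inv_smul_mem]
    simp [MulAut.smul_def]
  have Knormal : K.Normal := by
    constructor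
    intro n hn a
    rw [memK] at hn ⊢
    rcases hn with rfl | hn
    · left; simp
    · right
      intro g
      rw [memconj]
      have := hn (a⁻¹ * g)
      rw [memconj] at this
      intro h; apply this
      convert h using 1
      group
  have cent : ∀ h ∈ H, h ≠ 1 → ∀ k ∈ K, k * h = h * k → k = 1 := by
    intro h hh hne k hk hc
    by_cases hkH : k ∈ H
    · rcases (memK k).1 hk with rfl | h2
      · rfl
      · exact absurd (by simpa using hkH) (h2 1)
    · have h3 := hH3 k hkH
      have hmem : h ∈ H ⊓ MulAut.conj k • H := by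
        refine Subgroup.mem_inf.2 ⟨hh, ?_⟩
        rw [memconj]
        have : k⁻¹ * h * k = h := by rw [mul_assoc, ← hc]; group
        rw [this]; exact hh
      rw [h3] at hmem
      exact absurd (Subgroup.mem_bot.1 hmem) hne
  have part2 : ∀ N : Subgroup L, N.Normal → K ≤ N ∨ N ≤ K := by
    intro N hN
    by_contra hcon
    push Not at hcon
    obtain ⟨hKN, hNK⟩ := hcon
    obtain ⟨x, hxN, hxK⟩ := SetLike.not_le_iff_exists.1 hNK
    rw [memK] at hxK
    push Not at hxK
    obtain ⟨hx1, g, hxg⟩ := hxK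
    rw [memconj] at hxg
    obtain ⟨h, hdef⟩ : ∃ h, h = g⁻¹ * x * g := ⟨_, rfl⟩
    rw [← hdef] at hxg
    have hhN : h ∈ N := by
      have := hN.conj_mem x hxN g⁻¹
      simpa [hdef] using this
    have hne : h ≠ 1 := by
      intro h1
      apply hx1
      have : x = g * h * g⁻¹ := by rw [hdef]; group
      rw [this, h1]; group
    let f : K → K := fun k => ⟨(k:L)⁻¹ * (h⁻¹ * k * h), K.mul_mem (K.inv_mem k.2) (by
      have := Knormal.conj_mem k k.2 h⁻¹
      simpa using this)⟩
    have finj : Function.Injective f := by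
      intro a b hab
      have hab' : (a:L)⁻¹ * (h⁻¹ * a * h) = (b:L)⁻¹ * (h⁻¹ * b * h) := congrArg Subtype.val hab
      have hc : ((b:L) * (a:L)⁻¹) * h = h * ((b:L) * (a:L)⁻¹) := by
        have e1 : (a:L)⁻¹ * h⁻¹ * a = (b:L)⁻¹ * h⁻¹ * b := by
          have := congrArg (· * h⁻¹) hab'
          simpa [mul_assoc] using this
        have e2 : ((b:L) * (a:L)⁻¹) * h⁻¹ = h⁻¹ * ((b:L) * (a:L)⁻¹) := by
          calc (b:L) * (a:L)⁻¹ * h⁻¹ = b * ((a:L)⁻¹ * h⁻¹ * a) * (a:L)⁻¹ := by group
          _ = b * ((b:L)⁻¹ * h⁻¹ * b) * (a:L)⁻¹ := by rw [e1]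
          _ = h⁻¹ * ((b:L) * (a:L)⁻¹) := by group
        calc (b:L) * (a:L)⁻¹ * h = h * (h⁻¹ * ((b:L) * (a:L)⁻¹)) * h := by group
        _ = h * (((b:L) * (a:L)⁻¹) * h⁻¹) * h := by rw [e2]
        _ = h * ((b:L) * (a:L)⁻¹) := by group
      have := cent h hxg hne _ (K.mul_mem b.2 (K.inv_mem a.2)) hc
      apply Subtype.ext
      have h2 : (b:L) = a := by
        have := congrArg (· * (a:L)) this
        simpa using this
      exact h2.symm
    have fsurj : Function.Surjective f := Finite.surjective_of_injective finj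
    apply hKN
    intro k hk
    obtain ⟨k', hk'⟩ := fsurj ⟨k, hk⟩
    have hkk : k = (k':L)⁻¹ * (h⁻¹ * k' * h) := (congrArg Subtype.val hk').symm
    rw [hkk]
    have h1 : (k':L)⁻¹ * h⁻¹ * k' ∈ N := by
      have := hN.conj_mem h⁻¹ (N.inv_mem hhN) (k':L)⁻¹
      simpa using this
    have e : (k':L)⁻¹ * (h⁻¹ * k' * h) = ((k':L)⁻¹ * h⁻¹ * k') * h := by group
    rw [e]; exact N.mul_mem h1 hhN
  refine ⟨?_, part2⟩
  rw [Subgroup.characteristic_iff_map_le]
  intro φ
  have hn : (K.map φ.toMonoidHom).Normal := Knormal.map _ φ.surjective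
  rcases part2 _ hn with h1 | h1
  · have hcard : Nat.card (K.map φ.toMonoidHom) = Nat.card K :=
      Subgroup.card_map_of_injective φ.injective
    exact (Subgroup.eq_of_le_of_card_ge h1 (le_of_eq hcard)).ge
  · exact h1

end Cfsg.Agent.S3383
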