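import Mathlib
import Cfsg.Statements.S3385
import Cfsg.Agent.Lib.Helper10.Tutte4
-- import your own Cfsg.Agent.* helpers here

set_option autoImplicit false
open Cfsg

namespace Cfsg.Agent.S3385

/-- Sims' Theorem on primitive groups with a suborbit of length 3. Let G be a finite group acting faithfully and primitively on a set Ω, and suppose the stabilizer of a point a has an orbit of length 3 on Ω. Then the stabilizer of a has order 2^k · 3 for some k ≤ 4. -/
theorem result {G : Type*} [Group G] [Finite G] {Ω : Type*} [MulAction G Ω] [FaithfulSMul G Ω]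
    (hprim : MulAction.IsPreprimitive G Ω) (a b : Ω)
    (h3 : Nat.card (MulAction.orbit (MulAction.stabilizer G a) b) = 3) :
    ∃ k : ℕ, k ≤ 4 ∧ Nat.card ↥(MulAction.stabilizer G a) = 2 ^ k * 3 := by
  have htr : MulAction.IsPretransitive G Ω := hprim.toIsPretransitive
  have hp := Cfsg.Agent.Helper10.TW.pair_stabilizer hprim a b (by rw [h3]; norm_num)
  have h₁ : (MulAction.stabilizer G a ⊓ MulAction.stabilizer G b).relIndex
      (MulAction.stabilizer G a) = 3 := by
    rw [Cfsg.Agent.Helper10.TW.relIndex_stabilizer, h3]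
  have h₂ : (MulAction.stabilizer G a ⊓ MulAction.stabilizer G b).relIndex
      (MulAction.stabilizer G b) = 3 := by
    rw [Cfsg.Agent.Helper10.TW.relIndex_stabilizer', h3]
  obtain ⟨g₀, hg₀⟩ := MulAction.exists_smul_eq G a b
  have hconj : Cfsg.Agent.Helper10.Tutte.cj g₀ (MulAction.stabilizer G a) =
      MulAction.stabilizer G b := by
    rw [← hg₀, MulAction.stabilizer_smul_eq_stabilizer_map_conj]
    rfl
  have h16 := Cfsg.Agent.Helper10.Tutte.card_inf_dvd_sixteen hp g₀ hconj h₁ h₂
  have hcard := Cfsg.Agent.Helper10.Tutte.card_mul_relIndex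
    (inf_le_left : MulAction.stabilizer G a ⊓ MulAction.stabilizer G b ≤ MulAction.stabilizer G a)
  rw [h₁] at hcard
  have h16' : (16 : ℕ) = 2 ^ 4 := by norm_num
  rw [h16'] at h16
  obtain ⟨k, hk, hk2⟩ := (Nat.dvd_prime_pow Nat.prime_two).mp h16
  exact ⟨k, hk, by rw [← hcard, hk2]⟩

end Cfsg.Agent.S3385
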