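import Mathlib
import Cfsg.Statements.S3389

set_option autoImplicit false
open Cfsg

namespace Cfsg.Agent.S3389

open MulAction

theorem sum_fixedBy_trans (G X : Type*) [Group G] [Fintype G] [MulAction G X] [Finite X]
    [IsPretransitive G X] [Nonempty X] :
    ∑ g : G, Nat.card (fixedBy X g) = Nat.card G := by
  classical
  haveI := Fintype.ofFinite X
  have h := MulAction.sum_card_fixedBy_eq_card_orbits_mul_card_group G X
  have h1 : Nat.card (Quotient (orbitRel G X)) = 1 := by
    rw [Nat.card_eq_one_iff_unique]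
    exact ⟨(pretransitive_iff_subsingleton_quotient G X).1 inferInstance,
      ⟨Quotient.mk'' (Classical.arbitrary X)⟩⟩
  have h2 : ∀ g : G, Nat.card (fixedBy X g) = Fintype.card (fixedBy X g) :=
    fun g => Nat.card_eq_fintype_card
  simp_rw [h2]
  rw [h, ← Nat.card_eq_fintype_card, ← Nat.card_eq_fintype_card, h1, one_mul]

theorem center_dvd {G Ω : Type*} [Group G] [Finite G] [Finite Ω] [MulAction G Ω]
    [FaithfulSMul G Ω] [IsPretransitive G Ω] (g : G) :
    Nat.card (Subgroup.center G) ∣ Nat.card (fixedBy Ω g) := by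
  classical
  let S : SubMulAction (Subgroup.center G) Ω :=
    { carrier := fixedBy Ω g
      smul_mem' := by
        intro z ω hω
        rw [mem_fixedBy] at hω ⊢
        rw [Subgroup.smul_def, smul_smul, (Subgroup.mem_center_iff.1 z.2 g), ← smul_smul, hω] }
  have hfree : ∀ b : S, stabilizer (Subgroup.center G) b = ⊥ := by
    intro b
    rw [eq_bot_iff]
    intro z hz
    rw [mem_stabilizer_iff] at hz
    rw [Subgroup.mem_bot]
    have hzb : (z : G) • (b : Ω) = b := congrArg Subtype.val hz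
    apply Subtype.ext
    apply FaithfulSMul.eq_of_smul_eq_smul (α := Ω)
    intro ω
    obtain ⟨x, rfl⟩ := exists_smul_eq G (b : Ω) ω
    rw [Subgroup.coe_one, one_smul, smul_smul, ← Subgroup.mem_center_iff.1 z.2 x, ← smul_smul, hzb]
  have e := selfEquivOrbitsQuotientProd hfree
  have hc : Nat.card S
      = Nat.card (Quotient (orbitRel (Subgroup.center G) S)) * Nat.card (Subgroup.center G) := by
    rw [← Nat.card_prod]; exact Nat.card_congr e
  have hS : Nat.card S = Nat.card (fixedBy Ω g) := rfl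
  rw [← hS, hc]; exact dvd_mul_left _ _

theorem part3 {G Ω : Type*} [Group G] [Finite G] [Finite Ω] [MulAction G Ω] (k : ℕ)
    (hfix : ∀ g : G, g ≠ 1 → Nat.card (fixedBy Ω g) ≤ k)
    (p : ℕ) (hp : p.Prime) (hkp : k < p) (α : Ω)
    (h1 : p ∣ Nat.card (stabilizer G α)) (h2 : p ∣ Nat.card Ω) : False := by
  haveI := Fact.mk hp
  obtain ⟨x, hx⟩ := exists_prime_orderOf_dvd_card' p h1
  have hxo : orderOf (x : G) = p := by rw [Subgroup.orderOf_coe]; exact hx
  have hx1 : (x : G) ≠ 1 := by
    intro h; rw [h, orderOf_one] at hxo; exact hp.one_lt.ne hxo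
  have hP : IsPGroup p (Subgroup.zpowers (x : G)) :=
    IsPGroup.of_card (n := 1) (by rw [Nat.card_zpowers, hxo, pow_one])
  have hmod := hP.card_modEq_card_fixedPoints Ω
  have hfp : fixedPoints (Subgroup.zpowers (x:G)) Ω = fixedBy Ω (x : G) := by
    ext ω
    rw [mem_fixedPoints, ← mem_fixedBy_zpowers_iff_mem_fixedBy]
    constructor
    · intro h j; exact h ⟨_, j, rfl⟩
    · rintro h ⟨_, j, rfl⟩; exact h j
  rw [hfp] at hmod
  have hle := hfix _ hx1
  have hpos : 0 < Nat.card (fixedBy Ω (x:G)) :=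
    Nat.card_pos_iff.2 ⟨⟨⟨α, x.2⟩⟩, inferInstance⟩
  have hdvd : p ∣ Nat.card (fixedBy Ω (x:G)) :=
    (Nat.modEq_zero_iff_dvd.1 ((hmod.symm).trans (Nat.modEq_zero_iff_dvd.2 h2)))
  exact absurd (Nat.le_of_dvd hpos hdvd) (by omega)

theorem part2 {G Ω : Type*} [Group G] [Finite G] [Finite Ω] [MulAction G Ω]
    [IsPretransitive G Ω]
    (hfix : ∀ g : G, g ≠ 1 → Nat.card (fixedBy Ω g) ≤ 2) (g₀ : G) (hg₀ : g₀ ≠ 1)
    (hcard : Nat.card (fixedBy Ω g₀) = 2) : 2 ∣ Nat.card G := by
  classical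
  haveI := Fintype.ofFinite G
  obtain ⟨⟨α, hα⟩, ⟨β, hβ⟩, hne, -⟩ := Nat.card_eq_two_iff.1 hcard
  have hαβ : α ≠ β := fun h => hne (Subtype.ext h)
  haveI : Nonempty Ω := ⟨α⟩
  rw [mem_fixedBy] at hα hβ
  have three : ∀ g : G, g ≠ 1 → ∀ a b c : Ω, a ≠ b → g • a = a → g • b = b → g • c = c →
      c = a ∨ c = b := by
    intro g hg a b c hab ha hb hc
    by_contra hcon
    push Not at hcon
    have h2 := hfix g hg
    have h3 : ({a, b, c} : Set Ω).ncard = 3 :=
      Set.ncard_eq_three.2 ⟨a, b, c, hab, hcon.1.symm, hcon.2.symm, rfl⟩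
    have hsub : ({a, b, c} : Set Ω) ⊆ fixedBy Ω g := by
      intro y hy
      rcases hy with rfl | rfl | rfl
      · exact ha
      · exact hb
      · exact hc
    have := Set.ncard_le_ncard hsub (Set.toFinite _)
    rw [Nat.card_coe_set_eq] at h2
    omega
  by_contra hodd
  have noswap : ∀ x : G, ¬ (x • α = β ∧ x • β = α) := by
    rintro x ⟨h1, h2⟩
    apply hodd
    have hx2 : ∀ m : ℕ, (x ^ (2 * m)) • α = α := by
      intro m
      induction m with
      | zero => simp
      | succ m ih => rw [Nat.mul_succ, pow_add, mul_smul, pow_two, mul_smul, h1, h2, ih]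
    have h2o : 2 ∣ orderOf x := by
      by_contra hnd
      obtain ⟨m, hm⟩ : ∃ m, orderOf x = 2 * m + 1 := ⟨orderOf x / 2, by omega⟩
      have e : x ^ (2 * (m + 1)) = x := by
        rw [show 2 * (m + 1) = orderOf x + 1 by omega, pow_succ, pow_orderOf_eq_one, one_mul]
      have := hx2 (m + 1)
      rw [e] at this
      exact hαβ (this.symm.trans h1)
    exact dvd_trans h2o (orderOf_dvd_natCard x)
  let H : Subgroup G := stabilizer G α ⊓ stabilizer G β
  have memH : ∀ x, x ∈ H ↔ x • α = α ∧ x • β = β := by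
    intro x; simp [H, Subgroup.mem_inf, mem_stabilizer_iff]
  have hg₀H : g₀ ∈ H := (memH _).2 ⟨hα, hβ⟩
  have maln : ∀ x : G, x ∉ H → ∀ h ∈ H, h ≠ 1 → x * h * x⁻¹ ∉ H := by
    intro x hx h hh h1 hmem
    rw [memH] at hh hmem
    have ha : h • (x⁻¹ • α) = x⁻¹ • α := by
      have := hmem.1
      rw [mul_smul, mul_smul] at this
      have := congrArg (x⁻¹ • ·) this
      simpa using this
    have hb : h • (x⁻¹ • β) = x⁻¹ • β := by
      have := hmem.2
      rw [mul_smul, mul_smul] at this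
      have := congrArg (x⁻¹ • ·) this
      simpa using this
    have hne' : x⁻¹ • α ≠ x⁻¹ • β := fun h => hαβ (smul_left_cancel _ h)
    rcases three h h1 α β (x⁻¹ • α) hαβ hh.1 hh.2 ha with e1 | e1 <;>
      rcases three h h1 α β (x⁻¹ • β) hαβ hh.1 hh.2 hb with e2 | e2
    · exact hne' (e1.trans e2.symm)
    · apply hx; rw [memH]
      exact ⟨(inv_smul_eq_iff.1 e1).symm, (inv_smul_eq_iff.1 e2).symm⟩
    · exact noswap x ⟨(inv_smul_eq_iff.1 e2).symm, (inv_smul_eq_iff.1 e1).symm⟩
    · exact hne' (e1.trans e2.symm)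
  have hX : ∀ g : G, g ≠ 1 →
      2 * Nat.card (fixedBy (G ⧸ H) g) ≤ Nat.card (fixedBy Ω g) := by
    intro g hg
    have hmk : ∀ x : G, g • (x : G ⧸ H) = (x : G ⧸ H) ↔ x⁻¹ * g * x ∈ H := by
      intro x
      rw [MulAction.Quotient.smul_mk, eq_comm, QuotientGroup.eq, smul_eq_mul, ← mul_assoc]
    have hsub : ∀ q₁ q₂ : G ⧸ H, g • q₁ = q₁ → g • q₂ = q₂ → q₁ = q₂ := by
      intro q₁ q₂
      induction q₁ using QuotientGroup.induction_on with | _ x
      induction q₂ using QuotientGroup.induction_on with | _ y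
      intro h1 h2
      rw [hmk] at h1 h2
      rw [eq_comm, QuotientGroup.eq]
      by_contra hxy
      have hne1 : x⁻¹ * g * x ≠ 1 := by
        intro h
        apply hg
        have : g = x * (x⁻¹ * g * x) * x⁻¹ := by group
        rw [this, h]; group
      have := maln (y⁻¹ * x) hxy _ h1 hne1
      apply this
      have e : y⁻¹ * x * (x⁻¹ * g * x) * (y⁻¹ * x)⁻¹ = y⁻¹ * g * y := by group
      rw [e]; exact h2
    by_cases hne : Nonempty (fixedBy (G ⧸ H) g)
    · obtain ⟨⟨q, hq⟩⟩ := hne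
      have hc1 : Nat.card (fixedBy (G ⧸ H) g) = 1 := by
        rw [Nat.card_eq_one_iff_unique]
        exact ⟨⟨fun a b => Subtype.ext (hsub _ _ a.2 b.2)⟩, ⟨⟨q, hq⟩⟩⟩
      rw [hc1]
      induction q using QuotientGroup.induction_on with | _ x
      rw [mem_fixedBy, hmk, memH] at hq
      have h2 : ({x • α, x • β} : Set Ω).ncard = 2 :=
        Set.ncard_pair (fun h => hαβ (smul_left_cancel _ h))
      have hsub2 : ({x • α, x • β} : Set Ω) ⊆ fixedBy Ω g := by
        intro y hy
        rcases hy with rfl | rfl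
        · have := hq.1
          rw [mul_smul, mul_smul, inv_smul_eq_iff] at this
          exact this
        · have := hq.2
          rw [mul_smul, mul_smul, inv_smul_eq_iff] at this
          exact this
      have := Set.ncard_le_ncard hsub2 (Set.toFinite _)
      rw [Nat.card_coe_set_eq]
      omega
    · rw [not_nonempty_iff] at hne
      rw [Nat.card_of_isEmpty]
      simp
  have hsum1 : ∑ g : G, Nat.card (fixedBy Ω g) = Nat.card G := sum_fixedBy_trans G Ω
  have hsum2 : ∑ g : G, Nat.card (fixedBy (G ⧸ H) g) = Nat.card G := sum_fixedBy_trans G (G ⧸ H)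
  have h1Ω : Nat.card (fixedBy Ω (1:G)) = Nat.card Ω := by
    rw [fixedBy_one_eq_univ]; exact Nat.card_congr (Equiv.Set.univ _)
  have h1X : Nat.card (fixedBy (G ⧸ H) (1:G)) = H.index := by
    rw [fixedBy_one_eq_univ, Nat.card_congr (Equiv.Set.univ _)]; rfl
  have e1 := Finset.add_sum_erase Finset.univ (fun g : G => Nat.card (fixedBy Ω g))
    (Finset.mem_univ 1)
  have e2 := Finset.add_sum_erase Finset.univ (fun g : G => Nat.card (fixedBy (G ⧸ H) g))
    (Finset.mem_univ 1)
  have hle : 2 * ∑ g ∈ Finset.univ.erase (1:G), Nat.card (fixedBy (G ⧸ H) g)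
      ≤ ∑ g ∈ Finset.univ.erase (1:G), Nat.card (fixedBy Ω g) := by
    rw [Finset.mul_sum]
    apply Finset.sum_le_sum
    intro g hg
    exact hX g (Finset.ne_of_mem_erase hg)
  have hH2 : 2 ≤ Nat.card H := by
    have : Nontrivial H := ⟨⟨⟨g₀, hg₀H⟩, 1, fun h => hg₀ (congrArg Subtype.val h)⟩⟩
    exact Finite.one_lt_card
  have hidx : H.index * Nat.card H = Nat.card G := H.index_mul_card
  have hΩ : 0 < Nat.card Ω := Nat.card_pos
  rw [hsum1, h1Ω] at e1
  rw [hsum2, h1X] at e2
  nlinarith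

/-- Let G be a finite group acting faithfully and transitively on a finite set Ω with fixity k ≥ 1: every non-identity element fixes at most k points and some non-identity element fixes exactly k points. Then |Z(G)| divides k; if k = 2 then |G| is even; and for every prime p > k dividing |G| and every point α, either p does not divide |G_α| or G_α contains a Sylow p-subgroup of G. -/
theorem result {G : Type*} [Group G] [Finite G] {Ω : Type*} [Fintype Ω] [MulAction G Ω] [FaithfulSMul G Ω]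
    (htr : MulAction.IsPretransitive G Ω) (k : ℕ) (hk : 1 ≤ k)
    (hfix : ∀ g : G, g ≠ 1 → Nat.card (MulAction.fixedBy Ω g) ≤ k) (hex : ∃ g : G, g ≠ 1 ∧ Nat.card (MulAction.fixedBy Ω g) = k) :
    Nat.card (Subgroup.center G) ∣ k ∧ (k = 2 → 2 ∣ Nat.card G) ∧
      ∀ (p : ℕ), p.Prime → k < p → p ∣ Nat.card G → ∀ α : Ω,
        ¬ p ∣ Nat.card (MulAction.stabilizer G α) ∨ ¬ p ∣ (MulAction.stabilizer G α).index := by
  classical
  obtain ⟨g₀, hg₀, hcard⟩ := hex
  refine ⟨?_, ?_, ?_⟩
  · rw [← hcard]; exact center_dvd g₀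
  · intro hk2
    subst hk2
    exact part2 hfix g₀ hg₀ hcard
  · intro p hp hkp _ α
    by_contra hcon
    push Not at hcon
    rw [index_stabilizer_of_transitive] at hcon
    exact part3 k hfix p hp hkp α hcon.1 hcon.2

end Cfsg.Agent.S3389
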