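import Cfsg.Statements.S3390
import Mathlib
import Cfsg.Agent.Lib.Helper17.Fix2Cases
import Cfsg.Agent.Lib.Helper17.Fix2Transfer
import Cfsg.Agent.Lib.Helper17.Fix2Frob

set_option autoImplicit false
open Cfsg

namespace Cfsg.Agent.S3390

open Cfsg.Agent.Helper17.Fix2 in
/-- Let G be a finite group acting faithfully and transitively on a finite set Ω with fixity 2 (every non-identity element fixes at most two points, and some fixes exactly two). Let α ∈ Ω and S a Sylow 2-subgroup of G. Then one of the following holds: the stabilizer S_α of α in S is trivial; S is dihedral or semidihedral and either |S_α| = 2 or |S : S_α| = 2; |S| ≥ 4, S has exactly one orbit of size 2 on Ω, every other S-orbit is regular, and G has a normal subgroup of index 2 or of index |S| which is a Frobenius group; or S ≤ G_α. -/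
theorem result {G : Type*} [Group G] [Finite G] {Ω : Type*} [Fintype Ω] [MulAction G Ω] [FaithfulSMul G Ω] (htr : MulAction.IsPretransitive G Ω)
    (hfix : ∀ g : G, g ≠ 1 → Nat.card (MulAction.fixedBy Ω g) ≤ 2) (hex : ∃ g : G, g ≠ 1 ∧ Nat.card (MulAction.fixedBy Ω g) = 2) (α : Ω) (S : Sylow 2 G) :
    (S : Subgroup G) ⊓ MulAction.stabilizer G α = ⊥ ∨
    (((∃ n : ℕ, Nonempty (↥(S : Subgroup G) ≃* DihedralGroup n)) ∨ Cfsg.IsQuasiDihedral ↥(S : Subgroup G)) ∧
       (Nat.card ↥((S : Subgroup G) ⊓ MulAction.stabilizer G α) = 2 ∨ ((S : Subgroup G) ⊓ MulAction.stabilizer G α).relIndex (S : Subgroup G) = 2)) ∨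
    (4 ≤ Nat.card (S : Subgroup G) ∧
       (∃ ω : Ω, Nat.card (MulAction.orbit ↥(S : Subgroup G) ω) = 2 ∧
          ∀ ω' : Ω, ω' ∉ MulAction.orbit ↥(S : Subgroup G) ω → Nat.card (MulAction.orbit ↥(S : Subgroup G) ω') = Nat.card (S : Subgroup G)) ∧
       ∃ N : Subgroup G, N.Normal ∧ (N.index = 2 ∨ N.index = Nat.card (S : Subgroup G)) ∧ (∃ H : Subgroup ↥N, Cfsg.IsFrobeniusComplement H)) ∨
    (S : Subgroup G) ≤ MulAction.stabilizer G α := by
  classical
  have hF2 : Fact (Nat.Prime 2) := ⟨Nat.prime_two⟩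
  by_cases h1 : (S : Subgroup G) ⊓ MulAction.stabilizer G α = ⊥
  · left; exact h1
  by_cases h2 : (S : Subgroup G) ≤ MulAction.stabilizer G α
  · right; right; right; exact h2
  obtain ⟨t, htS, ht1, htα⟩ : ∃ t ∈ (S : Subgroup G), t ≠ 1 ∧ t • α = α := by
    rw [Subgroup.eq_bot_iff_forall] at h1
    push Not at h1
    obtain ⟨t, ht, ht1⟩ := h1
    rw [Subgroup.mem_inf, MulAction.mem_stabilizer_iff] at ht
    exact ⟨t, ht.1, ht1, ht.2⟩
  obtain ⟨β, D⟩ := exists_data (S : Subgroup G) S.isPGroup' α ⟨t, htS, ht1, htα⟩ h2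
  by_cases hII : ∃ x ∈ (S : Subgroup G), x • α ≠ α ∧ x • α ≠ β
  · obtain ⟨hc, hd⟩ := caseII hfix (S : Subgroup G) S.isPGroup' D hII
    right; left
    exact ⟨hd, Or.inl hc⟩
  have hI : ∀ x ∈ (S : Subgroup G), x • α = α ∨ x • α = β := by
    intro x hx
    by_contra hcon
    push Not at hcon
    exact hII ⟨x, hx, hcon.1, hcon.2⟩
  have hidx := caseI_relIndex D hI
  by_cases hreg : ∃ ω : Ω, ω ≠ α ∧ ω ≠ β ∧ ∃ s ∈ (S : Subgroup G), s ≠ 1 ∧ s • ω = ω
  · obtain ⟨ω, hωa, hωb, s, hsS, hs1, hsω⟩ := hreg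
    right; left
    exact ⟨caseIb hfix (S : Subgroup G) S.isPGroup' D hI ω hωa hωb s hsS hs1 hsω, Or.inr hidx⟩
  have hreg' : ∀ ω : Ω, ω ≠ α → ω ≠ β → ∀ s ∈ (S : Subgroup G), s • ω = ω → s = 1 := by
    intro ω hωa hωb s hs hsω
    by_contra hs1
    exact hreg ⟨ω, hωa, hωb, s, hs, hs1, hsω⟩
  right; right; left
  obtain ⟨n, hnS, hnα⟩ := D.swap
  refine ⟨?_, ⟨α, ?_, ?_⟩, ?_⟩
  · -- the order of `S`
    have h3 := Subgroup.card_mul_index
      (((S : Subgroup G) ⊓ MulAction.stabilizer G α).subgroupOf (S : Subgroup G))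
    have h4 : (((S : Subgroup G) ⊓ MulAction.stabilizer G α).subgroupOf (S : Subgroup G)).index = 2 :=
      hidx
    have h5 : 1 < Nat.card
        (((S : Subgroup G) ⊓ MulAction.stabilizer G α).subgroupOf (S : Subgroup G)) := by
      rw [Subgroup.one_lt_card_iff_ne_bot]
      intro h
      have h6 : (⟨t, htS⟩ : ↥(S : Subgroup G)) ∈
          ((S : Subgroup G) ⊓ MulAction.stabilizer G α).subgroupOf (S : Subgroup G) := by
        rw [Subgroup.mem_subgroupOf, Subgroup.mem_inf, MulAction.mem_stabilizer_iff]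
        exact ⟨htS, htα⟩
      rw [h, Subgroup.mem_bot] at h6
      exact ht1 (congrArg Subtype.val h6)
    rw [h4] at h3
    omega
  · -- the orbit of `α`
    have hset : MulAction.orbit ↥(S : Subgroup G) α = {α, β} := by
      ext ω
      rw [MulAction.mem_orbit_iff, Set.mem_insert_iff, Set.mem_singleton_iff]
      constructor
      · rintro ⟨s, hs⟩
        rw [← hs]
        exact hI s s.2
      · rintro (h | h)
        · exact ⟨1, by rw [one_smul, h]⟩
        · exact ⟨⟨n, hnS⟩, by rw [h]; exact hnα⟩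
    rw [hset, Nat.card_coe_set_eq, Set.ncard_pair D.ne]
  · -- the other orbits are regular
    intro ω' hω'
    have hωa : ω' ≠ α := by
      intro h
      apply hω'
      rw [h]
      exact MulAction.mem_orbit_self α
    have hωb : ω' ≠ β := by
      intro h
      apply hω'
      rw [h, MulAction.mem_orbit_iff]
      exact ⟨⟨n, hnS⟩, hnα⟩
    have hbij : Function.Bijective
        (fun s : ↥(S : Subgroup G) =>
          (⟨s • ω', MulAction.mem_orbit ω' s⟩ : MulAction.orbit ↥(S : Subgroup G) ω')) := by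
      constructor
      · intro s s' hss
        have h3 : s • ω' = s' • ω' := congrArg Subtype.val hss
        have h4 : ((s'⁻¹ * s : ↥(S : Subgroup G)) : G) • ω' = ω' := by
          have : (s'⁻¹ * s) • ω' = ω' := by rw [mul_smul, h3, inv_smul_smul]
          exact this
        have h5 := hreg' ω' hωa hωb _ (s'⁻¹ * s).2 h4
        have h6 : s'⁻¹ * s = 1 := Subtype.ext h5
        have : s = s' * (s'⁻¹ * s) := by group
        rw [this, h6, mul_one]
      · rintro ⟨ω, hω⟩
        obtain ⟨s, hs⟩ := MulAction.mem_orbit_iff.1 hω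
        exact ⟨s, Subtype.ext hs⟩
    exact (Nat.card_congr (Equiv.ofBijective _ hbij)).symm
  · -- the Frobenius normal subgroup of index two
    set V : G →* ℤˣ := MonoidHom.transfer (sgn D hI) with hV
    have hVstab : ∀ ω : Ω, MulAction.stabilizer G ω ≤ V.ker := by
      intro ω g hg
      rw [MonoidHom.mem_ker]
      exact transfer_eq_one_of_fix S D hI hreg' g ω (MulAction.mem_stabilizer_iff.1 hg)
    have hnα' : n • α ≠ α := by rw [hnα]; exact D.ne.symm
    have hVn : V n = -1 := transfer_eq_neg_one S D hI hreg' n hnS hnα'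
    have hnN : n ∉ V.ker := by
      rw [MonoidHom.mem_ker, hVn]
      decide
    have hidx2 : V.ker.index = 2 := by
      have h3 : V.ker.index = Nat.card V.range := Subgroup.index_ker V
      have h4 : Nat.card V.range ∣ Nat.card ℤˣ := Subgroup.card_subgroup_dvd_card _
      have h5 : Nat.card ℤˣ = 2 := by
        rw [Nat.card_eq_fintype_card]; rfl
      rw [h5, ← h3] at h4
      have h6 : V.ker.index = 1 ∨ V.ker.index = 2 := by
        have := Nat.le_of_dvd (by norm_num) h4
        have hpos : V.ker.index ≠ 0 := Subgroup.index_ne_zero_of_finite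
        interval_cases V.ker.index
        · exact absurd rfl hpos
        · exact Or.inl rfl
        · exact Or.inr rfl
      rcases h6 with h6 | h6
      · exfalso
        apply hnN
        rw [Subgroup.index_eq_one.mp h6]
        trivial
      · exact h6
    have hnorm : V.ker.Normal := MonoidHom.normal_ker V
    have htN : t ∈ V.ker := hVstab α (MulAction.mem_stabilizer_iff.2 htα)
    have hSonly : ∀ y ∈ (S : Subgroup G), y ≠ 1 → ∀ ω : Ω, y • ω = ω → ω = α ∨ ω = β := by
      intro y hy hy1 ω hω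
      by_contra hcon
      push Not at hcon
      exact hy1 (hreg' ω hcon.1 hcon.2 y hy hω)
    refine ⟨V.ker, hnorm, Or.inl hidx2, (MulAction.stabilizer G α).subgroupOf V.ker, ?_, ?_, ?_⟩
    · intro h
      have h3 : (⟨t, htN⟩ : ↥V.ker) ∈ (MulAction.stabilizer G α).subgroupOf V.ker := by
        rw [Subgroup.mem_subgroupOf, MulAction.mem_stabilizer_iff]
        exact htα
      rw [h, Subgroup.mem_bot] at h3
      exact ht1 (congrArg Subtype.val h3)
    · intro h
      apply ht1
      apply FaithfulSMul.eq_of_smul_eq_smul (α := Ω)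
      intro ω
      rw [one_smul]
      obtain ⟨g, hg⟩ := MulAction.exists_smul_eq G α ω
      have h3 : g⁻¹ * t * g ∈ V.ker := by
        have := hnorm.conj_mem t htN g⁻¹
        rwa [inv_inv] at this
      have h4 : (⟨g⁻¹ * t * g, h3⟩ : ↥V.ker) ∈ (MulAction.stabilizer G α).subgroupOf V.ker := by
        rw [h]; trivial
      rw [Subgroup.mem_subgroupOf, MulAction.mem_stabilizer_iff] at h4
      have h5 : (g⁻¹ * t * g) • α = α := h4
      rw [mul_smul, mul_smul, hg, inv_smul_eq_iff, hg] at h5
      exact h5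
    · intro g hg
      rw [Subgroup.eq_bot_iff_forall]
      intro y hy
      obtain ⟨hy1, hy2⟩ := Subgroup.mem_inf.1 hy
      rw [Subgroup.mem_subgroupOf, MulAction.mem_stabilizer_iff] at hy1
      rw [Subgroup.mem_smul_pointwise_iff_exists] at hy2
      obtain ⟨h, hh, hhy⟩ := hy2
      rw [Subgroup.mem_subgroupOf, MulAction.mem_stabilizer_iff] at hh
      have hgα : (g : G) • α ≠ α := by
        intro h3
        apply hg
        rw [Subgroup.mem_subgroupOf, MulAction.mem_stabilizer_iff]
        exact h3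
      have hyg : (y : G) • ((g : G) • α) = (g : G) • α := by
        have h3 : (y : G) = (g : G) * (h : G) * (g : G)⁻¹ := by
          rw [← hhy]; rfl
        rw [h3, ← mul_smul, inv_mul_cancel_right, mul_smul, hh]
      have h3 := stab_inf_eq_bot hfix V.ker hVstab S α β hSonly n hnα hnN ((g : G) • α) hgα
        (g : G) g.2 rfl
      have h4 : (y : G) ∈ MulAction.stabilizer G α ⊓ MulAction.stabilizer G ((g : G) • α) := by
        rw [Subgroup.mem_inf, MulAction.mem_stabilizer_iff, MulAction.mem_stabilizer_iff]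
        exact ⟨hy1, hyg⟩
      rw [h3, Subgroup.mem_bot] at h4
      exact Subtype.ext h4

end Cfsg.Agent.S3390
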