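import Mathlib
import Cfsg.Statements.S3391
import Cfsg.Agent.Lib.Helper2.SzFixity3

set_option autoImplicit false
open Cfsg

namespace Cfsg.Agent.S3391

/-- Let q = 2^{2m+1} ≥ 8 and let G be isomorphic to the Suzuki group Sz(q). If G acts faithfully and transitively on a finite set Ω with fixity 2 (every non-identity element fixes at most two points, and some fixes exactly two), then either |Ω| = q² + 1 and the action is 2-transitive, or |Ω| = q²(q² + 1) and the point stabilizers have order q − 1. -/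
theorem result {G : Type*} [Group G] [Finite G] (F : Type) [Field F] [Fintype F] (m : ℕ) (hm : 1 ≤ m) (hF : Fintype.card F = 2 ^ (2 * m + 1))
    (e : G ≃* ↥(Cfsg.Lie.Sz F (2 ^ (m + 1)))) {Ω : Type*} [Fintype Ω] [MulAction G Ω] [FaithfulSMul G Ω] (htr : MulAction.IsPretransitive G Ω)
    (hfix : ∀ g : G, g ≠ 1 → Nat.card (MulAction.fixedBy Ω g) ≤ 2) (hex : ∃ g : G, g ≠ 1 ∧ Nat.card (MulAction.fixedBy Ω g) = 2) :
    (Fintype.card Ω = Fintype.card F ^ 2 + 1 ∧ MulAction.IsMultiplyPretransitive G Ω 2) ∨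
    (Fintype.card Ω = Fintype.card F ^ 2 * (Fintype.card F ^ 2 + 1) ∧ ∀ α : Ω, Nat.card (MulAction.stabilizer G α) = Fintype.card F - 1) := by
  classical
  obtain ⟨S⟩ := Cfsg.Agent.Helper2.Sz.nonempty_szData (m := m) hF
  obtain ⟨b⟩ := Cfsg.Agent.Helper2.Sz.nonempty_bridge hm hF
  obtain ⟨f, hfdef⟩ : ∃ f : ↥(Cfsg.Sz F m) ≃* G, f = b.trans e.symm := ⟨_, rfl⟩
  let act : MulAction ↥(Cfsg.Sz F m) Ω := MulAction.compHom Ω f.toMonoidHom
  have hsmul : ∀ (x : ↥(Cfsg.Sz F m)) (ω : Ω), x • ω = f x • ω := fun _ _ => rfl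
  have htr' : MulAction.IsPretransitive ↥(Cfsg.Sz F m) Ω := by
    constructor
    intro a c
    obtain ⟨g, hg⟩ := MulAction.exists_smul_eq G a c
    exact ⟨f.symm g, by rw [hsmul, f.apply_symm_apply]; exact hg⟩
  have hfixedBy : ∀ x : ↥(Cfsg.Sz F m), MulAction.fixedBy Ω x = MulAction.fixedBy Ω (f x) := by
    intro x
    ext ω
    rw [MulAction.mem_fixedBy, MulAction.mem_fixedBy, hsmul]
  have hne : ∀ x : ↥(Cfsg.Sz F m), x ≠ 1 → f x ≠ 1 := by
    intro x hx h
    apply hx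
    apply f.injective
    rw [h, map_one]
  have hfix' : ∀ x : ↥(Cfsg.Sz F m), x ≠ 1 → Nat.card (MulAction.fixedBy Ω x) ≤ 2 := by
    intro x hx
    rw [hfixedBy]
    exact hfix (f x) (hne x hx)
  have hex' : ∃ x : ↥(Cfsg.Sz F m), x ≠ 1 ∧ Nat.card (MulAction.fixedBy Ω x) = 2 := by
    obtain ⟨g, hg1, hg⟩ := hex
    refine ⟨f.symm g, ?_, ?_⟩
    · intro h
      apply hg1
      have := congrArg f h
      rwa [f.apply_symm_apply, map_one] at this
    · rw [hfixedBy, f.apply_symm_apply]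
      exact hg
  rcases S.fixity_two hm hF hfix' hex' with ⟨h1, h2⟩ | ⟨h1, h2⟩
  · left
    refine ⟨by rw [← Nat.card_eq_fintype_card, h1, hF], ?_⟩
    rw [MulAction.is_two_pretransitive_iff] at h2 ⊢
    intro a c a' c' hac hac'
    obtain ⟨x, hx1, hx2⟩ := h2 hac hac'
    exact ⟨f x, hx1, hx2⟩
  · right
    refine ⟨by rw [← Nat.card_eq_fintype_card, h1, hF], ?_⟩
    intro α
    rw [hF, ← h2 α]
    apply Nat.card_congr
    exact (Equiv.subtypeEquiv f.toEquiv (fun x => by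
      rw [MulAction.mem_stabilizer_iff, MulAction.mem_stabilizer_iff, hsmul]
      rfl)).symm

end Cfsg.Agent.S3391
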