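import Cfsg.Statements.S3401
import Cfsg.Agent.Lib.Helper17.TT2Fin

set_option autoImplicit false
open Cfsg

namespace Cfsg.Agent.S3401

/-- Let G be a doubly transitive permutation group on a finite set Ω with |Ω| ≡ 2 mod 4 and |Ω| > 2. Then G has a unique minimal normal subgroup M (a nontrivial normal subgroup contained in every nontrivial normal subgroup); M is simple and doubly transitive on Ω, and its centralizer in G is trivial (so G embeds in Aut(M)). -/
theorem result {G : Type*} [Group G] [Finite G] {Ω : Type*} [Fintype Ω] [MulAction G Ω] [FaithfulSMul G Ω]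
    (h2 : MulAction.IsMultiplyPretransitive G Ω 2) (hn : Fintype.card Ω % 4 = 2) (hn2 : 2 < Fintype.card Ω) :
    ∃ M : Subgroup G, M.Normal ∧ M ≠ ⊥ ∧ (∀ N : Subgroup G, N.Normal → N ≠ ⊥ → M ≤ N) ∧
      IsSimpleGroup ↥M ∧ MulAction.IsMultiplyPretransitive ↥M Ω 2 ∧ Subgroup.centralizer (M : Set G) = ⊥ := by
  have h2' : ∀ a b c d : Ω, a ≠ b → c ≠ d → ∃ g : G, g • a = c ∧ g • b = d := by
    intro a b c d hab hcd
    exact (MulAction.is_two_pretransitive_iff (G := G) (α := Ω)).1 h2 hab hcd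
  have hn' : Nat.card Ω % 4 = 2 := by rw [Nat.card_eq_fintype_card]; exact hn
  have hn2' : 2 < Nat.card Ω := by rw [Nat.card_eq_fintype_card]; exact hn2
  obtain ⟨M, hMn, hMne, hMmin, hMs, hM2, hC⟩ :=
    Cfsg.Agent.Helper17.TT2.exists_minimal_normal_simple h2' hn' hn2'
  refine ⟨M, hMn, hMne, hMmin, hMs, ?_, hC⟩
  rw [MulAction.is_two_pretransitive_iff]
  intro a b c d hab hcd
  obtain ⟨g, hg, h1, h2''⟩ := hM2 a b c d hab hcd
  exact ⟨⟨g, hg⟩, h1, h2''⟩

end Cfsg.Agent.S3401
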