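import Mathlib
import Cfsg.Statements.S3413
import Cfsg.Agent.Lib.Helper6.M11RecS
import Cfsg.Agent.Lib.Helper6.M11RecFinal
import Cfsg.Agent.Lib.Helper1.M11RecTRANSFER
import Cfsg.Agent.Lib.Helper17.M11S1

set_option autoImplicit false
open Cfsg

namespace Cfsg.Agent.S3413

open Cfsg.Agent.Helper6.M11Rec in
/-- Let H be a finite group whose commuting graph (vertices the non-identity elements, two joined when they commute) is isomorphic to that of the Mathieu group M_11: there is a bijection between the non-identity elements of H and of M_11 under which two elements commute exactly when their images do. Then H ≅ M_11. -/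
theorem result {H : Type*} [Group H] [Finite H]
    (f : {h : H // h ≠ 1} ≃ {g : ↥Cfsg.Spor.M11 // g ≠ 1})
    (hf : ∀ x y : {h : H // h ≠ 1}, (x : H) * y = y * x ↔ ((f x) : ↥Cfsg.Spor.M11) * (f y) = (f y) * (f x)) :
    Nonempty (H ≃* ↥Cfsg.Spor.M11) := by
  obtain ⟨hsM, hcM⟩ := isM11_M11
  letI : Fintype ↥Cfsg.Spor.M11 := Fintype.ofFinite _
  haveI : Fact (Nat.Prime 11) := ⟨by norm_num⟩
  -- an element of order 11 of `M₁₁` with centralizer of order 11
  obtain ⟨g0, hg0⟩ := exists_prime_orderOf_dvd_card' (G := ↥Cfsg.Spor.M11) 11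
    (by rw [hcM]; norm_num)
  obtain ⟨P, hP⟩ := NC.exists_sylow_eq_zpowers hcM g0 hg0
  obtain ⟨hPc, hCP, -⟩ := Cfsg.Agent.Helper17.M11.syl11 hsM hcM P
  have hC0 : Nat.card (Subgroup.centralizer ({g0} : Set ↥Cfsg.Spor.M11)) = 11 := by
    rw [← NC.centralizer_zpowers_eq g0, ← hP, hCP, hPc]
  have hg0ne : g0 ≠ 1 := by
    intro h
    rw [h, orderOf_one] at hg0
    omega
  -- transfer to `H`
  obtain ⟨hcard, hcent⟩ := card_centralizer_transfer f hf (f.symm ⟨g0, hg0ne⟩)
  rw [Equiv.apply_symm_apply] at hcent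
  have hH : Nat.card H = 7920 := hcard.trans hcM
  set x0 : H := ((f.symm ⟨g0, hg0ne⟩ : {h : H // h ≠ 1}) : H) with hx0
  have hx0ne : x0 ≠ 1 := (f.symm ⟨g0, hg0ne⟩).2
  have hCx : Nat.card (Subgroup.centralizer ({x0} : Set H)) = 11 := by
    rw [hcent]; exact hC0
  have hx0ord : orderOf x0 = 11 := by
    have hmem : x0 ∈ Subgroup.centralizer ({x0} : Set H) :=
      Subgroup.mem_centralizer_singleton_iff.2 rfl
    have h1 : orderOf (⟨x0, hmem⟩ : Subgroup.centralizer ({x0} : Set H)) ∣ 11 := by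
      rw [← hCx]; exact orderOf_dvd_natCard _
    rw [Subgroup.orderOf_mk] at h1
    rcases (Nat.dvd_prime (by norm_num : Nat.Prime 11)).1 h1 with h | h
    · exact absurd (orderOf_eq_one_iff.1 h) hx0ne
    · exact h
  exact iso_M11 (simple_of_self_centralizing hH x0 hx0ord hCx) hH

end Cfsg.Agent.S3413
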