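import Mathlib
import Cfsg.Statements.S3419
import Cfsg.Agent.Lib.Helper18.SpecAlt4

set_option autoImplicit false
open Cfsg

namespace Cfsg.Agent.S3419

open Cfsg.Agent.Helper18.SpecAlt in
/-- Let n ≥ 5 and let G be a finite group with the same order and the same set of element orders as the alternating group of degree n. Then G is not solvable. -/
theorem result {G : Type*} [Group G] [Finite G] (n : ℕ) (hn : 5 ≤ n)
    (hcard : Nat.card G = Nat.card ↥(alternatingGroup (Fin n)))
    (hspec : Set.range (orderOf : G → ℕ) = Set.range (orderOf : ↥(alternatingGroup (Fin n)) → ℕ)) :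
    ¬ Group.IsSolvable G := by
  -- a pair of odd primes `p < q ≤ n` with `n < p + q` and the arithmetic conditions
  have key : ∀ p q : ℕ, p.Prime → q.Prime → p < q → p ≠ 2 → q ≤ n → n < p + q →
      (∀ b, 1 ≤ b → p ^ b ∣ n.factorial → ¬ q ∣ p ^ b - 1) →
      (∀ b, 1 ≤ b → q ^ b ∣ n.factorial → ¬ p ∣ q ^ b - 1) → ¬ Group.IsSolvable G := by
    intro p q hp hq hpq hp2 hqn hsum har1 har2
    have hq2 : q ≠ 2 := by
      have := hp.two_le
      omega
    have hgood : Good G ({p, q} : Set ℕ) := by
      apply good_of_spec n hn hcard hspec
      · intro x hx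
        rcases hx with rfl | rfl
        · exact ⟨hp, hp2, by omega⟩
        · exact ⟨hq, hq2, hqn⟩
      · intro x hx y hy hxy
        rcases hx with rfl | rfl <;> rcases hy with rfl | rfl
        · exact absurd rfl hxy
        · exact hsum
        · omega
        · exact absurd rfl hxy
      · intro x hx y hy hxy
        rcases hx with rfl | rfl <;> rcases hy with rfl | rfl
        · exact absurd rfl hxy
        · exact har1
        · exact har2
        · exact absurd rfl hxy
    exact hgood.not_isSolvable (Set.mem_insert p _) (Set.mem_insert_of_mem p rfl) hpq.ne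
  -- generic case: two primes in `(n / 2, n]`
  have generic : ∀ p q : ℕ, p.Prime → q.Prime → p < q → n < 2 * p → q ≤ n →
      ¬ Group.IsSolvable G := by
    intro p q hp hq hpq h1 h2
    apply key p q hp hq hpq (by omega) h2 (by omega)
    · intro b hb hdvd
      exact arith_generic hp hq hpq.ne hn h1 (by omega) (by omega) b hb hdvd
    · intro b hb hdvd
      exact arith_generic hq hp hpq.ne' hn (by omega) h2 h1 b hb hdvd
  by_cases h11 : 11 ≤ n
  · obtain ⟨p, q, hp, hq, hpq, h1, h2⟩ := exists_two_primes_half n h11
    exact generic p q hp hq hpq h1 h2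
  have hn' : n = 5 ∨ n = 6 ∨ n = 7 ∨ n = 8 ∨ n = 9 ∨ n = 10 := by omega
  rcases hn' with rfl | rfl | rfl | rfl | rfl | rfl
  · exact generic 3 5 (by norm_num) (by norm_num) (by norm_num) (by norm_num) (by norm_num)
  · apply key 3 5 (by norm_num) (by norm_num) (by norm_num) (by norm_num) (by norm_num)
      (by norm_num)
    · intro b hb hdvd
      have hb2 : b < 3 := by
        by_contra hb3
        have h1 : 3 ^ 3 ∣ 3 ^ b := pow_dvd_pow 3 (by omega)
        have h2 := h1.trans hdvd
        revert h2
        decide
      interval_cases b <;> decide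
    · intro b hb hdvd
      have hb2 : b < 2 := by
        by_contra hb3
        have h1 : 5 ^ 2 ∣ 5 ^ b := pow_dvd_pow 5 (by omega)
        have h2 := h1.trans hdvd
        revert h2
        decide
      interval_cases b <;> decide
  · exact generic 5 7 (by norm_num) (by norm_num) (by norm_num) (by norm_num) (by norm_num)
  · exact generic 5 7 (by norm_num) (by norm_num) (by norm_num) (by norm_num) (by norm_num)
  · exact generic 5 7 (by norm_num) (by norm_num) (by norm_num) (by norm_num) (by norm_num)
  · apply key 5 7 (by norm_num) (by norm_num) (by norm_num) (by norm_num) (by norm_num)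
      (by norm_num)
    · intro b hb hdvd
      have hb2 : b < 3 := by
        by_contra hb3
        have h1 : 5 ^ 3 ∣ 5 ^ b := pow_dvd_pow 5 (by omega)
        have h2 := h1.trans hdvd
        revert h2
        decide
      interval_cases b <;> decide
    · intro b hb hdvd
      have hb2 : b < 2 := by
        by_contra hb3
        have h1 : 7 ^ 2 ∣ 7 ^ b := pow_dvd_pow 7 (by omega)
        have h2 := h1.trans hdvd
        revert h2
        decide
      interval_cases b <;> decide

end Cfsg.Agent.S3419
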