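import Mathlib
import Cfsg.Statements.S3420
import Cfsg.Agent.Lib.Helper18.SpecAlt4

set_option autoImplicit false
open Cfsg

namespace Cfsg.Agent.S3420

open Cfsg.Agent.Helper18.SpecAlt in
/-- Let n ≥ 11 and let G be a finite group with the same order and the same set of element orders as the alternating group of degree n. Then G has normal subgroups N < H such that H/N is a non-abelian simple group whose order is divisible by every prime p with n/2 < p ≤ n. -/
theorem result {G : Type*} [Group G] [Finite G] (n : ℕ) (hn : 11 ≤ n)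
    (hcard : Nat.card G = Nat.card ↥(alternatingGroup (Fin n)))
    (hspec : Set.range (orderOf : G → ℕ) = Set.range (orderOf : ↥(alternatingGroup (Fin n)) → ℕ)) :
    ∃ (N H : Subgroup G) (_ : N.Normal), H.Normal ∧ N < H ∧
      IsSimpleGroup (↥H ⧸ N.subgroupOf H) ∧ ¬ IsMulCommutative (↥H ⧸ N.subgroupOf H) ∧
      ∀ p : ℕ, p.Prime → n < 2 * p → p ≤ n → p ∣ Nat.card (↥H ⧸ N.subgroupOf H) := by
  let π : Set ℕ := {p | p.Prime ∧ n < 2 * p ∧ p ≤ n}
  have hgood : Good G π := by
    apply good_of_spec n (by omega) hcard hspec π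
    · rintro p ⟨hp, h1, h2⟩
      exact ⟨hp, by omega, h2⟩
    · rintro p ⟨hp, h1, h2⟩ r ⟨hr, h3, h4⟩ _
      omega
    · rintro p ⟨hp, h1, h2⟩ r ⟨hr, h3, h4⟩ hpr b hb hdvd
      exact arith_generic hp hr hpr (by omega) h1 h2 h3 b hb hdvd
  obtain ⟨p, q, hp, hq, hpq, h1, h2⟩ := exists_two_primes_half n hn
  have hpπ : p ∈ π := ⟨hp, h1, by omega⟩
  have hqπ : q ∈ π := ⟨hq, by omega, h2⟩
  have hsq : ¬ p ^ 2 ∣ Nat.card G := by
    intro hd
    apply not_sq_dvd_factorial hp (by omega : p ≤ n) h1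
    rw [← card_mul_two n (by omega) hcard]
    exact hd.trans (dvd_mul_left _ _)
  obtain ⟨N, H, hN, hH, hNH, hsimple, hnc, hdvd⟩ := hgood.exists_simple hpπ hqπ hpq.ne hsq
  exact ⟨N, H, hN, hH, hNH, hsimple, hnc, fun r hr hr1 hr2 => hdvd r ⟨hr, hr1, hr2⟩⟩

end Cfsg.Agent.S3420
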