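import Mathlib
import Cfsg.Statements.S3430
import Cfsg.Agent.Lib.Helper20.ZsigF

set_option autoImplicit false
open Cfsg

namespace Cfsg.Agent.S3430

open Cfsg.Agent.Helper20.Zsig

/-- the case `n = 2` -/
theorem case_two (q : ℕ) (hq : 2 ≤ q)
    (h1 : ¬ ∃ s t : ℕ, t ≤ 1 ∧ q + 1 = 2 ^ s * 3 ^ t) :
    ∃ p : ℕ, p.Prime ∧ p ∣ q ^ 2 - 1 ∧ (∀ i : ℕ, 1 ≤ i → i < 2 → ¬ p ∣ q ^ i - 1) ∧
      (2 + 1 < p ∨ p ^ 2 ∣ q ^ 2 - 1) := by
  have hfac : q ^ 2 - 1 = (q - 1) * (q + 1) := by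
    obtain ⟨t, rfl⟩ : ∃ t, q = t + 2 := ⟨q - 2, by omega⟩
    have : (t + 2) ^ 2 = (t + 1) * (t + 3) + 1 := by ring
    rw [this]
    simp
  have hdvd : q + 1 ∣ q ^ 2 - 1 := by rw [hfac]; exact Dvd.intro_left _ rfl
  -- odd primes dividing q + 1 are primitive
  have hprim : ∀ p : ℕ, p.Prime → p ≠ 2 → p ∣ q + 1 →
      ∀ i : ℕ, 1 ≤ i → i < 2 → ¬ p ∣ q ^ i - 1 := by
    intro p hp hp2 hpq i hi1 hi2 hdv
    have hi : i = 1 := by omega
    subst hi
    rw [pow_one] at hdv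
    have h2 : p ∣ (q + 1) - (q - 1) := Nat.dvd_sub hpq hdv
    have : (q + 1) - (q - 1) = 2 := by omega
    rw [this] at h2
    exact hp2 ((Nat.prime_dvd_prime_iff_eq hp Nat.prime_two).mp h2)
  obtain ⟨s, u, hu, hsu⟩ := Nat.exists_eq_two_pow_mul_odd (show q + 1 ≠ 0 by omega)
  have hu0 : u ≠ 0 := by
    rintro rfl
    simp at hu
  have hudvd : u ∣ q + 1 := by rw [hsu]; exact Dvd.intro_left _ rfl
  have hodd : ∀ p : ℕ, p.Prime → p ∣ u → p ≠ 2 := by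
    rintro p hp hpu rfl
    have := hu.of_dvd_nat hpu
    exact absurd this (by decide)
  by_cases hex : ∃ p : ℕ, p.Prime ∧ p ∣ u ∧ 3 < p
  · obtain ⟨p, hp, hpu, hlt⟩ := hex
    exact ⟨p, hp, dvd_trans (dvd_trans hpu hudvd) hdvd,
      hprim p hp (hodd p hp hpu) (dvd_trans hpu hudvd), Or.inl (by omega)⟩
  · push Not at hex
    have hall : ∀ {d : ℕ}, d.Prime → d ∣ u → d = 3 := by
      intro d hd hdu
      have h1 := hex d hd hdu
      have h2 := hodd d hd hdu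
      have h3 := hd.two_le
      omega
    have hpow := Nat.eq_prime_pow_of_unique_prime_dvd hu0 hall
    set k := u.primeFactorsList.length
    rcases Nat.lt_or_ge k 2 with hk | hk
    · exfalso
      apply h1
      refine ⟨s, k, by omega, ?_⟩
      rw [hsu, hpow]
    · refine ⟨3, Nat.prime_three, ?_, ?_, Or.inr ?_⟩
      · refine dvd_trans (dvd_trans ?_ hudvd) hdvd
        rw [hpow]
        exact dvd_pow_self 3 (by omega)
      · apply hprim 3 Nat.prime_three (by norm_num)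
        refine dvd_trans ?_ hudvd
        rw [hpow]
        exact dvd_pow_self 3 (by omega)
      · refine dvd_trans (dvd_trans ?_ hudvd) hdvd
        rw [hpow]
        exact pow_dvd_pow 3 hk

/-- Let q, n ≥ 2 be integers. Unless (n = 2 and q + 1 = 2^s·3^t for some s ≥ 0 and t ≤ 1), or (q = 2 and n ∈ {4, 6, 10, 12, 18}), or (q = 3 and n ∈ {4, 6}), or (q, n) = (5, 6), there is a prime p dividing q^n − 1 but no q^i − 1 with 1 ≤ i < n (a primitive prime divisor), such that p > n + 1 or p² divides q^n − 1. -/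
theorem result (q n : ℕ) (hq : 2 ≤ q) (hn : 2 ≤ n)
    (h1 : ¬ (n = 2 ∧ ∃ s t : ℕ, t ≤ 1 ∧ q + 1 = 2 ^ s * 3 ^ t))
    (h2 : ¬ (q = 2 ∧ (n = 4 ∨ n = 6 ∨ n = 10 ∨ n = 12 ∨ n = 18)))
    (h3 : ¬ (q = 3 ∧ (n = 4 ∨ n = 6))) (h4 : ¬ (q = 5 ∧ n = 6)) :
    ∃ p : ℕ, p.Prime ∧ p ∣ q ^ n - 1 ∧ (∀ i : ℕ, 1 ≤ i → i < n → ¬ p ∣ q ^ i - 1) ∧ (n + 1 < p ∨ p ^ 2 ∣ q ^ n - 1) := by
  rcases Nat.lt_or_ge n 3 with hn2 | hn3
  · have : n = 2 := by omega
    subst this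
    exact case_two q hq (fun h => h1 ⟨rfl, h⟩)
  · by_cases hex : (q, n) ∈ excList
    · simp only [excList, List.mem_cons, Prod.mk.injEq, List.mem_nil_iff, or_false] at hex
      rcases hex with ⟨rfl, rfl⟩ | ⟨rfl, rfl⟩ | ⟨rfl, rfl⟩ | ⟨rfl, rfl⟩ | ⟨rfl, rfl⟩ | ⟨rfl, rfl⟩ |
        ⟨rfl, rfl⟩ | ⟨rfl, rfl⟩ | ⟨rfl, rfl⟩ | ⟨rfl, rfl⟩ | ⟨rfl, rfl⟩ | ⟨rfl, rfl⟩ | ⟨rfl, rfl⟩
      · exact absurd ⟨rfl, by norm_num⟩ h2
      · exact absurd ⟨rfl, by norm_num⟩ h2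
      · exact absurd ⟨rfl, by norm_num⟩ h2
      · exact absurd ⟨rfl, by norm_num⟩ h2
      · exact absurd ⟨rfl, by norm_num⟩ h2
      · exact absurd ⟨rfl, by norm_num⟩ h3
      · exact absurd ⟨rfl, by norm_num⟩ h3
      · exact absurd ⟨rfl, rfl⟩ h4
      · refine ⟨7, by norm_num, by norm_num, ?_, Or.inl (by norm_num)⟩
        intro i hi1 hi2
        interval_cases i <;> norm_num
      · refine ⟨17, by norm_num, by norm_num, ?_, Or.inl (by norm_num)⟩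
        intro i hi1 hi2
        interval_cases i <;> norm_num
      · refine ⟨41, by norm_num, by norm_num, ?_, Or.inl (by norm_num)⟩
        intro i hi1 hi2
        interval_cases i <;> norm_num
      · refine ⟨7, by norm_num, by norm_num, ?_, Or.inl (by norm_num)⟩
        intro i hi1 hi2
        interval_cases i <;> norm_num
      · refine ⟨13, by norm_num, by norm_num, ?_, Or.inl (by norm_num)⟩
        intro i hi1 hi2
        interval_cases i <;> norm_num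
    · exact exists_large_of_good hq hn3 (good_main hq hn3 hex)

end Cfsg.Agent.S3430
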