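import Mathlib
import Cfsg.Statements.S3437
import Cfsg.Agent.S2476
import Cfsg.Agent.Lib.Helper12.Frob13Check
import Cfsg.Agent.Lib.Helper12.PSL3SpecMain

set_option autoImplicit false
open Cfsg

namespace Cfsg.Agent.S3437

open Cfsg.Agent.Helper12

/-- the generator of order 8 -/
def gA : GL (Fin 4) (ZMod 13) :=
  ⟨Frob13.A, Frob13.A ^ 7, by rw [← pow_succ', Frob13.A_pow], by rw [← pow_succ, Frob13.A_pow]⟩

/-- the generator of order 6 -/
def gB : GL (Fin 4) (ZMod 13) :=
  ⟨Frob13.B, Frob13.B ^ 5, by rw [← pow_succ', Frob13.B_pow], by rw [← pow_succ, Frob13.B_pow]⟩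

theorem orderOf_A : orderOf Frob13.A = 8 := by
  apply orderOf_eq_of_pow_and_pow_div_prime (by norm_num) Frob13.A_pow
  intro q hq hq8
  have h2 : q = 2 := by
    have h8 : (8 : ℕ) = 2 ^ 3 := by norm_num
    rw [h8] at hq8
    exact (Nat.prime_dvd_prime_iff_eq hq Nat.prime_two).1 (hq.dvd_of_dvd_pow hq8)
  rw [h2]
  exact Frob13.A_pow'

theorem orderOf_B : orderOf Frob13.B = 6 := by
  apply orderOf_eq_of_pow_and_pow_div_prime (by norm_num) Frob13.B_pow
  intro q hq hq6
  have h6 : (6 : ℕ) = 2 * 3 := by norm_num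
  rw [h6] at hq6
  rcases (Nat.Prime.dvd_mul hq).1 hq6 with h | h
  · rw [(Nat.prime_dvd_prime_iff_eq hq Nat.prime_two).1 h]
    exact Frob13.B_pow3
  · rw [(Nat.prime_dvd_prime_iff_eq hq Nat.prime_three).1 h]
    exact Frob13.B_pow2

theorem hgen13 : ∀ s ∈ ({gA, gB} : Set (GL (Fin 4) (ZMod 13))), ∀ i, ∃ j,
    (s : Matrix (Fin 4) (Fin 4) (ZMod 13)) * Frob13.T i = Frob13.T j := by
  rintro s (rfl | rfl) i
  · exact ⟨Frob13.fA i, Frob13.tabA i⟩
  · exact ⟨Frob13.fB i, Frob13.tabB i⟩

theorem hL13 : ∀ j ∈ [1, 2, 3, 4], ∀ r : ℕ, r.Prime → r ∣ 2 * j → r = 2 ∨ r = 3 := by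
  intro j hj r hr hdvd
  have h24 : r ∣ 24 := by
    have : 2 * j ∣ 24 := by
      simp only [List.mem_cons, List.not_mem_nil, or_false] at hj
      rcases hj with rfl | rfl | rfl | rfl <;> norm_num
    exact hdvd.trans this
  have h24' : (24 : ℕ) = 2 ^ 3 * 3 := by norm_num
  rw [h24'] at h24
  rcases (Nat.Prime.dvd_mul hr).1 h24 with h | h
  · left
    exact (Nat.prime_dvd_prime_iff_eq hr Nat.prime_two).1 (hr.dvd_of_dvd_pow h)
  · right
    exact (Nat.prime_dvd_prime_iff_eq hr Nat.prime_three).1 h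

theorem spec_K (m : ℕ) :
    m ∈ Set.range (orderOf : Subgroup.closure ({gA, gB} : Set (GL (Fin 4) (ZMod 13))) → ℕ) ↔
      m ∣ 8 ∨ m ∣ 6 := by
  obtain ⟨hord, -⟩ := FrobSpec.exists_frob_of_table (p := 13) (by norm_num) (by norm_num)
    (by norm_num : 0 < 4) ({gA, gB} : Set (GL (Fin 4) (ZMod 13))) Frob13.T [1, 2, 3, 4]
    ⟨0, Frob13.T_zero⟩ hgen13 Frob13.certT hL13
  constructor
  · rintro ⟨k, rfl⟩
    rcases hord k with h | ⟨j, hj, h⟩
    · right
      exact h.trans (by norm_num)
    · simp only [List.mem_cons, List.not_mem_nil, or_false] at hj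
      rcases hj with rfl | rfl | rfl | rfl
      · left
        exact h.trans (by norm_num)
      · left
        exact h.trans (by norm_num)
      · right
        exact h.trans (by norm_num)
      · left
        exact h.trans (by norm_num)
  · rintro (h | h)
    · have hA : gA ∈ Subgroup.closure ({gA, gB} : Set (GL (Fin 4) (ZMod 13))) :=
        Subgroup.subset_closure (by simp)
      have h8 : orderOf (⟨gA, hA⟩ : Subgroup.closure ({gA, gB} : Set (GL (Fin 4) (ZMod 13)))) = 8 := by
        rw [← Subgroup.orderOf_coe, ← orderOf_units]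
        exact orderOf_A
      rw [← h8] at h
      exact PSL3Spec.exists_orderOf_of_dvd _ h
    · have hB : gB ∈ Subgroup.closure ({gA, gB} : Set (GL (Fin 4) (ZMod 13))) :=
        Subgroup.subset_closure (by simp)
      have h6 : orderOf (⟨gB, hB⟩ : Subgroup.closure ({gA, gB} : Set (GL (Fin 4) (ZMod 13)))) = 6 := by
        rw [← Subgroup.orderOf_coe, ← orderOf_units]
        exact orderOf_B
      rw [← h6] at h
      exact PSL3Spec.exists_orderOf_of_dvd _ h

/-- There is a finite solvable group with exactly the same set of element orders as the simple group PSL(3,3). -/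
theorem result {F : Type*} [Field F] [Fintype F] (hF : Fintype.card F = 3) :
    ∃ (H : Type) (_ : Group H) (_ : Fintype H), Group.IsSolvable H ∧
      Set.range (orderOf : H → ℕ) = Set.range (orderOf : Matrix.ProjectiveSpecialLinearGroup (Fin 3) F → ℕ) := by
  obtain ⟨-, H, hG, hFin, hsolv, hspec⟩ := FrobSpec.exists_frob_of_table (p := 13) (by norm_num)
    (by norm_num) (by norm_num : 0 < 4) ({gA, gB} : Set (GL (Fin 4) (ZMod 13))) Frob13.T
    [1, 2, 3, 4] ⟨0, Frob13.T_zero⟩ hgen13 Frob13.certT hL13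
  refine ⟨H, hG, hFin, hsolv, ?_⟩
  haveI : Fact (Nat.Prime 3) := ⟨Nat.prime_three⟩
  haveI : CharP F 3 := charP_of_card_eq_prime hF
  rw [hspec, Cfsg.Agent.S2476.result (F := F) 3, hF]
  ext m
  rw [Set.mem_union, spec_K, Set.mem_singleton_iff, Set.mem_setOf_eq]
  have e1 : (3 ^ 2 + 3 + 1) / Nat.gcd 3 (3 - 1) = 13 := by norm_num
  have e2 : (3 ^ 2 - 1) / Nat.gcd 3 (3 - 1) = 8 := by norm_num
  have e3 : 3 * (3 - 1) / Nat.gcd 3 (3 - 1) = 6 := by norm_num
  have e4 : 3 - 1 = 2 := by norm_num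
  rw [e1, e2, e3, e4]
  constructor
  · rintro ((h | h) | h)
    · right; left; exact h
    · right; right; right; left; exact h
    · left
      rw [h]
  · rintro (h | h | h | h | ⟨h, -⟩)
    · rcases (Nat.dvd_prime (by norm_num : Nat.Prime 13)).1 h with h1 | h1
      · left; left
        rw [h1]
        exact one_dvd _
      · right
        exact h1
    · left; left; exact h
    · left; left
      exact h.trans (by norm_num)
    · left; right; exact h
    · omega

end Cfsg.Agent.S3437
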