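import Mathlib
import Cfsg.Statements.S3438
import Cfsg.Agent.S2366
import Cfsg.Agent.Lib.Helper12.Frob7Check
import Cfsg.Agent.Lib.Helper12.PSL3SpecMain

set_option autoImplicit false
open Cfsg

namespace Cfsg.Agent.S3438

open Cfsg.Agent.Helper12

/-- the generator of order 3 -/
def gZ : GL (Fin 4) (ZMod 7) :=
  ⟨Frob7.Z, Frob7.Z ^ 2, by rw [← pow_succ', Frob7.Z_pow], by rw [← pow_succ, Frob7.Z_pow]⟩

/-- the generator of order 8 -/
def gG : GL (Fin 4) (ZMod 7) :=
  ⟨Frob7.G, Frob7.G ^ 7, by rw [← pow_succ', Frob7.G_pow], by rw [← pow_succ, Frob7.G_pow]⟩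

theorem orderOf_G : orderOf Frob7.G = 8 := by
  apply orderOf_eq_of_pow_and_pow_div_prime (by norm_num) Frob7.G_pow
  intro q hq hq8
  have h2 : q = 2 := by
    have h8 : (8 : ℕ) = 2 ^ 3 := by norm_num
    rw [h8] at hq8
    exact (Nat.prime_dvd_prime_iff_eq hq Nat.prime_two).1 (hq.dvd_of_dvd_pow hq8)
  rw [h2]
  exact Frob7.G_pow'

theorem orderOf_GGZ : orderOf (Frob7.G * Frob7.G * Frob7.Z) = 12 := by
  apply orderOf_eq_of_pow_and_pow_div_prime (by norm_num) Frob7.GGZ_pow
  intro q hq hq12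
  have h12 : (12 : ℕ) = 2 ^ 2 * 3 := by norm_num
  rw [h12] at hq12
  rcases (Nat.Prime.dvd_mul hq).1 hq12 with h | h
  · rw [(Nat.prime_dvd_prime_iff_eq hq Nat.prime_two).1 (hq.dvd_of_dvd_pow h)]
    exact Frob7.GGZ_pow6
  · rw [(Nat.prime_dvd_prime_iff_eq hq Nat.prime_three).1 h]
    exact Frob7.GGZ_pow4

theorem hgen7 : ∀ s ∈ ({gZ, gG} : Set (GL (Fin 4) (ZMod 7))), ∀ i, ∃ j,
    (s : Matrix (Fin 4) (Fin 4) (ZMod 7)) * Frob7.T i = Frob7.T j := by
  rintro s (rfl | rfl) i
  · exact ⟨Frob7.fZ i, Frob7.tabZ i⟩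
  · exact ⟨Frob7.fG i, Frob7.tabG i⟩

theorem hL7 : ∀ j ∈ [1, 2, 3, 4, 6], ∀ r : ℕ, r.Prime → r ∣ 2 * j → r = 2 ∨ r = 3 := by
  intro j hj r hr hdvd
  have h24 : r ∣ 24 := by
    have : 2 * j ∣ 24 := by
      simp only [List.mem_cons, List.not_mem_nil, or_false] at hj
      rcases hj with rfl | rfl | rfl | rfl | rfl <;> norm_num
    exact hdvd.trans this
  have h24' : (24 : ℕ) = 2 ^ 3 * 3 := by norm_num
  rw [h24'] at h24
  rcases (Nat.Prime.dvd_mul hr).1 h24 with h | h
  · left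
    exact (Nat.prime_dvd_prime_iff_eq hr Nat.prime_two).1 (hr.dvd_of_dvd_pow h)
  · right
    exact (Nat.prime_dvd_prime_iff_eq hr Nat.prime_three).1 h

theorem spec_K (m : ℕ) :
    m ∈ Set.range (orderOf : Subgroup.closure ({gZ, gG} : Set (GL (Fin 4) (ZMod 7))) → ℕ) ↔
      m ∣ 8 ∨ m ∣ 12 := by
  obtain ⟨hord, -⟩ := FrobSpec.exists_frob_of_table (p := 7) (by norm_num) (by norm_num)
    (by norm_num : 0 < 4) ({gZ, gG} : Set (GL (Fin 4) (ZMod 7))) Frob7.T [1, 2, 3, 4, 6]
    ⟨0, Frob7.T_zero⟩ hgen7 Frob7.certT hL7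
  constructor
  · rintro ⟨k, rfl⟩
    rcases hord k with h | ⟨j, hj, h⟩
    · right
      exact h.trans (by norm_num)
    · simp only [List.mem_cons, List.not_mem_nil, or_false] at hj
      rcases hj with rfl | rfl | rfl | rfl | rfl
      · left
        exact h.trans (by norm_num)
      · left
        exact h.trans (by norm_num)
      · right
        exact h.trans (by norm_num)
      · left
        exact h.trans (by norm_num)
      · right
        exact h.trans (by norm_num)
  · have hZ : gZ ∈ Subgroup.closure ({gZ, gG} : Set (GL (Fin 4) (ZMod 7))) :=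
      Subgroup.subset_closure (by simp)
    have hG : gG ∈ Subgroup.closure ({gZ, gG} : Set (GL (Fin 4) (ZMod 7))) :=
      Subgroup.subset_closure (by simp)
    rintro (h | h)
    · have h8 : orderOf (⟨gG, hG⟩ : Subgroup.closure ({gZ, gG} : Set (GL (Fin 4) (ZMod 7)))) = 8 := by
        rw [← Subgroup.orderOf_coe, ← orderOf_units]
        exact orderOf_G
      rw [← h8] at h
      exact PSL3Spec.exists_orderOf_of_dvd _ h
    · have hGGZ : gG * gG * gZ ∈ Subgroup.closure ({gZ, gG} : Set (GL (Fin 4) (ZMod 7))) :=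
        Subgroup.mul_mem _ (Subgroup.mul_mem _ hG hG) hZ
      have h12 : orderOf (⟨gG * gG * gZ, hGGZ⟩ :
          Subgroup.closure ({gZ, gG} : Set (GL (Fin 4) (ZMod 7)))) = 12 := by
        rw [← Subgroup.orderOf_coe, ← orderOf_units]
        exact orderOf_GGZ
      rw [← h12] at h
      exact PSL3Spec.exists_orderOf_of_dvd _ h

/-- There is a finite solvable group with exactly the same set of element orders as the simple group PSU(3,3) (realised over the field with 9 elements). -/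
theorem result {F : Type*} [Field F] [Fintype F] (hF : Fintype.card F = 9) :
    ∃ (H : Type) (_ : Group H) (_ : Fintype H), Group.IsSolvable H ∧ Set.range (orderOf : H → ℕ) = Set.range (orderOf : Cfsg.PSU 3 F 3 → ℕ) := by
  obtain ⟨-, H, hG, hFin, hsolv, hspec⟩ := FrobSpec.exists_frob_of_table (p := 7) (by norm_num)
    (by norm_num) (by norm_num : 0 < 4) ({gZ, gG} : Set (GL (Fin 4) (ZMod 7))) Frob7.T
    [1, 2, 3, 4, 6] ⟨0, Frob7.T_zero⟩ hgen7 Frob7.certT hL7
  refine ⟨H, hG, hFin, hsolv, ?_⟩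
  haveI : Fact (Nat.Prime 3) := ⟨Nat.prime_three⟩
  have hF' : Fintype.card F = 3 ^ 2 := by rw [hF]; norm_num
  haveI : CharP F 3 := charP_of_card_eq_prime_pow hF'
  rw [hspec, Cfsg.Agent.S2366.result (F := F) 3 (by norm_num) 3 hF']
  ext m
  rw [Set.mem_union, spec_K, Set.mem_singleton_iff]
  have e1 : 3 * (3 + 1) / Nat.gcd 3 (3 + 1) = 12 := by norm_num
  have e2 : (3 ^ 2 - 1) / Nat.gcd 3 (3 + 1) = 8 := by norm_num
  have e3 : (3 ^ 2 - 3 + 1) / Nat.gcd 3 (3 + 1) = 7 := by norm_num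
  have e4 : 3 + 1 = 4 := by norm_num
  rw [e1, e2, e3, e4]
  simp only [Set.mem_union, Set.mem_setOf_eq]
  constructor
  · rintro ((h | h) | h)
    · left; right; exact h
    · left; left; right; exact h
    · right
      rw [h]
  · rintro (((h | h) | h) | h)
    · left; left
      exact h.trans (by norm_num)
    · left; right; exact h
    · left; left; exact h
    · rcases (Nat.dvd_prime (by norm_num : Nat.Prime 7)).1 h with h1 | h1
      · left; left
        rw [h1]
        exact one_dvd _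
      · right
        exact h1

end Cfsg.Agent.S3438
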