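import Mathlib
import Cfsg.Statements.S3448
import Cfsg.Agent.Lib.Helper17.A5Spectrum

set_option autoImplicit false
open Cfsg

namespace Cfsg.Agent.S3448

open Cfsg.Agent.Helper17

/-- The set of element orders of the direct product of two copies of the alternating group of degree 5 is {1, 2, 3, 5, 6, 10, 15}. (It is shared by the direct product of two Frobenius groups of orders 50 and 75, so this direct product is not determined by its element orders.) -/
theorem result : Set.range (orderOf : alternatingGroup (Fin 5) × alternatingGroup (Fin 5) → ℕ) = {1, 2, 3, 5, 6, 10, 15} := by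
  ext n
  simp only [Set.mem_range, Set.mem_insert_iff, Set.mem_singleton_iff]
  constructor
  · rintro ⟨⟨a, b⟩, rfl⟩
    rw [Prod.orderOf_mk]
    rcases a5_orderOf a with h | h | h | h <;> rcases a5_orderOf b with h' | h' | h' | h' <;>
      rw [h, h'] <;> decide
  · obtain ⟨g2, h2⟩ := a5_order_two
    obtain ⟨g3, h3⟩ := a5_order_three
    obtain ⟨g5, h5⟩ := a5_order_five
    rintro (rfl | rfl | rfl | rfl | rfl | rfl | rfl)
    · exact ⟨1, orderOf_one⟩
    · exact ⟨(g2, 1), by rw [Prod.orderOf_mk, h2, orderOf_one]; rfl⟩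
    · exact ⟨(g3, 1), by rw [Prod.orderOf_mk, h3, orderOf_one]; rfl⟩
    · exact ⟨(g5, 1), by rw [Prod.orderOf_mk, h5, orderOf_one]; rfl⟩
    · exact ⟨(g2, g3), by rw [Prod.orderOf_mk, h2, h3]; rfl⟩
    · exact ⟨(g2, g5), by rw [Prod.orderOf_mk, h2, h5]; rfl⟩
    · exact ⟨(g3, g5), by rw [Prod.orderOf_mk, h3, h5]; rfl⟩

end Cfsg.Agent.S3448
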