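import Mathlib
import Cfsg.Statements.S3449
import Cfsg.Agent.Lib.Helper17.A5Spectrum

set_option autoImplicit false
open Cfsg

namespace Cfsg.Agent.S3449

open Cfsg.Agent.Helper17

theorem zmod30_spectrum :
    Set.range (orderOf : Multiplicative (ZMod 30) → ℕ) = {d | d ∣ 30} := by
  ext d
  simp only [Set.mem_range, Set.mem_setOf_eq]
  constructor
  · rintro ⟨g, rfl⟩
    have h := orderOf_dvd_natCard g
    simpa using h
  · intro hd
    have hcard : Nat.card (Multiplicative (ZMod 30)) = 30 := by simp
    have hd' : d ∣ Fintype.card (Multiplicative (ZMod 30)) := by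
      rw [← Nat.card_eq_fintype_card, hcard]; exact hd
    have h := IsCyclic.card_orderOf_eq_totient (α := Multiplicative (ZMod 30)) hd'
    have hpos : 0 < Nat.totient d := Nat.totient_pos.2 (Nat.pos_of_dvd_of_pos hd (by norm_num))
    rw [← h] at hpos
    obtain ⟨g, hg⟩ := Finset.card_pos.1 hpos
    exact ⟨g, (Finset.mem_filter.1 hg).2⟩

theorem a5cube_spectrum :
    Set.range (orderOf : alternatingGroup (Fin 5) × alternatingGroup (Fin 5) × alternatingGroup (Fin 5) → ℕ)
      = {d | d ∣ 30} := by
  ext n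
  simp only [Set.mem_range, Set.mem_setOf_eq]
  constructor
  · rintro ⟨⟨a, b, c⟩, rfl⟩
    rw [Prod.orderOf_mk, Prod.orderOf_mk]
    rcases a5_orderOf a with h | h | h | h <;> rcases a5_orderOf b with h' | h' | h' | h' <;>
      rcases a5_orderOf c with h'' | h'' | h'' | h'' <;>
      rw [h, h', h''] <;> decide
  · intro hn
    obtain ⟨g2, h2⟩ := a5_order_two
    obtain ⟨g3, h3⟩ := a5_order_three
    obtain ⟨g5, h5⟩ := a5_order_five
    have hmem : n ∈ Nat.divisors 30 := Nat.mem_divisors.2 ⟨hn, by norm_num⟩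
    have hdiv : Nat.divisors 30 = {1, 2, 3, 5, 6, 10, 15, 30} := by decide
    rw [hdiv] at hmem
    simp only [Finset.mem_insert, Finset.mem_singleton] at hmem
    rcases hmem with rfl | rfl | rfl | rfl | rfl | rfl | rfl | rfl
    · exact ⟨1, orderOf_one⟩
    · exact ⟨(g2, 1, 1), by rw [Prod.orderOf_mk, Prod.orderOf_mk, h2, orderOf_one]; rfl⟩
    · exact ⟨(g3, 1, 1), by rw [Prod.orderOf_mk, Prod.orderOf_mk, h3, orderOf_one]; rfl⟩
    · exact ⟨(g5, 1, 1), by rw [Prod.orderOf_mk, Prod.orderOf_mk, h5, orderOf_one]; rfl⟩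
    · exact ⟨(g2, g3, 1), by rw [Prod.orderOf_mk, Prod.orderOf_mk, h2, h3, orderOf_one]; rfl⟩
    · exact ⟨(g2, g5, 1), by rw [Prod.orderOf_mk, Prod.orderOf_mk, h2, h5, orderOf_one]; rfl⟩
    · exact ⟨(g3, g5, 1), by rw [Prod.orderOf_mk, Prod.orderOf_mk, h3, h5, orderOf_one]; rfl⟩
    · exact ⟨(g2, g3, g5), by rw [Prod.orderOf_mk, Prod.orderOf_mk, h2, h3, h5]; rfl⟩

/-- The direct product of three copies of the alternating group of degree 5 has exactly the same set of element orders as the cyclic group of order 30, namely the divisors of 30; in particular a direct power of a non-abelian simple group need not be determined by its element orders. -/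
theorem result : Set.range (orderOf : alternatingGroup (Fin 5) × alternatingGroup (Fin 5) × alternatingGroup (Fin 5) → ℕ) =
      Set.range (orderOf : Multiplicative (ZMod 30) → ℕ) := by
  rw [a5cube_spectrum, zmod30_spectrum]

end Cfsg.Agent.S3449
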