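import Mathlib
import Cfsg.Statements.S3485
import Cfsg.Agent.Lib.Helper29.J2Spec

set_option autoImplicit false
open Cfsg

namespace Cfsg.Agent.S3485

/-- The symmetric group of degree 8 and the Hall–Janko sporadic group J₂ have exactly the same set of element orders (namely 1, 2, 3, 4, 5, 6, 7, 8, 10, 12, 15); in particular J₂ is not determined by its element orders. -/
theorem result : Set.range (orderOf : Equiv.Perm (Fin 8) → ℕ) = Set.range (orderOf : Cfsg.Spor.J2 → ℕ) := by
  rw [Cfsg.Agent.Helper29.J2G.range_orderOf_perm8, Cfsg.Agent.Helper29.J2G.range_orderOf_J2]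

end Cfsg.Agent.S3485
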