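import Cfsg.Statements.S3493
import Cfsg.Agent.Lib.Helper13.S93Main

set_option autoImplicit false
open Cfsg

namespace Cfsg.Agent.S3493

open MulAction Cfsg.Agent.S0721 Cfsg.Agent.Helper13.S93

/-- An extremely primitive permutation group is of affine type or almost simple. Let a finite group G act faithfully and primitively on a finite set Ω with at least two points, in such a way that every point stabilizer acts primitively on each of its own orbits in Ω (an orbit of size one counts as primitive). Then either G has a non-trivial abelian normal subgroup whose elements other than the identity fix no point (affine type), or G has a non-abelian simple normal subgroup with trivial centralizer (almost simple). -/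
theorem result {G : Type*} [Group G] [Finite G] {Ω : Type*} [Fintype Ω] [MulAction G Ω] [FaithfulSMul G Ω] (hΩ : 2 ≤ Fintype.card Ω) (hprim : MulAction.IsPreprimitive G Ω) (hep : ∀ (α : Ω) (ω : Ω), MulAction.IsPreprimitive (MulAction.stabilizer G α) (MulAction.orbit (MulAction.stabilizer G α) ω)) :
    (∃ N : Subgroup G, N.Normal ∧ N ≠ ⊥ ∧ IsMulCommutative N ∧ ∀ ω : Ω, MulAction.stabilizer N ω = ⊥) ∨ (∃ T : Subgroup G, T.Normal ∧ IsSimpleGroup T ∧ ¬ IsMulCommutative T ∧ Subgroup.centralizer (T : Set G) = ⊥) := by
  have hne : Nonempty Ω := by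
    rw [← Fintype.card_pos_iff]; omega
  obtain ⟨α⟩ := hne
  have hnb : NoBetween G α := noBetween_of_hep α (hep α)
  obtain ⟨N, hN⟩ := exists_minNormal hΩ hprim
  by_cases hc : ∀ a ∈ N, ∀ b ∈ N, a * b = b * a
  · left
    exact ⟨N, affine_concl hprim N hN hc⟩
  · push_neg at hc
    obtain ⟨T, hT⟩ := exists_isMinIn N hN.2.1
    have h : BCtx α N T := ⟨hprim, hnb, hN.1, hN.2.2, hc, hT⟩
    by_cases hTN : T = N
    · subst hTN
      by_cases hC : Subgroup.centralizer (T : Set G) = ⊥
      · right
        refine ⟨T, hN.1, h.simpleT, ?_, hC⟩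
        intro hcomm
        obtain ⟨a, ha, b, hb, hab⟩ := hc
        apply hab
        have := hcomm.is_comm.comm (⟨a, ha⟩ : ↥T) ⟨b, hb⟩
        exact congrArg Subtype.val this
      · exfalso
        have hreg := caseA_regular hprim T hN.1 hN.2.1 hC α
        obtain ⟨β, hβ⟩ := exists_beta T α hreg
        exact zstar (caseA_zhyp h hC hreg β hβ)
    · exfalso
      by_cases hproj : ∀ t ∈ T, Proj α N T t
      · by_cases hpart : ∃ T', IsPartner α T T'
        · obtain ⟨T₂, hp⟩ := hpart
          by_cases hN2 : T ⊔ T₂ = N
          · have hreg := b2_swap_regular h hproj T₂ hp hN2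
            obtain ⟨β, hβ⟩ := exists_beta T α hreg
            exact zstar (swap_zhyp h hproj T₂ hp hN2 β hβ)
          · exact b2_partner_far h hTN hproj T₂ hp hN2
        · push_neg at hpart
          exact b2_no_partner h hTN hproj hpart
      · push_neg at hproj
        obtain ⟨t₀, ht₀, hnp⟩ := hproj
        exact b1_contra h hTN t₀ ht₀ hnp


end Cfsg.Agent.S3493
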