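import Mathlib
import Cfsg.Statements.S3496
import Cfsg.Agent.S3495
import Cfsg.Agent.Lib.Helper3.PrimSolv
import Cfsg.Agent.Lib.Helper18.SolvEP6

set_option autoImplicit false
set_option linter.style.haveILetI false
open Cfsg

namespace Cfsg.Agent.S3496

open Cfsg.Agent.Helper18.SolvEP

/-- a nontrivial finite group has a minimal normal subgroup -/
theorem exists_min_normal {G : Type*} [Group G] [Finite G] [Nontrivial G] :
    ∃ N : Subgroup G, N.Normal ∧ N ≠ ⊥ ∧
      ∀ K : Subgroup G, K.Normal → K ≤ N → K = ⊥ ∨ K = N := by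
  have htop : (⊤ : Subgroup G).Normal ∧ (⊤ : Subgroup G) ≠ ⊥ := ⟨inferInstance, top_ne_bot⟩
  obtain ⟨N, -, hN⟩ := Finite.exists_le_minimal (p := fun K : Subgroup G => K.Normal ∧ K ≠ ⊥) htop
  refine ⟨N, hN.prop.1, hN.prop.2, ?_⟩
  intro K hKn hKN
  by_cases hK : K = ⊥
  · exact Or.inl hK
  · exact Or.inr (le_antisymm hKN (hN.le_of_le ⟨hKn, hK⟩ hKN))

/-- The soluble extremely primitive groups. Let a finite solvable group G act faithfully and primitively on a finite set Ω with p ^ d points (p prime), with non-trivial point stabilizers each acting primitively on every one of its orbits. Then there is a prime q such that every orbit of a point stabilizer G_α other than {α} has exactly q points, q divides p ^ d − 1 but no p ^ i − 1 with 0 < i < d, and G_α has a normal subgroup T of order q with G_α generated by T and one further element and the order of G_α dividing q·d (so G_α is cyclic of order q, or an extension of T by a cyclic group of order dividing d). -/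
theorem result {G : Type*} [Group G] [Finite G] {Ω : Type*} [Fintype Ω] [MulAction G Ω] [FaithfulSMul G Ω] [Group.IsSolvable G] (p d : ℕ) (hp : p.Prime) (hcard : Fintype.card Ω = p ^ d)
    (hprim : MulAction.IsPreprimitive G Ω) (hH : ∀ α : Ω, MulAction.stabilizer G α ≠ ⊥) (hep : ∀ (α : Ω) (ω : Ω), MulAction.IsPreprimitive (MulAction.stabilizer G α) (MulAction.orbit (MulAction.stabilizer G α) ω)) (α : Ω) :
    ∃ q : ℕ, q.Prime ∧ (∀ ω : Ω, ω ≠ α → Nat.card (MulAction.orbit (MulAction.stabilizer G α) ω) = q) ∧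
      q ∣ p ^ d - 1 ∧ (∀ i : ℕ, 0 < i → i < d → ¬ q ∣ p ^ i - 1) ∧
      ∃ T : Subgroup G, T ≤ MulAction.stabilizer G α ∧ MulAction.stabilizer G α ≤ Subgroup.normalizer (T : Set G) ∧ Nat.card T = q ∧
        (∃ h : G, MulAction.stabilizer G α = T ⊔ Subgroup.zpowers h) ∧ Nat.card (MulAction.stabilizer G α) ∣ q * d := by
  classical
  haveI : Fact p.Prime := ⟨hp⟩
  haveI hHnt : Nontrivial (MulAction.stabilizer G α) :=
    (Subgroup.nontrivial_iff_ne_bot _).mpr (hH α)
  haveI : Nontrivial G := by
    obtain ⟨a, b, hab⟩ := hHnt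
    exact ⟨⟨a, b, fun h => hab (Subtype.ext h)⟩⟩
  -- the regular normal subgroup
  obtain ⟨N, hNn, hNbot, hNmin⟩ := exists_min_normal (G := G)
  haveI := hNn
  have hNc := Helper3.commute_of_minimal_normal N hNbot hNmin
  have htr := Helper3.isPretransitive_of_normal_of_faithful hprim N hNbot
  have hreg := Helper3.stabilizer_eq_bot_of_commute N hNc htr
  have hcardΩN := Helper3.card_eq_card_of_regular N htr hreg α
  obtain ⟨p', d', hp', hd', hNcard, hNpow⟩ :=
    Helper3.card_eq_prime_pow_of_minimal_normal N hNbot hNmin hNc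
  have hpd : p' ^ d' = p ^ d := by
    rw [← hNcard, ← hcardΩN, Nat.card_eq_fintype_card, hcard]
  have hpp : p' = p := by
    have h1 : p' ∣ p ^ d := by
      rw [← hpd]
      exact dvd_pow_self p' hd'.ne'
    exact (Nat.prime_dvd_prime_iff_eq hp' hp).mp (hp'.dvd_of_dvd_pow h1)
  subst hpp
  have hdd : d' = d := Nat.pow_right_injective hp.two_le hpd
  subst hdd
  -- a minimal normal subgroup of the stabiliser
  obtain ⟨M', hM'n, hM'bot, hM'min⟩ := exists_min_normal (G := MulAction.stabilizer G α)
  haveI := hM'n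
  have hM'c := Helper3.commute_of_minimal_normal M' hM'bot hM'min
  obtain ⟨q, e, hq, he, hM'card, hM'pow⟩ :=
    Helper3.card_eq_prime_pow_of_minimal_normal M' hM'bot hM'min hM'c
  set M : Subgroup G := M'.map (MulAction.stabilizer G α).subtype with hMdef
  have hMbot : M ≠ ⊥ := by
    intro h
    rw [hMdef, Subgroup.map_eq_bot_iff_of_injective _ (Subgroup.subtype_injective _)] at h
    exact hM'bot h
  have hMle : M ≤ MulAction.stabilizer G α := Subgroup.map_subtype_le _
  have hMn : MulAction.stabilizer G α ≤ Subgroup.normalizer (M : Set G) := by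
    intro h hh
    rw [Subgroup.mem_normalizer_iff]
    intro g
    constructor
    · rintro ⟨m, hm, rfl⟩
      exact ⟨⟨h, hh⟩ * m * ⟨h, hh⟩⁻¹, hM'n.conj_mem m hm ⟨h, hh⟩, by simp⟩
    · rintro ⟨m, hm, hmeq⟩
      refine ⟨⟨h, hh⟩⁻¹ * m * ⟨h, hh⟩, ?_, ?_⟩
      · have := hM'n.conj_mem m hm ⟨h, hh⟩⁻¹
        rwa [inv_inv] at this
      · have h1 : ((MulAction.stabilizer G α).subtype m : G) = h * g * h⁻¹ := hmeq
        simp only [map_mul, map_inv, Subgroup.coe_subtype] at h1 ⊢
        rw [h1]
        group
  obtain ⟨horb, hirr⟩ := Cfsg.Agent.S3495.result hprim hH hep N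
    ⟨⟨fun a b => Subtype.ext (hNc a a.2 b b.2)⟩⟩ p' hp hNpow htr hreg α M hMbot hMle hMn
  letI := commGroupOfComm N hNc
  have hyp := hyp_of_data N hNc htr hreg α M' hM'c horb hirr
  haveI : Nontrivial (Additive N) := hyp.nontrivial hM'bot
  have hcardA : Nat.card (Additive N) = p' ^ d' := hNcard
  have hexp : ∀ x : Additive N, p' • x = 0 := by
    intro x
    have h1 : (x.toMul : N) ^ p' = 1 := by
      apply Subtype.ext
      rw [Subgroup.coe_pow]
      exact hNpow _ (x.toMul : N).2
    exact h1
  -- the order of `M'` is the prime `q`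
  have hM'q : Nat.card M' = q := by
    haveI := hyp.isCyclic
    obtain ⟨g, hg⟩ := IsCyclic.exists_generator (α := M')
    have h1 : orderOf g = Nat.card M' := orderOf_eq_card_of_forall_mem_zpowers hg
    have h2 : g ^ q = 1 := by
      apply Subtype.ext
      rw [Subgroup.coe_pow]
      exact hM'pow g g.2
    have h3 : Nat.card M' ∣ q := by
      rw [← h1]
      exact orderOf_dvd_of_pow_eq_one h2
    rcases (Nat.dvd_prime hq).mp h3 with h | h
    · exact absurd (Subgroup.card_eq_one.mp h) hM'bot
    · exact h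
  have hMq : Nat.card M = q := by
    rw [hMdef, Subgroup.card_map_of_injective (Subgroup.subtype_injective _), hM'q]
  refine ⟨q, hq, ?_, ?_, ?_, M, hMle, hMn, hMq, ?_, ?_⟩
  · -- the suborbits
    intro ω hω
    rw [← horb ω]
    have hst : MulAction.stabilizer M ω = ⊥ := by
      rw [Subgroup.eq_bot_iff_forall]
      rintro ⟨m, hmM⟩ hm
      obtain ⟨m', hm', rfl⟩ := hmM
      have hmω : (m' : G) • ω = ω := MulAction.mem_stabilizer_iff.mp hm
      obtain ⟨n, hn, rfl⟩ := exists_mem_smul_eq N htr α ω
      have hn1 : n ≠ 1 := by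
        rintro rfl
        exact hω (one_smul G α)
      have h2 : ((m' : G) * n * (m' : G)⁻¹) • α = n • α := by
        rw [conj_smul_of_mem_stabilizer α m'.2, hmω]
      have h3 := eq_of_smul_eq N hreg α (hNn.conj_mem n hn m') hn h2
      have h4 := conjRep_apply N (MulAction.stabilizer G α) m' (Additive.ofMul (⟨n, hn⟩ : N))
      have h5 : conjRep N (MulAction.stabilizer G α) m' (Additive.ofMul (⟨n, hn⟩ : N)) =
          Additive.ofMul (⟨n, hn⟩ : N) := by
        have : ((conjRep N (MulAction.stabilizer G α) m'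
            (Additive.ofMul (⟨n, hn⟩ : N))).toMul : N) = ⟨n, hn⟩ := by
          apply Subtype.ext
          rw [h4]
          exact h3
        exact this
      have hv : Additive.ofMul (⟨n, hn⟩ : N) ≠ 0 := by
        intro h0
        apply hn1
        have : (⟨n, hn⟩ : N) = 1 := h0
        exact congrArg Subtype.val this
      have h6 := hyp.eq_one_of_fixes hm' hv h5
      subst h6
      apply Subtype.ext
      simp
    rw [Nat.card_congr (MulAction.orbitEquivQuotientStabilizer M ω), hst,
      Nat.card_congr (QuotientGroup.quotientBot (G := M)).toEquiv, hMq]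
  · rw [← hM'q]
    exact hyp.card_dvd hcardA
  · intro i hi0 hid
    rw [← hM'q]
    exact hyp.not_dvd hcardA hexp i hi0 hid
  · obtain ⟨⟨h, hgen⟩, -⟩ := hyp.generation hcardA hexp
    refine ⟨(h : G), ?_⟩
    have := congrArg (Subgroup.map (MulAction.stabilizer G α).subtype) hgen
    rw [Subgroup.map_sup, MonoidHom.map_zpowers, ← MonoidHom.range_eq_map,
      Subgroup.range_subtype] at this
    exact this.symm
  · obtain ⟨-, hdvd⟩ := hyp.generation hcardA hexp
    rw [hM'q] at hdvd
    exact hdvd

end Cfsg.Agent.S3496
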