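import Mathlib
import Cfsg.Statements.S3498

set_option autoImplicit false
open Cfsg

namespace Cfsg.Agent.S3498

open Subgroup
open scoped Pointwise

/-- a nonabelian simple finite group is not a `p`-group -/
theorem not_isPGroup_of_simple {T : Type*} [Group T] [Finite T] [IsSimpleGroup T]
    (hTc : ¬ IsMulCommutative T) (p : ℕ) [Fact p.Prime] : ¬ IsPGroup p T := by
  intro hp
  haveI : Nontrivial T := IsSimpleGroup.toNontrivial
  have hz : Nontrivial (Subgroup.center T) := hp.center_nontrivial
  have hne : Subgroup.center T ≠ ⊥ := (Subgroup.nontrivial_iff_ne_bot _).1 hz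
  have htop : Subgroup.center T = ⊤ :=
    ((inferInstance : (Subgroup.center T).Normal).eq_bot_or_eq_top).resolve_left hne
  apply hTc
  rw [isMulCommutative_iff]
  intro a b
  have hb : b ∈ Subgroup.center T := by rw [htop]; exact Subgroup.mem_top b
  exact (Subgroup.mem_center_iff.1 hb) a

/-- In an almost simple group every nontrivial normal subgroup contains the socle. -/
theorem le_of_normal_ne_bot {G : Type*} [Group G] (T : Subgroup G) [T.Normal] (hT : IsSimpleGroup T)
    (hC : Subgroup.centralizer (T : Set G) = ⊥) (N : Subgroup G) [N.Normal] (hN : N ≠ ⊥) : T ≤ N := by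
  have hnorm : (N.subgroupOf T).Normal := inferInstance
  rcases hnorm.eq_bot_or_eq_top with h | h
  · exfalso
    apply hN
    rw [Subgroup.subgroupOf_eq_bot] at h
    rw [eq_bot_iff, ← hC]
    intro n hn
    rw [Subgroup.mem_centralizer_iff]
    intro t ht
    have hcomm : t * n * t⁻¹ * n⁻¹ ∈ N ⊓ T := by
      refine ⟨?_, ?_⟩
      · exact N.mul_mem (Subgroup.Normal.conj_mem inferInstance n hn t) (N.inv_mem hn)
      · have : n * t⁻¹ * n⁻¹ ∈ T := Subgroup.Normal.conj_mem inferInstance t⁻¹ (T.inv_mem ht) n
        have h2 : t * (n * t⁻¹ * n⁻¹) ∈ T := T.mul_mem ht this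
        simpa [mul_assoc] using h2
    rw [h.eq_bot, Subgroup.mem_bot] at hcomm
    have : t * n = n * t := by
      have h3 := congrArg (fun x => x * n * t) hcomm
      simpa [mul_assoc] using h3
    exact this
  · rw [Subgroup.subgroupOf_eq_top] at h
    exact h

/-- no nontrivial normal `q`-subgroup in an almost simple group -/
theorem no_normal_pgroup {G : Type*} [Group G] [Finite G] (T : Subgroup G) [T.Normal] (hT : IsSimpleGroup T)
    (hTc : ¬ IsMulCommutative T) (hC : Subgroup.centralizer (T : Set G) = ⊥) (N : Subgroup G) [N.Normal]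
    (q : ℕ) [Fact q.Prime] (hq : IsPGroup q N) : N = ⊥ := by
  by_contra hN
  have hle := le_of_normal_ne_bot T hT hC N hN
  exact not_isPGroup_of_simple hTc q (hq.to_le hle)

/-- A maximal subgroup of a finite almost simple group does not have prime order. Here G is almost simple in the sense that it has a non-abelian simple normal subgroup T with trivial centralizer. -/
theorem result {G : Type*} [Group G] [Finite G] (T : Subgroup G) [T.Normal] (hT : IsSimpleGroup T) (hTc : ¬ IsMulCommutative T)
    (hC : Subgroup.centralizer (T : Set G) = ⊥) (H : Subgroup G) (hmax : IsCoatom H) : ¬ (Nat.card H).Prime := by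
  intro hprime
  set p := Nat.card H with hp_def
  haveI : Fact p.Prime := ⟨hprime⟩
  have hHp : IsPGroup p H := IsPGroup.of_card (n := 1) (by rw [pow_one])
  -- Step 1: H is a Sylow p-subgroup
  obtain ⟨P, hHP⟩ := hHp.exists_le_sylow
  have hPtop : (P : Subgroup G) ≠ ⊤ := by
    intro htop
    have hG : IsPGroup p G := by
      have := P.2
      rw [htop] at this
      exact fun g => by
        obtain ⟨k, hk⟩ := this ⟨g, Subgroup.mem_top g⟩
        exact ⟨k, by simpa using congrArg Subtype.val hk⟩
    exact not_isPGroup_of_simple hTc p (hG.to_subgroup T)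
  have hHP' : H = (P : Subgroup G) := by
    by_contra hne
    exact hPtop (hmax.2 _ (lt_of_le_of_ne hHP hne))
  have hPcard : Nat.card (P : Subgroup G) = p := by rw [← hHP']
  have hmax' : IsCoatom (P : Subgroup G) := hHP' ▸ hmax
  have hPne : (P : Subgroup G) ≠ ⊥ := by
    intro h
    rw [h, Subgroup.card_bot] at hPcard
    exact hprime.one_lt.ne hPcard
  -- Step 2: N_G(P) = P
  have hN : Subgroup.normalizer ((P : Subgroup G) : Set G) = (P : Subgroup G) := by
    by_contra hne
    have hlt : (P : Subgroup G) < Subgroup.normalizer ((P : Subgroup G) : Set G) :=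
      lt_of_le_of_ne Subgroup.le_normalizer (Ne.symm hne)
    have htop := hmax'.2 _ hlt
    haveI : (P : Subgroup G).Normal := Subgroup.normalizer_eq_top_iff.1 htop
    exact hPne (no_normal_pgroup T hT hTc hC (P : Subgroup G) p P.2)
  -- Step 3: P is commutative, so N(P) ≤ C(P)
  haveI : IsCyclic (P : Subgroup G) := isCyclic_of_prime_card hPcard
  have hPC : Subgroup.normalizer ((P : Subgroup G) : Set G) ≤ Subgroup.centralizer ((P : Subgroup G) : Set G) := by
    rw [hN]
    intro x hx
    rw [Subgroup.mem_centralizer_iff]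
    intro y hy
    have := IsCyclic.commGroup.mul_comm (⟨y, hy⟩ : (P : Subgroup G)) ⟨x, hx⟩
    exact congrArg Subtype.val this
  -- Step 4: Burnside
  have hcompl := MonoidHom.ker_transferSylow_isComplement' P hPC
  have hKp := MonoidHom.not_dvd_card_ker_transferSylow P hPC
  set K := (MonoidHom.transferSylow P hPC).ker with hK_def
  haveI hKn : K.Normal := MonoidHom.normal_ker _
  have hKne : K ≠ ⊥ := by
    intro hbot
    rw [hbot] at hcompl
    exact hPtop (Subgroup.isComplement'_bot_left.1 hcompl)
  have hKcard : Nat.card K ≠ 1 := by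
    intro h1
    exact hKne (Subgroup.card_eq_one.1 h1)
  obtain ⟨r, hr, hrK⟩ := Nat.exists_prime_and_dvd hKcard
  haveI : Fact r.Prime := ⟨hr⟩
  have hrp : r ≠ p := by
    rintro rfl
    exact hKp hrK
  -- Sylow r-subgroup of K
  obtain ⟨R⟩ : Nonempty (Sylow r K) := inferInstance
  set R' : Subgroup G := (R : Subgroup K).map K.subtype with hR'
  have hR'p : IsPGroup r R' := R.2.map K.subtype
  have hR'ne : R' ≠ ⊥ := by
    intro hbot
    have hRbot : (R : Subgroup K) = ⊥ := by
      rw [hR', Subgroup.map_eq_bot_iff_of_injective _ K.subtype_injective] at hbot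
      exact hbot
    have hdvd : r ∣ Nat.card (R : Subgroup K) := by
      rw [Sylow.card_eq_multiplicity]
      exact dvd_pow_self r ((Nat.Prime.factorization_pos_of_dvd hr Nat.card_pos.ne' hrK).ne')
    rw [hRbot, Subgroup.card_bot] at hdvd
    exact hr.one_lt.ne' (Nat.dvd_one.1 hdvd)
  set M := Subgroup.normalizer (R' : Set G) with hM
  have hfrat : M ⊔ K = ⊤ := Sylow.normalizer_sup_eq_top R
  -- M ≠ ⊤
  have hMtop : M ≠ ⊤ := by
    intro htop
    haveI : R'.Normal := Subgroup.normalizer_eq_top_iff.1 htop
    exact hR'ne (no_normal_pgroup T hT hTc hC R' r hR'p)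
  -- p divides |M|
  have hpM : p ∣ Nat.card M := by
    have h1 : K.relIndex (M ⊔ K) = K.relIndex M := Subgroup.relIndex_sup_right M K
    rw [hfrat, Subgroup.relIndex_top_right] at h1
    have h2 : K.index = p := by
      rw [hcompl.symm.index_eq_card, hPcard]
    rw [h2] at h1
    rw [h1]
    exact Subgroup.relIndex_dvd_card _ _
  -- an element of order p in M
  obtain ⟨x, hx⟩ := exists_prime_orderOf_dvd_card' (G := M) p hpM
  have hxp : IsPGroup p (Subgroup.zpowers (x : G)) := by
    apply IsPGroup.of_card (n := 1)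
    rw [Nat.card_zpowers, pow_one, Subgroup.orderOf_coe, hx]
  obtain ⟨Q, hQ⟩ := hxp.exists_le_sylow
  have hQcard : Nat.card (Q : Subgroup G) = p := by
    rw [Sylow.card_eq_multiplicity, ← Sylow.card_eq_multiplicity P, hPcard]
  have hQeq : Subgroup.zpowers (x : G) = (Q : Subgroup G) := by
    apply Subgroup.eq_of_le_of_card_ge hQ
    rw [hQcard, Nat.card_zpowers, Subgroup.orderOf_coe, hx]
  have hQM : (Q : Subgroup G) ≤ M := by
    rw [← hQeq, Subgroup.zpowers_le]
    exact x.2
  -- Q is conjugate to P
  obtain ⟨g, hg⟩ := MulAction.exists_smul_eq G P Q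
  have hQ' : (Q : Subgroup G) = MulAut.conj g • (P : Subgroup G) := by
    rw [← hg]; rfl
  -- P ≤ g⁻¹ • M ≠ ⊤
  have hPM : (P : Subgroup G) ≤ (MulAut.conj g)⁻¹ • M := by
    rw [← Subgroup.pointwise_smul_subset_iff, ← hQ']
    exact hQM
  have hM'top : (MulAut.conj g)⁻¹ • M ≠ ⊤ := by
    intro htop
    apply hMtop
    have := congrArg (fun S => MulAut.conj g • S) htop
    simp only [smul_inv_smul] at this
    rw [this]
    ext y
    simp only [Subgroup.mem_top, iff_true]
    rw [Subgroup.mem_pointwise_smul_iff_inv_smul_mem]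
    exact Subgroup.mem_top _
  have hPM' : (P : Subgroup G) = (MulAut.conj g)⁻¹ • M := by
    by_contra hne
    exact hM'top (hmax'.2 _ (lt_of_le_of_ne hPM hne))
  have hMcard : Nat.card M = p := by
    rw [← hPcard, hPM']
    exact Nat.card_congr (Subgroup.equivSMul (MulAut.conj g)⁻¹ M).toEquiv
  -- R' ≤ M, contradiction
  have hR'M : R' ≤ M := Subgroup.le_normalizer
  have hdvd : Nat.card R' ∣ p := hMcard ▸ Subgroup.card_dvd_of_le hR'M
  obtain ⟨k, hk⟩ := hR'p.exists_card_eq
  rcases (Nat.dvd_prime hprime).1 hdvd with h1 | h1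
  · exact hR'ne (Subgroup.card_eq_one.1 h1)
  · rw [hk] at h1
    have : r ∣ p := by
      rcases Nat.eq_zero_or_pos k with h0 | h0
      · rw [h0, pow_zero] at h1
        exact absurd h1.symm hprime.one_lt.ne'
      · rw [← h1]; exact dvd_pow_self r h0.ne'
    exact hrp ((Nat.prime_dvd_prime_iff_eq hr hprime).1 this)

end Cfsg.Agent.S3498
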