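import Mathlib
import Cfsg.Statements.S3504

set_option autoImplicit false
open Cfsg

namespace Cfsg.Agent.S3504

theorem support_eq_univ_of_fpf {n : ℕ} (g : Equiv.Perm (Fin n)) (h : ∀ i, g i ≠ i) :
    g.support = Finset.univ := by
  ext i
  simp [Equiv.Perm.mem_support, h i]

theorem exists_fpf {n q : ℕ} (hq : q.Prime) (hqn : q ∣ n) (hn : 0 < n) :
    ∃ g : Equiv.Perm (Fin n), orderOf g = q ∧ ∀ i, g i ≠ i := by
  classical
  have hsum : (Multiset.replicate (n / q) q).sum = n := by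
    rw [Multiset.sum_replicate, smul_eq_mul, Nat.div_mul_cancel hqn]
  obtain ⟨g, hg⟩ := (Equiv.Perm.exists_with_cycleType_iff (α := Fin n)
      (m := Multiset.replicate (n / q) q)).2 ⟨by rw [hsum, Fintype.card_fin], fun a ha => by
        rw [Multiset.eq_of_mem_replicate ha]; exact hq.two_le⟩
  have hpos : 0 < n / q := Nat.div_pos (Nat.le_of_dvd hn hqn) hq.pos
  refine ⟨g, ?_, ?_⟩
  · rw [← Equiv.Perm.lcm_cycleType, hg]
    apply Nat.dvd_antisymm
    · rw [Multiset.lcm_dvd]
      intro b hb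
      rw [Multiset.eq_of_mem_replicate hb]
    · apply Multiset.dvd_lcm
      rw [Multiset.mem_replicate]
      exact ⟨hpos.ne', rfl⟩
  · intro i
    have h1 : g.support.card = Fintype.card (Fin n) := by
      rw [← Equiv.Perm.sum_cycleType, hg, hsum, Fintype.card_fin]
    have h2 : g.support = Finset.univ := (Finset.card_eq_iff_eq_univ _).1 h1
    have : i ∈ g.support := by rw [h2]; exact Finset.mem_univ i
    exact Equiv.Perm.mem_support.1 this

theorem cycleType_of_fpf {n : ℕ} (g : Equiv.Perm (Fin n)) (hg : (orderOf g).Prime)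
    (h : ∀ i, g i ≠ i) :
    orderOf g ∣ n ∧ g.cycleType = Multiset.replicate (n / orderOf g) (orderOf g) := by
  classical
  obtain ⟨k, hk⟩ := Equiv.Perm.cycleType_prime_order hg
  have hsum : (k + 1) * orderOf g = n := by
    have := Equiv.Perm.sum_cycleType g
    rw [hk, Multiset.sum_replicate, smul_eq_mul, support_eq_univ_of_fpf g h,
      Finset.card_univ, Fintype.card_fin] at this
    exact this
  refine ⟨Dvd.intro_left _ hsum, ?_⟩
  rw [hk, Nat.div_eq_of_eq_mul_left hg.pos hsum.symm]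

/-- For n ≥ 5, the fixed-point-free permutations of prime order in the symmetric group of degree n form a single conjugacy class if and only if n is a prime power. -/
theorem result (n : ℕ) (hn : 5 ≤ n) :
    Nat.card {c : ConjClasses (Equiv.Perm (Fin n)) // ∃ g : Equiv.Perm (Fin n), ConjClasses.mk g = c ∧ (orderOf g).Prime ∧ ∀ i : Fin n, g i ≠ i} = 1 ↔ IsPrimePow n := by
  classical
  have hn0 : 0 < n := by omega
  rw [Nat.card_eq_one_iff_unique]
  constructor
  · rintro ⟨hsub, -⟩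
    obtain ⟨q, hq, hqn⟩ := Nat.exists_prime_and_dvd (show n ≠ 1 by omega)
    by_contra hnpp
    have hex : ∃ r, r.Prime ∧ r ∣ n ∧ r ≠ q := by
      by_contra hcon
      push Not at hcon
      have := Nat.eq_prime_pow_of_unique_prime_dvd (n := n) (p := q) (by omega)
        (fun {d} hd hdn => hcon d hd hdn)
      apply hnpp
      rw [isPrimePow_nat_iff]
      refine ⟨q, n.primeFactorsList.length, hq, ?_, this.symm⟩
      rcases Nat.eq_zero_or_pos n.primeFactorsList.length with h0 | h0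
      · rw [h0, pow_zero] at this; omega
      · exact h0
    obtain ⟨r, hr, hrn, hrq⟩ := hex
    obtain ⟨g₁, ho₁, hf₁⟩ := exists_fpf hq hqn hn0
    obtain ⟨g₂, ho₂, hf₂⟩ := exists_fpf hr hrn hn0
    have heq := @Subsingleton.elim _ hsub
      ⟨ConjClasses.mk g₁, g₁, rfl, by rw [ho₁]; exact hq, hf₁⟩
      ⟨ConjClasses.mk g₂, g₂, rfl, by rw [ho₂]; exact hr, hf₂⟩
    have h1 : ConjClasses.mk g₁ = ConjClasses.mk g₂ := congrArg Subtype.val heq
    rw [ConjClasses.mk_eq_mk_iff_isConj, Equiv.Perm.isConj_iff_cycleType_eq] at h1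
    apply hrq
    rw [← ho₁, ← ho₂, ← Equiv.Perm.lcm_cycleType, ← Equiv.Perm.lcm_cycleType, h1]
  · intro hpp
    rw [isPrimePow_nat_iff] at hpp
    obtain ⟨q, k, hq, hk, hqk⟩ := hpp
    have hqn : q ∣ n := by rw [← hqk]; exact dvd_pow_self q hk.ne'
    constructor
    · constructor
      rintro ⟨c₁, g₁, rfl, ho₁, hf₁⟩ ⟨c₂, g₂, rfl, ho₂, hf₂⟩
      apply Subtype.ext
      show ConjClasses.mk g₁ = ConjClasses.mk g₂
      rw [ConjClasses.mk_eq_mk_iff_isConj, Equiv.Perm.isConj_iff_cycleType_eq]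
      obtain ⟨hd₁, hc₁⟩ := cycleType_of_fpf g₁ ho₁ hf₁
      obtain ⟨hd₂, hc₂⟩ := cycleType_of_fpf g₂ ho₂ hf₂
      have e₁ : orderOf g₁ = q := by
        exact (Nat.prime_dvd_prime_iff_eq ho₁ hq).1
          (ho₁.dvd_of_dvd_pow (hd₁.trans (dvd_of_eq hqk.symm)))
      have e₂ : orderOf g₂ = q := by
        exact (Nat.prime_dvd_prime_iff_eq ho₂ hq).1
          (ho₂.dvd_of_dvd_pow (hd₂.trans (dvd_of_eq hqk.symm)))
      rw [hc₁, hc₂, e₁, e₂]
    · obtain ⟨g, ho, hf⟩ := exists_fpf hq hqn hn0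
      exact ⟨⟨ConjClasses.mk g, g, rfl, by rw [ho]; exact hq, hf⟩⟩

end Cfsg.Agent.S3504
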