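import Mathlib
import Cfsg.Statements.S3508

set_option autoImplicit false
open Cfsg

namespace Cfsg.Agent.S3508

section LinAlg
open Polynomial

/-- polynomial identities in characteristic `p` -/
theorem poly_id1 (p : ℕ) [Fact p.Prime] (j : ℕ) :
    ((X : (ZMod p)[X]) - 1) ^ p ^ j = X ^ p ^ j - 1 := by
  rw [sub_pow_char_pow, one_pow]

theorem poly_id2 (p : ℕ) [Fact p.Prime] (j : ℕ) :
    (∑ i ∈ Finset.range (p ^ j), (X : (ZMod p)[X]) ^ i) = (X - 1) ^ (p ^ j - 1) := by
  have h1 : (∑ i ∈ Finset.range (p ^ j), (X : (ZMod p)[X]) ^ i) * (X - 1) = X ^ p ^ j - 1 :=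
    geom_sum_mul X (p ^ j)
  have hpos : 0 < p ^ j := pow_pos (Fact.out : p.Prime).pos j
  have h2 : ((X : (ZMod p)[X]) - 1) ^ (p ^ j - 1) * (X - 1) = X ^ p ^ j - 1 := by
    rw [← pow_succ, Nat.sub_add_cancel hpos, poly_id1]
  have hne : (X : (ZMod p)[X]) - 1 ≠ 0 := X_sub_C_ne_zero (1 : ZMod p)
  exact mul_right_cancel₀ hne (h1.trans h2.symm)

theorem lin_alg (p : ℕ) [Fact p.Prime] {V : Type*} [AddCommGroup V] [Module (ZMod p) V] [Finite V]
    (m : ℕ) (hV : Nat.card V = p ^ m) (γ : Module.End (ZMod p) V) (r : ℕ)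
    (hγ : γ ^ p ^ r = 1) (j : ℕ) (hj : m < p ^ j) :
    γ ^ p ^ j = 1 ∧ (∑ i ∈ Finset.range (p ^ j), γ ^ i) = 0 := by
  have hp : p.Prime := Fact.out
  have e1 : ∀ j : ℕ, (γ - 1) ^ p ^ j = γ ^ p ^ j - 1 := by
    intro j
    have := congrArg (aeval γ) (poly_id1 p j)
    simpa using this
  have e2 : (∑ i ∈ Finset.range (p ^ j), γ ^ i) = (γ - 1) ^ (p ^ j - 1) := by
    have := congrArg (aeval γ) (poly_id2 p j)
    simpa using this
  have hnil : IsNilpotent (γ - 1) := ⟨p ^ r, by rw [e1, hγ, sub_self]⟩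
  have hfr : Module.finrank (ZMod p) V = m := by
    have : Fintype V := Fintype.ofFinite V
    have h1 := Module.card_eq_pow_finrank (K := ZMod p) (V := V)
    rw [ZMod.card, ← Nat.card_eq_fintype_card, hV] at h1
    exact (Nat.pow_right_injective hp.two_le h1).symm
  have hm : (γ - 1) ^ m = 0 := by
    have h1 := LinearMap.aeval_self_charpoly (γ - 1)
    rw [hnil.charpoly_eq_X_pow_finrank, hfr] at h1
    simpa using h1
  have hge : ∀ n : ℕ, m ≤ n → (γ - 1) ^ n = 0 := by
    intro n hn
    obtain ⟨d, rfl⟩ := Nat.exists_eq_add_of_le hn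
    rw [pow_add, hm, zero_mul]
  constructor
  · have := e1 j
    rw [hge _ hj.le] at this
    exact (sub_eq_zero.mp this.symm)
  · rw [e2]
    exact hge _ (by omega)


end LinAlg

theorem key_lin (p : ℕ) [hp : Fact p.Prime] {A : Type*} [CommGroup A] [Finite A]
    [Module (ZMod p) (Additive A)] (m : ℕ) (hA : Nat.card A = p ^ m) (φ : MulAut A) (r : ℕ)
    (hφ : φ ^ p ^ r = 1) (j : ℕ) (hj : m < p ^ j) :
    φ ^ p ^ j = 1 ∧ ∀ a : A, ∏ i ∈ Finset.range (p ^ j), (φ ^ i) a = 1 := by
  let γa : Additive A →+ Additive A := MonoidHom.toAdditive φ.toMonoidHom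
  let γ : Module.End (ZMod p) (Additive A) := γa.toZModLinearMap p
  have hγ1 : ∀ x : Additive A, γ x = Additive.ofMul (φ (Additive.toMul x)) := fun x => rfl
  have hγpow : ∀ (i : ℕ) (x : Additive A),
      (γ ^ i : Module.End (ZMod p) (Additive A)) x = Additive.ofMul ((φ ^ i) (Additive.toMul x)) := by
    intro i
    induction i with
    | zero => intro x; simp
    | succ i ih =>
      intro x
      rw [pow_succ', Module.End.mul_apply, ih, hγ1, pow_succ', MulAut.mul_apply]
      rfl
  have hγ : γ ^ p ^ r = 1 := by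
    apply LinearMap.ext
    intro x
    rw [hγpow, hφ]
    rfl
  have hV : Nat.card (Additive A) = p ^ m := hA
  obtain ⟨h1, h2⟩ := lin_alg p m hV γ r hγ j hj
  constructor
  · apply MulEquiv.ext
    intro a
    have := hγpow (p ^ j) (Additive.ofMul a)
    rw [h1] at this
    exact (Additive.ofMul.injective this).symm
  · intro a
    have hw : ∀ k : ℕ, Additive.ofMul (∏ i ∈ Finset.range k, (φ ^ i) a)
        = (∑ l ∈ Finset.range k, γ ^ l : Module.End (ZMod p) (Additive A)) (Additive.ofMul a) := by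
      intro k
      induction k with
      | zero => simp
      | succ k ih =>
        rw [Finset.sum_range_succ, LinearMap.add_apply, ← ih, hγpow, Finset.prod_range_succ]
        rfl
    have := hw (p ^ j)
    rw [h2] at this
    exact Additive.ofMul.injective this

/-- automorphisms of `p`-power order of an elementary abelian `p`-group of order `p ^ m` -/
theorem key_comm (p : ℕ) [hp : Fact p.Prime] {A : Type*} [CommGroup A] [Finite A]
    (hAp : ∀ a : A, a ^ p = 1) (m : ℕ) (hA : Nat.card A = p ^ m) (φ : MulAut A) (r : ℕ)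
    (hφ : φ ^ p ^ r = 1) (j : ℕ) (hj : m < p ^ j) :
    φ ^ p ^ j = 1 ∧ ∀ a : A, ∏ i ∈ Finset.range (p ^ j), (φ ^ i) a = 1 := by
  have hpV : ∀ x : Additive A, p • x = 0 :=
    fun x => congrArg Additive.ofMul (hAp (Additive.toMul x))
  exact @key_lin p hp A _ _ (AddCommGroup.zmodModule hpV) m hA φ r hφ j hj

variable {G : Type*} [Group G]

/-- partial products `v * (u v u⁻¹) * ... * (u^(i-1) v u^-(i-1))` -/
def wprod (N : Subgroup G) [N.Normal] (u : G) (v : N) : ℕ → N
  | 0 => 1
  | (i + 1) => wprod N u v i * MulAut.conjNormal (u ^ i) v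

theorem mul_pow_eq (N : Subgroup G) [N.Normal] (u : G) (v : N) (i : ℕ) :
    ((v : G) * u) ^ i = (wprod N u v i : G) * u ^ i := by
  induction i with
  | zero => simp [wprod]
  | succ i ih =>
    rw [pow_succ, ih]
    show (wprod N u v i : G) * u ^ i * ((v : G) * u)
      = ((wprod N u v i * MulAut.conjNormal (u ^ i) v : N) : G) * u ^ (i + 1)
    rw [Subgroup.coe_mul, MulAut.conjNormal_apply, pow_succ]
    group

theorem key (p : ℕ) [hp : Fact p.Prime] (N : Subgroup G) [N.Normal] [Finite N]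
    (hNc : IsMulCommutative N) (hNp : ∀ n ∈ N, n ^ p = 1) (m : ℕ) (hN : Nat.card N = p ^ m)
    (u : G) (v : N) (r : ℕ) (hu : u ^ p ^ r = 1) (j : ℕ) (hj : m < p ^ j) :
    (∀ x : N, MulAut.conjNormal (u ^ p ^ j) x = x) ∧ wprod N u v (p ^ j) = 1 := by
  let _ : CommGroup N :=
    { (inferInstance : Group N) with mul_comm := fun a b => hNc.is_comm.comm a b }
  have hAp : ∀ a : N, a ^ p = 1 := fun a => Subtype.ext (by
    have := hNp _ a.2
    simpa using this)
  have hφ : (MulAut.conjNormal u : MulAut N) ^ p ^ r = 1 := by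
    rw [← map_pow, hu, map_one]
  obtain ⟨h1, h2⟩ := key_comm p hAp m hN (MulAut.conjNormal u : MulAut N) r hφ j hj
  constructor
  · intro x
    rw [map_pow, h1]
    rfl
  · have hw : ∀ k : ℕ, wprod N u v k
        = ∏ i ∈ Finset.range k, ((MulAut.conjNormal u : MulAut N) ^ i) v := by
      intro k
      induction k with
      | zero => simp [wprod]
      | succ k ih =>
        rw [Finset.prod_range_succ, ← ih, ← map_pow]
        rfl
    rw [hw]
    exact h2 v


theorem arith1 (p m : ℕ) (hp : 2 ≤ p) (h : p ^ (m - 1) ≤ m) : m ≤ 2 := by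
  by_contra hm
  push Not at hm
  obtain ⟨k, rfl⟩ : ∃ k, m = k + 3 := ⟨m - 3, by omega⟩
  have h1 : 2 ^ (k + 2) ≤ p ^ (k + 2) := Nat.pow_le_pow_left hp _
  have h2 : k < 2 ^ k := Nat.lt_two_pow_self
  have h3 : 2 ^ (k + 2) = 4 * 2 ^ k := by ring
  have h4 : k + 3 - 1 = k + 2 := by omega
  rw [h4] at h
  omega

/-- Let a finite group G act faithfully on a set Ω with p ^ m points (p prime) and have an elementary abelian normal p-subgroup N acting regularly on Ω (so G is a group of affine transformations of an m-dimensional space over the field with p elements). If G contains an element of order p ^ r with r ≥ 1, then p ^ (r − 1) ≤ m. In particular an element of order p ^ m forces m ≤ 2, and m ≤ 1 when p is odd. -/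
theorem result {G : Type*} [Group G] [Finite G] {Ω : Type*} [Fintype Ω] [MulAction G Ω] [FaithfulSMul G Ω] (p m : ℕ) (hp : p.Prime) (hcard : Fintype.card Ω = p ^ m)
    (N : Subgroup G) [N.Normal] (hNc : IsMulCommutative N) (hNp : ∀ n ∈ N, n ^ p = 1)
    (hNtr : MulAction.IsPretransitive N Ω) (hNreg : ∀ ω : Ω, MulAction.stabilizer N ω = ⊥)
    (g : G) (r : ℕ) (hr : 1 ≤ r) (hg : orderOf g = p ^ r) :
    p ^ (r - 1) ≤ m ∧ (r = m → m ≤ 2 ∧ (2 < p → m ≤ 1)) := by
  have hfp : Fact p.Prime := ⟨hp⟩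
  have hΩ : Nonempty Ω := by
    rw [← Fintype.card_pos_iff, hcard]; exact pow_pos hp.pos m
  obtain ⟨ω⟩ := hΩ
  have hNstab : ∀ n : N, n • ω = ω → n = 1 := by
    intro n hn
    have : n ∈ MulAction.stabilizer N ω := MulAction.mem_stabilizer_iff.mpr hn
    rw [hNreg ω, Subgroup.mem_bot] at this
    exact this
  have hN : Nat.card N = p ^ m := by
    rw [← hcard, ← Nat.card_eq_fintype_card]
    apply Nat.card_congr
    refine Equiv.ofBijective (fun n : N => n • ω) ⟨?_, ?_⟩
    · intro a b hab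
      have hab' : a • ω = b • ω := hab
      have h1 : (b⁻¹ * a) • ω = ω := by
        rw [mul_smul, hab', inv_smul_smul]
      have h2 := hNstab _ h1
      exact (inv_mul_eq_one.mp h2).symm
    · intro ω'
      exact MulAction.exists_smul_eq N ω ω'
  have main : p ^ (r - 1) ≤ m := by
    by_contra hlt
    push Not at hlt
    obtain ⟨v, hv⟩ := MulAction.exists_smul_eq N ω (g • ω)
    have hv' : (v : G) • ω = g • ω := hv
    set u : G := (v : G)⁻¹ * g with hu
    have hgvu : g = (v : G) * u := by rw [hu]; group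
    have huω : u • ω = ω := by
      rw [hu, mul_smul, ← hv', inv_smul_smul]
    have hupow : ∀ i : ℕ, (u ^ i) • ω = ω := by
      intro i
      induction i with
      | zero => simp
      | succ i ih => rw [pow_succ, mul_smul, huω, ih]
    -- `u ^ (p ^ r) = 1`
    have hu1 : u ^ p ^ r = 1 := by
      have e1 := mul_pow_eq N u v (p ^ r)
      rw [← hgvu, ← hg, pow_orderOf_eq_one] at e1
      have e2 : u ^ orderOf g = ((wprod N u v (orderOf g))⁻¹ : N) := by
        rw [Subgroup.coe_inv]
        exact eq_inv_of_mul_eq_one_right e1.symm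
      have e3 : ((wprod N u v (orderOf g))⁻¹ : N) • ω = ω := by
        show (((wprod N u v (orderOf g))⁻¹ : N) : G) • ω = ω
        rw [← e2]
        exact hupow _
      have e4 := hNstab _ e3
      rw [← hg, e2, e4]
      rfl
    obtain ⟨h1, h2⟩ := key p N hNc hNp m hN u v r hu1 (r - 1) hlt
    have hu2 : u ^ p ^ (r - 1) = 1 := by
      apply FaithfulSMul.eq_of_smul_eq_smul (α := Ω)
      intro ω'
      obtain ⟨n, hn⟩ := MulAction.exists_smul_eq N ω ω'
      have hn' : (n : G) • ω = ω' := hn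
      rw [one_smul, ← hn']
      have h3 := h1 n
      have h4 : u ^ p ^ (r - 1) * (n : G) * (u ^ p ^ (r - 1))⁻¹ = n := by
        have := congrArg Subtype.val h3
        rwa [MulAut.conjNormal_apply] at this
      have h5 : u ^ p ^ (r - 1) * (n : G) = n * u ^ p ^ (r - 1) := by
        calc u ^ p ^ (r - 1) * (n : G)
            = (u ^ p ^ (r - 1) * (n : G) * (u ^ p ^ (r - 1))⁻¹) * u ^ p ^ (r - 1) := by group
          _ = n * u ^ p ^ (r - 1) := by rw [h4]
      rw [← mul_smul, h5, mul_smul, hupow]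
    have e2 := mul_pow_eq N u v (p ^ (r - 1))
    rw [← hgvu, h2, hu2] at e2
    have e3 : g ^ p ^ (r - 1) = 1 := by simpa using e2
    have e4 : orderOf g ∣ p ^ (r - 1) := orderOf_dvd_of_pow_eq_one e3
    rw [hg] at e4
    have e5 := Nat.le_of_dvd (pow_pos hp.pos _) e4
    have e6 : p ^ (r - 1) < p ^ r := Nat.pow_lt_pow_right hp.one_lt (by omega)
    omega
  refine ⟨main, ?_⟩
  intro hrm
  rw [hrm] at main
  have hm2 : m ≤ 2 := arith1 p m hp.two_le main
  refine ⟨hm2, ?_⟩
  intro hp2
  by_contra hm1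
  have hm : m = 2 := by omega
  rw [hm] at main
  simp at main
  omega

end Cfsg.Agent.S3508
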