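import Mathlib
import Cfsg.Statements.S3511

set_option autoImplicit false
open Cfsg

namespace Cfsg.Agent.S3511

theorem aux {G : Type*} [Group G] [Finite G] {Ω : Type*} [MulAction G Ω]
    (h : ∀ g : G, Squarefree (orderOf g) → ∃ ω : Ω, MulAction.stabilizer (Subgroup.zpowers g) ω = ⊥) :
    ∀ n : ℕ, ∀ g : G, orderOf g = n → ∃ ω : Ω, MulAction.stabilizer (Subgroup.zpowers g) ω = ⊥ := by
  intro n
  induction n using Nat.strong_induction_on with
  | _ n ih =>
    intro g hg
    by_cases hsq : Squarefree n
    · exact h g (hg ▸ hsq)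
    · rw [Nat.squarefree_iff_prime_squarefree] at hsq
      push_neg at hsq
      obtain ⟨p, hp, hpn⟩ := hsq
      obtain ⟨c, hc⟩ := hpn
      have hnpos : 0 < n := hg ▸ orderOf_pos g
      have hcpos : 0 < c := by
        rcases Nat.eq_zero_or_pos c with h0 | h0
        · rw [h0, mul_zero] at hc; omega
        · exact h0
      have hpdvd : p ∣ orderOf g := by rw [hg, hc]; exact ⟨p * c, by ring⟩
      have hord : orderOf (g ^ p) = p * c := by
        rw [orderOf_pow_of_dvd hp.ne_zero hpdvd, hg, hc]
        rw [mul_assoc, Nat.mul_div_cancel_left _ hp.pos]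
      have hlt : p * c < n := by
        rw [hc, mul_assoc]
        have := hp.one_lt
        have : 0 < p * c := Nat.mul_pos hp.pos hcpos
        nlinarith
      obtain ⟨ω, hω⟩ := ih (p * c) hlt (g ^ p) hord
      refine ⟨ω, ?_⟩
      rw [Subgroup.eq_bot_iff_forall]
      rintro ⟨y, hy⟩ hfix
      rw [MulAction.mem_stabilizer_iff, Subgroup.smul_def] at hfix
      simp only at hfix
      obtain ⟨k, rfl⟩ := (mem_powers_iff_mem_zpowers.2 hy)
      simp only at hfix
      -- (g^k)^p fixes ω and lies in zpowers (g^p)
      have hmem1 : (g ^ k) ^ p ∈ Subgroup.zpowers (g ^ p) := by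
        rw [← pow_mul, mul_comm, pow_mul]
        exact Subgroup.pow_mem _ (Subgroup.mem_zpowers _) _
      have hfix1 : (⟨(g ^ k) ^ p, hmem1⟩ : Subgroup.zpowers (g ^ p)) ∈
          MulAction.stabilizer (Subgroup.zpowers (g ^ p)) ω := by
        rw [MulAction.mem_stabilizer_iff, Subgroup.smul_def]
        simp only
        have : ∀ j : ℕ, (g ^ k) ^ j • ω = ω := by
          intro j
          induction j with
          | zero => simp
          | succ j ihj => rw [pow_succ, mul_smul, hfix, ihj]
        exact this p
      rw [hω, Subgroup.mem_bot] at hfix1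
      have h1 : (g ^ k) ^ p = 1 := congrArg Subtype.val hfix1
      rw [← pow_mul] at h1
      have hdvd : n ∣ k * p := hg ▸ orderOf_dvd_of_pow_eq_one h1
      rw [hc] at hdvd
      have hdvd2 : p * c ∣ k := by
        have : p * (p * c) ∣ p * k := by
          rw [mul_comm p k]
          rwa [mul_assoc] at hdvd
        exact Nat.dvd_of_mul_dvd_mul_left hp.pos this
      obtain ⟨j, hj⟩ := hdvd2
      have hmem2 : g ^ k ∈ Subgroup.zpowers (g ^ p) := by
        rw [hj, mul_assoc, pow_mul]
        exact Subgroup.pow_mem _ (Subgroup.mem_zpowers _) _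
      have hfix2 : (⟨g ^ k, hmem2⟩ : Subgroup.zpowers (g ^ p)) ∈
          MulAction.stabilizer (Subgroup.zpowers (g ^ p)) ω := by
        rw [MulAction.mem_stabilizer_iff, Subgroup.smul_def]
        exact hfix
      rw [hω, Subgroup.mem_bot] at hfix2
      have h2 : g ^ k = 1 := congrArg Subtype.val hfix2
      exact Subtype.ext h2

/-- Let a finite group G act faithfully on a set Ω. If every element of G of square-free order has a regular cycle (an orbit of the cyclic group it generates with trivial stabilizer), then every element of G has a regular cycle. -/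
theorem result {G : Type*} [Group G] [Finite G] {Ω : Type*} [MulAction G Ω] [FaithfulSMul G Ω]
    (h : ∀ g : G, Squarefree (orderOf g) → ∃ ω : Ω, MulAction.stabilizer (Subgroup.zpowers g) ω = ⊥) (g : G) :
    ∃ ω : Ω, MulAction.stabilizer (Subgroup.zpowers g) ω = ⊥ := by
  exact aux h (orderOf g) g rfl

end Cfsg.Agent.S3511
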