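import Mathlib
import Cfsg.Statements.S3514

set_option autoImplicit false
open Cfsg

namespace Cfsg.Agent.S3514

theorem relIndex_sup_of_normal {G : Type*} [Group G] [Finite G] (K T : Subgroup G) [K.Normal] :
    T.relIndex (K ⊔ T) = T.relIndex K := by
  have h1 : Nat.card (K ⊔ T : Subgroup G) = Nat.card K * K.relIndex T := by
    rw [← Subgroup.relIndex_bot_left, ← Subgroup.relIndex_bot_left,
      ← Subgroup.relIndex_sup_left T K]
    exact (Subgroup.relIndex_mul_relIndex ⊥ K (K ⊔ T) bot_le le_sup_left).symm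
  have h2 : Nat.card T = Nat.card (K ⊓ T : Subgroup G) * K.relIndex T := by
    rw [← Subgroup.relIndex_bot_left, ← Subgroup.relIndex_bot_left,
      ← Subgroup.inf_relIndex_right K T]
    exact (Subgroup.relIndex_mul_relIndex ⊥ (K ⊓ T) T bot_le inf_le_right).symm
  have h3 : Nat.card (K ⊔ T : Subgroup G) = Nat.card T * T.relIndex (K ⊔ T) := by
    rw [← Subgroup.relIndex_bot_left, ← Subgroup.relIndex_bot_left]
    exact (Subgroup.relIndex_mul_relIndex ⊥ T (K ⊔ T) bot_le le_sup_right).symm
  have h4 : Nat.card K = Nat.card (K ⊓ T : Subgroup G) * T.relIndex K := by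
    rw [← Subgroup.relIndex_bot_left, ← Subgroup.relIndex_bot_left,
      ← Subgroup.inf_relIndex_left K T]
    exact (Subgroup.relIndex_mul_relIndex ⊥ (K ⊓ T) K bot_le inf_le_left).symm
  have hpos1 : 0 < Nat.card (K ⊓ T : Subgroup G) := Nat.card_pos
  have hpos2 : 0 < K.relIndex T := by
    rcases Nat.eq_zero_or_pos (K.relIndex T) with h | h
    · rw [h, mul_zero] at h2
      exact absurd h2 (Nat.card_pos).ne'
    · exact h
  have : Nat.card (K ⊓ T : Subgroup G) * K.relIndex T * T.relIndex (K ⊔ T)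
      = Nat.card (K ⊓ T : Subgroup G) * K.relIndex T * T.relIndex K := by
    calc Nat.card (K ⊓ T : Subgroup G) * K.relIndex T * T.relIndex (K ⊔ T)
        = Nat.card T * T.relIndex (K ⊔ T) := by rw [← h2]
      _ = Nat.card (K ⊔ T : Subgroup G) := h3.symm
      _ = Nat.card K * K.relIndex T := h1
      _ = Nat.card (K ⊓ T : Subgroup G) * T.relIndex K * K.relIndex T := by rw [← h4]
      _ = Nat.card (K ⊓ T : Subgroup G) * K.relIndex T * T.relIndex K := by ring
  exact Nat.eq_of_mul_eq_mul_left (Nat.mul_pos hpos1 hpos2) this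

theorem relIndex_dvd_of_normal_in {G : Type*} [Group G] [Finite G] (K L T : Subgroup G)
    (hKL : K ≤ L) (hn : L ≤ Subgroup.normalizer (K : Set G)) :
    T.relIndex K ∣ T.relIndex L := by
  have : (K.subgroupOf L).Normal := (Subgroup.normal_subgroupOf_iff_le_normalizer hKL).2 hn
  rw [← Subgroup.relIndex_subgroupOf hKL]
  have h1 := relIndex_sup_of_normal (K.subgroupOf L) (T.subgroupOf L)
  rw [← h1]
  exact Subgroup.relIndex_dvd_index_of_le le_sup_right

theorem orbit_card {G V : Type*} [Group G] [MulAction G V] (H : Subgroup G) (v : V) :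
    Nat.card {u : V | ∃ h ∈ H, h • v = u} = (MulAction.stabilizer G v).relIndex H := by
  have key : (MulAction.stabilizer G v).subgroupOf H = MulAction.stabilizer H v := by
    ext; rfl
  have hset : {u : V | ∃ h ∈ H, h • v = u} = MulAction.orbit H v := by
    ext u
    constructor
    · rintro ⟨h, hh, rfl⟩
      exact ⟨⟨h, hh⟩, rfl⟩
    · rintro ⟨⟨h, hh⟩, rfl⟩
      exact ⟨h, hh, rfl⟩
  rw [hset, Subgroup.relIndex, key, MulAction.index_stabilizer, Nat.card_coe_set_eq]

theorem not_dvd_relIndex_sup {G : Type*} [Group G] [Finite G] (p : ℕ) [Fact p.Prime]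
    (N H S : Subgroup G) (hN : ¬ p ∣ Nat.card N)
    (hn : H ≤ Subgroup.normalizer (N : Set G)) (hS : ¬ p ∣ S.relIndex H) :
    ¬ p ∣ S.relIndex (N ⊔ H) := by
  have hp : p.Prime := Fact.out
  have hNL : N ≤ N ⊔ H := le_sup_left
  have hHL : H ≤ N ⊔ H := le_sup_right
  have hnL : N ⊔ H ≤ Subgroup.normalizer (N : Set G) := sup_le Subgroup.le_normalizer hn
  have : (N.subgroupOf (N ⊔ H)).Normal :=
    (Subgroup.normal_subgroupOf_iff_le_normalizer hNL).2 hnL
  set L := N ⊔ H with hL
  have htop : N.subgroupOf L ⊔ H.subgroupOf L = ⊤ := by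
    rw [← Subgroup.subgroupOf_sup hNL hHL, Subgroup.subgroupOf_self]
  -- index of H' in L divides card N
  have h1 : (H.subgroupOf L).index = (H.subgroupOf L).relIndex (N.subgroupOf L) := by
    rw [← relIndex_sup_of_normal (N.subgroupOf L) (H.subgroupOf L), htop, Subgroup.relIndex_top_right]
  have h2 : (H.subgroupOf L).index ∣ Nat.card N := by
    rw [h1, Subgroup.relIndex_subgroupOf hNL]
    exact Subgroup.relIndex_dvd_card _ _
  have h3 : (S.subgroupOf L ⊓ H.subgroupOf L).index
      = (S.subgroupOf L).relIndex (H.subgroupOf L) * (H.subgroupOf L).index := by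
    rw [← Subgroup.inf_relIndex_right]
    exact (Subgroup.relIndex_mul_index inf_le_right).symm
  have h4 : (S.subgroupOf L).index ∣ (S.subgroupOf L ⊓ H.subgroupOf L).index :=
    Subgroup.index_dvd_of_le inf_le_left
  rw [Subgroup.relIndex_subgroupOf hHL] at h3
  intro hdvd
  have : p ∣ S.relIndex H * (H.subgroupOf L).index := by
    rw [← h3]; exact dvd_trans hdvd h4
  rcases hp.dvd_mul.1 this with h | h
  · exact hS h
  · exact hN (dvd_trans h h2)

/-- Let p be a prime, V a finite vector space over the field with p elements, and H a group of linear transformations of V all of whose orbits on V have size coprime to p. (i) Every normal subgroup K of H has all its orbits on V of size coprime to p. (ii) If N is a group of linear transformations of V of order coprime to p that is normalized by H, then the group generated by N and H has all its orbits on V of size coprime to p. -/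
theorem result (p : ℕ) [Fact p.Prime] {V : Type*} [AddCommGroup V] [Module (ZMod p) V] [Finite V]
    (H : Subgroup (V ≃ₗ[ZMod p] V)) (hH : ∀ v : V, ¬ p ∣ Nat.card {u : V | ∃ h ∈ H, h v = u}) :
    (∀ K : Subgroup (V ≃ₗ[ZMod p] V), K ≤ H → H ≤ Subgroup.normalizer (K : Set (V ≃ₗ[ZMod p] V)) →
        ∀ v : V, ¬ p ∣ Nat.card {u : V | ∃ k ∈ K, k v = u}) ∧
    (∀ N : Subgroup (V ≃ₗ[ZMod p] V), ¬ p ∣ Nat.card N → H ≤ Subgroup.normalizer (N : Set (V ≃ₗ[ZMod p] V)) →
        ∀ v : V, ¬ p ∣ Nat.card {u : V | ∃ x ∈ N ⊔ H, x v = u}) := by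
  classical
  have : Finite (V ≃ₗ[ZMod p] V) :=
    Finite.of_injective (fun f : V ≃ₗ[ZMod p] V => (f : V → V)) DFunLike.coe_injective
  have hH' : ∀ v : V, ¬ p ∣ (MulAction.stabilizer (V ≃ₗ[ZMod p] V) v).relIndex H := by
    intro v
    rw [← orbit_card]
    exact hH v
  constructor
  · intro K hKH hn v
    have h1 : Nat.card {u : V | ∃ k ∈ K, k v = u}
        = (MulAction.stabilizer (V ≃ₗ[ZMod p] V) v).relIndex K := orbit_card K v
    rw [h1]
    intro hd
    exact hH' v (dvd_trans hd (relIndex_dvd_of_normal_in K H _ hKH hn))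
  · intro N hN hn v
    have h1 : Nat.card {u : V | ∃ x ∈ N ⊔ H, x v = u}
        = (MulAction.stabilizer (V ≃ₗ[ZMod p] V) v).relIndex (N ⊔ H) := orbit_card (N ⊔ H) v
    rw [h1]
    exact not_dvd_relIndex_sup p N H _ hN hn (hH' v)

end Cfsg.Agent.S3514
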