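import Mathlib
import Cfsg.Statements.S3515

set_option autoImplicit false
set_option linter.style.haveILetI false
set_option linter.unusedSectionVars false

open Cfsg

namespace Cfsg.Agent.S3515

/-- In the plane over the field with two elements, the sum of two distinct non-zero vectors is
the third non-zero vector. -/
theorem third_vector : ∀ a b c : Fin 2 → ZMod 2, a ≠ 0 → b ≠ 0 → c ≠ 0 → a ≠ b → a ≠ c → b ≠ c →
    a + b = c := by
  decide

theorem add_self_two : ∀ w : Fin 2 → ZMod 2, w + w = 0 := by decide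

theorem eq_of_add_two : ∀ a b : Fin 2 → ZMod 2, a + b = 0 → a = b := by decide

theorem right_zero_two : ∀ a b : Fin 2 → ZMod 2, a = a + b → b = 0 := by decide

theorem left_zero_two : ∀ a b : Fin 2 → ZMod 2, b = a + b → a = 0 := by decide

section

variable {p : ℕ} [Fact p.Prime]

/-- A permutation fixing zero which agrees on every triple with an affine map is additive and
homogeneous. -/
theorem lin_of_triples (σ : Equiv.Perm (Fin 2 → ZMod p)) (h0 : σ 0 = 0)
    (hσ : ∀ t : Fin 3 → (Fin 2 → ZMod p),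
      ∃ (A : (Fin 2 → ZMod p) ≃ₗ[ZMod p] (Fin 2 → ZMod p)) (b : Fin 2 → ZMod p),
        ∀ i, σ (t i) = A (t i) + b) :
    (∀ (c : ZMod p) (v : Fin 2 → ZMod p), σ (c • v) = c • σ v) ∧
    (∀ u v : Fin 2 → ZMod p, σ (u + v) = σ u + σ v) := by
  have haff : ∀ (c : ZMod p) (u v : Fin 2 → ZMod p),
      σ (u + c • (v - u)) = σ u + c • (σ v - σ u) := by
    intro c u v
    obtain ⟨A, b, hAb⟩ := hσ ![u, v, u + c • (v - u)]
    have e0 := hAb 0
    have e1 := hAb 1
    have e2 := hAb 2
    simp only [Matrix.cons_val_zero, Matrix.cons_val_one, Matrix.cons_val_two,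
      Matrix.head_cons, Matrix.tail_cons] at e0 e1 e2
    rw [e2, e0, e1, map_add, map_smul, map_sub]
    module
  have hhom : ∀ (c : ZMod p) (v : Fin 2 → ZMod p), σ (c • v) = c • σ v := by
    intro c v
    have := haff c 0 v
    rw [h0, sub_zero, zero_add, zero_add, sub_zero] at this
    exact this
  refine ⟨hhom, ?_⟩
  by_cases hp2 : p = 2
  · subst hp2
    intro u v
    by_cases hu : u = 0
    · rw [hu, zero_add, h0, zero_add]
    by_cases hv : v = 0
    · rw [hv, add_zero, h0, add_zero]
    by_cases huv : u = v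
    · rw [huv]
      rw [add_self_two, add_self_two, h0]
    · have hsu : σ u ≠ 0 := fun e => hu (σ.injective (e.trans h0.symm))
      have hsv : σ v ≠ 0 := fun e => hv (σ.injective (e.trans h0.symm))
      have huv0 : u + v ≠ 0 := by
        intro e
        exact huv (eq_of_add_two u v e)
      have hsuv : σ (u + v) ≠ 0 := fun e => huv0 (σ.injective (e.trans h0.symm))
      have hne1 : σ u ≠ σ v := fun e => huv (σ.injective e)
      have hne2 : σ u ≠ σ (u + v) := by
        intro e
        have := σ.injective e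
        apply hv
        exact right_zero_two u v this
      have hne3 : σ v ≠ σ (u + v) := by
        intro e
        have := σ.injective e
        apply hu
        exact left_zero_two u v this
      exact (third_vector _ _ _ hsu hsv hsuv hne1 hne2 hne3).symm
  · have h2ne : (2 : ZMod p) ≠ 0 := by
      intro e
      have h2 : ((2 : ℕ) : ZMod p) = 0 := by exact_mod_cast e
      rw [ZMod.natCast_eq_zero_iff] at h2
      have := (Nat.prime_dvd_prime_iff_eq (Fact.out : p.Prime) Nat.prime_two).mp h2
      exact hp2 this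
    intro u v
    have hmid := haff (2 : ZMod p)⁻¹ u v
    have e1 : u + v = (2 : ZMod p) • (u + (2 : ZMod p)⁻¹ • (v - u)) := by
      rw [smul_add, smul_smul, mul_inv_cancel₀ h2ne, one_smul, two_smul]
      abel
    rw [e1, hhom, hmid, smul_add, smul_smul, mul_inv_cancel₀ h2ne, one_smul, two_smul]
    abel

end

/-- Every primitive affine permutation group of degree p² is 3-closed. Let p be a prime and G a group of permutations of the plane V = F_p² consisting of affine maps x ↦ Ax + b, containing all translations, and acting primitively on V. Then any permutation σ of V that agrees on every triple of points with some element of G (σ preserves every G-orbit on ordered triples) already lies in G. -/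
theorem result (p : ℕ) [Fact p.Prime] (G : Subgroup (Equiv.Perm (Fin 2 → ZMod p)))
    (haff : (G : Set (Equiv.Perm (Fin 2 → ZMod p))) ⊆ {τ : Equiv.Perm (Fin 2 → ZMod p) | ∃ (A : (Fin 2 → ZMod p) ≃ₗ[ZMod p] (Fin 2 → ZMod p)) (b : Fin 2 → ZMod p), ∀ x, τ x = A x + b})
    (htrans : ∀ b : Fin 2 → ZMod p, ∃ g ∈ G, ∀ x, g x = x + b) (hprim : MulAction.IsPreprimitive G (Fin 2 → ZMod p))
    (σ : Equiv.Perm (Fin 2 → ZMod p)) (hσ : (∀ t : Fin 3 → (Fin 2 → ZMod p), ∃ g ∈ G, ∀ i, σ (t i) = g (t i))) : σ ∈ G := by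
  classical
  -- translate so that zero is fixed
  obtain ⟨τ, hτG, hτ⟩ := htrans (-(σ 0))
  have hσ' : ∀ t : Fin 3 → (Fin 2 → ZMod p), ∃ g ∈ G, ∀ i, (τ * σ) (t i) = g (t i) := by
    intro t
    obtain ⟨g, hg, hgt⟩ := hσ t
    refine ⟨τ * g, G.mul_mem hτG hg, fun i => ?_⟩
    rw [Equiv.Perm.mul_apply, Equiv.Perm.mul_apply, hgt i]
  have h0 : (τ * σ) 0 = 0 := by
    rw [Equiv.Perm.mul_apply, hτ]
    exact add_neg_cancel _
  have hσ'' : ∀ t : Fin 3 → (Fin 2 → ZMod p),
      ∃ (A : (Fin 2 → ZMod p) ≃ₗ[ZMod p] (Fin 2 → ZMod p)) (b : Fin 2 → ZMod p), ∀ i, (τ * σ) (t i) = A (t i) + b := by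
    intro t
    obtain ⟨g, hg, hgt⟩ := hσ' t
    obtain ⟨A, b, hAb⟩ := haff hg
    exact ⟨A, b, fun i => by rw [hgt i, hAb]⟩
  obtain ⟨hhom, hadd⟩ := lin_of_triples (τ * σ) h0 hσ''
  -- agree with an element of `G` on zero and the two basis vectors
  obtain ⟨g, hg, hgt⟩ := hσ' ![0, Pi.single 0 1, Pi.single 1 1]
  obtain ⟨A, b, hAb⟩ := haff hg
  have e0 := hgt 0
  have e1 := hgt 1
  have e2 := hgt 2
  simp only [Matrix.cons_val_zero, Matrix.cons_val_one, Matrix.cons_val_two,
    Matrix.head_cons, Matrix.tail_cons] at e0 e1 e2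
  have hb : b = 0 := by
    have := hAb 0
    rw [← e0, h0, map_zero, zero_add] at this
    exact this.symm
  have hgA : ∀ x, g x = A x := fun x => by rw [hAb, hb, add_zero]
  have hdecomp : ∀ x : Fin 2 → ZMod p, x = x 0 • (Pi.single 0 1 : Fin 2 → ZMod p) + x 1 • (Pi.single 1 1 : Fin 2 → ZMod p) := by
    intro x
    funext i
    fin_cases i <;> simp
  have heq : τ * σ = g := by
    ext1 x
    rw [hdecomp x, hadd, hhom, hhom, e1, e2, hgA, hgA, hgA, map_add, map_smul, map_smul]
  have : σ = τ⁻¹ * g := by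
    rw [← heq, inv_mul_cancel_left]
  rw [this]
  exact G.mul_mem (G.inv_mem hτG) hg

end Cfsg.Agent.S3515
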