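import Mathlib
import Cfsg.Statements.S3516

set_option autoImplicit false
open Cfsg

namespace Cfsg.Agent.S3516

/-- Let p be an odd prime, d ≥ 3, and G a group of affine permutations x ↦ Ax + b of V = F_p^d containing all translations and all maps x ↦ Ax with A of determinant 1. Then the 3-closure of G is the full affine group: a permutation σ of V agrees on every triple of points with some element of G if and only if σ is an affine map. -/
theorem result (p : ℕ) [Fact p.Prime] (hp : p ≠ 2) (d : ℕ) (hd : 3 ≤ d) (G : Subgroup (Equiv.Perm (Fin d → ZMod p)))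
    (haff : (G : Set (Equiv.Perm (Fin d → ZMod p))) ⊆ {τ : Equiv.Perm (Fin d → ZMod p) | ∃ (A : (Fin d → ZMod p) ≃ₗ[ZMod p] (Fin d → ZMod p)) (b : Fin d → ZMod p), ∀ x, τ x = A x + b})
    (htrans : ∀ b : Fin d → ZMod p, ∃ g ∈ G, ∀ x, g x = x + b)
    (hsl : ∀ A : (Fin d → ZMod p) ≃ₗ[ZMod p] (Fin d → ZMod p), LinearMap.det (A : (Fin d → ZMod p) →ₗ[ZMod p] (Fin d → ZMod p)) = 1 → ∃ g ∈ G, ∀ x, g x = A x)
    (σ : Equiv.Perm (Fin d → ZMod p)) :
    (∀ t : Fin 3 → (Fin d → ZMod p), ∃ g ∈ G, ∀ i, σ (t i) = g (t i)) ↔ σ ∈ {τ : Equiv.Perm (Fin d → ZMod p) | ∃ (A : (Fin d → ZMod p) ≃ₗ[ZMod p] (Fin d → ZMod p)) (b : Fin d → ZMod p), ∀ x, τ x = A x + b} := by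
  classical
  have hpp : p.Prime := Fact.out
  have h2 : (2 : ZMod p) ≠ 0 := by
    intro h
    have h' : ((2 : ℕ) : ZMod p) = 0 := by exact_mod_cast h
    rw [ZMod.natCast_eq_zero_iff] at h'
    exact hp ((Nat.prime_dvd_prime_iff_eq hpp Nat.prime_two).1 h')
  constructor
  · intro hyp
    have key : ∀ x y z : Fin d → ZMod p, ∃ (A : (Fin d → ZMod p) ≃ₗ[ZMod p] (Fin d → ZMod p))
        (b : Fin d → ZMod p), σ x = A x + b ∧ σ y = A y + b ∧ σ z = A z + b := by
      intro x y z
      obtain ⟨g, hg, h⟩ := hyp ![x, y, z]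
      obtain ⟨A, b, hA⟩ := haff hg
      refine ⟨A, b, ?_, ?_, ?_⟩
      · have := h 0
        simp only [Matrix.cons_val_zero] at this
        rw [this, hA]
      · have := h 1
        simp only [Matrix.cons_val_one, Matrix.cons_val_zero] at this
        rw [this, hA]
      · have := h 2
        simp only [Matrix.cons_val_two, Matrix.tail_cons, Matrix.head_cons] at this
        rw [this, hA]
    have hhom : ∀ (c : ZMod p) (x : Fin d → ZMod p), σ (c • x) - σ 0 = c • (σ x - σ 0) := by
      intro c x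
      obtain ⟨A, b, h0, hx, hcx⟩ := key 0 x (c • x)
      rw [map_zero A, zero_add] at h0
      rw [hcx, hx, h0, map_smul]
      simp
    have hmid : ∀ x y : Fin d → ZMod p,
        (2 : ZMod p) • σ ((2 : ZMod p)⁻¹ • (x + y)) = σ x + σ y := by
      intro x y
      obtain ⟨A, b, hx, hy, hm⟩ := key x y ((2 : ZMod p)⁻¹ • (x + y))
      rw [hm, hx, hy, map_smul, map_add, smul_add, smul_smul, mul_inv_cancel₀ h2, one_smul,
        two_smul]
      abel
    have hadd : ∀ x y : Fin d → ZMod p, σ (x + y) - σ 0 = (σ x - σ 0) + (σ y - σ 0) := by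
      intro x y
      have e1 := hhom (2 : ZMod p)⁻¹ (x + y)
      have e2 := hmid x y
      have e3 : (2 : ZMod p) • (σ ((2 : ZMod p)⁻¹ • (x + y)) - σ 0) = σ (x + y) - σ 0 := by
        rw [e1, smul_smul, mul_inv_cancel₀ h2, one_smul]
      rw [← e3, smul_sub, e2, two_smul]
      abel
    let T : (Fin d → ZMod p) →ₗ[ZMod p] (Fin d → ZMod p) :=
      { toFun := fun x => σ x - σ 0
        map_add' := hadd
        map_smul' := fun c x => hhom c x }
    have Tinj : Function.Injective T := by
      intro x y hxy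
      have : σ x - σ 0 = σ y - σ 0 := hxy
      exact σ.injective (sub_left_injective this)
    have Tsurj : Function.Surjective T := by
      intro y
      refine ⟨σ.symm (y + σ 0), ?_⟩
      show σ (σ.symm (y + σ 0)) - σ 0 = y
      simp
    have Tbij : Function.Bijective T := ⟨Tinj, Tsurj⟩
    refine ⟨LinearEquiv.ofBijective T Tbij, σ 0, fun x => ?_⟩
    have hT : (LinearEquiv.ofBijective T Tbij) x = σ x - σ 0 := rfl
    rw [hT]
    abel
  · rintro ⟨A, b, hA⟩ t
    -- the subspace spanned by the two differences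
    let u : Fin 2 → (Fin d → ZMod p) := ![t 1 - t 0, t 2 - t 0]
    let P : Submodule (ZMod p) (Fin d → ZMod p) := Submodule.span (ZMod p) (Set.range u)
    have hPlt : P < ⊤ := by
      rw [lt_top_iff_ne_top]
      intro htop
      have h1 : Module.finrank (ZMod p) P ≤ 2 := by
        have := finrank_range_le_card (R := ZMod p) u
        simpa [Set.finrank] using this
      rw [htop, finrank_top, Module.finrank_fin_fun] at h1
      omega
    obtain ⟨f, hf0, hPf⟩ := Submodule.exists_le_ker_of_lt_top P hPlt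
    obtain ⟨z₀, hz₀⟩ : ∃ z₀, f z₀ ≠ 0 := by
      by_contra hcon
      push Not at hcon
      exact hf0 (LinearMap.ext hcon)
    obtain ⟨z, hz⟩ : ∃ z, f z = 1 := ⟨(f z₀)⁻¹ • z₀, by simp [hz₀]⟩
    have hdetA : LinearMap.det (A : (Fin d → ZMod p) →ₗ[ZMod p] (Fin d → ZMod p)) ≠ 0 :=
      (LinearEquiv.isUnit_det' A).ne_zero
    set lam : ZMod p := (LinearMap.det (A : (Fin d → ZMod p) →ₗ[ZMod p] (Fin d → ZMod p)))⁻¹
      with hlam
    have hlam0 : lam ≠ 0 := inv_ne_zero hdetA
    have hunit : IsUnit (1 + f ((lam - 1) • z)) := by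
      rw [map_smul, hz]
      simp only [smul_eq_mul, mul_one, add_sub_cancel]
      exact isUnit_iff_ne_zero.2 hlam0
    let E : (Fin d → ZMod p) ≃ₗ[ZMod p] (Fin d → ZMod p) := LinearEquiv.dilatransvection hunit
    have hE : ∀ x, f x = 0 → E x = x := by
      intro x hx
      show LinearEquiv.dilatransvection hunit x = x
      rw [LinearEquiv.dilatransvection.apply, hx, zero_smul, add_zero]
    have hdetE : LinearMap.det (E : (Fin d → ZMod p) →ₗ[ZMod p] (Fin d → ZMod p)) = lam := by
      show LinearMap.det (LinearEquiv.dilatransvection hunit).toLinearMap = lam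
      rw [LinearEquiv.dilatransvection.coe_toLinearMap, LinearMap.transvection.det, map_smul, hz]
      simp
    have hdetB : LinearMap.det ((E.trans A : (Fin d → ZMod p) ≃ₗ[ZMod p] (Fin d → ZMod p)) :
        (Fin d → ZMod p) →ₗ[ZMod p] (Fin d → ZMod p)) = 1 := by
      rw [LinearEquiv.coe_trans, LinearMap.det_comp, hdetE, hlam, mul_inv_cancel₀ hdetA]
    obtain ⟨g₁, hg₁, hg₁x⟩ := hsl (E.trans A) hdetB
    obtain ⟨g₂, hg₂, hg₂x⟩ := htrans (A (t 0) + b - A (E (t 0)))
    refine ⟨g₂ * g₁, G.mul_mem hg₂ hg₁, fun i => ?_⟩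
    rw [Equiv.Perm.mul_apply, hg₂x, hg₁x, hA, LinearEquiv.trans_apply]
    have hmemP : t i - t 0 ∈ P := by
      fin_cases i
      · simp
      · exact Submodule.subset_span ⟨0, rfl⟩
      · exact Submodule.subset_span ⟨1, rfl⟩
    have hfi : f (t i - t 0) = 0 := hPf hmemP
    have := hE _ hfi
    rw [map_sub] at this
    have h3 : E (t i) = t i - t 0 + E (t 0) := by rw [← this]; abel
    rw [h3, map_add, map_sub]
    abel

end Cfsg.Agent.S3516
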