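import Mathlib
import Cfsg.Statements.S3517
import Cfsg.Agent.Lib.Helper17.LinearExtend

set_option autoImplicit false
open Cfsg

namespace Cfsg.Agent.S3517

/-- For d ≥ 3, the 3-closure of the affine group AGL_d(2) acting on F_2^d is the full symmetric group: every permutation of F_2^d agrees on every ordered triple of points with some affine map (AGL_d(2) is 3-transitive). -/
theorem result (d : ℕ) (hd : 3 ≤ d) (σ : Equiv.Perm (Fin d → ZMod 2)) (t : Fin 3 → (Fin d → ZMod 2)) :
    ∃ (A : (Fin d → ZMod 2) ≃ₗ[ZMod 2] (Fin d → ZMod 2)) (b : Fin d → ZMod 2), ∀ i, σ (t i) = A (t i) + b := by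
  classical
  have hxx : ∀ x : Fin d → ZMod 2, x + x = 0 := by
    intro x
    funext i
    have : ∀ a : ZMod 2, a + a = 0 := by decide
    exact this (x i)
  have h01 : ∀ a : ZMod 2, a = 0 ∨ a = 1 := by decide
  let u : Fin 2 → (Fin d → ZMod 2) := ![t 1 - t 0, t 2 - t 0]
  let w : Fin 2 → (Fin d → ZMod 2) := ![σ (t 1) - σ (t 0), σ (t 2) - σ (t 0)]
  have hrel : ∀ c : Fin 2 → ZMod 2, ∑ i, c i • u i = 0 ↔ ∑ i, c i • w i = 0 := by
    intro c
    rw [Fin.sum_univ_two, Fin.sum_univ_two]
    simp only [u, w, Matrix.cons_val_zero, Matrix.cons_val_one]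
    have e1 : ∀ x y z : Fin d → ZMod 2, (x - z) + (y - z) = (x - y) + ((y - z) + (y - z)) := by
      intro x y z; abel
    rcases h01 (c 0) with h0 | h0 <;> rcases h01 (c 1) with h1 | h1 <;> rw [h0, h1]
    · simp
    · simp only [zero_smul, one_smul, zero_add, sub_eq_zero]
      exact σ.injective.eq_iff.symm
    · simp only [zero_smul, one_smul, add_zero, sub_eq_zero]
      exact σ.injective.eq_iff.symm
    · simp only [one_smul]
      rw [e1, e1 (σ (t 1)), hxx, hxx, add_zero, add_zero, sub_eq_zero, sub_eq_zero]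
      exact σ.injective.eq_iff.symm
  obtain ⟨A, hA⟩ := Cfsg.Agent.Helper17.exists_linearEquiv_of_relations u w hrel
  refine ⟨A, σ (t 0) - A (t 0), ?_⟩
  have hA0 : A (t 1 - t 0) = σ (t 1) - σ (t 0) := hA 0
  have hA1 : A (t 2 - t 0) = σ (t 2) - σ (t 0) := hA 1
  rw [map_sub] at hA0 hA1
  intro i
  fin_cases i
  · simp
  · simp only [Fin.mk_one]
    have : σ (t 1) = (A (t 1) - A (t 0)) + σ (t 0) := by rw [hA0]; abel
    rw [this]; abel
  · simp only [Fin.reduceFinMk]
    have : σ (t 2) = (A (t 2) - A (t 0)) + σ (t 0) := by rw [hA1]; abel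
    rw [this]; abel

end Cfsg.Agent.S3517
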