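import Mathlib
import Cfsg.Statements.S3518
import Cfsg.Agent.S0675

set_option autoImplicit false
open Cfsg

namespace Cfsg.Agent.S3518

open Equiv
open scoped commutatorElement

/-- the 2-closure of a permutation group of `ZMod p` -/
def twoClosure {p : ℕ} (G : Subgroup (Perm (ZMod p))) : Subgroup (Perm (ZMod p)) where
  carrier := {σ | ∀ x y : ZMod p, ∃ g ∈ G, σ x = g x ∧ σ y = g y}
  mul_mem' := by
    rintro σ τ hσ hτ x y
    obtain ⟨g, hg, h1, h2⟩ := hτ x y
    obtain ⟨g', hg', h1', h2'⟩ := hσ (g x) (g y)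
    refine ⟨g' * g, G.mul_mem hg' hg, ?_, ?_⟩
    · rw [Perm.mul_apply, Perm.mul_apply, h1, h1']
    · rw [Perm.mul_apply, Perm.mul_apply, h2, h2']
  one_mem' := fun x y => ⟨1, G.one_mem, rfl, rfl⟩
  inv_mem' := by
    rintro σ hσ x y
    obtain ⟨g, hg, h1, h2⟩ := hσ (σ⁻¹ x) (σ⁻¹ y)
    have e1 : σ (σ⁻¹ x) = x := by simp
    have e2 : σ (σ⁻¹ y) = y := by simp
    rw [e1] at h1
    rw [e2] at h2
    refine ⟨g⁻¹, G.inv_mem hg, ?_, ?_⟩
    · rw [eq_comm, Perm.inv_eq_iff_eq]; exact h1
    · rw [eq_comm, Perm.inv_eq_iff_eq]; exact h2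

theorem affine_ext {p : ℕ} [Fact p.Prime] (g h : Perm (ZMod p))
    (hg : g ∈ Cfsg.affineGroup (ZMod p)) (hh : h ∈ Cfsg.affineGroup (ZMod p))
    (h0 : g 0 = h 0) (h1 : g 1 = h 1) : g = h := by
  obtain ⟨a, b, hg⟩ := hg
  obtain ⟨c, d, hh⟩ := hh
  have e0 : b = d := by
    have := h0; rw [hg, hh] at this; simpa using this
  have e1 : (a : ZMod p) = c := by
    have := h1; rw [hg, hh, e0] at this; simpa using this
  ext x
  rw [hg, hh, e0, e1]

theorem affine_of_solvable {p : ℕ} [Fact p.Prime] (K : Subgroup (Perm (ZMod p)))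
    [MulAction.IsPretransitive K (ZMod p)]
    (hsol : Group.IsSolvable K) (τ : Perm (ZMod p)) (hτ : ∀ x, τ x = x + 1) (hτK : τ ∈ K) :
    ∀ σ ∈ K, σ ∈ Cfsg.affineGroup (ZMod p) := by
  classical
  have hp := (Fact.out : p.Prime)
  rw [Group.isSolvable_def] at hsol
  obtain ⟨n, hn, hmin⟩ : ∃ n, derivedSeries K n = ⊥ ∧ ∀ m < n, derivedSeries K m ≠ ⊥ :=
    ⟨Nat.find hsol, Nat.find_spec hsol, fun m hm => Nat.find_min hsol hm⟩
  have hτ1 : τ ≠ 1 := by
    intro h
    have := hτ 0
    rw [h] at this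
    simp at this
  have hn0 : n ≠ 0 := by
    rintro rfl
    rw [derivedSeries_zero] at hn
    have : (⟨τ, hτK⟩ : K) ∈ (⊤ : Subgroup K) := Subgroup.mem_top _
    rw [hn, Subgroup.mem_bot] at this
    exact hτ1 (congrArg Subtype.val this)
  obtain ⟨m, rfl⟩ : ∃ m, n = m + 1 := ⟨n - 1, by omega⟩
  obtain ⟨A, hA⟩ : ∃ A : Subgroup K, A = derivedSeries K m := ⟨_, rfl⟩
  have hAne : A ≠ ⊥ := by rw [hA]; exact hmin m (by omega)
  have hAcomm : ∀ a b : K, a ∈ A → b ∈ A → a * b = b * a := by
    intro a b ha hb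
    have : ⁅a, b⁆ ∈ derivedSeries K (m + 1) := by
      rw [derivedSeries_succ, ← hA]; exact Subgroup.commutator_mem_commutator ha hb
    rw [hn, Subgroup.mem_bot] at this
    exact commutatorElement_eq_one_iff_mul_comm.1 this
  have hAn : A.Normal := by rw [hA]; exact derivedSeries_normal K m
  have hprim : MulAction.IsPreprimitive K (ZMod p) :=
    MulAction.IsPreprimitive.of_prime_card (by rw [Nat.card_eq_fintype_card, ZMod.card]; exact hp)
  have hAtr : MulAction.IsPretransitive A (ZMod p) := by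
    apply MulAction.IsQuasiPreprimitive.isPretransitive_of_normal
    intro h
    apply hAne
    rw [Subgroup.eq_bot_iff_forall]
    intro a ha
    apply Subtype.ext
    apply Perm.ext
    intro x
    have hx : x ∈ MulAction.fixedPoints A (ZMod p) := by rw [h]; exact Set.mem_univ x
    exact hx ⟨a, ha⟩
  -- stabiliser trivial
  have hstab : MulAction.stabilizer A (0 : ZMod p) = ⊥ := by
    rw [Subgroup.eq_bot_iff_forall]
    intro a ha
    rw [MulAction.mem_stabilizer_iff] at ha
    apply Subtype.ext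
    apply Subtype.ext
    apply Perm.ext
    intro y
    obtain ⟨b, hb⟩ := MulAction.exists_smul_eq A (0 : ZMod p) y
    have hcomm := hAcomm a.1 b.1 a.2 b.2
    have h1 : ((a.1 * b.1 : K) : Perm (ZMod p)) 0 = ((b.1 * a.1 : K) : Perm (ZMod p)) 0 := by
      rw [hcomm]
    have ha' : (a.1 : Perm (ZMod p)) 0 = 0 := ha
    have hb' : (b.1 : Perm (ZMod p)) 0 = y := hb
    rw [Subgroup.coe_mul, Subgroup.coe_mul, Perm.mul_apply, Perm.mul_apply, ha', hb'] at h1
    exact h1
  have hAcard : Nat.card A = p := by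
    have h1 := Subgroup.card_mul_index (MulAction.stabilizer A (0 : ZMod p))
    rw [MulAction.index_stabilizer, MulAction.orbit_eq_univ, Set.ncard_univ, hstab,
      Subgroup.card_bot, one_mul, Nat.card_eq_fintype_card, ZMod.card] at h1
    exact h1.symm
  -- τ ∈ A
  have hτA : (⟨τ, hτK⟩ : K) ∈ A := by
    rw [← QuotientGroup.eq_one_iff]
    have hcard := Subgroup.card_eq_card_quotient_mul_card_subgroup A
    rw [hAcard] at hcard
    have hKdvd : Nat.card K ∣ p.factorial := by
      have := Subgroup.card_subgroup_dvd_card K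
      rwa [Nat.card_eq_fintype_card (α := Perm (ZMod p)), Fintype.card_perm, ZMod.card] at this
    have hndvd : ¬ p ∣ Nat.card (K ⧸ A) := by
      intro hd
      have h2 : p * p ∣ p.factorial := by
        refine dvd_trans ?_ hKdvd
        rw [hcard]; exact Nat.mul_dvd_mul hd dvd_rfl
      obtain ⟨q, hq⟩ : ∃ q, p = q + 1 := ⟨p - 1, by have := hp.one_le; omega⟩
      rw [hq, Nat.factorial_succ, ← hq] at h2
      have h3 : p ∣ q.factorial := Nat.dvd_of_mul_dvd_mul_left hp.pos h2
      rw [hp.dvd_factorial] at h3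
      omega
    have hpow : ((⟨τ, hτK⟩ : K) : K ⧸ A) ^ p = 1 := by
      rw [← QuotientGroup.mk_pow]
      have : (⟨τ, hτK⟩ : K) ^ p = 1 := by
        apply Subtype.ext
        rw [Subgroup.coe_pow, Subgroup.coe_one]
        apply Perm.ext
        intro x
        have hpw : ∀ k : ℕ, (τ ^ k) x = x + k := by
          intro k
          induction k with
          | zero => simp
          | succ k ih => rw [pow_succ', Perm.mul_apply, ih, hτ]; push_cast; ring
        rw [hpw]; simp
      rw [this]; rfl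
    have h1 : orderOf ((⟨τ, hτK⟩ : K) : K ⧸ A) ∣ p := orderOf_dvd_of_pow_eq_one hpow
    have h2 : orderOf ((⟨τ, hτK⟩ : K) : K ⧸ A) ∣ Nat.card (K ⧸ A) := orderOf_dvd_natCard _
    rcases (Nat.dvd_prime hp).1 h1 with h3 | h3
    · exact orderOf_eq_one_iff.1 h3
    · rw [h3] at h2; exact absurd h2 hndvd
  -- elements of A are translations
  have hAtransl : ∀ a : K, a ∈ A → ∃ c : ZMod p, ∀ x, (a : Perm (ZMod p)) x = x + c := by
    intro a ha
    have hcomm := hAcomm a ⟨τ, hτK⟩ ha hτA
    have h1 : ∀ x, (a : Perm (ZMod p)) (x + 1) = (a : Perm (ZMod p)) x + 1 := by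
      intro x
      have := congrArg (fun g : K => (g : Perm (ZMod p)) x) hcomm
      simp only [Subgroup.coe_mul, Perm.mul_apply] at this
      rw [hτ, hτ] at this
      exact this
    refine ⟨(a : Perm (ZMod p)) 0, fun x => ?_⟩
    have h2 : ∀ k : ℕ, (a : Perm (ZMod p)) (k : ZMod p) = (k : ZMod p) + (a : Perm (ZMod p)) 0 := by
      intro k
      induction k with
      | zero => simp
      | succ k ih => push_cast; rw [h1, ih]; ring
    have := h2 x.val
    rwa [ZMod.natCast_zmod_val] at this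
  intro σ hσ
  have hconj : (⟨σ, hσ⟩ : K) * ⟨τ, hτK⟩ * (⟨σ, hσ⟩ : K)⁻¹ ∈ A := hAn.conj_mem _ hτA _
  obtain ⟨c, hc⟩ := hAtransl _ hconj
  have h1 : ∀ x, σ (x + 1) = σ x + c := by
    intro x
    have := hc (σ x)
    simp only [Subgroup.coe_mul, Subgroup.coe_inv, Perm.mul_apply] at this
    rw [show σ⁻¹ (σ x) = x by simp, hτ] at this
    exact this
  have h2 : ∀ k : ℕ, σ (k : ZMod p) = c * (k : ZMod p) + σ 0 := by
    intro k
    induction k with
    | zero => simp
    | succ k ih => push_cast; rw [h1, ih]; ring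
  have h3 : ∀ x, σ x = c * x + σ 0 := by
    intro x
    have := h2 x.val
    rwa [ZMod.natCast_zmod_val] at this
  have hc0 : c ≠ 0 := by
    intro h0
    have e0 := h3 0
    have e1 := h3 1
    rw [h0] at e1
    have : σ 1 = σ 0 := by rw [e1]; simp
    exact one_ne_zero (σ.injective this)
  exact ⟨Units.mk0 c hc0, σ 0, h3⟩

/-- Closures of subgroups of the one-dimensional affine group. Let p be a prime and G a group of permutations of F_p lying in the affine group AGL₁(p) = {x ↦ ax + b, a ≠ 0} and containing all translations. (1) If G is a proper subgroup of AGL₁(p), then G is 2-closed: a permutation of F_p agreeing on every ordered pair of points with some element of G lies in G. (2) Every permutation of F_p agrees on every ordered pair with some element of AGL₁(p) (the 2-closure of AGL₁(p) is the symmetric group). (3) AGL₁(p) is 3-closed: a permutation agreeing on every ordered triple with some affine map is affine. -/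
theorem result (p : ℕ) [Fact p.Prime] (G : Subgroup (Equiv.Perm (ZMod p))) (hG : G ≤ Cfsg.affineGroup (ZMod p))
    (htrans : ∀ b : ZMod p, ∃ g ∈ G, ∀ x, g x = x + b) :
    (G ≠ Cfsg.affineGroup (ZMod p) → ∀ σ : Equiv.Perm (ZMod p), (∀ t : Fin 2 → ZMod p, ∃ g ∈ G, ∀ i, σ (t i) = g (t i)) → σ ∈ G) ∧
    (∀ σ : Equiv.Perm (ZMod p), (∀ t : Fin 2 → ZMod p, ∃ g ∈ Cfsg.affineGroup (ZMod p), ∀ i, σ (t i) = g (t i))) ∧
    (∀ σ : Equiv.Perm (ZMod p), (∀ t : Fin 3 → ZMod p, ∃ g ∈ Cfsg.affineGroup (ZMod p), ∀ i, σ (t i) = g (t i)) → σ ∈ Cfsg.affineGroup (ZMod p)) := by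
  classical
  have hp := (Fact.out : p.Prime)
  refine ⟨?_, ?_, ?_⟩
  · intro hne σ hσ
    obtain ⟨K, hK⟩ : ∃ K : Subgroup (Perm (ZMod p)), K = twoClosure G := ⟨_, rfl⟩
    have memK : ∀ ρ, ρ ∈ K ↔ ∀ x y : ZMod p, ∃ g ∈ G, ρ x = g x ∧ ρ y = g y := by
      intro ρ; rw [hK]; rfl
    have hGK : G ≤ K := by
      intro g hg
      rw [memK]
      exact fun x y => ⟨g, hg, rfl, rfl⟩
    have hσK : σ ∈ K := by
      rw [memK]
      intro x y
      obtain ⟨g, hg, hg'⟩ := hσ ![x, y]
      exact ⟨g, hg, by simpa using hg' 0, by simpa using hg' 1⟩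
    have hKtr : MulAction.IsPretransitive K (ZMod p) := by
      refine ⟨fun x y => ?_⟩
      obtain ⟨g, hg, hg'⟩ := htrans (y - x)
      refine ⟨⟨g, hGK hg⟩, ?_⟩
      show g x = y
      rw [hg']; ring
    obtain ⟨τ, hτG, hτ⟩ := htrans 1
    have hKaff : ∀ ρ ∈ K, ρ ∈ Cfsg.affineGroup (ZMod p) → ρ ∈ G := by
      intro ρ hρ hρa
      obtain ⟨g, hg, h0, h1⟩ := (memK ρ).1 hρ 0 1
      have := affine_ext ρ g hρa (hG hg) h0 h1
      rw [this]; exact hg
    have hcard : (Fintype.card (ZMod p)).Prime := by rw [ZMod.card]; exact hp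
    rcases Cfsg.Agent.S0675.result hcard K with hsol | h2tr
    · exact hKaff σ hσK (affine_of_solvable K hsol τ hτ (hGK hτG) σ hσK)
    · exfalso
      apply hne
      apply le_antisymm hG
      intro h hh
      obtain ⟨a, b, hab⟩ := hh
      rw [MulAction.is_two_pretransitive_iff] at h2tr
      have hne1 : (0 : ZMod p) ≠ 1 := zero_ne_one
      have hne2 : b ≠ (a : ZMod p) + b := by
        intro hb
        have : (a : ZMod p) = 0 := by
          have h' : (a : ZMod p) + b = 0 + b := by rw [zero_add]; exact hb.symm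
          exact add_right_cancel h'
        exact a.ne_zero this
      obtain ⟨⟨ρ, hρ⟩, hρ0, hρ1⟩ := h2tr hne1 hne2
      have hρ0' : ρ 0 = b := hρ0
      have hρ1' : ρ 1 = (a : ZMod p) + b := hρ1
      obtain ⟨g, hg, h0, h1⟩ := (memK ρ).1 hρ 0 1
      have hgh : g = h := by
        apply affine_ext g h (hG hg) ⟨a, b, hab⟩
        · rw [← h0, hρ0', hab]; simp
        · rw [← h1, hρ1', hab]; simp
      rw [← hgh]; exact hg
  · intro σ t
    by_cases h01 : t 0 = t 1
    · refine ⟨⟨fun x => x + (σ (t 0) - t 0), fun x => x - (σ (t 0) - t 0), fun x => by ring,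
        fun x => by ring⟩, ⟨1, σ (t 0) - t 0, fun x => by simp⟩, ?_⟩
      intro i
      have hi : t i = t 0 := by
        fin_cases i
        · rfl
        · exact h01.symm
      rw [hi]
      show σ (t 0) = t 0 + (σ (t 0) - t 0)
      ring
    · have hd : t 1 - t 0 ≠ 0 := sub_ne_zero.2 (Ne.symm h01)
      have hd' : σ (t 1) - σ (t 0) ≠ 0 := by
        rw [sub_ne_zero]
        intro h
        exact h01 (σ.injective h).symm
      obtain ⟨a, ha⟩ : ∃ a : ZMod p, a = (σ (t 1) - σ (t 0)) / (t 1 - t 0) := ⟨_, rfl⟩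
      have ha0 : a ≠ 0 := by rw [ha]; exact div_ne_zero hd' hd
      have hmul : a * (t 1 - t 0) = σ (t 1) - σ (t 0) := by
        rw [ha]; field_simp
      obtain ⟨b, hb⟩ : ∃ b : ZMod p, b = σ (t 0) - a * t 0 := ⟨_, rfl⟩
      refine ⟨⟨fun x => a * x + b, fun x => a⁻¹ * (x - b), fun x => by field_simp; ring,
        fun x => by field_simp; ring⟩, ⟨Units.mk0 a ha0, b, fun x => rfl⟩, ?_⟩
      intro i
      fin_cases i
      · show σ (t 0) = a * t 0 + b
        rw [hb]; ring
      · show σ (t 1) = a * t 1 + b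
        have : a * t 1 = σ (t 1) - σ (t 0) + a * t 0 := by
          rw [← hmul]; ring
        rw [hb, this]; ring
  · intro σ hσ
    obtain ⟨g0, hg0, hg0'⟩ := hσ ![0, 1, 0]
    obtain ⟨a, b, hab⟩ := hg0
    refine ⟨a, b, fun x => ?_⟩
    obtain ⟨g, hg, hg'⟩ := hσ ![0, 1, x]
    have h0 : g 0 = g0 0 := by
      have e1 := hg' 0
      have e2 := hg0' 0
      simp only [Matrix.cons_val_zero] at e1 e2
      rw [← e1, e2]
    have h1 : g 1 = g0 1 := by
      have e1 := hg' 1
      have e2 := hg0' 1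
      simp only [Matrix.cons_val_one, Matrix.cons_val_zero] at e1 e2
      rw [← e1, e2]
    have hgg : g = g0 := affine_ext g g0 hg ⟨a, b, hab⟩ h0 h1
    have e3 := hg' 2
    simp only [Matrix.cons_val_two, Matrix.tail_cons, Matrix.head_cons] at e3
    rw [e3, hgg, hab]

end Cfsg.Agent.S3518
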