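import Mathlib
import Cfsg.Statements.S3532
import Cfsg.Agent.S2475
import Cfsg.Agent.Lib.Helper12.FrobAbs

set_option autoImplicit false
open Cfsg

namespace Cfsg.Agent.S3532

open Cfsg.Agent.Helper12

theorem spec_eq (p a b : ℕ) (hp : p.Prime) :
    {m : ℕ | ∃ x ∈ ({m : ℕ | m ∣ a} ∪ {p} : Set ℕ), ∃ y ∈ ({m : ℕ | m ∣ b} ∪ {p} : Set ℕ),
        m = Nat.lcm x y} =
      {m : ℕ | ∃ x ∈ {m : ℕ | m ∣ p ∨ m ∣ a ∨ m ∣ b}, ∃ y ∈ {m : ℕ | m ∣ p ∨ m ∣ a ∨ m ∣ b},
        m = Nat.lcm x y} := by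
  ext m
  constructor
  · rintro ⟨x, hx, y, hy, rfl⟩
    refine ⟨x, ?_, y, ?_, rfl⟩
    · rcases hx with hx | hx
      · exact Or.inr (Or.inl hx)
      · rw [Set.mem_singleton_iff] at hx
        rw [hx]
        exact Or.inl dvd_rfl
    · rcases hy with hy | hy
      · exact Or.inr (Or.inr hy)
      · rw [Set.mem_singleton_iff] at hy
        rw [hy]
        exact Or.inl dvd_rfl
  · have hcl : ∀ x : ℕ, (x ∣ p ∨ x ∣ a ∨ x ∣ b) → x = p ∨ x ∣ a ∨ x ∣ b := by
      rintro x (h | h | h)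
      · rcases (Nat.dvd_prime hp).1 h with h1 | h1
        · right; left
          rw [h1]
          exact one_dvd _
        · left
          exact h1
      · right; left; exact h
      · right; right; exact h
    rintro ⟨x, hx, y, hy, rfl⟩
    rcases hcl x hx with hx | hx | hx <;> rcases hcl y hy with hy | hy | hy
    · exact ⟨p, Or.inr rfl, 1, Or.inl (one_dvd _), by rw [hx, hy, Nat.lcm_self, Nat.lcm_one_right]⟩
    · exact ⟨y, Or.inl hy, p, Or.inr rfl, by rw [hx, Nat.lcm_comm]⟩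
    · exact ⟨p, Or.inr rfl, y, Or.inl hy, by rw [hx]⟩
    · exact ⟨x, Or.inl hx, p, Or.inr rfl, by rw [hy]⟩
    · exact ⟨Nat.lcm x y, Or.inl (Nat.lcm_dvd hx hy), 1, Or.inl (one_dvd _), by
        rw [Nat.lcm_one_right]⟩
    · exact ⟨x, Or.inl hx, y, Or.inl hy, rfl⟩
    · exact ⟨p, Or.inr rfl, x, Or.inl hx, by rw [hy, Nat.lcm_comm]⟩
    · exact ⟨y, Or.inl hy, x, Or.inl hx, Nat.lcm_comm _ _⟩
    · exact ⟨1, Or.inl (one_dvd _), Nat.lcm x y, Or.inl (Nat.lcm_dvd hx hy), by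
        rw [Nat.lcm_one_left]⟩

/-- a unit of prescribed order in a finite field -/
theorem exists_unit_orderOf {E : Type} [Field E] [Finite E] (m : ℕ) (hm : m ∣ Nat.card E - 1) :
    ∃ u : Eˣ, orderOf u = m := by
  obtain ⟨g, hg⟩ := IsCyclic.exists_ofOrder_eq_natCard (α := Eˣ)
  rw [Nat.card_units] at hg
  rw [← hg] at hm
  exact PSL3Spec.exists_orderOf_of_dvd g hm

/-- Let q ≥ 4 be a prime power and L = PSL(2,q). There is a finite solvable group with the same set of element orders as L × L (so L × L is not determined by its spectrum). -/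
theorem result {F : Type*} [Field F] [Fintype F] (hF : 4 ≤ Fintype.card F) :
    ∃ (H : Type) (_ : Group H) (_ : Finite H), Group.IsSolvable H ∧
      Set.range (orderOf : H → ℕ) = Set.range (orderOf : Matrix.ProjectiveSpecialLinearGroup (Fin 2) F × Matrix.ProjectiveSpecialLinearGroup (Fin 2) F → ℕ) := by
  obtain ⟨p, hchar⟩ := CharP.exists F
  haveI := hchar
  obtain ⟨k, hp, hq⟩ := FiniteField.card F p
  haveI : Fact p.Prime := ⟨hp⟩
  obtain ⟨q, hqdef⟩ : ∃ q : ℕ, q = Fintype.card F := ⟨_, rfl⟩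
  rw [← hqdef] at hq hF
  have hcardE : Nat.card (GaloisField p (2 * (k : ℕ))) = q ^ 2 := by
    rw [GaloisField.card p (2 * (k : ℕ)) (by
      have := k.pos
      omega), hq, ← pow_mul, mul_comm]
  have hq1 : 1 ≤ q := by omega
  have hfac : q ^ 2 - 1 = (q - 1) * (q + 1) := by
    obtain ⟨r, rfl⟩ : ∃ r, q = r + 1 := ⟨q - 1, by omega⟩
    rw [Nat.add_sub_cancel]
    have : (r + 1) ^ 2 = r * (r + 1 + 1) + 1 := by ring
    rw [this, Nat.add_sub_cancel]
  have hd1 : Nat.gcd 2 (q - 1) ∣ q - 1 := Nat.gcd_dvd_right _ _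
  have hd2 : Nat.gcd 2 (q - 1) ∣ q + 1 := by
    have h1 : q + 1 = (q - 1) + 2 := by omega
    rw [h1]
    exact dvd_add hd1 (Nat.gcd_dvd_left _ _)
  have ha : (q - 1) / Nat.gcd 2 (q - 1) ∣ Nat.card (GaloisField p (2 * (k : ℕ))) - 1 := by
    rw [hcardE, hfac]
    exact dvd_mul_of_dvd_left (Nat.div_dvd_of_dvd hd1) _
  have hb : (q + 1) / Nat.gcd 2 (q - 1) ∣ Nat.card (GaloisField p (2 * (k : ℕ))) - 1 := by
    rw [hcardE, hfac]
    exact dvd_mul_of_dvd_right (Nat.div_dvd_of_dvd hd2) _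
  obtain ⟨u, hu⟩ := exists_unit_orderOf _ ha
  obtain ⟨w, hw⟩ := exists_unit_orderOf _ hb
  obtain ⟨H₁, hG₁, hfin₁, hsolv₁, hspec₁⟩ := FrobAbs.exists_affine p u
  obtain ⟨H₂, hG₂, hfin₂, hsolv₂, hspec₂⟩ := FrobAbs.exists_affine p w
  refine ⟨H₁ × H₂, inferInstance, inferInstance, inferInstance, ?_⟩
  rw [FrobAbs.range_orderOf_prod, FrobAbs.range_orderOf_prod, hspec₁, hspec₂,
    Cfsg.Agent.S2475.result (F := F) p (by rw [← hqdef]; exact hF), ← hqdef, hu, hw]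
  exact spec_eq p _ _ hp

end Cfsg.Agent.S3532
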