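import Mathlib
import Cfsg.Statements.S3547
import Cfsg.Agent.Lib.Helper18.Derangement

set_option autoImplicit false
open Cfsg

namespace Cfsg.Agent.S3547

/-- Let G act faithfully and transitively on a finite set Ω, let D be the subgroup generated by the derangements, and let r_G and r_D be the numbers of orbits of G and of D on ordered pairs of points (the permutation ranks). Then r_D − 1 = (r_G − 1)·[G : D]. -/
theorem result {G Ω : Type*} [Group G] [Finite G] [MulAction G Ω] [FaithfulSMul G Ω] [Finite Ω]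
    (htrans : MulAction.IsPretransitive G Ω) :
    Nat.card (MulAction.orbitRel.Quotient ↥(Subgroup.closure {g : G | ∀ ω : Ω, g • ω ≠ ω}) (Ω × Ω)) - 1 =
      (Nat.card (MulAction.orbitRel.Quotient G (Ω × Ω)) - 1) * (Subgroup.closure {g : G | ∀ ω : Ω, g • ω ≠ ω}).index := by
  have h := Cfsg.Agent.Helper18.rank_eq (G := G) (X := Ω)
    (Subgroup.closure {g : G | ∀ ω : Ω, g • ω ≠ ω}) (fun g hg => Subgroup.subset_closure hg)
  have hidx : 0 < (Subgroup.closure {g : G | ∀ ω : Ω, g • ω ≠ ω}).index :=
    Nat.pos_of_ne_zero Subgroup.index_ne_zero_of_finite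
  generalize Nat.card (MulAction.orbitRel.Quotient ↥(Subgroup.closure {g : G | ∀ ω : Ω, g • ω ≠ ω}) (Ω × Ω)) = rD at h ⊢
  generalize Nat.card (MulAction.orbitRel.Quotient G (Ω × Ω)) = rG at h ⊢
  generalize (Subgroup.closure {g : G | ∀ ω : Ω, g • ω ≠ ω}).index = k at h hidx ⊢
  rw [Nat.sub_mul, one_mul]
  rcases Nat.eq_zero_or_pos rG with h0 | h0
  · subst h0; simp at h ⊢; omega
  · have : k ≤ rG * k := Nat.le_mul_of_pos_left k h0
    omega

end Cfsg.Agent.S3547
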