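import Mathlib
import Cfsg.Statements.S3548
import Cfsg.Agent.Lib.Helper18.Derangement

set_option autoImplicit false
open Cfsg

namespace Cfsg.Agent.S3548

open Cfsg.Agent.Helper18 in
/-- Let G act faithfully and transitively on a finite set with n ≥ 2 points and let D be the subgroup generated by the derangements. Then the index of D in G divides n − 1, and if it equals n − 1 then n is a prime power. -/
theorem result {G Ω : Type*} [Group G] [Finite G] [MulAction G Ω] [FaithfulSMul G Ω] [Finite Ω]
    (htrans : MulAction.IsPretransitive G Ω) (hΩ : 2 ≤ Nat.card Ω) :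
    (Subgroup.closure {g : G | ∀ ω : Ω, g • ω ≠ ω}).index ∣ Nat.card Ω - 1 ∧
    ((Subgroup.closure {g : G | ∀ ω : Ω, g • ω ≠ ω}).index = Nat.card Ω - 1 → IsPrimePow (Nat.card Ω)) := by
  haveI hnormal : (Subgroup.closure {g : G | ∀ ω : Ω, g • ω ≠ ω}).Normal := closure_der_normal
  have hD : ∀ g : G, (∀ ω : Ω, g • ω ≠ ω) → g ∈ Subgroup.closure {g : G | ∀ ω : Ω, g • ω ≠ ω} :=
    fun g hg => Subgroup.subset_closure hg
  have hne : Nonempty Ω := by
    rw [← Finite.card_pos_iff]; omega
  obtain ⟨a⟩ := hne
  constructor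
  · have h := index_dvd_ncard_of_invariant (Subgroup.closure {g : G | ∀ ω : Ω, g • ω ≠ ω}) hD a
      ({a}ᶜ : Set Ω) ?_ (by simp)
    · have hc : ({a}ᶜ : Set Ω).ncard = Nat.card Ω - 1 := by
        rw [Set.ncard_compl, Set.ncard_singleton]
      rwa [hc] at h
    · intro g hg x hx
      simp only [Set.mem_compl_iff, Set.mem_singleton_iff] at hx ⊢
      intro h
      apply hx
      rw [MulAction.mem_stabilizer_iff] at hg
      have : g • x = g • a := by rw [h, hg]
      exact MulAction.injective g this
  · intro hidx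
    obtain ⟨hsharp, hcard⟩ :=
      sharp_of_index_eq (Subgroup.closure {g : G | ∀ ω : Ω, g • ω ≠ ω}) hD hΩ hidx
    exact isPrimePow_of_sharp hΩ hsharp hcard

end Cfsg.Agent.S3548
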