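import Mathlib
import Cfsg.Statements.S3549
import Cfsg.Agent.Lib.Helper18.Derangement

set_option autoImplicit false
open Cfsg

namespace Cfsg.Agent.S3549

open scoped Pointwise in
open Cfsg.Agent.Helper18 MulAction in
/-- Let G act faithfully, transitively but imprimitively on a finite set with n points, and let D be the subgroup generated by the derangements. Then the index of D in G is at most √n − 1. -/
theorem result {G Ω : Type*} [Group G] [Finite G] [MulAction G Ω] [FaithfulSMul G Ω] [Finite Ω]
    (htrans : MulAction.IsPretransitive G Ω) (himp : ¬ MulAction.IsPreprimitive G Ω) :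
    ((Subgroup.closure {g : G | ∀ ω : Ω, g • ω ≠ ω}).index : ℝ) ≤ Real.sqrt (Nat.card Ω) - 1 := by
  classical
  haveI hnormal : (Subgroup.closure {g : G | ∀ ω : Ω, g • ω ≠ ω}).Normal := closure_der_normal
  have hD : ∀ g : G, (∀ ω : Ω, g • ω ≠ ω) → g ∈ Subgroup.closure {g : G | ∀ ω : Ω, g • ω ≠ ω} :=
    fun g hg => Subgroup.subset_closure hg
  set k := (Subgroup.closure {g : G | ∀ ω : Ω, g • ω ≠ ω}).index with hk
  -- a nontrivial block
  obtain ⟨B, hB, hBnt⟩ : ∃ B : Set Ω, IsBlock G B ∧ ¬ IsTrivialBlock B := by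
    by_contra hcon
    push Not at hcon
    exact himp ⟨fun {B} hB => hcon B hB⟩
  unfold IsTrivialBlock at hBnt
  rw [not_or] at hBnt
  obtain ⟨hBns, hBnu⟩ := hBnt
  have hBne : B.Nonempty := by
    rw [Set.nonempty_iff_ne_empty]
    intro h
    exact hBns (h ▸ Set.subsingleton_empty)
  obtain ⟨a, ha⟩ := hBne
  have hbm := hB.ncard_block_mul_ncard_orbit_eq ⟨a, ha⟩
  set b := B.ncard with hb
  set m := (orbit G B).ncard with hm
  have hb2 : 2 ≤ b := by
    by_contra hlt
    apply hBns
    rw [← Set.ncard_le_one_iff_subsingleton]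
    omega
  have hbn : b < Nat.card Ω := by
    by_contra hge
    apply hBnu
    apply Set.eq_of_subset_of_ncard_le (Set.subset_univ B)
    rw [Set.ncard_univ]; omega
  -- the stabilizer of a stabilizes B
  have hstabB : ∀ g ∈ stabilizer G a, g • B = B := fun g hg => hB.stabilizer_le ha hg
  -- k divides b - 1
  have h1 : k ∣ b - 1 := by
    have h := index_dvd_ncard_of_invariant (Subgroup.closure {g : G | ∀ ω : Ω, g • ω ≠ ω}) hD a
      (B \ {a}) ?_ (by simp)
    · have hc : (B \ {a}).ncard = b - 1 := by
        rw [Set.ncard_diff (by simpa using ha), Set.ncard_singleton]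
      rwa [hc] at h
    · intro g hg x hx
      have hgB := hstabB g hg
      constructor
      · rw [← hgB]; exact Set.smul_mem_smul_set hx.1
      · intro h
        apply hx.2
        simp only [Set.mem_singleton_iff] at h ⊢
        rw [mem_stabilizer_iff] at hg
        have : g • x = g • a := by rw [h, hg]
        exact MulAction.injective g this
  -- k divides n - b
  have h2 : k ∣ Nat.card Ω - b := by
    have h := index_dvd_ncard_of_invariant (Subgroup.closure {g : G | ∀ ω : Ω, g • ω ≠ ω}) hD a
      Bᶜ ?_ (by simpa using ha)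
    · rwa [Set.ncard_compl] at h
    · intro g hg x hx hgx
      apply hx
      have hgB := hstabB g hg
      rw [← hgB] at hgx
      exact (Set.smul_mem_smul_set_iff).mp hgx
  -- arithmetic
  have hm2 : 2 ≤ m := by
    by_contra hlt
    have : m ≤ 1 := by omega
    have : b * m ≤ b * 1 := Nat.mul_le_mul_left b this
    omega
  have hcop : Nat.Coprime k b := by
    have h0 : Nat.Coprime (b - 1) b := by
      obtain ⟨c, hc⟩ : ∃ c, b = c + 1 := ⟨b - 1, by omega⟩
      rw [hc, Nat.add_sub_cancel]
      simp
    exact Nat.Coprime.coprime_dvd_left h1 h0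
  have h3 : k ∣ m - 1 := by
    have : Nat.card Ω - b = b * (m - 1) := by
      rw [← hbm, Nat.mul_sub, mul_one]
    rw [this] at h2
    exact hcop.dvd_of_dvd_mul_left h2
  have hk1 : k ≤ b - 1 := Nat.le_of_dvd (by omega) h1
  have hk2 : k ≤ m - 1 := Nat.le_of_dvd (by omega) h3
  have hsq : (k + 1) * (k + 1) ≤ Nat.card Ω := by
    rw [← hbm]
    exact Nat.mul_le_mul (by omega) (by omega)
  have : ((k : ℝ) + 1) ≤ Real.sqrt (Nat.card Ω) := by
    apply Real.le_sqrt_of_sq_le
    have : (((k + 1) * (k + 1) : ℕ) : ℝ) ≤ (Nat.card Ω : ℝ) := by exact_mod_cast hsq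
    push_cast at this
    nlinarith [this]
  linarith

end Cfsg.Agent.S3549
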