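import Mathlib
import Cfsg.Statements.S3554

set_option autoImplicit false
open Cfsg

namespace Cfsg.Agent.S3554

/-- In a finite cyclic group, an element killed by `p` lies in the subgroup generated by any
element of order `p`. -/
theorem mem_zpowers_of_pow_eq_one {C : Type*} [Group C] [Finite C] [IsCyclic C] {p : ℕ} (hp : 0 < p)
    (y x : C) (hy : orderOf y = p) (hx : x ^ p = 1) : x ∈ Subgroup.zpowers y := by
  classical
  haveI : Fintype C := Fintype.ofFinite C
  set S : Finset C := Finset.univ.filter (fun a => a ^ p = 1) with hS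
  set T : Finset C := (Subgroup.zpowers y : Set C).toFinset with hT
  have hTS : T ⊆ S := by
    intro z hz
    rw [hT, Set.mem_toFinset] at hz
    obtain ⟨k, rfl⟩ := hz
    rw [hS, Finset.mem_filter]
    refine ⟨Finset.mem_univ _, ?_⟩
    change (y ^ k) ^ p = 1
    rw [← zpow_natCast, ← zpow_mul, mul_comm, zpow_mul, zpow_natCast, ← hy, pow_orderOf_eq_one, one_zpow]
  have hcardT : T.card = p := by
    rw [hT, Set.toFinset_card, ← hy]
    exact Fintype.card_zpowers
  have hcardS : S.card ≤ p := IsCyclic.card_pow_eq_one_le hp
  have hEq : T = S := Finset.eq_of_subset_of_card_le hTS (by rw [hcardT]; exact hcardS)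
  have : x ∈ S := by rw [hS, Finset.mem_filter]; exact ⟨Finset.mem_univ _, hx⟩
  rw [← hEq, hT, Set.mem_toFinset] at this
  exact this

/-- Let G act faithfully and transitively on a finite set and suppose G has a non-trivial cyclic normal subgroup. Then some element of G of prime order fixes no point. -/
theorem result {G Ω : Type*} [Group G] [Finite G] [MulAction G Ω] [FaithfulSMul G Ω] [Finite Ω]
    (htrans : MulAction.IsPretransitive G Ω) (C : Subgroup G) (hC : C.Normal) (hC1 : C ≠ ⊥) (hcyc : IsCyclic ↥C) :
    ∃ g : G, (orderOf g).Prime ∧ ∀ ω : Ω, g • ω ≠ ω := by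
  classical
  -- a prime dividing the order of C and an element of that order
  have hcard : Nat.card C ≠ 1 := by
    intro h
    exact hC1 (Subgroup.card_eq_one.mp h)
  obtain ⟨p, hp, hpdvd⟩ := Nat.exists_prime_and_dvd hcard
  haveI : Fact p.Prime := ⟨hp⟩
  obtain ⟨x, hx⟩ := exists_prime_orderOf_dvd_card' p hpdvd
  refine ⟨(x : G), ?_, ?_⟩
  · rw [Subgroup.orderOf_coe, hx]; exact hp
  · intro ω hω
    -- then x fixes every point, so x = 1
    have hall : ∀ ω' : Ω, (x : G) • ω' = ω' := by
      intro ω'
      obtain ⟨g, rfl⟩ := MulAction.exists_smul_eq G ω ω'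
      -- y = g x g⁻¹ is an element of C of order p
      have hymem : g * (x : G) * g⁻¹ ∈ C := hC.conj_mem _ x.2 g
      set y : C := ⟨g * (x : G) * g⁻¹, hymem⟩ with hy
      have hyord : orderOf y = p := by
        rw [← Subgroup.orderOf_coe, hy]
        change orderOf (g * (x : G) * g⁻¹) = p
        have h1 : orderOf (MulAut.conj g (x : G)) = orderOf (x : G) := MulEquiv.orderOf_eq (MulAut.conj g) (x : G)
        rw [MulAut.conj_apply] at h1
        rw [h1, Subgroup.orderOf_coe, hx]
      have hxp : x ^ p = 1 := by rw [← hx]; exact pow_orderOf_eq_one x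
      have hmem := mem_zpowers_of_pow_eq_one hp.pos y x hyord hxp
      obtain ⟨k, hk⟩ := hmem
      -- y fixes g • ω
      have hyfix : (y : G) • (g • ω) = g • ω := by
        change (g * (x : G) * g⁻¹) • (g • ω) = g • ω
        rw [mul_smul, mul_smul, inv_smul_smul, hω]
      have hzfix : ∀ k : ℤ, ((y : G) ^ k) • (g • ω) = g • ω := by
        intro k
        have : (y : G) ^ k ∈ MulAction.stabilizer G (g • ω) :=
          Subgroup.zpow_mem _ (MulAction.mem_stabilizer_iff.mpr hyfix) k
        exact MulAction.mem_stabilizer_iff.mp this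
      have : (x : G) = (y : G) ^ k := by
        have := congrArg (Subtype.val) hk
        simpa using this.symm
      rw [this]; exact hzfix k
    have hx1 : (x : G) = 1 := by
      apply FaithfulSMul.eq_of_smul_eq_smul (α := Ω)
      intro a
      rw [hall a, one_smul]
    have : orderOf x = 1 := by
      rw [orderOf_eq_one_iff]
      exact Subtype.ext hx1
    rw [hx] at this
    exact hp.one_lt.ne' this

end Cfsg.Agent.S3554
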