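import Mathlib
import Cfsg.Agent.S0035
import Cfsg.Statements.S3555
-- import your own Cfsg.Agent.* helpers here

set_option autoImplicit false
open Cfsg

namespace Cfsg.Agent.S3555

open MulAction
open scoped Pointwise

theorem fix_card_dichotomy {G Ω : Type*} [Group G] [Fintype G] [DecidableEq G] [MulAction G Ω]
    [Fintype Ω] [DecidableEq Ω] [htrans : IsPretransitive G Ω] [hne : Nonempty Ω]
    (hinv : ∀ g : G, (∀ ω : Ω, g • ω ≠ ω) → g * g = 1) (g₀ : G) (hg₀ : ∃ ω : Ω, g₀ • ω = ω) :
    (Finset.univ.filter (fun ω : Ω => g₀ • ω = ω)).card = 1 ∨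
    (Finset.univ.filter (fun ω : Ω => g₀ • ω = ω)).card = Fintype.card Ω := by
  classical
  let fx : G → Finset Ω := fun g => Finset.univ.filter (fun ω : Ω => g • ω = ω)
  let D : Finset G := Finset.univ.filter (fun g : G => ∀ ω : Ω, g • ω ≠ ω)
  have hB : ∑ g : G, (fx g).card = Fintype.card G := by
    have h1 := sum_card_fixedBy_eq_card_orbits_mul_card_group G Ω
    have h2 : Fintype.card (Quotient (orbitRel G Ω)) = 1 := by
      rw [Fintype.card_eq_one_iff]
      obtain ⟨ω₀⟩ := hne
      refine ⟨Quotient.mk'' ω₀, fun y => ?_⟩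
      induction y using Quotient.inductionOn' with
      | h ω =>
        apply Quotient.sound'
        exact exists_smul_eq G ω₀ ω
    rw [h2, one_mul] at h1
    rw [← h1]
    apply Finset.sum_congr rfl
    intro g _
    exact (Fintype.card_of_subtype (fx g) (fun x => by simp [fx, mem_fixedBy])).symm
  let X : Finset (Σ _ : G, Ω × Ω) := Finset.univ.sigma (fun g => (fx g).offDiag)
  have hX : (X.card : ℤ) =
      ∑ g : G, (((fx g).card : ℤ) * ((fx g).card : ℤ) - ((fx g).card : ℤ)) := by
    rw [Finset.card_sigma]
    push_cast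
    apply Finset.sum_congr rfl
    intro g _
    rw [Finset.offDiag_card, Nat.cast_sub (Nat.le_mul_self _)]
    push_cast
    ring
  have hsum : ∑ g : G, (((fx g).card : ℤ) - 1) * (((fx g).card : ℤ) - Fintype.card Ω) =
      X.card := by
    rw [hX]
    have e : ∀ g : G, (((fx g).card : ℤ) - 1) * (((fx g).card : ℤ) - Fintype.card Ω) =
        (((fx g).card : ℤ) * (fx g).card - (fx g).card) - (Fintype.card Ω : ℤ) * (fx g).card
          + Fintype.card Ω := by
      intro g; ring
    simp_rw [e]
    rw [Finset.sum_add_distrib, Finset.sum_sub_distrib, ← Finset.mul_sum]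
    have hB' : ∑ g : G, ((fx g).card : ℤ) = Fintype.card G := by exact_mod_cast hB
    rw [hB']
    simp [Finset.sum_const, Finset.card_univ]
    ring
  -- the injection
  have hD : ∀ t, t ∈ D ↔ ∀ ω : Ω, t • ω ≠ ω := by
    intro t; simp [D]
  let c : Ω → Ω → G := fun α β => if h : ∃ s ∈ D, s • α = β then h.choose else 1
  have hc : ∀ t ∈ D, ∀ α : Ω, c α (t • α) ∈ D ∧ c α (t • α) • α = t • α := by
    intro t ht α
    have h : ∃ s ∈ D, s • α = t • α := ⟨t, ht, rfl⟩
    have : c α (t • α) = h.choose := by simp only [c]; rw [dif_pos h]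
    rw [this]
    exact h.choose_spec
  have hsq : ∀ t ∈ D, ∀ α : Ω, t • t • α = α := by
    intro t ht α
    rw [smul_smul, hinv t ((hD t).mp ht), one_smul]
  have hle : Fintype.card Ω * D.card ≤ X.card := by
    have : (D ×ˢ (Finset.univ : Finset Ω)).card ≤ X.card := by
      apply Finset.card_le_card_of_injOn
        (fun p : G × Ω => (⟨(c p.2 (p.1 • p.2))⁻¹ * p.1, (p.2, p.1 • p.2)⟩ : Σ _ : G, Ω × Ω))
      · rintro ⟨t, α⟩ hp
        have ht : t ∈ D := (Finset.mem_product.mp (Finset.mem_coe.mp hp)).1
        obtain ⟨hs1, hs2⟩ := hc t ht α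
        simp only [X, Finset.coe_sigma, Finset.coe_univ]
        show (⟨(c α (t • α))⁻¹ * t, (α, t • α)⟩ : Σ _ : G, Ω × Ω) ∈ _
        generalize c α (t • α) = s at hs1 hs2 ⊢
        rw [Set.mem_sigma_iff]
        refine ⟨Set.mem_univ _, ?_⟩
        simp only [Finset.mem_coe, Finset.mem_offDiag, fx, Finset.mem_filter, Finset.mem_univ,
          true_and]
        refine ⟨?_, ?_, ?_⟩
        · rw [mul_smul, ← hs2, inv_smul_smul]
        · rw [mul_smul, hsq t ht α, inv_smul_eq_iff, ← hs2, hsq s hs1 α]
        · exact fun e => ((hD t).mp ht α) e.symm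
      · rintro ⟨t, α⟩ hp ⟨t', α'⟩ hp' heq
        have ht : t ∈ D := (Finset.mem_product.mp (Finset.mem_coe.mp hp)).1
        have ht' : t' ∈ D := (Finset.mem_product.mp (Finset.mem_coe.mp hp')).1
        simp only [Sigma.mk.inj_iff, heq_eq_eq, Prod.mk.injEq] at heq
        obtain ⟨h1, h2, h3⟩ := heq
        subst h2
        rw [h3] at h1
        have h4 : t = t' := by
          have := congrArg (fun x => c α (t' • α) * x) h1
          simpa using this
        rw [h4]
    rw [Finset.card_product, Finset.card_univ, mul_comm] at this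
    exact this
  -- split the sum
  have hsplit := Finset.sum_filter_add_sum_filter_not (Finset.univ : Finset G) (fun g => g ∈ D)
    (fun g => (((fx g).card : ℤ) - 1) * (((fx g).card : ℤ) - Fintype.card Ω))
  have hDsum : ∑ g ∈ Finset.univ.filter (fun g => g ∈ D),
      (((fx g).card : ℤ) - 1) * (((fx g).card : ℤ) - Fintype.card Ω) =
      (Fintype.card Ω : ℤ) * D.card := by
    have : ∀ g ∈ Finset.univ.filter (fun g => g ∈ D),
        (((fx g).card : ℤ) - 1) * (((fx g).card : ℤ) - Fintype.card Ω) = Fintype.card Ω := by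
      intro g hg
      have hgD : g ∈ D := (Finset.mem_filter.mp hg).2
      have h0 : (fx g).card = 0 := by
        rw [Finset.card_eq_zero, Finset.filter_eq_empty_iff]
        intro ω _
        exact (hD g).mp hgD ω
      rw [h0]; push_cast; ring
    rw [Finset.sum_congr rfl this, Finset.sum_const]
    have : (Finset.univ.filter (fun g => g ∈ D)) = D := by
      ext g; simp
    rw [this]
    simp [mul_comm]
  have hnonpos : ∀ g ∈ Finset.univ.filter (fun g => ¬ g ∈ D),
      (((fx g).card : ℤ) - 1) * (((fx g).card : ℤ) - Fintype.card Ω) ≤ 0 := by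
    intro g hg
    have hgD : ¬ g ∈ D := (Finset.mem_filter.mp hg).2
    have h1 : 1 ≤ (fx g).card := by
      rw [Nat.one_le_iff_ne_zero]
      intro h0
      apply hgD
      rw [hD]
      intro ω hω
      rw [Finset.card_eq_zero, Finset.filter_eq_empty_iff] at h0
      exact h0 (Finset.mem_univ ω) hω
    have h2 : (fx g).card ≤ Fintype.card Ω := Finset.card_le_univ _
    apply mul_nonpos_of_nonneg_of_nonpos
    · have : (1 : ℤ) ≤ (fx g).card := by exact_mod_cast h1
      linarith
    · have : ((fx g).card : ℤ) ≤ Fintype.card Ω := by exact_mod_cast h2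
      linarith
  have hrest : ∑ g ∈ Finset.univ.filter (fun g => ¬ g ∈ D),
      (((fx g).card : ℤ) - 1) * (((fx g).card : ℤ) - Fintype.card Ω) = 0 := by
    have h1 : (Fintype.card Ω : ℤ) * D.card ≤ X.card := by exact_mod_cast hle
    have h2 := Finset.sum_nonpos hnonpos
    rw [hDsum, hsum] at hsplit
    linarith
  have hzero := (Finset.sum_eq_zero_iff_of_nonpos hnonpos).mp hrest
  have hg₀D : g₀ ∈ Finset.univ.filter (fun g => ¬ g ∈ D) := by
    rw [Finset.mem_filter]
    refine ⟨Finset.mem_univ _, ?_⟩
    rw [hD]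
    intro h
    obtain ⟨ω, hω⟩ := hg₀
    exact h ω hω
  have h0 := hzero g₀ hg₀D
  rcases mul_eq_zero.mp h0 with h | h
  · left
    have : ((fx g₀).card : ℤ) = 1 := by linarith
    exact_mod_cast this
  · right
    have : ((fx g₀).card : ℤ) = Fintype.card Ω := by linarith
    exact_mod_cast this

theorem comm_of_sq {G : Type*} [Group G] (a b : G) (ha : a ^ 2 = 1) (hb : b ^ 2 = 1)
    (hab : (a * b) ^ 2 = 1) : a * b = b * a := by
  have ha' : a⁻¹ = a := by
    rw [pow_two] at ha; exact (eq_inv_of_mul_eq_one_left ha).symm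
  have hb' : b⁻¹ = b := by
    rw [pow_two] at hb; exact (eq_inv_of_mul_eq_one_left hb).symm
  have hab' : (a * b)⁻¹ = a * b := by
    rw [pow_two] at hab; exact (eq_inv_of_mul_eq_one_left hab).symm
  calc a * b = (a * b)⁻¹ := hab'.symm
    _ = b⁻¹ * a⁻¹ := mul_inv_rev a b
    _ = b * a := by rw [ha', hb']

/-- Let G act faithfully and transitively on a finite set and suppose every element of G fixing no point is an involution. Then either G is an elementary abelian 2-group, or G is a Frobenius group whose Frobenius kernel is an elementary abelian 2-group: G has a Frobenius complement H, and the elements lying in no conjugate of H, together with the identity, pairwise commute and square to the identity. -/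
theorem result {G Ω : Type*} [Group G] [Finite G] [MulAction G Ω] [FaithfulSMul G Ω] [Finite Ω]
    (htrans : MulAction.IsPretransitive G Ω) (hinv : ∀ g : G, (∀ ω : Ω, g • ω ≠ ω) → orderOf g = 2) :
    (IsMulCommutative G ∧ ∀ g : G, g ^ 2 = 1) ∨
    (∃ H : Subgroup G, Cfsg.IsFrobeniusComplement H ∧
      (∀ x ∈ Cfsg.frobeniusKernel H, x ^ 2 = 1) ∧
      ∀ x ∈ Cfsg.frobeniusKernel H, ∀ y ∈ Cfsg.frobeniusKernel H, x * y = y * x) := by
  classical
  haveI := Fintype.ofFinite G
  haveI := Fintype.ofFinite Ω
  rcases isEmpty_or_nonempty Ω with hemp | hne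
  · left
    have htriv : ∀ g : G, g = 1 := fun g =>
      FaithfulSMul.eq_of_smul_eq_smul (α := Ω) (fun ω => hemp.elim ω)
    refine ⟨⟨⟨fun a b => by rw [htriv a, htriv b]⟩⟩, fun g => by rw [htriv g, one_pow]⟩
  · have hinv' : ∀ g : G, (∀ ω : Ω, g • ω ≠ ω) → g * g = 1 := by
      intro g hg
      have h2 := hinv g hg
      rw [← pow_two, ← h2, pow_orderOf_eq_one]
    have hdich : ∀ g : G, ∀ a b : Ω, a ≠ b → g • a = a → g • b = b → g = 1 := by
      intro g a b hab ha hb
      rcases fix_card_dichotomy hinv' g ⟨a, ha⟩ with h | h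
      · exfalso
        rw [Finset.card_eq_one] at h
        obtain ⟨x, hx⟩ := h
        have h1 : a ∈ ({x} : Finset Ω) := by rw [← hx]; simp [ha]
        have h2 : b ∈ ({x} : Finset Ω) := by rw [← hx]; simp [hb]
        rw [Finset.mem_singleton] at h1 h2
        exact hab (h1.trans h2.symm)
      · apply FaithfulSMul.eq_of_smul_eq_smul (α := Ω)
        intro ω
        rw [one_smul]
        have hall : Finset.univ.filter (fun ω : Ω => g • ω = ω) = Finset.univ :=
          Finset.eq_univ_of_card _ h
        have hω : ω ∈ Finset.univ.filter (fun ω : Ω => g • ω = ω) := by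
          rw [hall]; exact Finset.mem_univ _
        exact (Finset.mem_filter.mp hω).2
    obtain ⟨α⟩ := hne
    by_cases hH : stabilizer G α = ⊥
    · left
      have hexp : ∀ g : G, g ^ 2 = 1 := by
        intro g
        by_cases hg1 : g = 1
        · rw [hg1, one_pow]
        · have hder : ∀ ω : Ω, g • ω ≠ ω := by
            intro ω hω
            obtain ⟨x, hx⟩ := exists_smul_eq G α ω
            have hmem : x⁻¹ * g * x ∈ stabilizer G α := by
              rw [mem_stabilizer_iff, mul_smul, mul_smul, hx, hω, ← hx, inv_smul_smul]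
            rw [hH, Subgroup.mem_bot] at hmem
            apply hg1
            have h3 := congrArg (fun y => x * y * x⁻¹) hmem
            simpa [mul_assoc] using h3
          rw [← hinv g hder]; exact pow_orderOf_eq_one g
      exact ⟨⟨⟨fun a b => comm_of_sq a b (hexp a) (hexp b) (hexp (a * b))⟩⟩, hexp⟩
    · right
      have hHtop : stabilizer G α ≠ ⊤ := by
        intro htop
        apply hH
        rw [Subgroup.eq_bot_iff_forall]
        intro g hg
        apply FaithfulSMul.eq_of_smul_eq_smul (α := Ω)
        intro ω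
        obtain ⟨x, hx⟩ := exists_smul_eq G α ω
        have hxH : x ∈ stabilizer G α := by rw [htop]; trivial
        have hxα : x • α = α := hxH
        have hgω : g • α = α := hg
        rw [one_smul, ← hx]
        have hgx : x⁻¹ * g * x ∈ stabilizer G α := by rw [htop]; trivial
        have h5 := mem_stabilizer_iff.mp hgx
        rw [mul_smul, mul_smul, inv_smul_eq_iff] at h5
        exact h5
      have hF : Cfsg.IsFrobeniusComplement (stabilizer G α) := by
        refine ⟨hH, hHtop, ?_⟩
        intro g hg
        rw [Subgroup.eq_bot_iff_forall]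
        intro x hx
        obtain ⟨hx1, hx2⟩ := Subgroup.mem_inf.mp hx
        rw [Subgroup.mem_pointwise_smul_iff_inv_smul_mem] at hx2
        have h4 := mem_stabilizer_iff.mp hx2
        rw [MulAut.smul_def, MulAut.conj_inv_apply, mul_smul, mul_smul, inv_smul_eq_iff] at h4
        exact hdich x α (g • α) (fun e => hg e.symm) hx1 h4
      have hker : ∀ x ∈ Cfsg.frobeniusKernel (stabilizer G α), x ^ 2 = 1 := by
        intro x hx
        rcases hx with h | h
        · rw [h, one_pow]
        · have hder : ∀ ω : Ω, x • ω ≠ ω := by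
            intro ω hω
            obtain ⟨g, hg⟩ := exists_smul_eq G α ω
            apply h g
            rw [Subgroup.mem_pointwise_smul_iff_inv_smul_mem]
            apply mem_stabilizer_iff.mpr
            rw [MulAut.smul_def, MulAut.conj_inv_apply, mul_smul, mul_smul, hg, hω, ← hg,
              inv_smul_smul]
          rw [← hinv x hder]; exact pow_orderOf_eq_one x
      refine ⟨stabilizer G α, hF, hker, ?_⟩
      obtain ⟨N, hNset, -, -⟩ := S0035.result (stabilizer G α) hF
      intro x hx y hy
      have hxy : x * y ∈ Cfsg.frobeniusKernel (stabilizer G α) := by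
        rw [← hNset] at hx hy ⊢
        exact N.mul_mem hx hy
      exact comm_of_sq x y (hker x hx) (hker y hy) (hker _ hxy)

end Cfsg.Agent.S3555
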