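import Mathlib
import Cfsg.Statements.S3559
import Cfsg.Agent.Lib.Helper19.SchurRing2

set_option autoImplicit false
open Cfsg

namespace Cfsg.Agent.S3559

open Cfsg.Agent.Helper19.SchurRing

/-- Let G act faithfully and transitively on a finite set whose number of points n ≥ 2 is not a prime power, and suppose G has a cyclic subgroup acting regularly (transitively with trivial point stabilizers). Then G is imprimitive or doubly transitive. -/
theorem result {G Ω : Type*} [Group G] [Finite G] [MulAction G Ω] [FaithfulSMul G Ω] [Finite Ω]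
    (htrans : MulAction.IsPretransitive G Ω) (hn : 2 ≤ Nat.card Ω) (hnp : ¬ IsPrimePow (Nat.card Ω))
    (C : Subgroup G) (hcyc : IsCyclic ↥C) (hC : MulAction.IsPretransitive ↥C Ω ∧ ∀ a : Ω, MulAction.stabilizer ↥C a = ⊥) :
    ¬ MulAction.IsPreprimitive G Ω ∨ MulAction.IsMultiplyPretransitive G Ω 2 := by
  classical
  have _ := htrans
  by_contra hcon
  push Not at hcon
  obtain ⟨hprim, h2⟩ := hcon
  have hn1 : Nat.card Ω ≠ 1 := by omega
  obtain ⟨p, hp, hpd⟩ := Nat.exists_prime_and_dvd hn1
  have hplt : p < Nat.card Ω := by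
    rcases lt_or_eq_of_le (Nat.le_of_dvd (by omega) hpd) with h | h
    · exact h
    · exfalso; apply hnp; rw [← h]; exact hp.isPrimePow
  have hpf : Fact p.Prime := ⟨hp⟩
  let _ : CommGroup ↥C := IsCyclic.commGroup
  have hne : Nonempty Ω := (Nat.card_pos_iff.1 (by omega)).1
  obtain ⟨ω0⟩ := hne
  have hreg : Function.Bijective fun h : ↥C => C.subtype h • ω0 := by
    constructor
    · intro a b hab
      have hab' : (a • ω0 : Ω) = b • ω0 := hab
      have hmem : (a⁻¹ * b) ∈ MulAction.stabilizer ↥C ω0 := by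
        rw [MulAction.mem_stabilizer_iff, mul_smul, ← hab', inv_smul_smul]
      rw [hC.2 ω0, Subgroup.mem_bot] at hmem
      exact inv_mul_eq_one.1 hmem
    · intro ω
      obtain ⟨c, hc⟩ := hC.1.exists_smul_eq ω0 ω
      exact ⟨c, hc⟩
  have hcard : Nat.card ↥C = Nat.card Ω := Nat.card_congr (Equiv.ofBijective _ hreg)
  let _ : Fintype ↥C := Fintype.ofFinite _
  exact schur_gen C.subtype ω0 hreg (hcard ▸ hpd) (hcard ▸ hplt) h2 hprim

end Cfsg.Agent.S3559
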