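import Mathlib
import Cfsg.Statements.S3560

set_option autoImplicit false
set_option linter.style.haveILetI false
set_option linter.unusedSectionVars false

open Cfsg

namespace Cfsg.Agent.S3560

open Equiv MulAction

universe u v

section hamming

variable {ι : Type u} [Fintype ι] [DecidableEq ι] {α : Type v} [Fintype α] [DecidableEq α]

/-- The group of Hamming isometries. -/
def isoGroup (ι : Type u) [Fintype ι] [DecidableEq ι] (α : Type v) [DecidableEq α] :
    Subgroup (Perm (ι → α)) where
  carrier := {σ | ∀ x y, hammingDist (σ x) (σ y) = hammingDist x y}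
  mul_mem' := by
    intro a b ha hb x y
    show hammingDist (a (b x)) (a (b y)) = _
    rw [ha, hb]
  one_mem' := fun _ _ => rfl
  inv_mem' := by
    intro a ha x y
    have := ha (a.symm x) (a.symm y)
    rw [Equiv.apply_symm_apply, Equiv.apply_symm_apply] at this
    exact this.symm

theorem mem_isoGroup (σ : Perm (ι → α)) :
    σ ∈ isoGroup ι α ↔ ∀ x y, hammingDist (σ x) (σ y) = hammingDist x y := Iff.rfl

/-- Coordinatewise permutations. -/
def coordMap (π : ι → Perm α) : Perm (ι → α) := Equiv.piCongrRight π

@[simp]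
theorem coordMap_apply (π : ι → Perm α) (x : ι → α) (i : ι) : coordMap π x i = π i (x i) := rfl

theorem coordMap_mem (π : ι → Perm α) : coordMap π ∈ isoGroup ι α := by
  intro x y
  exact hammingDist_comp (fun i => (π i : α → α)) (fun i => (π i).injective)

/-- Permuting the coordinates. -/
def reindex (τ : Perm ι) : Perm (ι → α) where
  toFun x := x ∘ τ
  invFun x := x ∘ τ.symm
  left_inv x := by ext i; simp
  right_inv x := by ext i; simp

@[simp]
theorem reindex_apply (τ : Perm ι) (x : ι → α) (i : ι) : reindex τ x i = x (τ i) := rfl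

theorem reindex_mem (τ : Perm ι) : reindex (α := α) τ ∈ isoGroup ι α := by
  intro x y
  unfold hammingDist
  apply Finset.card_bij (fun i _ => τ i)
  · intro i hi
    rw [Finset.mem_filter] at hi ⊢
    exact ⟨Finset.mem_univ _, hi.2⟩
  · intro i _ j _ h
    exact τ.injective h
  · intro j hj
    rw [Finset.mem_filter] at hj
    refine ⟨τ.symm j, ?_, by simp⟩
    rw [Finset.mem_filter]
    refine ⟨Finset.mem_univ _, ?_⟩
    simpa using hj.2

theorem hammingDist_update (u : ι → α) (i : ι) (c : α) (hc : c ≠ u i) :
    hammingDist u (Function.update u i c) = 1 := by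
  unfold hammingDist
  rw [Finset.card_eq_one]
  refine ⟨i, ?_⟩
  ext k
  simp only [Finset.mem_filter, Finset.mem_univ, true_and, Finset.mem_singleton]
  constructor
  · intro h
    by_contra hk
    rw [Function.update_of_ne hk] at h
    exact h rfl
  · rintro rfl
    rw [Function.update_self]
    exact hc.symm

theorem exists_update_of_dist_one (u u' : ι → α) (h : hammingDist u u' = 1) :
    ∃ i c, c ≠ u i ∧ u' = Function.update u i c := by
  unfold hammingDist at h
  rw [Finset.card_eq_one] at h
  obtain ⟨i, hi⟩ := h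
  have hi' : ∀ k, u k ≠ u' k ↔ k = i := by
    intro k
    have := Finset.ext_iff.mp hi k
    simpa using this
  refine ⟨i, u' i, fun h => (hi' i).mpr rfl h.symm, ?_⟩
  funext k
  by_cases hk : k = i
  · subst hk
    rw [Function.update_self]
  · rw [Function.update_of_ne hk]
    by_contra hne
    exact hk ((hi' k).mp (fun h => hne h.symm))

theorem exists_perm_two {a b a' b' : α} (hab : a ≠ b) (hab' : a' ≠ b') :
    ∃ π : Perm α, π a = a' ∧ π b = b' := by
  refine ⟨swap (swap a a' b) b' * swap a a', ?_, ?_⟩
  · rw [Perm.mul_apply, swap_apply_left]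
    apply swap_apply_of_ne_of_ne
    · intro h
      have : swap a a' a = swap a a' b := by rw [swap_apply_left]; exact h
      exact hab ((swap a a').injective this)
    · exact hab'
  · rw [Perm.mul_apply, swap_apply_left]

theorem exists_third (hα : 3 ≤ Fintype.card α) (a b : α) : ∃ c : α, c ≠ a ∧ c ≠ b := by
  have h : ({a, b} : Finset α).card < (Finset.univ : Finset α).card := by
    calc ({a, b} : Finset α).card ≤ 2 := Finset.card_le_two
      _ < 3 := by norm_num
      _ ≤ _ := hα
  obtain ⟨c, _, hc⟩ := Finset.exists_mem_notMem_of_card_lt_card h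
  refine ⟨c, fun h => hc (by simp [h]), fun h => hc (by simp [h])⟩

/-- Step 1: from two distinct points to two points at distance one. -/
theorem step1 (hα : 3 ≤ Fintype.card α) (x y : ι → α) (hxy : x ≠ y) :
    ∃ σ ∈ isoGroup ι α, σ x = x ∧ hammingDist y (σ y) = 1 := by
  obtain ⟨i, hi⟩ := Function.ne_iff.mp hxy
  obtain ⟨c, hcx, hcy⟩ := exists_third hα (x i) (y i)
  refine ⟨coordMap (fun k => if k = i then swap (y i) c else 1), coordMap_mem _, ?_, ?_⟩
  · funext k
    rw [coordMap_apply]
    by_cases hk : k = i
    · subst hk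
      rw [if_pos rfl]
      exact swap_apply_of_ne_of_ne hi hcx.symm
    · rw [if_neg hk]; rfl
  · have : coordMap (fun k => if k = i then swap (y i) c else 1) y = Function.update y i c := by
      funext k
      rw [coordMap_apply]
      by_cases hk : k = i
      · subst hk
        rw [if_pos rfl, swap_apply_left, Function.update_self]
      · rw [if_neg hk, Function.update_of_ne hk]; rfl
    rw [this]
    exact hammingDist_update y i c hcy

/-- Step 2: the stabiliser of a point is transitive on its neighbours. -/
theorem step2 (u u' w : ι → α) (h1 : hammingDist u u' = 1) (h2 : hammingDist u w = 1) :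
    ∃ σ ∈ isoGroup ι α, σ u = u ∧ σ u' = w := by
  obtain ⟨i, c, hc, rfl⟩ := exists_update_of_dist_one u u' h1
  obtain ⟨j, d, hd, rfl⟩ := exists_update_of_dist_one u w h2
  obtain ⟨πj, hπj1, hπj2⟩ := exists_perm_two (a := u i) (b := c) (a' := u j) (b' := d) hc.symm hd.symm
  set π : ι → Perm α := fun k => if k = j then πj else if k = i then swap (u j) (u i) else 1 with hπ
  refine ⟨coordMap π * reindex (swap i j), mul_mem (coordMap_mem _) (reindex_mem _), ?_, ?_⟩
  · funext k
    rw [Perm.mul_apply, coordMap_apply, reindex_apply]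
    by_cases hkj : k = j
    · subst hkj
      rw [hπ]
      simp only [if_true]
      rw [swap_apply_right]
      exact hπj1
    · by_cases hki : k = i
      · subst hki
        rw [hπ]
        simp only [if_neg hkj, if_true]
        rw [swap_apply_left, swap_apply_left]
      · rw [hπ]
        simp only [if_neg hkj, if_neg hki]
        rw [swap_apply_of_ne_of_ne hki hkj]
        rfl
  · funext k
    rw [Perm.mul_apply, coordMap_apply, reindex_apply]
    by_cases hkj : k = j
    · subst hkj
      rw [hπ]
      simp only [if_true]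
      rw [swap_apply_right, Function.update_self, Function.update_self]
      exact hπj2
    · by_cases hki : k = i
      · subst hki
        rw [hπ]
        simp only [if_neg hkj, if_true]
        rw [swap_apply_left, Function.update_of_ne (Ne.symm hkj), Function.update_of_ne hkj,
          swap_apply_left]
      · rw [hπ]
        simp only [if_neg hkj, if_neg hki]
        rw [swap_apply_of_ne_of_ne hki hkj, Function.update_of_ne hki, Function.update_of_ne hkj]
        rfl

/-- Transitivity of the isometry group. -/
theorem exists_iso_map (x y : ι → α) : ∃ σ ∈ isoGroup ι α, σ x = y := by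
  refine ⟨coordMap (fun k => swap (x k) (y k)), coordMap_mem _, ?_⟩
  funext k
  rw [coordMap_apply, swap_apply_left]


theorem smul_def' (σ : isoGroup ι α) (x : ι → α) : σ • x = (σ : Perm (ι → α)) x := rfl

theorem isPretransitive_isoGroup : IsPretransitive (isoGroup ι α) (ι → α) := by
  constructor
  intro x y
  obtain ⟨σ, hσ, h⟩ := exists_iso_map x y
  exact ⟨⟨σ, hσ⟩, h⟩

theorem isPreprimitive_isoGroup (hα : 3 ≤ Fintype.card α) :
    IsPreprimitive (isoGroup ι α) (ι → α) := by
  haveI := isPretransitive_isoGroup (ι := ι) (α := α)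
  refine ⟨?_⟩
  intro B hB
  by_cases hsub : B.Subsingleton
  · exact Or.inl hsub
  right
  rw [Set.not_subsingleton_iff] at hsub
  obtain ⟨x, hx, y, hy, hxy⟩ := hsub
  -- fixing a point of `B` fixes `B`
  have hfix : ∀ σ ∈ isoGroup ι α, ∀ a ∈ B, σ a ∈ B → ∀ b ∈ B, σ b ∈ B := by
    intro σ hσ a ha hσa b hb
    have h := hB.smul_eq_of_mem (g := (⟨σ, hσ⟩ : isoGroup ι α)) ha hσa
    rw [← h]
    exact Set.smul_mem_smul_set hb
  -- two points at distance one
  obtain ⟨σ, hσ, hσx, hd⟩ := step1 hα x y hxy
  have hy' : σ y ∈ B := hfix σ hσ x hx (by rw [hσx]; exact hx) y hy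
  -- closure under neighbours
  have hnb : ∀ u ∈ B, ∀ w, hammingDist u w = 1 → w ∈ B := by
    intro u hu w hw
    obtain ⟨t, ht, hty⟩ := exists_iso_map y u
    have hu' : t (σ y) ∈ B := hfix t ht y hy (by rw [hty]; exact hu) _ hy'
    have hd' : hammingDist u (t (σ y)) = 1 := by
      rw [← hty, ht, hd]
    obtain ⟨s, hs, hsu, hsw⟩ := step2 u (t (σ y)) w hd' hw
    have := hfix s hs u hu (by rw [hsu]; exact hu) _ hu'
    rwa [hsw] at this
  -- connectivity
  have hall : ∀ S : Finset ι, ∀ w : ι → α, (∀ k, k ∉ S → w k = y k) → w ∈ B := by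
    intro S
    induction S using Finset.induction_on with
    | empty =>
      intro w hw
      have : w = y := funext fun k => hw k (Finset.notMem_empty k)
      rw [this]; exact hy
    | insert i S _ ih =>
      intro w hw
      have h0 : Function.update w i (y i) ∈ B := by
        apply ih
        intro k hk
        by_cases hki : k = i
        · subst hki
          rw [Function.update_self]
        · rw [Function.update_of_ne hki]
          apply hw
          rw [Finset.mem_insert]
          push Not
          exact ⟨hki, hk⟩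
      by_cases hwi : w i = y i
      · have : Function.update w i (y i) = w := by
          rw [← hwi]; exact Function.update_eq_self i w
        rwa [this] at h0
      · have h1 := hammingDist_update (Function.update w i (y i)) i (w i)
          (by rw [Function.update_self]; exact hwi)
        rw [Function.update_idem, Function.update_eq_self] at h1
        exact hnb _ h0 _ h1
  rw [Set.eq_univ_iff_forall]
  intro w
  exact hall Finset.univ w (fun k hk => absurd (Finset.mem_univ k) hk)

theorem not_two_pretransitive (hι : 2 ≤ Fintype.card ι) (hα : 3 ≤ Fintype.card α) :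
    ∃ a b c d : ι → α, a ≠ b ∧ c ≠ d ∧ ∀ g ∈ isoGroup ι α, ¬ (g a = c ∧ g b = d) := by
  have h1 : 1 < Fintype.card ι := hι
  obtain ⟨i, j, hij⟩ := Fintype.one_lt_card_iff.mp h1
  have h2 : 1 < Fintype.card α := by omega
  obtain ⟨a0, a1, ha⟩ := Fintype.one_lt_card_iff.mp h2
  set x : ι → α := fun _ => a0 with hx
  set y : ι → α := Function.update x i a1 with hy
  set z : ι → α := Function.update y j a1 with hz
  have hxy : hammingDist x y = 1 := hammingDist_update x i a1 ha.symm
  have hzi : z i = a1 := by
    rw [hz, Function.update_of_ne hij, hy, Function.update_self]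
  have hzj : z j = a1 := by
    rw [hz, Function.update_self]
  have hxz : hammingDist x z ≠ 1 := by
    intro h
    obtain ⟨k, c, _, hzk⟩ := exists_update_of_dist_one x z h
    have e1 : k = i := by
      by_contra hne
      have : z i = x i := by rw [hzk, Function.update_of_ne (Ne.symm hne)]
      rw [hzi] at this
      exact ha this.symm
    have e2 : k = j := by
      by_contra hne
      have : z j = x j := by rw [hzk, Function.update_of_ne (Ne.symm hne)]
      rw [hzj] at this
      exact ha this.symm
    exact hij (e1.symm.trans e2)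
  refine ⟨x, y, x, z, ?_, ?_, ?_⟩
  · intro h
    rw [← h, hammingDist_self] at hxy
    exact zero_ne_one hxy
  · intro h
    have : z i = x i := by rw [← h]
    rw [hzi] at this
    exact ha this.symm
  · rintro g hg ⟨h1, h2⟩
    apply hxz
    rw [← h1, ← h2, hg, hxy]

end hamming


section transport

theorem transport {Ω : Type u} [Fintype Ω] {K : Type v} [Group K] (G₀ R₀ : Subgroup (Perm Ω))
    (hle : R₀ ≤ G₀) (hiso : Nonempty (R₀ ≃* K)) (htr : ∀ x y : Ω, ∃ g ∈ R₀, g x = y)
    (hfree : ∀ g ∈ R₀, ∀ x, g x = x → g = 1) (hprim : IsPreprimitive G₀ Ω)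
    (hnot : ∃ a b c d : Ω, a ≠ b ∧ c ≠ d ∧ ∀ g ∈ G₀, ¬ (g a = c ∧ g b = d)) :
    ∃ (n : ℕ) (G R : Subgroup (Perm (Fin n))), R ≤ G ∧ Nonempty (R ≃* K) ∧
      IsPretransitive R (Fin n) ∧ (∀ a : Fin n, stabilizer R a = ⊥) ∧
      IsPreprimitive G (Fin n) ∧ ¬ IsMultiplyPretransitive G (Fin n) 2 := by
  classical
  set n := Fintype.card Ω with hn
  set e : Ω ≃ Fin n := Fintype.equivFin Ω with he
  set ψ : Perm Ω ≃* Perm (Fin n) := e.permCongrHom with hψdef
  have hψ : ∀ (g : Perm Ω) (a : Fin n), ψ g a = e (g (e.symm a)) := fun g a => rfl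
  refine ⟨n, G₀.map ψ.toMonoidHom, R₀.map ψ.toMonoidHom, Subgroup.map_mono hle, ?_, ?_, ?_, ?_, ?_⟩
  · obtain ⟨f⟩ := hiso
    exact ⟨(R₀.equivMapOfInjective ψ.toMonoidHom ψ.injective).symm.trans f⟩
  · constructor
    intro a b
    obtain ⟨g, hg, h⟩ := htr (e.symm a) (e.symm b)
    refine ⟨⟨ψ g, Subgroup.mem_map_of_mem _ hg⟩, ?_⟩
    show ψ g a = b
    rw [hψ, h, e.apply_symm_apply]
  · intro a
    rw [eq_bot_iff]
    rintro ⟨σ, hσ⟩ hstab
    obtain ⟨g, hg, rfl⟩ := Subgroup.mem_map.mp hσ
    rw [mem_stabilizer_iff] at hstab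
    have h1 : ψ g a = a := hstab
    rw [hψ] at h1
    have h2 : g (e.symm a) = e.symm a := by
      have := congrArg e.symm h1
      rwa [e.symm_apply_apply] at this
    have := hfree g hg _ h2
    subst this
    rw [Subgroup.mem_bot]
    apply Subtype.ext
    exact map_one ψ
  · let φ' : G₀ → G₀.map ψ.toMonoidHom := fun g => ⟨ψ g, Subgroup.mem_map_of_mem _ g.2⟩
    let f : Ω →ₑ[φ'] Fin n :=
      { toFun := e
        map_smul' := fun g x => by
          show e (g.1 x) = ψ g.1 (e x)
          rw [hψ, e.symm_apply_apply] }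
    exact IsPreprimitive.of_surjective (f := f) e.surjective
  · intro h2
    rw [is_two_pretransitive_iff] at h2
    obtain ⟨a, b, c, d, hab, hcd, hno⟩ := hnot
    obtain ⟨⟨σ, hσ⟩, h1, h2'⟩ := h2 (a := e a) (b := e b) (c := e c) (d := e d)
      (e.injective.ne hab) (e.injective.ne hcd)
    obtain ⟨g, hg, rfl⟩ := Subgroup.mem_map.mp hσ
    apply hno g hg
    have h1' : ψ g (e a) = e c := h1
    have h2'' : ψ g (e b) = e d := h2'
    rw [hψ, e.symm_apply_apply] at h1' h2''
    exact ⟨e.injective h1', e.injective h2''⟩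

end transport

section regular

variable {ι : Type u} [Fintype ι] [DecidableEq ι] {α : Type v} [Fintype α] [DecidableEq α]

/-- The regular representation of a direct product, transported to `ι → α`. -/
def regRep {F : ι → Type*} [∀ i, Group (F i)] (φ : ∀ i, F i ≃ α) :
    (∀ i, F i) →* Perm (ι → α) where
  toFun g := coordMap (fun i => (φ i).permCongr (Equiv.mulLeft (g i)))
  map_one' := by
    ext x i
    simp
  map_mul' g h := by
    ext x i
    simp

theorem regRep_apply {F : ι → Type*} [∀ i, Group (F i)] (φ : ∀ i, F i ≃ α) (g : ∀ i, F i)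
    (x : ι → α) (i : ι) : regRep φ g x i = φ i (g i * (φ i).symm (x i)) := rfl

theorem regRep_free {F : ι → Type*} [∀ i, Group (F i)] (φ : ∀ i, F i ≃ α) (g : ∀ i, F i)
    (x : ι → α) (h : regRep φ g x = x) : g = 1 := by
  funext i
  have := congrFun h i
  rw [regRep_apply] at this
  have h2 := congrArg (φ i).symm this
  rw [Equiv.symm_apply_apply] at h2
  exact mul_eq_right.mp h2

theorem regRep_injective [Nonempty α] {F : ι → Type*} [∀ i, Group (F i)] (φ : ∀ i, F i ≃ α) :
    Function.Injective (regRep φ) := by
  rw [injective_iff_map_eq_one]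
  intro g hg
  apply regRep_free φ g (fun _ => Classical.arbitrary α)
  rw [hg]
  rfl

theorem regRep_trans {F : ι → Type*} [∀ i, Group (F i)] (φ : ∀ i, F i ≃ α) (x y : ι → α) :
    ∃ g, regRep φ g x = y := by
  refine ⟨fun i => (φ i).symm (y i) * ((φ i).symm (x i))⁻¹, ?_⟩
  funext i
  rw [regRep_apply, inv_mul_cancel_right, Equiv.apply_symm_apply]

end regular

/-- Let K be a finite group isomorphic to a direct product of r ≥ 2 groups all of the same order m ≥ 3. Then K is not a B-group: there is a primitive but not doubly transitive permutation group (on some finite set) containing a regular subgroup isomorphic to K. -/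
theorem result {K : Type*} [Group K] [Finite K] {ι : Type*} [Fintype ι] (F : ι → Type*) [∀ i, Group (F i)]
    (hr : 2 ≤ Fintype.card ι) (m : ℕ) (hm : 3 ≤ m) (hcard : ∀ i, Nat.card (F i) = m) (e : K ≃* (∀ i, F i)) :
    ∃ (n : ℕ) (G R : Subgroup (Equiv.Perm (Fin n))), R ≤ G ∧ Nonempty (↥R ≃* K) ∧
      MulAction.IsPretransitive ↥R (Fin n) ∧ (∀ a : Fin n, MulAction.stabilizer ↥R a = ⊥) ∧
      MulAction.IsPreprimitive ↥G (Fin n) ∧ ¬ MulAction.IsMultiplyPretransitive ↥G (Fin n) 2 := by
  classical
  haveI : ∀ i, Finite (F i) := fun i => Nat.finite_of_card_ne_zero (by rw [hcard]; omega)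
  let φ : ∀ i, F i ≃ Fin m := fun i => Finite.equivFinOfCardEq (hcard i)
  haveI : Nonempty (Fin m) := ⟨⟨0, by omega⟩⟩
  have hα : 3 ≤ Fintype.card (Fin m) := by rw [Fintype.card_fin]; exact hm
  apply transport (isoGroup ι (Fin m)) (regRep φ).range
  · rintro _ ⟨g, rfl⟩
    exact coordMap_mem _
  · exact ⟨((MonoidHom.ofInjective (regRep_injective φ)).symm).trans e.symm⟩
  · intro x y
    obtain ⟨g, hg⟩ := regRep_trans φ x y
    exact ⟨regRep φ g, ⟨g, rfl⟩, hg⟩
  · rintro _ ⟨g, rfl⟩ x hx
    rw [regRep_free φ g x hx, map_one]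
  · exact isPreprimitive_isoGroup hα
  · exact not_two_pretransitive hr hα

end Cfsg.Agent.S3560
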