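import Mathlib
import Cfsg.Statements.S3573

set_option autoImplicit false
open Cfsg

namespace Cfsg.Agent.S3573

open Equiv Equiv.Perm

/-- Every cycle of a permutation of prime order `r` has length `r`. -/
theorem card_support_of_mem_cycleFactorsFinset {n r : ℕ} (hr : r.Prime) {σ : Perm (Fin n)}
    (hσ : orderOf σ = r) {τ : Perm (Fin n)} (hτ : τ ∈ σ.cycleFactorsFinset) :
    τ.support.card = r := by
  have hmem : τ.support.card ∈ σ.cycleType := by
    rw [cycleType_def]
    exact Multiset.mem_map_of_mem (Finset.card ∘ support) hτ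
  have h1 : τ.support.card ∣ r := hσ ▸ dvd_of_mem_cycleType hmem
  have h2 : 2 ≤ τ.support.card := two_le_of_mem_cycleType hmem
  rcases (Nat.dvd_prime hr).mp h1 with h | h
  · omega
  · exact h

theorem card_support_eq_mul {n r : ℕ} (hr : r.Prime) {σ : Perm (Fin n)} (hσ : orderOf σ = r) :
    σ.support.card = σ.cycleFactorsFinset.card * r := by
  rw [← sum_cycleType, cycleType_def]
  have : σ.cycleFactorsFinset.1.map (Finset.card ∘ support)
      = σ.cycleFactorsFinset.1.map (fun _ => r) := by
    apply Multiset.map_congr rfl
    intro τ hτ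
    exact card_support_of_mem_cycleFactorsFinset hr hσ hτ
  rw [this, Multiset.map_const', Multiset.sum_replicate, smul_eq_mul]
  rfl

/-- The forward construction: an invariant `k`-subset. -/
theorem exists_invariant {n k r : ℕ} (hr : r.Prime) (hkn : k ≤ n) (hmod : k % r ≤ n % r)
    (σ : Perm (Fin n)) (hσ : orderOf σ = r) :
    ∃ s : Finset (Fin n), s.card = k ∧ s.image σ = s := by
  classical
  set c := σ.cycleFactorsFinset.card with hc
  have hsupp : σ.support.card = c * r := card_support_eq_mul hr hσ
  have hle : c * r ≤ n := by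
    rw [← hsupp]
    have := Finset.card_le_univ σ.support
    simpa using this
  have hrpos : 0 < r := hr.pos
  set j := min c (k / r) with hj
  have hjc : j ≤ c := min_le_left _ _
  have hjk : j * r ≤ k := by
    have : j ≤ k / r := min_le_right _ _
    calc j * r ≤ (k / r) * r := Nat.mul_le_mul_right r this
      _ ≤ k := Nat.div_mul_le_self k r
  obtain ⟨C, hCsub, hCcard⟩ := Finset.exists_subset_card_eq (s := σ.cycleFactorsFinset) hjc
  set s₂ := C.biUnion support with hs₂
  have hs₂card : s₂.card = j * r := by
    rw [hs₂, Finset.card_biUnion]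
    · rw [Finset.sum_congr rfl (fun τ hτ =>
        card_support_of_mem_cycleFactorsFinset hr hσ (hCsub hτ)), Finset.sum_const, hCcard,
        smul_eq_mul]
    · intro τ hτ τ' hτ' hne
      exact (cycleFactorsFinset_pairwise_disjoint σ (hCsub hτ) (hCsub hτ') hne).disjoint_support
  have hs₂sub : s₂ ⊆ σ.support := by
    intro x hx
    rw [hs₂, Finset.mem_biUnion] at hx
    obtain ⟨τ, hτ, hxτ⟩ := hx
    exact mem_cycleFactorsFinset_support_le (hCsub hτ) hxτ
  have hfix : σ.supportᶜ.card = n - c * r := by
    rw [Finset.card_compl, hsupp, Fintype.card_fin]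
  have hi : k - j * r ≤ σ.supportᶜ.card := by
    rw [hfix]
    rcases le_total c (k / r) with h | h
    · have : j = c := min_eq_left h
      rw [this]
      omega
    · have hjeq : j = k / r := min_eq_right h
      rw [hjeq]
      have h1 : k - k / r * r = k % r := by
        have := Nat.div_add_mod k r
        rw [mul_comm] at this
        omega
      rw [h1]
      have h2 : c ≤ n / r := (Nat.le_div_iff_mul_le hrpos).mpr hle
      have h3 : c * r ≤ n / r * r := Nat.mul_le_mul_right r h2
      have h4 := Nat.div_add_mod n r
      rw [mul_comm] at h4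
      omega
  obtain ⟨s₁, hs₁sub, hs₁card⟩ := Finset.exists_subset_card_eq hi
  have hdisj : Disjoint s₂ s₁ := by
    rw [Finset.disjoint_left]
    intro x hx2 hx1
    have := hs₁sub hx1
    rw [Finset.mem_compl] at this
    exact this (hs₂sub hx2)
  refine ⟨s₂ ∪ s₁, ?_, ?_⟩
  · rw [Finset.card_union_of_disjoint hdisj, hs₂card, hs₁card]
    omega
  · apply Finset.eq_of_subset_of_card_le
    · intro y hy
      rw [Finset.mem_image] at hy
      obtain ⟨x, hx, rfl⟩ := hy
      rw [Finset.mem_union] at hx ⊢
      rcases hx with hx | hx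
      · left
        rw [hs₂, Finset.mem_biUnion] at hx ⊢
        obtain ⟨τ, hτ, hxτ⟩ := hx
        refine ⟨τ, hτ, ?_⟩
        have h1 := (mem_cycleFactorsFinset_iff.mp (hCsub hτ)).2 x hxτ
        rw [← h1]
        exact apply_mem_support.mpr hxτ
      · right
        have := hs₁sub hx
        rw [Finset.mem_compl, notMem_support] at this
        rw [this]
        exact hx
    · rw [Finset.card_image_of_injective _ σ.injective]

/-- The converse: an invariant `k`-subset of a permutation with as many `r`-cycles as
possible. -/
theorem mod_le_of_invariant {n k r : ℕ} (hr : r.Prime) (σ : Perm (Fin n))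
    (hσ : σ ^ r = 1) (hfix : σ.supportᶜ.card = n % r)
    (s : Finset (Fin n)) (hs : s.card = k) (hinv : s.image σ = s) : k % r ≤ n % r := by
  classical
  haveI : Fact r.Prime := ⟨hr⟩
  have hmem : ∀ x, σ x ∈ s ↔ x ∈ s := by
    intro x
    constructor
    · intro h
      rw [← hinv, Finset.mem_image] at h
      obtain ⟨y, hy, hxy⟩ := h
      rwa [← σ.injective hxy]
    · intro h
      rw [← hinv]
      exact Finset.mem_image_of_mem σ h
  set σ' : Perm {x // x ∈ s} := σ.subtypePerm hmem with hσ'
  have hσ'r : σ' ^ r ^ 1 = 1 := by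
    rw [pow_one, hσ', subtypePerm_pow]
    ext x
    simp [hσ]
  have hmod := card_compl_support_modEq hσ'r
  rw [Fintype.card_coe, hs] at hmod
  have hle : σ'.supportᶜ.card ≤ σ.supportᶜ.card := by
    apply Finset.card_le_card_of_injOn (s := σ'.supportᶜ) (t := σ.supportᶜ)
      (fun x : {x // x ∈ s} => (x : Fin n))
    · intro x hx
      rw [Finset.mem_coe, Finset.mem_compl, notMem_support] at hx ⊢
      have := congrArg Subtype.val hx
      simpa [hσ'] using this
    · intro x _ y _ hxy
      exact Subtype.ext hxy
  rw [hfix] at hle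
  have hlt : n % r < r := Nat.mod_lt _ hr.pos
  have h1 : σ'.supportᶜ.card % r = k % r := hmod
  rw [Nat.mod_eq_of_lt (lt_of_le_of_lt hle hlt)] at h1
  rw [← h1]
  exact hle

theorem core {n k r : ℕ} (hr : r.Prime) (hkn : k ≤ n) :
    (∀ σ : Perm (Fin n), orderOf σ = r → ∃ s : Finset (Fin n), s.card = k ∧ s.image σ = s) ↔
      k % r ≤ n % r := by
  classical
  constructor
  · intro h
    by_cases hnr : n < r
    · rw [Nat.mod_eq_of_lt hnr, Nat.mod_eq_of_lt (lt_of_le_of_lt hkn hnr)]
      exact hkn
    · push Not at hnr
      have hq : 1 ≤ n / r := (Nat.one_le_div_iff hr.pos).mpr hnr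
      obtain ⟨σ, hσ⟩ := (exists_with_cycleType_iff (α := Fin n)
        (m := Multiset.replicate (n / r) r)).mpr (by
          constructor
          · rw [Multiset.sum_replicate, smul_eq_mul, Fintype.card_fin]
            exact Nat.div_mul_le_self n r
          · intro a ha
            rw [Multiset.eq_of_mem_replicate ha]
            exact hr.two_le)
      have hord : orderOf σ = r := by
        rw [← lcm_cycleType, hσ]
        apply Nat.dvd_antisymm
        · apply Multiset.lcm_dvd.mpr
          intro a ha
          rw [Multiset.eq_of_mem_replicate ha]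
        · apply Multiset.dvd_lcm
          rw [Multiset.mem_replicate]
          exact ⟨by omega, rfl⟩
      obtain ⟨s, hs, hinv⟩ := h σ hord
      have hsupp : σ.support.card = n / r * r := by
        rw [← sum_cycleType, hσ, Multiset.sum_replicate, smul_eq_mul]
      have hfix : σ.supportᶜ.card = n % r := by
        rw [Finset.card_compl, hsupp, Fintype.card_fin]
        have := Nat.div_add_mod n r
        rw [mul_comm] at this
        omega
      exact mod_le_of_invariant hr σ (hord ▸ pow_orderOf_eq_one σ) hfix s hs hinv
  · intro h σ hσ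
    exact exists_invariant hr hkn h σ hσ

/-- A weak form of Lucas' theorem. -/
theorem mod_lt_of_dvd_choose {n k r : ℕ} (hr : r.Prime) (hkr : k < r) (hkn : k ≤ n)
    (hrd : r ∣ Nat.choose n k) : n % r < k := by
  have h1 : r ∣ n.descFactorial k := by
    rw [Nat.descFactorial_eq_factorial_mul_choose]
    exact hrd.mul_left _
  rw [Nat.descFactorial_eq_prod_range] at h1
  obtain ⟨i, hi, hdvd⟩ := (Prime.dvd_finsetProd_iff hr.prime _).mp h1
  rw [Finset.mem_range] at hi
  obtain ⟨t, ht⟩ := hdvd
  have h2 : n = r * t + i := by omega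
  rw [h2, Nat.mul_add_mod, Nat.mod_eq_of_lt (by omega)]
  exact hi

/-- Let 1 ≤ k with 2k < n and consider the symmetric group of degree n acting on the k-subsets of an n-set. Let r be a prime dividing the number C(n,k) of k-subsets. If r is odd, then every permutation of order r fixes some k-subset if and only if r ≤ k and the remainder of k modulo r is at most the remainder of n modulo r. If r = 2, then every involution fixes some k-subset if and only if k is even or n is odd. -/
theorem result (n k : ℕ) (hk : 1 ≤ k) (hkn : 2 * k < n) (r : ℕ) (hr : r.Prime) (hrd : r ∣ Nat.choose n k) :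
    (r ≠ 2 → ((∀ σ : Equiv.Perm (Fin n), orderOf σ = r → ∃ s : Finset (Fin n), s.card = k ∧ s.image σ = s) ↔
      (r ≤ k ∧ k % r ≤ n % r))) ∧
    (r = 2 → ((∀ σ : Equiv.Perm (Fin n), orderOf σ = 2 → ∃ s : Finset (Fin n), s.card = k ∧ s.image σ = s) ↔
      (Even k ∨ Odd n))) := by
  have hkn' : k ≤ n := by omega
  constructor
  · intro _
    rw [core hr hkn']
    constructor
    · intro h
      refine ⟨?_, h⟩
      by_contra hlt
      push Not at hlt
      have h1 := mod_lt_of_dvd_choose hr hlt hkn' hrd
      rw [Nat.mod_eq_of_lt hlt] at h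
      omega
    · rintro ⟨_, h⟩
      exact h
  · intro h2
    subst h2
    rw [core Nat.prime_two hkn', Nat.even_iff, Nat.odd_iff]
    omega

end Cfsg.Agent.S3573
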