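import Mathlib
import Cfsg.Statements.S3592
import Cfsg.Agent.Lib.Helper6.M11RecS
import Cfsg.Agent.Lib.Helper6.M11RecNSE
import Cfsg.Agent.Lib.Helper6.M11RecFinal
import Cfsg.Agent.Lib.Helper25.M11RecMIDX

set_option autoImplicit false
open Cfsg

namespace Cfsg.Agent.S3592

open Cfsg.Agent.Helper6.M11Rec in
/-- Let M be the Mathieu group M₁₁ (order 7920). If a finite group G has the same order as M and the same set of values of the function 'number of elements of order n' (taken over the element orders n that occur), then G is isomorphic to M. -/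
theorem result {G : Type*} [Group G] [Finite G]
    (hcard : Nat.card G = Nat.card ↥Cfsg.Spor.M11)
    (hnse : {c : ℕ | 0 < c ∧ ∃ n : ℕ, c = Nat.card {g : G // orderOf g = n}} =
      {c : ℕ | 0 < c ∧ ∃ n : ℕ, c = Nat.card {g : ↥Cfsg.Spor.M11 // orderOf g = n}}) :
    Nonempty (G ≃* ↥Cfsg.Spor.M11) := by
  obtain ⟨hsM, hcM⟩ := isM11_M11
  letI : Fintype ↥Cfsg.Spor.M11 := Fintype.ofFinite _
  haveI : Fact (Nat.Prime 11) := ⟨by norm_num⟩
  have hG : Nat.card G = 7920 := hcard.trans hcM
  have hidx := index_centralizer_facts hsM hcM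
  have h144 : Nat.card (Sylow 11 G) = 144 := card_sylow_of_nse hG hcM hidx hnse.subset
  obtain ⟨g, hg⟩ := exists_prime_orderOf_dvd_card' (G := G) 11 (by rw [hG]; norm_num)
  have hC := self_centralizing_of_card_sylow hG h144 g hg
  exact iso_M11 (simple_of_self_centralizing hG g hg hC) hG

end Cfsg.Agent.S3592
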