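import Mathlib
import Cfsg.Statements.S3619

set_option autoImplicit false
open Cfsg

namespace Cfsg.Agent.S3619

open MulAction SubMulAction
open scoped Pointwise

/-- A quasiprimitive group with a primitive Jordan set is primitive. -/
theorem isPreprimitive_of_quasi {G Ω : Type*} [Group G] [Finite G] [MulAction G Ω] [Finite Ω]
    (hqp : ∀ N : Subgroup G, N.Normal → N ≠ ⊥ → MulAction.IsPretransitive ↥N Ω)
    (Γ : Set Ω) (hΓ1 : 1 < Γ.ncard)
    (hJp : MulAction.IsPreprimitive ↥(fixingSubgroup G Γᶜ) ↥(SubMulAction.ofFixingSubgroup G Γᶜ)) :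
    MulAction.IsPreprimitive G Ω := by
  classical
  haveI := hJp
  -- two distinct points of Γ
  obtain ⟨x, hx, y, hy, hxy⟩ := (Set.one_lt_ncard (Set.toFinite Γ)).mp hΓ1
  have hxm : x ∈ ofFixingSubgroup G Γᶜ := by
    rw [mem_ofFixingSubgroup_iff]; simpa using hx
  have hym : y ∈ ofFixingSubgroup G Γᶜ := by
    rw [mem_ofFixingSubgroup_iff]; simpa using hy
  -- the Jordan group is non-trivial
  have hHne : fixingSubgroup G Γᶜ ≠ ⊥ := by
    intro hbot
    obtain ⟨h, hh⟩ := exists_smul_eq (fixingSubgroup G Γᶜ)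
      (⟨x, hxm⟩ : ofFixingSubgroup G Γᶜ) ⟨y, hym⟩
    have h1 : (h : G) = 1 := by
      have h3 : (h : G) ∈ (⊥ : Subgroup G) := hbot ▸ h.2
      exact Subgroup.mem_bot.mp h3
    have h2 : ((h • (⟨x, hxm⟩ : ofFixingSubgroup G Γᶜ) : ofFixingSubgroup G Γᶜ) : Ω) = y := by
      rw [hh]
    rw [SubMulAction.val_smul] at h2
    change (h : G) • x = y at h2
    rw [h1, one_smul] at h2
    exact hxy h2
  have hGne : (⊤ : Subgroup G) ≠ ⊥ := by
    intro h
    apply hHne
    rw [eq_bot_iff, ← h]
    exact le_top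
  -- G is transitive
  have htrans : IsPretransitive G Ω := by
    have := hqp ⊤ inferInstance hGne
    constructor
    intro a b
    obtain ⟨g, hg⟩ := this.exists_smul_eq a b
    exact ⟨(g : G), hg⟩
  refine { htrans with isTrivialBlock_of_isBlock := ?_ }
  intro B hB
  by_contra hnt
  unfold IsTrivialBlock at hnt
  rw [not_or] at hnt
  obtain ⟨hBns, hBnu⟩ := hnt
  have hBne : B.Nonempty := by
    rw [Set.nonempty_iff_ne_empty]
    intro h
    exact hBns (h ▸ Set.subsingleton_empty)
  -- the kernel of the action on the block system is trivial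
  have hcore : (stabilizer G B).normalCore = ⊥ := by
    by_contra hne
    have htr := hqp _ inferInstance hne
    apply hBnu
    rw [Set.eq_univ_iff_forall]
    intro ω
    obtain ⟨b, hb⟩ := hBne
    obtain ⟨n, hn⟩ := htr.exists_smul_eq b ω
    have hn' : (n : G) ∈ stabilizer G B := Subgroup.normalCore_le _ n.2
    rw [mem_stabilizer_iff] at hn'
    have h4 : (n : G) • b ∈ (n : G) • B := Set.smul_mem_smul_set hb
    rw [hn'] at h4
    rw [← hn]
    exact h4
  -- but the Jordan group lies in this kernel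
  apply hHne
  rw [eq_bot_iff, ← hcore]
  intro h hh g
  rw [mem_stabilizer_iff]
  -- B' = g⁻¹ • B is a block
  have hB' : IsBlock G (g⁻¹ • B) := hB.translate g⁻¹
  have hB'ne : (g⁻¹ • B).Nonempty := hBne.smul_set
  suffices hsuff : h • (g⁻¹ • B) = g⁻¹ • B by
    rw [mul_smul, mul_smul, hsuff, smul_inv_smul]
  -- it suffices to find a point z of B' with h • z ∈ B'
  suffices hz : ∃ z ∈ g⁻¹ • B, h • z ∈ g⁻¹ • B by
    obtain ⟨z, hz1, hz2⟩ := hz
    exact hB'.smul_eq_of_mem hz1 hz2
  by_cases hcase : ∃ z ∈ g⁻¹ • B, z ∉ Γ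
  · obtain ⟨z, hz1, hz2⟩ := hcase
    refine ⟨z, hz1, ?_⟩
    rw [(mem_fixingSubgroup_iff G).mp hh z (by simpa using hz2)]
    exact hz1
  · push Not at hcase
    -- B' ⊆ Γ: its preimage in the Jordan set is a block for the Jordan group
    have hBH : IsBlock (fixingSubgroup G Γᶜ) (g⁻¹ • B) := hB'.subgroup
    have hC : IsBlock (fixingSubgroup G Γᶜ)
        (Subtype.val ⁻¹' (g⁻¹ • B) : Set (ofFixingSubgroup G Γᶜ)) :=
      hBH.subtype_val_preimage
    obtain ⟨z, hz⟩ := hB'ne
    have hzΓ : z ∈ Γ := hcase z hz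
    have hzm : z ∈ ofFixingSubgroup G Γᶜ := by
      rw [mem_ofFixingSubgroup_iff]; simpa using hzΓ
    rcases hJp.isTrivialBlock_of_isBlock hC with hsub | huniv
    · -- then B' is a subsingleton, so is B
      exfalso
      apply hBns
      have hsub' : (g⁻¹ • B).Subsingleton := by
        intro u hu v hv
        have hum : u ∈ ofFixingSubgroup G Γᶜ := by
          rw [mem_ofFixingSubgroup_iff]; simpa using hcase u hu
        have hvm : v ∈ ofFixingSubgroup G Γᶜ := by
          rw [mem_ofFixingSubgroup_iff]; simpa using hcase v hv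
        have hu' : (⟨u, hum⟩ : ofFixingSubgroup G Γᶜ) ∈
            (Subtype.val ⁻¹' (g⁻¹ • B) : Set (ofFixingSubgroup G Γᶜ)) := hu
        have hv' : (⟨v, hvm⟩ : ofFixingSubgroup G Γᶜ) ∈
            (Subtype.val ⁻¹' (g⁻¹ • B) : Set (ofFixingSubgroup G Γᶜ)) := hv
        have := hsub hu' hv'
        exact congrArg Subtype.val this
      intro u hu v hv
      have := hsub' (Set.smul_mem_smul_set (a := g⁻¹) hu) (Set.smul_mem_smul_set (a := g⁻¹) hv)
      exact MulAction.injective g⁻¹ this
    · refine ⟨z, hz, ?_⟩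
      have hmem : (⟨h, hh⟩ : fixingSubgroup G Γᶜ) • (⟨z, hzm⟩ : ofFixingSubgroup G Γᶜ) ∈
          (Subtype.val ⁻¹' (g⁻¹ • B) : Set (ofFixingSubgroup G Γᶜ)) := by
        rw [huniv]; trivial
      exact hmem

/-- Let G act faithfully on a finite set in such a way that every non-trivial normal subgroup of G is transitive (G is quasiprimitive). Let Γ be a subset with more than one point and not the whole set, such that the pointwise stabilizer of the complement of Γ acts transitively on Γ (a Jordan set). If that pointwise stabilizer acts primitively on Γ, then G is k-fold transitive where k is one more than the number of points outside Γ (the Jordan set is a trivial one). -/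
theorem result {G Ω : Type*} [Group G] [Finite G] [MulAction G Ω] [FaithfulSMul G Ω] [Finite Ω]
    (hqp : ∀ N : Subgroup G, N.Normal → N ≠ ⊥ → MulAction.IsPretransitive ↥N Ω)
    (Γ : Set Ω) (hΓ1 : 1 < Γ.ncard) (hΓ2 : Γ.ncard < Nat.card Ω)
    (hJ : MulAction.IsPretransitive ↥(fixingSubgroup G Γᶜ) ↥(SubMulAction.ofFixingSubgroup G Γᶜ))
    (hJp : MulAction.IsPreprimitive ↥(fixingSubgroup G Γᶜ) ↥(SubMulAction.ofFixingSubgroup G Γᶜ)) :
    MulAction.IsMultiplyPretransitive G Ω (Nat.card Ω - Γ.ncard + 1) := by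
  have hprim : IsPreprimitive G Ω := isPreprimitive_of_quasi hqp Γ hΓ1 hJp
  have hc : (Γᶜ).ncard = Nat.card Ω - Γ.ncard := Set.ncard_compl Γ
  obtain ⟨n, hn⟩ : ∃ n, Nat.card Ω - Γ.ncard = n + 1 := ⟨Nat.card Ω - Γ.ncard - 1, by omega⟩
  have hsn : (Γᶜ).ncard = n + 1 := by rw [hc, hn]
  have hsn' : n + 2 < Nat.card Ω := by omega
  have := hprim.isMultiplyPreprimitive hsn hsn' hJp
  rw [hn]
  exact this.isMultiplyPretransitive

end Cfsg.Agent.S3619
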