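import Mathlib
import Cfsg.Statements.S3620
import Cfsg.Agent.Lib.Helper18.MargPrim
import Cfsg.Agent.Lib.Helper3.MargC
import Cfsg.Agent.Lib.Helper8.MargD

set_option autoImplicit false
open Cfsg

namespace Cfsg.Agent.S3620

open MulAction SubMulAction Cfsg.Agent.Helper18.Marg

/-- Marggraf's theorem, primitive case: a primitive group with a Jordan set of size strictly
between `1` and `n/2` contains the alternating group. -/
theorem marggraf_primitive {G Ω : Type*} [Group G] [Finite G] [MulAction G Ω] [Fintype Ω]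
    [DecidableEq Ω] (hprim : IsPreprimitive G Ω) (Γ : Set Ω) (h1 : 1 < Γ.ncard)
    (h2 : 2 * Γ.ncard < Fintype.card Ω)
    (hJ : IsPretransitive ↥(fixingSubgroup G Γᶜ) ↥(ofFixingSubgroup G Γᶜ)) :
    ∀ σ : Equiv.Perm Ω, Equiv.Perm.sign σ = 1 →
      ∃ x : G, (MulAction.toPerm x : Equiv.Perm Ω) = σ := by
  have hcard : (Set.toFinite Γ).toFinset.card = Γ.ncard := by
    rw [Set.ncard_eq_toFinset_card Γ (Set.toFinite Γ)]
  have hT := T_card_of_primitive hprim Γ h1 h2 hJ
  have hJf := isJordan_of_pretransitive Γ hJ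
  exact Cfsg.Agent.Helper3.MargC.alt_of_T hprim (Set.toFinite Γ).toFinset hJf
    (by rw [hcard]; omega) (by rw [hcard]; exact h2) hT

/-- Let G act faithfully on a finite set in such a way that every non-trivial normal subgroup of G is transitive (G is quasiprimitive). Let Γ be a subset with more than one point and fewer than half of the points, such that the pointwise stabilizer of the complement of Γ acts transitively on Γ. Then G induces every even permutation of the set (G is the alternating or the symmetric group). -/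
theorem result {G Ω : Type*} [Group G] [Finite G] [MulAction G Ω] [FaithfulSMul G Ω] [Fintype Ω] [DecidableEq Ω]
    (hqp : ∀ N : Subgroup G, N.Normal → N ≠ ⊥ → MulAction.IsPretransitive ↥N Ω)
    (Γ : Set Ω) (hΓ1 : 1 < Γ.ncard) (hΓ2 : 2 * Γ.ncard < Fintype.card Ω)
    (hJ : MulAction.IsPretransitive ↥(fixingSubgroup G Γᶜ) ↥(SubMulAction.ofFixingSubgroup G Γᶜ)) :
    ∀ σ : Equiv.Perm Ω, Equiv.Perm.sign σ = 1 → ∃ x : G, (MulAction.toPerm x : Equiv.Perm Ω) = σ := by
  exact Cfsg.Agent.Helper8.MargD.quasi_reduction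
    (fun hprim Γ h1 h2 hJ => marggraf_primitive hprim Γ h1 h2 hJ)
    (fun P _ _ hprim Γ' h1 h2 hJ => marggraf_primitive hprim Γ' h1 h2 hJ)
    hqp Γ hΓ1 hΓ2 hJ

end Cfsg.Agent.S3620
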