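import Cfsg.Statements.S3626
import Cfsg.Agent.S1159
import Cfsg.Agent.Lib.Helper10.RG3Asm

set_option autoImplicit false
open Cfsg

namespace Cfsg.Agent.S3626

/-- Let R be the small Ree group over the field with q = 3^(2m+1) ≥ 27 elements. Then there are finite groups of arbitrarily large order with exactly the same set of element orders as R × R × R. -/
theorem result {K : Type*} [Field K] [Fintype K] {m : ℕ} (hm : 1 ≤ m) (hK : Fintype.card K = 3 ^ (2 * m + 1)) (N : ℕ) :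
    ∃ (H : Type) (_ : Group H) (_ : Fintype H), N < Fintype.card H ∧
      Set.range (orderOf : H → ℕ) = Set.range (orderOf : ↥(Cfsg.Lie.twistedG2 K (3 ^ m)) × ↥(Cfsg.Lie.twistedG2 K (3 ^ m)) × ↥(Cfsg.Lie.twistedG2 K (3 ^ m)) → ℕ) := by
  classical
  obtain ⟨hchar, hns, hq4⟩ := Cfsg.Agent.Helper10.RG3.fld_facts hK
  haveI := hchar
  refine Cfsg.Agent.Helper10.RG3.main_of (J := ↥(Cfsg.Lie.twistedG2 K (3 ^ m)))
    (L := fun n => Cfsg.Agent.Helper10.RG3.Kk K (n + 1))
    (Cfsg.Agent.Helper10.RG3.PG m) (Cfsg.Agent.Helper10.RG3.PK (3 ^ (2 * m + 1)))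
    (fun d => Cfsg.Agent.S1159.result hm hK d) ?_ ?_
    (Cfsg.Agent.Helper10.RG3.PK_imp_PG m) (Cfsg.Agent.Helper10.RG3.comb m) N
  · intro n d
    constructor
    · rintro ⟨g, rfl⟩
      have := Cfsg.Agent.Helper10.RG3.Kk_orderOf hns hq4 g
      rwa [hK] at this
    · intro h
      exact Cfsg.Agent.Helper10.RG3.Kk_exists hq4 (Nat.succ_le_succ (Nat.zero_le n)) d
        (by rwa [hK])
  · intro n
    exact lt_trans (Nat.lt_succ_self n) (Cfsg.Agent.Helper10.RG3.Kk_card_gt (n + 1))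

end Cfsg.Agent.S3626
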