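import Mathlib
import Cfsg.Statements.S3633
import Cfsg.Agent.Lib.Helper18.Lucido2

set_option autoImplicit false
open Cfsg

namespace Cfsg.Agent.S3633

open Cfsg.Agent.Helper18

/-- `K ⟨y⟩` is solvable when the normal subgroup `K` is. -/
theorem isSolvable_sup_zpowers {G : Type*} [Group G] (K : Subgroup G) [K.Normal]
    [Group.IsSolvable K] (y : G) : Group.IsSolvable ↥(K ⊔ Subgroup.zpowers y) := by
  set L := K ⊔ Subgroup.zpowers y with hL
  rw [Group.isSolvable_iff_subgroup_quotient (K.subgroupOf L)]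
  constructor
  · exact Group.isSolvable_of_isSolvable_injective
      (f := (Subgroup.subgroupOfEquivOfLe (le_sup_left : K ≤ L)).toMonoidHom)
      (Subgroup.subgroupOfEquivOfLe _).injective
  · apply Group.isSolvable_of_comm
    intro a b
    induction a using QuotientGroup.induction_on with
    | _ a =>
    induction b using QuotientGroup.induction_on with
    | _ b =>
    rw [← QuotientGroup.mk_mul, ← QuotientGroup.mk_mul, QuotientGroup.eq, Subgroup.mem_subgroupOf]
    have hmap : L.map (QuotientGroup.mk' K) = Subgroup.zpowers (QuotientGroup.mk' K y) := by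
      rw [hL, Subgroup.map_sup, QuotientGroup.map_mk'_self, bot_sup_eq, MonoidHom.map_zpowers]
    have ha : QuotientGroup.mk' K (a : G) ∈ Subgroup.zpowers (QuotientGroup.mk' K y) := by
      rw [← hmap]; exact Subgroup.mem_map_of_mem _ a.2
    have hb : QuotientGroup.mk' K (b : G) ∈ Subgroup.zpowers (QuotientGroup.mk' K y) := by
      rw [← hmap]; exact Subgroup.mem_map_of_mem _ b.2
    obtain ⟨i, hi⟩ := Subgroup.mem_zpowers_iff.mp ha
    obtain ⟨j, hj⟩ := Subgroup.mem_zpowers_iff.mp hb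
    have h1 : QuotientGroup.mk' K (((a * b)⁻¹ * (b * a) : L) : G) = 1 := by
      simp only [Subgroup.coe_mul, Subgroup.coe_inv, map_mul, map_inv, ← hi, ← hj]
      rw [← zpow_add, ← zpow_add, add_comm i j, inv_mul_cancel]
    exact (QuotientGroup.eq_one_iff _).mp h1

theorem part1 {G : Type*} [Group G] [Finite G] (ρ : Finset ℕ) (hρ : 3 ≤ ρ.card)
    (hc : ((∀ r ∈ ρ, r.Prime ∧ r ∣ Nat.card G) ∧
      (∀ r ∈ ρ, ∀ s ∈ ρ, r ≠ s → ¬ ∃ x : G, orderOf x = r * s)))
    (K : Subgroup G) [K.Normal] (hK : Group.IsSolvable ↥K) :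
    ∀ r ∈ ρ, ∀ s ∈ ρ, r ∣ Nat.card ↥K → s ∣ Nat.card ↥K → r = s := by
  intro r hr s hs hrK hsK
  by_contra hrs
  obtain ⟨t, ht, htr, hts⟩ : ∃ t ∈ ρ, t ≠ r ∧ t ≠ s := by
    by_contra h
    push Not at h
    have hsub : ρ ⊆ {r, s} := by
      intro t ht
      by_cases h1 : t = r
      · simp [h1]
      · simp [h t ht h1]
    have h1 := Finset.card_le_card hsub
    have h2 : ({r, s} : Finset ℕ).card ≤ 2 := Finset.card_le_two
    omega
  have hrp := (hc.1 r hr).1
  have hsp := (hc.1 s hs).1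
  have htp := (hc.1 t ht).1
  haveI : Fact t.Prime := ⟨htp⟩
  obtain ⟨y, hy⟩ := exists_prime_orderOf_dvd_card' t (hc.1 t ht).2
  haveI : Group.IsSolvable ↥(K ⊔ Subgroup.zpowers y) := isSolvable_sup_zpowers K y
  have hKL : Nat.card K ∣ Nat.card ↥(K ⊔ Subgroup.zpowers y) :=
    Subgroup.card_dvd_of_le le_sup_left
  have htL : t ∣ Nat.card ↥(K ⊔ Subgroup.zpowers y) := by
    have : Nat.card (Subgroup.zpowers y) ∣ Nat.card ↥(K ⊔ Subgroup.zpowers y) :=
      Subgroup.card_dvd_of_le le_sup_right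
    rwa [Nat.card_zpowers, hy] at this
  rcases three_primes_of_solvable _ ↥(K ⊔ Subgroup.zpowers y) rfl hrp hsp htp hrs (Ne.symm htr)
    (Ne.symm hts) (hrK.trans hKL) (hsK.trans hKL) htL with ⟨x, hx⟩ | ⟨x, hx⟩ | ⟨x, hx⟩
  · exact hc.2 r hr s hs hrs ⟨x, by rw [Subgroup.orderOf_coe]; exact hx⟩
  · exact hc.2 r hr t ht (Ne.symm htr) ⟨x, by rw [Subgroup.orderOf_coe]; exact hx⟩
  · exact hc.2 s hs t ht (Ne.symm hts) ⟨x, by rw [Subgroup.orderOf_coe]; exact hx⟩

/-- Let G be a finite group and ρ a set of at least three prime divisors of the order of G that are pairwise non-adjacent in the prime graph (no element of order rs for distinct r, s ∈ ρ). Then at most one prime of ρ divides the order of any given solvable normal subgroup of G; in particular G is not solvable. -/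
theorem result {G : Type*} [Group G] [Finite G] (ρ : Finset ℕ) (hρ : 3 ≤ ρ.card) (hc : ((∀ r ∈ ρ, r.Prime ∧ r ∣ Nat.card G) ∧ (∀ r ∈ ρ, ∀ s ∈ ρ, r ≠ s → ¬ ∃ x : G, orderOf x = r * s)))
    (K : Subgroup G) [K.Normal] (hK : Group.IsSolvable ↥K) :
    (∀ r ∈ ρ, ∀ s ∈ ρ, r ∣ Nat.card ↥K → s ∣ Nat.card ↥K → r = s) ∧ ¬ Group.IsSolvable G := by
  refine ⟨part1 ρ hρ hc K hK, ?_⟩
  intro hG
  have h := part1 ρ hρ hc (⊤ : Subgroup G) inferInstance
  obtain ⟨a, ha, b, hb, hab⟩ := Finset.one_lt_card.mp (by omega : 1 < ρ.card)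
  have hcard : Nat.card (⊤ : Subgroup G) = Nat.card G := Subgroup.card_top
  exact hab (h a ha b hb (by rw [hcard]; exact (hc.1 a ha).2) (by rw [hcard]; exact (hc.1 b hb).2))

end Cfsg.Agent.S3633
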