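import Mathlib
import Cfsg.Statements.S3634
import Cfsg.Agent.Lib.Helper18.Lucido

set_option autoImplicit false
open Cfsg

namespace Cfsg.Agent.S3634

open Cfsg.Agent.Helper18

/-- Let G be a finite group with normal subgroups K ≤ M, and let p, q, r be distinct primes with p dividing the order of K, q dividing the order of M/K and r dividing the order of G/M. Then p, q, r are not pairwise non-adjacent in the prime graph of G: G has an element of order pq, pr or qr. -/
theorem result {G : Type*} [Group G] [Finite G] (K M : Subgroup G) [K.Normal] [M.Normal] (hKM : K ≤ M)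
    (p q r : ℕ) (hp : p.Prime) (hq : q.Prime) (hr : r.Prime) (hpq : p ≠ q) (hpr : p ≠ r) (hqr : q ≠ r)
    (hpK : p ∣ Nat.card ↥K) (hqM : q ∣ Nat.card ↥M / Nat.card ↥K) (hrG : r ∣ Nat.card G / Nat.card ↥M) :
    (∃ x : G, orderOf x = p * q) ∨ (∃ x : G, orderOf x = p * r) ∨ (∃ x : G, orderOf x = q * r) := by
  classical
  haveI : Fact p.Prime := ⟨hp⟩
  -- Sylow p-subgroup of K
  obtain ⟨P⟩ : Nonempty (Sylow p K) := inferInstance
  have hfr := Sylow.normalizer_sup_eq_top P
  set PG : Subgroup G := (P : Subgroup K).map K.subtype with hPG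
  set N₁ := Subgroup.normalizer (PG : Set G) with hN₁
  have hPGp : IsPGroup p PG := P.2.map _
  have hPG1 : PG ≠ ⊥ := by
    rw [Ne, Subgroup.map_eq_bot_iff_of_injective _ K.subtype_injective]
    exact P.ne_bot_of_dvd_card hpK
  -- A = Z(P)
  set A : Subgroup G := PG ⊓ Subgroup.centralizer (PG : Set G) with hA
  have hAp : IsPGroup p A := hPGp.to_le inf_le_left
  have hAc : ∀ a ∈ A, ∀ b ∈ A, a * b = b * a := by
    intro a ha b hb
    exact Subgroup.mem_centralizer_iff.mp hb.2 a ha.1
  have hA1 : A ≠ ⊥ := by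
    haveI : Nontrivial PG := (Subgroup.nontrivial_iff_ne_bot _).mpr hPG1
    haveI := hPGp.center_nontrivial
    obtain ⟨z, hz⟩ := exists_ne (1 : Subgroup.center PG)
    intro h
    have hzA : ((z : PG) : G) ∈ A := by
      refine Subgroup.mem_inf.mpr ⟨(z : PG).2, ?_⟩
      rw [Subgroup.mem_centralizer_iff]
      intro b hb
      have := Subgroup.mem_center_iff.mp z.2 ⟨b, hb⟩
      exact congrArg Subtype.val this
    rw [h, Subgroup.mem_bot] at hzA
    apply hz
    apply Subtype.ext; apply Subtype.ext; exact hzA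
  have hNA : N₁ ≤ Subgroup.normalizer (A : Set G) := by
    have key : ∀ g ∈ N₁, ∀ a ∈ A, g * a * g⁻¹ ∈ A := by
      intro g hg a ha
      rw [hN₁, Subgroup.mem_normalizer_iff] at hg
      refine Subgroup.mem_inf.mpr ⟨(hg a).mp ha.1, ?_⟩
      rw [Subgroup.mem_centralizer_iff]
      intro b hb
      have hb' : g⁻¹ * b * g ∈ PG := by
        rw [hg]
        have h8 : g * (g⁻¹ * b * g) * g⁻¹ = b := by group
        rw [h8]; exact hb
      have := Subgroup.mem_centralizer_iff.mp ha.2 _ hb'
      calc b * (g * a * g⁻¹) = g * ((g⁻¹ * b * g) * a) * g⁻¹ := by group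
        _ = g * (a * (g⁻¹ * b * g)) * g⁻¹ := by rw [this]
        _ = g * a * g⁻¹ * b := by group
    intro g hg
    rw [Subgroup.mem_normalizer_iff]
    intro a
    constructor
    · exact key g hg a
    · intro h
      have := key g⁻¹ (N₁.inv_mem hg) _ h
      convert this using 1; group
  -- numerics
  have hNM : N₁ ⊔ M = ⊤ := by
    apply top_le_iff.mp
    rw [← hfr]
    exact sup_le_sup_left hKM _
  have hidxM : (M.subgroupOf N₁).index = M.index := by
    show M.relIndex N₁ = M.index
    rw [← Subgroup.relIndex_sup_right, hNM, Subgroup.relIndex_top_right]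
  have hidxK : (K.subgroupOf N₁).index = K.index := by
    show K.relIndex N₁ = K.index
    rw [← Subgroup.relIndex_sup_right, hfr, Subgroup.relIndex_top_right]
  have e1 := (M.subgroupOf N₁).card_mul_index
  have e2 := (K.subgroupOf N₁).card_mul_index
  have e3 := M.card_mul_index
  have e4 := K.card_mul_index
  rw [hidxM] at e1
  rw [hidxK] at e2
  have e5 : Nat.card K * (Nat.card M / Nat.card K) = Nat.card M :=
    Nat.mul_div_cancel' (Subgroup.card_dvd_of_le hKM)
  have hKpos : 0 < Nat.card K := Nat.card_pos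
  have hMpos : 0 < Nat.card M := Nat.card_pos
  have hMidx : 0 < M.index := Nat.pos_of_ne_zero M.index_ne_zero_of_finite
  have e6 : K.index = (Nat.card M / Nat.card K) * M.index := by
    apply Nat.eq_of_mul_eq_mul_left hKpos
    calc Nat.card K * K.index = Nat.card G := e4
      _ = Nat.card M * M.index := e3.symm
      _ = (Nat.card K * (Nat.card M / Nat.card K)) * M.index := by rw [e5]
      _ = Nat.card K * ((Nat.card M / Nat.card K) * M.index) := by ring
  have e7 : Nat.card (M.subgroupOf N₁) = Nat.card (K.subgroupOf N₁) * (Nat.card M / Nat.card K) := by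
    apply Nat.eq_of_mul_eq_mul_right hMidx
    calc Nat.card (M.subgroupOf N₁) * M.index = Nat.card N₁ := e1
      _ = Nat.card (K.subgroupOf N₁) * K.index := e2.symm
      _ = Nat.card (K.subgroupOf N₁) * ((Nat.card M / Nat.card K) * M.index) := by rw [e6]
      _ = Nat.card (K.subgroupOf N₁) * (Nat.card M / Nat.card K) * M.index := by ring
  have hq' : q ∣ Nat.card (M.subgroupOf N₁) := by
    rw [e7]; exact hqM.mul_left _
  have hr' : r ∣ (M.subgroupOf N₁).index := by
    rw [hidxM]
    have : Nat.card G / Nat.card M = M.index := by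
      apply Nat.div_eq_of_eq_mul_right hMpos
      exact e3.symm
    rwa [← this]
  obtain ⟨Q', y', -, hQ'q, hQ'1, hy', hy'Q'⟩ :=
    exists_sylow_normalized (M.subgroupOf N₁) hq hr hq' hr'
  have hQN₁ : Q'.map N₁.subtype ≤ N₁ := Subgroup.map_subtype_le _
  refine three_primes_lemma hp hq hr hpq hpr hqr A (Q'.map N₁.subtype) (y' : G) hAp hAc hA1
    (hQ'q.map _) ?_ ?_ (hQN₁.trans hNA) (hNA y'.2) ?_
  · rw [Ne, Subgroup.map_eq_bot_iff_of_injective _ N₁.subtype_injective]
    exact hQ'1
  · rw [← hy', Subgroup.orderOf_coe]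
  · apply Subgroup.le_normalizer_map N₁.subtype
    exact ⟨y', hy'Q', rfl⟩

end Cfsg.Agent.S3634
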