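import Mathlib
import Cfsg.Statements.S3641
import Cfsg.Agent.Lib.Helper27.Zass17C

set_option autoImplicit false
open Cfsg

namespace Cfsg.Agent.S3641

open Cfsg.Agent.Helper27.PSLp Cfsg.Agent.Helper27.SylNum Cfsg.Agent.Helper27.PGL

/-- the arithmetic of the Sylow numbers -/
theorem arith {G : Type*} [Group G] [Finite G]
    (hNS : {c : ℕ | ∃ r : ℕ, r.Prime ∧ r ∣ Nat.card G ∧ c = Nat.card (Sylow r G)} =
      ({18, 136, 153} : Set ℕ)) :
    Nat.card (Sylow 17 G) = 18 ∧ Nat.card (Sylow 2 G) = 153 ∧ Nat.card (Sylow 3 G) = 136 ∧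
    (∀ r : ℕ, r.Prime → r ∣ Nat.card G → r = 2 ∨ r = 3 ∨ r = 17 ∨
      (r = 5 ∧ Nat.card (Sylow 5 G) = 136) ∨ (r = 19 ∧ Nat.card (Sylow 19 G) = 153)) := by
  have hmem : ∀ r : ℕ, r.Prime → r ∣ Nat.card G →
      Nat.card (Sylow r G) = 18 ∨ Nat.card (Sylow r G) = 136 ∨ Nat.card (Sylow r G) = 153 := by
    intro r hr hrd
    have : Nat.card (Sylow r G) ∈ ({18, 136, 153} : Set ℕ) := by
      rw [← hNS]
      exact ⟨r, hr, hrd, rfl⟩
    simpa using this
  have hmod : ∀ r : ℕ, r.Prime → Nat.card (Sylow r G) % r = 1 % r := by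
    intro r hr
    haveI := Fact.mk hr
    exact card_sylow_modEq_one r G
  have hdvd : ∀ r : ℕ, r.Prime → Nat.card (Sylow r G) ∣ Nat.card G := by
    intro r hr
    haveI := Fact.mk hr
    obtain ⟨P⟩ : Nonempty (Sylow r G) := inferInstance
    exact (P.card_dvd_index).trans (Subgroup.index_dvd_card _)
  -- the prime with eighteen Sylow subgroups
  have h18 : (18 : ℕ) ∈ {c : ℕ | ∃ r : ℕ, r.Prime ∧ r ∣ Nat.card G ∧ c = Nat.card (Sylow r G)} := by
    rw [hNS]; simp
  obtain ⟨r, hr, hrd, hr18⟩ := h18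
  have hr17 : r = 17 := by
    have h1 := hmod r hr
    rw [← hr18] at h1
    have h2 : r ∣ 17 := by
      have h3 : (18 : ℕ) ≡ 1 [MOD r] := h1
      have := (Nat.modEq_iff_dvd' (by norm_num : 1 ≤ 18)).1 h3.symm
      simpa using this
    rcases (Nat.dvd_prime (by norm_num : Nat.Prime 17)).1 h2 with h | h
    · exact absurd h hr.one_lt.ne'
    · exact h
  subst hr17
  have hn17 : Nat.card (Sylow 17 G) = 18 := hr18.symm
  have h18G : 18 ∣ Nat.card G := by
    have := hdvd 17 hr
    rwa [hn17] at this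
  have h2G : 2 ∣ Nat.card G := Dvd.dvd.trans (by norm_num) h18G
  have h3G : 3 ∣ Nat.card G := Dvd.dvd.trans (by norm_num) h18G
  have hn2 : Nat.card (Sylow 2 G) = 153 := by
    have h1 := hmod 2 Nat.prime_two
    rcases hmem 2 Nat.prime_two h2G with h | h | h
    · rw [h] at h1; norm_num at h1
    · rw [h] at h1; norm_num at h1
    · exact h
  have hn3 : Nat.card (Sylow 3 G) = 136 := by
    have h1 := hmod 3 Nat.prime_three
    rcases hmem 3 Nat.prime_three h3G with h | h | h
    · rw [h] at h1; norm_num at h1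
    · exact h
    · rw [h] at h1; norm_num at h1
  refine ⟨hn17, hn2, hn3, ?_⟩
  intro s hs hsd
  have h1 := hmod s hs
  have hmodeq : ∀ n : ℕ, 1 ≤ n → Nat.card (Sylow s G) = n → s ∣ n - 1 := by
    intro n hn hc
    rw [hc] at h1
    have h3 : n ≡ 1 [MOD s] := h1
    exact (Nat.modEq_iff_dvd' hn).1 h3.symm
  rcases hmem s hs hsd with h | h | h
  · have h2 := hmodeq 18 (by norm_num) h
    have h3 : s ∣ 17 := by simpa using h2
    rcases (Nat.dvd_prime (by norm_num : Nat.Prime 17)).1 h3 with h4 | h4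
    · exact absurd h4 hs.one_lt.ne'
    · exact Or.inr (Or.inr (Or.inl h4))
  · have h2 := hmodeq 136 (by norm_num) h
    have h3 : s ∣ 3 ^ 3 * 5 := by
      have : (136 : ℕ) - 1 = 3 ^ 3 * 5 := by norm_num
      rwa [this] at h2
    rcases (Nat.Prime.dvd_mul hs).1 h3 with h4 | h4
    · have h5 := (Nat.prime_dvd_prime_iff_eq hs Nat.prime_three).1 (hs.dvd_of_dvd_pow h4)
      exact Or.inr (Or.inl h5)
    · have h5 := (Nat.prime_dvd_prime_iff_eq hs Nat.prime_five).1 h4
      subst h5
      exact Or.inr (Or.inr (Or.inr (Or.inl ⟨rfl, h⟩)))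
  · have h2 := hmodeq 153 (by norm_num) h
    have h3 : s ∣ 2 ^ 3 * 19 := by
      have : (153 : ℕ) - 1 = 2 ^ 3 * 19 := by norm_num
      rwa [this] at h2
    rcases (Nat.Prime.dvd_mul hs).1 h3 with h4 | h4
    · have h5 := (Nat.prime_dvd_prime_iff_eq hs Nat.prime_two).1 (hs.dvd_of_dvd_pow h4)
      exact Or.inl h5
    · have h5 := (Nat.prime_dvd_prime_iff_eq hs (by norm_num : Nat.Prime 19)).1 h4
      subst h5
      exact Or.inr (Or.inr (Or.inr (Or.inr ⟨rfl, h⟩)))

/-- Let G be a finite group with trivial centre whose set of Sylow numbers (numbers of Sylow r-subgroups, r over the prime divisors of its order) is exactly {18, 136, 153}. Then G is isomorphic to PSL(2, 17) or to PGL(2, 17). -/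
theorem result {G : Type*} [Group G] [Finite G] (hZ : Subgroup.center G = ⊥) (hNS : {c : ℕ | ∃ r : ℕ, r.Prime ∧ r ∣ Nat.card G ∧ c = Nat.card (Sylow r G)} = ({18, 136, 153} : Set ℕ))
    {F : Type*} [Field F] [Fintype F] (hF : Fintype.card F = 17) :
    Nonempty (G ≃* Matrix.ProjectiveSpecialLinearGroup (Fin 2) F) ∨ Nonempty (G ≃* (GL (Fin 2) F ⧸ Subgroup.center (GL (Fin 2) F))) := by
  obtain ⟨hn17, hn2, hn3, hprimes⟩ := arith hNS
  haveI : Fact (Nat.Prime 2) := ⟨Nat.prime_two⟩
  haveI : Fact (Nat.Prime 3) := ⟨Nat.prime_three⟩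
  set K := sylKer 17 G with hK
  have hXcard : Nat.card (Sylow 17 (G ⧸ K)) = 18 := by
    rw [card_sylow_quot_sylKer, hn17]
  have hXinj := quot_sylKer_faithful (G := G) 17
  obtain ⟨hiso, hXord, hX2, hX3⟩ := zassenhaus17 hXcard hXinj
  have hK2 : ∀ R : Sylow 2 G, K ≤ Subgroup.normalizer (R : Set G) :=
    le_normalizer_of_card_eq K 2 (by rw [hX2, hn2])
  have hX3' : Nat.card (Sylow 3 (G ⧸ K)) = 136 := by
    have hle := card_qmap_le K 3
    rw [hn3] at hle
    have hmod : Nat.card (Sylow 3 (G ⧸ K)) % 3 = 1 % 3 := card_sylow_modEq_one 3 (G ⧸ K)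
    have hdvd : Nat.card (Sylow 3 (G ⧸ K)) ∣ 4896 := by
      obtain ⟨T⟩ : Nonempty (Sylow 3 (G ⧸ K)) := inferInstance
      have h1 := (T.card_dvd_index).trans (Subgroup.index_dvd_card _)
      rcases hXord with h | h
      · rw [h] at h1; exact h1.trans (by norm_num)
      · rwa [h] at h1
    generalize Nat.card (Sylow 3 (G ⧸ K)) = n at *
    interval_cases n <;> omega
  have hK3 : ∀ R : Sylow 3 G, K ≤ Subgroup.normalizer (R : Set G) :=
    le_normalizer_of_card_eq K 3 (by rw [hX3', hn3])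
  have hno : ∀ s : ℕ, s.Prime → s ∣ Nat.card G → s = 2 ∨ s = 3 ∨ s = 17 := by
    intro s hs hsd
    rcases hprimes s hs hsd with h | h | h | ⟨h, hn⟩ | ⟨h, hn⟩
    · exact Or.inl h
    · exact Or.inr (Or.inl h)
    · exact Or.inr (Or.inr h)
    · exfalso
      subst h
      haveI : Fact (Nat.Prime 5) := ⟨hs⟩
      obtain ⟨Y⟩ : Nonempty (Sylow 5 G) := inferInstance
      have hYK : (Y : Subgroup G) ≤ K :=
        sylow_le_of_not_dvd K 5 (by rcases hXord with h | h <;> rw [h] <;> norm_num) Y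
      have := modEq_one_of_sylow_le 17 5 (by norm_num) K (fun P => sylKer_le_normalizer P) Y hYK
        (by rw [hn]; norm_num) (by rw [hn]; norm_num)
      exact absurd this (by decide)
    · exfalso
      subst h
      haveI : Fact (Nat.Prime 19) := ⟨hs⟩
      obtain ⟨Y⟩ : Nonempty (Sylow 19 G) := inferInstance
      have hYK : (Y : Subgroup G) ≤ K :=
        sylow_le_of_not_dvd K 19 (by rcases hXord with h | h <;> rw [h] <;> norm_num) Y
      have := modEq_one_of_sylow_le 17 19 (by norm_num) K (fun P => sylKer_le_normalizer P) Y hYK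
        (by rw [hn]; norm_num) (by rw [hn]; norm_num)
      exact absurd this (by decide)
  have hKall : ∀ (r : ℕ) [Fact r.Prime] (R : Sylow r G), K ≤ Subgroup.normalizer (R : Set G) := by
    intro r hr R
    by_cases hrd : r ∣ Nat.card G
    · rcases hno r hr.out hrd with h | h | h
      · subst h; exact hK2 R
      · subst h; exact hK3 R
      · subst h; exact sylKer_le_normalizer R
    · have hR : Nat.card R = 1 := by
        rw [R.card_eq_multiplicity, Nat.factorization_eq_zero_of_not_dvd hrd, pow_zero]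
      have hRb : (R : Subgroup G) = ⊥ := Subgroup.card_eq_one.1 hR
      intro k _
      show k ∈ Subgroup.normalizer ((R : Subgroup G) : Set G)
      rw [hRb, Subgroup.mem_normalizer_iff]
      intro h
      rw [Subgroup.mem_bot, Subgroup.mem_bot]
      constructor
      · intro h1; rw [h1]; group
      · intro h1
        have : h = k⁻¹ * (k * h * k⁻¹) * k := by group
        rw [this, h1]; group
  have hKbot : K = ⊥ := ker_trivial K hKall hZ
  have e : G ≃* G ⧸ K :=
    ((QuotientGroup.quotientMulEquivOfEq hKbot).trans QuotientGroup.quotientBot).symm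
  rcases hiso with ⟨⟨e1⟩⟩ | ⟨⟨e1⟩⟩
  · left
    exact transfer ⟨e.trans e1⟩ hF
  · right
    exact ⟨(e.trans e1).trans (pglTransfer (ZMod.ringEquivOfPrime F (by norm_num) hF))⟩

end Cfsg.Agent.S3641
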