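import Mathlib
import Cfsg.Statements.S3662
import Cfsg.Agent.Lib.Helper9.G24Iso
import Cfsg.Agent.Lib.Helper9.G24Prime
import Cfsg.Agent.Lib.Helper9.ChevFieldIso

set_option autoImplicit false
open Cfsg

namespace Cfsg.Agent.S3662

open Cfsg.Lie Cfsg.Agent.Helper9 Cfsg.Agent.Helper9.G24Simple Cfsg.Agent.Helper9.G24Prime

/-- The prime graph of a finite group has the prime divisors of its order as vertices, two distinct primes p, q being joined when the group has an element of order pq; two groups have the same prime graph when they have the same prime divisors and the same joined pairs. Let F be the field with 4 elements and L the Chevalley group of type G₂ over F. There are finite groups of arbitrarily large order with the same prime graph as L. -/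
theorem result {F : Type*} [Field F] [Fintype F] (hF : Fintype.card F = 4) (N : ℕ) :
    ∃ (H : Type) (_ : Group H) (_ : Finite H), N < Nat.card H ∧
      ((∀ p : ℕ, p.Prime → (p ∣ Nat.card ↥(Cfsg.Lie.chevG2.group F) ↔ p ∣ Nat.card H)) ∧
      (∀ p q : ℕ, p.Prime → q.Prime → p ≠ q → ((∃ g : ↥(Cfsg.Lie.chevG2.group F), orderOf g = p * q) ↔ (∃ g : H, orderOf g = p * q)))) := by
  -- the isomorphism with the presented group
  have e0 : F ≃+* F4 := FiniteField.ringEquivOfCardEq (hF.trans F4.card.symm)
  have e : ↥(chevG2.group F) ≃* PG24 :=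
    (ChevFieldIso.groupCongr chevG2 e0).trans G24Iso.iso.symm
  have hfin : Finite PG24 := hub.1
  have hfinH : Finite (Ext N) := by
    have : Finite (Ker N) := inferInstanceAs (Finite (Fin N → Fin 6 → F4))
    exact Finite.of_equiv _ SemidirectProduct.equivProd.symm
  refine ⟨Ext N, inferInstance, hfinH, card_lt N, ?_, ?_⟩
  · intro p hp
    rw [Nat.card_congr e.toEquiv]
    exact (main N).1 p hp
  · intro p q hp hq hpq
    rw [← (main N).2 p q hp hq hpq]
    constructor
    · rintro ⟨g, hg⟩
      exact ⟨e g, by rw [MulEquiv.orderOf_eq, hg]⟩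
    · rintro ⟨g, hg⟩
      exact ⟨e.symm g, by rw [MulEquiv.orderOf_eq, hg]⟩

end Cfsg.Agent.S3662
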