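import Mathlib
import Cfsg.Statements.S3663
import Cfsg.Agent.Lib.Helper9.U34Iso
import Cfsg.Agent.Lib.Helper9.U34Prime

set_option autoImplicit false
open Cfsg

namespace Cfsg.Agent.S3663

open Cfsg.Agent.Helper9 Cfsg.Agent.Helper9.U34Simple Cfsg.Agent.Helper9.U34Prime

/-- The prime graph of a finite group has the prime divisors of its order as vertices, two distinct primes p, q being joined when the group has an element of order pq; two groups have the same prime graph when they have the same prime divisors and the same joined pairs. Let F be the field with 16 elements and L = PSU(3,4) realised over F. There are finite groups of arbitrarily large order with the same prime graph as L. -/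
theorem result {F : Type*} [Field F] [Fintype F] (hF : Fintype.card F = 16) (N : ℕ) :
    ∃ (H : Type) (_ : Group H) (_ : Finite H), N < Nat.card H ∧
      ((∀ p : ℕ, p.Prime → (p ∣ Nat.card (Cfsg.PSU 3 F 4) ↔ p ∣ Nat.card H)) ∧
      (∀ p q : ℕ, p.Prime → q.Prime → p ≠ q → ((∃ g : (Cfsg.PSU 3 F 4), orderOf g = p * q) ↔ (∃ g : H, orderOf g = p * q)))) := by
  -- the isomorphism with the presented group
  have e : Cfsg.PSU 3 F 4 ≃* PU34 := U34Iso.iso hF
  have hfin : Finite PU34 := hub.1
  have hfinH : Finite (Ext N) := by
    have : Finite (Ker N) := inferInstanceAs (Finite (Fin N → Fin 12 → ZMod 5))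
    exact Finite.of_equiv _ SemidirectProduct.equivProd.symm
  refine ⟨Ext N, inferInstance, hfinH, card_lt N, ?_, ?_⟩
  · intro p hp
    rw [Nat.card_congr e.toEquiv]
    exact (main N).1 p hp
  · intro p q hp hq hpq
    rw [← (main N).2 p q hp hq hpq]
    constructor
    · rintro ⟨g, hg⟩
      exact ⟨e g, by rw [MulEquiv.orderOf_eq, hg]⟩
    · rintro ⟨g, hg⟩
      exact ⟨e.symm g, by rw [MulEquiv.orderOf_eq, hg]⟩

end Cfsg.Agent.S3663
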