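import Cfsg.Statements.S3664
import Cfsg.Agent.Lib.Helper15.S64Asm

set_option autoImplicit false
open Cfsg

namespace Cfsg.Agent.S3664

open Cfsg.Agent.Helper15.S64 Cfsg.Agent.Helper2 Cfsg.Agent.Helper2.Sz

theorem result {F : Type*} [Field F] [Fintype F] (hF : Fintype.card F = 3) (N : ℕ) :
    ∃ (H : Type) (_ : Group H) (_ : Finite H), N < Nat.card H ∧
      ((∀ p : ℕ, p.Prime → (p ∣ Nat.card (Cfsg.PSp 3 F) ↔ p ∣ Nat.card H)) ∧
      (∀ p q : ℕ, p.Prime → q.Prime → p ≠ q → ((∃ g : (Cfsg.PSp 3 F), orderOf g = p * q) ↔ (∃ g : H, orderOf g = p * q)))) := by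
  have : Fact (Nat.Prime 2) := ⟨Nat.prime_two⟩
  letI : Fintype (GaloisField 2 3) := Fintype.ofFinite _
  have h8 : Fintype.card (GaloisField 2 3) = 2 ^ (2 * 1 + 1) := by
    rw [Fintype.card_eq_nat_card, GaloisField.card 2 3 (by norm_num)]
  obtain ⟨S⟩ := nonempty_szData (F := GaloisField 2 3) (m := 1) h8
  refine ⟨Hgrp S h8 (N + 1), inferInstance, inferInstance, ?_, ?_, ?_⟩
  · rw [card_H S h8 (card_L S h8)]
    have h1 : N + 1 < 2 ^ (N + 1) := Nat.lt_two_pow_self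
    have h2 : 2 ^ (N + 1) ≤ (2 ^ 48) ^ (N + 1) :=
      Nat.pow_le_pow_left (by norm_num) _
    have h3 : (2 ^ 48) ^ (N + 1) ≤ (2 ^ 48) ^ (N + 1) * (29120 * 3) :=
      Nat.le_mul_of_pos_right _ (by norm_num)
    omega
  · intro p hp
    rw [card_H S h8 (card_L S h8), primes_H (N + 1) hp, psp_primes hF hp]
  · intro p q hp hq hpq
    rw [psp_edges hF hp hq hpq, H_edges S h8 (by omega) hp hq hpq]

end Cfsg.Agent.S3664
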