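import Mathlib
import Cfsg.Statements.S3669
import Cfsg.Agent.S0169
import Cfsg.Agent.S0493
import Cfsg.Agent.Lib.Helper2.Order60
import Cfsg.Agent.Lib.Helper24.CharComplete
import Cfsg.Agent.Lib.Helper24.CharIntegral

set_option autoImplicit false
set_option linter.style.haveILetI false
open Cfsg

namespace Cfsg.Agent.S3669

open Cfsg.Agent.Helper24

universe u

/-! ### The character degrees of `A₅` -/

abbrev A5 := alternatingGroup (Fin 5)

set_option maxRecDepth 1000000 in
theorem a5_comm_pairs :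
    Fintype.card {p : A5 × A5 // p.1 * p.2 = p.2 * p.1} = 300 := by
  decide +kernel

theorem card_A5 : Nat.card A5 = 60 := by
  rw [Nat.card_eq_fintype_card]
  decide

theorem card_conj_A5 : Nat.card (ConjClasses A5) = 5 := by
  have h := card_comm_eq_card_conjClasses_mul_card A5
  have h2 : Nat.card {p : A5 × A5 // Commute p.1 p.2} = 300 := by
    show Nat.card {p : A5 × A5 // p.1 * p.2 = p.2 * p.1} = 300
    rw [Nat.card_eq_fintype_card]
    convert a5_comm_pairs
  rw [h2, card_A5] at h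
  omega

set_option synthInstance.maxSize 4000 in
set_option synthInstance.maxHeartbeats 400000 in
set_option maxRecDepth 100000 in
theorem key : ∀ a b c e f : Fin 8,
    a.val ^ 2 + b.val ^ 2 + c.val ^ 2 + e.val ^ 2 + f.val ^ 2 = 60 →
    (a.val ∣ 60 ∧ b.val ∣ 60 ∧ c.val ∣ 60 ∧ e.val ∣ 60 ∧ f.val ∣ 60) →
    ((a.val = 3 ∨ b.val = 3 ∨ c.val = 3 ∨ e.val = 3 ∨ f.val = 3) ∧
     (a.val = 4 ∨ b.val = 4 ∨ c.val = 4 ∨ e.val = 4 ∨ f.val = 4) ∧
     (a.val = 5 ∨ b.val = 5 ∨ c.val = 5 ∨ e.val = 5 ∨ f.val = 5)) := by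
  decide +kernel

theorem key' (a b c e f : ℕ) (h : a ^ 2 + b ^ 2 + c ^ 2 + e ^ 2 + f ^ 2 = 60)
    (ha : a ∣ 60) (hb : b ∣ 60) (hc : c ∣ 60) (he : e ∣ 60) (hf : f ∣ 60) :
    ((a = 3 ∨ b = 3 ∨ c = 3 ∨ e = 3 ∨ f = 3) ∧
     (a = 4 ∨ b = 4 ∨ c = 4 ∨ e = 4 ∨ f = 4) ∧
     (a = 5 ∨ b = 5 ∨ c = 5 ∨ e = 5 ∨ f = 5)) := by
  have ha8 : a < 8 := by nlinarith
  have hb8 : b < 8 := by nlinarith
  have hc8 : c < 8 := by nlinarith
  have he8 : e < 8 := by nlinarith
  have hf8 : f < 8 := by nlinarith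
  exact key ⟨a, ha8⟩ ⟨b, hb8⟩ ⟨c, hc8⟩ ⟨e, he8⟩ ⟨f, hf8⟩ h ⟨ha, hb, hc, he, hf⟩

theorem a5_degrees : (∃ χ : IrrCharacter A5, charDegree (χ : A5 → ℂ) = 3) ∧
    (∃ χ : IrrCharacter A5, charDegree (χ : A5 → ℂ) = 4) ∧
    (∃ χ : IrrCharacter A5, charDegree (χ : A5 → ℂ) = 5) := by
  classical
  letI := irrFintype (G := A5)
  have hk : Fintype.card (IrrCharacter A5) = 5 := by
    rw [← Nat.card_eq_fintype_card, card_irr_eq_card_conjClasses, card_conj_A5]
  let e : IrrCharacter A5 ≃ Fin 5 := Fintype.equivFinOfCardEq hk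
  set d : Fin 5 → ℕ := fun j => charDegree ((e.symm j : IrrCharacter A5) : A5 → ℂ) with hd
  have hsum : ∑ j : Fin 5, d j ^ 2 = 60 := by
    have h := sum_charDegree_sq (G := A5)
    rw [card_A5] at h
    rw [← h]
    exact Equiv.sum_comp e.symm (fun χ : IrrCharacter A5 => charDegree (χ : A5 → ℂ) ^ 2)
  have hdvd : ∀ j, d j ∣ 60 := by
    intro j
    have := charDegree_dvd_card (e.symm j).2
    rwa [card_A5] at this
  rw [Fin.sum_univ_five] at hsum
  obtain ⟨h3, h4, h5⟩ := key' _ _ _ _ _ hsum (hdvd 0) (hdvd 1) (hdvd 2) (hdvd 3) (hdvd 4)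
  refine ⟨?_, ?_, ?_⟩
  · rcases h3 with h | h | h | h | h
    exacts [⟨_, h⟩, ⟨_, h⟩, ⟨_, h⟩, ⟨_, h⟩, ⟨_, h⟩]
  · rcases h4 with h | h | h | h | h
    exacts [⟨_, h⟩, ⟨_, h⟩, ⟨_, h⟩, ⟨_, h⟩, ⟨_, h⟩]
  · rcases h5 with h | h | h | h | h
    exacts [⟨_, h⟩, ⟨_, h⟩, ⟨_, h⟩, ⟨_, h⟩, ⟨_, h⟩]

theorem a5_degreePrimes : 2 ∈ degreePrimes A5 ∧ 3 ∈ degreePrimes A5 ∧ 5 ∈ degreePrimes A5 := by
  obtain ⟨⟨χ3, h3⟩, ⟨χ4, h4⟩, ⟨χ5, h5⟩⟩ := a5_degrees
  refine ⟨⟨Nat.prime_two, 4, ⟨χ4, h4⟩, by norm_num⟩, ⟨Nat.prime_three, 3, ⟨χ3, h3⟩, dvd_rfl⟩,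
    ⟨Nat.prime_five, 5, ⟨χ5, h5⟩, dvd_rfl⟩⟩

/-! ### Groups of order less than 60 are solvable -/

theorem exists_normal_of_not_simple {H : Type u} [Group H] [Nontrivial H]
    (h : ¬ IsSimpleGroup H) : ∃ N : Subgroup H, N.Normal ∧ N ≠ ⊥ ∧ N ≠ ⊤ := by
  by_contra hcon
  push Not at hcon
  apply h
  refine { toNontrivial := inferInstance, eq_bot_or_eq_top_of_normal := ?_ }
  intro N hN
  by_cases hb : N = ⊥
  · exact Or.inl hb
  · exact Or.inr (hcon N hN hb)

theorem card_lt_of_ne_top {H : Type u} [Group H] [Finite H] (N : Subgroup H) (h : N ≠ ⊤) :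
    Nat.card N < Nat.card H := by
  have hle := Subgroup.card_le_card_group N
  have hne : Nat.card N ≠ Nat.card H := fun he => h ((Subgroup.card_eq_iff_eq_top N).mp he)
  omega

theorem card_quot_lt_of_ne_bot {H : Type u} [Group H] [Finite H] (N : Subgroup H) [N.Normal]
    (h : N ≠ ⊥) : Nat.card (H ⧸ N) < Nat.card H := by
  have h1 := Subgroup.card_mul_index N
  have h2 : 1 < Nat.card N := (Subgroup.one_lt_card_iff_ne_bot N).mpr h
  rw [← Subgroup.index_eq_card]
  have hpos : 0 < N.index := Nat.pos_of_ne_zero (Subgroup.index_ne_zero_of_finite)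
  nlinarith

theorem isSolvable_of_normal {H : Type u} [Group H] (N : Subgroup H) [N.Normal]
    (h1 : Group.IsSolvable N) (h2 : Group.IsSolvable (H ⧸ N)) : Group.IsSolvable H :=
  (Group.isSolvable_iff_subgroup_quotient N).mpr ⟨h1, h2⟩

theorem isSolvable_of_card_lt (n : ℕ) : ∀ (H : Type u) [Group H] [Finite H],
    Nat.card H = n → n < 60 → Group.IsSolvable H := by
  induction n using Nat.strong_induction_on with
  | _ n ih =>
  intro H _ _ hn hlt
  by_cases hsub : Subsingleton H
  · exact inferInstance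
  · haveI : Nontrivial H := not_subsingleton_iff_nontrivial.mp hsub
    by_cases hs : IsSimpleGroup H
    · by_cases hc : IsCyclic H
      · exact Group.isSolvable_of_comm (fun a b => (IsCyclic.commGroup (α := H)).mul_comm a b)
      · have := Cfsg.Agent.S0493.result (G := H) hc (by omega)
        omega
    · obtain ⟨N, hN, hb, ht⟩ := exists_normal_of_not_simple hs
      haveI := hN
      have c1 := card_lt_of_ne_top N ht
      have c2 := card_quot_lt_of_ne_bot N hb
      exact isSolvable_of_normal N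
        (ih (Nat.card N) (by omega) N rfl (by omega))
        (ih (Nat.card (H ⧸ N)) (by omega) (H ⧸ N) rfl (by omega))

/-! ### Abelian normal subgroups of solvable groups -/

theorem exists_abelian_normal (H : Type u) [Group H] [Group.IsSolvable H] [Nontrivial H] :
    ∃ A : Subgroup H, A.Normal ∧ A ≠ ⊥ ∧ ∀ a ∈ A, ∀ b ∈ A, a * b = b * a := by
  classical
  have hex : ∃ n, derivedSeries H n = ⊥ := Group.IsSolvable.solvable
  set n := Nat.find hex with hn
  have hn0 : n ≠ 0 := by
    intro h0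
    have := Nat.find_spec hex
    rw [← hn, h0, derivedSeries_zero] at this
    exact top_ne_bot this
  obtain ⟨m, hm⟩ := Nat.exists_eq_succ_of_ne_zero hn0
  refine ⟨derivedSeries H m, derivedSeries_normal H m, ?_, ?_⟩
  · exact Nat.find_min hex (by omega)
  · have hbot : derivedSeries H (m + 1) = ⊥ := by
      have := Nat.find_spec hex
      rwa [← hn, hm] at this
    rw [derivedSeries_succ] at hbot
    have hle := (Subgroup.commutator_eq_bot_iff_le_centralizer).mp hbot
    intro a ha b hb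
    exact ((Subgroup.mem_centralizer_iff.mp (hle hb)) a ha)

/-! ### The main argument -/

theorem central_of_card_two {G : Type u} [Group G] (N : Subgroup G) [hN : N.Normal]
    (h2 : Nat.card N = 2) : ∀ n ∈ N, ∀ g : G, g * n = n * g := by
  intro n hn g
  by_cases h1 : n = 1
  · subst h1; simp
  · obtain ⟨x, y, hxy, huniv⟩ := Nat.card_eq_two_iff.mp h2
    have hmem : ∀ z : N, z = x ∨ z = y := by
      intro z
      have : z ∈ ({x, y} : Set N) := by rw [huniv]; trivial
      simpa using this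
    have hc : g * n * g⁻¹ ∈ N := hN.conj_mem n hn g
    have hc1 : g * n * g⁻¹ ≠ 1 := by
      intro h
      apply h1
      have : g * n = g := by
        have := congrArg (· * g) h
        simpa using this
      exact mul_left_cancel (a := g) (by rw [this, mul_one])
    -- both n and its conjugate are the unique non-identity element
    have key : ∀ z w : N, z ≠ 1 → w ≠ 1 → z = w := by
      intro z w hz hw
      rcases hmem z with rfl | rfl <;> rcases hmem w with rfl | rfl <;>
        rcases hmem 1 with h | h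
      all_goals first
        | rfl
        | exact absurd h.symm hz
        | exact absurd h.symm hw
    have := key ⟨g * n * g⁻¹, hc⟩ ⟨n, hn⟩
      (fun h => hc1 (congrArg Subtype.val h)) (fun h => h1 (congrArg Subtype.val h))
    have h3 : g * n * g⁻¹ = n := congrArg Subtype.val this
    calc g * n = g * n * g⁻¹ * g := by group
      _ = n * g := by rw [h3]

/-- A finite group of order 60 with the same character degree graph as A₅ is isomorphic to A₅. -/
theorem result {G : Type*} [Group G] [Finite G] (hcard : Nat.card G = 60)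
    (hΓ : Cfsg.degreePrimes G = Cfsg.degreePrimes (alternatingGroup (Fin 5)) ∧ Cfsg.degreeGraph G = Cfsg.degreeGraph (alternatingGroup (Fin 5))) : Nonempty (G ≃* alternatingGroup (Fin 5)) := by
  classical
  letI : Fintype G := Fintype.ofFinite G
  obtain ⟨hA2, hA3, hA5⟩ := a5_degreePrimes
  rw [← hΓ.1] at hA2 hA3 hA5
  obtain ⟨-, d2, ⟨χ2, hχ2⟩, hd2⟩ := hA2
  obtain ⟨-, d3, ⟨χ3, hχ3⟩, hd3⟩ := hA3
  obtain ⟨-, d5, ⟨χ5, hχ5⟩, hd5⟩ := hA5
  haveI : Nontrivial G := by
    apply (Finite.one_lt_card_iff_nontrivial).mp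
    omega
  -- Itô: degrees divide the index of an abelian normal subgroup
  have ito : ∀ (A : Subgroup G) [A.Normal], (∀ a ∈ A, ∀ b ∈ A, a * b = b * a) →
      2 ∣ A.index ∧ 3 ∣ A.index ∧ 5 ∣ A.index := by
    intro A _ hA
    have h := fun χ : IrrCharacter G =>
      Cfsg.Agent.S0169.ito_aux (Nat.card G) G rfl A hA (χ : G → ℂ) χ.2
    refine ⟨dvd_trans hd2 (hχ2 ▸ h χ2), dvd_trans hd3 (hχ3 ▸ h χ3), dvd_trans hd5 (hχ5 ▸ h χ5)⟩
  suffices hs : IsSimpleGroup G by
    exact Cfsg.Agent.Helper2.simple_sixty_equiv_alternating hcard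
  by_contra hns
  -- G is solvable
  have hsolv : Group.IsSolvable G := by
    obtain ⟨N, hN, hb, ht⟩ := exists_normal_of_not_simple hns
    haveI := hN
    have c1 := card_lt_of_ne_top N ht
    have c2 := card_quot_lt_of_ne_bot N hb
    exact isSolvable_of_normal N
      (isSolvable_of_card_lt (Nat.card N) N rfl (by omega))
      (isSolvable_of_card_lt (Nat.card (G ⧸ N)) (G ⧸ N) rfl (by omega))
  -- a normal abelian subgroup: it has order 2
  obtain ⟨N, hN, hNb, hNab⟩ := exists_abelian_normal G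
  haveI := hN
  obtain ⟨i2, i3, i5⟩ := ito N hNab
  have hNcard : Nat.card N = 2 := by
    have h1 := Subgroup.card_mul_index N
    rw [hcard] at h1
    have h30 : 30 ∣ N.index := by
      have h6 : 6 ∣ N.index := Nat.Coprime.mul_dvd_of_dvd_of_dvd (by norm_num) i2 i3
      exact Nat.Coprime.mul_dvd_of_dvd_of_dvd (by norm_num) h6 i5
    obtain ⟨k, hk⟩ := h30
    have h2 : 1 < Nat.card N := (Subgroup.one_lt_card_iff_ne_bot N).mpr hNb
    rw [hk] at h1
    have hkpos : 0 < k := by
      rcases Nat.eq_zero_or_pos k with h | h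
      · subst h; simp at h1
      · exact h
    nlinarith
  have hNcent := central_of_card_two N hNcard
  -- the quotient of order 30
  have hQcard : Nat.card (G ⧸ N) = 30 := by
    have h1 := Subgroup.card_mul_index N
    rw [hcard, hNcard, Subgroup.index_eq_card] at h1
    omega
  haveI : Nontrivial (G ⧸ N) := by
    apply (Finite.one_lt_card_iff_nontrivial).mp
    omega
  haveI : Group.IsSolvable (G ⧸ N) := inferInstance
  obtain ⟨Ab, hAbn, hAbb, hAbab⟩ := exists_abelian_normal (G ⧸ N)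
  haveI := hAbn
  -- a prime dividing the order of `Ab`
  have hAb1 : 1 < Nat.card Ab := (Subgroup.one_lt_card_iff_ne_bot Ab).mpr hAbb
  obtain ⟨p, hp, hpdvd⟩ := Nat.exists_prime_and_dvd (by omega : Nat.card Ab ≠ 1)
  haveI : Fact p.Prime := ⟨hp⟩
  -- the subgroup of elements of order dividing p in Ab
  let P : Subgroup (G ⧸ N) :=
    { carrier := {x | x ∈ Ab ∧ x ^ p = 1}
      mul_mem' := by
        rintro x y ⟨hx, hx1⟩ ⟨hy, hy1⟩
        refine ⟨Ab.mul_mem hx hy, ?_⟩
        have hc : Commute x y := hAbab x hx y hy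
        rw [hc.mul_pow, hx1, hy1, one_mul]
      one_mem' := ⟨Ab.one_mem, one_pow _⟩
      inv_mem' := by
        rintro x ⟨hx, hx1⟩
        exact ⟨Ab.inv_mem hx, by rw [inv_pow, hx1, inv_one]⟩ }
  have hPn : P.Normal := by
    refine ⟨fun x hx g => ?_⟩
    obtain ⟨hx, hx1⟩ := hx
    refine ⟨hAbn.conj_mem x hx g, ?_⟩
    rw [conj_pow, hx1]; group
  have hPpg : IsPGroup p P := by
    intro x
    refine ⟨1, ?_⟩
    have := x.2.2
    apply Subtype.ext
    simpa using this
  have hPb : P ≠ ⊥ := by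
    obtain ⟨x, hx⟩ := exists_prime_orderOf_dvd_card' (G := Ab) p hpdvd
    intro h
    have hxP : (x : G ⧸ N) ∈ P := by
      refine ⟨x.2, ?_⟩
      have := pow_orderOf_eq_one x
      rw [hx] at this
      exact_mod_cast congrArg Subtype.val this
    rw [h, Subgroup.mem_bot] at hxP
    have hx1 : x = 1 := Subtype.ext hxP
    rw [hx1, orderOf_one] at hx
    exact hp.one_lt.ne hx
  obtain ⟨k, hk⟩ := hPpg.exists_card_eq
  have hPdvd : Nat.card P ∣ 30 := hQcard ▸ Subgroup.card_subgroup_dvd_card P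
  have hP1 : 1 < Nat.card P := (Subgroup.one_lt_card_iff_ne_bot P).mpr hPb
  have hk1 : k = 1 := by
    rw [hk] at hPdvd hP1
    have hk0 : k ≠ 0 := by
      rintro rfl; simp at hP1
    by_contra hne
    have hk2 : 2 ≤ k := by omega
    have hpp : p ^ 2 ∣ 30 := dvd_trans (pow_dvd_pow p hk2) hPdvd
    have hp6 : p < 6 := by
      have := Nat.le_of_dvd (by norm_num) hpp
      nlinarith
    interval_cases p <;> first | (revert hpp; decide) | (exfalso; revert hp; decide)
  rw [hk1, pow_one] at hk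
  have hp30 : p ∣ 30 := hk ▸ hPdvd
  have hpcases : p = 2 ∨ p = 3 ∨ p = 5 := by
    have hp31 : p < 31 := Nat.lt_succ_of_le (Nat.le_of_dvd (by norm_num) hp30)
    interval_cases p <;> first | omega | (exfalso; revert hp30; decide) | (exfalso; revert hp; decide)
  haveI : IsCyclic P := isCyclic_of_prime_card hk
  obtain ⟨gb, hgb⟩ := IsCyclic.exists_generator (α := P)
  obtain ⟨g, hg⟩ := QuotientGroup.mk_surjective (gb : G ⧸ N)
  -- preimage of P
  let M : Subgroup G := P.comap (QuotientGroup.mk' N)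
  haveI hMn : M.Normal := hPn.comap _
  have hMform : ∀ x ∈ M, ∃ (i : ℤ) (n : G), n ∈ N ∧ x = g ^ i * n := by
    intro x hx
    have hxP : (QuotientGroup.mk' N x) ∈ P := hx
    obtain ⟨i, hi⟩ := Subgroup.mem_zpowers_iff.mp (hgb ⟨_, hxP⟩)
    refine ⟨i, (g ^ i)⁻¹ * x, ?_, by group⟩
    have h1 : ((gb ^ i : P) : G ⧸ N) = QuotientGroup.mk' N x := congrArg Subtype.val hi
    rw [← QuotientGroup.eq_one_iff]
    have : ((g ^ i : G) : G ⧸ N) = QuotientGroup.mk' N x := by
      rw [← h1]
      push_cast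
      rw [← hg]
      rfl
    rw [QuotientGroup.mk_mul, QuotientGroup.mk_inv, this]
    exact inv_mul_cancel _
  have hMab : ∀ a ∈ M, ∀ b ∈ M, a * b = b * a := by
    intro a ha b hb
    obtain ⟨i, n, hn, rfl⟩ := hMform a ha
    obtain ⟨j, m, hm, rfl⟩ := hMform b hb
    have c1 : ∀ z : G, z * n = n * z := fun z => hNcent n hn z
    have c2 : ∀ z : G, z * m = m * z := fun z => hNcent m hm z
    calc g ^ i * n * (g ^ j * m) = g ^ i * (n * g ^ j) * m := by group
      _ = g ^ i * (g ^ j * n) * m := by rw [c1]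
      _ = g ^ i * g ^ j * (n * m) := by group
      _ = g ^ j * g ^ i * (m * n) := by
          rw [← c2 n, ← zpow_add, ← zpow_add, add_comm]
      _ = g ^ j * (g ^ i * m) * n := by group
      _ = g ^ j * (m * g ^ i) * n := by rw [c2]
      _ = g ^ j * m * (g ^ i * n) := by group
  obtain ⟨j2, j3, j5⟩ := ito M hMab
  have hMidx : M.index = P.index :=
    Subgroup.index_comap_of_surjective P (QuotientGroup.mk'_surjective N)
  have hPidx : P.index * p = 30 := by
    have := Subgroup.card_mul_index P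
    rw [hk, hQcard] at this
    rw [mul_comm]; exact this
  rw [hMidx] at j2 j3 j5
  rcases hpcases with rfl | rfl | rfl
  · have : P.index = 15 := by omega
    rw [this] at j2; revert j2; decide
  · have : P.index = 10 := by omega
    rw [this] at j3; revert j3; decide
  · have : P.index = 6 := by omega
    rw [this] at j5; revert j5; decide

end Cfsg.Agent.S3669
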