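import Mathlib
import Cfsg.Statements.S3678
import Cfsg.Agent.Lib.Helper18.PrimeGraphSL2
import Cfsg.Agent.Lib.Helper18.SL2Small

set_option autoImplicit false
open Cfsg

namespace Cfsg.Agent.S3678

open Cfsg.Agent.Helper18 Matrix

/-- The prime graph of a finite group has the prime divisors of its order as vertices, two distinct primes p, q being joined when the group has an element of order pq; two groups have the same prime graph when they have the same prime divisors and the same joined pairs. Let F be the field with 7 elements. There are finite groups of arbitrarily large order with the same prime graph as PSL(2,F) (the graph on {2, 3, 7} with no edges, which is also the prime graph of PSL(2,8)). -/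
theorem result {F : Type*} [Field F] [Fintype F] (hF : Fintype.card F = 7) (N : ℕ) :
    ∃ (H : Type) (_ : Group H) (_ : Finite H), N < Nat.card H ∧
      ((∀ p : ℕ, p.Prime → (p ∣ Nat.card (Matrix.ProjectiveSpecialLinearGroup (Fin 2) F) ↔ p ∣ Nat.card H)) ∧
      (∀ p q : ℕ, p.Prime → q.Prime → p ≠ q → ((∃ g : (Matrix.ProjectiveSpecialLinearGroup (Fin 2) F), orderOf g = p * q) ↔ (∃ g : H, orderOf g = p * q)))) := by
  have hK : Nat.card (GaloisField 2 3) = 8 := by
    rw [GaloisField.card 2 3 (by norm_num)]; norm_num
  -- the prime graph of PSL(2,7)
  have hpsl := prime_graph_of_pow (X := Matrix.ProjectiveSpecialLinearGroup (Fin 2) F)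
    (by
      intro g
      rcases psl27_pow hF g with h | h | h
      · exact Or.inl h
      · right; left
        rw [show 9 = 3 * 3 from rfl, pow_mul, h, one_pow]
      · exact Or.inr (Or.inr h))
    (psl27_exists_two hF) (psl27_exists_three hF) (psl27_exists_seven hF)
  -- the prime graph of SL(2,8)
  have hsl := prime_graph_of_pow (X := SpecialLinearGroup (Fin 2) (GaloisField 2 3))
    (by
      intro g
      rcases sl28_pow hK g with h | h | h
      · left
        rw [show 4 = 2 * 2 from rfl, pow_mul, h, one_pow]
      · exact Or.inr (Or.inr h)
      · exact Or.inr (Or.inl h))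
    sl28_exists_two sl28_exists_three (sl28_exists_seven hK)
  refine exists_large_of_same_as_SL2 (GaloisField 2 3) ?_ ?_ N
  · intro p hp
    rw [hpsl.1 p hp, hsl.1 p hp]
  · intro p q hp hq hpq
    constructor
    · intro h
      exact absurd h (hpsl.2 p q hp hq hpq)
    · intro h
      exact absurd h (hsl.2 p q hp hq hpq)

end Cfsg.Agent.S3678
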