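import Mathlib
import Cfsg.Statements.S3681
-- import your own Cfsg.Agent.* helpers here

set_option autoImplicit false
open Cfsg

namespace Cfsg.Agent.S3681

section
variable {Ω : Type*} [Fintype Ω] [DecidableEq Ω]

theorem isThreeCycle_comm (g h : Equiv.Perm Ω) (a : Ω) (hga : g a ≠ a) (hha : h a ≠ a)
    (hdisj : ∀ x, x ≠ a → g x ≠ x → h x = x) :
    (g * h * g⁻¹ * h⁻¹).IsThreeCycle := by
  have hdisj' : ∀ x, x ≠ a → h x ≠ x → g x = x := fun x hx hh => by
    by_contra hg; exact hh (hdisj x hx hg)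
  have hgga : g (g a) ≠ g a := fun e => hga (g.injective e)
  have hhha : h (h a) ≠ h a := fun e => hha (h.injective e)
  have h1 : h (g a) = g a := hdisj (g a) hga hgga
  have h2 : g (h a) = h a := hdisj' (h a) hha hhha
  have h3 : g a ≠ h a := by
    intro e
    apply hhha
    rw [← e]
    exact h1
  have hinvfix : ∀ (f : Equiv.Perm Ω) (x : Ω), f x = x → f⁻¹ x = x := fun f x hx =>
    Equiv.Perm.inv_eq_iff_eq.mpr hx.symm
  have hca : (g * h * g⁻¹ * h⁻¹) a = g a := by
    simp only [Equiv.Perm.mul_apply]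
    have hb1 : h (h⁻¹ a) = a := h.apply_symm_apply a
    have hb2 : h⁻¹ a ≠ a := by
      intro e; rw [e] at hb1; exact hha hb1
    have hb3 : h (h⁻¹ a) ≠ h⁻¹ a := by rw [hb1]; exact fun e => hb2 e.symm
    have hb4 : g (h⁻¹ a) = h⁻¹ a := hdisj' _ hb2 hb3
    rw [hinvfix g _ hb4, hb1]
  have hcga : (g * h * g⁻¹ * h⁻¹) (g a) = h a := by
    simp only [Equiv.Perm.mul_apply]
    rw [hinvfix h _ h1, show g⁻¹ (g a) = a from g.symm_apply_apply a, h2]
  have hcha : (g * h * g⁻¹ * h⁻¹) (h a) = a := by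
    simp only [Equiv.Perm.mul_apply]
    rw [show h⁻¹ (h a) = a from h.symm_apply_apply a]
    have hb1 : g (g⁻¹ a) = a := g.apply_symm_apply a
    have hb2 : g⁻¹ a ≠ a := by
      intro e; rw [e] at hb1; exact hga hb1
    have hb3 : g (g⁻¹ a) ≠ g⁻¹ a := by rw [hb1]; exact fun e => hb2 e.symm
    have hb4 : h (g⁻¹ a) = g⁻¹ a := hdisj _ hb2 hb3
    rw [hb4, hb1]
  have hc : g * h * g⁻¹ * h⁻¹ = Equiv.swap a (h a) * Equiv.swap a (g a) := by
    ext x
    by_cases hxa : x = a
    · subst hxa
      rw [hca, Equiv.Perm.mul_apply, Equiv.swap_apply_left,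
        Equiv.swap_apply_of_ne_of_ne hga h3]
    by_cases hxg : x = g a
    · subst hxg
      rw [hcga, Equiv.Perm.mul_apply, Equiv.swap_apply_right, Equiv.swap_apply_left]
    by_cases hxh : x = h a
    · subst hxh
      rw [hcha, Equiv.Perm.mul_apply, Equiv.swap_apply_of_ne_of_ne hha (Ne.symm h3),
        Equiv.swap_apply_right]
    have hR : (Equiv.swap a (h a) * Equiv.swap a (g a)) x = x := by
      rw [Equiv.Perm.mul_apply, Equiv.swap_apply_of_ne_of_ne hxa hxg,
        Equiv.swap_apply_of_ne_of_ne hxa hxh]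
    rw [hR]
    simp only [Equiv.Perm.mul_apply]
    by_cases hhx : h x = x
    · rw [hinvfix h x hhx]
      by_cases hgx : g x = x
      · rw [hinvfix g x hgx, hhx, hgx]
      · have hb1 : g (g⁻¹ x) = x := g.apply_symm_apply x
        have hb2 : g⁻¹ x ≠ a := by
          intro e; rw [e] at hb1; exact hxg hb1.symm
        have hb3 : g (g⁻¹ x) ≠ g⁻¹ x := by
          rw [hb1]
          intro e
          apply hgx
          have := hb1
          rw [← e] at this
          exact this
        rw [hdisj _ hb2 hb3, hb1]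
    · have hgx : g x = x := hdisj' x hxa hhx
      have hb1 : h (h⁻¹ x) = x := h.apply_symm_apply x
      have hb2 : h⁻¹ x ≠ a := by
        intro e; rw [e] at hb1; exact hxh hb1.symm
      have hb3 : h (h⁻¹ x) ≠ h⁻¹ x := by
        rw [hb1]
        intro e
        apply hhx
        have := hb1
        rw [← e] at this
        exact this
      have hb4 : g (h⁻¹ x) = h⁻¹ x := hdisj' _ hb2 hb3
      rw [hinvfix g _ hb4, hb1, hgx]
  rw [hc]
  exact Equiv.Perm.isThreeCycle_swap_mul_swap_same (Ne.symm hha) (Ne.symm hga) (Ne.symm h3)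

theorem bochert_perm (H : Subgroup (Equiv.Perm Ω)) (hprim : MulAction.IsPreprimitive H Ω)
    (hA : ¬ alternatingGroup Ω ≤ H) :
    Nat.card H * Nat.factorial ((Fintype.card Ω + 1) / 2) ≤ Nat.factorial (Fintype.card Ω) := by
  classical
  let IsBase : Finset Ω → Prop := fun Δ => ∀ h ∈ H, (∀ x ∈ Δ, h x = x) → h = 1
  have hex : ∃ m, ∃ Δ : Finset Ω, Δ.card = m ∧ IsBase Δ := by
    refine ⟨_, Finset.univ, rfl, ?_⟩
    intro h _ hfix
    ext x
    exact hfix x (Finset.mem_univ x)
  obtain ⟨Δ, hΔcard, hΔ⟩ := Nat.find_spec hex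
  have hmin : ∀ Δ' : Finset Ω, IsBase Δ' → Nat.find hex ≤ Δ'.card := by
    intro Δ' hΔ'
    exact Nat.find_min' hex ⟨Δ', rfl, hΔ'⟩
  set m0 := Nat.find hex with hm0
  have hnotbase : ∀ Δ' : Finset Ω, Δ'.card < m0 →
      ∃ h ∈ H, (∀ x ∈ Δ', h x = x) ∧ h ≠ 1 := by
    intro Δ' hlt
    by_contra hcon
    push Not at hcon
    have : IsBase Δ' := fun h hh hfix => hcon h hh hfix
    exact absurd (hmin Δ' this) (by omega)
  have hle : m0 ≤ Fintype.card Ω := by
    rw [← hΔcard]; exact Finset.card_le_univ Δ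
  have hkey : 2 * m0 ≤ Fintype.card Ω := by
    by_contra hcon
    push Not at hcon
    have hcompl : (Δᶜ).card < m0 := by
      rw [Finset.card_compl, hΔcard]; omega
    obtain ⟨g, hgH, hgfix, hg1⟩ := hnotbase Δᶜ hcompl
    obtain ⟨δ, hδ⟩ : ∃ δ, g δ ≠ δ := by
      by_contra hcon2
      push Not at hcon2
      exact hg1 (Equiv.ext hcon2)
    have hδΔ : δ ∈ Δ := by
      by_contra hnot
      exact hδ (hgfix δ (Finset.mem_compl.mpr hnot))
    have herase : (Δ.erase δ).card < m0 := by
      rw [Finset.card_erase_of_mem hδΔ, hΔcard]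
      have : 0 < m0 := by rw [← hΔcard]; exact Finset.card_pos.mpr ⟨δ, hδΔ⟩
      omega
    obtain ⟨h, hhH, hhfix, hh1⟩ := hnotbase (Δ.erase δ) herase
    have hhδ : h δ ≠ δ := by
      intro e
      apply hh1
      apply hΔ h hhH
      intro x hx
      by_cases hxδ : x = δ
      · rw [hxδ]; exact e
      · exact hhfix x (Finset.mem_erase.mpr ⟨hxδ, hx⟩)
    have hdisj : ∀ x, x ≠ δ → g x ≠ x → h x = x := by
      intro x hxδ hgx
      have hxΔ : x ∈ Δ := by
        by_contra hnot
        exact hgx (hgfix x (Finset.mem_compl.mpr hnot))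
      exact hhfix x (Finset.mem_erase.mpr ⟨hxδ, hxΔ⟩)
    have h3 := isThreeCycle_comm g h δ hδ hhδ hdisj
    have hmem : g * h * g⁻¹ * h⁻¹ ∈ H :=
      H.mul_mem (H.mul_mem (H.mul_mem hgH hhH) (H.inv_mem hgH)) (H.inv_mem hhH)
    exact hA (Equiv.Perm.alternatingGroup_le_of_isPreprimitive_of_isThreeCycle_mem hprim h3 hmem)
  -- counting
  let K : Subgroup (Equiv.Perm Ω) :=
    (Equiv.Perm.ofSubtype (p := fun x => x ∉ Δ)).range
  have hKcard : Nat.card K = Nat.factorial (Fintype.card Ω - m0) := by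
    have hinj : Function.Injective (Equiv.Perm.ofSubtype (p := fun x => x ∉ Δ)) :=
      Equiv.Perm.ofSubtype_injective
    rw [Nat.card_congr (MonoidHom.ofInjective hinj).symm.toEquiv, Nat.card_eq_fintype_card,
      Fintype.card_perm, Fintype.card_subtype_compl, ← hΔcard]
    congr 2
    simp
  have hdisjHK : Disjoint H K := by
    rw [Subgroup.disjoint_def]
    intro x hxH hxK
    obtain ⟨σ, rfl⟩ := hxK
    apply hΔ _ hxH
    intro a ha
    exact Equiv.Perm.ofSubtype_apply_of_not_mem σ (not_not.mpr ha)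
  have hinj := Subgroup.mul_injective_of_disjoint hdisjHK
  have hcardle := Nat.card_le_card_of_injective _ hinj
  rw [Nat.card_prod, hKcard, Nat.card_eq_fintype_card (α := Equiv.Perm Ω), Fintype.card_perm]
    at hcardle
  have hfac : Nat.factorial ((Fintype.card Ω + 1) / 2) ≤ Nat.factorial (Fintype.card Ω - m0) :=
    Nat.factorial_le (by omega)
  calc Nat.card H * Nat.factorial ((Fintype.card Ω + 1) / 2)
      ≤ Nat.card H * Nat.factorial (Fintype.card Ω - m0) := Nat.mul_le_mul_left _ hfac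
    _ ≤ _ := hcardle

end

/-- Bochert's bound for primitive groups. Let a finite group G act faithfully and primitively on a finite set Ω with n elements, and suppose the image of G in the symmetric group of Ω does not contain the alternating group of Ω. Then |G| · ⌊(n + 1)/2⌋! ≤ n!, that is, the index of G in the symmetric group is at least ⌊(n + 1)/2⌋!. -/
theorem result {G Ω : Type*} [Group G] [Finite G] [MulAction G Ω] [FaithfulSMul G Ω] [Fintype Ω] [DecidableEq Ω]
    (hprim : MulAction.IsPreprimitive G Ω) (hA : ¬ alternatingGroup Ω ≤ (MulAction.toPermHom G Ω).range) :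
    Nat.card G * Nat.factorial ((Fintype.card Ω + 1) / 2) ≤ Nat.factorial (Fintype.card Ω) := by
  classical
  let H : Subgroup (Equiv.Perm Ω) := (MulAction.toPermHom G Ω).range
  have hinj : Function.Injective (MulAction.toPermHom G Ω) := MulAction.toPerm_injective
  have hcard : Nat.card G = Nat.card H :=
    Nat.card_congr (MonoidHom.ofInjective hinj).toEquiv
  let φ : G → H := fun g => ⟨MulAction.toPermHom G Ω g, ⟨g, rfl⟩⟩
  let f : Ω →ₑ[φ] Ω := { toFun := id, map_smul' := fun g x => rfl }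
  have hprimH : MulAction.IsPreprimitive H Ω :=
    MulAction.IsPreprimitive.of_surjective (f := f) Function.surjective_id
  rw [hcard]
  exact bochert_perm H hprimH hA

end Cfsg.Agent.S3681
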