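import Mathlib
import Cfsg.Statements.S3682
import Cfsg.Agent.Lib.Helper10.TW4
import Cfsg.Agent.Lib.Helper10.TW5
import Cfsg.Agent.Lib.Helper10.TW9
-- import your own Cfsg.Agent.* helpers here

set_option autoImplicit false
open Cfsg

namespace Cfsg.Agent.S3682
open Cfsg.Agent.Helper10.TW Cfsg.Agent.Helper7 MulAction in

/-- Wielandt's bound toward the Sims conjecture. Let a finite group G act faithfully and primitively on a set Ω, let a and b be points, and suppose the orbit of b under the stabilizer of a has length d ≥ 2. Then there are a prime p and a normal p-subgroup P of the stabilizer of a, all of whose elements fix b, such that the index of P in the stabilizer of a divides d! · ((d - 1)!)^d. -/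
theorem result {G Ω : Type*} [Group G] [Finite G] [MulAction G Ω] [FaithfulSMul G Ω] [Finite Ω]
    (hprim : MulAction.IsPreprimitive G Ω) (a b : Ω) (d : ℕ) (hd : Nat.card (MulAction.orbit (MulAction.stabilizer G a) b) = d) (h2 : 2 ≤ d) :
    ∃ p : ℕ, p.Prime ∧ ∃ P : Subgroup (MulAction.stabilizer G a), P.Normal ∧ IsPGroup p P ∧ (∀ g : P, ((g : MulAction.stabilizer G a) : G) • b = b) ∧
      P.index ∣ Nat.factorial d * (Nat.factorial (d - 1)) ^ d := by
  have h2' : 2 ≤ Nat.card (orbit (stabilizer G a) b) := by rw [hd]; exact h2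
  have hpair := pair_stabilizer hprim a b h2'
  have htr : IsPretransitive G Ω := hprim.toIsPretransitive
  have h₁ : (stabilizer G a ⊓ stabilizer G b).relIndex (stabilizer G a) = d := by
    rw [relIndex_stabilizer, hd]
  have h₂ : (stabilizer G a ⊓ stabilizer G b).relIndex (stabilizer G b) = d := by
    rw [relIndex_stabilizer', hd]
  obtain ⟨e⟩ := exists_mulEquiv_stabilizer (G := G) a b
  have hbot : Nat.card ↥(stabilizer G a) ∣ Nat.factorial d * (Nat.factorial (d - 1)) ^ d →
      ∃ p : ℕ, p.Prime ∧ ∃ P : Subgroup (MulAction.stabilizer G a), P.Normal ∧ IsPGroup p P ∧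
        (∀ g : P, ((g : MulAction.stabilizer G a) : G) • b = b) ∧
        P.index ∣ Nat.factorial d * (Nat.factorial (d - 1)) ^ d := by
    intro hdvd
    refine ⟨2, Nat.prime_two, ⊥, inferInstance, IsPGroup.of_bot, ?_, ?_⟩
    · rintro ⟨g, hg⟩
      rw [Subgroup.mem_bot] at hg
      subst hg
      simp
    · rw [Subgroup.index_bot]; exact hdvd
  by_cases hA2 : cA2 (stabilizer G a) (stabilizer G b) = ⊥
  · exact hbot (card_dvd_of_cA2_eq_bot _ _ d h₁ h₂ hA2)
  by_cases hB2 : cA2 (stabilizer G b) (stabilizer G a) = ⊥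
  · apply hbot
    have h := card_dvd_of_cA2_eq_bot (stabilizer G b) (stabilizer G a) d
      (by rw [inf_comm]; exact h₂) (by rw [inf_comm]; exact h₁) hB2
    rw [Nat.card_congr e.toEquiv]
    exact h
  · obtain ⟨p, hp, hA, -⟩ := tw_full hpair e hA2 hB2
    refine ⟨p, hp, (cA2 (stabilizer G a) (stabilizer G b)).subgroupOf (stabilizer G a), ?_,
      hA.comap_subtype, ?_, ?_⟩
    · unfold cA2
      rw [subgroupOf_coreIn]
      infer_instance
    · rintro ⟨g, hg⟩
      have h3 : (g : G) ∈ cA2 (stabilizer G a) (stabilizer G b) := Subgroup.mem_subgroupOf.mp hg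
      have h4 : (g : G) ∈ stabilizer G a ⊓ stabilizer G b :=
        cA_le_inf _ _ (yY_le_cA _ _ (cA2_le_yY _ _ h3))
      exact MulAction.mem_stabilizer_iff.mp h4.2
    · exact relIndex_cA2_dvd _ _ d h₁ h₂

end Cfsg.Agent.S3682
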