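import Mathlib
import Cfsg.Statements.S3683

set_option autoImplicit false
open Cfsg

namespace Cfsg.Agent.S3683

open MulAction in
/-- Let a finite group G act faithfully and primitively on a set Ω, and suppose the stabilizer of a point a fixes a second point b ≠ a (a suborbit of length 1 other than {a}). Then the stabilizer of a is trivial and G is cyclic of prime order. -/
theorem result {G Ω : Type*} [Group G] [Finite G] [MulAction G Ω] [FaithfulSMul G Ω] [Finite Ω]
    (hprim : MulAction.IsPreprimitive G Ω) (a b : Ω) (hab : a ≠ b) (hfix : ∀ g : G, g • a = a → g • b = b) :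
    MulAction.stabilizer G a = ⊥ ∧ IsCyclic G ∧ (Nat.card G).Prime := by
  haveI : Nontrivial Ω := ⟨⟨a, b, hab⟩⟩
  haveI := hprim
  have hco : IsCoatom (stabilizer G a) := IsPreprimitive.isCoatom_stabilizer_of_isPreprimitive G a
  have hle : stabilizer G a ≤ stabilizer G b := fun g hg => hfix g hg
  -- the stabilizer of b is proper
  have hbtop : stabilizer G b ≠ ⊤ := by
    intro h
    obtain ⟨g, hg⟩ := exists_smul_eq G b a
    have : g ∈ stabilizer G b := by rw [h]; trivial
    rw [mem_stabilizer_iff] at this
    exact hab (by rw [← hg, this])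
  have heq : stabilizer G b = stabilizer G a := (hco.le_iff_eq hbtop).mp hle
  -- an element g with g • a = b normalizes the stabilizer, and is not in it
  obtain ⟨g, hg⟩ := exists_smul_eq G a b
  have hgnot : g ∉ stabilizer G a := by
    intro h
    rw [mem_stabilizer_iff] at h
    exact hab (by rw [← hg, h])
  have hconj : (stabilizer G a).map (MulAut.conj g).toMonoidHom = stabilizer G a := by
    rw [← stabilizer_smul_eq_stabilizer_map_conj, hg, heq]
  have hgnorm : g ∈ Subgroup.normalizer (stabilizer G a : Set G) := by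
    rw [Subgroup.mem_normalizer_iff]
    intro h
    constructor
    · intro hh
      have : g * h * g⁻¹ ∈ (stabilizer G a).map (MulAut.conj g).toMonoidHom :=
        ⟨h, hh, by simp [MulAut.conj_apply]⟩
      rwa [hconj] at this
    · intro hh
      rw [← hconj] at hh
      obtain ⟨k, hk, hk'⟩ := hh
      have : k = h := by
        simp only [MulEquiv.toMonoidHom_eq_coe, MonoidHom.coe_coe, MulAut.conj_apply] at hk'
        have := congrArg (fun z => g⁻¹ * z * g) hk'
        simpa [mul_assoc] using this
      rwa [← this]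
  have hnormtop : Subgroup.normalizer (stabilizer G a : Set G) = ⊤ := by
    have h1 : stabilizer G a ≤ Subgroup.normalizer (stabilizer G a : Set G) := Subgroup.le_normalizer
    rcases (hco.le_iff).mp h1 with h | h
    · exact h
    · exact absurd (h ▸ hgnorm) hgnot
  have hnormal : (stabilizer G a).Normal := Subgroup.normalizer_eq_top_iff.mp hnormtop
  -- a normal point stabilizer of a transitive faithful action is trivial
  have hbot : stabilizer G a = ⊥ := by
    rw [eq_bot_iff]
    intro h hh
    rw [Subgroup.mem_bot]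
    apply FaithfulSMul.eq_of_smul_eq_smul (α := Ω)
    intro x
    obtain ⟨k, hk⟩ := exists_smul_eq G a x
    have : k⁻¹ * h * k ∈ stabilizer G a := by
      have := hnormal.conj_mem h hh k⁻¹
      simpa using this
    rw [mem_stabilizer_iff] at this
    rw [one_smul, ← hk]
    have h2 : k • ((k⁻¹ * h * k) • a) = k • a := by rw [this]
    rw [← mul_smul, ← mul_assoc, ← mul_assoc, mul_inv_cancel, one_mul, mul_smul] at h2
    exact h2
  refine ⟨hbot, ?_⟩
  rw [hbot] at hco
  -- the trivial subgroup is maximal: G is cyclic of prime order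
  have hnt : Nontrivial G := by
    by_contra h
    rw [not_nontrivial_iff_subsingleton] at h
    exact hgnot (by rw [Subsingleton.elim g 1]; exact Subgroup.one_mem _)
  obtain ⟨x, hx⟩ := exists_ne (1 : G)
  have hz : Subgroup.zpowers x = ⊤ := by
    have h1 : (⊥ : Subgroup G) < Subgroup.zpowers x :=
      bot_lt_iff_ne_bot.mpr (Subgroup.zpowers_ne_bot.2 hx)
    exact (hco.lt_iff).mp h1
  have hcyc : IsCyclic G := ⟨⟨x, (Subgroup.eq_top_iff' _).1 hz⟩⟩
  refine ⟨hcyc, ?_⟩
  have : IsMulCommutative G := ⟨⟨fun p q => by
    obtain ⟨m, rfl⟩ := (Subgroup.eq_top_iff' _).1 hz p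
    obtain ⟨n, rfl⟩ := (Subgroup.eq_top_iff' _).1 hz q
    exact (Commute.zpow_zpow_self x m n).eq⟩⟩
  rw [← Group.is_simple_iff_prime_card]
  refine ⟨fun H _ => ?_⟩
  by_cases hH : H = ⊥
  · exact Or.inl hH
  · exact Or.inr ((hco.lt_iff).mp (bot_lt_iff_ne_bot.mpr hH))

end Cfsg.Agent.S3683
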