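import Mathlib
import Cfsg.Statements.S3684
import Cfsg.Agent.Lib.Helper3.Dihedral

set_option autoImplicit false
open Cfsg

namespace Cfsg.Agent.S3684

open MulAction

/-- stabilizer in a subgroup -/
theorem stabilizer_subgroup_eq {G Ω : Type*} [Group G] [MulAction G Ω] (H : Subgroup G) (b : Ω) :
    stabilizer H b = (stabilizer G b).subgroupOf H := by
  ext x
  rw [mem_stabilizer_iff, Subgroup.mem_subgroupOf, mem_stabilizer_iff, Subgroup.smul_def]

/-- A normal subgroup contained in a point stabilizer of a faithful transitive action is trivial. -/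
theorem eq_bot_of_normal_le_stabilizer {G Ω : Type*} [Group G] [MulAction G Ω] [FaithfulSMul G Ω]
    [IsPretransitive G Ω] (K : Subgroup G) [K.Normal] (a : Ω) (h : K ≤ stabilizer G a) : K = ⊥ := by
  rw [Subgroup.eq_bot_iff_forall]
  intro k hk
  apply FaithfulSMul.eq_of_smul_eq_smul (α := Ω)
  intro ω
  obtain ⟨g, rfl⟩ := exists_smul_eq G a ω
  have h1 : g⁻¹ * k * g ∈ K := by
    have := ‹K.Normal›.conj_mem k hk g⁻¹
    simpa using this
  have h2 := h h1
  rw [mem_stabilizer_iff, mul_smul, mul_smul] at h2
  rw [one_smul]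
  calc k • g • a = g • (g⁻¹ • k • g • a) := by rw [smul_inv_smul]
    _ = g • a := by rw [h2]

theorem card_inf_mul_relIndex {G : Type*} [Group G] (H K : Subgroup G) :
    Nat.card (H ⊓ K : Subgroup G) * H.relIndex K = Nat.card K := by
  have := (H.subgroupOf K).card_mul_index
  rw [← Subgroup.inf_subgroupOf_right,
    Nat.card_congr (Subgroup.subgroupOfEquivOfLe (inf_le_right : H ⊓ K ≤ K)).toEquiv] at this
  rw [← Subgroup.inf_relIndex_right]
  exact this

theorem exists_involution_of_card_two {G : Type*} [Group G] (H : Subgroup G)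
    (h : Nat.card H = 2) : ∃ s ∈ H, s ≠ 1 ∧ s * s = 1 ∧ ∀ g ∈ H, g = 1 ∨ g = s := by
  obtain ⟨s, hs1, hsu⟩ := (Nat.card_eq_two_iff' (1 : H)).mp h
  have hs1' : (s : G) ≠ 1 := fun hh => hs1 (Subtype.ext hh)
  have hall : ∀ g ∈ H, g = 1 ∨ g = (s : G) := by
    intro g hg
    by_cases hg1 : g = 1
    · exact Or.inl hg1
    · right
      have := hsu ⟨g, hg⟩ (fun hh => hg1 (congrArg Subtype.val hh))
      exact congrArg Subtype.val this
  refine ⟨s, s.2, hs1', ?_, hall⟩
  rcases hall _ (H.mul_mem s.2 s.2) with h1 | h1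
  · exact h1
  · exfalso
    apply hs1'
    have : (s : G) * (s : G) = (s : G) * 1 := by rw [h1, mul_one]
    exact mul_left_cancel this

/-- Let a finite group G act faithfully and primitively on a set Ω, and suppose the stabilizer of a point a has an orbit of length 2. Then the stabilizer of a has order 2 and G is isomorphic to the dihedral group of order 2p for some prime p. -/
theorem result {G Ω : Type*} [Group G] [Finite G] [MulAction G Ω] [FaithfulSMul G Ω] [Finite Ω]
    (hprim : MulAction.IsPreprimitive G Ω) (a b : Ω) (h2 : Nat.card (MulAction.orbit (MulAction.stabilizer G a) b) = 2) :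
    Nat.card (MulAction.stabilizer G a) = 2 ∧ ∃ p : ℕ, p.Prime ∧ Nonempty (G ≃* DihedralGroup p) := by
  classical
  haveI : IsPretransitive G Ω := hprim.toIsPretransitive
  -- relative index
  have hrel1 : (stabilizer G b).relIndex (stabilizer G a) = 2 := by
    have := index_stabilizer (G := stabilizer G a) (x := b)
    rw [stabilizer_subgroup_eq, ← Nat.card_coe_set_eq, h2] at this
    exact this
  have hne : a ≠ b := by
    rintro rfl
    have : (stabilizer G a).relIndex (stabilizer G a) = 1 := Subgroup.relIndex_self _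
    omega
  haveI : Nontrivial Ω := ⟨⟨a, b, hne⟩⟩
  have hmax : IsCoatom (stabilizer G a) :=
    IsPreprimitive.isCoatom_stabilizer_of_isPreprimitive (G := G) a
  -- the stabilizers have the same order
  have hcard : Nat.card (stabilizer G b) = Nat.card (stabilizer G a) := by
    obtain ⟨g, rfl⟩ := exists_smul_eq G a b
    rw [stabilizer_smul_eq_stabilizer_map_conj]
    exact Subgroup.card_map_of_injective (MulAut.conj g).injective
  have e1 := card_inf_mul_relIndex (stabilizer G b) (stabilizer G a)
  have e2 := card_inf_mul_relIndex (stabilizer G a) (stabilizer G b)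
  rw [inf_comm] at e1
  have hKpos : 0 < Nat.card (stabilizer G a ⊓ stabilizer G b : Subgroup G) := Nat.card_pos
  have hrel2 : (stabilizer G a).relIndex (stabilizer G b) = 2 := by
    apply Nat.eq_of_mul_eq_mul_left hKpos
    rw [e2, hcard, ← e1, hrel1]
  -- the two-point stabilizer is normal
  set K := stabilizer G a ⊓ stabilizer G b with hK
  have hKa : stabilizer G a ≤ Subgroup.normalizer (K : Set G) := by
    rw [← Subgroup.normal_subgroupOf_iff_le_normalizer inf_le_left]
    apply Subgroup.normal_of_index_eq_two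
    show K.relIndex (stabilizer G a) = 2
    rw [hK, inf_comm, Subgroup.inf_relIndex_right, hrel1]
  have hKb : stabilizer G b ≤ Subgroup.normalizer (K : Set G) := by
    rw [← Subgroup.normal_subgroupOf_iff_le_normalizer inf_le_right]
    apply Subgroup.normal_of_index_eq_two
    show K.relIndex (stabilizer G b) = 2
    rw [hK, Subgroup.inf_relIndex_right, hrel2]
  have hnle : ¬ stabilizer G b ≤ stabilizer G a := by
    intro h
    have := (Subgroup.relIndex_eq_one).mpr h
    omega
  have hsup : stabilizer G a ⊔ stabilizer G b = ⊤ := hmax.2 _ (left_lt_sup.mpr hnle)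
  haveI hKn : K.Normal := by
    rw [← Subgroup.normalizer_eq_top_iff, eq_top_iff, ← hsup]
    exact sup_le hKa hKb
  have hKbot : K = ⊥ := eq_bot_of_normal_le_stabilizer K a inf_le_left
  have hGa2 : Nat.card (stabilizer G a) = 2 := by
    rw [← e1, hrel1, hKbot, Subgroup.card_bot]
  have hGb2 : Nat.card (stabilizer G b) = 2 := by rw [hcard, hGa2]
  refine ⟨hGa2, ?_⟩
  -- the two involutions
  obtain ⟨s, hsa, hs1, hss, hsall⟩ := exists_involution_of_card_two _ hGa2
  obtain ⟨s', hsb, hs'1, hss', hs'all⟩ := exists_involution_of_card_two _ hGb2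
  have hs'a : s' ∉ stabilizer G a := by
    intro h
    have : s' ∈ K := ⟨h, hsb⟩
    rw [hKbot, Subgroup.mem_bot] at this
    exact hs'1 this
  have hsinv : s⁻¹ = s := inv_eq_of_mul_eq_one_left hss
  have hs'inv : s'⁻¹ = s' := inv_eq_of_mul_eq_one_left hss'
  have hclosure : Subgroup.closure {s, s'} = ⊤ := by
    apply hmax.2
    apply lt_of_le_of_ne
    · intro g hg
      rcases hsall g hg with rfl | rfl
      · exact Subgroup.one_mem _
      · exact Subgroup.subset_closure (by simp)
    · intro h
      apply hs'a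
      rw [h]
      exact Subgroup.subset_closure (by simp)
  -- the rotation
  set x := s * s' with hx
  have hx1 : x ≠ 1 := by
    intro h
    apply hs'a
    have : s' = s := by
      have h3 : s * s' = s * s := by rw [← hx, h, hss]
      exact mul_left_cancel h3
    rw [this]; exact hsa
  have hn0 : orderOf x ≠ 0 := (orderOf_pos x).ne'
  have hn1 : orderOf x ≠ 1 := by
    rw [Ne, orderOf_eq_one_iff]; exact hx1
  haveI : NeZero (orderOf x) := ⟨hn0⟩
  have hxn : x ^ orderOf x = 1 := pow_orderOf_eq_one x
  have hsx : s * x * s = x⁻¹ := by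
    rw [hx, mul_inv_rev, hsinv, hs'inv, ← mul_assoc, hss, one_mul]
  -- s is not a power of x
  have hs_notin : s ∉ Subgroup.zpowers x := by
    intro hmem
    obtain ⟨k, hk⟩ := Subgroup.mem_zpowers_iff.mp hmem
    have hcomm : Commute s x := by
      rw [← hk]
      exact (Commute.refl x).zpow_left k
    have hxx : x = x⁻¹ := by
      rw [← hsx, hcomm.eq, mul_assoc, hss, mul_one]
    have hx2 : x ^ 2 = 1 := by
      rw [pow_two]
      nth_rewrite 2 [hxx]
      exact mul_inv_cancel x
    have hord : orderOf x = 2 := orderOf_eq_prime hx2 hx1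
    have hk2 : x ^ (k % 2) = s := by
      have := zpow_mod_orderOf x k
      rw [hord] at this
      rw [show ((2 : ℕ) : ℤ) = 2 from rfl] at this
      rw [this, hk]
    rcases Int.emod_two_eq_zero_or_one k with h0 | h0
    · rw [h0, zpow_zero] at hk2
      exact hs1 hk2.symm
    · rw [h0, zpow_one] at hk2
      apply hs'1
      have h3 : s * s' = s * 1 := by rw [← hx, hk2, mul_one]
      exact mul_left_cancel h3
  -- the isomorphism with the dihedral group
  set f := Cfsg.Agent.Helper3.dihedralLift x s hxn hss hsx with hf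
  have hone_val : ((1 : ZMod (orderOf x))).val = 1 := by
    rw [ZMod.val_one_eq_one_mod]
    apply Nat.mod_eq_of_lt
    omega
  have hf_sr0 : f (DihedralGroup.sr 0) = s := by
    rw [hf, Cfsg.Agent.Helper3.dihedralLift_sr]
    unfold Cfsg.Agent.Helper3.zmodPow
    rw [ZMod.val_zero, pow_zero, mul_one]
  have hf_r1 : f (DihedralGroup.r 1) = x := by
    rw [hf, Cfsg.Agent.Helper3.dihedralLift_r]
    unfold Cfsg.Agent.Helper3.zmodPow
    rw [hone_val, pow_one]
  have hsurj : Function.Surjective f := by
    rw [← MonoidHom.range_eq_top, eq_top_iff, ← hclosure, Subgroup.closure_le]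
    intro g hg
    rcases hg with rfl | rfl
    · exact ⟨_, hf_sr0⟩
    · refine ⟨DihedralGroup.sr 0 * DihedralGroup.r 1, ?_⟩
      rw [map_mul, hf_sr0, hf_r1, hx, ← mul_assoc, hss, one_mul]
  have hinj : Function.Injective f := by
    rw [injective_iff_map_eq_one]
    intro d hd
    cases d with
    | r i =>
      rw [hf, Cfsg.Agent.Helper3.dihedralLift_r] at hd
      unfold Cfsg.Agent.Helper3.zmodPow at hd
      have h3 : orderOf x ∣ i.val := orderOf_dvd_of_pow_eq_one hd
      have h4 : i.val < orderOf x := ZMod.val_lt i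
      have h5 : i.val = 0 := Nat.eq_zero_of_dvd_of_lt h3 h4
      rw [ZMod.val_eq_zero] at h5
      rw [h5, DihedralGroup.r_zero]
    | sr i =>
      exfalso
      rw [hf, Cfsg.Agent.Helper3.dihedralLift_sr] at hd
      unfold Cfsg.Agent.Helper3.zmodPow at hd
      apply hs_notin
      have : s = (x ^ i.val)⁻¹ := eq_inv_of_mul_eq_one_left hd
      rw [this]
      exact Subgroup.inv_mem _ (Subgroup.pow_mem _ (Subgroup.mem_zpowers x) _)
  have hcardG : Nat.card G = 2 * orderOf x := by
    rw [← Nat.card_congr (Equiv.ofBijective f ⟨hinj, hsurj⟩), DihedralGroup.nat_card]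
  -- the order of x is prime
  have hq : (orderOf x).minFac.Prime := Nat.minFac_prime hn1
  have hqn : (orderOf x).minFac ∣ orderOf x := Nat.minFac_dvd _
  set q := (orderOf x).minFac with hqdef
  set y := x ^ (orderOf x / q) with hy
  have hyord : orderOf y = q := orderOf_pow_orderOf_div hn0 hqn
  have hy1 : y ≠ 1 := by
    intro h
    rw [h, orderOf_one] at hyord
    exact hq.one_lt.ne hyord
  have hsy : s * y * s⁻¹ = y⁻¹ := by
    rw [hy, ← conj_pow, hsinv, hsx, inv_pow]
  haveI hNn : (Subgroup.zpowers y).Normal := by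
    constructor
    intro m hm g
    obtain ⟨k, rfl⟩ := Subgroup.mem_zpowers_iff.mp hm
    obtain ⟨d, rfl⟩ := hsurj g
    have hkey : f d * y * (f d)⁻¹ ∈ Subgroup.zpowers y := by
      cases d with
      | r i =>
        rw [hf, Cfsg.Agent.Helper3.dihedralLift_r]
        unfold Cfsg.Agent.Helper3.zmodPow
        have hc : Commute (x ^ i.val) y := (Commute.refl x).pow_pow _ _
        rw [hc.eq, mul_assoc, mul_inv_cancel, mul_one]
        exact Subgroup.mem_zpowers y
      | sr i =>
        rw [hf, Cfsg.Agent.Helper3.dihedralLift_sr]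
        unfold Cfsg.Agent.Helper3.zmodPow
        have hc : Commute (x ^ i.val) y := (Commute.refl x).pow_pow _ _
        have : s * x ^ i.val * y * (s * x ^ i.val)⁻¹ = s * y * s⁻¹ := by
          rw [mul_inv_rev, mul_assoc s, hc.eq]
          group
        rw [this, hsy]
        exact Subgroup.inv_mem _ (Subgroup.mem_zpowers y)
    rw [← conj_zpow]
    exact Subgroup.zpow_mem _ hkey k
  have hNle : ¬ Subgroup.zpowers y ≤ stabilizer G a := by
    intro h
    rcases hsall y (h (Subgroup.mem_zpowers y)) with h1 | h1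
    · exact hy1 h1
    · apply hs_notin
      rw [← h1, hy]
      exact Subgroup.pow_mem _ (Subgroup.mem_zpowers x) _
  have hsupN : stabilizer G a ⊔ Subgroup.zpowers y = ⊤ := hmax.2 _ (left_lt_sup.mpr hNle)
  have hidx : (Subgroup.zpowers y).index ∣ 2 := by
    rw [← Subgroup.relIndex_top_right, ← hsupN, Subgroup.relIndex_sup_right, ← hGa2]
    exact Subgroup.relIndex_dvd_card _ _
  have hcardN := (Subgroup.zpowers y).card_mul_index
  rw [Nat.card_zpowers, hyord, hcardG] at hcardN
  have hdvd : 2 * orderOf x ∣ q * 2 := by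
    rw [← hcardN]
    exact Nat.mul_dvd_mul_left q hidx
  have hdvd' : orderOf x ∣ q := by
    rw [mul_comm q 2] at hdvd
    exact Nat.dvd_of_mul_dvd_mul_left (by norm_num) hdvd
  have hnq : orderOf x = q := by
    rcases (Nat.dvd_prime hq).mp hdvd' with h | h
    · exact absurd h hn1
    · exact h
  refine ⟨orderOf x, hnq ▸ hq, ⟨(MulEquiv.ofBijective f ⟨hinj, hsurj⟩).symm⟩⟩

end Cfsg.Agent.S3684
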