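import Mathlib
import Cfsg.Statements.S3688
import Cfsg.Agent.Lib.Helper10.TW3
import Cfsg.Agent.Lib.Helper10.TW4
import Cfsg.Agent.Lib.Helper10.TW5
-- import your own Cfsg.Agent.* helpers here

set_option autoImplicit false
open Cfsg

namespace Cfsg.Agent.S3688
open Cfsg.Agent.Helper10.TW Cfsg.Agent.Helper7 MulAction in

/-- Let a finite group G act faithfully and primitively on a set Ω, let a and b be points such that the orbit of b under the stabilizer H of a has length d ≥ 2, and suppose that H is not strongly constrained: for no prime p does the generalized Fitting subgroup of H coincide with the largest normal p-subgroup of H. Then the order of H divides d! · ((d - 1)!)^d. -/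
theorem result {G Ω : Type*} [Group G] [Finite G] [MulAction G Ω] [FaithfulSMul G Ω] [Finite Ω]
    (hprim : MulAction.IsPreprimitive G Ω) (a b : Ω) (d : ℕ) (hd : Nat.card (MulAction.orbit (MulAction.stabilizer G a) b) = d) (h2 : 2 ≤ d)
    (hnc : ∀ p : ℕ, p.Prime → Cfsg.generalizedFittingSubgroup (MulAction.stabilizer G a) ≠ Cfsg.pCore p (MulAction.stabilizer G a)) :
    Nat.card (MulAction.stabilizer G a) ∣ Nat.factorial d * (Nat.factorial (d - 1)) ^ d := by
  have h2' : 2 ≤ Nat.card (orbit (stabilizer G a) b) := by rw [hd]; exact h2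
  have hpair := pair_stabilizer hprim a b h2'
  have htr : IsPretransitive G Ω := hprim.toIsPretransitive
  have h₁ : (stabilizer G a ⊓ stabilizer G b).relIndex (stabilizer G a) = d := by
    rw [relIndex_stabilizer, hd]
  have h₂ : (stabilizer G a ⊓ stabilizer G b).relIndex (stabilizer G b) = d := by
    rw [relIndex_stabilizer', hd]
  by_cases hA2 : cA2 (stabilizer G a) (stabilizer G b) = ⊥
  · exact card_dvd_of_cA2_eq_bot _ _ d h₁ h₂ hA2
  by_cases hB2 : cA2 (stabilizer G b) (stabilizer G a) = ⊥
  · have h := card_dvd_of_cA2_eq_bot (stabilizer G b) (stabilizer G a) d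
      (by rw [inf_comm]; exact h₂) (by rw [inf_comm]; exact h₁) hB2
    obtain ⟨e⟩ := exists_mulEquiv_stabilizer (G := G) a b
    rw [Nat.card_congr e.toEquiv]
    exact h
  · exfalso
    obtain ⟨p, hp, hp1, -⟩ := tw_weak hpair hA2 hB2
    have hpf : Fact p.Prime := ⟨hp⟩
    apply hnc p hp
    apply le_antisymm
    · exact le_pCore inferInstance hp1
    · exact (pCore_le_fittingSubgroup p).trans fittingSubgroup_le_generalizedFittingSubgroup

end Cfsg.Agent.S3688
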