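import Mathlib
import Cfsg.Statements.S3693
import Cfsg.Agent.Lib.Helper10.TW4
import Cfsg.Agent.Lib.Helper10.TW5
import Cfsg.Agent.Lib.Helper10.TW6
-- import your own Cfsg.Agent.* helpers here

set_option autoImplicit false
open Cfsg

namespace Cfsg.Agent.S3693
open Cfsg.Agent.Helper10.TW Cfsg.Agent.Helper7 MulAction in

/-- Let a finite group G act faithfully and primitively on a set Ω, let a and b be points such that the orbit Δ of b under the stabilizer H of a has length d ≥ 2, and consider the permutation group induced on Δ by the elements of H fixing b. If that induced group has trivial Fitting subgroup (no non-trivial nilpotent normal subgroup), then the two-point stabilizer of a and b has trivial Fitting subgroup and the order of H divides d! · ((d - 1)!)^d. -/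
theorem result {G Ω : Type*} [Group G] [Finite G] [MulAction G Ω] [FaithfulSMul G Ω] [Finite Ω]
    (hprim : MulAction.IsPreprimitive G Ω) (a b : Ω) (d : ℕ) (hd : Nat.card (MulAction.orbit (MulAction.stabilizer G a) b) = d) (h2 : 2 ≤ d)
    (hF : Cfsg.fittingSubgroup ↥(((MulAction.stabilizer G b).subgroupOf (MulAction.stabilizer G a)).map (MulAction.toPermHom (MulAction.stabilizer G a) (MulAction.orbit (MulAction.stabilizer G a) b))) = ⊥) :
    Cfsg.fittingSubgroup ↥(MulAction.stabilizer G a ⊓ MulAction.stabilizer G b) = ⊥ ∧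
      Nat.card (MulAction.stabilizer G a) ∣ Nat.factorial d * (Nat.factorial (d - 1)) ^ d := by
  have h2' : 2 ≤ Nat.card (orbit (stabilizer G a) b) := by rw [hd]; exact h2
  have hpair := pair_stabilizer hprim a b h2'
  have htr : IsPretransitive G Ω := hprim.toIsPretransitive
  have h₁ : (stabilizer G a ⊓ stabilizer G b).relIndex (stabilizer G a) = d := by
    rw [relIndex_stabilizer, hd]
  have h₂ : (stabilizer G a ⊓ stabilizer G b).relIndex (stabilizer G b) = d := by
    rw [relIndex_stabilizer', hd]
  obtain ⟨e⟩ := exists_mulEquiv_stabilizer (G := G) a b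
  have hker : (toPermHom (stabilizer G a) (orbit (stabilizer G a) b)).ker ≤
      ((stabilizer G a ⊓ stabilizer G b).subgroupOf (stabilizer G a)).normalCore := by
    intro m hm n
    rw [Subgroup.mem_subgroupOf]
    refine ⟨(n * m * n⁻¹).2, ?_⟩
    change (n * m * n⁻¹ : stabilizer G a).1 ∈ stabilizer G b
    rw [MulAction.mem_stabilizer_iff]
    have hmem : (n⁻¹ : stabilizer G a) • b ∈ orbit (stabilizer G a) b := ⟨n⁻¹, rfl⟩
    have h3 := congrArg (fun σ => ((σ ⟨_, hmem⟩ : orbit (stabilizer G a) b) : Ω))
      (MonoidHom.mem_ker.mp hm)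
    simp only [toPermHom_apply, toPerm_apply, Equiv.Perm.coe_one, id_eq] at h3
    have h4 : (m : G) • ((n : G)⁻¹ • b) = (n : G)⁻¹ • b := h3
    change ((n : G) * (m : G) * (n : G)⁻¹) • b = b
    rw [mul_smul, mul_smul, h4, smul_inv_smul]
  have hcore : ∀ p : ℕ, p.Prime →
      Cfsg.pCore p ↥(stabilizer G a ⊓ stabilizer G b) = ⊥ := by
    intro p hp
    have hpf : Fact p.Prime := ⟨hp⟩
    exact pCore_inf_eq_bot hpair e p (map_pCore_le_cA _ hker hF p)
  refine ⟨fittingSubgroup_eq_bot_of_pCore hcore, ?_⟩
  rcases cA2_eq_bot_of_pCore hpair hcore with hA2 | hB2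
  · exact card_dvd_of_cA2_eq_bot _ _ d h₁ h₂ hA2
  · have h := card_dvd_of_cA2_eq_bot (stabilizer G b) (stabilizer G a) d
      (by rw [inf_comm]; exact h₂) (by rw [inf_comm]; exact h₁) hB2
    rw [Nat.card_congr e.toEquiv]
    exact h

end Cfsg.Agent.S3693
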