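import Cfsg.Statements.S3702
import Cfsg.Agent.Lib.Helper16.TC648Asm
import Cfsg.Agent.Lib.Helper4.S3702Struct
import Cfsg.Agent.Lib.Helper21.N9Asm

/-!
# S3702 (helper16, with helper4 [ARITH], helper21 [GROUP], helper24 [endgame] and the piece-takers).
Proof: plans/S3702_proof.md.
* GROUP  `Cfsg.Agent.Helper21.N9.exists_cfg`: the configuration `Cfg G` + `Facts` (nine classes of the TI set
  `A = {x ∈ H : ⟨x⟩ ∩ J ≠ 1}`, centralizer orders, fusion control, seven mixed class constants, `[G:H] ≡ 1 mod 27`);
* CHAR   `Cfsg.Agent.Helper16.TC648.Asm.exists_arith`: the coordinates of `Irr(G)` against the nine generalized characters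
  of `H` vanishing off `A` (integrality via model groups, Gram matrix by second orthogonality, class-constant equations);
* ARITH  `Cfsg.Agent.Helper16.TC648.arith_m`: the lattice has two admissible realizations; the class-constant equations
  kill the exotic one and force `[G:H] = 1` in the natural one.
-/

set_option autoImplicit false
open Cfsg

namespace Cfsg.Agent.S3702

/-- Let K ≤ Sym(9) be generated by (1 2 3), (1 4 7)(2 5 8)(3 6 9), (1 2)(4 5) and (1 4)(2 5)(3 6)(7 8) (the normalizer in Alt(9) of the elementary abelian group generated by (1 2 3), (4 5 6), (7 8 9)). Let G be a finite group with a subgroup H ≅ K and J = O₃(H). If C_G(j) ≤ H for every j ≠ 1 in J and J is strongly closed in H with respect to G (a G-conjugate of an element of J lying in H lies in J), then G = H. -/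
theorem result {G : Type*} [Group G] [Finite G] (H : Subgroup G)
    (hH : Nonempty (↥H ≃* ↥(Subgroup.closure ({Equiv.swap (0 : Fin 9) 1 * Equiv.swap 1 2,
        Equiv.swap (0 : Fin 9) 3 * Equiv.swap 3 6 * (Equiv.swap (1 : Fin 9) 4 * Equiv.swap 4 7) * (Equiv.swap (2 : Fin 9) 5 * Equiv.swap 5 8),
        Equiv.swap (0 : Fin 9) 1 * Equiv.swap 3 4, Equiv.swap (0 : Fin 9) 3 * Equiv.swap 1 4 * Equiv.swap 2 5 * Equiv.swap 6 7} : Set (Equiv.Perm (Fin 9))))))
    (J : Subgroup G) (hJ : J = (Cfsg.pCore 3 ↥H).map H.subtype)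
    (hC : ∀ j ∈ J, j ≠ 1 → Subgroup.centralizer ({j} : Set G) ≤ H) (hsc : Cfsg.IsStronglyClosed J H) : H = ⊤ := by
  classical
  have : Fintype G := Fintype.ofFinite G
  let _ : Fintype (IrrCharacter G) := Cfsg.Agent.Helper24.irrFintype
  obtain ⟨C, hF, hcard⟩ := Cfsg.Agent.Helper21.N9.exists_cfg H hH J hJ hC hsc
  obtain ⟨A, hA⟩ := Cfsg.Agent.Helper16.TC648.Asm.exists_arith C hF
  have hm : C.m = 1 := by rw [← hA]; exact Cfsg.Agent.Helper16.TC648.arith_m A
  have hG : Nat.card G = 648 := by rw [C.card, hm]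
  exact Subgroup.eq_top_of_card_eq H (by rw [hcard, hG])

end Cfsg.Agent.S3702
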