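import Mathlib
import Cfsg.Statements.S3703
import Cfsg.Agent.S0001
import Cfsg.Agent.S0023
import Cfsg.Agent.S0024
import Cfsg.Agent.S0035
import Cfsg.Agent.S0042
import Cfsg.Agent.S0666
import Cfsg.Agent.Lib.Helper1.Complement
import Cfsg.Agent.Lib.Helper1.QuotientCard

set_option autoImplicit false
open Cfsg
open scoped Pointwise commutatorElement

namespace Cfsg.Agent.S3703

/-- If `x` maps to an element of order `h` modulo `N` but `x ^ h ≠ 1`, then some power of `x`
has order `p * h` with `p` a prime divisor of `|N|`. -/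
theorem lemmaA {G : Type*} [Group G] [Finite G] (N : Subgroup G) [N.Normal] (h : ℕ) (hh : 0 < h)
    (x : G) (hx : orderOf (QuotientGroup.mk' N x) = h) (hxh : x ^ h ≠ 1) :
    ∃ p : ℕ, p.Prime ∧ p ∣ Nat.card N ∧ ∃ g : G, orderOf g = p * h := by
  have hdvd : h ∣ orderOf x := by rw [← hx]; exact orderOf_map_dvd _ x
  obtain ⟨m, hm⟩ := hdvd
  have hox : 0 < orderOf x := orderOf_pos x
  have hxN : x ^ h ∈ N := by
    rw [← QuotientGroup.eq_one_iff]
    have : (QuotientGroup.mk' N x) ^ h = 1 := by rw [← hx]; exact pow_orderOf_eq_one _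
    rw [← map_pow] at this
    exact this
  have hm1 : orderOf (x ^ h) = m := by
    rw [orderOf_pow_of_dvd hh.ne' ⟨m, hm⟩, hm, Nat.mul_div_cancel_left _ hh]
  have hmN : m ∣ Nat.card N := by
    rw [← hm1]
    have := orderOf_dvd_natCard (⟨x ^ h, hxN⟩ : N)
    rwa [Subgroup.orderOf_mk] at this
  have hm_ne : m ≠ 1 := by
    intro h1
    rw [h1, orderOf_eq_one_iff] at hm1
    exact hxh hm1
  obtain ⟨s, hs, m', hm'⟩ := Nat.exists_prime_and_dvd hm_ne
  have hm'0 : m' ≠ 0 := by
    rintro rfl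
    rw [hm', Nat.mul_zero, Nat.mul_zero] at hm
    omega
  refine ⟨s, hs, dvd_trans ⟨m', hm'⟩ hmN, x ^ m', ?_⟩
  rw [orderOf_pow_of_dvd hm'0 ⟨h * s, by rw [hm, hm']; ring⟩, hm, hm']
  rw [show h * (s * m') = (s * h) * m' by ring, Nat.mul_div_cancel _ (Nat.pos_of_ne_zero hm'0)]

/-- Norm variant of the key lemma on Frobenius actions: if all `H`-norms vanish on the abelian
group `V`, then the kernel `N` acts trivially up to `|N|`-torsion. -/
theorem key2 {F V : Type*} [Group F] [Finite F] [CommGroup V] (H N : Subgroup F)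
    (hH : Cfsg.IsFrobeniusComplement H) (hN : (N : Set F) = Cfsg.frobeniusKernel H)
    (hNn : N.Normal) (hc : Subgroup.IsComplement' N H)
    (φ : F → V →* V) (h1 : ∀ v, φ 1 v = v) (hmul : ∀ f g v, φ (f * g) v = φ f (φ g v))
    (hnorm : ∀ s : Finset F, (∀ f, f ∈ s ↔ f ∈ H) → ∀ w : V, ∏ h ∈ s, φ h w = 1)
    (w : V) (k : F) (hk : k ∈ N) : (w⁻¹ * φ k w) ^ Nat.card N = 1 := by
  classical
  let _ := Fintype.ofFinite F
  set v : V := w⁻¹ * φ k w with hv
  have hdisj : ∀ y, y ∈ N → y ∈ H → y = 1 := by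
    intro y hyN hyH
    have := hc.disjoint
    rw [Subgroup.disjoint_def] at this
    exact this hyN hyH
  set SN : Finset F := Finset.univ.filter (· ∈ N) with hSN
  set SH : Finset F := Finset.univ.filter (· ∈ H) with hSH
  have hφv : ∀ f, φ f v = (φ f w)⁻¹ * φ (f * k) w := by
    intro f
    rw [hv, map_mul, map_inv, hmul]
  -- A: total product is trivial
  have hA : ∏ f : F, φ f v = 1 := by
    simp_rw [hφv]
    rw [Finset.prod_mul_distrib, Finset.prod_inv_distrib]
    rw [inv_mul_eq_one]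
    exact (Fintype.prod_equiv (Equiv.mulRight k) (fun f => φ (f * k) w) (fun f => φ f w)
      (fun f => rfl)).symm
  -- B: product over N
  have hB : ∏ f ∈ SN, φ f v = 1 := by
    simp_rw [hφv]
    rw [Finset.prod_mul_distrib, Finset.prod_inv_distrib]
    rw [inv_mul_eq_one]
    symm
    refine Finset.prod_nbij (fun f => f * k) ?_ ?_ ?_ (fun _ _ => rfl)
    · intro a ha
      rw [hSN, Finset.mem_filter] at ha ⊢
      exact ⟨Finset.mem_univ _, N.mul_mem ha.2 hk⟩
    · intro a _ b _ hab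
      exact mul_right_cancel hab
    · intro b hb
      rw [hSN, Finset.coe_filter, Set.mem_ofPred_eq] at hb
      refine ⟨b * k⁻¹, ?_, by simp⟩
      rw [hSN, Finset.coe_filter, Set.mem_ofPred_eq]
      exact ⟨Finset.mem_univ _, N.mul_mem hb.2 (N.inv_mem hk)⟩
  have hC0 : ∀ w : V, ∏ h ∈ SH, φ h w = 1 := by
    intro w
    apply hnorm
    intro f
    rw [hSH, Finset.mem_filter]
    simp
  have hC : ∀ x : F, ∏ h ∈ SH, φ (x * h * x⁻¹) v = 1 := by
    intro x
    have : ∀ h, φ (x * h * x⁻¹) v = φ x (φ h (φ x⁻¹ v)) := by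
      intro h; rw [hmul, hmul]
    simp_rw [this]
    rw [← map_prod, hC0, map_one]
  have hsplit : (∏ f ∈ Finset.univ.filter (· ∈ N), φ f v) *
      (∏ f ∈ Finset.univ.filter (fun f => ¬ f ∈ N), φ f v) = ∏ f : F, φ f v :=
    Finset.prod_filter_mul_prod_filter_not Finset.univ (· ∈ N) _
  rw [← hSN, hB, hA, one_mul] at hsplit
  have hD : ∏ p ∈ SN ×ˢ (SH.erase 1), φ (p.1 * p.2 * p.1⁻¹) v =
      ∏ f ∈ Finset.univ.filter (fun f => ¬ f ∈ N), φ f v := by
    refine Finset.prod_nbij (fun p => p.1 * p.2 * p.1⁻¹) ?_ ?_ ?_ (fun _ _ => rfl)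
    · rintro ⟨x, h⟩ hp
      rw [Finset.mem_product, Finset.mem_erase, hSN, hSH, Finset.mem_filter,
        Finset.mem_filter] at hp
      obtain ⟨⟨-, hx⟩, hh1, -, hh⟩ := hp
      rw [Finset.mem_filter]
      refine ⟨Finset.mem_univ _, fun hmem => hh1 ?_⟩
      have : h ∈ N := by
        have h2 := hNn.conj_mem _ hmem x⁻¹
        simpa [mul_assoc] using h2
      exact hdisj h this hh
    · rintro ⟨x, h⟩ hp ⟨x', h'⟩ hp' heq
      rw [Finset.mem_coe, Finset.mem_product, Finset.mem_erase, hSN, hSH, Finset.mem_filter,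
        Finset.mem_filter] at hp hp'
      obtain ⟨⟨-, hx⟩, hh1, -, hh⟩ := hp
      obtain ⟨⟨-, hx'⟩, hh1', -, hh'⟩ := hp'
      simp only at heq
      have hy : x'⁻¹ * x ∈ N := N.mul_mem (N.inv_mem hx') hx
      have hconj : (x'⁻¹ * x) * h * (x'⁻¹ * x)⁻¹ = h' := by
        have : x'⁻¹ * (x * h * x⁻¹) * x' = h' := by rw [heq]; group
        rw [← this]; group
      have hyH : x'⁻¹ * x ∈ H := by
        by_contra hnot
        have hbot := hH.2.2 _ hnot
        have hmem : h' ∈ H ⊓ MulAut.conj (x'⁻¹ * x) • H := by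
          refine Subgroup.mem_inf.mpr ⟨hh', ?_⟩
          rw [Subgroup.mem_pointwise_smul_iff_inv_smul_mem]
          rw [← hconj]
          simpa [MulAut.smul_def, mul_assoc] using hh
        rw [hbot, Subgroup.mem_bot] at hmem
        exact hh1' hmem
      have hxx : x'⁻¹ * x = 1 := hdisj _ hy hyH
      have hxeq : x = x' := by
        have := inv_mul_eq_one.mp hxx
        exact this.symm
      subst hxeq
      have : h = h' := by
        have h3 := hconj
        rw [hxx] at h3
        simpa using h3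
      rw [this]
    · intro f hf
      rw [Finset.coe_filter, Set.mem_ofPred_eq] at hf
      have hfN' : f ∉ (N : Set F) := hf.2
      rw [hN] at hfN'
      have hf1 : f ≠ 1 := fun h => hfN' (Or.inl h)
      have hex : ∃ g : F, f ∈ MulAut.conj g • H := by
        by_contra hne
        push Not at hne
        exact hfN' (Or.inr hne)
      obtain ⟨g, hg⟩ := hex
      obtain ⟨⟨⟨n, hn⟩, ⟨h, hh⟩⟩, hnh⟩ := hc.2 g
      simp only at hnh
      rw [Subgroup.mem_pointwise_smul_iff_inv_smul_mem] at hg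
      have hg' : g⁻¹ * f * g ∈ H := by simpa [MulAut.smul_def] using hg
      set h' := h * (g⁻¹ * f * g) * h⁻¹ with hh'
      have hh'H : h' ∈ H := H.mul_mem (H.mul_mem hh hg') (H.inv_mem hh)
      have hfe : n * h' * n⁻¹ = f := by
        rw [hh', ← hnh]; group
      refine ⟨(n, h'), ?_, hfe⟩
      rw [Finset.mem_coe, Finset.mem_product, Finset.mem_erase, hSN, hSH, Finset.mem_filter,
        Finset.mem_filter]
      refine ⟨⟨Finset.mem_univ _, hn⟩, ?_, Finset.mem_univ _, hh'H⟩
      intro h1'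
      apply hf1
      have h1'' : h' = 1 := h1'
      rw [← hfe, h1'']; group
  rw [hsplit, Finset.prod_product] at hD
  have hE : ∀ x ∈ SN, ∏ h ∈ SH.erase 1, φ (x * h * x⁻¹) v = v⁻¹ := by
    intro x _
    have h1H : (1 : F) ∈ SH := by
      rw [hSH, Finset.mem_filter]; exact ⟨Finset.mem_univ _, H.one_mem⟩
    have := Finset.mul_prod_erase SH (fun h => φ (x * h * x⁻¹) v) h1H
    rw [hC x] at this
    simp only [mul_one, mul_inv_cancel, h1] at this
    exact eq_inv_of_mul_eq_one_right this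
  rw [Finset.prod_congr rfl hE, Finset.prod_const] at hD
  have hcard : SN.card = Nat.card N := by
    rw [hSN, Nat.card_eq_fintype_card, Fintype.card_subtype]
  rw [hcard, inv_pow, inv_eq_one] at hD
  exact hD

/-- a coprime group `K` centralising `R` and acting trivially on `Q` modulo `R` centralises `Q` -/
theorem centralizes_of_stab {G : Type*} [Group G] (K Q R : Subgroup G)
    (hcop : ∀ k ∈ K, ∀ r ∈ R, (orderOf k).Coprime (orderOf r))
    (hKR : ∀ k ∈ K, ∀ r ∈ R, k * r = r * k)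
    (hmod : ∀ k ∈ K, ∀ u ∈ Q, u⁻¹ * (k * u * k⁻¹) ∈ R) :
    ∀ k ∈ K, ∀ u ∈ Q, k * u = u * k := by
  intro k hk u hu
  set r := u⁻¹ * (k * u * k⁻¹) with hr
  have hrR : r ∈ R := hmod k hk u hu
  have hkr : Commute k r := hKR k hk r hrR
  have hkuk : k * u * k⁻¹ = u * r := by rw [hr]; group
  have hpow : ∀ n : ℕ, k ^ n * u * (k ^ n)⁻¹ = u * r ^ n := by
    intro n
    induction n with
    | zero => simp
    | succ n ih =>
      have hkrn : k * r ^ n = r ^ n * k := (hkr.pow_right n)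
      calc k ^ (n + 1) * u * (k ^ (n + 1))⁻¹ = k * (k ^ n * u * (k ^ n)⁻¹) * k⁻¹ := by
            rw [pow_succ']; group
        _ = k * (u * r ^ n) * k⁻¹ := by rw [ih]
        _ = (k * u * k⁻¹) * (k * r ^ n * k⁻¹) := by group
        _ = (u * r) * r ^ n := by
            rw [hkrn, hkuk, mul_assoc (r ^ n), mul_inv_cancel, mul_one]
        _ = u * r ^ (n + 1) := by rw [pow_succ', mul_assoc]
  have h1 := hpow (orderOf k)
  rw [pow_orderOf_eq_one, one_mul, inv_one, mul_one] at h1
  have h1' : r ^ orderOf k = 1 := by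
    have := congrArg (fun z => u⁻¹ * z) h1
    simp only [inv_mul_cancel, inv_mul_cancel_left] at this
    exact this.symm
  have h2 : orderOf r ∣ orderOf k := orderOf_dvd_of_pow_eq_one h1'
  have h3 : orderOf r = 1 := (hcop k hk r hrR).symm.eq_one_of_dvd h2
  rw [orderOf_eq_one_iff] at h3
  rw [h3, mul_one] at hkuk
  calc k * u = k * u * k⁻¹ * k := by group
    _ = u * k := by rw [hkuk]

/-- the normaliser of `Q` normalises the derived subgroup of `Q` -/
theorem mem_normalizer_commutator {G : Type*} [Group G] (Q : Subgroup G) (g : G)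
    (hg : g ∈ Subgroup.normalizer (Q : Set G)) :
    g ∈ Subgroup.normalizer ((⁅Q, Q⁆ : Subgroup G) : Set G) := by
  have key : ∀ g ∈ Subgroup.normalizer (Q : Set G), ∀ y ∈ ⁅Q, Q⁆, g * y * g⁻¹ ∈ ⁅Q, Q⁆ := by
    intro g hg
    have hle : ⁅Q, Q⁆ ≤ (⁅Q, Q⁆ : Subgroup G).comap (MulAut.conj g).toMonoidHom := by
      rw [Subgroup.commutator_le]
      intro a ha b hb
      rw [Subgroup.mem_comap]
      have e : (MulAut.conj g).toMonoidHom ⁅a, b⁆ = ⁅g * a * g⁻¹, g * b * g⁻¹⁆ := by
        rw [map_commutatorElement]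
        rfl
      rw [e]
      exact Subgroup.commutator_mem_commutator
        ((Subgroup.mem_normalizer_iff.mp hg a).mp ha) ((Subgroup.mem_normalizer_iff.mp hg b).mp hb)
    intro y hy
    exact hle hy
  rw [Subgroup.mem_normalizer_iff]
  intro y
  constructor
  · exact key g hg y
  · intro hy
    have := key g⁻¹ (Subgroup.inv_mem _ hg) _ hy
    have e : g⁻¹ * (g * y * g⁻¹) * g⁻¹⁻¹ = y := by group
    rwa [e] at this

/-- descent to a subgroup on whose derived subgroup `K` acts trivially -/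
theorem descend {G : Type*} [Group G] [Finite G] (p : ℕ) [Fact p.Prime] (K : Subgroup G) (x : G) :
    ∀ n : ℕ, ∀ Q : Subgroup G, Nat.card Q ≤ n → IsPGroup p Q →
      K ≤ Subgroup.normalizer (Q : Set G) → x ∈ Subgroup.normalizer (Q : Set G) →
      ¬ K ≤ Subgroup.centralizer (Q : Set G) →
      ∃ Q₁ : Subgroup G, Q₁ ≤ Q ∧ K ≤ Subgroup.normalizer (Q₁ : Set G) ∧
        x ∈ Subgroup.normalizer (Q₁ : Set G) ∧ ¬ K ≤ Subgroup.centralizer (Q₁ : Set G) ∧
        K ≤ Subgroup.centralizer ((⁅Q₁, Q₁⁆ : Subgroup G) : Set G) := by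
  intro n
  induction n with
  | zero =>
    intro Q hQ
    have : 0 < Nat.card Q := Nat.card_pos
    omega
  | succ n ih =>
    intro Q hQn hQp hKQ hxQ hKC
    by_cases hK' : K ≤ Subgroup.centralizer ((⁅Q, Q⁆ : Subgroup G) : Set G)
    · exact ⟨Q, le_rfl, hKQ, hxQ, hKC, hK'⟩
    · have hQne : Q ≠ ⊥ := by
        rintro rfl
        apply hKC
        intro k _
        rw [Subgroup.mem_centralizer_iff]
        intro y hy
        have : y = 1 := hy
        rw [this, one_mul, mul_one]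
      have hlt : ⁅Q, Q⁆ < Q := by
        have : Nontrivial Q := (Subgroup.nontrivial_iff_ne_bot Q).mpr hQne
        have hnil : Group.IsNilpotent Q := hQp.isNilpotent
        have hsol : Group.IsSolvable Q := inferInstance
        have h1 := Group.IsSolvable.commutator_lt_top_of_nontrivial Q
        rw [← Q.range_subtype, MonoidHom.range_eq_map, ← Subgroup.map_commutator,
          Subgroup.map_subtype_lt_map_subtype]
        exact h1
      have hcard : Nat.card (⁅Q, Q⁆ : Subgroup G) ≤ n := by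
        by_contra hcon
        push Not at hcon
        have hge : Nat.card Q ≤ Nat.card (⁅Q, Q⁆ : Subgroup G) := by omega
        exact hlt.ne (Subgroup.eq_of_le_of_card_ge hlt.le hge)
      obtain ⟨Q₁, hQ₁, h2, h3, h4, h5⟩ := ih ⁅Q, Q⁆ hcard (hQp.to_le hlt.le)
        (fun k hk => mem_normalizer_commutator Q k (hKQ hk)) (mem_normalizer_commutator Q x hxQ) hK'
      exact ⟨Q₁, hQ₁.trans hlt.le, h2, h3, h4, h5⟩

/-- compatibility of pointwise actions on subgroups of a subgroup -/
theorem map_subtype_smul {G : Type*} [Group G] (N : Subgroup G) (φ : MulAut N) (ψ : MulAut G)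
    (hc : ∀ n : N, ((φ n : N) : G) = ψ (n : G)) (S : Subgroup N) :
    (φ • S).map N.subtype = ψ • S.map N.subtype := by
  ext y
  constructor
  · rintro ⟨n, hn, rfl⟩
    rw [SetLike.mem_coe, Subgroup.mem_smul_pointwise_iff_exists] at hn
    obtain ⟨s, hs, rfl⟩ := hn
    rw [Subgroup.mem_smul_pointwise_iff_exists]
    exact ⟨(s : G), ⟨s, hs, rfl⟩, (hc s).symm⟩
  · intro hy
    rw [Subgroup.mem_smul_pointwise_iff_exists] at hy
    obtain ⟨_, ⟨s, hs, rfl⟩, rfl⟩ := hy
    refine ⟨φ s, ?_, hc s⟩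
    rw [SetLike.mem_coe, Subgroup.mem_smul_pointwise_iff_exists]
    exact ⟨s, hs, rfl⟩

/-- the subgroup `K ⟨x⟩` for `x` normalising `K` -/
def mkL {G : Type*} [Group G] (K : Subgroup G) (x : G)
    (hx : x ∈ Subgroup.normalizer (K : Set G)) : Subgroup G where
  carrier := {g | ∃ k ∈ K, ∃ i : ℤ, g = k * x ^ i}
  one_mem' := ⟨1, K.one_mem, 0, by simp⟩
  mul_mem' := by
    rintro _ _ ⟨k, hk, i, rfl⟩ ⟨k', hk', j, rfl⟩
    have hxi : x ^ i ∈ Subgroup.normalizer (K : Set G) := Subgroup.zpow_mem _ hx i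
    refine ⟨k * (x ^ i * k' * (x ^ i)⁻¹), K.mul_mem hk ((Subgroup.mem_normalizer_iff.mp hxi k').mp hk'),
      i + j, ?_⟩
    rw [zpow_add]; group
  inv_mem' := by
    rintro _ ⟨k, hk, i, rfl⟩
    have hxi : x ^ (-i) ∈ Subgroup.normalizer (K : Set G) := Subgroup.zpow_mem _ hx (-i)
    refine ⟨x ^ (-i) * k⁻¹ * (x ^ (-i))⁻¹,
      (Subgroup.mem_normalizer_iff.mp hxi k⁻¹).mp (K.inv_mem hk), -i, ?_⟩
    group

theorem mem_mkL {G : Type*} [Group G] (K : Subgroup G) (x : G)
    (hx : x ∈ Subgroup.normalizer (K : Set G)) (g : G) :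
    g ∈ mkL K x hx ↔ ∃ k ∈ K, ∃ i : ℤ, g = k * x ^ i := Iff.rfl

/-- power computation in `Q ⋊ ⟨x⟩` read in the abelianisation of `Q` -/
theorem pow_mul_eq {G : Type*} [Group G] (Q L : Subgroup G)
    (hLQ : L ≤ Subgroup.normalizer (Q : Set G)) (xL : L) (u : Q) (n : ℕ) :
    ∃ q : Q, ((u : G) * (xL : G)) ^ n = (q : G) * (xL : G) ^ n ∧
      Abelianization.of q = ∏ i ∈ Finset.range n,
        Abelianization.map (Cfsg.Agent.S0666.cj Q L hLQ (xL ^ i)) (Abelianization.of u) := by
  induction n with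
  | zero => exact ⟨1, by simp, by simp⟩
  | succ n ih =>
    obtain ⟨q, hq1, hq2⟩ := ih
    refine ⟨q * Cfsg.Agent.S0666.cj Q L hLQ (xL ^ n) u, ?_, ?_⟩
    · rw [pow_succ, hq1, Subgroup.coe_mul, Cfsg.Agent.S0666.cj_coe, Subgroup.coe_pow, pow_succ]
      group
    · rw [map_mul, hq2, Finset.prod_range_succ, Abelianization.map_of]

theorem mem_normalizer_of_conj_smul_eq {G : Type*} [Group G] (K : Subgroup G) (a : G)
    (h : MulAut.conj a • K = K) : a ∈ Subgroup.normalizer (K : Set G) := by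
  rw [Subgroup.mem_normalizer_iff]
  intro y
  conv_rhs => rw [← h]
  rw [Cfsg.Agent.Helper1.mem_conj_smul_iff]
  have : a⁻¹ * (a * y * a⁻¹) * a = y := by group
  rw [this]

theorem conj_smul_eq_of_mem_normalizer {G : Type*} [Group G] (K : Subgroup G) (a : G)
    (h : a ∈ Subgroup.normalizer (K : Set G)) : MulAut.conj a • K = K := by
  ext y
  rw [Cfsg.Agent.Helper1.mem_conj_smul_iff]
  have h' := Subgroup.mem_normalizer_iff.mp (Subgroup.inv_mem _ h) y
  rw [inv_inv] at h'
  exact h'.symm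

theorem conj_mem_normalizer_conj_smul {G : Type*} [Group G] (S : Subgroup G) (x a : G)
    (ha : a ∈ Subgroup.normalizer (S : Set G)) :
    x * a * x⁻¹ ∈ Subgroup.normalizer ((MulAut.conj x • S : Subgroup G) : Set G) := by
  apply mem_normalizer_of_conj_smul_eq
  rw [Cfsg.Agent.Helper1.conj_smul_conj_smul]
  have : x * a * x⁻¹ * x = x * a := by group
  rw [this, ← Cfsg.Agent.Helper1.conj_smul_conj_smul, conj_smul_eq_of_mem_normalizer S a ha]

/-- Let N be a normal subgroup of the finite group G such that G/N is a Frobenius group with kernel F and cyclic complement H, where the order of F is coprime to that of N and F is not contained in the image of C_G(N) in G/N. Then G has an element of order p·#H for some prime p dividing the order of N. (A standard tool in recognising groups by their element orders.) -/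
theorem result {G : Type*} [Group G] [Finite G] (N : Subgroup G) [N.Normal]
    (Fb Hb : Subgroup (G ⧸ N)) [Fb.Normal] (hHb : Cfsg.IsFrobeniusComplement Hb) (hker : Cfsg.frobeniusKernel Hb = (Fb : Set (G ⧸ N)))
    (hcyc : IsCyclic Hb) (hcop : (Nat.card Fb).Coprime (Nat.card N))
    (hnot : ¬ Fb ≤ (Subgroup.centralizer (N : Set G)).map (QuotientGroup.mk' N)) :
    ∃ p : ℕ, p.Prime ∧ p ∣ Nat.card N ∧ ∃ g : G, orderOf g = p * Nat.card Hb := by
  classical
  have hNn : N.Normal := inferInstance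
  have hπ1 : ∀ n ∈ N, QuotientGroup.mk' N n = 1 := fun n hn => (QuotientGroup.eq_one_iff n).mpr hn
  have hπN : ∀ g : G, QuotientGroup.mk' N g = 1 → g ∈ N := fun g hg =>
    (QuotientGroup.eq_one_iff g).mp hg
  -- Frobenius facts
  obtain ⟨N₁, hN₁, hN₁n, hcomp0⟩ := Cfsg.Agent.S0035.result Hb hHb
  have hN₁F : N₁ = Fb := SetLike.coe_injective (hN₁.trans hker)
  have hcomp : Subgroup.IsComplement' Fb Hb := hN₁F ▸ hcomp0
  obtain ⟨N₂, hN₂, -, hnil0⟩ := Cfsg.Agent.S0042.result Hb hHb
  have hN₂F : N₂ = Fb := SetLike.coe_injective (hN₂.trans hker)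
  have hnil : Group.IsNilpotent Fb := hN₂F ▸ hnil0
  have hFsol : Group.IsSolvable Fb := inferInstance
  have hdisjFH : ∀ y, y ∈ Fb → y ∈ Hb → y = 1 := by
    intro y h1 h2
    have := Subgroup.IsComplement'.disjoint hcomp
    rw [Subgroup.disjoint_def] at this
    exact this h1 h2
  -- generator
  obtain ⟨c, hc⟩ := IsCyclic.exists_generator (α := Hb)
  have hh : 0 < Nat.card Hb := Nat.card_pos
  have hco : orderOf (c : G ⧸ N) = Nat.card Hb := by
    rw [Subgroup.orderOf_coe, orderOf_eq_card_of_forall_mem_zpowers hc]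
  by_contra hcon
  push Not at hcon
  have hA' : ∀ x : G, orderOf (QuotientGroup.mk' N x) = Nat.card Hb → x ^ Nat.card Hb = 1 := by
    intro x hx
    by_contra hne
    obtain ⟨p, hp, hpN, g, hg⟩ := lemmaA N (Nat.card Hb) hh x hx hne
    exact hcon p hp hpN g hg
  -- the preimage of Fb and a complement
  set Fh : Subgroup G := Fb.comap (QuotientGroup.mk' N) with hFh
  have hmemFh : ∀ g : G, g ∈ Fh ↔ QuotientGroup.mk' N g ∈ Fb := fun g => Iff.rfl
  have hNFh : N ≤ Fh := by
    intro n hn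
    rw [hmemFh, hπ1 n hn]
    exact Fb.one_mem
  have hFhn : Fh.Normal := Subgroup.Normal.comap inferInstance _
  have hcardFh : Nat.card Fh = Nat.card N * Nat.card Fb := Cfsg.Agent.Helper1.card_comap_mk' N Fb
  have hN'n : (N.subgroupOf Fh).Normal := Subgroup.Normal.subgroupOf inferInstance Fh
  have hcardN' : Nat.card (N.subgroupOf Fh) = Nat.card N :=
    Cfsg.Agent.S0001.card_subgroupOf_of_le hNFh
  have hidx : (N.subgroupOf Fh).index = Nat.card Fb := by
    have := (N.subgroupOf Fh).card_mul_index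
    rw [hcardN', hcardFh] at this
    exact Nat.eq_of_mul_eq_mul_left Nat.card_pos this
  have hcop' : (Nat.card (N.subgroupOf Fh)).Coprime (N.subgroupOf Fh).index := by
    rw [hcardN', hidx]; exact hcop.symm
  obtain ⟨K₀, hK₀⟩ := Subgroup.exists_right_complement'_of_coprime hcop'
  set K : Subgroup G := K₀.map Fh.subtype with hK
  have hKFh : K ≤ Fh := Subgroup.map_subtype_le K₀
  have hK₀eq : K.subgroupOf Fh = K₀ :=
    Subgroup.comap_map_eq_self_of_injective Fh.subtype_injective K₀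
  have hcardK : Nat.card K = Nat.card Fb := by
    rw [hK, Subgroup.card_map_of_injective Fh.subtype_injective, ← hidx]
    exact (hK₀.symm.index_eq_card).symm
  have hKN : N ⊓ K = ⊥ := by
    rw [eq_bot_iff]
    rintro y ⟨hyN, k₀, hk₀, rfl⟩
    have : k₀ ∈ N.subgroupOf Fh ⊓ K₀ := ⟨Subgroup.mem_subgroupOf.mpr hyN, hk₀⟩
    rw [(Subgroup.IsComplement'.disjoint hK₀).eq_bot, Subgroup.mem_bot] at this
    rw [Subgroup.mem_bot, this]
    rfl
  have hmulFh : ∀ f ∈ Fh, ∃ n ∈ N, ∃ k ∈ K, f = n * k := by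
    intro f hf
    obtain ⟨a, ha, b, hb, hab⟩ := Cfsg.Agent.Helper1.IsComplement'.exists_mul hK₀ ⟨f, hf⟩
    refine ⟨(a : G), Subgroup.mem_subgroupOf.mp ha, (b : G), ⟨b, hb, rfl⟩, ?_⟩
    have := congrArg Subtype.val hab
    simpa using this
  have hKonto : ∀ y ∈ Fb, ∃ k ∈ K, QuotientGroup.mk' N k = y := by
    intro y hy
    obtain ⟨g, rfl⟩ := QuotientGroup.mk'_surjective N y
    obtain ⟨n, hn, k, hk, rfl⟩ := hmulFh g hy
    refine ⟨k, hk, ?_⟩
    rw [map_mul, hπ1 n hn, one_mul]
  have hKsol : Group.IsSolvable K := by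
    let f : ↥K →* ↥Fb := ((QuotientGroup.mk' N).comp K.subtype).codRestrict Fb (fun k => hKFh k.2)
    have hf : Function.Injective f := by
      rw [injective_iff_map_eq_one]
      intro a ha
      have h1 : QuotientGroup.mk' N (a : G) = 1 := congrArg Subtype.val ha
      have h2 : (a : G) ∈ N ⊓ K := ⟨hπN _ h1, a.2⟩
      rw [hKN, Subgroup.mem_bot] at h2
      exact Subtype.ext h2
    exact Group.isSolvable_of_isSolvable_injective (f := f) hf
  have hcopKN : (Nat.card K).Coprime (Nat.card N) := by rw [hcardK]; exact hcop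
  -- Frattini argument
  have hFrat : ∀ g : G, ∃ n ∈ N, n⁻¹ * g ∈ Subgroup.normalizer (K : Set G) := by
    intro g
    have hKgFh : MulAut.conj g • K ≤ Fh := by
      intro y hy
      rw [Cfsg.Agent.Helper1.mem_conj_smul_iff] at hy
      have := hFhn.conj_mem _ (hKFh hy) g
      have e : g * (g⁻¹ * y * g) * g⁻¹ = y := by group
      rwa [e] at this
    have hc1 : Subgroup.IsComplement' (N.subgroupOf Fh) (K.subgroupOf Fh) := by
      rw [hK₀eq]; exact hK₀
    have hc2 : Subgroup.IsComplement' (N.subgroupOf Fh) ((MulAut.conj g • K).subgroupOf Fh) := by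
      apply Cfsg.Agent.Helper1.isComplement'_subgroupOf _ hKgFh
      · intro l hl
        have hl' : g⁻¹ * l * g ∈ Fh := by
          have := hFhn.conj_mem _ hl g⁻¹
          simpa using this
        obtain ⟨n, hn, k, hk, e⟩ := hmulFh _ hl'
        refine ⟨g * n * g⁻¹, hNn.conj_mem n hn g, g * k * g⁻¹, ?_, ?_⟩
        · rw [Cfsg.Agent.Helper1.mem_conj_smul_iff]
          have : g⁻¹ * (g * k * g⁻¹) * g = k := by group
          rwa [this]
        · calc l = g * (g⁻¹ * l * g) * g⁻¹ := by group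
            _ = g * n * g⁻¹ * (g * k * g⁻¹) := by rw [e]; group
      · rw [eq_bot_iff]
        intro y hy
        obtain ⟨hyN, hyK⟩ := Subgroup.mem_inf.mp hy
        rw [Cfsg.Agent.Helper1.mem_conj_smul_iff] at hyK
        have hyN' : g⁻¹ * y * g ∈ N := by
          have := hNn.conj_mem _ hyN g⁻¹
          simpa using this
        have h3 : g⁻¹ * y * g ∈ N ⊓ K := ⟨hyN', hyK⟩
        rw [hKN, Subgroup.mem_bot] at h3
        rw [Subgroup.mem_bot]
        calc y = g * (g⁻¹ * y * g) * g⁻¹ := by group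
          _ = 1 := by rw [h3]; group
    have hsolK' : Group.IsSolvable (K.subgroupOf Fh) :=
      Group.isSolvable_of_isSolvable_injective
        (f := (Subgroup.subgroupOfEquivOfLe hKFh).toMonoidHom)
        (Subgroup.subgroupOfEquivOfLe hKFh).injective
    obtain ⟨l, hl⟩ := Cfsg.Agent.S0001.sz_conj_aux (Nat.card Fh) Fh rfl (N.subgroupOf Fh) hcop'
      _ _ hc1 hc2 (Or.inr hsolK')
    have hl' : MulAut.conj (l : G) • K = MulAut.conj g • K :=
      Cfsg.Agent.Helper1.conj_of_conj_subgroupOf hKFh hKgFh l hl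
    obtain ⟨n, hn, k, hk, e⟩ := hmulFh l l.2
    refine ⟨n, hn, ?_⟩
    have hnorm : (l : G)⁻¹ * g ∈ Subgroup.normalizer (K : Set G) := by
      apply mem_normalizer_of_conj_smul_eq
      rw [← Cfsg.Agent.Helper1.conj_smul_conj_smul, ← hl', Cfsg.Agent.Helper1.conj_smul_conj_smul,
        inv_mul_cancel, map_one, one_smul]
    have e2 : n⁻¹ * g = k * ((l : G)⁻¹ * g) := by rw [e]; group
    rw [e2]
    exact Subgroup.mul_mem _ (Subgroup.le_normalizer hk) hnorm
  have hKnormN : K ≤ Subgroup.normalizer (N : Set G) := by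
    rw [Subgroup.normalizer_eq_top]; exact le_top
  -- an invariant Sylow subgroup on which K acts nontrivially
  have hexP : ∃ p : ℕ, ∃ _ : Fact p.Prime, ∃ P : Sylow p N,
      K ≤ Subgroup.normalizer (((P : Subgroup N).map N.subtype : Subgroup G) : Set G) ∧
      ¬ K ≤ Subgroup.centralizer (((P : Subgroup N).map N.subtype : Subgroup G) : Set G) := by
    by_contra hno
    push Not at hno
    apply hnot
    have hNC : N ≤ Subgroup.centralizer (K : Set G) := by
      have hdvd : Nat.card N ∣ Nat.card (N ⊓ Subgroup.centralizer (K : Set G) : Subgroup G) := by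
        rw [Nat.dvd_iff_prime_pow_dvd_dvd]
        intro p k hp hpk
        have : Fact p.Prime := ⟨hp⟩
        obtain ⟨P, hP⟩ := Cfsg.Agent.S0023.result K N hKnormN hcopKN (Or.inl hKsol) p
        have hPC := hno p ⟨hp⟩ P hP
        have hPle : (P : Subgroup N).map N.subtype ≤ N ⊓ Subgroup.centralizer (K : Set G) := by
          apply le_inf (Subgroup.map_subtype_le _)
          exact Subgroup.le_centralizer_iff.mp hPC
        have hcardP : Nat.card ((P : Subgroup N).map N.subtype) =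
            p ^ (Nat.card N).factorization p := by
          rw [Subgroup.card_map_of_injective N.subtype_injective]
          exact P.card_eq_multiplicity
        have hk : k ≤ (Nat.card N).factorization p :=
          (hp.pow_dvd_iff_le_factorization Nat.card_pos.ne').mp hpk
        exact dvd_trans (pow_dvd_pow p hk) (hcardP ▸ Subgroup.card_dvd_of_le hPle)
      have hle : Nat.card N ≤ Nat.card (N ⊓ Subgroup.centralizer (K : Set G) : Subgroup G) :=
        Nat.le_of_dvd Nat.card_pos hdvd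
      have := Subgroup.eq_of_le_of_card_ge
        (inf_le_left : N ⊓ Subgroup.centralizer (K : Set G) ≤ N) hle
      rw [← this]; exact inf_le_right
    intro y hy
    obtain ⟨k, hk, rfl⟩ := hKonto y hy
    exact ⟨k, (Subgroup.le_centralizer_iff.mp hNC) hk, rfl⟩
  obtain ⟨p, hpF, P, hPn, hPc⟩ := hexP
  have := hpF
  -- the element x
  obtain ⟨g₀, hg₀⟩ := QuotientGroup.mk'_surjective N (c : G ⧸ N)
  obtain ⟨n₀, hn₀, hx₁⟩ := hFrat g₀
  have hπx₁ : QuotientGroup.mk' N (n₀⁻¹ * g₀) = c := by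
    rw [map_mul, map_inv, hπ1 n₀ hn₀, inv_one, one_mul, hg₀]
  generalize n₀⁻¹ * g₀ = x₁ at hx₁ hπx₁
  set P₁ : Sylow p N := (MulAut.conjNormal x₁ : MulAut N) • P with hP₁
  have hP₁map : (P₁ : Subgroup N).map N.subtype =
      MulAut.conj x₁ • (P : Subgroup N).map N.subtype := by
    rw [hP₁, Sylow.pointwise_smul_def]
    exact map_subtype_smul N _ _ (fun n => rfl) _
  have hP₁n : K ≤ Subgroup.normalizer (((P₁ : Subgroup N).map N.subtype : Subgroup G) : Set G) := by
    rw [hP₁map]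
    intro k hk
    have hk' : x₁⁻¹ * k * x₁ ∈ K := by
      have := (Subgroup.mem_normalizer_iff.mp (Subgroup.inv_mem _ hx₁) k).mp hk
      rwa [inv_inv] at this
    have := conj_mem_normalizer_conj_smul _ x₁ _ (hPn hk')
    have e : x₁ * (x₁⁻¹ * k * x₁) * x₁⁻¹ = k := by group
    rwa [e] at this
  obtain ⟨c₁, hc₁C, hc₁P⟩ := Cfsg.Agent.S0024.result K N hKnormN hcopKN (Or.inl hKsol) p P₁ P
    hP₁n hPn
  have hxK : (c₁ : G) * x₁ ∈ Subgroup.normalizer (K : Set G) :=
    Subgroup.mul_mem _ (Subgroup.centralizer_le_normalizer _ hc₁C) hx₁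
  have hxP : (c₁ : G) * x₁ ∈
      Subgroup.normalizer (((P : Subgroup N).map N.subtype : Subgroup G) : Set G) := by
    apply mem_normalizer_of_conj_smul_eq
    rw [← Cfsg.Agent.Helper1.conj_smul_conj_smul, ← hP₁map]
    have h1 := map_subtype_smul N (MulAut.conj c₁) (MulAut.conj (c₁ : G)) (fun n => rfl)
      (P₁ : Subgroup N)
    rw [← h1, ← Sylow.pointwise_smul_def, hc₁P]
  have hπx : QuotientGroup.mk' N ((c₁ : G) * x₁) = c := by
    rw [map_mul, hπ1 _ c₁.2, one_mul, hπx₁]
  generalize (c₁ : G) * x₁ = x at hxK hxP hπx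
  have hxh : x ^ Nat.card Hb = 1 := hA' x (by rw [hπx]; exact hco)
  have hox : orderOf x = Nat.card Hb := by
    apply Nat.dvd_antisymm (orderOf_dvd_of_pow_eq_one hxh)
    rw [← hco, ← hπx]
    exact orderOf_map_dvd _ x
  -- descent
  have hPGp : IsPGroup p ((P : Subgroup N).map N.subtype : Subgroup G) := P.isPGroup'.map N.subtype
  obtain ⟨Q, hQP, hKQ, hxQ, hKCQ, hKCQ'⟩ := descend p K x _ _ le_rfl hPGp hPn hxP hPc
  have hQN : Q ≤ N := hQP.trans (Subgroup.map_subtype_le _)
  -- the group L = K ⟨x⟩ and its isomorphism with G ⧸ N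
  set L : Subgroup G := mkL K x hxK with hL
  have hLQ : L ≤ Subgroup.normalizer (Q : Set G) := by
    rintro _ ⟨k, hk, i, rfl⟩
    exact Subgroup.mul_mem _ (hKQ hk) (Subgroup.zpow_mem _ hxQ i)
  have hKL : K ≤ L := fun k hk => ⟨k, hk, 0, by simp⟩
  have hxL : x ∈ L := ⟨1, K.one_mem, 1, by simp⟩
  let ψ : ↥L →* G ⧸ N := (QuotientGroup.mk' N).comp L.subtype
  have hψinj : Function.Injective ψ := by
    rw [injective_iff_map_eq_one]
    rintro ⟨l, k, hk, i, rfl⟩ hl1
    have h1 : QuotientGroup.mk' N (k * x ^ i) = 1 := hl1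
    rw [map_mul, map_zpow, hπx] at h1
    have h2 : QuotientGroup.mk' N k = ((c : G ⧸ N) ^ i)⁻¹ := eq_inv_of_mul_eq_one_left h1
    have h3 : QuotientGroup.mk' N k ∈ Hb := by
      rw [h2]; exact Hb.inv_mem (Hb.zpow_mem c.2 i)
    have h4 : QuotientGroup.mk' N k = 1 := hdisjFH _ (hKFh hk) h3
    have h5 : k ∈ N ⊓ K := ⟨hπN _ h4, hk⟩
    rw [hKN, Subgroup.mem_bot] at h5
    rw [h4, one_mul] at h1
    have h6 : x ^ i = 1 := by
      rw [← orderOf_dvd_iff_zpow_eq_one, hox, ← hco, orderOf_dvd_iff_zpow_eq_one]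
      exact h1
    apply Subtype.ext
    show k * x ^ i = 1
    rw [h5, h6, one_mul]
  have hψsurj : Function.Surjective ψ := by
    intro y
    obtain ⟨a, ha, b, hb, rfl⟩ := Cfsg.Agent.Helper1.IsComplement'.exists_mul hcomp y
    obtain ⟨k, hk, rfl⟩ := hKonto a ha
    obtain ⟨i, hi⟩ := Subgroup.mem_zpowers_iff.mp (hc ⟨b, hb⟩)
    have hb' : (c : G ⧸ N) ^ i = b := by
      have := congrArg Subtype.val hi
      simpa using this
    refine ⟨⟨k * x ^ i, k, hk, i, rfl⟩, ?_⟩
    show QuotientGroup.mk' N (k * x ^ i) = _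
    rw [map_mul, map_zpow, hπx, hb']
  let e : ↥L ≃* G ⧸ N := MulEquiv.ofBijective ψ ⟨hψinj, hψsurj⟩
  have he : ∀ l : ↥L, e l = QuotientGroup.mk' N (l : G) := fun l => rfl
  have hesymm : ∀ l : ↥L, e.symm (QuotientGroup.mk' N (l : G)) = l := by
    intro l
    rw [← he, MulEquiv.symm_apply_apply]
  -- the action on the abelianisation of Q
  let φ : G ⧸ N → Abelianization ↥Q →* Abelianization ↥Q := fun y =>
    Abelianization.map (Cfsg.Agent.S0666.cj Q L hLQ (e.symm y))
  have hφof : ∀ (y : G ⧸ N) (u : ↥Q),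
      φ y (Abelianization.of u) = Abelianization.of (Cfsg.Agent.S0666.cj Q L hLQ (e.symm y) u) :=
    fun y u => Abelianization.map_of _ u
  have hofsurj : ∀ v : Abelianization ↥Q, ∃ u : ↥Q, Abelianization.of u = v := by
    intro v
    obtain ⟨u, hu⟩ := QuotientGroup.mk_surjective (s := commutator ↥Q) v
    exact ⟨u, hu⟩
  have hφ1 : ∀ v, φ 1 v = v := by
    intro v
    obtain ⟨u, rfl⟩ := hofsurj v
    rw [hφof]
    congr 1
    apply Subtype.ext
    rw [Cfsg.Agent.S0666.cj_coe, map_one]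
    simp
  have hφmul : ∀ f g v, φ (f * g) v = φ f (φ g v) := by
    intro f g v
    obtain ⟨u, rfl⟩ := hofsurj v
    rw [hφof, hφof, hφof]
    congr 1
    apply Subtype.ext
    simp only [Cfsg.Agent.S0666.cj_coe, map_mul, Subgroup.coe_mul, mul_inv_rev]
    group
  -- norms vanish
  have hφnorm : ∀ s : Finset (G ⧸ N), (∀ f, f ∈ s ↔ f ∈ Hb) → ∀ w : Abelianization ↥Q,
      ∏ h ∈ s, φ h w = 1 := by
    intro s hs w
    obtain ⟨u, rfl⟩ := hofsurj w
    obtain ⟨q, hq1, hq2⟩ := pow_mul_eq Q L hLQ ⟨x, hxL⟩ u (Nat.card Hb)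
    have hux : ((u : G) * x) ^ Nat.card Hb = 1 := by
      apply hA'
      rw [map_mul, hπ1 _ (hQN u.2), one_mul, hπx]
      exact hco
    have hq : q = 1 := by
      apply Subtype.ext
      have h1 : ((u : G) * x) ^ Nat.card Hb = (q : G) * x ^ Nat.card Hb := hq1
      rw [hux, hxh, mul_one] at h1
      exact h1.symm
    rw [hq, map_one] at hq2
    rw [hq2]
    symm
    refine Finset.prod_nbij (fun i => (c : G ⧸ N) ^ i) ?_ ?_ ?_ ?_
    · intro i _
      rw [hs]
      exact Hb.pow_mem c.2 i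
    · intro i hi j hj hij
      rw [Finset.coe_range, Set.mem_Iio] at hi hj
      rw [← hco] at hi hj
      exact pow_injOn_Iio_orderOf hi hj hij
    · intro b hb
      rw [Finset.mem_coe, hs] at hb
      obtain ⟨i, hi⟩ := Subgroup.mem_zpowers_iff.mp (hc ⟨b, hb⟩)
      have hb' : (c : G ⧸ N) ^ i = b := by
        have := congrArg Subtype.val hi
        simpa using this
      refine ⟨(i % (Nat.card Hb : ℤ)).toNat, ?_, ?_⟩
      · rw [Finset.coe_range, Set.mem_Iio]
        have h1 : (0 : ℤ) ≤ i % (Nat.card Hb : ℤ) := Int.emod_nonneg _ (by omega)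
        have h2 : i % (Nat.card Hb : ℤ) < (Nat.card Hb : ℤ) := Int.emod_lt_of_pos _ (by omega)
        omega
      · show (c : G ⧸ N) ^ (i % (Nat.card Hb : ℤ)).toNat = b
        rw [← zpow_natCast, Int.toNat_of_nonneg (Int.emod_nonneg _ (by omega)), ← hco,
          zpow_mod_orderOf, hb']
    · intro i _
      show Abelianization.map (Cfsg.Agent.S0666.cj Q L hLQ ((⟨x, hxL⟩ : ↥L) ^ i))
        (Abelianization.of u) = φ ((c : G ⧸ N) ^ i) (Abelianization.of u)
      have : e.symm ((c : G ⧸ N) ^ i) = (⟨x, hxL⟩ : ↥L) ^ i := by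
        rw [← hπx, ← hesymm (⟨x, hxL⟩ ^ i)]
        congr 1
      show _ = Abelianization.map (Cfsg.Agent.S0666.cj Q L hLQ (e.symm ((c : G ⧸ N) ^ i))) _
      rw [this]
  -- apply the key lemma
  have hkey := key2 Hb Fb hHb hker.symm inferInstance hcomp φ hφ1 hφmul hφnorm
  have hmod : ∀ k ∈ K, ∀ u ∈ Q, u⁻¹ * (k * u * k⁻¹) ∈ (⁅Q, Q⁆ : Subgroup G) := by
    intro k hk u hu
    have h1 := hkey (Abelianization.of (⟨u, hu⟩ : ↥Q)) (QuotientGroup.mk' N k) (hKFh hk)
    have hes : e.symm (QuotientGroup.mk' N k) = ⟨k, hKL hk⟩ := hesymm ⟨k, hKL hk⟩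
    rw [hφof, hes, ← map_inv, ← map_mul] at h1
    set q : ↥Q := (⟨u, hu⟩ : ↥Q)⁻¹ * Cfsg.Agent.S0666.cj Q L hLQ ⟨k, hKL hk⟩ ⟨u, hu⟩ with hq
    have hqc : (q : G) = u⁻¹ * (k * u * k⁻¹) := by
      rw [hq, Subgroup.coe_mul, Cfsg.Agent.S0666.cj_coe]
      rfl
    have h2 : (Abelianization.of q) ^ Nat.card ↥Q = 1 := by
      rw [← map_pow, pow_card_eq_one', map_one]
    have h3 : (Nat.card Fb).Coprime (Nat.card ↥Q) :=
      Nat.Coprime.coprime_dvd_right (Subgroup.card_dvd_of_le hQN) hcop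
    have h4 : Abelianization.of q = 1 := by
      have := (pow_gcd_eq_one (a := Abelianization.of q)).mpr ⟨h1, h2⟩
      rwa [h3, pow_one] at this
    have h5 : q ∈ commutator ↥Q := by
      rw [← Abelianization.ker_of, MonoidHom.mem_ker]
      exact h4
    rw [← Subgroup.map_subtype_commutator, ← hqc]
    exact ⟨q, h5, rfl⟩
  have hcent : ∀ k ∈ K, ∀ u ∈ Q, k * u = u * k := by
    apply centralizes_of_stab K Q ⁅Q, Q⁆ _ _ hmod
    · intro k hk r hr
      have h1 : orderOf k ∣ Nat.card K := by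
        have := orderOf_dvd_natCard (⟨k, hk⟩ : ↥K)
        rwa [Subgroup.orderOf_mk] at this
      have hrN : r ∈ N := hQN (Subgroup.commutator_le_self Q hr)
      have h2 : orderOf r ∣ Nat.card N := by
        have := orderOf_dvd_natCard (⟨r, hrN⟩ : ↥N)
        rwa [Subgroup.orderOf_mk] at this
      exact Nat.Coprime.coprime_dvd_left h1 (Nat.Coprime.coprime_dvd_right h2 hcopKN)
    · intro k hk r hr
      exact ((Subgroup.mem_centralizer_iff.mp (hKCQ' hk)) r hr).symm
  apply hKCQ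
  intro k hk
  rw [Subgroup.mem_centralizer_iff]
  intro u hu
  exact (hcent k hk u hu).symm

end Cfsg.Agent.S3703
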