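import Mathlib
import Cfsg.Statements.S3704
import Cfsg.Agent.Lib.Helper18.PermCharOrbits
import Cfsg.Agent.Lib.Helper18.CliffordCorr
import Cfsg.Agent.Lib.Helper24.CharAlgebra

set_option autoImplicit false
open Cfsg

namespace Cfsg.Agent.S3704

open Cfsg.Agent.Helper24 Cfsg.Agent.Helper18 Cfsg.Agent.Helper5
open scoped ComplexConjugate

/-- Let G be a finite group acting faithfully and 2-transitively on a finite set Ω of size n, and let H be a subgroup of index n in G which is not transitive on Ω and fixes no point of Ω. Then H has exactly two orbits on Ω. -/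
theorem result {G Ω : Type*} [Group G] [Finite G] [MulAction G Ω] [FaithfulSMul G Ω] [Finite Ω] (h2 : MulAction.IsMultiplyPretransitive G Ω 2) (H : Subgroup G) (hidx : H.index = Nat.card Ω) (hnt : ¬ MulAction.IsPretransitive H Ω) (hfix : ∀ a : Ω, ∃ h : H, h • a ≠ a) : Nat.card (MulAction.orbitRel.Quotient H Ω) = 2 := by
  classical
  haveI : Fintype G := Fintype.ofFinite G
  haveI : Fintype H := Fintype.ofFinite H
  letI : Fintype (IrrCharacter G) := irrFintype
  haveI := h2
  haveI : MulAction.IsPretransitive G Ω := MulAction.isPretransitive_of_is_two_pretransitive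
  -- two distinct points
  have hns : ¬ Subsingleton Ω := by
    intro hs
    apply hnt
    exact ⟨fun a b => ⟨1, Subsingleton.elim _ _⟩⟩
  rw [not_subsingleton_iff_nontrivial] at hns
  obtain ⟨a, b, hab⟩ := hns
  haveI : Nonempty Ω := ⟨a⟩
  -- the permutation character
  obtain ⟨π, hπdef⟩ : ∃ π : G → ℂ, π = permChar G Ω := ⟨_, rfl⟩
  have hππ : classInner π π = 2 := by
    rw [hπdef, inner_permChar_self a, card_orbits_stabilizer_of_two_transitive h2 a ⟨b, hab.symm⟩]
    norm_num
  have hπ1 : classInner π (fun _ => (1 : ℂ)) = 1 := by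
    rw [hπdef]
    exact inner_permChar_one
  have hπchar : IsCharacter G π := by
    rw [hπdef]
    have := Cfsg.Agent.S0190.result (G := G) Ω a
    unfold permChar
    rw [this]
    exact isCharacter_indFun _ isCharacter_one
  obtain ⟨χ, hχchar, hπχ⟩ := exists_add_of_constituent hπchar (isIrrCharacter_one (G := G))
    (by rw [hπ1]; exact one_ne_zero)
  have h11 : classInner (fun _ : G => (1 : ℂ)) (fun _ : G => (1 : ℂ)) = 1 := by
    have := irr_orthogonality (isIrrCharacter_one (G := G)) (isIrrCharacter_one (G := G))
    rwa [if_pos rfl] at this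
  have hχ1 : classInner χ (fun _ => (1 : ℂ)) = 0 := by
    have := hπ1
    rw [hπχ, classInner_add_left, h11] at this
    linear_combination this
  have h1χ : classInner (fun _ : G => (1 : ℂ)) χ = 0 := by
    rw [← classInner_conj_symm, hχ1, map_zero]
  have hχχ : classInner χ χ = 1 := by
    have := hππ
    rw [hπχ, classInner_add_left, classInner_add_right, classInner_add_right, h11, hχ1, h1χ] at this
    linear_combination this
  have hχirr : IsIrrCharacter G χ := isIrrCharacter_iff.mpr ⟨hχchar, hχχ⟩
  have hπone : π 1 = (Nat.card Ω : ℂ) := by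
    rw [hπdef]
    unfold permChar
    congr 1
    have : MulAction.fixedBy Ω (1 : G) = Set.univ := by
      ext x
      simp [MulAction.mem_fixedBy]
    rw [this]
    exact Nat.card_congr (Equiv.Set.univ Ω)
  have hχone : χ 1 = (Nat.card Ω : ℂ) - 1 := by
    have := congrFun hπχ 1
    rw [Pi.add_apply, hπone] at this
    linear_combination -this
  -- the permutation character on the cosets of `H`
  obtain ⟨πH, hπHdef⟩ : ∃ πH : G → ℂ, πH = indFun H (fun _ => (1 : ℂ)) := ⟨_, rfl⟩
  have hπHchar : IsCharacter G πH := by
    rw [hπHdef]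
    exact isCharacter_indFun _ isCharacter_one
  have hπH1 : classInner πH (fun _ => (1 : ℂ)) = 1 := by
    rw [hπHdef, frobenius_reciprocity H _
      (isClassFunction_of_isIrrCharacter (isIrrCharacter_one (G := G)))]
    have := irr_orthogonality (isIrrCharacter_one (G := H)) (isIrrCharacter_one (G := H))
    rwa [if_pos rfl] at this
  obtain ⟨ψ, hψchar, hπψ⟩ := exists_add_of_constituent hπHchar (isIrrCharacter_one (G := G))
    (by rw [hπH1]; exact one_ne_zero)
  have hψ1 : classInner ψ (fun _ => (1 : ℂ)) = 0 := by
    have := hπH1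
    rw [hπψ, classInner_add_left, h11] at this
    linear_combination this
  have hψone : ψ 1 = (Nat.card Ω : ℂ) - 1 := by
    have := congrFun hπψ 1
    rw [Pi.add_apply, hπHdef, indFun_one, hidx, mul_one] at this
    linear_combination -this
  -- the number of orbits
  have hr : (Nat.card (MulAction.orbitRel.Quotient H Ω) : ℂ) = 1 + classInner ψ χ := by
    rw [card_orbits_subgroup, ← hπHdef, ← hπdef, hπψ, hπχ, classInner_add_left,
      classInner_add_right, classInner_add_right, h11, h1χ, hψ1]
    ring
  obtain ⟨k, hk⟩ := classInner_char_nat hψchar hχchar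
  rw [hk] at hr
  have hr' : Nat.card (MulAction.orbitRel.Quotient H Ω) = 1 + k := by exact_mod_cast hr
  have hk1 : k ≠ 0 := by
    intro hk0
    apply hnt
    rw [MulAction.pretransitive_iff_subsingleton_quotient]
    rw [hk0, add_zero] at hr'
    exact (Nat.card_eq_one_iff_unique.mp hr').1
  obtain ⟨ρ, hρchar, hψρ⟩ := exists_add_of_constituent hψchar hχirr
    (by rw [hk]; exact_mod_cast hk1)
  have hρ1 : ρ 1 = 0 := by
    have := congrFun hψρ 1
    rw [Pi.add_apply, hψone, hχone] at this
    linear_combination -this
  have hρ0 := char_eq_zero_of_one_eq_zero hρchar hρ1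
  rw [hρ0, add_zero] at hψρ
  rw [hψρ, hχχ] at hk
  have : k = 1 := by exact_mod_cast hk.symm
  rw [hr', this]

end Cfsg.Agent.S3704
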