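import Mathlib
import Cfsg.Statements.S3707
-- import your own Cfsg.Agent.* helpers here

set_option autoImplicit false
open Cfsg

namespace Cfsg.Agent.S3707

section core
variable {G Ω : Type*} [Group G] [Fintype G] [MulAction G Ω] [Fintype Ω] [DecidableEq Ω]

/-- translate of `Γ` by `g` -/
def tr (Γ : Finset Ω) (g : G) : Finset Ω := Γ.image (fun x => g • x)

theorem mem_tr {Γ : Finset Ω} {g : G} {x : Ω} : x ∈ tr Γ g ↔ g⁻¹ • x ∈ Γ := by
  unfold tr
  rw [Finset.mem_image]
  constructor
  · rintro ⟨y, hy, rfl⟩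
    rwa [inv_smul_smul]
  · intro h
    exact ⟨g⁻¹ • x, h, smul_inv_smul g x⟩

theorem smul_mem_tr_mul {Γ : Finset Ω} (h g : G) (x : Ω) :
    h • x ∈ tr Γ (h * g) ↔ x ∈ tr Γ g := by
  rw [mem_tr, mem_tr, mul_inv_rev, mul_smul, inv_smul_smul]

theorem card_tr (Γ : Finset Ω) (g : G) : (tr Γ g).card = Γ.card :=
  Finset.card_image_of_injective _ (MulAction.injective g)

variable (G) in
/-- number of translates (with multiplicity) through a point -/
def N1 (Γ : Finset Ω) (x : Ω) : ℕ := (Finset.univ.filter (fun g : G => x ∈ tr Γ g)).card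

variable (G) in
/-- number of translates (with multiplicity) through two points -/
def N2 (Γ : Finset Ω) (x y : Ω) : ℕ :=
  (Finset.univ.filter (fun g : G => x ∈ tr Γ g ∧ y ∈ tr Γ g)).card

theorem N2_smul (Γ : Finset Ω) (h : G) (x y : Ω) : N2 G Γ (h • x) (h • y) = N2 G Γ x y := by
  unfold N2
  symm
  apply Finset.card_equiv (Equiv.mulLeft h)
  intro g
  simp only [Finset.mem_filter, Finset.mem_univ, true_and, Equiv.coe_mulLeft]
  rw [smul_mem_tr_mul, smul_mem_tr_mul]

theorem N_rel (Γ : Finset Ω) (x : Ω) :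
    ∑ y ∈ Finset.univ.erase x, N2 G Γ x y = N1 G Γ x * (Γ.card - 1) := by
  have h := Finset.sum_card_bipartiteAbove_eq_sum_card_bipartiteBelow
    (s := Finset.univ.erase x) (t := Finset.univ.filter (fun g : G => x ∈ tr Γ g))
    (r := fun (y : Ω) (g : G) => y ∈ tr Γ g)
  have hL : ∀ y ∈ Finset.univ.erase x,
      ((Finset.univ.filter (fun g : G => x ∈ tr Γ g)).bipartiteAbove
        (fun (y : Ω) (g : G) => y ∈ tr Γ g) y).card = N2 G Γ x y := by
    intro y _
    unfold N2 Finset.bipartiteAbove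
    rw [Finset.filter_filter]
  have hR : ∀ g ∈ Finset.univ.filter (fun g : G => x ∈ tr Γ g),
      ((Finset.univ.erase x).bipartiteBelow (fun (y : Ω) (g : G) => y ∈ tr Γ g) g).card
        = Γ.card - 1 := by
    intro g hg
    rw [Finset.mem_filter] at hg
    have : (Finset.univ.erase x).bipartiteBelow (fun (y : Ω) (g : G) => y ∈ tr Γ g) g
        = (tr Γ g).erase x := by
      ext y
      simp only [Finset.mem_bipartiteBelow, Finset.mem_erase, Finset.mem_univ, and_true]
    rw [this, Finset.card_erase_of_mem hg.2, card_tr]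
  rw [Finset.sum_congr rfl hL, Finset.sum_congr rfl hR, Finset.sum_const, smul_eq_mul] at h
  exact h

theorem core_false
    (h2 : ∀ {a b c d : Ω}, a ≠ b → c ≠ d → ∃ g : G, g • a = c ∧ g • b = d)
    (Γ : Finset Ω) (hm : 2 ≤ Γ.card) (hn : 2 * Γ.card ≤ Fintype.card Ω)
    (hJ : ∀ x ∈ Γ, ∀ y ∈ Γ, ∃ g : G, (∀ z ∉ Γ, g • z = z) ∧ g • x = y)
    (a : Ω) (B : Finset Ω) (haB : a ∉ B) (hB2 : 2 ≤ B.card) (hBne : ∃ ω, ω ≠ a ∧ ω ∉ B)
    (hblock : ∀ g : G, g • a = a → (∀ x ∈ B, g • x ∈ B) ∨ (∀ x ∈ B, g • x ∉ B)) :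
    False := by
  obtain ⟨β, hβB, γ, hγB, hβγ⟩ := Finset.one_lt_card.mp (by omega : 1 < B.card)
  have hβa : β ≠ a := fun e => haB (e ▸ hβB)
  have hγa : γ ≠ a := fun e => haB (e ▸ hγB)
  -- J-property for translates
  have hJtr : ∀ g : G, ∀ x ∈ tr Γ g, ∀ y ∈ tr Γ g,
      ∃ k : G, (∀ z ∉ tr Γ g, k • z = z) ∧ k • x = y := by
    intro g x hx y hy
    obtain ⟨k0, hk0fix, hk0⟩ := hJ _ (mem_tr.mp hx) _ (mem_tr.mp hy)
    refine ⟨g * k0 * g⁻¹, ?_, ?_⟩
    · intro z hz
      have hz' : g⁻¹ • z ∉ Γ := fun h => hz (mem_tr.mpr h)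
      rw [mul_smul, mul_smul, hk0fix _ hz', smul_inv_smul]
    · rw [mul_smul, mul_smul, hk0, smul_inv_smul]
  -- P1
  have hP1 : ∀ g : G, a ∉ tr Γ g → ∀ β' ∈ B, β' ∈ tr Γ g → (B ⊆ tr Γ g ∨ tr Γ g ⊆ B) := by
    intro g hag β' hβ'B hβ'g
    by_cases hsub : B ⊆ tr Γ g
    · exact Or.inl hsub
    · right
      obtain ⟨δ, hδB, hδg⟩ := Finset.not_subset.mp hsub
      intro y hy
      obtain ⟨k, hkfix, hk⟩ := hJtr g β' hβ'g y hy
      have hka : k • a = a := hkfix a hag
      have hkδ : k • δ = δ := hkfix δ hδg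
      rcases hblock k hka with h | h
      · rw [← hk]; exact h β' hβ'B
      · have hmem : k • δ ∈ B := by rw [hkδ]; exact hδB
        exact absurd hmem (h δ hδB)
  -- P2
  have hP2 : 2 * B.card ≤ Fintype.card Ω - 1 := by
    obtain ⟨ω, hωa, hωB⟩ := hBne
    obtain ⟨k, hka, hkβ⟩ := h2 (Ne.symm hβa) (Ne.symm hωa)
    have hdis : ∀ x ∈ B, k • x ∉ B := by
      rcases hblock k hka with h | h
      · exact absurd (hkβ ▸ h β hβB) hωB
      · exact h
    have hdisj : Disjoint B (B.image (fun x => k • x)) := by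
      rw [Finset.disjoint_left]
      intro x hx hx'
      obtain ⟨y, hy, rfl⟩ := Finset.mem_image.mp hx'
      exact hdis y hy hx
    have hsub : B ∪ B.image (fun x => k • x) ⊆ Finset.univ.erase a := by
      intro x hx
      rw [Finset.mem_erase]
      refine ⟨?_, Finset.mem_univ x⟩
      rcases Finset.mem_union.mp hx with h | h
      · exact fun e => haB (e ▸ h)
      · obtain ⟨y, hy, rfl⟩ := Finset.mem_image.mp h
        intro e
        have : y = a := MulAction.injective k (e.trans hka.symm)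
        exact haB (this ▸ hy)
    have hcard := Finset.card_le_card hsub
    rw [Finset.card_union_of_disjoint hdisj,
      Finset.card_image_of_injective _ (MulAction.injective k),
      Finset.card_erase_of_mem (Finset.mem_univ a), Finset.card_univ] at hcard
    omega
  -- c2
  set c2 := N2 G Γ a β with hc2
  have hN2 : ∀ x y : Ω, x ≠ y → N2 G Γ x y = c2 := by
    intro x y hxy
    obtain ⟨k, hk1, hk2⟩ := h2 (Ne.symm hβa) hxy
    rw [hc2, ← hk1, ← hk2, N2_smul]
  have hc2pos : 0 < c2 := by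
    obtain ⟨u, hu, v, hv, huv⟩ := Finset.one_lt_card.mp (by omega : 1 < Γ.card)
    obtain ⟨g, hg1, hg2⟩ := h2 huv (Ne.symm hβa)
    rw [hc2]
    unfold N2
    apply Finset.card_pos.mpr
    refine ⟨g, Finset.mem_filter.mpr ⟨Finset.mem_univ g, ?_, ?_⟩⟩
    · rw [mem_tr, ← hg1, inv_smul_smul]; exact hu
    · rw [mem_tr, ← hg2, inv_smul_smul]; exact hv
  rcases Nat.lt_or_ge B.card Γ.card with hbm | hbm
  · -- case b < m
    have key : ∀ g : G, β ∈ tr Γ g → a ∉ tr Γ g → γ ∈ tr Γ g := by
      intro g hβg hag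
      rcases hP1 g hag β hβB hβg with h | h
      · exact h hγB
      · have := Finset.card_le_card h
        rw [card_tr] at this
        omega
    have h1 : N1 G Γ β ≤ 2 * c2 := by
      unfold N1
      have hsplit := Finset.card_filter_add_card_filter_not
        (s := Finset.univ.filter (fun g : G => β ∈ tr Γ g)) (fun g : G => a ∈ tr Γ g)
      rw [Finset.filter_filter, Finset.filter_filter] at hsplit
      have hA : (Finset.univ.filter (fun g : G => β ∈ tr Γ g ∧ a ∈ tr Γ g)).card = c2 := by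
        rw [← hN2 β a hβa]; rfl
      have hBc : (Finset.univ.filter (fun g : G => β ∈ tr Γ g ∧ ¬ a ∈ tr Γ g)).card ≤ c2 := by
        rw [← hN2 β γ hβγ]
        unfold N2
        apply Finset.card_le_card
        intro g hg
        rw [Finset.mem_filter] at hg ⊢
        exact ⟨hg.1, hg.2.1, key g hg.2.1 hg.2.2⟩
      omega
    have h2' := N_rel (G := G) Γ β
    rw [Finset.sum_congr rfl (fun y hy => hN2 β y (Ne.symm (Finset.ne_of_mem_erase hy))),
      Finset.sum_const, smul_eq_mul, Finset.card_erase_of_mem (Finset.mem_univ β),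
      Finset.card_univ] at h2'
    have h3 : (Fintype.card Ω - 1) * c2 ≤ 2 * c2 * (Γ.card - 1) := by
      rw [h2']; exact Nat.mul_le_mul_right _ h1
    have h4 : (Fintype.card Ω - 1) * c2 ≤ (2 * (Γ.card - 1)) * c2 := by
      calc (Fintype.card Ω - 1) * c2 ≤ 2 * c2 * (Γ.card - 1) := h3
        _ = (2 * (Γ.card - 1)) * c2 := by ring
    have h5 := Nat.le_of_mul_le_mul_right h4 hc2pos
    omega
  · -- case m ≤ b
    have key : ∀ g : G, β ∈ tr Γ g → a ∉ tr Γ g → tr Γ g ⊆ B := by
      intro g hβg hag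
      rcases hP1 g hag β hβB hβg with h | h
      · have hle : (tr Γ g).card ≤ B.card := by rw [card_tr]; exact hbm
        rw [Finset.eq_of_subset_of_card_le h hle]
      · exact h
    set S : Finset Ω := (Finset.univ.erase a) \ B with hS
    have hScard : S.card = Fintype.card Ω - 1 - B.card := by
      rw [hS, Finset.card_sdiff_of_subset, Finset.card_erase_of_mem (Finset.mem_univ a),
        Finset.card_univ]
      intro x hx
      exact Finset.mem_erase.mpr ⟨fun e => haB (e ▸ hx), Finset.mem_univ x⟩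
    set T : Finset G := Finset.univ.filter (fun g : G => a ∈ tr Γ g ∧ β ∈ tr Γ g) with hT
    have hTcard : T.card = c2 := rfl
    have hdc := Finset.sum_card_bipartiteAbove_eq_sum_card_bipartiteBelow
      (s := S) (t := T) (r := fun (y : Ω) (g : G) => y ∈ tr Γ g)
    have hL : ∀ y ∈ S, (T.bipartiteAbove (fun (y : Ω) (g : G) => y ∈ tr Γ g) y).card = c2 := by
      intro y hy
      rw [hS, Finset.mem_sdiff, Finset.mem_erase] at hy
      have hyβ : β ≠ y := fun e => hy.2 (e ▸ hβB)
      rw [← hN2 β y hyβ]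
      unfold N2 Finset.bipartiteAbove
      rw [hT, Finset.filter_filter]
      congr 1
      ext g
      simp only [Finset.mem_filter, Finset.mem_univ, true_and]
      constructor
      · rintro ⟨⟨_, h2⟩, h3⟩
        exact ⟨h2, h3⟩
      · rintro ⟨h2, h3⟩
        refine ⟨⟨?_, h2⟩, h3⟩
        by_contra hag
        exact hy.2 (key g h2 hag h3)
    have hR : ∀ g ∈ T, (S.bipartiteBelow (fun (y : Ω) (g : G) => y ∈ tr Γ g) g).card
        ≤ Γ.card - 2 := by
      intro g hg
      rw [hT, Finset.mem_filter] at hg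
      have hsub : S.bipartiteBelow (fun (y : Ω) (g : G) => y ∈ tr Γ g) g
          ⊆ ((tr Γ g).erase a).erase β := by
        intro y hy
        rw [Finset.mem_bipartiteBelow, hS, Finset.mem_sdiff, Finset.mem_erase] at hy
        rw [Finset.mem_erase, Finset.mem_erase]
        exact ⟨fun e => hy.1.2 (e ▸ hβB), hy.1.1.1, hy.2⟩
      have := Finset.card_le_card hsub
      rw [Finset.card_erase_of_mem (Finset.mem_erase.mpr ⟨hβa, hg.2.2⟩),
        Finset.card_erase_of_mem hg.2.1, card_tr] at this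
      omega
    rw [Finset.sum_congr rfl hL, Finset.sum_const, smul_eq_mul] at hdc
    have hle : S.card * c2 ≤ T.card * (Γ.card - 2) := by
      rw [hdc]
      calc ∑ g ∈ T, (S.bipartiteBelow (fun (y : Ω) (g : G) => y ∈ tr Γ g) g).card
          ≤ ∑ g ∈ T, (Γ.card - 2) := Finset.sum_le_sum hR
        _ = T.card * (Γ.card - 2) := by rw [Finset.sum_const, smul_eq_mul]
    rw [hTcard, hScard, mul_comm c2] at hle
    have := Nat.le_of_mul_le_mul_right hle hc2pos
    omega

end core

section glue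
open MulAction SubMulAction
open scoped Pointwise

theorem stab_preprimitive {G Ω : Type*} [Group G] [Fintype G] [MulAction G Ω] [Fintype Ω]
    [DecidableEq Ω]
    (h2 : ∀ {a b c d : Ω}, a ≠ b → c ≠ d → ∃ g : G, g • a = c ∧ g • b = d)
    (hG2 : IsMultiplyPretransitive G Ω 2) (hGt : IsPretransitive G Ω)
    (Γ : Finset Ω) (hm : 2 ≤ Γ.card) (hn : 2 * Γ.card ≤ Fintype.card Ω)
    (hJ : ∀ x ∈ Γ, ∀ y ∈ Γ, ∃ g : G, (∀ z ∉ Γ, g • z = z) ∧ g • x = y)
    (a : Ω) : IsPreprimitive (stabilizer G a) (ofStabilizer G a) := by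
  have htrans : IsPretransitive (stabilizer G a) (ofStabilizer G a) := by
    rw [← is_one_pretransitive_iff]
    exact (ofStabilizer.isMultiplyPretransitive (a := a)).mp hG2
  refine { toIsPretransitive := htrans, isTrivialBlock_of_isBlock := ?_ }
  intro Bs hBs
  by_contra hnt
  unfold IsTrivialBlock at hnt
  rw [not_or] at hnt
  obtain ⟨hns, hnu⟩ := hnt
  rw [Set.not_subsingleton_iff] at hns
  obtain ⟨x, hx, y, hy, hxy⟩ := hns
  obtain ⟨w, hw⟩ := (Set.ne_univ_iff_exists_notMem Bs).mp hnu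
  set B : Finset Ω := (Set.toFinite (Subtype.val '' Bs)).toFinset with hBdef
  have hBmem : ∀ z : Ω, z ∈ B ↔ ∃ u : ofStabilizer G a, u ∈ Bs ∧ (u : Ω) = z := by
    intro z
    rw [hBdef, Set.Finite.mem_toFinset, Set.mem_image]
  apply core_false (G := G) h2 Γ hm hn hJ a B
  · intro ha
    obtain ⟨u, _, hu⟩ := (hBmem a).mp ha
    exact (mem_ofStabilizer_iff G a).mp u.2 hu
  · have : 1 < B.card := by
      rw [Finset.one_lt_card]
      refine ⟨x, (hBmem _).mpr ⟨x, hx, rfl⟩, y, (hBmem _).mpr ⟨y, hy, rfl⟩, ?_⟩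
      exact fun e => hxy (Subtype.ext e)
    omega
  · refine ⟨w, (mem_ofStabilizer_iff G a).mp w.2, ?_⟩
    intro hwB
    obtain ⟨u, hu, huw⟩ := (hBmem _).mp hwB
    exact hw ((Subtype.ext huw) ▸ hu)
  · intro g hg
    have hgs : g ∈ stabilizer G a := mem_stabilizer_iff.mpr hg
    rcases hBs.smul_eq_or_disjoint (⟨g, hgs⟩ : stabilizer G a) with h | h
    · left
      intro z hz
      obtain ⟨u, hu, rfl⟩ := (hBmem z).mp hz
      rw [hBmem]
      refine ⟨(⟨g, hgs⟩ : stabilizer G a) • u, ?_, rfl⟩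
      rw [← h]
      exact Set.smul_mem_smul_set hu
    · right
      intro z hz hgz
      obtain ⟨u, hu, rfl⟩ := (hBmem z).mp hz
      obtain ⟨v, hv, hvz⟩ := (hBmem _).mp hgz
      have hveq : (⟨g, hgs⟩ : stabilizer G a) • u = v := Subtype.ext hvz.symm
      have hmem : v ∈ (⟨g, hgs⟩ : stabilizer G a) • Bs := by
        rw [← hveq]; exact Set.smul_mem_smul_set hu
      exact Set.disjoint_left.mp h hmem hv

end glue

/-- Let G be a finite primitive permutation group on Ω of degree n and Γ ⊂ Ω a subset with 1 < #Γ ≤ n/2 such that the pointwise stabilizer of Ω ∖ Γ is transitive on Γ. Then G is 3-transitive on Ω. -/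
theorem result {G Ω : Type*} [Group G] [Finite G] [MulAction G Ω] [FaithfulSMul G Ω] [Finite Ω] (hprim : MulAction.IsPreprimitive G Ω) (Γ : Set Ω) (h1 : 1 < Γ.ncard) (h2 : 2 * Γ.ncard ≤ Nat.card Ω) (htr : ∀ x ∈ Γ, ∀ y ∈ Γ, ∃ g : G, (∀ z ∉ Γ, g • z = z) ∧ g • x = y) : MulAction.IsMultiplyPretransitive G Ω 3 := by
  classical
  haveI : Fintype G := Fintype.ofFinite G
  haveI : Fintype Ω := Fintype.ofFinite Ω
  have hcardΩ : Nat.card Ω = Fintype.card Ω := Nat.card_eq_fintype_card
  set s : Set Ω := Γᶜ with hs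
  have hadd : Γ.ncard + s.ncard = Nat.card Ω := Set.ncard_add_ncard_compl Γ
  obtain ⟨n0, hn0⟩ : ∃ n0, s.ncard = n0 + 1 := ⟨s.ncard - 1, by omega⟩
  have hsn' : n0 + 2 < Nat.card Ω := by omega
  have hs_trans : MulAction.IsPretransitive (fixingSubgroup G s)
      (SubMulAction.ofFixingSubgroup G s) := by
    constructor
    intro x y
    have hx : (x : Ω) ∈ Γ := by
      have := (SubMulAction.mem_ofFixingSubgroup_iff (M := G)).mp x.2
      by_contra h
      exact this (show (x : Ω) ∈ s from h)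
    have hy : (y : Ω) ∈ Γ := by
      have := (SubMulAction.mem_ofFixingSubgroup_iff (M := G)).mp y.2
      by_contra h
      exact this (show (y : Ω) ∈ s from h)
    obtain ⟨g, hgfix, hg⟩ := htr _ hx _ hy
    have hgmem : g ∈ fixingSubgroup G s := by
      rw [mem_fixingSubgroup_iff]
      intro z hz
      exact hgfix z hz
    exact ⟨⟨g, hgmem⟩, Subtype.ext hg⟩
  have hG2 : MulAction.IsMultiplyPretransitive G Ω 2 :=
    hprim.is_two_pretransitive hn0 hsn' hs_trans
  have h2' : ∀ {a b c d : Ω}, a ≠ b → c ≠ d → ∃ g : G, g • a = c ∧ g • b = d :=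
    fun {a b c d} h h' => MulAction.is_two_pretransitive_iff.mp hG2 h h'
  haveI hGt : MulAction.IsPretransitive G Ω := hprim.toIsPretransitive
  -- a point of s
  have hsne : s.Nonempty := by
    rw [← Set.ncard_pos]; omega
  obtain ⟨a, ha⟩ := hsne
  -- finset version of Γ
  set Γf : Finset Ω := (Set.toFinite Γ).toFinset with hΓf
  have hΓfmem : ∀ z, z ∈ Γf ↔ z ∈ Γ := fun z => Set.Finite.mem_toFinset _
  have hΓfcard : Γf.card = Γ.ncard := (Set.ncard_eq_toFinset_card Γ (Set.toFinite Γ)).symm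
  have hprimA : MulAction.IsPreprimitive (MulAction.stabilizer G a)
      (SubMulAction.ofStabilizer G a) := by
    apply stab_preprimitive (fun h h' => h2' h h') hG2 hGt Γf (by omega) (by omega) _ a
    intro x hx y hy
    obtain ⟨g, hgfix, hg⟩ := htr x ((hΓfmem x).mp hx) y ((hΓfmem y).mp hy)
    exact ⟨g, fun z hz => hgfix z (fun h => hz ((hΓfmem z).mpr h)), hg⟩
  -- Jordan for the stabilizer
  set t : Set (SubMulAction.ofStabilizer G a) := Subtype.val ⁻¹' s with ht
  have hst : s = insert a (Subtype.val '' t) := by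
    ext x
    by_cases hx : x = a <;> simp [hx, SubMulAction.mem_ofStabilizer_iff, ha, ht]
  have ha' : a ∉ Subtype.val '' t := by
    intro h; rw [Set.mem_image] at h; obtain ⟨x, hx⟩ := h
    apply x.prop; rw [hx.right]; exact Set.mem_singleton a
  obtain ⟨n1, hn1⟩ : ∃ n1, n0 = n1 + 1 := ⟨n0 - 1, by omega⟩
  have htn : t.ncard = n1 + 1 := by
    rw [← Set.ncard_image_of_injective t Subtype.val_injective]
    apply Nat.add_right_cancel (m := 1)
    rw [← Set.ncard_insert_of_notMem ha', ← hst, hn0, hn1]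
  have htn' : n1 + 2 < Nat.card (SubMulAction.ofStabilizer G a) := by
    have := SubMulAction.nat_card_ofStabilizer_add_one_eq G a
    omega
  haveI := hs_trans
  haveI h1t : MulAction.IsPretransitive ↥(fixingSubgroup G (insert a (Subtype.val '' t)))
      (SubMulAction.ofFixingSubgroup G (insert a (Subtype.val '' t))) :=
    MulAction.IsPretransitive.of_surjective_map
      (SubMulAction.ofFixingSubgroup_of_eq_bijective (hst := hst)).surjective inferInstance
  have hGs' : MulAction.IsPretransitive (fixingSubgroup (MulAction.stabilizer G a) t)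
      (SubMulAction.ofFixingSubgroup (MulAction.stabilizer G a) t) :=
    MulAction.IsPretransitive.of_surjective_map
      SubMulAction.ofFixingSubgroup_insert_map_bijective.surjective inferInstance
  have h2A : MulAction.IsMultiplyPretransitive (MulAction.stabilizer G a)
      (SubMulAction.ofStabilizer G a) 2 :=
    hprimA.is_two_pretransitive htn htn' hGs'
  exact (SubMulAction.ofStabilizer.isMultiplyPretransitive (a := a)).mpr h2A

end Cfsg.Agent.S3707
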