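import Mathlib
import Cfsg.Statements.S3733

set_option autoImplicit false
open Cfsg

namespace Cfsg.Agent.S3733

open scoped IsMulCommutative
open Classical

variable {G : Type*} [Group G]

/-- conjugate of `v` by `g`, as an element of `V`, junk value `1` outside `A`. -/
noncomputable def F (A V : Subgroup G) (hAV : A ≤ Subgroup.normalizer (V : Set G)) (v : V) (g : G) : V :=
  if hg : g ∈ A then ⟨g * v * g⁻¹, (Subgroup.mem_normalizer_iff.mp (hAV hg) v).mp v.2⟩ else 1

/-- the "trace" of `v` over a subgroup `B`. -/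
noncomputable def T [Fintype G] (A V : Subgroup G) [IsMulCommutative V]
    (hAV : A ≤ Subgroup.normalizer (V : Set G)) (B : Subgroup G) (v : V) : V :=
  ∏ g : G, if g ∈ B then F A V hAV v g else 1

theorem coe_T_conj [Fintype G] (A V : Subgroup G) [IsMulCommutative V]
    (hAV : A ≤ Subgroup.normalizer (V : Set G)) (B : Subgroup G) (hBA : B ≤ A) (v : V)
    (c : G) (hc : c ∈ B) : c * (T A V hAV B v : G) * c⁻¹ = (T A V hAV B v : G) := by
  have hcA : c ∈ A := hBA hc
  -- conjugation by c as a hom V →* V
  let ψ : V →* V :=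
    { toFun := fun w => ⟨c * w * c⁻¹, (Subgroup.mem_normalizer_iff.mp (hAV hcA) w).mp w.2⟩
      map_one' := by ext; simp
      map_mul' := by intro x y; ext; simp [mul_assoc] }
  have h1 : (ψ (T A V hAV B v) : G) = c * (T A V hAV B v : G) * c⁻¹ := rfl
  rw [← h1]
  congr 1
  unfold T
  rw [map_prod]
  -- reindex
  rw [← Equiv.prod_comp (Equiv.mulLeft c) (fun g => if g ∈ B then F A V hAV v g else 1)]
  apply Finset.prod_congr rfl
  intro g _
  by_cases hg : g ∈ B
  · have hcg : (Equiv.mulLeft c) g ∈ B := B.mul_mem hc hg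
    rw [if_pos hg, if_pos hcg]
    have hcg' : c * g ∈ B := hcg
    have e : (Equiv.mulLeft c) g = c * g := rfl
    rw [e]
    unfold F
    rw [dif_pos (hBA hg), dif_pos (hBA hcg')]
    ext
    simp [ψ, mul_assoc]
  · have hcg : ¬ (Equiv.mulLeft c) g ∈ B := by
      intro h
      apply hg
      have h' : c * g ∈ B := h
      have := B.mul_mem (B.inv_mem hc) h'
      simpa using this
    rw [if_neg hg, if_neg hcg, map_one]

theorem T_mem_centralizer [Fintype G] (A V : Subgroup G) [IsMulCommutative V]
    (hAV : A ≤ Subgroup.normalizer (V : Set G)) (B : Subgroup G) (hBA : B ≤ A) (v : V) :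
    (T A V hAV B v : G) ∈ V ⊓ Subgroup.centralizer (B : Set G) := by
  refine ⟨(T A V hAV B v).2, ?_⟩
  show (T A V hAV B v : G) ∈ Subgroup.centralizer (B : Set G)
  rw [Subgroup.mem_centralizer_iff]
  intro c hc
  have := coe_T_conj A V hAV B hBA v c hc
  calc c * (T A V hAV B v : G) = (c * (T A V hAV B v : G) * c⁻¹) * c := by group
    _ = (T A V hAV B v : G) * c := by rw [this]

/-- Let A and V be subgroups of a finite group with V abelian and nontrivial and A normalizing V. Suppose a nonempty finite family of proper subgroups of A partitions A: every non-identity element of A lies in exactly one member. If the number of members minus one is coprime to the order of V, then some member B of the family has a non-identity fixed point on V, that is V ∩ C(B) ≠ 1. -/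
theorem result {G : Type*} [Group G] [Finite G] (A V : Subgroup G) (hVab : IsMulCommutative V) (hV : V ≠ ⊥) (hAV : A ≤ Subgroup.normalizer (V : Set G)) (𝒜 : Finset (Subgroup G)) (hne : 𝒜.Nonempty) (hprop : ∀ B ∈ 𝒜, B < A) (hpart : ∀ a ∈ A, a ≠ 1 → ∃! B, B ∈ 𝒜 ∧ a ∈ B) (hk : (𝒜.card - 1).Coprime (Nat.card V)) : ∃ B ∈ 𝒜, V ⊓ Subgroup.centralizer (B : Set G) ≠ ⊥ := by
  by_contra hcon
  push Not at hcon
  cases nonempty_fintype G
  apply hV
  rw [eq_bot_iff]
  intro x hx
  rw [Subgroup.mem_bot]
  set v : V := ⟨x, hx⟩ with hv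
  -- each T_B v = 1
  have hTB : ∀ B ∈ 𝒜, T A V hAV B v = 1 := by
    intro B hB
    have := T_mem_centralizer A V hAV B (hprop B hB).le v
    rw [hcon B hB, Subgroup.mem_bot] at this
    exact Subtype.ext this
  -- T_A v = 1
  have hTA : T A V hAV A v = 1 := by
    obtain ⟨B, hB⟩ := hne
    have h1 := T_mem_centralizer A V hAV A le_rfl v
    have h2 : (T A V hAV A v : G) ∈ V ⊓ Subgroup.centralizer (B : Set G) :=
      ⟨h1.1, Subgroup.centralizer_le (hprop B hB).le h1.2⟩
    rw [hcon B hB, Subgroup.mem_bot] at h2
    exact Subtype.ext h2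
  -- double counting
  have hcount : ∏ B ∈ 𝒜, T A V hAV B v = T A V hAV A v * v ^ (𝒜.card - 1) := by
    unfold T
    rw [Finset.prod_comm]
    have hsplit : v ^ (𝒜.card - 1) = ∏ g : G, if g = 1 then v ^ (𝒜.card - 1) else 1 := by
      rw [Finset.prod_ite_eq' Finset.univ (1 : G) (fun _ => v ^ (𝒜.card - 1))]
      simp
    rw [hsplit, ← Finset.prod_mul_distrib]
    apply Finset.prod_congr rfl
    intro g _
    rw [← Finset.prod_filter, Finset.prod_const]
    by_cases hg1 : g = 1
    · subst hg1
      have hall : 𝒜.filter (fun B => (1 : G) ∈ B) = 𝒜 := by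
        apply Finset.filter_true_of_mem
        intro B _
        exact B.one_mem
      rw [hall, if_pos A.one_mem, if_pos rfl]
      have hF1 : F A V hAV v 1 = v := by
        unfold F
        rw [dif_pos A.one_mem]
        ext; simp
      rw [hF1, ← pow_succ']
      congr 1
      have := Finset.card_pos.mpr hne
      omega
    · rw [if_neg hg1, mul_one]
      by_cases hgA : g ∈ A
      · rw [if_pos hgA]
        obtain ⟨B₀, ⟨hB₀, hgB₀⟩, huniq⟩ := hpart g hgA hg1
        have hfil : 𝒜.filter (fun B => g ∈ B) = {B₀} := by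
          ext B
          simp only [Finset.mem_filter, Finset.mem_singleton]
          constructor
          · rintro ⟨h1, h2⟩
            exact huniq B ⟨h1, h2⟩
          · rintro rfl
            exact ⟨hB₀, hgB₀⟩
        rw [hfil, Finset.card_singleton, pow_one]
      · rw [if_neg hgA]
        have hfil : 𝒜.filter (fun B => g ∈ B) = ∅ := by
          apply Finset.filter_false_of_mem
          intro B hB hgB
          exact hgA ((hprop B hB).le hgB)
        rw [hfil, Finset.card_empty, pow_zero]
  rw [Finset.prod_eq_one hTB, hTA, one_mul] at hcount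
  -- v ^ (k-1) = 1 and coprimality
  have hord1 : orderOf v ∣ 𝒜.card - 1 := orderOf_dvd_of_pow_eq_one hcount.symm
  have hord2 : orderOf v ∣ Nat.card V := orderOf_dvd_natCard v
  have := Nat.eq_one_of_dvd_coprimes hk hord1 hord2
  have hv1 : v = 1 := orderOf_eq_one_iff.mp this
  have := congrArg Subtype.val hv1
  simpa [hv] using this

end Cfsg.Agent.S3733
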