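import Mathlib
import Cfsg.Statements.S3734
import Cfsg.Agent.Lib.Helper15.CoprimeGen2
import Cfsg.Agent.Lib.Helper20.AbelianNoncyclic
import Cfsg.Agent.Lib.Helper1.Coprime
import Cfsg.Agent.Lib.Helper1.QuotientCard
import Cfsg.Agent.Lib.Helper19.NormalizerLattice

set_option autoImplicit false
open Cfsg

namespace Cfsg.Agent.S3734

variable {X : Type*} [Group X]

/-- Coprime generation for an abelian group acting as an elementary abelian `p`-group of rank at
least two modulo the kernel of the action (proved in the holomorph). -/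
theorem coprime_generation_mod_kernel [Finite X] {p : ℕ} [Fact p.Prime] (G E : Subgroup X)
    (hEab : ∀ x ∈ E, ∀ y ∈ E, x * y = y * x)
    (hEG : E ≤ Subgroup.normalizer (G : Set X)) (hp : (Nat.card G).Coprime p)
    (hexp : ∀ e ∈ E, e ^ p ∈ Subgroup.centralizer (G : Set X))
    (hidx : p ^ 2 ≤ (E ⊓ Subgroup.centralizer (G : Set X)).relIndex E)
    (T : Subgroup X)
    (hT : ∀ e ∈ E, e ∉ Subgroup.centralizer (G : Set X) →
      G ⊓ Subgroup.centralizer ({e} : Set X) ≤ T) : G ≤ T := by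
  obtain ⟨κ, hκ⟩ : ∃ κ : ↥E →* MulAut ↥G,
      κ = (G.normalizerMonoidHom).comp (Subgroup.inclusion hEG) := ⟨_, rfl⟩
  have hκapp : ∀ (e : ↥E) (g : ↥G), ((κ e g : ↥G) : X) = (e : X) * g * (e : X)⁻¹ := by
    intro e g
    rw [hκ]
    rfl
  have hκker : ∀ e : ↥E, κ e = 1 ↔ (e : X) ∈ Subgroup.centralizer (G : Set X) := by
    intro e
    constructor
    · intro h
      rw [Subgroup.mem_centralizer_iff]
      intro g hg
      have h1 := hκapp e ⟨g, hg⟩
      rw [h] at h1
      simp only [MulAut.one_apply] at h1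
      calc g * (e : X) = ((e : X) * g * (e : X)⁻¹) * e := by rw [← h1]
        _ = e * g := by group
    · intro h
      ext g
      rw [hκapp, MulAut.one_apply]
      have := Subgroup.mem_centralizer_iff.mp h g g.2
      rw [← this]
      group
  -- the holomorph
  have hfinAut : Finite (MulAut ↥G) := Finite.of_injective (fun f : MulAut ↥G => (f : ↥G → ↥G))
    (fun f g hfg => MulEquiv.ext (congrFun hfg))
  have hfinS : Finite (↥G ⋊[MonoidHom.id (MulAut ↥G)] MulAut ↥G) :=
    Finite.of_equiv _ SemidirectProduct.equivProd.symm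
  obtain ⟨ι, hι⟩ : ∃ ι : ↥E →* ↥G ⋊[MonoidHom.id (MulAut ↥G)] MulAut ↥G,
      ι = (SemidirectProduct.inr).comp κ := ⟨_, rfl⟩
  have hconj : ∀ (e : ↥E) (g : ↥G), ι e * SemidirectProduct.inl g * (ι e)⁻¹ =
      SemidirectProduct.inl (κ e g) := by
    intro e g
    have := SemidirectProduct.inl_aut (φ := MonoidHom.id (MulAut ↥G)) (κ e) g
    rw [map_inv] at this
    rw [hι]
    exact this.symm
  have hιker : ∀ e : ↥E, ι e = 1 ↔ (e : X) ∈ Subgroup.centralizer (G : Set X) := by
    intro e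
    rw [← hκker, hι]
    constructor
    · intro h
      apply SemidirectProduct.inr_injective (φ := MonoidHom.id (MulAut ↥G))
      rw [map_one]
      exact h
    · intro h
      show SemidirectProduct.inr (κ e) = 1
      rw [h, map_one]
  have hU : Cfsg.IsElementaryAbelian p ι.range := by
    constructor
    · rw [isMulCommutative_iff]
      rintro ⟨_, ⟨x, rfl⟩⟩ ⟨_, ⟨y, rfl⟩⟩
      apply Subtype.ext
      show ι x * ι y = ι y * ι x
      rw [← map_mul, ← map_mul]
      congr 1
      exact Subtype.ext (hEab x x.2 y y.2)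
    · rintro _ ⟨e, rfl⟩
      rw [← map_pow, hιker]
      exact hexp e e.2
  have hU2 : p ^ 2 ≤ Nat.card ι.range := by
    rw [← Subgroup.index_ker]
    have : ι.ker = (E ⊓ Subgroup.centralizer (G : Set X)).subgroupOf E := by
      ext e
      rw [MonoidHom.mem_ker, hιker, Subgroup.mem_subgroupOf, Subgroup.mem_inf]
      exact ⟨fun h => ⟨e.2, h⟩, fun h => h.2⟩
    rw [this]
    exact hidx
  have hR : (Nat.card (SemidirectProduct.inl :
      ↥G →* ↥G ⋊[MonoidHom.id (MulAut ↥G)] MulAut ↥G).range).Coprime p := by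
    have e : ↥G ≃* (SemidirectProduct.inl :
        ↥G →* ↥G ⋊[MonoidHom.id (MulAut ↥G)] MulAut ↥G).range :=
      MonoidHom.ofInjective SemidirectProduct.inl_injective
    rw [← Nat.card_congr e.toEquiv]
    exact hp
  have hRn : ((SemidirectProduct.inl :
      ↥G →* ↥G ⋊[MonoidHom.id (MulAut ↥G)] MulAut ↥G).range).Normal := by
    rw [SemidirectProduct.range_inl_eq_ker_rightHom]
    infer_instance
  have hUR : ι.range ≤ Subgroup.normalizer (((SemidirectProduct.inl :
      ↥G →* ↥G ⋊[MonoidHom.id (MulAut ↥G)] MulAut ↥G).range : Subgroup _) : Set _) := by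
    rw [Subgroup.normalizer_eq_top]
    exact le_top
  have key := Cfsg.Agent.Helper15.le_of_forall_ne_one_inf_centralizer_le hU hU2 hR hUR
    ((T.subgroupOf G).map SemidirectProduct.inl) (by
      rintro _ ⟨e, rfl⟩ hne x hx
      obtain ⟨⟨g, rfl⟩, hxc⟩ := Subgroup.mem_inf.mp hx
      have hne' : (e : X) ∉ Subgroup.centralizer (G : Set X) := by
        rw [← hιker]
        exact hne
      have h1 : SemidirectProduct.inl (κ e g) =
          (SemidirectProduct.inl g : ↥G ⋊[MonoidHom.id (MulAut ↥G)] MulAut ↥G) := by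
        rw [← hconj]
        have := Subgroup.mem_centralizer_singleton_iff.mp hxc
        rw [← this]
        group
      have h2 : κ e g = g := SemidirectProduct.inl_injective h1
      have h3 : (g : X) ∈ G ⊓ Subgroup.centralizer ({(e : X)} : Set X) := by
        refine Subgroup.mem_inf.mpr ⟨g.2, ?_⟩
        rw [Subgroup.mem_centralizer_singleton_iff]
        have := hκapp e g
        rw [h2] at this
        calc (g : X) * (e : X) = ((e : X) * g * (e : X)⁻¹) * e := by rw [← this]
          _ = e * g := by group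
      exact Subgroup.mem_map.mpr ⟨g, Subgroup.mem_subgroupOf.mpr (hT e e.2 hne' h3), rfl⟩)
  intro g hg
  have h1 : (SemidirectProduct.inl (⟨g, hg⟩ : ↥G) :
      ↥G ⋊[MonoidHom.id (MulAut ↥G)] MulAut ↥G) ∈ (T.subgroupOf G).map SemidirectProduct.inl :=
    key ⟨⟨g, hg⟩, rfl⟩
  obtain ⟨t, ht, hteq⟩ := Subgroup.mem_map.mp h1
  have : t = ⟨g, hg⟩ := SemidirectProduct.inl_injective hteq
  rw [this, Subgroup.mem_subgroupOf] at ht
  exact ht

/-- Either `A / K` is cyclic, or it has an elementary abelian section of rank two above `K`. -/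
theorem cyclic_or_rank_two [Finite X] (A K : Subgroup X)
    (hAab : ∀ x ∈ A, ∀ y ∈ A, x * y = y * x) (hKA : K ≤ A) :
    (∃ a ∈ A, K ⊔ Subgroup.zpowers a = A) ∨
    (∃ p : ℕ, p.Prime ∧ ∃ E : Subgroup X, K ≤ E ∧ E ≤ A ∧ (∀ e ∈ E, e ^ p ∈ K) ∧
      p ^ 2 ≤ K.relIndex E ∧ p ∣ K.relIndex E) := by
  let instA : CommGroup ↥A :=
    { (inferInstance : Group ↥A) with
      mul_comm := fun x y => Subtype.ext (hAab x x.2 y y.2) }
  have hKn : (K.subgroupOf A).Normal := inferInstance
  by_cases hcyc : IsCyclic (↥A ⧸ K.subgroupOf A)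
  · left
    obtain ⟨q, hq⟩ := IsCyclic.exists_generator (α := ↥A ⧸ K.subgroupOf A)
    obtain ⟨a, rfl⟩ := QuotientGroup.mk_surjective q
    refine ⟨a, a.2, le_antisymm (sup_le hKA (Subgroup.zpowers_le.mpr a.2)) ?_⟩
    intro x hx
    obtain ⟨n, hn⟩ := Subgroup.mem_zpowers_iff.mp (hq (QuotientGroup.mk ⟨x, hx⟩))
    rw [← QuotientGroup.mk_zpow, QuotientGroup.eq] at hn
    rw [Subgroup.mem_subgroupOf] at hn
    have e : x = (a : X) ^ n * ((a : X) ^ n)⁻¹ * x := by group
    rw [e, mul_assoc]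
    apply Subgroup.mul_mem
    · exact (le_sup_right : Subgroup.zpowers (a : X) ≤ _)
        (Subgroup.zpow_mem _ (Subgroup.mem_zpowers _) n)
    · apply (le_sup_left : K ≤ K ⊔ Subgroup.zpowers (a : X))
      simpa using hn
  · right
    obtain ⟨p, hp, hlt⟩ := Cfsg.Agent.Helper20.exists_prime_lt_card_torsionSub hcyc
    have hpf : Fact p.Prime := ⟨hp⟩
    obtain ⟨E', hE'⟩ : ∃ E' : Subgroup ↥A, E' = (Cfsg.Agent.Helper20.torsionSub
      (↥A ⧸ K.subgroupOf A) p).comap (QuotientGroup.mk' (K.subgroupOf A)) := ⟨_, rfl⟩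
    have hmemE' : ∀ e : ↥A, e ∈ E' ↔ (e : X) ^ p ∈ K := by
      intro e
      rw [hE', Subgroup.mem_comap, Cfsg.Agent.Helper20.mem_torsionSub_iff,
        QuotientGroup.mk'_apply, ← QuotientGroup.mk_pow, QuotientGroup.eq_one_iff,
        Subgroup.mem_subgroupOf]
      simp
    refine ⟨p, hp, E'.map A.subtype, ?_, Subgroup.map_subtype_le E', ?_, ?_⟩
    · intro k hk
      refine Subgroup.mem_map.mpr ⟨⟨k, hKA hk⟩, ?_, rfl⟩
      rw [hmemE']
      exact K.pow_mem hk p
    · rintro _ ⟨e, he, rfl⟩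
      exact (hmemE' e).mp he
    · have hKE : K ≤ E'.map A.subtype := by
        intro k hk
        refine Subgroup.mem_map.mpr ⟨⟨k, hKA hk⟩, ?_, rfl⟩
        rw [hmemE']
        exact K.pow_mem hk p
      have h1 : Nat.card (E'.map A.subtype) = Nat.card K *
          Nat.card (Cfsg.Agent.Helper20.torsionSub (↥A ⧸ K.subgroupOf A) p) := by
        rw [Subgroup.card_map_of_injective A.subtype_injective, hE',
          Cfsg.Agent.Helper1.card_comap_mk']
        congr 1
        exact Nat.card_congr (Subgroup.subgroupOfEquivOfLe hKA).toEquiv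
      have h2 := Subgroup.relIndex_mul_relIndex (⊥ : Subgroup X) K (E'.map A.subtype) bot_le hKE
      rw [Subgroup.relIndex_bot_left, Subgroup.relIndex_bot_left] at h2
      have h3 : K.relIndex (E'.map A.subtype) =
          Nat.card (Cfsg.Agent.Helper20.torsionSub (↥A ⧸ K.subgroupOf A) p) := by
        have hpos : 0 < Nat.card K := Nat.card_pos
        rw [h1] at h2
        exact Nat.eq_of_mul_eq_mul_left hpos h2
      rw [h3]
      have hPG : IsPGroup p (Cfsg.Agent.Helper20.torsionSub (↥A ⧸ K.subgroupOf A) p) := by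
        intro x
        refine ⟨1, ?_⟩
        rw [pow_one]
        apply Subtype.ext
        have := (Cfsg.Agent.Helper20.mem_torsionSub_iff p (x : ↥A ⧸ K.subgroupOf A)).mp x.2
        simpa using this
      obtain ⟨m, hm⟩ := IsPGroup.iff_card.mp hPG
      rw [hm] at hlt ⊢
      have hm2 : 2 ≤ m := by
        by_contra hcon
        have hm1 : m ≤ 1 := by omega
        have := Nat.pow_le_pow_right hp.pos hm1
        rw [pow_one] at this
        omega
      exact ⟨Nat.pow_le_pow_right hp.pos hm2, dvd_pow_self p (by omega)⟩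

/-- The subgroups `B` of `A` with `A / B` cyclic. -/
def cocyclic (A : Subgroup X) : Set (Subgroup X) :=
  {B : Subgroup X | B ≤ A ∧ ∃ a ∈ A, B ⊔ Subgroup.zpowers a = A}

theorem gen_le [Finite X] (A : Subgroup X) (hAab : ∀ x ∈ A, ∀ y ∈ A, x * y = y * x) :
    ∀ n : ℕ, ∀ G : Subgroup X, Nat.card G = n → A ≤ Subgroup.normalizer (G : Set X) →
      (Nat.card A).Coprime (Nat.card G) →
      G ≤ ⨆ B ∈ cocyclic A, G ⊓ Subgroup.centralizer (B : Set X) := by
  intro n
  induction n using Nat.strong_induction_on with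
  | _ n ih =>
  intro G hn hAG hcop
  obtain ⟨K, hK⟩ : ∃ K : Subgroup X, K = A ⊓ Subgroup.centralizer (G : Set X) := ⟨_, rfl⟩
  have hKA : K ≤ A := by rw [hK]; exact inf_le_left
  have hKC : K ≤ Subgroup.centralizer (G : Set X) := by rw [hK]; exact inf_le_right
  rcases cyclic_or_rank_two A K hAab hKA with ⟨a, ha, hKa⟩ | ⟨p, hp, E, hKE, hEA, hexp, hidx, hpdvd⟩
  · have hKmem : K ∈ cocyclic A := ⟨hKA, a, ha, hKa⟩
    have h1 : G ≤ G ⊓ Subgroup.centralizer (K : Set X) :=
      le_inf le_rfl (Subgroup.le_centralizer_iff.mp hKC)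
    exact h1.trans (le_iSup₂ (f := fun B (_ : B ∈ cocyclic A) =>
      G ⊓ Subgroup.centralizer (B : Set X)) K hKmem)
  · have hpf : Fact p.Prime := ⟨hp⟩
    have hpA : p ∣ Nat.card A :=
      hpdvd.trans ((Subgroup.relIndex_dvd_card K E).trans (Subgroup.card_dvd_of_le hEA))
    have hGp : (Nat.card G).Coprime p :=
      (Nat.Coprime.coprime_dvd_left hpA hcop).symm
    have hEK : E ⊓ Subgroup.centralizer (G : Set X) = K := by
      apply le_antisymm
      · rw [hK]
        exact inf_le_inf_right _ hEA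
      · exact le_inf hKE hKC
    apply coprime_generation_mod_kernel G E
      (fun x hx y hy => hAab x (hEA hx) y (hEA hy)) (hEA.trans hAG) hGp
      (fun e he => hKC (hexp e he)) (by rw [hEK]; exact hidx)
    intro e he hec
    obtain ⟨Ge, hGe⟩ : ∃ Ge : Subgroup X, Ge = G ⊓ Subgroup.centralizer ({e} : Set X) :=
      ⟨_, rfl⟩
    rw [← hGe]
    have hGeG : Ge ≤ G := by rw [hGe]; exact inf_le_left
    have hlt : Nat.card Ge < n := by
      rw [← hn]
      apply lt_of_le_of_ne (Subgroup.card_le_of_le hGeG)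
      intro heq
      apply hec
      have hGeq : Ge = G := Subgroup.eq_of_le_of_card_ge hGeG (le_of_eq heq.symm)
      have h1 : G ≤ Subgroup.centralizer ({e} : Set X) := by
        rw [← hGeq, hGe]
        exact inf_le_right
      rw [Subgroup.mem_centralizer_iff]
      intro g hg
      exact Subgroup.mem_centralizer_singleton_iff.mp (h1 hg)
    have hAGe : A ≤ Subgroup.normalizer (Ge : Set X) := by
      rw [hGe]
      apply Cfsg.Agent.Helper19.le_normalizer_inf A _ _ hAG
      intro a ha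
      apply Subgroup.le_normalizer
      rw [Subgroup.mem_centralizer_singleton_iff]
      exact hAab a ha e (hEA he)
    have hcopGe : (Nat.card A).Coprime (Nat.card Ge) :=
      Nat.Coprime.coprime_dvd_right (Subgroup.card_dvd_of_le hGeG) hcop
    refine (ih _ hlt Ge rfl hAGe hcopGe).trans ?_
    apply iSup₂_mono
    intro B _
    exact inf_le_inf_right _ hGeG

theorem le_normalizer_biSup (C : Subgroup X) (S : Set (Subgroup X)) (f : Subgroup X → Subgroup X)
    (h : ∀ B ∈ S, C ≤ Subgroup.normalizer ((f B : Subgroup X) : Set X)) :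
    C ≤ Subgroup.normalizer (((⨆ B ∈ S, f B : Subgroup X)) : Set X) := by
  rw [← sSup_image]
  apply Cfsg.Agent.Helper19.le_normalizer_sSup
  rintro _ ⟨B, hB, rfl⟩
  exact h B hB

open scoped commutatorElement in
theorem comm_gen_le [Finite X] (A G : Subgroup X) (hAab : ∀ x ∈ A, ∀ y ∈ A, x * y = y * x)
    (hAG : A ≤ Subgroup.normalizer (G : Set X)) (hcop : (Nat.card A).Coprime (Nat.card G)) :
    ⁅G, A⁆ ≤ ⨆ B ∈ cocyclic A, ⁅G ⊓ Subgroup.centralizer (B : Set X), A⁆ := by
  obtain ⟨N', hN'⟩ : ∃ N' : Subgroup X,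
      N' = ⨆ B ∈ cocyclic A, ⁅G ⊓ Subgroup.centralizer (B : Set X), A⁆ := ⟨_, rfl⟩
  rw [← hN']
  obtain ⟨CG, hCG⟩ : ∃ CG : Subgroup X, CG = G ⊓ Subgroup.centralizer (A : Set X) := ⟨_, rfl⟩
  have hAsolv : Group.IsSolvable ↥A :=
    Group.isSolvable_of_comm (fun x y => Subtype.ext (hAab x x.2 y y.2))
  -- properties of the pieces
  have hAD : ∀ B ∈ cocyclic A,
      A ≤ Subgroup.normalizer ((G ⊓ Subgroup.centralizer (B : Set X) : Subgroup X) : Set X) := by
    intro B hB
    apply Cfsg.Agent.Helper19.le_normalizer_inf A _ _ hAG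
    intro a ha
    apply Subgroup.le_normalizer
    rw [Subgroup.mem_centralizer_iff]
    intro b hb
    exact hAab b (hB.1 hb) a ha
  have hcommle : ∀ B ∈ cocyclic A, ⁅G ⊓ Subgroup.centralizer (B : Set X), A⁆ ≤
      G ⊓ Subgroup.centralizer (B : Set X) := fun B hB =>
    Subgroup.le_normalizer_iff_commutator_le_left.mp (hAD B hB)
  have hpiece : ∀ B ∈ cocyclic A, G ⊓ Subgroup.centralizer (B : Set X) ≤ N' ⊔ CG := by
    intro B hB x hx
    have hcop' : (Nat.card A).Coprime
        (Nat.card ↥⁅G ⊓ Subgroup.centralizer (B : Set X), A⁆) :=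
      Nat.Coprime.coprime_dvd_right
        (Subgroup.card_dvd_of_le ((hcommle B hB).trans inf_le_left)) hcop
    obtain ⟨c, hc, hxc⟩ := Cfsg.Agent.Helper1.exists_centralizer_mem_coset
      ⁅G ⊓ Subgroup.centralizer (B : Set X), A⁆ A
      (Subgroup.normalizer_commutator_ge_right _ _) hcop' (Or.inl hAsolv) x (by
        intro a ha
        have h1 : ⁅x⁻¹, a⁆ ∈ ⁅G ⊓ Subgroup.centralizer (B : Set X), A⁆ :=
          Subgroup.commutator_mem_commutator (Subgroup.inv_mem _ hx) ha
        rw [commutatorElement_def, inv_inv] at h1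
        exact h1)
    have hcD : c ∈ G ⊓ Subgroup.centralizer (B : Set X) := by
      have e : c = x * (x⁻¹ * c) := by group
      rw [e]
      exact Subgroup.mul_mem _ hx (hcommle B hB hxc)
    have hcCG : c ∈ CG := by
      rw [hCG]
      exact Subgroup.mem_inf.mpr ⟨hcD.1, hc⟩
    have hyN : x⁻¹ * c ∈ N' := by
      rw [hN']
      exact (le_iSup₂ (f := fun B (_ : B ∈ cocyclic A) =>
        ⁅G ⊓ Subgroup.centralizer (B : Set X), A⁆) B hB) hxc
    have e : x = c * (x⁻¹ * c)⁻¹ := by group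
    rw [e]
    exact Subgroup.mul_mem _ ((le_sup_right : CG ≤ N' ⊔ CG) hcCG)
      (Subgroup.inv_mem _ ((le_sup_left : N' ≤ N' ⊔ CG) hyN))
  have hG : G ≤ N' ⊔ CG :=
    (gen_le A hAab _ G rfl hAG hcop).trans (iSup₂_le hpiece)
  have hCGN : CG ≤ Subgroup.normalizer (N' : Set X) := by
    rw [hN']
    apply le_normalizer_biSup
    intro B hB c hc
    rw [hCG] at hc
    have hcD : c ∈ G ⊓ Subgroup.centralizer (B : Set X) :=
      Subgroup.mem_inf.mpr ⟨hc.1, Subgroup.centralizer_le hB.1 hc.2⟩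
    exact Subgroup.normalizer_commutator_ge_left _ _ hcD
  have hAN : A ≤ Subgroup.normalizer (N' : Set X) := by
    rw [hN']
    apply le_normalizer_biSup
    intro B _
    exact Subgroup.normalizer_commutator_ge_right _ _
  rw [Subgroup.commutator_le]
  intro g hg a ha
  obtain ⟨n, hn, c, hc, rfl⟩ := Cfsg.Agent.Helper1.exists_mul_of_mem_sup hCGN (hG hg)
  rw [hCG] at hc
  have hca : c * a = a * c := by
    have := Subgroup.mem_centralizer_iff.mp hc.2 a ha
    exact this.symm
  have e : ⁅n * c, a⁆ = n * (a * n⁻¹ * a⁻¹) := by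
    rw [commutatorElement_def]
    calc n * c * a * (n * c)⁻¹ * a⁻¹ = n * (c * a) * c⁻¹ * n⁻¹ * a⁻¹ := by group
      _ = n * (a * c) * c⁻¹ * n⁻¹ * a⁻¹ := by rw [hca]
      _ = n * (a * n⁻¹ * a⁻¹) := by group
  rw [e]
  exact N'.mul_mem hn ((Subgroup.mem_normalizer_iff.mp (hAN ha) n⁻¹).mp (N'.inv_mem hn))

theorem result {X : Type*} [Group X] [Finite X] (A G : Subgroup X) (hAab : IsMulCommutative A) (hAG : A ≤ Subgroup.normalizer (G : Set X)) (hcop : (Nat.card A).Coprime (Nat.card G)) : (⨆ B ∈ {B : Subgroup X | B ≤ A ∧ ∃ a ∈ A, B ⊔ Subgroup.zpowers a = A}, G ⊓ Subgroup.centralizer (B : Set X)) = G ∧ (⨆ B ∈ {B : Subgroup X | B ≤ A ∧ ∃ a ∈ A, B ⊔ Subgroup.zpowers a = A}, ⁅G ⊓ Subgroup.centralizer (B : Set X), A⁆) = ⁅G, A⁆ := by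
  have hAab' : ∀ x ∈ A, ∀ y ∈ A, x * y = y * x := by
    intro x hx y hy
    have := isMulCommutative_iff.mp hAab ⟨x, hx⟩ ⟨y, hy⟩
    exact congrArg Subtype.val this
  constructor
  · apply le_antisymm
    · exact iSup₂_le (fun B _ => inf_le_left)
    · exact gen_le A hAab' _ G rfl hAG hcop
  · apply le_antisymm
    · exact iSup₂_le (fun B _ => Subgroup.commutator_mono inf_le_left le_rfl)
    · exact comm_gen_le A G hAab' hAG hcop

end Cfsg.Agent.S3734
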