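import Mathlib
import Cfsg.Statements.S3735
import Cfsg.Agent.Lib.Helper1.Coprime
import Cfsg.Agent.Lib.Helper19.Conj

set_option autoImplicit false
open Cfsg

namespace Cfsg.Agent.S3735

variable {G : Type*} [Group G]

/-- `M` is a minimal nontrivial `B`-invariant subgroup of `V`. -/
def IsMinInv (B V M : Subgroup G) : Prop :=
  M ≤ V ∧ M ≠ ⊥ ∧ B ≤ Subgroup.normalizer (M : Set G) ∧
    ∀ M' : Subgroup G, M' ≤ M → B ≤ Subgroup.normalizer (M' : Set G) → M' = ⊥ ∨ M' = M

theorem le_normalizer_sSup (B : Subgroup G) (S : Set (Subgroup G))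
    (h : ∀ K ∈ S, B ≤ Subgroup.normalizer (K : Set G)) :
    B ≤ Subgroup.normalizer ((sSup S : Subgroup G) : Set G) := by
  rw [Subgroup.le_normalizer_iff]
  intro b hb x hx
  have hle : sSup S ≤ (sSup S).comap (MulAut.conj b).toMonoidHom := by
    apply sSup_le
    intro K hK k hk
    rw [Subgroup.mem_comap]
    have := (Subgroup.le_normalizer_iff.mp (h K hK)) b hb k hk
    exact (le_sSup hK) this
  exact hle hx

theorem le_normalizer_sup (B K L : Subgroup G) (hK : B ≤ Subgroup.normalizer (K : Set G))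
    (hL : B ≤ Subgroup.normalizer (L : Set G)) :
    B ≤ Subgroup.normalizer ((K ⊔ L : Subgroup G) : Set G) := by
  have := le_normalizer_sSup B {K, L} (by
    intro X hX
    rcases hX with rfl | rfl
    · exact hK
    · exact hL)
  rwa [sSup_pair] at this

theorem le_normalizer_inf (B K L : Subgroup G) (hK : B ≤ Subgroup.normalizer (K : Set G))
    (hL : B ≤ Subgroup.normalizer (L : Set G)) :
    B ≤ Subgroup.normalizer ((K ⊓ L : Subgroup G) : Set G) := by
  rw [Subgroup.le_normalizer_iff]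
  intro b hb x hx
  exact Subgroup.mem_inf.mpr ⟨(Subgroup.le_normalizer_iff.mp hK) b hb x hx.1,
    (Subgroup.le_normalizer_iff.mp hL) b hb x hx.2⟩

variable [Finite G]

theorem exists_minInv_le (B W : Subgroup G) (hW : W ≠ ⊥)
    (hBW : B ≤ Subgroup.normalizer (W : Set G)) :
    ∃ M : Subgroup G, M ≤ W ∧ M ≠ ⊥ ∧ B ≤ Subgroup.normalizer (M : Set G) ∧
      ∀ M' : Subgroup G, M' ≤ M → B ≤ Subgroup.normalizer (M' : Set G) → M' = ⊥ ∨ M' = M := by
  let S : Set (Subgroup G) := {X | X ≤ W ∧ X ≠ ⊥ ∧ B ≤ Subgroup.normalizer (X : Set G)}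
  have hWS : W ∈ S := ⟨le_rfl, hW, hBW⟩
  obtain ⟨M, hMS, hMmin⟩ := Set.exists_min_image S (fun X : Subgroup G => Nat.card X)
    (Set.toFinite S) ⟨W, hWS⟩
  refine ⟨M, hMS.1, hMS.2.1, hMS.2.2, ?_⟩
  intro M' hM'M hBM'
  by_cases h : M' = ⊥
  · exact Or.inl h
  · right
    have hM'S : M' ∈ S := ⟨le_trans hM'M hMS.1, h, hBM'⟩
    exact Subgroup.eq_of_le_of_card_ge hM'M (hMmin M' hM'S)

/-- Step 1: complemented implies generated by minimal invariant subgroups. -/
theorem le_sSup_minInv_of_compl (H V : Subgroup G)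
    (_hHV : H ≤ Subgroup.normalizer (V : Set G))
    (hss : ∀ U : Subgroup G, U ≤ V → H ≤ Subgroup.normalizer (U : Set G) →
      ∃ W : Subgroup G, W ≤ V ∧ H ≤ Subgroup.normalizer (W : Set G) ∧ U ⊓ W = ⊥ ∧ U ⊔ W = V) :
    V ≤ sSup {M | IsMinInv H V M} := by
  have hSV : sSup {M | IsMinInv H V M} ≤ V := sSup_le fun M hM => hM.1
  have hSinv : H ≤ Subgroup.normalizer ((sSup {M | IsMinInv H V M} : Subgroup G) : Set G) :=
    le_normalizer_sSup H _ fun M hM => hM.2.2.1
  obtain ⟨W, hWV, hHW, hinf, hsup⟩ := hss _ hSV hSinv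
  by_cases hW : W = ⊥
  · rw [hW, sup_bot_eq] at hsup
    exact hsup.ge
  · exfalso
    obtain ⟨M, hMW, hM1, hHM, hMmin⟩ := exists_minInv_le H W hW hHW
    have hMin : IsMinInv H V M := ⟨le_trans hMW hWV, hM1, hHM, hMmin⟩
    have h1 : M ≤ sSup {M | IsMinInv H V M} := le_sSup hMin
    have h2 : M ≤ sSup {M | IsMinInv H V M} ⊓ W := le_inf h1 hMW
    rw [hinf, le_bot_iff] at h2
    exact hM1 h2

open Cfsg.Agent.Helper19 in
/-- Step 2: a minimal `H`-invariant subgroup is generated by minimal `A`-invariant subgroups. -/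
theorem minInv_le_sSup (H A V : Subgroup G) (hAH : A ≤ H)
    (hAn : H ≤ Subgroup.normalizer (A : Set G)) (M : Subgroup G) (hM : IsMinInv H V M) :
    M ≤ sSup {M | IsMinInv A V M} := by
  obtain ⟨hMV, hM1, hHM, hMmin⟩ := hM
  have hAM : A ≤ Subgroup.normalizer (M : Set G) := le_trans hAH hHM
  obtain ⟨M₀, hM₀M, hM₀1, hAM₀, hM₀min⟩ := exists_minInv_le A M hM1 hAM
  -- conjugates of M₀ under H
  have hconjA : ∀ h ∈ H, ∀ a ∈ A, h⁻¹ * a * h ∈ A := by
    intro h hh a ha
    have := (Subgroup.le_normalizer_iff.mp hAn) h⁻¹ (H.inv_mem hh) a ha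
    simpa using this
  have hinvconj : ∀ (X : Subgroup G), A ≤ Subgroup.normalizer (X : Set G) → ∀ h ∈ H,
      A ≤ Subgroup.normalizer ((X.map (MulAut.conj h).toMonoidHom : Subgroup G) : Set G) := by
    intro X hX h hh
    rw [Subgroup.le_normalizer_iff]
    intro a ha y hy
    rw [mem_map_conj] at hy ⊢
    have h1 := (Subgroup.le_normalizer_iff.mp hX) (h⁻¹ * a * h) (hconjA h hh a ha) _ hy
    have e : h⁻¹ * (a * y * a⁻¹) * h = h⁻¹ * a * h * (h⁻¹ * y * h) * (h⁻¹ * a * h)⁻¹ := by group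
    rw [e]
    exact h1
  have hconjmin : ∀ h ∈ H, IsMinInv A V (M₀.map (MulAut.conj h).toMonoidHom) := by
    intro h hh
    have hle : M₀.map (MulAut.conj h).toMonoidHom ≤ M := by
      intro y hy
      rw [mem_map_conj] at hy
      have h1 := (Subgroup.le_normalizer_iff.mp hHM) h hh _ (hM₀M hy)
      have e : h * (h⁻¹ * y * h) * h⁻¹ = y := by group
      rwa [e] at h1
    refine ⟨le_trans hle hMV, ?_, hinvconj M₀ hAM₀ h hh, ?_⟩
    · intro hbot
      apply hM₀1
      rw [Subgroup.map_eq_bot_iff_of_injective _ (MulAut.conj h).injective] at hbot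
      exact hbot
    · intro M' hM' hAM'
      -- conjugate back
      have h1 : M'.map (MulAut.conj h⁻¹).toMonoidHom ≤ M₀ := by
        have := Subgroup.map_mono (f := (MulAut.conj h⁻¹).toMonoidHom) hM'
        rwa [map_conj_inv_map_conj] at this
      have h2 := hinvconj M' hAM' h⁻¹ (H.inv_mem hh)
      rcases hM₀min _ h1 h2 with h3 | h3
      · left
        rw [Subgroup.map_eq_bot_iff_of_injective _ (MulAut.conj h⁻¹).injective] at h3
        exact h3
      · right
        have := congrArg (Subgroup.map (MulAut.conj h).toMonoidHom) h3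
        rwa [map_conj_map_conj_inv] at this
  -- the join of the conjugates is H-invariant and nontrivial
  have hTM : (⨆ h : ↥H, M₀.map (MulAut.conj (h : G)).toMonoidHom) ≤ M := by
    apply iSup_le
    intro h y hy
    rw [mem_map_conj] at hy
    have h1 := (Subgroup.le_normalizer_iff.mp hHM) h h.2 _ (hM₀M hy)
    have e : (h : G) * ((h : G)⁻¹ * y * h) * (h : G)⁻¹ = y := by group
    rwa [e] at h1
  have hM₀T : M₀ ≤ ⨆ h : ↥H, M₀.map (MulAut.conj (h : G)).toMonoidHom := by
    have h1 := le_iSup (fun h : ↥H => M₀.map (MulAut.conj (h : G)).toMonoidHom) 1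
    have h2 : M₀.map (MulAut.conj ((1 : ↥H) : G)).toMonoidHom = M₀ := map_conj_one M₀
    exact le_trans (le_of_eq h2.symm) h1
  have hTinv : H ≤ Subgroup.normalizer
      ((⨆ h : ↥H, M₀.map (MulAut.conj (h : G)).toMonoidHom : Subgroup G) : Set G) := by
    rw [Subgroup.le_normalizer_iff]
    intro k hk x hx
    have h1 := conj_mem_map_conj _ k x hx
    rw [Subgroup.map_iSup] at h1
    have hle : (⨆ i : ↥H, (M₀.map (MulAut.conj (i : G)).toMonoidHom).map
        (MulAut.conj k).toMonoidHom) ≤ ⨆ h : ↥H, M₀.map (MulAut.conj (h : G)).toMonoidHom := by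
      apply iSup_le
      intro h
      rw [← map_conj_mul]
      exact le_iSup (fun h : ↥H => M₀.map (MulAut.conj (h : G)).toMonoidHom)
        ⟨k * h, H.mul_mem hk h.2⟩
    exact hle h1
  rcases hMmin _ hTM hTinv with h | h
  · exfalso
    apply hM₀1
    rw [eq_bot_iff, ← h]
    exact hM₀T
  · rw [← h]
    apply iSup_le
    intro h'
    exact le_sSup (hconjmin h' h'.2)

open Cfsg.Agent.Helper1 in
/-- Step 3: generated by minimal invariant subgroups implies complemented. -/
theorem exists_compl_of_le_sSup (B V : Subgroup G) (hV : ∀ a ∈ V, ∀ b ∈ V, a * b = b * a)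
    (hS : V ≤ sSup {M | IsMinInv B V M}) (U : Subgroup G) (hUV : U ≤ V)
    (hBU : B ≤ Subgroup.normalizer (U : Set G)) :
    ∃ W : Subgroup G, W ≤ V ∧ B ≤ Subgroup.normalizer (W : Set G) ∧ U ⊓ W = ⊥ ∧ U ⊔ W = V := by
  let S : Set (Subgroup G) := {X | X ≤ V ∧ B ≤ Subgroup.normalizer (X : Set G) ∧ U ⊓ X = ⊥}
  have hbot : (⊥ : Subgroup G) ∈ S := by
    refine ⟨bot_le, ?_, inf_bot_eq _⟩
    rw [Subgroup.le_normalizer_iff]
    intro b _ x hx
    rw [Subgroup.mem_bot] at hx ⊢
    rw [hx]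
    simp
  obtain ⟨W, hWS, hWmax⟩ := Set.exists_max_image S (fun X : Subgroup G => Nat.card X)
    (Set.toFinite S) ⟨⊥, hbot⟩
  obtain ⟨hWV, hBW, hUW⟩ := hWS
  refine ⟨W, hWV, hBW, hUW, ?_⟩
  apply le_antisymm (sup_le hUV hWV)
  by_contra hcon
  -- some minimal invariant subgroup is not inside U ⊔ W
  obtain ⟨M, hM, hMnot⟩ : ∃ M, IsMinInv B V M ∧ ¬ M ≤ U ⊔ W := by
    by_contra h
    push Not at h
    exact hcon (le_trans hS (sSup_le h))
  obtain ⟨hMV, hM1, hBM, hMmin⟩ := hM
  have hUWinv : B ≤ Subgroup.normalizer ((U ⊔ W : Subgroup G) : Set G) :=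
    le_normalizer_sup B U W hBU hBW
  have hMint : M ⊓ (U ⊔ W) = ⊥ := by
    rcases hMmin (M ⊓ (U ⊔ W)) inf_le_left (le_normalizer_inf B M _ hBM hUWinv) with h | h
    · exact h
    · exact absurd (inf_eq_left.mp h) hMnot
  -- W ⊔ M is a bigger member of S
  have hWMnorm : W ≤ Subgroup.normalizer (M : Set G) := by
    rw [Subgroup.le_normalizer_iff]
    intro w hw m hm
    have : w * m * w⁻¹ = m := by
      rw [hV w (hWV hw) m (hMV hm)]
      group
    rw [this]
    exact hm
  have hW'S : M ⊔ W ∈ S := by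
    refine ⟨sup_le hMV hWV, le_normalizer_sup B M W hBM hBW, ?_⟩
    rw [eq_bot_iff]
    intro x hx
    have hxU : x ∈ U := hx.1
    have hxMW : x ∈ M ⊔ W := hx.2
    obtain ⟨m, hm, w, hw, rfl⟩ := exists_mul_of_mem_sup hWMnorm hxMW
    have hm' : m ∈ M ⊓ (U ⊔ W) := by
      refine Subgroup.mem_inf.mpr ⟨hm, ?_⟩
      have : m = (m * w) * w⁻¹ := by group
      rw [this]
      exact Subgroup.mul_mem _ (Subgroup.mem_sup_left hxU)
        (Subgroup.mem_sup_right (W.inv_mem hw))
    rw [hMint, Subgroup.mem_bot] at hm'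
    rw [hm', one_mul] at hxU ⊢
    have : w ∈ U ⊓ W := Subgroup.mem_inf.mpr ⟨hxU, hw⟩
    rw [hUW] at this
    exact this
  have hle := hWmax _ hW'S
  have hWlt : W < M ⊔ W := by
    apply lt_of_le_of_ne le_sup_right
    intro h
    have hMW : M ≤ W := by
      rw [h]
      exact le_sup_left
    exact hMnot (le_trans hMW le_sup_right)
  have hlt : Nat.card W < Nat.card ↥(M ⊔ W) := by
    apply lt_of_le_of_ne (Subgroup.card_le_of_le hWlt.le)
    intro h
    exact hWlt.ne (Subgroup.eq_of_le_of_card_ge hWlt.le h.ge)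
  omega

/-- Clifford's Theorem for actions on finite abelian groups, first part. Let H and V be subgroups of a finite group with V abelian and H normalizing V, and let A be a normal subgroup of H. If every H-invariant subgroup of V has an H-invariant complement in V, then every A-invariant subgroup of V has an A-invariant complement in V. -/
theorem result {G : Type*} [Group G] [Finite G] (H A V : Subgroup G) (hVab : IsMulCommutative V) (hHV : H ≤ Subgroup.normalizer (V : Set G)) (hAH : A ≤ H) (hAn : H ≤ Subgroup.normalizer (A : Set G)) (hss : ∀ U : Subgroup G, U ≤ V → H ≤ Subgroup.normalizer (U : Set G) → ∃ W : Subgroup G, W ≤ V ∧ H ≤ Subgroup.normalizer (W : Set G) ∧ U ⊓ W = ⊥ ∧ U ⊔ W = V) (U : Subgroup G) (hUV : U ≤ V) (hAU : A ≤ Subgroup.normalizer (U : Set G)) : ∃ W : Subgroup G, W ≤ V ∧ A ≤ Subgroup.normalizer (W : Set G) ∧ U ⊓ W = ⊥ ∧ U ⊔ W = V := by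
  have hV : ∀ a ∈ V, ∀ b ∈ V, a * b = b * a := isMulCommutative_iff_of_setLike.mp hVab
  have h1 : V ≤ sSup {M | IsMinInv H V M} := le_sSup_minInv_of_compl H V hHV hss
  have h2 : V ≤ sSup {M | IsMinInv A V M} := by
    refine le_trans h1 (sSup_le ?_)
    intro M hM
    exact minInv_le_sSup H A V hAH hAn M hM
  exact exists_compl_of_le_sSup A V hV h2 U hUV hAU

end Cfsg.Agent.S3735
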