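import Mathlib
import Cfsg.Statements.S3736
import Cfsg.Agent.Lib.Helper1.Coprime
import Cfsg.Agent.Lib.Helper1.CoprimeAbelian
import Cfsg.Agent.Lib.Helper1.CommutatorBasic
import Cfsg.Agent.Lib.Helper20.ClassTwoPow
import Cfsg.Agent.Lib.Helper21.PGroupFrattini
import Cfsg.Agent.Lib.Helper10.OmegaLemma
import Cfsg.Agent.Lib.Helper19.NormalizerLattice
import Cfsg.Agent.Lib.Helper19.SylowNormal

set_option autoImplicit false
open Cfsg

namespace Cfsg.Agent.S3736

open scoped commutatorElement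

variable {X : Type*} [Group X]

/-- For a coprime action on a `p`-group, `[D, A] = [D, A, A]`. -/
theorem commutator_le_commutator_commutator [Finite X] {p : ℕ} [Fact p.Prime]
    (D A : Subgroup X) (hD : IsPGroup p D) (hAD : A ≤ Subgroup.normalizer (D : Set X))
    (hcop : (Nat.card A).Coprime p) : ⁅D, A⁆ ≤ ⁅⁅D, A⁆, A⁆ := by
  have hle : ⁅D, A⁆ ≤ D := Cfsg.Agent.Helper1.commutator_le_of_le_normalizer hAD
  have hQp : IsPGroup p ↥⁅D, A⁆ := hD.to_le hle
  have hsolv : Group.IsSolvable ↥⁅D, A⁆ := by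
    have : Group.IsNilpotent ↥⁅D, A⁆ := hQp.isNilpotent
    infer_instance
  have hcop' : (Nat.card A).Coprime (Nat.card ↥⁅D, A⁆) := by
    obtain ⟨n, hn⟩ := IsPGroup.iff_card.mp hQp
    rw [hn]
    exact Nat.Coprime.pow_right n hcop
  rw [Subgroup.commutator_le]
  intro x hx a ha
  obtain ⟨c, hc, hxc⟩ := Cfsg.Agent.Helper1.exists_centralizer_mem_coset ⁅D, A⁆ A
    (Subgroup.normalizer_commutator_ge_right _ _) hcop' (Or.inr hsolv) x⁻¹ (by
      intro b hb
      have h1 : ⁅x, b⁆ ∈ ⁅D, A⁆ := Subgroup.commutator_mem_commutator hx hb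
      rw [commutatorElement_def] at h1
      rw [inv_inv]
      exact h1)
  rw [inv_inv] at hxc
  have hca : c * a = a * c := (Subgroup.mem_centralizer_iff.mp hc a ha).symm
  have hca' : c⁻¹ * a = a * c⁻¹ := by
    calc c⁻¹ * a = c⁻¹ * (a * c) * c⁻¹ := by group
      _ = c⁻¹ * (c * a) * c⁻¹ := by rw [hca]
      _ = a * c⁻¹ := by group
  have e : ⁅x, a⁆ = ⁅x * c, a⁆ := by
    rw [commutatorElement_def, commutatorElement_def]
    calc x * a * x⁻¹ * a⁻¹ = x * (c * (c⁻¹ * a)) * x⁻¹ * a⁻¹ := by group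
      _ = x * (c * (a * c⁻¹)) * x⁻¹ * a⁻¹ := by rw [hca']
      _ = x * c * a * (x * c)⁻¹ * a⁻¹ := by group
  rw [e]
  exact Subgroup.commutator_mem_commutator hxc ha

/-- If `P = [P, A]` for a coprime action and `P / K` is abelian, then `A` has no fixed points on
`P / K`. -/
theorem mem_of_commutator_mem [Finite X] {p : ℕ} [Fact p.Prime] (P A K : Subgroup X)
    (hP : IsPGroup p P) (hAP : A ≤ Subgroup.normalizer (P : Set X))
    (hcop : (Nat.card A).Coprime p) (hPA : ⁅P, A⁆ = P) (hKP : K ≤ P) (hPK : ⁅P, P⁆ ≤ K)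
    (hAK : A ≤ Subgroup.normalizer (K : Set X)) (u : X) (hu : u ∈ P)
    (huA : ∀ a ∈ A, ⁅u, a⁆ ∈ K) : u ∈ K := by
  have hPL : P ≤ Subgroup.normalizer (K : Set X) := by
    rw [Subgroup.le_normalizer_iff]
    intro x hx k hk
    have h1 : ⁅x, k⁆ ∈ K := hPK (Subgroup.commutator_mem_commutator hx (hKP hk))
    have e : x * k * x⁻¹ = ⁅x, k⁆ * k := by
      rw [commutatorElement_def]
      group
    rw [e]
    exact K.mul_mem h1 hk
  have hKn : (K.subgroupOf (Subgroup.normalizer (K : Set X))).Normal :=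
    Subgroup.normal_in_normalizer
  obtain ⟨π, hπ⟩ : ∃ π : ↥(Subgroup.normalizer (K : Set X)) →*
      ↥(Subgroup.normalizer (K : Set X)) ⧸ K.subgroupOf (Subgroup.normalizer (K : Set X)),
      π = QuotientGroup.mk' _ := ⟨_, rfl⟩
  have hπ1 : ∀ x : ↥(Subgroup.normalizer (K : Set X)), π x = 1 ↔ (x : X) ∈ K := by
    intro x
    rw [hπ, QuotientGroup.mk'_apply, QuotientGroup.eq_one_iff, Subgroup.mem_subgroupOf]
  have hπcomm : ∀ x y : ↥(Subgroup.normalizer (K : Set X)), ⁅(x : X), (y : X)⁆ ∈ K →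
      π x * π y = π y * π x := by
    intro x y h
    have h1 : π ⁅x, y⁆ = 1 := by
      rw [hπ1]
      simpa [commutatorElement_def] using h
    rw [map_commutatorElement, commutatorElement_eq_one_iff_commute] at h1
    exact h1.eq
  obtain ⟨V, hV⟩ : ∃ V, V = (P.subgroupOf (Subgroup.normalizer (K : Set X))).map π := ⟨_, rfl⟩
  obtain ⟨A', hA'⟩ : ∃ A', A' = (A.subgroupOf (Subgroup.normalizer (K : Set X))).map π :=
    ⟨_, rfl⟩
  have hVab : IsMulCommutative ↥V := by
    rw [isMulCommutative_iff]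
    rintro ⟨x, hx⟩ ⟨y, hy⟩
    rw [hV] at hx hy
    obtain ⟨x', hx', rfl⟩ := hx
    obtain ⟨y', hy', rfl⟩ := hy
    apply Subtype.ext
    apply hπcomm
    exact hPK (Subgroup.commutator_mem_commutator (Subgroup.mem_subgroupOf.mp hx')
      (Subgroup.mem_subgroupOf.mp hy'))
  have hA'V : A' ≤ Subgroup.normalizer (V : Set _) := by
    rw [Subgroup.le_normalizer_iff, hA', hV]
    rintro _ ⟨a, ha, rfl⟩ _ ⟨x, hx, rfl⟩
    refine ⟨a * x * a⁻¹, ?_, by simp⟩
    have ha' : (a : X) ∈ A := Subgroup.mem_subgroupOf.mp ha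
    have hx' : (x : X) ∈ P := Subgroup.mem_subgroupOf.mp hx
    show a * x * a⁻¹ ∈ P.subgroupOf (Subgroup.normalizer (K : Set X))
    rw [Subgroup.mem_subgroupOf]
    exact (Subgroup.le_normalizer_iff.mp hAP) _ ha' _ hx'
  have hcop' : (Nat.card A').Coprime (Nat.card V) := by
    have h1 : Nat.card A' ∣ Nat.card A := by
      rw [hA']
      refine (Subgroup.card_map_dvd _ _).trans ?_
      rw [Nat.card_congr (Subgroup.subgroupOfEquivOfLe hAK).toEquiv]
    have h2 : Nat.card V ∣ Nat.card P := by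
      rw [hV]
      refine (Subgroup.card_map_dvd _ _).trans ?_
      rw [Nat.card_congr (Subgroup.subgroupOfEquivOfLe hPL).toEquiv]
    obtain ⟨n, hn⟩ := IsPGroup.iff_card.mp hP
    rw [hn] at h2
    exact Nat.Coprime.coprime_dvd_left h1
      (Nat.Coprime.coprime_dvd_right h2 (Nat.Coprime.pow_right n hcop))
  have hkey := Cfsg.Agent.Helper1.commutator_inf_centralizer_eq_bot A' V hA'V hcop'
  -- the image of `u`
  have huL : u ∈ Subgroup.normalizer (K : Set X) := hPL hu
  have hmemVA : ∀ x : ↥(Subgroup.normalizer (K : Set X)), (x : X) ∈ ⁅P, A⁆ → π x ∈ ⁅V, A'⁆ := by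
    intro x hx
    have h1 : ⁅P, A⁆ = (⁅P.subgroupOf (Subgroup.normalizer (K : Set X)),
        A.subgroupOf (Subgroup.normalizer (K : Set X))⁆).map
        (Subgroup.normalizer (K : Set X)).subtype := by
      rw [Subgroup.map_commutator, Subgroup.map_subgroupOf_eq_of_le hPL,
        Subgroup.map_subgroupOf_eq_of_le hAK]
    rw [h1] at hx
    obtain ⟨y, hy, hyx⟩ := hx
    have : y = x := Subtype.ext hyx
    rw [this] at hy
    rw [hV, hA', ← Subgroup.map_commutator]
    exact Subgroup.mem_map_of_mem π hy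
  have h1 : π ⟨u, huL⟩ ∈ ⁅V, A'⁆ := by
    apply hmemVA
    rw [hPA]
    exact hu
  have h2 : π ⟨u, huL⟩ ∈ Subgroup.centralizer (A' : Set _) := by
    rw [Subgroup.mem_centralizer_iff]
    intro b hb
    rw [SetLike.mem_coe, hA'] at hb
    obtain ⟨a, ha, rfl⟩ := hb
    have h3 := huA (a : X) (Subgroup.mem_subgroupOf.mp ha)
    exact (hπcomm ⟨u, huL⟩ a h3).symm
  have h3 : π ⟨u, huL⟩ ∈ ⁅V, A'⁆ ⊓ Subgroup.centralizer (A' : Set _) := ⟨h1, h2⟩
  rw [hkey, Subgroup.mem_bot, hπ1] at h3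
  exact h3

/-- Characteristic subgroups of `P` are normalized by `N(P)`. -/
theorem normalizer_le_normalizer_map_characteristic (P : Subgroup X) (H : Subgroup ↥P)
    [hH : H.Characteristic] :
    Subgroup.normalizer (P : Set X) ≤
      Subgroup.normalizer ((H.map P.subtype : Subgroup X) : Set X) := by
  rw [Subgroup.le_normalizer_iff]
  rintro n hn _ ⟨y, hy, rfl⟩
  obtain ⟨φ, hφ⟩ : ∃ φ : MulAut ↥P, φ = P.normalizerMonoidHom ⟨n, hn⟩ := ⟨_, rfl⟩
  have h1 : H.map φ.toMonoidHom = H := Subgroup.characteristic_iff_map_eq.mp hH φ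
  have h2 : φ y ∈ H := by
    rw [← h1]
    exact Subgroup.mem_map_of_mem _ hy
  refine ⟨φ y, h2, ?_⟩
  rw [hφ]
  rfl

/-- The three subgroups argument: a proper `B`-invariant normal subgroup of `P` is central. -/
theorem commutator_eq_bot_of_invariant (P A U : Subgroup X) (hPA : ⁅P, A⁆ = P)
    (hPU : P ≤ Subgroup.normalizer (U : Set X)) (hUA : ⁅U, A⁆ = ⊥) : ⁅P, U⁆ = ⊥ := by
  have h1 : ⁅⁅A, U⁆, P⁆ = ⊥ := by
    rw [Subgroup.commutator_comm A U, hUA, Subgroup.commutator_bot_left]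
  have h2 : ⁅⁅U, P⁆, A⁆ = ⊥ := by
    rw [eq_bot_iff, ← hUA]
    exact Subgroup.commutator_mono (Cfsg.Agent.Helper1.commutator_le_of_le_normalizer hPU) le_rfl
  have h3 := Subgroup.commutator_commutator_eq_bot_of_rotate h1 h2
  rwa [hPA] at h3

theorem result {X : Type*} [Group X] [Finite X] {p : ℕ} [Fact p.Prime] (B A P : Subgroup X) (hP : IsPGroup p P) (hBP : B ≤ Subgroup.normalizer (P : Set X)) (hAB : A ≤ B) (hAn : B ≤ Subgroup.normalizer (A : Set X)) (hAp : (Nat.card A).Coprime p) (hnt : ⁅P, A⁆ ≠ ⊥) (hmin : ∀ U : Subgroup X, U < P → B ≤ Subgroup.normalizer (U : Set X) → ⁅U, A⁆ = ⊥) : ⁅P, A⁆ = P ∧ (Cfsg.IsElementaryAbelian p P ∨ Cfsg.IsSpecial p ↥P) ∧ (∀ U : Subgroup X, (frattini ↥P).map P.subtype ≤ U → U ≤ P → B ≤ Subgroup.normalizer (U : Set X) → U = (frattini ↥P).map P.subtype ∨ U = P) ∧ (p ≠ 2 → ∀ x ∈ P, x ^ p = 1) := by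
  have hpp : p.Prime := Fact.out
  have hAP : A ≤ Subgroup.normalizer (P : Set X) := hAB.trans hBP
  have hcopP : (Nat.card A).Coprime (Nat.card P) := by
    obtain ⟨n, hn⟩ := IsPGroup.iff_card.mp hP
    rw [hn]
    exact Nat.Coprime.pow_right n hAp
  -- Step 1
  have hPA : ⁅P, A⁆ = P := by
    have hle : ⁅P, A⁆ ≤ P := Cfsg.Agent.Helper1.commutator_le_of_le_normalizer hAP
    by_contra hne
    have hlt : ⁅P, A⁆ < P := lt_of_le_of_ne hle hne
    have hBQ : B ≤ Subgroup.normalizer ((⁅P, A⁆ : Subgroup X) : Set X) :=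
      (le_inf hBP hAn).trans
        (Cfsg.Agent.Helper1.normalizer_inf_normalizer_le_normalizer_commutator P A)
    have h1 := hmin _ hlt hBQ
    have h2 := commutator_le_commutator_commutator P A hP hAP hAp
    rw [h1] at h2
    exact hnt (eq_bot_iff.mpr h2)
  have hPne : P ≠ ⊥ := by
    intro h
    apply hnt
    rw [h, Subgroup.commutator_bot_left]
  -- the Frattini subgroup
  obtain ⟨Φ, hΦ⟩ : ∃ Φ : Subgroup X, Φ = (frattini ↥P).map P.subtype := ⟨_, rfl⟩
  have hΦP : Φ ≤ P := by rw [hΦ]; exact Subgroup.map_subtype_le _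
  have hNΦ : Subgroup.normalizer (P : Set X) ≤ Subgroup.normalizer (Φ : Set X) := by
    rw [hΦ]
    exact Cfsg.Agent.Helper10.normalizer_le_normalizer_map_frattini P
  have hPPΦ : ⁅P, P⁆ ≤ Φ := by
    rw [Subgroup.commutator_le]
    intro x hx y hy
    rw [hΦ, commutatorElement_def]
    exact ⟨_, Cfsg.Agent.Helper21.commutator_mem_frattini_of_isPGroup hP ⟨x, hx⟩ ⟨y, hy⟩, rfl⟩
  have hΦlt : Φ < P := by
    apply lt_of_le_of_ne hΦP
    intro heq
    have hnt' : (⊥ : Subgroup ↥P) ≠ ⊤ := by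
      intro hbt
      apply hPne
      rw [eq_bot_iff]
      intro x hx
      have : (⟨x, hx⟩ : ↥P) ∈ (⊥ : Subgroup ↥P) := by rw [hbt]; exact Subgroup.mem_top _
      rw [Subgroup.mem_bot] at this
      exact congrArg Subtype.val this
    obtain ⟨M, hM, -⟩ := Cfsg.Agent.Helper19.exists_coatom_ge (⊥ : Subgroup ↥P) hnt'
    have h1 : frattini ↥P ≤ M := frattini_le_coatom hM
    apply hM.1
    rw [eq_top_iff]
    intro x _
    have hx : (x : X) ∈ Φ := by rw [heq]; exact x.2
    rw [hΦ] at hx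
    obtain ⟨y, hy, hyx⟩ := hx
    have : y = x := Subtype.ext hyx
    rw [← this]
    exact h1 hy
  -- Step 3
  have hirr : ∀ U : Subgroup X, Φ ≤ U → U ≤ P → B ≤ Subgroup.normalizer (U : Set X) →
      U = Φ ∨ U = P := by
    intro U hΦU hUP hBU
    by_cases hUeq : U = P
    · exact Or.inr hUeq
    left
    have hUA := hmin U (lt_of_le_of_ne hUP hUeq) hBU
    apply le_antisymm _ hΦU
    intro u hu
    apply mem_of_commutator_mem P A Φ hP hAP hAp hPA hΦP hPPΦ (hAP.trans hNΦ) u (hUP hu)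
    intro a ha
    have : ⁅u, a⁆ ∈ ⁅U, A⁆ := Subgroup.commutator_mem_commutator hu ha
    rw [hUA, Subgroup.mem_bot] at this
    rw [this]
    exact Φ.one_mem
  -- Steps 2 and 4
  have main : Cfsg.IsElementaryAbelian p P ∨
      (Cfsg.IsSpecial p ↥P ∧ (p ≠ 2 → ∀ x ∈ P, x ^ p = 1)) := by
    by_cases hab : ∀ x ∈ P, ∀ y ∈ P, x * y = y * x
    · left
      have hcomm : IsMulCommutative ↥P :=
        isMulCommutative_iff.mpr (fun x y => Subtype.ext (hab x x.2 y y.2))
      have hfix : P ⊓ Subgroup.centralizer (A : Set X) = ⊥ := by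
        have := Cfsg.Agent.Helper1.commutator_inf_centralizer_eq_bot A P hAP hcopP
        rwa [hPA] at this
      obtain ⟨Ω, hΩ⟩ : ∃ Ω : Subgroup X, ∀ x, x ∈ Ω ↔ x ∈ P ∧ x ^ p = 1 := by
        refine ⟨{ carrier := {x | x ∈ P ∧ x ^ p = 1}
                  one_mem' := ⟨P.one_mem, one_pow p⟩
                  mul_mem' := ?_
                  inv_mem' := ?_ }, fun x => Iff.rfl⟩
        · rintro x y ⟨hx, hxp⟩ ⟨hy, hyp⟩
          refine ⟨P.mul_mem hx hy, ?_⟩
          have hc : Commute x y := hab x hx y hy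
          rw [hc.mul_pow, hxp, hyp, one_mul]
        · rintro x ⟨hx, hxp⟩
          exact ⟨P.inv_mem hx, by rw [inv_pow, hxp, inv_one]⟩
      have hΩP : Ω ≤ P := fun x hx => ((hΩ x).mp hx).1
      have hBΩ : B ≤ Subgroup.normalizer (Ω : Set X) := by
        rw [Subgroup.le_normalizer_iff]
        intro b hb x hx
        rw [hΩ] at hx ⊢
        exact ⟨(Subgroup.le_normalizer_iff.mp hBP) b hb x hx.1, by
          rw [conj_pow, hx.2, mul_one, mul_inv_cancel]⟩
      by_cases hΩeq : Ω = P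
      · exact ⟨hcomm, fun a ha => ((hΩ a).mp (hΩeq ▸ ha)).2⟩
      · exfalso
        have hΩA := hmin Ω (lt_of_le_of_ne hΩP hΩeq) hBΩ
        have hΩbot : Ω ≤ ⊥ := by
          rw [← hfix]
          intro x hx
          refine Subgroup.mem_inf.mpr ⟨hΩP hx, ?_⟩
          rw [Subgroup.mem_centralizer_iff]
          intro a ha
          have : ⁅x, a⁆ ∈ ⁅Ω, A⁆ := Subgroup.commutator_mem_commutator hx ha
          rw [hΩA, Subgroup.mem_bot, commutatorElement_eq_one_iff_commute] at this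
          exact this.eq.symm
        have hdvd : p ∣ Nat.card ↥P := by
          obtain ⟨n, hn⟩ := IsPGroup.iff_card.mp hP
          rw [hn]
          apply dvd_pow_self
          rintro rfl
          rw [pow_zero] at hn
          exact hPne (Subgroup.card_eq_one.mp hn)
        obtain ⟨g, hg⟩ := exists_prime_orderOf_dvd_card' p hdvd
        have hgΩ : (g : X) ∈ Ω := by
          rw [hΩ]
          refine ⟨g.2, ?_⟩
          have : g ^ p = 1 := by rw [← hg]; exact pow_orderOf_eq_one g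
          have := congrArg Subtype.val this
          simpa using this
        have hg1 : (g : X) = 1 := Subgroup.mem_bot.mp (hΩbot hgΩ)
        have : g = 1 := Subtype.ext hg1
        rw [this, orderOf_one] at hg
        exact hpp.one_lt.ne hg
    · right
      push Not at hab
      obtain ⟨Zx, hZx⟩ : ∃ Zx : Subgroup X, Zx = (Subgroup.center ↥P).map P.subtype := ⟨_, rfl⟩
      have hZP : Zx ≤ P := by rw [hZx]; exact Subgroup.map_subtype_le _
      have hZne : Zx ≠ P := by
        intro heq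
        obtain ⟨x, hx, y, hy, hxy⟩ := hab
        apply hxy
        have hxZ : x ∈ Zx := by rw [heq]; exact hx
        rw [hZx] at hxZ
        obtain ⟨x', hx', rfl⟩ := hxZ
        have := Subgroup.mem_center_iff.mp hx' ⟨y, hy⟩
        exact (congrArg Subtype.val this).symm
      have hNZ : Subgroup.normalizer (P : Set X) ≤ Subgroup.normalizer (Zx : Set X) := by
        rw [hZx]
        exact normalizer_le_normalizer_map_characteristic P (Subgroup.center ↥P)
      have hZA : ⁅Zx, A⁆ = ⊥ := hmin Zx (lt_of_le_of_ne hZP hZne) (hBP.trans hNZ)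
      have hΦA : ⁅Φ, A⁆ = ⊥ := hmin Φ hΦlt (hBP.trans hNΦ)
      have hPΦ : ⁅P, Φ⁆ = ⊥ :=
        commutator_eq_bot_of_invariant P A Φ hPA (Subgroup.le_normalizer.trans hNΦ) hΦA
      have hΦZ : Φ ≤ Zx := by
        intro φ hφ
        rw [hZx]
        refine ⟨⟨φ, hΦP hφ⟩, ?_, rfl⟩
        rw [SetLike.mem_coe, Subgroup.mem_center_iff]
        intro g
        apply Subtype.ext
        have : ⁅(g : X), φ⁆ ∈ ⁅P, Φ⁆ := Subgroup.commutator_mem_commutator g.2 hφ
        rw [hPΦ, Subgroup.mem_bot, commutatorElement_eq_one_iff_commute] at this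
        exact this.eq
      have hPPP : ⁅P, P⁆ ≤ P := Subgroup.commutator_le_self P
      have hAPP : A ≤ Subgroup.normalizer ((⁅P, P⁆ : Subgroup X) : Set X) :=
        (le_inf hAP hAP).trans
          (Cfsg.Agent.Helper1.normalizer_inf_normalizer_le_normalizer_commutator P P)
      have hZP' : Zx ≤ ⁅P, P⁆ := by
        intro u hu
        apply mem_of_commutator_mem P A ⁅P, P⁆ hP hAP hAp hPA hPPP le_rfl hAPP u (hZP hu)
        intro a ha
        have : ⁅u, a⁆ ∈ ⁅Zx, A⁆ := Subgroup.commutator_mem_commutator hu ha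
        rw [hZA, Subgroup.mem_bot] at this
        rw [this]
        exact Subgroup.one_mem _
      have e1 : Φ = Zx := le_antisymm hΦZ (hZP'.trans hPPΦ)
      have e2 : ⁅P, P⁆ = Zx := le_antisymm (hPPΦ.trans hΦZ) hZP'
      have hfr : frattini ↥P = Subgroup.center ↥P := by
        apply Subgroup.map_injective P.subtype_injective
        rw [← hΦ, ← hZx]
        exact e1
      have hco : commutator ↥P = Subgroup.center ↥P := by
        apply Subgroup.map_injective P.subtype_injective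
        rw [← hZx, ← e2, commutator_def, Subgroup.map_commutator, ← MonoidHom.range_eq_map,
          Subgroup.range_subtype]
      refine ⟨⟨hP, hfr, hco⟩, ?_⟩
      intro hp2
      have hpowZ : ∀ g : ↥P, g ^ p ∈ Subgroup.center ↥P := by
        intro g
        rw [← hfr]
        exact Cfsg.Agent.Helper21.pow_mem_frattini_of_isPGroup hP g
      have hmulpow : ∀ h g : ↥P, (h * g) ^ p = h ^ p * g ^ p := by
        intro h g
        obtain ⟨z, hz⟩ : ∃ z : ↥P, z = (h * g)⁻¹ * (g * h) := ⟨_, rfl⟩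
        have hc : g * h = h * g * z := by rw [hz]; group
        have hzc : z ∈ Subgroup.center ↥P := by
          rw [← hco, commutator_def]
          have : z = ⁅g⁻¹, h⁻¹⁆ := by rw [hz, commutatorElement_def]; group
          rw [this]
          exact Subgroup.commutator_mem_commutator (Subgroup.mem_top _) (Subgroup.mem_top _)
        have hzp : z ^ p = 1 :=
          Cfsg.Agent.Helper20.pow_eq_one_of_central g h z hzc hc p (hpowZ g)
        exact Cfsg.Agent.Helper20.mul_pow_prime_central h g z hzc hc p hpp hp2 hzp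
      obtain ⟨Ω, hΩ⟩ : ∃ Ω : Subgroup X, ∀ x, x ∈ Ω ↔ x ∈ P ∧ x ^ p = 1 := by
        refine ⟨{ carrier := {x | x ∈ P ∧ x ^ p = 1}
                  one_mem' := ⟨P.one_mem, one_pow p⟩
                  mul_mem' := ?_
                  inv_mem' := ?_ }, fun x => Iff.rfl⟩
        · rintro x y ⟨hx, hxp⟩ ⟨hy, hyp⟩
          refine ⟨P.mul_mem hx hy, ?_⟩
          have h1 := congrArg Subtype.val (hmulpow ⟨x, hx⟩ ⟨y, hy⟩)
          simp only [Subgroup.coe_pow, Subgroup.coe_mul] at h1
          rw [h1, hxp, hyp, one_mul]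
        · rintro x ⟨hx, hxp⟩
          exact ⟨P.inv_mem hx, by rw [inv_pow, hxp, inv_one]⟩
      have hPΩ : P ≤ Ω := by
        calc P = ⁅P, A⁆ := hPA.symm
          _ ≤ Ω := by
            rw [Subgroup.commutator_le]
            intro x hx a ha
            rw [hΩ]
            have hc1 : a * x⁻¹ * a⁻¹ ∈ P :=
              (Subgroup.le_normalizer_iff.mp hAP) a ha x⁻¹ (P.inv_mem hx)
            have e : ⁅x, a⁆ = x * (a * x⁻¹ * a⁻¹) := by
              rw [commutatorElement_def]; group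
            rw [e]
            refine ⟨P.mul_mem hx hc1, ?_⟩
            have h1 := congrArg Subtype.val (hmulpow ⟨x, hx⟩ ⟨a * x⁻¹ * a⁻¹, hc1⟩)
            simp only [Subgroup.coe_pow, Subgroup.coe_mul] at h1
            rw [h1]
            have hxpZ : x ^ p ∈ Zx := by
              rw [hZx]
              exact ⟨⟨x, hx⟩ ^ p, hpowZ ⟨x, hx⟩, by simp⟩
            have hcm : ⁅x ^ p, a⁆ ∈ ⁅Zx, A⁆ := Subgroup.commutator_mem_commutator hxpZ ha
            rw [hZA, Subgroup.mem_bot, commutatorElement_eq_one_iff_commute] at hcm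
            rw [conj_pow, inv_pow]
            have h2 : a * (x ^ p)⁻¹ * a⁻¹ = (x ^ p)⁻¹ := by
              have h3 : (x ^ p)⁻¹ * a = a * (x ^ p)⁻¹ := (hcm.inv_left).eq
              calc a * (x ^ p)⁻¹ * a⁻¹ = ((x ^ p)⁻¹ * a) * a⁻¹ := by rw [h3]
                _ = (x ^ p)⁻¹ := by group
            rw [h2, mul_inv_cancel]
      intro x hx
      exact ((hΩ x).mp (hPΩ hx)).2
  exact ⟨hPA, main.imp id (fun h => h.1), by rw [← hΦ]; exact hirr, fun hp2 => by
    rcases main with h | h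
    · exact h.2
    · exact h.2 hp2⟩

end Cfsg.Agent.S3736
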