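import Mathlib
import Cfsg.Statements.S3737
import Cfsg.Agent.Lib.Helper7.BaerApp

set_option autoImplicit false
open Cfsg

namespace Cfsg.Agent.S3737

/-- For odd p: if PQ (P a p-group normalizing the p'-group Q) acts on a p-group G with C_G(P) ≤ C_G(Q), then [G, Q] = 1. -/
theorem result {X : Type*} [Group X] [Finite X] {p : ℕ} [Fact p.Prime] (hp : p ≠ 2) (P Q G : Subgroup X) (hP : IsPGroup p P) (hQ : (Nat.card Q).Coprime p) (hPQ : P ≤ Subgroup.normalizer (Q : Set X)) (hG : IsPGroup p G) (hPG : P ≤ Subgroup.normalizer (G : Set X)) (hQG : Q ≤ Subgroup.normalizer (G : Set X)) (hC : G ⊓ Subgroup.centralizer (P : Set X) ≤ Subgroup.centralizer (Q : Set X)) : Q ≤ Subgroup.centralizer (G : Set X) := by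
  have hQ' : ¬ p ∣ Nat.card Q := by
    intro h
    have h1 : p ∣ Nat.gcd (Nat.card Q) p := Nat.dvd_gcd h dvd_rfl
    rw [hQ] at h1
    exact (Fact.out : p.Prime).one_lt.ne' (Nat.dvd_one.mp h1)
  have h := Cfsg.Agent.Helper7.le_centralizer_of_forall_orderOf_fixed p hp G Q P hG hQ' hP hPQ hQG hPG
    (fun x hxG hxP _ => hC (Subgroup.mem_inf.mpr ⟨hxG, hxP⟩))
  exact Subgroup.le_centralizer_iff.mp h

end Cfsg.Agent.S3737
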