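import Mathlib
import Cfsg.Statements.S3738
import Cfsg.Agent.S3703
import Cfsg.Agent.S4054
import Cfsg.Agent.Lib.Helper1.Critical
import Cfsg.Agent.Lib.Helper19.InvolutionCount
import Cfsg.Agent.Lib.Helper22.ClassTwo

set_option autoImplicit false
open Cfsg
open scoped commutatorElement

namespace Cfsg.Agent.S3738

/-- A permutation with `σ ^ 9 = 1` whose cube has no fixed points acts on a set of size divisible by 9. -/
theorem nine_dvd_card {S : Type*} [Finite S] (σ : Equiv.Perm S) (h9 : σ ^ 9 = 1)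
    (h3 : ∀ x, (σ ^ 3) x ≠ x) : 9 ∣ Nat.card S := by
  classical
  let _ := Fintype.ofFinite S
  rcases isEmpty_or_nonempty S with hS | ⟨⟨x0⟩⟩
  · simp
  have hord : orderOf σ = 9 := by
    have hdvd : orderOf σ ∣ 3 ^ 2 := orderOf_dvd_of_pow_eq_one (by simpa using h9)
    obtain ⟨k, hk, hk'⟩ := (Nat.dvd_prime_pow Nat.prime_three).mp hdvd
    have h3' : σ ^ 3 ≠ 1 := by
      intro h
      apply h3 x0
      rw [h]; rfl
    interval_cases k
    · exfalso
      apply h3'
      have : σ = 1 := by simpa using hk'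
      rw [this, one_pow]
    · exfalso
      apply h3'
      have : orderOf σ = 3 := by simpa using hk'
      rw [← this, pow_orderOf_eq_one]
    · simpa using hk'
  let G := Subgroup.zpowers σ
  have hG : Nat.card G = 9 := by rw [Nat.card_zpowers, hord]
  have hfix : ∀ g : G, g ≠ 1 → ∀ x : S, g • x ≠ x := by
    intro g hg x hx
    obtain ⟨k, hk⟩ := Subgroup.mem_zpowers_iff.mp g.2
    have hgx : (σ ^ k) x = x := by rw [hk]; exact hx
    have h9k : ¬ (9 : ℤ) ∣ k := by
      rintro ⟨c, rfl⟩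
      apply hg
      apply Subtype.ext
      rw [← hk, zpow_mul]
      have : σ ^ (9 : ℤ) = 1 := by exact_mod_cast h9
      rw [this, one_zpow]; rfl
    have hbez := Int.gcd_eq_gcd_ab k 9
    have hdvd9 : Int.gcd k 9 ∣ 9 := by
      have := Int.gcd_dvd_right k 9
      exact_mod_cast this
    have hdvdk : (Int.gcd k 9 : ℤ) ∣ k := Int.gcd_dvd_left k 9
    have hfixe : (σ ^ ((Int.gcd k 9 : ℕ) : ℤ)) x = x := by
      rw [hbez, zpow_add, zpow_mul, zpow_mul]
      have : σ ^ (9 : ℤ) = 1 := by exact_mod_cast h9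
      rw [this, one_zpow, mul_one]
      exact Equiv.Perm.zpow_apply_eq_self_of_apply_eq_self hgx _
    have hcases : Int.gcd k 9 = 1 ∨ Int.gcd k 9 = 3 ∨ Int.gcd k 9 = 9 := by
      have hdvd9' : Int.gcd k 9 ∣ 3 ^ 2 := by simpa using hdvd9
      obtain ⟨j, hj, hj'⟩ := (Nat.dvd_prime_pow Nat.prime_three).mp hdvd9'
      interval_cases j
      · left; simpa using hj'
      · right; left; simpa using hj'
      · right; right; simpa using hj'
    rcases hcases with h | h | h
    · rw [h] at hfixe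
      have h1 : σ x = x := by simpa using hfixe
      exact h3 x (Equiv.Perm.pow_apply_eq_self_of_apply_eq_self h1 3)
    · rw [h] at hfixe
      apply h3 x
      have : σ ^ ((3 : ℕ) : ℤ) = σ ^ 3 := zpow_natCast σ 3
      rw [← this]; exact hfixe
    · rw [h] at hdvdk
      exact h9k (by exact_mod_cast hdvdk)
  have hB := MulAction.sum_card_fixedBy_eq_card_orbits_mul_card_group G S
  rw [Finset.sum_eq_single (1 : G)] at hB
  · have h1 : Fintype.card (MulAction.fixedBy S (1 : G)) = Fintype.card S := by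
      apply Fintype.card_congr
      exact Equiv.subtypeUnivEquiv (fun x => by simp)
    rw [h1] at hB
    rw [Nat.card_eq_fintype_card, hB]
    have : Fintype.card G = 9 := by rw [← Nat.card_eq_fintype_card]; exact hG
    rw [this]
    exact Dvd.intro_left _ rfl
  · intro g _ hg
    rw [Fintype.card_eq_zero_iff]
    exact ⟨fun ⟨x, hx⟩ => hfix g hg x hx⟩
  · intro h
    exact absurd (Finset.mem_univ _) h

/-- coprime fixing lemma for automorphisms -/
theorem coprime_fix {H : Type*} [Group H] (ψ : MulAut H) (x : H)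
    (hw : ψ (x⁻¹ * ψ x) = x⁻¹ * ψ x)
    (hcop : (orderOf ψ).Coprime (orderOf (x⁻¹ * ψ x))) : ψ x = x := by
  set w := x⁻¹ * ψ x with hwdef
  have hψx : ψ x = x * w := by rw [hwdef]; group
  have hpow : ∀ j : ℕ, (ψ ^ j) x = x * w ^ j := by
    intro j
    induction j with
    | zero => simp
    | succ j ih =>
      rw [pow_succ', MulAut.mul_apply, ih, map_mul, map_pow, hw, hψx, pow_succ', mul_assoc]
  have h1 := hpow (orderOf ψ)
  rw [pow_orderOf_eq_one, MulAut.one_apply] at h1
  have h2 : w ^ orderOf ψ = 1 := by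
    have := h1.symm
    rwa [mul_eq_left] at this
  have h3 : orderOf w ∣ orderOf ψ := orderOf_dvd_of_pow_eq_one h2
  have h4 : orderOf w = 1 := Nat.eq_one_of_dvd_coprimes hcop.symm (dvd_refl _) h3
  have h5 : w = 1 := orderOf_eq_one_iff.mp h4
  rw [hψx, h5, mul_one]

/-- restriction of an automorphism to an invariant set, as a permutation -/
def restrictPerm {H : Type*} [Group H] (ψ : MulAut H) (s : Set H)
    (hs : ∀ x, x ∈ s ↔ ψ x ∈ s) : Equiv.Perm s where
  toFun x := ⟨ψ x, (hs x).mp x.2⟩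
  invFun x := ⟨ψ⁻¹ x, (hs _).mpr (by simp)⟩
  left_inv x := by simp
  right_inv x := by simp

theorem restrictPerm_pow {H : Type*} [Group H] (ψ : MulAut H) (s : Set H)
    (hs : ∀ x, x ∈ s ↔ ψ x ∈ s) (k : ℕ) (x : s) :
    (((restrictPerm ψ s hs) ^ k) x : H) = (ψ ^ k) x := by
  induction k with
  | zero => simp
  | succ k ih =>
    rw [pow_succ', pow_succ', Equiv.Perm.mul_apply, MulAut.mul_apply, ← ih]
    rfl


theorem pow_fix {H : Type*} [Group H] (ψ : MulAut H) (x : H) (h : ψ x = x) (i : ℕ) :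
    (ψ ^ i) x = x := by
  induction i with
  | zero => simp
  | succ i ih => rw [pow_succ', MulAut.mul_apply, ih, h]

theorem map_center {H : Type*} [Group H] (ψ : MulAut H) {z : H}
    (hz : z ∈ Subgroup.center H) : ψ z ∈ Subgroup.center H := by
  rw [Subgroup.mem_center_iff] at hz ⊢
  intro g
  have := congrArg ψ (hz (ψ⁻¹ g))
  simpa using this

theorem map_omega {H : Type*} [Group H] (ψ : MulAut H) {z : H}
    (hz : z ∈ Cfsg.Agent.S4054.omegaCenter H) : ψ z ∈ Cfsg.Agent.S4054.omegaCenter H :=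
  ⟨map_center ψ hz.1, by rw [← map_pow, hz.2, map_one]⟩

theorem comm_mem_omega {H : Type*} [Group H] (hsq : ∀ x : H, x ^ 2 ∈ Subgroup.center H)
    (hcm : ∀ x y : H, ⁅x, y⁆ ∈ Subgroup.center H) (x y : H) :
    ⁅x, y⁆ ∈ Cfsg.Agent.S4054.omegaCenter H := by
  refine ⟨hcm x y, ?_⟩
  rw [← Cfsg.Agent.Helper22.commutator_pow_left_of_central y x (hcm x y) 2]
  have := Subgroup.mem_center_iff.mp (hsq x) y
  rw [commutatorElement_eq_one_iff_mul_comm]
  exact this.symm

/-- the elements whose square lies in `Ω₁(Z(H))` -/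
def H2 (H : Type*) [Group H] (hsq : ∀ x : H, x ^ 2 ∈ Subgroup.center H)
    (hcm : ∀ x y : H, ⁅x, y⁆ ∈ Subgroup.center H) : Subgroup H where
  carrier := {x | x ^ 2 ∈ Cfsg.Agent.S4054.omegaCenter H}
  one_mem' := by
    show (1 : H) ^ 2 ∈ Cfsg.Agent.S4054.omegaCenter H
    rw [one_pow]; exact one_mem _
  mul_mem' := by
    intro a b ha hb
    have hc' : ∀ g : H, g * ⁅b, a⁆ = ⁅b, a⁆ * g :=
      fun g => Subgroup.mem_center_iff.1 (hcm b a) g
    have h := Cfsg.Agent.Helper22.mul_pow_eq_of_central a b ⁅b, a⁆ hc'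
      (Cfsg.Agent.Helper22.mul_eq_commutator_mul a b) 2
    show (a * b) ^ 2 ∈ Cfsg.Agent.S4054.omegaCenter H
    rw [h, Nat.choose_self, pow_one]
    exact mul_mem (mul_mem (comm_mem_omega hsq hcm b a) ha) hb
  inv_mem' := by
    intro a ha
    show (a⁻¹) ^ 2 ∈ Cfsg.Agent.S4054.omegaCenter H
    rw [inv_pow]; exact inv_mem ha

theorem main_type {H : Type*} [Group H] [Finite H] (hH : IsPGroup 2 H) (φ : MulAut H) (n : ℕ)
    (hφ : φ ^ (3 ^ n) = 1)
    (hsq : ∀ x : H, x ^ 2 ∈ Subgroup.center H)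
    (hcm : ∀ x y : H, ⁅x, y⁆ ∈ Subgroup.center H)
    (hrk : ∀ A : Subgroup H, (∀ a ∈ A, ∀ b ∈ A, a * b = b * a) → (∀ a ∈ A, a ^ 2 = 1) →
      Nat.card A ≤ 4)
    (hfp : ∀ x : H, φ x = x → x = 1) : φ ^ 3 = 1 := by
  classical
  rcases subsingleton_or_nontrivial H with hsub | hnt
  · ext x; exact Subsingleton.elim _ _
  set Om := Cfsg.Agent.S4054.omegaCenter H with hOm
  set K := H2 H hsq hcm with hK
  have hcop : ∀ (ψ : MulAut H), ψ ^ (3 ^ n) = 1 → ∀ w : H,
      (orderOf ψ).Coprime (orderOf w) := by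
    intro ψ hψ w
    obtain ⟨k, hk⟩ := (IsPGroup.iff_orderOf.mp hH) w
    rw [hk]
    have hdvd : orderOf ψ ∣ 3 ^ n := orderOf_dvd_of_pow_eq_one hψ
    exact Nat.Coprime.coprime_dvd_left hdvd (Nat.Coprime.pow _ _ (by norm_num))
  have hφpow : ∀ k : ℕ, (φ ^ k) ^ (3 ^ n) = 1 := by
    intro k; rw [← pow_mul, mul_comm, pow_mul, hφ, one_pow]
  have hOmab : ∀ a ∈ Om, ∀ b ∈ Om, a * b = b * a :=
    fun a _ b hb => Subgroup.mem_center_iff.mp hb.1 a
  have hOm2 : ∀ a ∈ Om, a ^ 2 = 1 := fun a ha => ha.2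
  have hOmle : Nat.card Om ≤ 4 := hrk Om hOmab hOm2
  have hOmne : Om ≠ ⊥ := by
    have hcn : Nontrivial (Subgroup.center H) := hH.center_nontrivial
    have h2 : 2 ∣ Nat.card (Subgroup.center H) := by
      obtain ⟨k, hk0, hk⟩ := (hH.to_subgroup (Subgroup.center H)).nontrivial_iff_card.mp hcn
      rw [hk]; exact dvd_pow_self 2 (by omega)
    have : Fact (Nat.Prime 2) := ⟨Nat.prime_two⟩
    obtain ⟨z, hz⟩ := exists_prime_orderOf_dvd_card' 2 h2
    intro hbot
    have hzO : (z : H) ∈ Om := by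
      refine ⟨z.2, ?_⟩
      have := pow_orderOf_eq_one z
      rw [hz] at this
      have := congrArg Subtype.val this
      simpa using this
    rw [hbot, Subgroup.mem_bot] at hzO
    have : z = 1 := Subtype.ext hzO
    rw [this, orderOf_one] at hz
    norm_num at hz
  obtain ⟨l, hl⟩ := (hH.to_subgroup Om).exists_card_eq
  have hl2 : l ≤ 2 := by
    rw [hl] at hOmle
    by_contra hcon
    push Not at hcon
    have : 2 ^ 3 ≤ 2 ^ l := Nat.pow_le_pow_right (by norm_num) hcon
    omega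
  have hl0 : l ≠ 0 := by
    rintro rfl
    apply hOmne
    rw [← Subgroup.card_eq_one]
    simpa using hl
  have hφOm : ∀ (ψ : MulAut H) (x : H), x ∈ (Om : Set H) ↔ ψ x ∈ (Om : Set H) := by
    intro ψ x
    constructor
    · intro hx; exact map_omega ψ hx
    · intro hx
      have := map_omega ψ⁻¹ hx
      simpa using this
  have hl1 : l ≠ 1 := by
    rintro rfl
    have hc2 : Nat.card Om = 2 := by simpa using hl
    obtain ⟨y, hy, hyu⟩ := (Nat.card_eq_two_iff' (1 : Om)).mp hc2
    have h1 : φ (y : H) ∈ Om := map_omega φ y.2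
    have h2 : (⟨φ (y : H), h1⟩ : Om) = y := by
      apply hyu
      intro h
      have := congrArg Subtype.val h
      simp at this
      exact hy this
    have h3 : φ (y : H) = y := congrArg Subtype.val h2
    exact hy (Subtype.ext (hfp _ h3))
  have hl' : l = 2 := by omega
  have hcardOm : Nat.card Om = 4 := by rw [hl, hl']; norm_num
  -- φ^3 fixes Om pointwise
  have hOmfix : ∀ z ∈ Om, (φ ^ 3) z = z := by
    let σ := restrictPerm φ (Om : Set H) (hφOm φ)
    have hσ1 : σ ^ (3 ^ n) = 1 := by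
      ext z
      rw [restrictPerm_pow, hφ]; rfl
    have hd1 : orderOf σ ∣ 3 ^ n := orderOf_dvd_of_pow_eq_one hσ1
    have hd2 : orderOf σ ∣ 24 := by
      have h1 : orderOf σ ∣ Nat.card (Equiv.Perm (Om : Set H)) := orderOf_dvd_natCard σ
      have h2 : Nat.card (Equiv.Perm (Om : Set H)) = 24 := by
        rw [Nat.card_perm]
        have : Nat.card (Om : Set H) = 4 := hcardOm
        rw [this]; rfl
      rwa [h2] at h1
    have hd3 : orderOf σ ∣ 3 := by
      have hc : Nat.Coprime (orderOf σ) 8 :=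
        Nat.Coprime.coprime_dvd_left hd1 (by
          have : Nat.Coprime (3 ^ n) (2 ^ 3) := Nat.Coprime.pow _ _ (by norm_num)
          simpa using this)
      have : orderOf σ ∣ 8 * 3 := by simpa using hd2
      exact hc.dvd_of_dvd_mul_left this
    have hσ3 : σ ^ 3 = 1 := orderOf_dvd_iff_pow_eq_one.mp hd3
    intro z hz
    have := restrictPerm_pow φ (Om : Set H) (hφOm φ) 3 ⟨z, hz⟩
    rw [← this]
    show (((σ ^ 3) ⟨z, hz⟩ : (Om : Set H)) : H) = z
    rw [hσ3]; rfl
  set ψ := φ ^ 3 with hψ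
  have hψn : ψ ^ (3 ^ n) = 1 := hφpow 3
  have hZfix : ∀ k : ℕ, ∀ z ∈ Subgroup.center H, z ^ (2 ^ k) = 1 → ψ z = z := by
    intro k
    induction k with
    | zero =>
      intro z _ hz
      simp at hz
      rw [hz, map_one]
    | succ k ih =>
      intro z hz hzk
      have hz2 : ψ (z ^ 2) = z ^ 2 :=
        ih (z ^ 2) (pow_mem hz 2) (by rw [← pow_mul, ← pow_succ']; exact hzk)
      apply coprime_fix ψ z
      · have hwc : z⁻¹ * ψ z ∈ Subgroup.center H := mul_mem (inv_mem hz) (map_center ψ hz)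
        have hw2 : (z⁻¹ * ψ z) ^ 2 = 1 := by
          have hc : Commute z⁻¹ (ψ z) := (Subgroup.mem_center_iff.mp (map_center ψ hz) z⁻¹)
          rw [hc.mul_pow, ← map_pow, hz2, inv_pow, inv_mul_cancel]
        exact hOmfix _ ⟨hwc, hw2⟩
      · exact hcop ψ hψn _
  have hZfix' : ∀ z ∈ Subgroup.center H, ψ z = z := by
    intro z hz
    obtain ⟨k, hk⟩ := hH z
    exact hZfix k z hz hk
  have hcommK : ∀ x : H, x⁻¹ * ψ x ∈ K := by
    intro x
    show (x⁻¹ * ψ x) ^ 2 ∈ Om
    have hc' : ∀ g : H, g * ⁅ψ x, x⁻¹⁆ = ⁅ψ x, x⁻¹⁆ * g :=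
      fun g => Subgroup.mem_center_iff.1 (hcm _ _) g
    have h := Cfsg.Agent.Helper22.mul_pow_eq_of_central x⁻¹ (ψ x) ⁅ψ x, x⁻¹⁆ hc'
      (Cfsg.Agent.Helper22.mul_eq_commutator_mul _ _) 2
    rw [h, Nat.choose_self, pow_one, ← map_pow, hZfix' _ (hsq x), inv_pow, mul_assoc,
      inv_mul_cancel, mul_one]
    exact comm_mem_omega hsq hcm _ _
  have hred : (∀ x ∈ K, ψ x = x) → ψ = 1 := by
    intro hK
    ext x
    rw [MulAut.one_apply]
    exact coprime_fix ψ x (hK _ (hcommK x)) (hcop ψ hψn _)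
  have hOmK : Om ≤ K := by
    intro z hz
    show z ^ 2 ∈ Om
    rw [hz.2]; exact one_mem _
  obtain ⟨a, ha⟩ := (hH.to_subgroup K).exists_card_eq
  have ha6 : a ≤ 6 := by
    by_contra hcon
    push Not at hcon
    obtain ⟨x, hxE, hx2⟩ := Cfsg.Agent.Helper19.exists_involution_not_mem (C := ↥K)
      (Om.subgroupOf K) (Om.subgroupOf K) le_rfl
      (by
        intro x hx
        rw [Subgroup.mem_center_iff]
        intro g
        apply Subtype.ext
        exact Subgroup.mem_center_iff.mp (Subgroup.mem_subgroupOf.mp hx).1 (g : H))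
      (fun x hx => Subtype.ext ((Subgroup.mem_subgroupOf.mp hx).2))
      (fun x => by
        rw [Subgroup.mem_subgroupOf, Subgroup.coe_pow]
        exact x.2)
      (fun x y => by
        rw [Subgroup.mem_subgroupOf]
        have : ((⁅x, y⁆ : ↥K) : H) = ⁅(x : H), (y : H)⁆ := by
          simp [commutatorElement_def]
        rw [this]
        exact comm_mem_omega hsq hcm _ _)
      2 2 (a - 2)
      (by rw [Nat.card_congr (Subgroup.subgroupOfEquivOfLe hOmK).toEquiv, hcardOm]; norm_num)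
      (by rw [Nat.card_congr (Subgroup.subgroupOfEquivOfLe hOmK).toEquiv, hcardOm]; norm_num)
      (by rw [ha]; congr 1; omega) (by omega)
    have hxO : (x : H) ∉ Om := fun h => hxE h
    have hx2' : (x : H) ^ 2 = 1 := by
      have := congrArg Subtype.val hx2
      simpa using this
    generalize (x : H) = b at hxO hx2'
    set E' := Om ⊔ Subgroup.zpowers b with hE'
    have hbC : b ∈ Subgroup.centralizer (Om : Set H) := by
      rw [Subgroup.mem_centralizer_iff]
      intro y hy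
      exact (Subgroup.mem_center_iff.mp hy.1 b).symm
    have hE'ab := Cfsg.Agent.S4054.abelian_sup_zpowers Om hOmab b hbC
    have hE'2 : ∀ y ∈ E', y ^ 2 = 1 := by
      have hle : Om ⊔ Subgroup.zpowers b ≤ Cfsg.Agent.S4054.sqOne E' hE'ab := by
        apply sup_le
        · intro y hy
          exact ⟨Subgroup.mem_sup_left hy, hOm2 y hy⟩
        · rw [Subgroup.zpowers_le]
          exact ⟨Subgroup.mem_sup_right (Subgroup.mem_zpowers b), hx2'⟩
      intro y hy
      exact (hle hy).2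
    have hlt : Nat.card Om < Nat.card E' := by
      have hle : Om ≤ E' := le_sup_left
      have hne : Om ≠ E' := by
        intro h
        apply hxO
        rw [h]
        exact Subgroup.mem_sup_right (Subgroup.mem_zpowers b)
      by_contra hcon
      push Not at hcon
      exact hne (Subgroup.eq_of_le_of_card_ge hle hcon)
    have := hrk E' hE'ab hE'2
    omega
  have hτK : ∀ (ρ : MulAut H) (x : H), x ∈ K ↔ ρ x ∈ K := by
    intro ρ x
    constructor
    · intro hx
      show (ρ x) ^ 2 ∈ Om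
      rw [← map_pow]; exact map_omega ρ hx
    · intro hx
      have h1 : (ρ x) ^ 2 ∈ Om := hx
      rw [← map_pow] at h1
      have h2 := map_omega ρ⁻¹ h1
      have h3 : ρ⁻¹ (ρ (x ^ 2)) = x ^ 2 := by simp
      rw [h3] at h2
      exact h2
  have hdesc : ∀ j : ℕ, 1 ≤ j → (∀ x ∈ K, (φ ^ (3 ^ (j + 1))) x = x) →
      (∀ x ∈ K, (φ ^ (3 ^ j)) x = x) := by
    intro j hj hfix
    set τ := φ ^ (3 ^ (j - 1)) with hτ
    have hτ3 : τ ^ 3 = φ ^ (3 ^ j) := by
      rw [hτ, ← pow_mul, ← pow_succ]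
      congr 2; omega
    have hτ9 : τ ^ 9 = φ ^ (3 ^ (j + 1)) := by
      rw [hτ, ← pow_mul]
      congr 1
      have h1 : j + 1 = (j - 1) + 2 := by omega
      rw [h1, pow_add]
      norm_num
    have hτ3' : τ ^ 3 = ψ ^ (3 ^ (j - 1)) := by
      rw [hτ, hψ, ← pow_mul, ← pow_mul, mul_comm]
    have hτ3Om : ∀ z ∈ Om, (τ ^ 3) z = z := by
      intro z hz
      rw [hτ3']
      exact pow_fix ψ z (hOmfix z hz) _
    by_contra hcon
    push Not at hcon
    obtain ⟨x0, hx0K, hx0⟩ := hcon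
    let C : Subgroup H :=
      K ⊓ (MonoidHom.eqLocus ((τ ^ 3 : MulAut H)).toMonoidHom (MonoidHom.id H))
    have hCmem : ∀ x, x ∈ C ↔ x ∈ K ∧ (τ ^ 3) x = x := by
      intro x
      rfl
    have hCK : C ≤ K := inf_le_left
    have hOmC : Om ≤ C := fun z hz => (hCmem z).mpr ⟨hOmK hz, hτ3Om z hz⟩
    have hCne : C ≠ K := by
      intro h
      have : x0 ∈ C := by rw [h]; exact hx0K
      exact hx0 (by rw [← hτ3]; exact ((hCmem x0).mp this).2)
    obtain ⟨b, hb⟩ := (hH.to_subgroup C).exists_card_eq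
    have hba : b < a := by
      have : Nat.card C < Nat.card K := by
        by_contra hc
        push Not at hc
        exact hCne (Subgroup.eq_of_le_of_card_ge hCK hc)
      rw [ha, hb] at this
      exact (Nat.pow_lt_pow_iff_right (by norm_num)).mp this
    have hb2 : 2 ≤ b := by
      have h1 : Nat.card Om ≤ Nat.card C := Subgroup.card_le_of_le hOmC
      rw [hcardOm, hb] at h1
      by_contra hc
      push Not at hc
      have : 2 ^ b ≤ 2 ^ 1 := Nat.pow_le_pow_right (by norm_num) (by omega)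
      omega
    let S : Set H := (K : Set H) \ (C : Set H)
    have hS : ∀ x, x ∈ S ↔ τ x ∈ S := by
      intro x
      have h1 : x ∈ C ↔ τ x ∈ C := by
        rw [hCmem, hCmem, ← hτK τ x]
        have : (τ ^ 3) (τ x) = τ ((τ ^ 3) x) := by
          rw [← MulAut.mul_apply, ← MulAut.mul_apply, ← pow_succ, ← pow_succ']
        rw [this, EmbeddingLike.apply_eq_iff_eq]
      simp only [S, Set.mem_sdiff, SetLike.mem_coe]
      rw [← hτK τ x, h1]
    let σ := restrictPerm τ S hS
    have hσ9 : σ ^ 9 = 1 := by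
      ext x
      rw [restrictPerm_pow, hτ9]
      exact hfix _ x.2.1
    have hσ3 : ∀ x, (σ ^ 3) x ≠ x := by
      intro x hx
      have h1 := restrictPerm_pow τ S hS 3 x
      rw [hx] at h1
      exact x.2.2 ((hCmem _).mpr ⟨x.2.1, h1.symm⟩)
    have h9 := nine_dvd_card σ hσ9 hσ3
    have hcardS : Nat.card S = 2 ^ a - 2 ^ b := by
      rw [Nat.card_coe_set_eq, Set.ncard_sdiff (by exact_mod_cast hCK) (Set.toFinite _)]
      have h1 : (K : Set H).ncard = Nat.card K := (Nat.card_coe_set_eq (K : Set H)).symm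
      have h2 : (C : Set H).ncard = Nat.card C := (Nat.card_coe_set_eq (C : Set H)).symm
      rw [h1, h2, ha, hb]
    rw [hcardS] at h9
    interval_cases a <;> interval_cases b <;> omega
  have hall : ∀ i : ℕ, (∀ x ∈ K, (φ ^ (3 ^ (1 + i))) x = x) → (∀ x ∈ K, (φ ^ (3 ^ 1)) x = x) := by
    intro i
    induction i with
    | zero => intro h; exact h
    | succ i ih =>
      intro h
      exact ih (hdesc (1 + i) (by omega) h)
  rcases Nat.eq_zero_or_pos n with hn0 | hnpos
  · rw [hn0, pow_zero, pow_one] at hφ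
    rw [hψ, hφ, one_pow]
  · apply hred
    have h1 : ∀ x ∈ K, (φ ^ (3 ^ (1 + (n - 1)))) x = x := by
      intro x _
      have : 1 + (n - 1) = n := by omega
      rw [this, hφ]; rfl
    have h2 := hall (n - 1) h1
    intro x hx
    have := h2 x hx
    rwa [pow_one] at this

theorem critical_in {X : Type*} [Group X] [Finite X] (P : Subgroup X) (hP : IsPGroup 2 P) :
    ∃ H : Subgroup X, H ≤ P ∧
      (∀ g ∈ Subgroup.normalizer (P : Set X), ∀ h ∈ H, g * h * g⁻¹ ∈ H) ∧
      (∀ x ∈ H, ∀ y ∈ H, x ^ 2 * y = y * x ^ 2) ∧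
      (∀ x ∈ H, ∀ y ∈ P, ⁅x, y⁆ ∈ H) ∧
      (∀ x ∈ H, ∀ y ∈ P, ∀ z ∈ H, ⁅x, y⁆ * z = z * ⁅x, y⁆) ∧
      (∀ x ∈ P, (∀ h ∈ H, x * h = h * x) → x ∈ H) := by
  have : Fact (Nat.Prime 2) := ⟨Nat.prime_two⟩
  obtain ⟨Hc, hchar, hfrat, hcomm, hcent⟩ :=
    Cfsg.Agent.Helper1.exists_critical (P := ↥P) (p := 2) hP
  refine ⟨Hc.map P.subtype, Subgroup.map_subtype_le Hc, ?_, ?_, ?_, ?_, ?_⟩
  · intro g hg h hh
    obtain ⟨x, hx, rfl⟩ := hh
    let φ := P.normalizerMonoidHom ⟨g, hg⟩
    have h1 : φ x ∈ Hc := by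
      have := hchar.fixed φ
      have h2 : x ∈ Hc.comap φ.toMonoidHom := by rw [this]; exact hx
      exact h2
    exact ⟨φ x, h1, rfl⟩
  · intro x hx y hy
    obtain ⟨x', hx', rfl⟩ := hx
    obtain ⟨y', hy', rfl⟩ := hy
    have h1 : (⟨x', hx'⟩ : Hc) ^ 2 ∈ frattini Hc :=
      Cfsg.Agent.Helper22.pow_prime_mem_frattini (hP.to_subgroup Hc) _
    have h2 : x' ^ 2 ∈ Subgroup.centralizer (Hc : Set P) := hfrat ⟨_, h1, rfl⟩
    have h3 := Subgroup.mem_centralizer_iff.mp h2 y' hy'
    have := congrArg P.subtype h3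
    simpa using this.symm
  · intro x hx y hy
    obtain ⟨x', hx', rfl⟩ := hx
    have h1 : ⁅x', (⟨y, hy⟩ : P)⁆ ∈ Hc ⊓ Subgroup.centralizer (Hc : Set P) :=
      hcomm (Subgroup.commutator_mem_commutator hx' (Subgroup.mem_top _))
    exact ⟨_, h1.1, by simp [commutatorElement_def]⟩
  · intro x hx y hy z hz
    obtain ⟨x', hx', rfl⟩ := hx
    obtain ⟨z', hz', rfl⟩ := hz
    have h1 : ⁅x', (⟨y, hy⟩ : P)⁆ ∈ Hc ⊓ Subgroup.centralizer (Hc : Set P) :=
      hcomm (Subgroup.commutator_mem_commutator hx' (Subgroup.mem_top _))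
    have h3 := Subgroup.mem_centralizer_iff.mp h1.2 z' hz'
    have := congrArg P.subtype h3
    simpa [commutatorElement_def] using this.symm
  · intro x hx hxc
    have : (⟨x, hx⟩ : P) ∈ Subgroup.centralizer (Hc : Set P) := by
      rw [Subgroup.mem_centralizer_iff]
      intro h hh
      apply Subtype.ext
      have := hxc (h : X) ⟨h, hh, rfl⟩
      simpa using this.symm
    exact ⟨_, hcent this, rfl⟩

/-- If every abelian subgroup of a 2-group `P` has 2-rank at most 2, and `d` is a 3-element normalizing `P`, acting faithfully and without fixed points, then `d` has order 3. -/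
theorem result {X : Type*} [Group X] [Finite X] (d : X) (n : ℕ) (hn : 1 ≤ n) (hd : orderOf d = 3 ^ n) (P : Subgroup X) (hP : IsPGroup 2 P) (hdP : d ∈ Subgroup.normalizer (P : Set X)) (hfaith : Subgroup.zpowers d ⊓ Subgroup.centralizer (P : Set X) = ⊥) (hfpf : P ⊓ Subgroup.centralizer {d} = ⊥) (hrank : ∀ V : Subgroup X, V ≤ P → IsMulCommutative V → Cfsg.PRankLE 2 2 V) : orderOf d = 3 := by
  obtain ⟨H, hHP, hHnorm, hHsq, hHcomm, hHcc, hHcent⟩ := critical_in P hP
  have hdinvP : d⁻¹ ∈ Subgroup.normalizer (P : Set X) := inv_mem hdP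
  have hdH : d ∈ Subgroup.normalizer (H : Set X) := by
    rw [Subgroup.mem_normalizer_iff]
    intro h
    constructor
    · intro hh; exact hHnorm d hdP h hh
    · intro hh
      have := hHnorm d⁻¹ hdinvP _ hh
      simpa [mul_assoc] using this
  have hHp : IsPGroup 2 H := hP.to_le hHP
  let φ : MulAut H := H.normalizerMonoidHom ⟨d, hdH⟩
  have hφapp : ∀ (k : ℕ) (x : H), (((φ ^ k) x : H) : X) = d ^ k * x * (d ^ k)⁻¹ := by
    intro k x
    have : φ ^ k = H.normalizerMonoidHom (⟨d, hdH⟩ ^ k) := (map_pow _ _ _).symm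
    rw [this]
    rfl
  have hφn : φ ^ (3 ^ n) = 1 := by
    ext x
    rw [hφapp, ← hd, pow_orderOf_eq_one]
    simp
  have hsq : ∀ x : H, x ^ 2 ∈ Subgroup.center H := by
    intro x
    rw [Subgroup.mem_center_iff]
    intro g
    apply Subtype.ext
    have := hHsq x x.2 g g.2
    simpa using this.symm
  have hcm : ∀ x y : H, ⁅x, y⁆ ∈ Subgroup.center H := by
    intro x y
    rw [Subgroup.mem_center_iff]
    intro g
    apply Subtype.ext
    have := hHcc x x.2 y (hHP y.2) g g.2
    simpa [commutatorElement_def] using this.symm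
  have hrk : ∀ A : Subgroup H, (∀ a ∈ A, ∀ b ∈ A, a * b = b * a) → (∀ a ∈ A, a ^ 2 = 1) →
      Nat.card A ≤ 4 := by
    intro A hAab hA2
    set V : Subgroup X := A.map H.subtype with hV
    have hVP : V ≤ P := (Subgroup.map_subtype_le A).trans hHP
    have hVab : IsMulCommutative V := by
      refine ⟨⟨?_⟩⟩
      rintro ⟨_, a, ha, rfl⟩ ⟨_, b, hb, rfl⟩
      apply Subtype.ext
      have := congrArg Subtype.val (hAab a ha b hb)
      simpa using this
    have h1 := hrank V hVP hVab ⊤ ⟨⟨fun a b => by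
        have := hVab.is_comm.comm (a : V) (b : V)
        exact Subtype.ext this⟩⟩ (by
      rintro ⟨_, a, ha, rfl⟩ _
      apply Subtype.ext
      have := congrArg Subtype.val (hA2 a ha)
      simpa using this)
    rw [Subgroup.card_top] at h1
    have h2 : Nat.card V = Nat.card A :=
      Subgroup.card_map_of_injective H.subtype_injective
    rw [h2] at h1
    simpa using h1
  have hfp : ∀ x : H, φ x = x → x = 1 := by
    intro x hx
    have h1 : d * (x : X) * d⁻¹ = x := by
      have := hφapp 1 x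
      rw [pow_one, pow_one, hx] at this
      exact this.symm
    have h2 : (x : X) ∈ P ⊓ Subgroup.centralizer {d} := by
      refine Subgroup.mem_inf.mpr ⟨hHP x.2, ?_⟩
      rw [Subgroup.mem_centralizer_iff]
      intro y hy
      rw [Set.mem_singleton_iff] at hy
      rw [hy]
      calc d * (x : X) = d * x * d⁻¹ * d := by group
        _ = x * d := by rw [h1]
    rw [hfpf, Subgroup.mem_bot] at h2
    exact Subtype.ext h2
  have h3 := main_type hHp φ n hφn hsq hcm hrk hfp
  -- d^3 centralizes H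
  have hd3H : ∀ h ∈ H, d ^ 3 * h = h * d ^ 3 := by
    intro h hh
    have := hφapp 3 ⟨h, hh⟩
    rw [h3] at this
    have h4 : h = d ^ 3 * h * (d ^ 3)⁻¹ := this
    calc d ^ 3 * h = d ^ 3 * h * (d ^ 3)⁻¹ * d ^ 3 := by group
      _ = h * d ^ 3 := by rw [← h4]
  -- faithfulness on H
  have hHnormal : ∀ u ∈ P, ∀ h ∈ H, u * h * u⁻¹ ∈ H :=
    fun u hu h hh => hHnorm u (Subgroup.le_normalizer hu) h hh
  have hcent := Cfsg.Agent.S3703.centralizes_of_stab (Subgroup.zpowers (d ^ 3)) P H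
    (by
      intro k hk r hr
      obtain ⟨i, hi⟩ := (IsPGroup.iff_orderOf.mp hHp) ⟨r, hr⟩
      have hr' : orderOf r = 2 ^ i := by
        rw [← hi]; exact (Subgroup.orderOf_mk r hr).symm
      rw [hr']
      have hk1 : orderOf k ∣ orderOf (d ^ 3) := orderOf_dvd_of_mem_zpowers hk
      have hk2 : orderOf (d ^ 3) ∣ orderOf d := orderOf_pow_dvd 3
      rw [hd] at hk2
      exact Nat.Coprime.coprime_dvd_left (hk1.trans hk2) (Nat.Coprime.pow _ _ (by norm_num)))
    (by
      intro k hk r hr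
      obtain ⟨i, rfl⟩ := Subgroup.mem_zpowers_iff.mp hk
      have : Commute (d ^ 3) r := hd3H r hr
      exact (this.zpow_left i))
    (by
      intro k hk u hu
      have hkc : ∀ h ∈ H, k * h = h * k := by
        intro r hr
        obtain ⟨i, rfl⟩ := Subgroup.mem_zpowers_iff.mp hk
        have : Commute (d ^ 3) r := hd3H r hr
        exact (this.zpow_left i)
      have hkP : k ∈ Subgroup.normalizer (P : Set X) := by
        obtain ⟨i, rfl⟩ := Subgroup.mem_zpowers_iff.mp hk
        exact zpow_mem (pow_mem hdP 3) i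
      apply hHcent
      · exact mul_mem (inv_mem hu) ((Subgroup.mem_normalizer_iff.mp hkP u).mp hu)
      · intro h hh
        have e1 : u * h * u⁻¹ ∈ H := hHnormal u hu h hh
        have e2 := hkc _ e1
        have e3 := hkc h hh
        have e4 : k⁻¹ * h = h * k⁻¹ := by
          calc k⁻¹ * h = k⁻¹ * (h * k) * k⁻¹ := by group
            _ = k⁻¹ * (k * h) * k⁻¹ := by rw [e3]
            _ = h * k⁻¹ := by group
        calc u⁻¹ * (k * u * k⁻¹) * h = u⁻¹ * k * u * (k⁻¹ * h) := by group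
          _ = u⁻¹ * k * u * (h * k⁻¹) := by rw [e4]
          _ = u⁻¹ * (k * (u * h * u⁻¹)) * u * k⁻¹ := by group
          _ = u⁻¹ * ((u * h * u⁻¹) * k) * u * k⁻¹ := by rw [e2]
          _ = h * (u⁻¹ * (k * u * k⁻¹)) := by group)
  have hd3P : d ^ 3 ∈ Subgroup.zpowers d ⊓ Subgroup.centralizer (P : Set X) := by
    refine Subgroup.mem_inf.mpr ⟨Subgroup.pow_mem _ (Subgroup.mem_zpowers d) 3, ?_⟩
    rw [Subgroup.mem_centralizer_iff]
    intro u hu
    exact (hcent (d ^ 3) (Subgroup.mem_zpowers _) u hu).symm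
  rw [hfaith, Subgroup.mem_bot] at hd3P
  have h4 : orderOf d ∣ 3 := orderOf_dvd_of_pow_eq_one hd3P
  rw [hd] at h4 ⊢
  have h5 : n ≤ 1 := by
    have : 3 ^ n ∣ 3 ^ 1 := by simpa using h4
    exact (Nat.pow_dvd_pow_iff_le_right (by norm_num)).mp this
  have h6 : n = 1 := by omega
  rw [h6, pow_one]

end Cfsg.Agent.S3738
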