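import Mathlib
import Cfsg.Statements.S3739
import Cfsg.Agent.S3738
import Cfsg.Agent.Lib.Helper9.PCoreSub
import Cfsg.Agent.Lib.Helper19.PGroupBasic

set_option autoImplicit false
open Cfsg
open scoped commutatorElement

namespace Cfsg.Agent.S3739

/-- fixed-point congruence on an invariant finset -/
theorem fix_congr {K : Type*} [Fintype K] [DecidableEq K] (η : Equiv.Perm K) (k : ℕ)
    (hη : η ^ (3 ^ k) = 1) (S : Finset K) (hS : ∀ x, η x ∈ S ↔ x ∈ S) :
    (S.filter (fun x => η x = x)).card ≡ S.card [MOD 3] := by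
  have : Fact (Nat.Prime 3) := ⟨Nat.prime_three⟩
  let σ : Equiv.Perm {x // x ∈ S} := η.subtypePerm hS
  have hσ : σ ^ (3 ^ k) = 1 := by
    rw [Equiv.Perm.subtypePerm_pow]
    ext x
    simp [hη]
  have h1 := Equiv.Perm.card_compl_support_modEq hσ
  rw [Fintype.card_coe] at h1
  have h2 : (σ.support)ᶜ.card = (S.filter (fun x => η x = x)).card := by
    apply Finset.card_bij (fun (a : {x // x ∈ S}) _ => (a : K))
    · intro a ha
      simp only [Finset.mem_compl, Equiv.Perm.mem_support, ne_eq, not_not] at ha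
      have := congrArg Subtype.val ha
      simp only [Finset.mem_filter]
      exact ⟨a.2, this⟩
    · intro a _ b _ h
      exact Subtype.ext h
    · intro b hb
      simp only [Finset.mem_filter] at hb
      refine ⟨⟨b, hb.1⟩, ?_, rfl⟩
      simp only [Finset.mem_compl, Equiv.Perm.mem_support, ne_eq, not_not]
      exact Subtype.ext hb.2
  rw [h2] at h1
  exact h1

/-- a finset stable under right multiplication by a subgroup has size divisible by its order -/
theorem card_dvd_of_mul_invariant {K : Type*} [Group K] (A : Subgroup K)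
    (S : Finset K) (hS : ∀ x ∈ S, ∀ w ∈ A, x * w ∈ S) : Nat.card A ∣ S.card := by
  let t : Set (K ⧸ A) := QuotientGroup.mk '' (S : Set K)
  have hpre : QuotientGroup.mk ⁻¹' t = (S : Set K) := by
    ext x
    constructor
    · rintro ⟨s, hs, hsx⟩
      have h1 : s⁻¹ * x ∈ A := QuotientGroup.eq.mp hsx
      have h2 := hS s hs _ h1
      rw [mul_inv_cancel_left] at h2
      exact h2
    · intro hx
      exact ⟨x, hx, rfl⟩
  have h1 := Nat.card_congr (QuotientGroup.preimageMkEquivSubgroupProdSet A t)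
  rw [Nat.card_prod, hpre] at h1
  have h2 : Nat.card (S : Set K) = S.card := by
    rw [Nat.card_coe_set_eq, Set.ncard_coe_finset]
  rw [h2] at h1
  exact Dvd.intro _ h1.symm


theorem arith6 (b N f0 f1 f2 : ℕ) (hba : b ≤ 6)
    (hK : 64 = 4 + N + N + N) (hF : 2 ^ b = 4 + f0 + f1 + f2)
    (e0 : f0 % 3 = N % 3) (e1 : f1 % 3 = N % 3) (e2 : f2 % 3 = N % 3)
    (d0 : 4 ∣ f0) (d1 : 4 ∣ f1) (d2 : 4 ∣ f2) (l0 : f0 ≤ N) (l1 : f1 ≤ N) (l2 : f2 ≤ N) :
    b = 6 := by
  have hN : N = 20 := by omega
  subst hN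
  obtain ⟨g0, rfl⟩ := d0
  obtain ⟨g1, rfl⟩ := d1
  obtain ⟨g2, rfl⟩ := d2
  have h0 : g0 = 2 ∨ g0 = 5 := by omega
  have h1 : g1 = 2 ∨ g1 = 5 := by omega
  have h2 : g2 = 2 ∨ g2 = 5 := by omega
  interval_cases b <;> rcases h0 with rfl | rfl <;> rcases h1 with rfl | rfl <;> rcases h2 with rfl | rfl <;> omega

theorem arith4 (b N f0 f1 f2 : ℕ) (hba : b ≤ 4)
    (hK : 16 = 4 + N + N + N) (hF : 2 ^ b = 4 + f0 + f1 + f2)
    (e0 : f0 % 3 = N % 3) (e1 : f1 % 3 = N % 3) (e2 : f2 % 3 = N % 3)
    (d0 : 4 ∣ f0) (d1 : 4 ∣ f1) (d2 : 4 ∣ f2) (l0 : f0 ≤ N) (l1 : f1 ≤ N) (l2 : f2 ≤ N) :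
    b = 4 := by
  have hN : N = 4 := by omega
  subst hN
  obtain ⟨g0, rfl⟩ := d0
  obtain ⟨g1, rfl⟩ := d1
  obtain ⟨g2, rfl⟩ := d2
  have h0 : g0 = 1 := by omega
  have h1 : g1 = 1 := by omega
  have h2 : g2 = 1 := by omega
  subst h0 h1 h2
  interval_cases b <;> omega

theorem arith (a b N f0 f1 f2 : ℕ) (ha6 : a ≤ 6) (hba : b ≤ a)
    (hK : 2 ^ a = 4 + N + N + N) (hF : 2 ^ b = 4 + f0 + f1 + f2)
    (e0 : f0 % 3 = N % 3) (e1 : f1 % 3 = N % 3) (e2 : f2 % 3 = N % 3)
    (d0 : 4 ∣ f0) (d1 : 4 ∣ f1) (d2 : 4 ∣ f2) (l0 : f0 ≤ N) (l1 : f1 ≤ N) (l2 : f2 ≤ N) :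
    b = a := by
  interval_cases a
  · omega
  · omega
  · have hN : N = 0 := by omega
    subst hN
    have h0 : f0 = 0 := by omega
    have h1 : f1 = 0 := by omega
    have h2 : f2 = 0 := by omega
    subst h0 h1 h2
    interval_cases b <;> omega
  · omega
  · exact arith4 b N f0 f1 f2 hba (by simpa using hK) hF e0 e1 e2 d0 d1 d2 l0 l1 l2
  · omega
  · exact arith6 b N f0 f1 f2 hba (by simpa using hK) hF e0 e1 e2 d0 d1 d2 l0 l1 l2

open Cfsg.Agent.S3738 in
theorem main2 {H : Type*} [Group H] [Finite H] (hH : IsPGroup 2 H) (δ η : MulAut H) (k : ℕ)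
    (hη : η ^ (3 ^ k) = 1)
    (hsq : ∀ x : H, x ^ 2 ∈ Subgroup.center H)
    (hcm : ∀ x y : H, ⁅x, y⁆ ∈ Subgroup.center H)
    (hrk : ∀ A : Subgroup H, (∀ a ∈ A, ∀ b ∈ A, a * b = b * a) → (∀ a ∈ A, a ^ 2 = 1) →
      Nat.card A ≤ 4)
    (hinv : ∀ x : H, x ^ 2 = 1 → x ∈ Subgroup.center H)
    (hfp : ∀ x : H, δ x = x → x = 1)
    (hηOm : ∀ z ∈ Cfsg.Agent.S4054.omegaCenter H, η z = z) : η = 1 := by
  classical
  rcases subsingleton_or_nontrivial H with hsub | hnt
  · ext x; exact Subsingleton.elim _ _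
  let _ := Fintype.ofFinite H
  set Om := Cfsg.Agent.S4054.omegaCenter H with hOm
  set K := H2 H hsq hcm with hK
  have hcop : ∀ w : H, (orderOf η).Coprime (orderOf w) := by
    intro w
    obtain ⟨j, hj⟩ := (IsPGroup.iff_orderOf.mp hH) w
    rw [hj]
    have hdvd : orderOf η ∣ 3 ^ k := orderOf_dvd_of_pow_eq_one hη
    exact Nat.Coprime.coprime_dvd_left hdvd (Nat.Coprime.pow _ _ (by norm_num))
  have hOmab : ∀ a ∈ Om, ∀ b ∈ Om, a * b = b * a :=
    fun a _ b hb => Subgroup.mem_center_iff.mp hb.1 a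
  have hOm2 : ∀ a ∈ Om, a ^ 2 = 1 := fun a ha => ha.2
  have hOmle : Nat.card Om ≤ 4 := hrk Om hOmab hOm2
  have hOmne : Om ≠ ⊥ := by
    have hcn : Nontrivial (Subgroup.center H) := hH.center_nontrivial
    have h2 : 2 ∣ Nat.card (Subgroup.center H) := by
      obtain ⟨j, hj0, hj⟩ := (hH.to_subgroup (Subgroup.center H)).nontrivial_iff_card.mp hcn
      rw [hj]; exact dvd_pow_self 2 (by omega)
    have : Fact (Nat.Prime 2) := ⟨Nat.prime_two⟩
    obtain ⟨z, hz⟩ := exists_prime_orderOf_dvd_card' 2 h2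
    intro hbot
    have hzO : (z : H) ∈ Om := by
      refine ⟨z.2, ?_⟩
      have := pow_orderOf_eq_one z
      rw [hz] at this
      have := congrArg Subtype.val this
      simpa using this
    rw [hbot, Subgroup.mem_bot] at hzO
    have : z = 1 := Subtype.ext hzO
    rw [this, orderOf_one] at hz
    norm_num at hz
  obtain ⟨l, hl⟩ := (hH.to_subgroup Om).exists_card_eq
  have hl2 : l ≤ 2 := by
    rw [hl] at hOmle
    by_contra hcon
    push Not at hcon
    have : 2 ^ 3 ≤ 2 ^ l := Nat.pow_le_pow_right (by norm_num) hcon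
    omega
  have hl0 : l ≠ 0 := by
    rintro rfl
    apply hOmne
    rw [← Subgroup.card_eq_one]
    simpa using hl
  have hl1 : l ≠ 1 := by
    rintro rfl
    have hc2 : Nat.card Om = 2 := by simpa using hl
    obtain ⟨y, hy, hyu⟩ := (Nat.card_eq_two_iff' (1 : Om)).mp hc2
    have h1 : δ (y : H) ∈ Om := map_omega δ y.2
    have h2 : (⟨δ (y : H), h1⟩ : Om) = y := by
      apply hyu
      intro h
      have := congrArg Subtype.val h
      simp at this
      exact hy this
    have h3 : δ (y : H) = y := congrArg Subtype.val h2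
    exact hy (Subtype.ext (hfp _ h3))
  have hl' : l = 2 := by omega
  have hcardOm : Nat.card Om = 4 := by rw [hl, hl']; norm_num
  -- η fixes the center pointwise
  have hZfix : ∀ j : ℕ, ∀ z ∈ Subgroup.center H, z ^ (2 ^ j) = 1 → η z = z := by
    intro j
    induction j with
    | zero =>
      intro z _ hz
      simp at hz
      rw [hz, map_one]
    | succ j ih =>
      intro z hz hzk
      have hz2 : η (z ^ 2) = z ^ 2 :=
        ih (z ^ 2) (pow_mem hz 2) (by rw [← pow_mul, ← pow_succ']; exact hzk)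
      apply coprime_fix η z
      · have hwc : z⁻¹ * η z ∈ Subgroup.center H := mul_mem (inv_mem hz) (map_center η hz)
        have hw2 : (z⁻¹ * η z) ^ 2 = 1 := by
          have hc : Commute z⁻¹ (η z) := (Subgroup.mem_center_iff.mp (map_center η hz) z⁻¹)
          rw [hc.mul_pow, ← map_pow, hz2, inv_pow, inv_mul_cancel]
        exact hηOm _ ⟨hwc, hw2⟩
      · exact hcop _
  have hZfix' : ∀ z ∈ Subgroup.center H, η z = z := by
    intro z hz
    obtain ⟨j, hj⟩ := hH z
    exact hZfix j z hz hj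
  have hcommK : ∀ x : H, x⁻¹ * η x ∈ K := by
    intro x
    show (x⁻¹ * η x) ^ 2 ∈ Om
    have hc' : ∀ g : H, g * ⁅η x, x⁻¹⁆ = ⁅η x, x⁻¹⁆ * g :=
      fun g => Subgroup.mem_center_iff.1 (hcm _ _) g
    have h := Cfsg.Agent.Helper22.mul_pow_eq_of_central x⁻¹ (η x) ⁅η x, x⁻¹⁆ hc'
      (Cfsg.Agent.Helper22.mul_eq_commutator_mul _ _) 2
    rw [h, Nat.choose_self, pow_one, ← map_pow, hZfix' _ (hsq x), inv_pow, mul_assoc,
      inv_mul_cancel, mul_one]
    exact comm_mem_omega hsq hcm _ _
  have hred : (∀ x ∈ K, η x = x) → η = 1 := by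
    intro hK
    ext x
    rw [MulAut.one_apply]
    exact coprime_fix η x (hK _ (hcommK x)) (hcop _)
  have hOmK : Om ≤ K := by
    intro z hz
    show z ^ 2 ∈ Om
    rw [hz.2]; exact one_mem _
  obtain ⟨a, ha⟩ := (hH.to_subgroup K).exists_card_eq
  have ha6 : a ≤ 6 := by
    by_contra hcon
    push Not at hcon
    obtain ⟨x, hxE, hx2⟩ := Cfsg.Agent.Helper19.exists_involution_not_mem (C := ↥K)
      (Om.subgroupOf K) (Om.subgroupOf K) le_rfl
      (by
        intro x hx
        rw [Subgroup.mem_center_iff]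
        intro g
        apply Subtype.ext
        exact Subgroup.mem_center_iff.mp (Subgroup.mem_subgroupOf.mp hx).1 (g : H))
      (fun x hx => Subtype.ext ((Subgroup.mem_subgroupOf.mp hx).2))
      (fun x => by
        rw [Subgroup.mem_subgroupOf, Subgroup.coe_pow]
        exact x.2)
      (fun x y => by
        rw [Subgroup.mem_subgroupOf]
        have : ((⁅x, y⁆ : ↥K) : H) = ⁅(x : H), (y : H)⁆ := by
          simp [commutatorElement_def]
        rw [this]
        exact comm_mem_omega hsq hcm _ _)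
      2 2 (a - 2)
      (by rw [Nat.card_congr (Subgroup.subgroupOfEquivOfLe hOmK).toEquiv, hcardOm]; norm_num)
      (by rw [Nat.card_congr (Subgroup.subgroupOfEquivOfLe hOmK).toEquiv, hcardOm]; norm_num)
      (by rw [ha]; congr 1; omega) (by omega)
    have hxO : (x : H) ∉ Om := fun h => hxE h
    have hx2' : (x : H) ^ 2 = 1 := by
      have := congrArg Subtype.val hx2
      simpa using this
    exact hxO ⟨hinv _ hx2', hx2'⟩
  -- enumeration of Om
  obtain ⟨z0, hz0, hz01⟩ := (Subgroup.ne_bot_iff_exists_ne_one (H := Om)).mp hOmne |>.imp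
    (fun z hz => hz) |> fun ⟨z, hz⟩ => (⟨(z : H), z.2, fun h => hz (Subtype.ext h)⟩ :
      ∃ z0 : H, z0 ∈ Om ∧ z0 ≠ 1)
  set z1 := δ z0 with hz1def
  set z2 := δ z1 with hz2def
  have hz1 : z1 ∈ Om := map_omega δ hz0
  have hz2 : z2 ∈ Om := map_omega δ hz1
  have hz11 : z1 ≠ 1 := by
    intro h
    apply hz01
    have : δ z0 = δ 1 := by rw [map_one]; exact h
    exact δ.injective this
  have hz21 : z2 ≠ 1 := by
    intro h
    apply hz11
    have : δ z1 = δ 1 := by rw [map_one]; exact h
    exact δ.injective this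
  have hz10 : z1 ≠ z0 := fun h => hz01 (hfp z0 h)
  have hz21' : z2 ≠ z1 := fun h => hz11 (hfp z1 h)
  have hz20 : z2 ≠ z0 := by
    intro h
    -- z0 * z1 is fixed
    have h1 : δ (z0 * z1) = z0 * z1 := by
      rw [map_mul, ← hz1def, ← hz2def, h]
      exact (hOmab z1 hz1 z0 hz0)
    have h2 := hfp _ h1
    apply hz10
    have h3 : z0 ^ 2 = 1 := hOm2 z0 hz0
    have h4 : z0 * z1 = z0 * z0 := by rw [h2, ← pow_two, h3]
    exact mul_left_cancel h4
  have hOmEnum : ∀ w ∈ Om, w = 1 ∨ w = z0 ∨ w = z1 ∨ w = z2 := by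
    let T : Finset H := {1, z0, z1, z2}
    have hTcard : T.card = 4 := by
      have h1 : z1 ∉ ({z2} : Finset H) := by simp [hz21'.symm]
      have h2 : z0 ∉ ({z1, z2} : Finset H) := by simp [hz10.symm, hz20.symm]
      have h3 : (1 : H) ∉ ({z0, z1, z2} : Finset H) := by simp [hz01.symm, hz11.symm, hz21.symm]
      simp only [T]
      rw [Finset.card_insert_of_notMem h3, Finset.card_insert_of_notMem h2,
        Finset.card_insert_of_notMem h1, Finset.card_singleton]
    let Omf : Finset H := Finset.univ.filter (fun x => x ∈ Om)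
    have hOmfcard : Omf.card = 4 := by
      rw [← hcardOm, Nat.card_eq_fintype_card, Fintype.card_subtype]
    have hsub : T ⊆ Omf := by
      intro w hw
      simp only [T, Finset.mem_insert, Finset.mem_singleton] at hw
      simp only [Omf, Finset.mem_filter, Finset.mem_univ, true_and]
      rcases hw with rfl | rfl | rfl | rfl
      · exact one_mem _
      · exact hz0
      · exact hz1
      · exact hz2
    have heq : T = Omf := Finset.eq_of_subset_of_card_le hsub (by rw [hTcard, hOmfcard])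
    intro w hw
    have : w ∈ T := by
      rw [heq]
      simp only [Omf, Finset.mem_filter, Finset.mem_univ, true_and]
      exact hw
    simpa [T] using this
  -- counting
  let c : H → ℕ := fun w => (Finset.univ.filter (fun x : H => x ^ 2 = w)).card
  let c' : H → ℕ := fun w => (Finset.univ.filter (fun x : H => x ^ 2 = w ∧ η x = x)).card
  have hsq1 : ∀ x : H, x ^ 2 = 1 ↔ x ∈ Om := fun x => ⟨fun h => ⟨hinv x h, h⟩, fun h => h.2⟩
  have hKmem : ∀ x : H, x ∈ K ↔ (x ^ 2 = 1 ∨ x ^ 2 = z0 ∨ x ^ 2 = z1 ∨ x ^ 2 = z2) := by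
    intro x
    constructor
    · intro hx
      exact hOmEnum _ hx
    · intro hx
      show x ^ 2 ∈ Om
      rcases hx with h | h | h | h <;> rw [h]
      · exact one_mem _
      · exact hz0
      · exact hz1
      · exact hz2
  have hsplit : ∀ (p : H → Prop) [DecidablePred p],
      (Finset.univ.filter (fun x : H => (x ^ 2 = 1 ∨ x ^ 2 = z0 ∨ x ^ 2 = z1 ∨ x ^ 2 = z2) ∧ p x)).card
      = (Finset.univ.filter (fun x : H => x ^ 2 = 1 ∧ p x)).card
        + (Finset.univ.filter (fun x : H => x ^ 2 = z0 ∧ p x)).card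
        + (Finset.univ.filter (fun x : H => x ^ 2 = z1 ∧ p x)).card
        + (Finset.univ.filter (fun x : H => x ^ 2 = z2 ∧ p x)).card := by
    intro p _
    have e : (Finset.univ.filter (fun x : H =>
        (x ^ 2 = 1 ∨ x ^ 2 = z0 ∨ x ^ 2 = z1 ∨ x ^ 2 = z2) ∧ p x)) =
        ((Finset.univ.filter (fun x : H => x ^ 2 = 1 ∧ p x))
          ∪ (Finset.univ.filter (fun x : H => x ^ 2 = z0 ∧ p x)))
          ∪ (Finset.univ.filter (fun x : H => x ^ 2 = z1 ∧ p x))
          ∪ (Finset.univ.filter (fun x : H => x ^ 2 = z2 ∧ p x)) := by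
      ext x
      simp only [Finset.mem_filter, Finset.mem_univ, true_and, Finset.mem_union]
      tauto
    rw [e, Finset.card_union_of_disjoint, Finset.card_union_of_disjoint,
      Finset.card_union_of_disjoint]
    · rw [Finset.disjoint_left]
      intro x hx hx'
      simp only [Finset.mem_filter, Finset.mem_univ, true_and] at hx hx'
      exact hz01 (hx'.1.symm.trans hx.1)
    · rw [Finset.disjoint_left]
      intro x hx hx'
      simp only [Finset.mem_filter, Finset.mem_univ, true_and, Finset.mem_union] at hx hx'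
      rcases hx with hx | hx
      · exact hz11 (hx'.1.symm.trans hx.1)
      · exact hz10 (hx'.1.symm.trans hx.1)
    · rw [Finset.disjoint_left]
      intro x hx hx'
      simp only [Finset.mem_filter, Finset.mem_univ, true_and, Finset.mem_union] at hx hx'
      rcases hx with (hx | hx) | hx
      · exact hz21 (hx'.1.symm.trans hx.1)
      · exact hz20 (hx'.1.symm.trans hx.1)
      · exact hz21' (hx'.1.symm.trans hx.1)
  -- card K
  have hcK : Nat.card K = c 1 + c z0 + c z1 + c z2 := by
    rw [Nat.card_eq_fintype_card, Fintype.card_subtype]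
    have h1 := hsplit (fun _ => True)
    simp only [and_true] at h1
    rw [← h1]
    congr 1
    ext x
    simp only [Finset.mem_filter, Finset.mem_univ, true_and]
    exact hKmem x
  have hc1 : c 1 = 4 := by
    show (Finset.univ.filter (fun x : H => x ^ 2 = 1)).card = 4
    rw [← hcardOm, Nat.card_eq_fintype_card, Fintype.card_subtype]
    congr 1
    ext x
    simp only [Finset.mem_filter, Finset.mem_univ, true_and]
    exact hsq1 x
  have hcδ : ∀ w : H, c (δ w) = c w := by
    intro w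
    symm
    apply Finset.card_bij (fun x _ => δ x)
    · intro x hx
      simp only [Finset.mem_filter, Finset.mem_univ, true_and] at hx ⊢
      rw [← map_pow, hx]
    · intro x _ y _ h
      exact δ.injective h
    · intro y hy
      simp only [Finset.mem_filter, Finset.mem_univ, true_and] at hy
      refine ⟨δ⁻¹ y, ?_, by simp⟩
      simp only [Finset.mem_filter, Finset.mem_univ, true_and]
      rw [← map_pow, hy]
      simp
  -- the fixed subgroup
  let F : Subgroup H := K ⊓ (MonoidHom.eqLocus (η : MulAut H).toMonoidHom (MonoidHom.id H))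
  have hFmem : ∀ x, x ∈ F ↔ x ∈ K ∧ η x = x := by
    intro x
    rfl
  have hFK : F ≤ K := inf_le_left
  have hcF : Nat.card F = c' 1 + c' z0 + c' z1 + c' z2 := by
    rw [Nat.card_eq_fintype_card, Fintype.card_subtype]
    have h1 := hsplit (fun x => η x = x)
    rw [← h1]
    congr 1
    ext x
    simp only [Finset.mem_filter, Finset.mem_univ, true_and]
    rw [hFmem, hKmem]
  have hc'1 : c' 1 = 4 := by
    rw [← hc1]
    show (Finset.univ.filter (fun x : H => x ^ 2 = 1 ∧ η x = x)).card =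
      (Finset.univ.filter (fun x : H => x ^ 2 = 1)).card
    congr 1
    ext x
    simp only [Finset.mem_filter, Finset.mem_univ, true_and]
    constructor
    · intro h; exact h.1
    · intro h; exact ⟨h, hηOm x ((hsq1 x).mp h)⟩
  have hηperm : (MulAut.toPerm H η) ^ (3 ^ k) = 1 := by
    rw [← map_pow, hη, map_one]
  have hcong : ∀ w ∈ Om, c' w ≡ c w [MOD 3] := by
    intro w hw
    have h1 := fix_congr (MulAut.toPerm H η) k hηperm
      (Finset.univ.filter (fun x : H => x ^ 2 = w)) (by
        intro x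
        simp only [Finset.mem_filter, Finset.mem_univ, true_and]
        show (η x) ^ 2 = w ↔ x ^ 2 = w
        rw [← map_pow]
        constructor
        · intro h
          have : η (x ^ 2) = η w := by rw [h, hηOm w hw]
          exact η.injective this
        · intro h
          rw [h, hηOm w hw])
    rw [Finset.filter_filter] at h1
    exact h1
  have hdvd4 : ∀ w ∈ Om, 4 ∣ c' w := by
    intro w hw
    have h1 := card_dvd_of_mul_invariant Om
      (Finset.univ.filter (fun x : H => x ^ 2 = w ∧ η x = x)) (by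
        intro x hx u hu
        simp only [Finset.mem_filter, Finset.mem_univ, true_and] at hx ⊢
        constructor
        · have hc : Commute x u := (Subgroup.mem_center_iff.mp hu.1 x)
          rw [hc.mul_pow, hx.1, hu.2, mul_one]
        · rw [map_mul, hx.2, hηOm u hu])
    rw [hcardOm] at h1
    exact h1
  have hle : ∀ w : H, c' w ≤ c w := by
    intro w
    apply Finset.card_le_card
    intro x hx
    simp only [Finset.mem_filter, Finset.mem_univ, true_and] at hx ⊢
    exact hx.1
  obtain ⟨b, hb⟩ := (hH.to_subgroup F).exists_card_eq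
  have hba : b ≤ a := by
    have h1 : Nat.card F ≤ Nat.card K := Subgroup.card_le_of_le hFK
    rw [ha, hb] at h1
    exact (Nat.pow_le_pow_iff_right (by norm_num)).mp h1
  have hN1 : c z1 = c z0 := hcδ z0
  have hN2 : c z2 = c z0 := by rw [← hN1]; exact hcδ z1
  have e0 := hcong z0 hz0
  have e1 := hcong z1 hz1
  have e2 := hcong z2 hz2
  have d0 := hdvd4 z0 hz0
  have d1 := hdvd4 z1 hz1
  have d2 := hdvd4 z2 hz2
  have l0 := hle z0
  have l1 := hle z1
  have l2 := hle z2
  rw [ha, hc1, hN1, hN2] at hcK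
  rw [hb, hc'1] at hcF
  rw [hN1] at e1 l1
  rw [hN2] at e2 l2
  unfold Nat.ModEq at e0 e1 e2
  have hab : b = a := arith a b (c z0) (c' z0) (c' z1) (c' z2) ha6 hba hcK hcF e0 e1 e2
    d0 d1 d2 l0 l1 l2
  apply hred
  have hFeq : F = K := by
    apply Subgroup.eq_of_le_of_card_ge hFK
    rw [ha, hb, hab]
  intro x hx
  have : x ∈ F := by rw [hFeq]; exact hx
  exact ((hFmem x).mp this).2

/-- `Ω₁(Z(Q))` as a subgroup of the ambient group -/
def omegaZ {G : Type*} [Group G] (Q : Subgroup G) : Subgroup G where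
  carrier := {z | z ∈ Q ∧ (∀ q ∈ Q, q * z = z * q) ∧ z ^ 2 = 1}
  one_mem' := ⟨one_mem _, fun q _ => by simp, one_pow _⟩
  mul_mem' := by
    rintro a b ⟨ha, hac, ha2⟩ ⟨hb, hbc, hb2⟩
    refine ⟨mul_mem ha hb, ?_, ?_⟩
    · intro q hq
      rw [← mul_assoc, hac q hq, mul_assoc, hbc q hq, mul_assoc]
    · have hc : Commute a b := (hbc a ha)
      rw [hc.mul_pow, ha2, hb2, one_mul]
  inv_mem' := by
    rintro a ⟨ha, hac, ha2⟩
    refine ⟨inv_mem ha, ?_, by rw [inv_pow, ha2, inv_one]⟩
    intro q hq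
    have := hac q hq
    calc q * a⁻¹ = a⁻¹ * (a * q) * a⁻¹ := by group
      _ = a⁻¹ * (q * a) * a⁻¹ := by rw [this]
      _ = a⁻¹ * q := by group

theorem fixed_of_card_two {G : Type*} [Group G] (A : Subgroup G) (hA : Nat.card A = 2) (g : G)
    (hg : ∀ a ∈ A, g * a * g⁻¹ ∈ A) : ∀ a ∈ A, g * a * g⁻¹ = a := by
  obtain ⟨y, hy, hyu⟩ := (Nat.card_eq_two_iff' (1 : A)).mp hA
  intro a ha
  by_cases h1 : a = 1
  · rw [h1]; simp
  · have e1 : (⟨a, ha⟩ : A) = y := hyu _ (fun h => h1 (congrArg Subtype.val h))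
    have e2 : (⟨g * a * g⁻¹, hg a ha⟩ : A) = y := by
      apply hyu
      intro h
      have := congrArg Subtype.val h
      simp at this
      exact h1 this
    have := congrArg Subtype.val (e2.trans e1.symm)
    exact this

theorem hno_of_not {G : Type*} [Group G] [Finite G]
    (h : ¬ ∃ E : Subgroup G, Cfsg.IsElementaryAbelian 2 E ∧ Nat.card E = 8) :
    ∀ E : Subgroup G, (∀ a ∈ E, ∀ b ∈ E, a * b = b * a) → (∀ a ∈ E, a ^ 2 = 1) →
      Nat.card E ≤ 4 := by
  intro E hab h2
  have : Fact (Nat.Prime 2) := ⟨Nat.prime_two⟩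
  have hEp : IsPGroup 2 E := by
    intro x
    exact ⟨1, by apply Subtype.ext; simpa using h2 x x.2⟩
  obtain ⟨k, hk⟩ := hEp.exists_card_eq
  by_contra hcon
  push Not at hcon
  have hk3 : 3 ≤ k := by
    by_contra hk3
    push Not at hk3
    have : 2 ^ k ≤ 2 ^ 2 := Nat.pow_le_pow_right (by norm_num) (by omega)
    omega
  have hdvd : 2 ^ 3 ∣ Nat.card E := by rw [hk]; exact pow_dvd_pow 2 hk3
  obtain ⟨K₀, hK₀⟩ := Sylow.exists_subgroup_card_pow_prime 2 hdvd
  apply h
  refine ⟨K₀.map E.subtype, ⟨?_, ?_⟩, ?_⟩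
  · refine ⟨⟨?_⟩⟩
    rintro ⟨_, a, ha, rfl⟩ ⟨_, b, hb, rfl⟩
    apply Subtype.ext
    exact hab a a.2 b b.2
  · rintro _ ⟨a, ha, rfl⟩
    exact h2 a a.2
  · rw [Subgroup.card_map_of_injective E.subtype_injective, hK₀]; norm_num

theorem adjoin_mem {G : Type*} [Group G] [Finite G]
    (hno : ∀ E : Subgroup G, (∀ a ∈ E, ∀ b ∈ E, a * b = b * a) → (∀ a ∈ E, a ^ 2 = 1) →
      Nat.card E ≤ 4)
    (E : Subgroup G) (hab : ∀ a ∈ E, ∀ b ∈ E, a * b = b * a) (h2 : ∀ a ∈ E, a ^ 2 = 1)
    (hcard : Nat.card E = 4) (u : G) (hu2 : u ^ 2 = 1) (huc : ∀ x ∈ E, x * u = u * x) :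
    u ∈ E := by
  by_contra hu
  set E' := E ⊔ Subgroup.zpowers u with hE'
  have huC : u ∈ Subgroup.centralizer (E : Set G) := by
    rw [Subgroup.mem_centralizer_iff]; exact huc
  have hE'ab := Cfsg.Agent.S4054.abelian_sup_zpowers E hab u huC
  have hE'2 : ∀ y ∈ E', y ^ 2 = 1 := by
    have hle : E ⊔ Subgroup.zpowers u ≤ Cfsg.Agent.S4054.sqOne E' hE'ab := by
      apply sup_le
      · intro y hy
        exact ⟨Subgroup.mem_sup_left hy, h2 y hy⟩
      · rw [Subgroup.zpowers_le]
        exact ⟨Subgroup.mem_sup_right (Subgroup.mem_zpowers u), hu2⟩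
    intro y hy
    exact (hle hy).2
  have hlt : Nat.card E < Nat.card E' := by
    have hle : E ≤ E' := le_sup_left
    have hne : E ≠ E' := by
      intro h
      apply hu
      rw [h]
      exact Subgroup.mem_sup_right (Subgroup.mem_zpowers u)
    by_contra hcon
    push Not at hcon
    exact hne (Subgroup.eq_of_le_of_card_ge hle hcon)
  have := hno E' hE'ab hE'2
  omega

/-- a 2-subgroup of order at most 4 that is neither trivial nor of order 2 has order 4 -/
theorem card_eq_four {G : Type*} [Group G] [Finite G] (A : Subgroup G) (hA : IsPGroup 2 A)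
    (hle : Nat.card A ≤ 4) (h1 : A ≠ ⊥) (h2 : Nat.card A ≠ 2) : Nat.card A = 4 := by
  have : Fact (Nat.Prime 2) := ⟨Nat.prime_two⟩
  obtain ⟨k, hk⟩ := hA.exists_card_eq
  have hk2 : k ≤ 2 := by
    rw [hk] at hle
    by_contra hcon
    push Not at hcon
    have : 2 ^ 3 ≤ 2 ^ k := Nat.pow_le_pow_right (by norm_num) hcon
    omega
  have hk0 : k ≠ 0 := by
    rintro rfl
    apply h1
    rw [← Subgroup.card_eq_one]
    simpa using hk
  have hk1 : k ≠ 1 := by
    rintro rfl
    apply h2
    simpa using hk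
  have : k = 2 := by omega
  rw [hk, this]; norm_num

/-- Let G be a finite group with C_G(O₂(G)) ≤ O₂(G) containing an element of order 6, and let d be a non-identity 3-element of G normalizing a nontrivial elementary abelian 2-subgroup W with C_W(d) = 1. Then G has an elementary abelian subgroup of order 8. -/
theorem result {G : Type*} [Group G] [Finite G] (hchar : Subgroup.centralizer (Cfsg.pCore 2 G : Set G) ≤ Cfsg.pCore 2 G) (hsix : ∃ g : G, orderOf g = 6) (d : G) (hd1 : d ≠ 1) (hd : IsPGroup 3 ↥(Subgroup.zpowers d)) (W : Subgroup G) (hW : Cfsg.IsElementaryAbelian 2 W) (hW1 : W ≠ ⊥) (hdW : d ∈ Subgroup.normalizer (W : Set G)) (hfpf : W ⊓ Subgroup.centralizer {d} = ⊥) : ∃ E : Subgroup G, Cfsg.IsElementaryAbelian 2 E ∧ Nat.card E = 8 := by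
  by_contra hcon
  have : Fact (Nat.Prime 2) := ⟨Nat.prime_two⟩
  have hno := hno_of_not hcon
  have hadj := adjoin_mem hno
  obtain ⟨hWab', hW2⟩ := hW
  have hWab : ∀ a ∈ W, ∀ b ∈ W, a * b = b * a := by
    intro a ha b hb
    have := hWab'.is_comm.comm (⟨a, ha⟩ : W) ⟨b, hb⟩
    exact congrArg Subtype.val this
  have hdW' : ∀ w ∈ W, d * w * d⁻¹ ∈ W :=
    fun w hw => (Subgroup.mem_normalizer_iff.mp hdW w).mp hw
  have hWd : ∀ w ∈ W, d * w * d⁻¹ = w → w = 1 := by
    intro w hw h
    have : w ∈ W ⊓ Subgroup.centralizer {d} := by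
      refine Subgroup.mem_inf.mpr ⟨hw, ?_⟩
      rw [Subgroup.mem_centralizer_iff]
      intro y hy
      rw [Set.mem_singleton_iff] at hy
      rw [hy]
      calc d * w = d * w * d⁻¹ * d := by group
        _ = w * d := by rw [h]
    rw [hfpf, Subgroup.mem_bot] at this
    exact this
  -- Step 1
  have hWp : IsPGroup 2 W := fun x => ⟨1, by apply Subtype.ext; simpa using hW2 x x.2⟩
  have hcardW : Nat.card W = 4 := by
    apply card_eq_four W hWp (hno W hWab hW2) hW1
    intro hc2
    have hfix := fixed_of_card_two W hc2 d hdW'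
    apply hW1
    rw [Subgroup.eq_bot_iff_forall]
    intro w hw
    exact hWd w hw (hfix w hw)
  -- Step 2
  set Q := Cfsg.pCore 2 G with hQdef
  have hQn : Q.Normal := Subgroup.sSup_normal _ (fun _ h => h.1)
  have hQp : IsPGroup 2 Q := Cfsg.Agent.Helper9.pCore_isPGroup' 2 G
  obtain ⟨g, hg⟩ := hsix
  have hQne : Q ≠ ⊥ := by
    intro h
    rw [h] at hchar
    have h1 : g ∈ Subgroup.centralizer ((⊥ : Subgroup G) : Set G) := by
      rw [Subgroup.mem_centralizer_iff]
      intro y hy
      rw [SetLike.mem_coe, Subgroup.mem_bot] at hy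
      rw [hy]; simp
    have h2 := hchar h1
    rw [Subgroup.mem_bot] at h2
    rw [h2, orderOf_one] at hg
    norm_num at hg
  set Z := omegaZ Q with hZdef
  have hZQ : Z ≤ Q := fun z hz => hz.1
  have hZab : ∀ a ∈ Z, ∀ b ∈ Z, a * b = b * a := fun a ha b hb => hb.2.1 a ha.1
  have hZ2 : ∀ a ∈ Z, a ^ 2 = 1 := fun a ha => ha.2.2
  have hZconj : ∀ (x : G), ∀ z ∈ Z, x * z * x⁻¹ ∈ Z := by
    intro x z hz
    refine ⟨hQn.conj_mem z hz.1 x, ?_, ?_⟩
    · intro q hq
      have hq' : x⁻¹ * q * x ∈ Q := by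
        have := hQn.conj_mem q hq x⁻¹
        simpa using this
      have := hz.2.1 _ hq'
      calc q * (x * z * x⁻¹) = x * ((x⁻¹ * q * x) * z) * x⁻¹ := by group
        _ = x * (z * (x⁻¹ * q * x)) * x⁻¹ := by rw [this]
        _ = x * z * x⁻¹ * q := by group
    · rw [conj_pow, hz.2.2]; simp
  have hZne : Z ≠ ⊥ := by
    have hnt : Nontrivial Q := (Subgroup.nontrivial_iff_ne_bot Q).mpr hQne
    have hcn : Nontrivial (Subgroup.center Q) := hQp.center_nontrivial
    have h2 : 2 ∣ Nat.card (Subgroup.center Q) := by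
      obtain ⟨j, hj0, hj⟩ := (hQp.to_subgroup (Subgroup.center Q)).nontrivial_iff_card.mp hcn
      rw [hj]; exact dvd_pow_self 2 (by omega)
    obtain ⟨z, hz⟩ := exists_prime_orderOf_dvd_card' 2 h2
    intro hbot
    have hzZ : ((z : Q) : G) ∈ Z := by
      refine ⟨(z : Q).2, ?_, ?_⟩
      · intro q hq
        have := Subgroup.mem_center_iff.mp z.2 ⟨q, hq⟩
        exact congrArg Subtype.val this
      · have h3 := pow_orderOf_eq_one z
        rw [hz] at h3
        have h4 := congrArg Subtype.val h3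
        have h5 := congrArg Subtype.val h4
        simpa using h5
    rw [hbot, Subgroup.mem_bot] at hzZ
    have : z = 1 := Subtype.ext (Subtype.ext hzZ)
    rw [this, orderOf_one] at hz
    norm_num at hz
  have hZp : IsPGroup 2 Z := hQp.to_le hZQ
  -- Step 3
  have hcardZ : Nat.card Z = 4 := by
    apply card_eq_four Z hZp (hno Z hZab hZ2) hZne
    intro hc2
    obtain ⟨z, hzZ, hz1⟩ := (Subgroup.ne_bot_iff_exists_ne_one (H := Z)).mp hZne |>
      fun ⟨z, hz⟩ => (⟨(z : G), z.2, fun h => hz (Subtype.ext h)⟩ : ∃ z0 : G, z0 ∈ Z ∧ z0 ≠ 1)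
    have hzc : ∀ x : G, x * z * x⁻¹ = z :=
      fun x => fixed_of_card_two Z hc2 x (hZconj x) z hzZ
    have hzW : z ∈ W := hadj W hWab hW2 hcardW z (hZ2 z hzZ) (by
      intro w _
      have := hzc w
      calc w * z = w * z * w⁻¹ * w := by group
        _ = z * w := by rw [this])
    exact hz1 (hWd z hzW (hzc d))
  -- Step 4
  set C := Subgroup.centralizer (Z : Set G) with hCdef
  have hinvC : ∀ u ∈ C, u ^ 2 = 1 → u ∈ Z := by
    intro u hu hu2
    exact hadj Z hZab hZ2 hcardZ u hu2 (fun x hx => Subgroup.mem_centralizer_iff.mp hu x hx)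
  have hQC : Q ≤ C := by
    intro q hq
    rw [Subgroup.mem_centralizer_iff]
    intro z hz
    exact (hz.2.1 q hq).symm
  have hWZ : W = Z := by
    have hZn : Z.Normal := ⟨fun z hz x => hZconj x z hz⟩
    have hPp : IsPGroup 2 (W ⊔ Z : Subgroup G) := hWp.to_sup_of_normal_right hZp
    set P := W ⊔ Z with hPdef
    have hZP : Z ≤ P := le_sup_right
    have hWP : W ≤ P := le_sup_left
    have hZPne : Z.subgroupOf P ≠ ⊥ := by
      intro h
      apply hZne
      rw [Subgroup.subgroupOf_eq_bot] at h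
      exact (disjoint_of_le_iff_left_eq_bot hZP).mp h
    have hmeet := Cfsg.Agent.Helper19.normal_inf_center_ne_bot hPp (Z.subgroupOf P) hZPne
    obtain ⟨z1, hz1ne⟩ := (Subgroup.ne_bot_iff_exists_ne_one).mp hmeet
    have hz1mem := z1.2
    have hz1Z : ((z1 : P) : G) ∈ Z := (Subgroup.mem_inf.mp hz1mem).1
    have hz1c : ∀ w ∈ W, w * ((z1 : P) : G) = ((z1 : P) : G) * w := by
      intro w hw
      have := Subgroup.mem_center_iff.mp (Subgroup.mem_inf.mp hz1mem).2 ⟨w, hWP hw⟩
      exact congrArg Subtype.val this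
    have hz1W : ((z1 : P) : G) ∈ W := hadj W hWab hW2 hcardW _ (hZ2 _ hz1Z) hz1c
    have hz1ne' : ((z1 : P) : G) ≠ 1 := by
      intro h
      apply hz1ne
      apply Subtype.ext
      apply Subtype.ext
      exact h
    set I := W ⊓ Z with hIdef
    have hIne : I ≠ ⊥ := by
      intro h
      have : ((z1 : P) : G) ∈ I := Subgroup.mem_inf.mpr ⟨hz1W, hz1Z⟩
      rw [h, Subgroup.mem_bot] at this
      exact hz1ne' this
    have hIconj : ∀ a ∈ I, d * a * d⁻¹ ∈ I :=
      fun a ha => Subgroup.mem_inf.mpr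
        ⟨hdW' a (Subgroup.mem_inf.mp ha).1, hZconj d a (Subgroup.mem_inf.mp ha).2⟩
    have hIp : IsPGroup 2 I := hWp.to_le inf_le_left
    have hIle : Nat.card I ≤ 4 := by
      rw [← hcardW]; exact Subgroup.card_le_of_le inf_le_left
    have hcardI : Nat.card I = 4 := by
      apply card_eq_four I hIp hIle hIne
      intro hc2
      have hfix := fixed_of_card_two I hc2 d hIconj
      apply hIne
      rw [Subgroup.eq_bot_iff_forall]
      intro a ha
      exact hWd a (Subgroup.mem_inf.mp ha).1 (hfix a ha)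
    have hIW : I = W := Subgroup.eq_of_le_of_card_ge inf_le_left (by rw [hcardI, hcardW])
    have hIZ : I = Z := Subgroup.eq_of_le_of_card_ge inf_le_right (by rw [hcardI, hcardZ])
    rw [← hIW, hIZ]
  -- Step 5
  set y := g ^ 2 with hydef
  set t := g ^ 3 with htdef
  have hy3 : orderOf y = 3 := by
    rw [hydef, orderOf_pow' g (by norm_num), hg]
    norm_num
  have ht2 : orderOf t = 2 := by
    rw [htdef, orderOf_pow' g (by norm_num), hg]
    norm_num
  have hyt : Commute y t := by
    show y * t = t * y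
    rw [hydef, htdef, ← pow_add, ← pow_add]
  have hy3' : y ^ 3 = 1 := by rw [← hy3]; exact pow_orderOf_eq_one y
  have ht2' : t ^ 2 = 1 := by rw [← ht2]; exact pow_orderOf_eq_one t
  have ht1 : t ≠ 1 := by
    intro h
    rw [h, orderOf_one] at ht2
    norm_num at ht2
  have hz0 : ∃ z0 ∈ Z, z0 ≠ 1 ∧ Commute y z0 := by
    by_cases htC : t ∈ C
    · exact ⟨t, hinvC t htC ht2', ht1, hyt⟩
    · rw [hCdef, Subgroup.mem_centralizer_iff] at htC
      push Not at htC
      obtain ⟨z, hzZ, hzt⟩ := htC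
      set z' := t * z * t⁻¹ with hz'
      have hz'Z : z' ∈ Z := hZconj t z hzZ
      set z0 := z * z' with hz0def
      have hz0Z : z0 ∈ Z := mul_mem hzZ hz'Z
      have hzz : z * z = 1 := by rw [← pow_two]; exact hZ2 z hzZ
      have hz01 : z0 ≠ 1 := by
        intro h
        have h1 : z' = z := by
          have : z * z' = z * z := by rw [hzz]; exact h
          exact mul_left_cancel this
        apply hzt
        calc z * t = (t * z * t⁻¹) * t := by rw [← hz', h1]
          _ = t * z := by group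
      have htz' : t * z' * t⁻¹ = z := by
        rw [hz']
        calc t * (t * z * t⁻¹) * t⁻¹ = (t * t) * z * (t * t)⁻¹ := by group
          _ = z := by rw [← pow_two, ht2']; simp
      have htz0 : t * z0 * t⁻¹ = z0 := by
        calc t * z0 * t⁻¹ = (t * z * t⁻¹) * (t * z' * t⁻¹) := by rw [hz0def]; group
          _ = z' * z := by rw [htz']
          _ = z * z' := hZab z' hz'Z z hzZ
      have htz0c : Commute t z0 := by
        show t * z0 = z0 * t
        calc t * z0 = t * z0 * t⁻¹ * t := by group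
          _ = z0 * t := by rw [htz0]
      set A := Z ⊓ Subgroup.centralizer {t} with hAdef
      have hAmem : ∀ a, a ∈ A ↔ a ∈ Z ∧ Commute t a := by
        intro a
        rw [hAdef, Subgroup.mem_inf, Subgroup.mem_centralizer_iff]
        constructor
        · rintro ⟨h1, h2⟩
          exact ⟨h1, h2 t rfl⟩
        · rintro ⟨h1, h2⟩
          refine ⟨h1, ?_⟩
          intro x hx
          rw [Set.mem_singleton_iff] at hx
          rw [hx]; exact h2
      have hz0A : z0 ∈ A := (hAmem z0).mpr ⟨hz0Z, htz0c⟩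
      have hzA : z ∉ A := by
        intro h
        exact hzt ((hAmem z).mp h).2.symm
      have hAp : IsPGroup 2 A := hZp.to_le inf_le_left
      have hAne : A ≠ ⊥ := by
        intro h
        rw [h, Subgroup.mem_bot] at hz0A
        exact hz01 hz0A
      have hAle : Nat.card A ≤ 4 := by
        rw [← hcardZ]; exact Subgroup.card_le_of_le inf_le_left
      have hcardA : Nat.card A = 2 := by
        by_contra hne
        have h4 := card_eq_four A hAp hAle hAne hne
        have hAZ : A = Z := Subgroup.eq_of_le_of_card_ge inf_le_left (by rw [h4, hcardZ])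
        apply hzA
        rw [hAZ]; exact hzZ
      have hAy : ∀ a ∈ A, y * a * y⁻¹ ∈ A := by
        intro a ha
        obtain ⟨haZ, hta⟩ := (hAmem a).mp ha
        refine (hAmem _).mpr ⟨hZconj y a haZ, ?_⟩
        exact ((hyt.symm.mul_right hta).mul_right hyt.symm.inv_right)
      have hfix := fixed_of_card_two A hcardA y hAy z0 hz0A
      refine ⟨z0, hz0Z, hz01, ?_⟩
      show y * z0 = z0 * y
      calc y * z0 = y * z0 * y⁻¹ * y := by group
        _ = z0 * y := by rw [hfix]
  obtain ⟨z0, hz0Z, hz01, hyz0⟩ := hz0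
  have hyZ : ∀ z ∈ Z, y * z = z * y := by
    set R := Subgroup.zpowers z0 with hRdef
    have hRZ : R ≤ Z := by rw [hRdef, Subgroup.zpowers_le]; exact hz0Z
    have hz0ord : orderOf z0 = 2 := orderOf_eq_prime (hZ2 z0 hz0Z) hz01
    have hcardR : Nat.card R = 2 := by rw [hRdef, Nat.card_zpowers, hz0ord]
    have hidx : (R.subgroupOf Z).index = 2 := by
      have h1 := Subgroup.index_mul_card (R.subgroupOf Z)
      rw [Nat.card_congr (Subgroup.subgroupOfEquivOfLe hRZ).toEquiv, hcardR, hcardZ] at h1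
      omega
    have hcent := Cfsg.Agent.S3703.centralizes_of_stab (Subgroup.zpowers y) Z R
      (by
        intro k hk r hr
        have hk1 : orderOf k ∣ 3 := by rw [← hy3]; exact orderOf_dvd_of_mem_zpowers hk
        have hr1 : orderOf r ∣ 2 := by rw [← hz0ord]; exact orderOf_dvd_of_mem_zpowers hr
        exact Nat.Coprime.coprime_dvd_left hk1 (Nat.Coprime.coprime_dvd_right hr1 (by norm_num)))
      (by
        intro k hk r hr
        obtain ⟨i, rfl⟩ := Subgroup.mem_zpowers_iff.mp hk
        obtain ⟨j, rfl⟩ := Subgroup.mem_zpowers_iff.mp hr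
        exact (hyz0.zpow_zpow i j))
      (by
        intro k hk u hu
        have hkR : ∀ r ∈ R, Commute k r := by
          intro r hr
          obtain ⟨i, rfl⟩ := Subgroup.mem_zpowers_iff.mp hk
          obtain ⟨j, rfl⟩ := Subgroup.mem_zpowers_iff.mp hr
          exact (hyz0.zpow_zpow i j)
        have hv : k * u * k⁻¹ ∈ Z := hZconj k u hu
        have hiff : u ∈ R ↔ k * u * k⁻¹ ∈ R := by
          constructor
          · intro h
            have : k * u * k⁻¹ = u := by
              rw [(hkR u h).eq, mul_assoc, mul_inv_cancel, mul_one]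
            rw [this]; exact h
          · intro h
            have h2 : Commute k (k * u * k⁻¹) := hkR _ h
            have h3 : k * u * k⁻¹ = u := by
              have e := h2.eq
              have : k * u = u * k := by
                calc k * u = k⁻¹ * (k * (k * u * k⁻¹)) * k := by group
                  _ = k⁻¹ * ((k * u * k⁻¹) * k) * k := by rw [e]
                  _ = u * k := by group
              rw [this, mul_assoc, mul_inv_cancel, mul_one]
            rw [← h3]; exact h
        have h1 := Subgroup.mul_mem_iff_of_index_two hidx (a := (⟨u, hu⟩ : Z)⁻¹)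
          (b := ⟨k * u * k⁻¹, hv⟩)
        have h2 : (⟨u, hu⟩ : Z)⁻¹ * ⟨k * u * k⁻¹, hv⟩ ∈ R.subgroupOf Z := by
          rw [h1, Subgroup.inv_mem_iff]
          simp only [Subgroup.mem_subgroupOf]
          exact hiff
        simpa [Subgroup.mem_subgroupOf] using h2)
    intro z hz
    exact hcent y (Subgroup.mem_zpowers y) z hz
  -- d acts without fixed points on Q
  have hQd : ∀ x ∈ Q, d * x = x * d → x = 1 := by
    intro x hxQ hxd
    by_contra hx1
    set B := Q ⊓ Subgroup.centralizer {d} with hB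
    have hxB : x ∈ B := by
      refine Subgroup.mem_inf.mpr ⟨hxQ, ?_⟩
      rw [Subgroup.mem_centralizer_iff]
      intro w hw
      rw [Set.mem_singleton_iff] at hw
      rw [hw]; exact hxd
    have hBp : IsPGroup 2 B := hQp.to_le inf_le_left
    have hBnt : Nontrivial B :=
      ⟨⟨⟨x, hxB⟩, 1, fun h => hx1 (congrArg Subtype.val h)⟩⟩
    obtain ⟨m, hm0, hm⟩ := hBp.nontrivial_iff_card.mp hBnt
    have h2 : 2 ∣ Nat.card B := by rw [hm]; exact dvd_pow_self 2 (by omega)
    obtain ⟨u, hu⟩ := exists_prime_orderOf_dvd_card' 2 h2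
    have hu2 : (u : G) ^ 2 = 1 := by
      have h3 := pow_orderOf_eq_one u
      rw [hu] at h3
      have h4 := congrArg Subtype.val h3
      simpa using h4
    have huQ : (u : G) ∈ Q := (Subgroup.mem_inf.mp u.2).1
    have huZ : (u : G) ∈ Z := hinvC _ (hQC huQ) hu2
    have huW : (u : G) ∈ W := by rw [hWZ]; exact huZ
    have hud : d * (u : G) * d⁻¹ = u := by
      have := Subgroup.mem_centralizer_iff.mp (Subgroup.mem_inf.mp u.2).2 d rfl
      rw [this]; group
    have h5 := hWd _ huW hud
    have h6 : u = 1 := Subtype.ext h5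
    rw [h6, orderOf_one] at hu
    norm_num at hu
  -- the critical subgroup
  obtain ⟨H, hHQ, hHnorm, hHsq, hHcomm, hHcc, hHcent⟩ := Cfsg.Agent.S3738.critical_in Q hQp
  have hnormQ : ∀ x : G, x ∈ Subgroup.normalizer (Q : Set G) := by
    intro x
    rw [Subgroup.normalizer_eq_top]
    exact Subgroup.mem_top x
  have hHn : ∀ x : G, x ∈ Subgroup.normalizer (H : Set G) := by
    intro x
    rw [Subgroup.mem_normalizer_iff]
    intro h
    constructor
    · intro hh; exact hHnorm x (hnormQ x) h hh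
    · intro hh
      have := hHnorm x⁻¹ (hnormQ x⁻¹) _ hh
      simpa [mul_assoc] using this
  have hHp : IsPGroup 2 H := hQp.to_le hHQ
  let δ : MulAut H := H.normalizerMonoidHom ⟨d, hHn d⟩
  let η : MulAut H := H.normalizerMonoidHom ⟨y, hHn y⟩
  have hδapp : ∀ x : H, ((δ x : H) : G) = d * x * d⁻¹ := fun x => rfl
  have hηapp : ∀ x : H, ((η x : H) : G) = y * x * y⁻¹ := fun x => rfl
  have hη3 : η ^ (3 ^ 1) = 1 := by
    rw [pow_one]
    have h1 : η ^ 3 = H.normalizerMonoidHom (⟨y, hHn y⟩ ^ 3) := (map_pow _ _ _).symm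
    rw [h1]
    have h2 : (⟨y, hHn y⟩ : Subgroup.normalizer (H : Set G)) ^ 3 = 1 := by
      apply Subtype.ext
      simpa using hy3'
    rw [h2, map_one]
  have hsq : ∀ x : H, x ^ 2 ∈ Subgroup.center H := by
    intro x
    rw [Subgroup.mem_center_iff]
    intro g
    apply Subtype.ext
    have := hHsq x x.2 g g.2
    simpa using this.symm
  have hcm : ∀ x y : H, ⁅x, y⁆ ∈ Subgroup.center H := by
    intro x y
    rw [Subgroup.mem_center_iff]
    intro g
    apply Subtype.ext
    have := hHcc x x.2 y (hHQ y.2) g g.2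
    simpa [commutatorElement_def] using this.symm
  have hrk : ∀ A : Subgroup H, (∀ a ∈ A, ∀ b ∈ A, a * b = b * a) → (∀ a ∈ A, a ^ 2 = 1) →
      Nat.card A ≤ 4 := by
    intro A hAab hA2
    have h1 := hno (A.map H.subtype) (by
      rintro _ ⟨a, ha, rfl⟩ _ ⟨b, hb, rfl⟩
      have := congrArg Subtype.val (hAab a ha b hb)
      simpa using this) (by
      rintro _ ⟨a, ha, rfl⟩
      have := congrArg Subtype.val (hA2 a ha)
      simpa using this)
    rwa [Subgroup.card_map_of_injective H.subtype_injective] at h1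
  have hinv : ∀ x : H, x ^ 2 = 1 → x ∈ Subgroup.center H := by
    intro x hx2
    have hx2' : (x : G) ^ 2 = 1 := by
      have := congrArg Subtype.val hx2
      simpa using this
    have hxZ : (x : G) ∈ Z := hinvC _ (hQC (hHQ x.2)) hx2'
    rw [Subgroup.mem_center_iff]
    intro h
    apply Subtype.ext
    exact hxZ.2.1 (h : G) (hHQ h.2)
  have hfp : ∀ x : H, δ x = x → x = 1 := by
    intro x hx
    have h1 : d * (x : G) * d⁻¹ = x := by rw [← hδapp, hx]
    have h2 : d * (x : G) = x * d := by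
      calc d * (x : G) = d * x * d⁻¹ * d := by group
        _ = x * d := by rw [h1]
    exact Subtype.ext (hQd _ (hHQ x.2) h2)
  have hηOm : ∀ z ∈ Cfsg.Agent.S4054.omegaCenter H, η z = z := by
    intro z hz
    have hz2 : (z : G) ^ 2 = 1 := by
      have := congrArg Subtype.val hz.2
      simpa using this
    have hzZ : (z : G) ∈ Z := hinvC _ (hQC (hHQ z.2)) hz2
    apply Subtype.ext
    rw [hηapp, hyZ _ hzZ, mul_assoc, mul_inv_cancel, mul_one]
  have hη1 := main2 hHp δ η 1 hη3 hsq hcm hrk hinv hfp hηOm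
  have hyH : ∀ h ∈ H, y * h = h * y := by
    intro h hh
    have h3 := hηapp ⟨h, hh⟩
    rw [hη1] at h3
    have h4 : h = y * h * y⁻¹ := h3
    calc y * h = y * h * y⁻¹ * y := by group
      _ = h * y := by rw [← h4]
  have hHnormal : ∀ u ∈ Q, ∀ h ∈ H, u * h * u⁻¹ ∈ H :=
    fun u _ h hh => hHnorm u (hnormQ u) h hh
  have hcent := Cfsg.Agent.S3703.centralizes_of_stab (Subgroup.zpowers y) Q H
    (by
      intro k hk r hr
      obtain ⟨i, hi⟩ := (IsPGroup.iff_orderOf.mp hHp) ⟨r, hr⟩
      have hr' : orderOf r = 2 ^ i := by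
        rw [← hi]; exact (Subgroup.orderOf_mk r hr).symm
      rw [hr']
      have hk1 : orderOf k ∣ 3 := by rw [← hy3]; exact orderOf_dvd_of_mem_zpowers hk
      exact Nat.Coprime.coprime_dvd_left hk1 (Nat.Coprime.pow_right _ (by norm_num)))
    (by
      intro k hk r hr
      obtain ⟨i, rfl⟩ := Subgroup.mem_zpowers_iff.mp hk
      have : Commute y r := hyH r hr
      exact (this.zpow_left i))
    (by
      intro k hk u hu
      have hkc : ∀ h ∈ H, k * h = h * k := by
        intro r hr
        obtain ⟨i, rfl⟩ := Subgroup.mem_zpowers_iff.mp hk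
        have : Commute y r := hyH r hr
        exact (this.zpow_left i)
      apply hHcent
      · exact mul_mem (inv_mem hu) (hQn.conj_mem u hu k)
      · intro h hh
        have e1 : u * h * u⁻¹ ∈ H := hHnormal u hu h hh
        have e2 := hkc _ e1
        have e3 := hkc h hh
        have e4 : k⁻¹ * h = h * k⁻¹ := by
          calc k⁻¹ * h = k⁻¹ * (h * k) * k⁻¹ := by group
            _ = k⁻¹ * (k * h) * k⁻¹ := by rw [e3]
            _ = h * k⁻¹ := by group
        calc u⁻¹ * (k * u * k⁻¹) * h = u⁻¹ * k * u * (k⁻¹ * h) := by group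
          _ = u⁻¹ * k * u * (h * k⁻¹) := by rw [e4]
          _ = u⁻¹ * (k * (u * h * u⁻¹)) * u * k⁻¹ := by group
          _ = u⁻¹ * ((u * h * u⁻¹) * k) * u * k⁻¹ := by rw [e2]
          _ = h * (u⁻¹ * (k * u * k⁻¹)) := by group)
  have hyQ : y ∈ Subgroup.centralizer (Q : Set G) := by
    rw [Subgroup.mem_centralizer_iff]
    intro u hu
    exact (hcent y (Subgroup.mem_zpowers _) u hu).symm
  have hyQ' : y ∈ Q := hchar hyQ
  obtain ⟨j, hj⟩ := (IsPGroup.iff_orderOf.mp hQp) ⟨y, hyQ'⟩
  have hj' : orderOf y = 2 ^ j := by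
    rw [← hj]; exact (Subgroup.orderOf_mk y hyQ').symm
  rw [hy3] at hj'
  rcases j with _ | j
  · norm_num at hj'
  · rw [pow_succ] at hj'
    omega

end Cfsg.Agent.S3739
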