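import Mathlib
import Cfsg.Statements.S3740
import Cfsg.Agent.Lib.Helper15.SL2P
import Cfsg.Agent.Lib.Helper16.SL23Recog

set_option autoImplicit false
open Cfsg

namespace Cfsg.Agent.S3740

open Cfsg.Agent.Helper15 Cfsg.Agent.Helper15.SL2Mat Cfsg.Agent.Helper15.ConjAut
  Cfsg.Agent.Helper15.SL2P Cfsg.Agent.Helper16

/-- Let F be a finite field of odd characteristic p and let a be a p-element of SL₂(F) normalizing a subgroup R of order prime to p with [R, a] ≠ 1. Then p = 3, R is a quaternion group of order 8, and R⟨a⟩ is isomorphic to SL₂(3). -/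
theorem result (F : Type) [Field F] [Fintype F] {p : ℕ} [Fact p.Prime] [CharP F p] (hp : p ≠ 2) (a : Matrix.SpecialLinearGroup (Fin 2) F) (ha : IsPGroup p ↥(Subgroup.zpowers a)) (R : Subgroup (Matrix.SpecialLinearGroup (Fin 2) F)) (hR : (Nat.card R).Coprime p) (haR : a ∈ Subgroup.normalizer (R : Set (Matrix.SpecialLinearGroup (Fin 2) F))) (hnt : ⁅R, Subgroup.zpowers a⁆ ≠ ⊥) : p = 3 ∧ Nonempty (↥R ≃* QuaternionGroup 2) ∧ Nonempty (↥(R ⊔ Subgroup.zpowers a) ≃* Matrix.SpecialLinearGroup (Fin 2) (ZMod 3)) := by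
  have hpp : p.Prime := Fact.out
  have h20 := two_ne_zero_of_char (F := F) hp
  have ha1 : a ≠ 1 := by
    intro h
    apply hnt
    rw [h, Subgroup.zpowers_one_eq_bot]
    exact Subgroup.commutator_bot_right R
  have hap : a ^ p = 1 := pow_char_eq_one a (tr_a a ha)
  have hR2 : IsPGroup 2 R := isPGroup_two hp a ha R hR ha1 haR
  have hU : UniqueOrderP 2 R := uniqueOrderP R h20
  set φ : MulAut R := conjAut R a haR with hφdef
  have hφp : φ ^ p = 1 := conjAut_pow_eq_one R a haR hap
  have hφne : φ ≠ 1 := fun h => hnt (commutator_eq_bot_of_conjAut_eq_one R a haR h)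
  have hodd : Odd p := hpp.odd_of_ne_two hp
  obtain ⟨⟨e⟩, h3p, hφ3, hstruct⟩ := UIAut.main hR2 hU φ hodd hφp hφne
  have hp3 : p = 3 := ((Nat.prime_dvd_prime_iff_eq Nat.prime_three hpp).mp h3p).symm
  refine ⟨hp3, ⟨e⟩, ?_⟩
  have ha3 : a ^ 3 = 1 := by rw [← hp3]; exact hap
  have hao : orderOf a = 3 := by
    have h1 : orderOf a ∣ 3 := orderOf_dvd_of_pow_eq_one ha3
    rcases (Nat.dvd_prime Nat.prime_three).mp h1 with h | h
    · exact absurd (orderOf_eq_one_iff.mp h) ha1
    · exact h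
  -- order of `R ⊔ ⟨a⟩`
  have hcardR : Nat.card R = 8 := by
    rw [Nat.card_congr e.toEquiv, UIAut.quaternion_nat_card]
  have hinf : Subgroup.zpowers a ⊓ R = ⊥ := by
    have hcop : (Nat.card (Subgroup.zpowers a)).Coprime (Nat.card R) := by
      rw [Nat.card_zpowers, hao, hcardR]; decide
    exact (Subgroup.disjoint_of_coprime_natCard hcop).eq_bot
  have hcardH : Nat.card ↥(R ⊔ Subgroup.zpowers a) = 24 := by
    rw [sup_comm, card_sup_of_le_normalizer (Subgroup.zpowers a) R
      (by rw [Subgroup.zpowers_le]; exact haR) hinf, Nat.card_zpowers, hao, hcardR]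
  -- elements
  obtain ⟨x, hx⟩ := UIAut.exists_sq_ne_one_of_equiv e
  obtain ⟨h1, h2, h3⟩ := hstruct x hx
  obtain ⟨y, hydef⟩ : ∃ y : R, y = φ x := ⟨_, rfl⟩
  rw [← hydef] at h1 h2 h3
  have hy : y ^ 2 ≠ 1 := by
    intro h
    apply hx
    apply φ.injective
    rw [map_pow, map_one, ← hydef]; exact h
  obtain ⟨f1, f2⟩ := UIAut.facts_of_equiv e x y hx hy h1 h2
  have hxo : orderOf x = 4 := UIAut.orderOf_of_equiv e hx
  -- the embedding of `R` and `a` in `H`
  set H : Subgroup (Matrix.SpecialLinearGroup (Fin 2) F) := R ⊔ Subgroup.zpowers a with hHdef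
  let ι : R →* H := Subgroup.inclusion le_sup_left
  have hι : Function.Injective ι := Subgroup.inclusion_injective le_sup_left
  let c : H := ⟨a, Subgroup.mem_sup_right (Subgroup.mem_zpowers a)⟩
  have hco : orderOf c = 3 := by
    rw [← hao]; exact (Subgroup.orderOf_coe c).symm ▸ rfl
  have hcφ : ∀ u : R, c * ι u * c⁻¹ = ι (φ u) := by
    intro u
    apply Subtype.ext
    simp [c, ι, hφdef, conjAut_apply_coe]
  rcases h3 with h3 | h3
  · -- `Rel (ι x) (ι y) c`
    have hrel : SL23.Rel (ι x) (ι y) c := by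
      refine ⟨?_, ?_, ?_, hco, ?_, ?_⟩
      · rw [orderOf_injective ι hι]; exact hxo
      · rw [← map_pow, ← map_pow, f2]
      · rw [← map_inv, ← map_mul, ← map_mul, f1, map_inv]
      · rw [hcφ, hydef]
      · rw [hcφ, ← map_mul, h3]
    exact SL23.nonempty_mulEquiv_SL23_of_card hrel hcardH
  · -- use `a⁻¹` and `w = φ (φ x)`
    obtain ⟨w, hwdef⟩ : ∃ w : R, w = φ y := ⟨_, rfl⟩
    rw [← hwdef] at h3
    have hw : w ^ 2 ≠ 1 := by
      intro h
      apply hy
      apply φ.injective
      rw [map_pow, map_one, ← hwdef]; exact h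
    have hwx : w = (x * y)⁻¹ := h3
    have hx4 : x ^ 4 = 1 := UIAut.pow_four_of_equiv e x
    have hw1 : w ≠ x := by
      intro h
      rw [hwx] at h
      -- `(x y)⁻¹ = x` gives `y = x⁻²`
      have : y = (x ^ 2)⁻¹ := by
        have h' : x * y = x⁻¹ := by rw [← inv_inv (x * y), h]
        calc y = x⁻¹ * (x * y) := by group
          _ = x⁻¹ * x⁻¹ := by rw [h']
          _ = (x ^ 2)⁻¹ := by group
      apply hy
      rw [this, inv_pow, ← pow_mul, hx4, inv_one]
    have hw2 : w ≠ x⁻¹ := by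
      intro h
      rw [hwx] at h
      have h' : x * y = x := inv_injective h
      apply hy
      have : y = 1 := by
        calc y = x⁻¹ * (x * y) := by group
          _ = 1 := by rw [h']; group
      rw [this, one_pow]
    obtain ⟨g1, g2⟩ := UIAut.facts_of_equiv e x w hx hw hw1 hw2
    -- `x y x⁻¹ = y⁻¹`
    obtain ⟨k1, -⟩ := UIAut.facts_of_equiv e y x hy hx (Ne.symm h1)
      (fun h => h2 (by rw [h, inv_inv]))
    have hφw : φ w = x := by
      have := congrArg (fun f : MulAut R => f x) hφ3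
      rw [hwdef, hydef]
      simpa [pow_succ, MulAut.mul_apply] using this
    have hcinv : ∀ u : R, c⁻¹ * ι (φ u) * (c⁻¹)⁻¹ = ι u := by
      intro u
      rw [← hcφ]; group
    have hrel : SL23.Rel (ι x) (ι w) c⁻¹ := by
      refine ⟨?_, ?_, ?_, ?_, ?_, ?_⟩
      · rw [orderOf_injective ι hι]; exact hxo
      · rw [← map_pow, ← map_pow, g2]
      · rw [← map_inv, ← map_mul, ← map_mul, g1, map_inv]
      · rw [orderOf_inv]; exact hco
      · have := hcinv w
        rw [hφw] at this
        exact this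
      · have := hcinv y
        rw [← hwdef] at this
        rw [this, ← map_mul]
        congr 1
        -- `y = x * w = x * (x y)⁻¹`
        rw [hwx]
        calc y = (x * y * x⁻¹)⁻¹ := by rw [k1, inv_inv]
          _ = x * (x * y)⁻¹ := by group
    exact SL23.nonempty_mulEquiv_SL23_of_card hrel hcardH

end Cfsg.Agent.S3740
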