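import Mathlib
import Cfsg.Statements.S3741
import Cfsg.Agent.Lib.Helper19.PGroupBasic
import Cfsg.Agent.Lib.Helper19.CommPairing

set_option autoImplicit false
open Cfsg

namespace Cfsg.Agent.S3741

/-- Let A and B be subgroups of a finite p-group with [A, B] ≤ A ∩ B and [A, B] of order at most p. Then |A : C_A(B)| = |B : C_B(A)|. -/
theorem result {G : Type*} [Group G] [Finite G] {p : ℕ} [Fact p.Prime] (hG : IsPGroup p G) (A B : Subgroup G) (hAB : ⁅A, B⁆ ≤ A ⊓ B) (hcard : Nat.card ↥⁅A, B⁆ ≤ p) : (A ⊓ Subgroup.centralizer (B : Set G)).relIndex A = (B ⊓ Subgroup.centralizer (A : Set G)).relIndex B := by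
  have hp : p.Prime := Fact.out
  by_cases hbot : ⁅A, B⁆ = ⊥
  · have h1 : A ≤ Subgroup.centralizer (B : Set G) :=
      Subgroup.commutator_eq_bot_iff_le_centralizer.mp hbot
    have h2 : B ≤ Subgroup.centralizer (A : Set G) := Subgroup.le_centralizer_iff.mp h1
    rw [inf_eq_left.mpr h1, inf_eq_left.mpr h2, Subgroup.relIndex_self, Subgroup.relIndex_self]
  have hZcard : Nat.card ↥⁅A, B⁆ = p := by
    obtain ⟨k, hk⟩ := (hG.to_subgroup ⁅A, B⁆).exists_card_eq
    have hk1 : k ≠ 0 := by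
      rintro rfl
      rw [pow_zero] at hk
      exact hbot (Subgroup.card_eq_one.mp hk)
    have hk2 : k ≤ 1 := by
      by_contra h
      push Not at h
      have h2 : p ^ 2 ≤ p ^ k := Nat.pow_le_pow_right hp.pos h
      rw [← hk] at h2
      nlinarith [hp.one_lt]
    have : k = 1 := by omega
    rw [hk, this, pow_one]
  have hZA : ⁅A, B⁆ ≤ A := le_trans hAB inf_le_left
  have hZB : ⁅A, B⁆ ≤ B := le_trans hAB inf_le_right
  have hcomm : ∀ a ∈ A, ∀ b ∈ B, a * b * a⁻¹ * b⁻¹ ∈ ⁅A, B⁆ := by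
    intro a ha b hb
    have := Subgroup.commutator_mem_commutator ha hb
    rwa [commutatorElement_def] at this
  have hAn : A ≤ Subgroup.normalizer ((⁅A, B⁆ : Subgroup G) : Set G) := by
    rw [Subgroup.le_normalizer_iff]
    intro a ha z hz
    have h1 := hcomm a ha z (hZB hz)
    have := (⁅A, B⁆).mul_mem h1 hz
    have e : a * z * a⁻¹ * z⁻¹ * z = a * z * a⁻¹ := by group
    rwa [e] at this
  have hBn : B ≤ Subgroup.normalizer ((⁅A, B⁆ : Subgroup G) : Set G) := by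
    rw [Subgroup.le_normalizer_iff]
    intro b hb z hz
    have h1 := hcomm z (hZA hz) b hb
    have := (⁅A, B⁆).mul_mem ((⁅A, B⁆).inv_mem h1) hz
    have e : (z * b * z⁻¹ * b⁻¹)⁻¹ * z = b * z * b⁻¹ := by group
    rwa [e] at this
  have hLn : A ⊔ B ≤ Subgroup.normalizer ((⁅A, B⁆ : Subgroup G) : Set G) := sup_le hAn hBn
  have hZL : ⁅A, B⁆ ≤ A ⊔ B := le_trans hZA le_sup_left
  have hnorm : ((⁅A, B⁆).subgroupOf (A ⊔ B)).Normal :=
    (Subgroup.normal_subgroupOf_iff_le_normalizer hZL).mpr hLn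
  have hcardL : Nat.card ((⁅A, B⁆).subgroupOf (A ⊔ B)) = p := by
    rw [Nat.card_congr (Subgroup.subgroupOfEquivOfLe hZL).toEquiv, hZcard]
  have hcen := Cfsg.Agent.Helper19.normal_card_prime_le_center (hG.to_subgroup (A ⊔ B))
    ((⁅A, B⁆).subgroupOf (A ⊔ B)) hcardL
  have hZL' : ∀ l ∈ A ⊔ B, ∀ z ∈ ⁅A, B⁆, l * z = z * l := by
    intro l hl z hz
    have h1 : (⟨z, hZL hz⟩ : ↥(A ⊔ B)) ∈ Subgroup.center ↥(A ⊔ B) :=
      hcen (show (⟨z, hZL hz⟩ : ↥(A ⊔ B)) ∈ (⁅A, B⁆).subgroupOf (A ⊔ B) from hz)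
    have := Subgroup.mem_center_iff.mp h1 ⟨l, hl⟩
    exact congrArg Subtype.val this
  exact Cfsg.Agent.Helper19.relIndex_centralizer_eq_of_pairing hp A ⁅A, B⁆ hZcard
    (fun a ha => hZL' a (le_sup_left (a := A) (b := B) ha)) _ B rfl
    (fun b hb => hZL' b (le_sup_right (a := A) (b := B) hb)) hcomm

end Cfsg.Agent.S3741
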