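import Mathlib
import Cfsg.Statements.S3743
import Cfsg.Agent.Lib.Helper19.SubnormalCore
import Cfsg.Agent.Lib.Helper7.Fitting

set_option autoImplicit false
open Cfsg

namespace Cfsg.Agent.S3743

open Cfsg.Agent.Helper19

theorem card_sup_dvd_mul {G : Type*} [Group G] (a b : Subgroup G) [hb : b.Normal] :
    Nat.card (a ⊔ b : Subgroup G) ∣ Nat.card a * Nat.card b := by
  have h1 : Nat.card b * b.relIndex (a ⊔ b) = Nat.card (a ⊔ b : Subgroup G) := by
    have := Subgroup.relIndex_mul_relIndex (⊥ : Subgroup G) b (a ⊔ b) bot_le le_sup_right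
    rw [Subgroup.relIndex_bot_left, Subgroup.relIndex_bot_left] at this
    exact this
  rw [← h1, Subgroup.relIndex_sup_right, mul_comm]
  exact Nat.mul_dvd_mul_right (Subgroup.relIndex_dvd_card b a) _

/-- In a finite group G, every subnormal nilpotent subgroup lies in the Fitting subgroup F(G), and, for a set of primes π, every subnormal subgroup all of whose prime divisors lie in π lies in O_π(G). -/
theorem result {G : Type*} [Group G] [Finite G] (A : Subgroup G) (hA : A.IsSubnormal) : (Group.IsNilpotent A → A ≤ Cfsg.fittingSubgroup G) ∧ ∀ π : Set ℕ, (∀ p : ℕ, p.Prime → p ∣ Nat.card A → p ∈ π) → A ≤ Cfsg.piCore π G := by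
  constructor
  · intro hnil
    have := subnormal_le_qCore (Q := fun H _ => Group.IsNilpotent H)
      (fun H H' _ _ e h => (Group.isNilpotent_congr e).mp h)
      (fun H _ => inferInstance)
      (fun H _ _ M N hM hN hQM hQN => by
        have := hM; have := hN
        exact Cfsg.Agent.Helper7.isNilpotent_sup_of_normal M N hQM hQN)
      (Nat.card G) G rfl A hA hnil
    exact this
  · intro π hπ
    have := subnormal_le_qCore (Q := fun H _ => ∀ p : ℕ, p.Prime → p ∣ Nat.card H → p ∈ π)
      (fun H H' _ _ e h p hp hdvd => h p hp (by rwa [Nat.card_congr e.toEquiv]))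
      (fun H _ p hp hdvd => by
        rw [Subgroup.card_bot] at hdvd
        exact absurd (Nat.dvd_one.mp hdvd) hp.one_lt.ne')
      (fun H _ _ M N hM hN hQM hQN p hp hdvd => by
        have := hN
        have h1 := dvd_trans hdvd (card_sup_dvd_mul M N)
        rcases hp.dvd_mul.mp h1 with h | h
        · exact hQM p hp h
        · exact hQN p hp h)
      (Nat.card G) G rfl A hA hπ
    exact this

end Cfsg.Agent.S3743
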