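import Mathlib
import Cfsg.Statements.S3744
import Cfsg.Agent.Lib.Helper1.Coprime
import Cfsg.Agent.Lib.Helper23.PSolvable
import Cfsg.Agent.Lib.Helper19.Conj
import Cfsg.Agent.Lib.Helper19.CardProd

set_option autoImplicit false
open Cfsg

namespace Cfsg.Agent.S3744

universe u

/-- `H` is a `p`-complement. -/
def IsPC (p : ℕ) {G : Type*} [Group G] (H : Subgroup G) : Prop :=
  (Nat.card H).Coprime p ∧ ∃ n : ℕ, H.index = p ^ n

/-- A nontrivial `p`-solvable group has a nontrivial normal `p`- or `p'`-subgroup. -/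
theorem exists_normal_of_isPSolvable {G : Type*} [Group G] [Nontrivial G] {p : ℕ}
    (hG : IsPSolvable p G) :
    ∃ N : Subgroup G, N.Normal ∧ N ≠ ⊥ ∧
      ((∃ m : ℕ, Nat.card N = p ^ m) ∨ (Nat.card N).Coprime p) := by
  obtain ⟨n, H, h0, hlast, _, hnorm, hstep⟩ := hG
  by_contra hcon
  push Not at hcon
  have key : ∀ i : ℕ, ∀ hi : i < n + 1, H ⟨i, hi⟩ = ⊥ := by
    intro i
    induction i with
    | zero =>
      intro hi
      have : (⟨0, hi⟩ : Fin (n + 1)) = 0 := rfl
      rw [this]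
      exact h0
    | succ i ih =>
      intro hi
      have hi' : i < n := by omega
      have hprev := ih (by omega)
      have hs := hstep ⟨i, hi'⟩
      have e1 : (⟨i, hi'⟩ : Fin n).castSucc = ⟨i, by omega⟩ := rfl
      have e2 : (⟨i, hi'⟩ : Fin n).succ = ⟨i + 1, hi⟩ := rfl
      rw [e1, e2, hprev, Subgroup.relIndex_bot_left] at hs
      by_contra hne
      have := hcon (H ⟨i + 1, hi⟩) (hnorm _) hne
      rcases hs with ⟨m, hm⟩ | hs
      · exact this.1 m hm
      · exact this.2 hs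
  have hl := key n (by omega)
  have e : (⟨n, by omega⟩ : Fin (n + 1)) = Fin.last n := rfl
  rw [e, hlast] at hl
  exact top_ne_bot hl

variable {G : Type*} [Group G]

theorem IsPC.map_conj {p : ℕ} {H : Subgroup G} (h : IsPC p H) (g : G) :
    IsPC p (H.map (MulAut.conj g).toMonoidHom) := by
  refine ⟨?_, ?_⟩
  · rw [Cfsg.Agent.Helper19.card_map_conj]
    exact h.1
  · obtain ⟨n, hn⟩ := h.2
    refine ⟨n, ?_⟩
    rw [← hn]
    exact Subgroup.index_map_equiv H (MulAut.conj g)

theorem IsPC.map_mk' {p : ℕ} [hp : Fact p.Prime] {H : Subgroup G} (h : IsPC p H)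
    (N : Subgroup G) [N.Normal] : IsPC p (H.map (QuotientGroup.mk' N)) := by
  refine ⟨Nat.Coprime.coprime_dvd_left (Subgroup.card_map_dvd H _) h.1, ?_⟩
  obtain ⟨n, hn⟩ := h.2
  have hd : (H.map (QuotientGroup.mk' N)).index ∣ p ^ n := by
    rw [← hn]
    exact Subgroup.index_map_dvd H (QuotientGroup.mk'_surjective N)
  obtain ⟨m, _, hm⟩ := (Nat.dvd_prime_pow hp.out).mp hd
  exact ⟨m, hm⟩

theorem IsPC.card_eq [Finite G] {p : ℕ} {H₁ H₂ : Subgroup G}
    (h₁ : IsPC p H₁) (h₂ : IsPC p H₂) : Nat.card H₁ = Nat.card H₂ := by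
  obtain ⟨n₁, hn₁⟩ := h₁.2
  obtain ⟨n₂, hn₂⟩ := h₂.2
  have e₁ := H₁.card_mul_index
  have e₂ := H₂.card_mul_index
  rw [hn₁] at e₁
  rw [hn₂] at e₂
  apply Nat.dvd_antisymm
  · have : Nat.card H₁ ∣ Nat.card H₂ * p ^ n₂ := by
      rw [e₂, ← e₁]
      exact dvd_mul_right _ _
    exact (Nat.Coprime.pow_right n₂ h₁.1).dvd_of_dvd_mul_right this
  · have : Nat.card H₂ ∣ Nat.card H₁ * p ^ n₁ := by
      rw [e₁, ← e₂]
      exact dvd_mul_right _ _
    exact (Nat.Coprime.pow_right n₁ h₂.1).dvd_of_dvd_mul_right this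

/-- Pulling back a `p`-complement along a quotient by a normal `p'`-subgroup. -/
theorem IsPC.comap_mk' [Finite G] {p : ℕ} (N : Subgroup G) [N.Normal]
    (hN : (Nat.card N).Coprime p) {K : Subgroup (G ⧸ N)} (h : IsPC p K) :
    IsPC p (K.comap (QuotientGroup.mk' N)) := by
  refine ⟨?_, ?_⟩
  · rw [Cfsg.Agent.Helper1.card_comap_mk']
    exact Nat.Coprime.mul_left hN h.1
  · obtain ⟨n, hn⟩ := h.2
    refine ⟨n, ?_⟩
    rw [← hn]
    exact Subgroup.index_comap_of_surjective K (QuotientGroup.mk'_surjective N)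

/-- A normal `p'`-subgroup lies in every `p`-complement. -/
theorem IsPC.normal_le [Finite G] {p : ℕ} [hp : Fact p.Prime] (N : Subgroup G) [N.Normal]
    (hN : (Nat.card N).Coprime p) {H : Subgroup G} (h : IsPC p H) : N ≤ H := by
  have h1 : IsPC p ((H.map (QuotientGroup.mk' N)).comap (QuotientGroup.mk' N)) :=
    IsPC.comap_mk' N hN (h.map_mk' N)
  rw [QuotientGroup.comap_map_mk'] at h1
  have hle : H ≤ N ⊔ H := le_sup_right
  have hone : H.relIndex (N ⊔ H) = 1 := by
    obtain ⟨n, hn⟩ := h.2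
    have hd1 : H.relIndex (N ⊔ H) ∣ p ^ n := by
      rw [← hn]
      exact Subgroup.relIndex_dvd_index_of_le hle
    have hd2 : H.relIndex (N ⊔ H) ∣ Nat.card ↥(N ⊔ H) := Subgroup.relIndex_dvd_card _ _
    have hc : (Nat.card ↥(N ⊔ H)).Coprime (p ^ n) := Nat.Coprime.pow_right n h1.1
    exact Nat.eq_one_of_dvd_coprimes hc hd2 hd1
  exact le_trans le_sup_left (Subgroup.relIndex_eq_one.mp hone)

/-- Over a normal `p`-subgroup `N`, the preimage of a `p`-complement of `G ⧸ N` splits. -/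
theorem exists_isPC_of_quotient [Finite G] {p : ℕ} (N : Subgroup G) [N.Normal]
    {m : ℕ} (hN : Nat.card N = p ^ m) {K : Subgroup (G ⧸ N)} (h : IsPC p K) :
    ∃ H : Subgroup G, IsPC p H ∧ N ⊔ H = K.comap (QuotientGroup.mk' N) := by
  set L := K.comap (QuotientGroup.mk' N) with hL
  have hNL : N ≤ L := by
    intro x hx
    rw [hL, Subgroup.mem_comap]
    have : (QuotientGroup.mk' N) x = 1 := by
      rw [QuotientGroup.mk'_apply, QuotientGroup.eq_one_iff]
      exact hx
    rw [this]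
    exact K.one_mem
  have hcardL : Nat.card L = Nat.card N * Nat.card K := Cfsg.Agent.Helper1.card_comap_mk' N K
  have : (N.subgroupOf L).Normal := Subgroup.Normal.subgroupOf inferInstance L
  have hcN : Nat.card (N.subgroupOf L) = Nat.card N := Cfsg.Agent.S0001.card_subgroupOf_of_le hNL
  have hidx : (N.subgroupOf L).index = Nat.card K := by
    have h1 := (N.subgroupOf L).card_mul_index
    rw [hcN, hcardL] at h1
    have hpos : 0 < Nat.card N := Nat.card_pos
    exact Nat.eq_of_mul_eq_mul_left hpos h1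
  have hcop : (Nat.card (N.subgroupOf L)).Coprime (N.subgroupOf L).index := by
    rw [hcN, hidx, hN]
    exact Nat.Coprime.pow_left m h.1.symm
  obtain ⟨H', hH'⟩ := Subgroup.exists_right_complement'_of_coprime hcop
  have hcH' : Nat.card H' = Nat.card K := by
    have h1 := hH'.card_mul_card
    rw [hcN, hcardL] at h1
    have hpos : 0 < Nat.card N := Nat.card_pos
    exact Nat.eq_of_mul_eq_mul_left hpos h1
  refine ⟨H'.map L.subtype, ⟨?_, ?_⟩, ?_⟩
  · rw [Subgroup.card_map_of_injective L.subtype_injective, hcH']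
    exact h.1
  · obtain ⟨n, hn⟩ := h.2
    refine ⟨m + n, ?_⟩
    rw [Subgroup.index_map_subtype]
    have hLidx : L.index = p ^ n := by
      rw [← hn, hL]
      exact Subgroup.index_comap_of_surjective K (QuotientGroup.mk'_surjective N)
    have hH'idx : H'.index = p ^ m := by
      have h1 := H'.card_mul_index
      have h2 := hH'.card_mul_card
      rw [hcN, hN] at h2
      have hpos : 0 < Nat.card H' := Nat.card_pos
      have : Nat.card H' * H'.index = Nat.card H' * p ^ m := by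
        rw [h1, ← h2, mul_comm]
      exact Nat.eq_of_mul_eq_mul_left hpos this
    rw [hLidx, hH'idx, pow_add]
  · have h1 := congrArg (Subgroup.map L.subtype) hH'.sup_eq_top
    rw [Subgroup.map_sup, Subgroup.subgroupOf_map_subtype, inf_eq_left.mpr hNL,
      ← MonoidHom.range_eq_map, Subgroup.range_subtype] at h1
    exact h1

theorem map_conj_map_mk' (N : Subgroup G) [N.Normal] (H : Subgroup G) (g : G) :
    (H.map (QuotientGroup.mk' N)).map (MulAut.conj ((QuotientGroup.mk' N) g)).toMonoidHom =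
      (H.map (MulAut.conj g).toMonoidHom).map (QuotientGroup.mk' N) := by
  rw [Subgroup.map_map, Subgroup.map_map]
  congr 1

theorem card_sup_of_disjoint [Finite G] (N A : Subgroup G) [N.Normal] (h : A ⊓ N = ⊥) :
    Nat.card ↥(N ⊔ A) = Nat.card N * Nat.card A := by
  have h1 := Cfsg.Agent.Helper19.card_mul_relIndex_sup A N
  have h2 := Cfsg.Agent.Helper19.card_inf_mul_relIndex A N
  rw [h, Subgroup.card_bot, one_mul] at h2
  rw [Subgroup.relIndex_sup_right, h2, sup_comm] at h1
  exact h1.symm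

theorem main (p : ℕ) [hp : Fact p.Prime] : ∀ (n : ℕ) (G : Type u) [Group G] [Finite G],
    Nat.card G = n → IsPSolvable p G →
    (∃ H : Subgroup G, IsPC p H) ∧
    (∀ H₁ H₂ : Subgroup G, IsPC p H₁ → IsPC p H₂ →
      ∃ g : G, H₂ = H₁.map (MulAut.conj g).toMonoidHom) ∧
    (∀ U : Subgroup G, (Nat.card U).Coprime p → ∃ H : Subgroup G, IsPC p H ∧ U ≤ H) := by
  intro n
  induction n using Nat.strong_induction_on with
  | _ n ih =>
  intro G _ _ hcard hG
  rcases subsingleton_or_nontrivial G with hsub | hnt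
  · have hss : Subsingleton (Subgroup G) := Subgroup.subsingleton_iff.mpr hsub
    have hbot : IsPC p (⊥ : Subgroup G) := by
      refine ⟨by rw [Subgroup.card_bot]; exact Nat.coprime_one_left p, 0, ?_⟩
      rw [Subgroup.index_bot, pow_zero]
      exact Nat.card_unique
    refine ⟨⟨⊥, hbot⟩, ?_, ?_⟩
    · intro H₁ H₂ _ _
      exact ⟨1, Subsingleton.elim _ _⟩
    · intro U _
      exact ⟨⊥, hbot, le_of_eq (Subsingleton.elim _ _)⟩
  obtain ⟨N, hNn, hNne, hNp⟩ := exists_normal_of_isPSolvable hG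
  have := hNn
  have hlt : Nat.card (G ⧸ N) < n := by
    have h1 := Cfsg.Agent.Helper1.card_quotient_mul_card N
    rw [hcard] at h1
    have h2 : 1 < Nat.card N := by
      have hpos : 0 < Nat.card N := Nat.card_pos
      have hne : Nat.card N ≠ 1 := fun h => hNne (Subgroup.card_eq_one.mp h)
      omega
    have h3 : 0 < Nat.card (G ⧸ N) := Nat.card_pos
    nlinarith
  obtain ⟨hE, hC, hT⟩ := ih _ hlt (G ⧸ N) rfl (Cfsg.Agent.Helper23.PSolv.isPSolvable_quotient N hG)
  have hconjq : ∀ H₁ H₂ : Subgroup G, IsPC p H₁ → IsPC p H₂ →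
      ∃ g : G, N ⊔ H₂ = N ⊔ H₁.map (MulAut.conj g).toMonoidHom := by
    intro H₁ H₂ h₁ h₂
    obtain ⟨gbar, hg⟩ := hC _ _ (h₁.map_mk' N) (h₂.map_mk' N)
    obtain ⟨g, rfl⟩ := QuotientGroup.mk'_surjective N gbar
    refine ⟨g, ?_⟩
    rw [map_conj_map_mk'] at hg
    have := congrArg (Subgroup.comap (QuotientGroup.mk' N)) hg
    rwa [QuotientGroup.comap_map_mk', QuotientGroup.comap_map_mk'] at this
  rcases hNp with ⟨m, hm⟩ | hNcop
  · -- `N` is a `p`-group
    have hNpg : IsPGroup p N := IsPGroup.of_card hm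
    have : Group.IsNilpotent N := hNpg.isNilpotent
    have hNsolv : Group.IsSolvable N := inferInstance
    have hnormN : ∀ A : Subgroup G, A ≤ Subgroup.normalizer (N : Set G) := by
      intro A
      rw [Subgroup.normalizer_eq_top]
      exact le_top
    refine ⟨?_, ?_, ?_⟩
    · obtain ⟨K, hK⟩ := hE
      obtain ⟨H, hH, _⟩ := exists_isPC_of_quotient N hm hK
      exact ⟨H, hH⟩
    · intro H₁ H₂ h₁ h₂
      obtain ⟨g, hg⟩ := hconjq H₁ H₂ h₁ h₂
      have hA := h₁.map_conj g
      have hcop : (Nat.card (H₁.map (MulAut.conj g).toMonoidHom)).Coprime (Nat.card N) := by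
        rw [hm]
        exact Nat.Coprime.pow_right m hA.1
      obtain ⟨x, _, hx⟩ := Cfsg.Agent.Helper1.sz_internal N (H₁.map (MulAut.conj g).toMonoidHom) H₂
        (hnormN _) hcop (Or.inr hNsolv) (by rw [← hg]; exact le_sup_right) (IsPC.card_eq h₂ hA)
      have hx' : H₂.map (MulAut.conj x).toMonoidHom = H₁.map (MulAut.conj g).toMonoidHom := hx
      refine ⟨x⁻¹ * g, ?_⟩
      rw [Cfsg.Agent.Helper19.map_conj_mul, ← hx', Cfsg.Agent.Helper19.map_conj_inv_map_conj]
    · intro U hU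
      obtain ⟨K, hK, hUK⟩ := hT (U.map (QuotientGroup.mk' N))
        (Nat.Coprime.coprime_dvd_left (Subgroup.card_map_dvd U _) hU)
      obtain ⟨H, hH, hNH⟩ := exists_isPC_of_quotient N hm hK
      have hUL : U ≤ N ⊔ H := by
        rw [hNH]
        exact Subgroup.map_le_iff_le_comap.mp hUK
      set A := (N ⊔ U) ⊓ H with hA
      have hUNA : U ≤ N ⊔ A := by
        intro u hu
        obtain ⟨x, hx, h, hh, rfl⟩ := Cfsg.Agent.Helper1.exists_mul_of_mem_sup (hnormN H) (hUL hu)
        have hhA : h ∈ A := by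
          refine Subgroup.mem_inf.mpr ⟨?_, hh⟩
          have : h = x⁻¹ * (x * h) := by group
          rw [this]
          exact Subgroup.mul_mem _ (Subgroup.mem_sup_left (N.inv_mem hx)) (Subgroup.mem_sup_right hu)
        exact Subgroup.mul_mem _ (Subgroup.mem_sup_left hx) (Subgroup.mem_sup_right hhA)
      have hsupeq : N ⊔ A = N ⊔ U := by
        apply le_antisymm
        · exact sup_le le_sup_left inf_le_left
        · exact sup_le le_sup_left hUNA
      have hcopH : (Nat.card H).Coprime (Nat.card N) := by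
        rw [hm]
        exact Nat.Coprime.pow_right m hH.1
      have hcopA : (Nat.card A).Coprime (Nat.card N) :=
        Nat.Coprime.coprime_dvd_left (Subgroup.card_dvd_of_le inf_le_right) hcopH
      have hcopU : (Nat.card U).Coprime (Nat.card N) := by
        rw [hm]
        exact Nat.Coprime.pow_right m hU
      have hAN : A ⊓ N = ⊥ := (Subgroup.disjoint_of_coprime_natCard hcopA).eq_bot
      have hUN : U ⊓ N = ⊥ := (Subgroup.disjoint_of_coprime_natCard hcopU).eq_bot
      have hcardAU : Nat.card U = Nat.card A := by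
        have h1 := card_sup_of_disjoint N A hAN
        have h2 := card_sup_of_disjoint N U hUN
        rw [hsupeq, h2] at h1
        have hpos : 0 < Nat.card N := Nat.card_pos
        exact Nat.eq_of_mul_eq_mul_left hpos h1
      obtain ⟨x, _, hx⟩ := Cfsg.Agent.Helper1.sz_internal N A U (hnormN _) hcopA (Or.inr hNsolv)
        hUNA hcardAU
      have hx' : U.map (MulAut.conj x).toMonoidHom = A := hx
      refine ⟨H.map (MulAut.conj x⁻¹).toMonoidHom, hH.map_conj _, ?_⟩
      have h1 : U.map (MulAut.conj x).toMonoidHom ≤ H := by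
        rw [hx']
        exact inf_le_right
      have h2 := Cfsg.Agent.Helper19.map_conj_mono x⁻¹ h1
      rwa [Cfsg.Agent.Helper19.map_conj_inv_map_conj] at h2
  · -- `N` is a `p'`-group
    refine ⟨?_, ?_, ?_⟩
    · obtain ⟨K, hK⟩ := hE
      exact ⟨_, IsPC.comap_mk' N hNcop hK⟩
    · intro H₁ H₂ h₁ h₂
      obtain ⟨g, hg⟩ := hconjq H₁ H₂ h₁ h₂
      refine ⟨g, ?_⟩
      rw [sup_eq_right.mpr (IsPC.normal_le N hNcop h₂),
        sup_eq_right.mpr (IsPC.normal_le N hNcop (h₁.map_conj g))] at hg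
      exact hg
    · intro U hU
      obtain ⟨K, hK, hUK⟩ := hT (U.map (QuotientGroup.mk' N))
        (Nat.Coprime.coprime_dvd_left (Subgroup.card_map_dvd U _) hU)
      exact ⟨_, IsPC.comap_mk' N hNcop hK, Subgroup.map_le_iff_le_comap.mp hUK⟩

/-- A finite p-soluble group has a p-complement, all its p-complements are conjugate, and every subgroup of order prime to p lies in one of them. Here a p-complement is a subgroup of order prime to p whose index is a power of p. -/
theorem result {G : Type*} [Group G] [Finite G] {p : ℕ} [Fact p.Prime] (hG : Cfsg.IsPSolvable p G) : (∃ H : Subgroup G, (Nat.card H).Coprime p ∧ ∃ n : ℕ, H.index = p ^ n) ∧ (∀ H₁ H₂ : Subgroup G, (Nat.card H₁).Coprime p → (∃ n : ℕ, H₁.index = p ^ n) → (Nat.card H₂).Coprime p → (∃ n : ℕ, H₂.index = p ^ n) → ∃ g : G, H₂ = H₁.map (MulAut.conj g).toMonoidHom) ∧ (∀ U : Subgroup G, (Nat.card U).Coprime p → ∃ H : Subgroup G, (Nat.card H).Coprime p ∧ (∃ n : ℕ, H.index = p ^ n) ∧ ∃ g : G, U.map (MulAut.conj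 g).toMonoidHom ≤ H) := by
  obtain ⟨hE, hC, hT⟩ := main p (Nat.card G) G rfl hG
  refine ⟨hE, ?_, ?_⟩
  · intro H₁ H₂ a₁ b₁ a₂ b₂
    exact hC H₁ H₂ ⟨a₁, b₁⟩ ⟨a₂, b₂⟩
  · intro U hU
    obtain ⟨H, hH, hUH⟩ := hT U hU
    refine ⟨H, hH.1, hH.2, 1, ?_⟩
    rw [Cfsg.Agent.Helper19.map_conj_one]
    exact hUH

end Cfsg.Agent.S3744
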