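import Mathlib
import Cfsg.Statements.S3745
import Cfsg.Agent.Lib.Helper1.Glauberman
import Cfsg.Agent.Lib.Helper1.CoprimeSylow
import Cfsg.Agent.Lib.Helper1.Hall
import Cfsg.Agent.Lib.Helper1.HallConj
import Cfsg.Agent.Lib.Helper1.SolvableBasic
import Cfsg.Agent.Lib.Helper9.PCoreSub
import Cfsg.Agent.Lib.Helper19.Conj
import Cfsg.Agent.Lib.Helper19.CardProd
import Cfsg.Agent.Lib.Helper19.NormalizerLattice

set_option autoImplicit false
open Cfsg

namespace Cfsg.Agent.S3745

universe u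

open Cfsg.Agent.Helper19

/-! ### Numbers -/

def PiNum (π : Set ℕ) (a : ℕ) : Prop := ∀ p : ℕ, p.Prime → p ∣ a → p ∈ π

def PiPNum (π : Set ℕ) (a : ℕ) : Prop := ∀ p : ℕ, p.Prime → p ∈ π → ¬ p ∣ a

theorem coprime_of_pi {π : Set ℕ} {a b : ℕ} (ha : PiNum π a) (hb : PiPNum π b) : a.Coprime b :=
  Nat.coprime_of_dvd (fun p hp hpa hpb => hb p hp (ha p hp hpa) hpb)

theorem exists_pi_decomp (π : Set ℕ) (N : ℕ) (hN : N ≠ 0) :
    ∃ m n : ℕ, N = m * n ∧ PiNum π m ∧ PiPNum π n := by
  induction N using Nat.recOnMul with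
  | zero => exact absurd rfl hN
  | one =>
    refine ⟨1, 1, rfl, ?_, ?_⟩
    · intro p hp h
      exact absurd (Nat.dvd_one.mp h) hp.ne_one
    · intro p hp _ h
      exact absurd (Nat.dvd_one.mp h) hp.ne_one
  | prime q hq =>
    by_cases hqπ : q ∈ π
    · refine ⟨q, 1, (mul_one q).symm, ?_, ?_⟩
      · intro p hp h
        rw [(Nat.prime_dvd_prime_iff_eq hp hq).mp h]
        exact hqπ
      · intro p hp _ h
        exact absurd (Nat.dvd_one.mp h) hp.ne_one
    · refine ⟨1, q, (one_mul q).symm, ?_, ?_⟩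
      · intro p hp h
        exact absurd (Nat.dvd_one.mp h) hp.ne_one
      · intro p hp hpπ h
        rw [(Nat.prime_dvd_prime_iff_eq hp hq).mp h] at hpπ
        exact hqπ hpπ
  | mul a b iha ihb =>
    have ha : a ≠ 0 := fun h => hN (by rw [h, zero_mul])
    have hb : b ≠ 0 := fun h => hN (by rw [h, mul_zero])
    obtain ⟨m₁, n₁, e₁, hm₁, hn₁⟩ := iha ha
    obtain ⟨m₂, n₂, e₂, hm₂, hn₂⟩ := ihb hb
    refine ⟨m₁ * m₂, n₁ * n₂, ?_, ?_, ?_⟩
    · rw [e₁, e₂]
      ring
    · intro p hp h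
      rcases (Nat.Prime.dvd_mul hp).mp h with h | h
      · exact hm₁ p hp h
      · exact hm₂ p hp h
    · intro p hp hpπ h
      rcases (Nat.Prime.dvd_mul hp).mp h with h | h
      · exact hn₁ p hp hpπ h
      · exact hn₂ p hp hpπ h

theorem pi_unique {π : Set ℕ} {a b m n : ℕ} (h : a * b = m * n) (ha : PiNum π a)
    (hb : PiPNum π b) (hm : PiNum π m) (hn : PiPNum π n) : a = m := by
  apply Nat.dvd_antisymm
  · have : a ∣ m * n := ⟨b, h.symm⟩
    exact (coprime_of_pi ha hn).dvd_of_dvd_mul_right this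
  · have : m ∣ a * b := ⟨n, h⟩
    exact (coprime_of_pi hm hb).dvd_of_dvd_mul_right this

/-! ### The conjugation action on subgroups -/

variable {X : Type*} [Group X]

/-- The conjugation action of a group on its subgroups. -/
@[reducible] def conjAction (X : Type*) [Group X] : MulAction X (Subgroup X) where
  smul g H := H.map (MulAut.conj g).toMonoidHom
  one_smul H := map_conj_one H
  mul_smul g h H := map_conj_mul H g h

theorem card_relIndex_of_le [Finite X] {H G : Subgroup X} (h : H ≤ G) :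
    Nat.card H * H.relIndex G = Nat.card G := by
  have := card_inf_mul_relIndex G H
  rwa [inf_eq_right.mpr h] at this

/-- Internal conjugacy of Hall subgroups. -/
theorem hall_conj_internal [Finite X] (G : Subgroup X) (hsolv : Group.IsSolvable G) (m n : ℕ)
    (hmn : Nat.card G = m * n) (hc : m.Coprime n) (H K : Subgroup X) (hH : H ≤ G) (hK : K ≤ G)
    (hHm : Nat.card H = m) (hKm : Nat.card K = m) :
    ∃ g ∈ G, H.map (MulAut.conj g).toMonoidHom = K := by
  have := hsolv
  obtain ⟨g, hg⟩ := Cfsg.Agent.Helper1.hall_conj (G := ↥G) m n hmn hc (H.subgroupOf G)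
    (K.subgroupOf G) (by rw [Cfsg.Agent.S0001.card_subgroupOf_of_le hH, hHm])
    (by rw [Cfsg.Agent.S0001.card_subgroupOf_of_le hK, hKm])
  exact ⟨g, g.2, Cfsg.Agent.Helper1.conj_of_conj_subgroupOf hH hK g hg⟩

theorem map_conj_le_of_mem_normalizer {H G : Subgroup X} (h : H ≤ G) (a : X)
    (ha : a ∈ Subgroup.normalizer (G : Set X)) : H.map (MulAut.conj a).toMonoidHom ≤ G := by
  intro y hy
  rw [mem_map_conj] at hy
  have h1 := (Subgroup.mem_normalizer_iff.mp ha (a⁻¹ * y * a)).mp (h hy)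
  have e : a * (a⁻¹ * y * a) * a⁻¹ = y := by group
  rwa [e] at h1

/-- (A): existence of an invariant Hall subgroup. -/
theorem exists_invariant_hall [Finite X] (A G : Subgroup X)
    (hAG : A ≤ Subgroup.normalizer (G : Set X)) (hcop : (Nat.card A).Coprime (Nat.card G))
    (hsolv : Group.IsSolvable G) (m n : ℕ) (hmn : Nat.card G = m * n) (hc : m.Coprime n) :
    ∃ H : Subgroup X, H ≤ G ∧ Nat.card H = m ∧ A ≤ Subgroup.normalizer (H : Set X) := by
  have := hsolv
  obtain ⟨H', hH'⟩ := Cfsg.Agent.Helper1.hall_exists (G := ↥G) m n hmn hc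
  set ω : Subgroup X := H'.map G.subtype with hω
  have hωG : ω ≤ G := Subgroup.map_subtype_le H'
  have hωm : Nat.card ω = m := by
    rw [hω, Subgroup.card_map_of_injective G.subtype_injective, hH']
  letI : MulAction X (Subgroup X) := conjAction X
  letI : MulAction ↥(Subgroup.normalizer (G : Set X)) (Subgroup X) :=
    MulAction.compHom (Subgroup X) (Subgroup.normalizer (G : Set X)).subtype
  have hnorm : (G.subgroupOf (Subgroup.normalizer (G : Set X))).Normal :=
    Subgroup.normal_in_normalizer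
  obtain ⟨k, hk, hfix⟩ := Cfsg.Agent.Helper1.glauberman_exists_fixed
    (G := ↥(Subgroup.normalizer (G : Set X)))
    (A.subgroupOf (Subgroup.normalizer (G : Set X))) (G.subgroupOf (Subgroup.normalizer (G : Set X)))
    (Cfsg.Agent.Helper1.coprime_subgroupOf_normalizer A hAG hcop)
    (Cfsg.Agent.Helper1.solvable_subgroupOf_normalizer A hAG hcop (Or.inr hsolv)) ω (by
      intro a _
      have h1 : ω.map (MulAut.conj (a : X)).toMonoidHom ≤ G :=
        map_conj_le_of_mem_normalizer hωG a a.2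
      obtain ⟨g, hg, hgω⟩ := hall_conj_internal G hsolv m n hmn hc ω _ hωG h1 hωm
        (by rw [card_map_conj, hωm])
      refine ⟨⟨g, Subgroup.le_normalizer hg⟩, Subgroup.mem_subgroupOf.mpr hg, ?_⟩
      exact hgω.symm)
  refine ⟨ω.map (MulAut.conj (k : X)).toMonoidHom, ?_, ?_, ?_⟩
  · exact map_conj_le_of_mem_normalizer hωG k k.2
  · rw [card_map_conj, hωm]
  · intro a ha
    rw [mem_normalizer_iff_map_conj]
    exact hfix ⟨a, hAG ha⟩ (Subgroup.mem_subgroupOf.mpr ha)

/-- (B): conjugacy of invariant Hall subgroups under the centralizer. -/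
theorem invariant_hall_conj [Finite X] (A G : Subgroup X)
    (hAG : A ≤ Subgroup.normalizer (G : Set X)) (hcop : (Nat.card A).Coprime (Nat.card G))
    (hsolv : Group.IsSolvable G) (m n : ℕ) (hmn : Nat.card G = m * n) (hc : m.Coprime n)
    (H₁ H₂ : Subgroup X) (h₁ : H₁ ≤ G) (h₂ : H₂ ≤ G) (hm₁ : Nat.card H₁ = m)
    (hm₂ : Nat.card H₂ = m) (hA₁ : A ≤ Subgroup.normalizer (H₁ : Set X))
    (hA₂ : A ≤ Subgroup.normalizer (H₂ : Set X)) :
    ∃ c ∈ G ⊓ Subgroup.centralizer (A : Set X), H₂ = H₁.map (MulAut.conj c).toMonoidHom := by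
  obtain ⟨g, hg, hgH⟩ := hall_conj_internal G hsolv m n hmn hc H₁ H₂ h₁ h₂ hm₁ hm₂
  letI : MulAction X (Subgroup X) := conjAction X
  obtain ⟨c, hc, hcH⟩ := Cfsg.Agent.Helper1.glauberman_fixed_conj A G hAG hcop (Or.inr hsolv)
    (Ω := Subgroup X) H₁ (fun a ha => (mem_normalizer_iff_map_conj H₁ a).mp (hA₁ ha)) g hg
    (fun a ha => by
      have e : g • H₁ = H₂ := hgH
      rw [e]
      exact (mem_normalizer_iff_map_conj H₂ a).mp (hA₂ ha))
  refine ⟨c, hc, ?_⟩
  have e : c • H₁ = g • H₁ := hcH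
  have e1 : g • H₁ = H₂ := hgH
  rw [e1] at e
  exact e.symm

theorem isSolvable_of_le {G K : Subgroup X} (h : K ≤ G) (hsolv : Group.IsSolvable G) :
    Group.IsSolvable K := by
  have := hsolv
  exact Group.isSolvable_of_isSolvable_injective (f := Subgroup.inclusion h)
    (Subgroup.inclusion_injective h)

/-- (C) in the normal setting, by induction on the order. -/
theorem invariant_hall_contain_aux : ∀ (k : ℕ) (X : Type u) [Group X] [Finite X]
    (A G : Subgroup X) [G.Normal],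
    Nat.card G = k → (Nat.card A).Coprime (Nat.card G) → Group.IsSolvable G →
    ∀ m n : ℕ, k = m * n → m.Coprime n → ∀ U : Subgroup X, U ≤ G →
    A ≤ Subgroup.normalizer (U : Set X) → (Nat.card U).Coprime n →
    ∃ H : Subgroup X, H ≤ G ∧ Nat.card H = m ∧ A ≤ Subgroup.normalizer (H : Set X) ∧ U ≤ H := by
  intro k
  induction k using Nat.strong_induction_on with
  | _ k ih =>
  intro X _ _ A G _ hk hcop hsolv m n hmn hc U hUG hAU hUn
  by_cases hG1 : G = ⊥
  · have hk1 : k = 1 := by rw [← hk, hG1, Subgroup.card_bot]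
    have hm1 : m = 1 := by
      rw [hk1] at hmn
      exact Nat.eq_one_of_mul_eq_one_right hmn.symm
    refine ⟨⊥, bot_le, by rw [Subgroup.card_bot, hm1], le_normalizer_of_normal A ⊥, ?_⟩
    rw [hG1] at hUG
    exact hUG
  have hnt : Nontrivial ↥G := (Subgroup.nontrivial_iff_ne_bot G).mpr hG1
  have := hsolv
  obtain ⟨p, hp, M, hMn, hMne, hMp⟩ :=
    Cfsg.Agent.Helper1.exists_normal_pSubgroup_of_solvable ↥G
  have hpf : Fact p.Prime := ⟨hp⟩
  have hchar : (pCore p ↥G).Characteristic := Cfsg.Agent.Helper9.pCore_characteristic p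
  obtain ⟨N, hN⟩ : ∃ N : Subgroup X, N = (pCore p ↥G).map G.subtype := ⟨_, rfl⟩
  have hNnorm : N.Normal := by
    rw [hN]
    exact ConjAct.normal_of_characteristic_of_normal
  have hNG : N ≤ G := by
    rw [hN]
    exact Subgroup.map_subtype_le _
  have hNp : IsPGroup p N := by
    rw [hN]
    exact (Cfsg.Agent.Helper9.pCore_isPGroup' p ↥G).map _
  have hNne : N ≠ ⊥ := by
    intro h
    have h1 : pCore p ↥G = ⊥ := by
      rw [hN] at h
      exact (Subgroup.map_eq_bot_iff_of_injective _ G.subtype_injective).mp h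
    have h2 : M ≤ pCore p ↥G := Cfsg.Agent.Helper9.le_pCore' hMn hMp
    rw [h1, le_bot_iff] at h2
    exact hMne h2
  obtain ⟨j, hj⟩ := hNp.exists_card_eq
  have hfs : Function.Surjective (QuotientGroup.mk' N) := QuotientGroup.mk'_surjective N
  have hGbn : (G.map (QuotientGroup.mk' N)).Normal :=
    Subgroup.Normal.map inferInstance (QuotientGroup.mk' N) hfs
  have hcardGb : Nat.card N * Nat.card (G.map (QuotientGroup.mk' N)) = Nat.card G :=
    Cfsg.Agent.Helper1.card_map_mk'_of_le N hNG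
  have hlt : Nat.card (G.map (QuotientGroup.mk' N)) < k := by
    have h2 : 1 < Nat.card N := by
      have hpos : 0 < Nat.card N := Nat.card_pos
      have hne : Nat.card N ≠ 1 := fun h => hNne (Subgroup.card_eq_one.mp h)
      omega
    have h3 : 0 < Nat.card (G.map (QuotientGroup.mk' N)) := Nat.card_pos
    rw [hk] at hcardGb
    nlinarith
  have hcopb : (Nat.card (A.map (QuotientGroup.mk' N))).Coprime
      (Nat.card (G.map (QuotientGroup.mk' N))) :=
    Nat.Coprime.coprime_dvd_left (Subgroup.card_map_dvd A _)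
      (Nat.Coprime.coprime_dvd_right (Subgroup.card_map_dvd G _) hcop)
  have hsolvb : Group.IsSolvable (G.map (QuotientGroup.mk' N)) :=
    Group.isSolvable_of_surjective (f := (QuotientGroup.mk' N).subgroupMap G)
      ((QuotientGroup.mk' N).subgroupMap_surjective G)
  have hUb : U.map (QuotientGroup.mk' N) ≤ G.map (QuotientGroup.mk' N) := Subgroup.map_mono hUG
  have hAUb : A.map (QuotientGroup.mk' N) ≤
      Subgroup.normalizer ((U.map (QuotientGroup.mk' N) : Subgroup (X ⧸ N)) : Set (X ⧸ N)) :=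
    le_trans (Subgroup.map_mono hAU) (Subgroup.le_normalizer_map _)
  have hUbcard : Nat.card (U.map (QuotientGroup.mk' N)) ∣ Nat.card U := Subgroup.card_map_dvd U _
  have pull : ∀ Hb : Subgroup (X ⧸ N), Hb ≤ G.map (QuotientGroup.mk' N) →
      A.map (QuotientGroup.mk' N) ≤ Subgroup.normalizer (Hb : Set (X ⧸ N)) →
      U.map (QuotientGroup.mk' N) ≤ Hb →
      Hb.comap (QuotientGroup.mk' N) ≤ G ∧
      A ≤ Subgroup.normalizer ((Hb.comap (QuotientGroup.mk' N) : Subgroup X) : Set X) ∧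
      U ≤ Hb.comap (QuotientGroup.mk' N) ∧ N ≤ Hb.comap (QuotientGroup.mk' N) ∧
      Nat.card (Hb.comap (QuotientGroup.mk' N)) = Nat.card N * Nat.card Hb := by
    intro Hb h1 h2 h3
    refine ⟨?_, ?_, ?_, ?_, Cfsg.Agent.Helper1.card_comap_mk' N Hb⟩
    · have := Subgroup.comap_mono (f := QuotientGroup.mk' N) h1
      rwa [QuotientGroup.comap_map_mk', sup_eq_right.mpr hNG] at this
    · refine le_trans ?_ (Subgroup.le_normalizer_comap _)
      exact le_trans (Subgroup.le_comap_map _ A) (Subgroup.comap_mono h2)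
    · exact Subgroup.map_le_iff_le_comap.mp h3
    · intro x hx
      rw [Subgroup.mem_comap]
      have : (QuotientGroup.mk' N) x = 1 := (QuotientGroup.eq_one_iff x).mpr hx
      rw [this]
      exact Hb.one_mem
  have hNdvd : p ^ j ∣ m * n := by
    rw [← hmn, ← hk, ← hj]
    exact Subgroup.card_dvd_of_le hNG
  by_cases hpm : p ∣ m
  · have hpn : ¬ p ∣ n := fun h => hp.one_lt.ne' (Nat.eq_one_of_dvd_coprimes hc hpm h)
    have hcopn : (p ^ j).Coprime n :=
      Nat.Coprime.pow_left j ((Nat.Prime.coprime_iff_not_dvd hp).mpr hpn)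
    obtain ⟨m', hm'⟩ : p ^ j ∣ m := hcopn.dvd_of_dvd_mul_right hNdvd
    have hcardGb' : Nat.card (G.map (QuotientGroup.mk' N)) = m' * n := by
      have : p ^ j * Nat.card (G.map (QuotientGroup.mk' N)) = p ^ j * (m' * n) := by
        rw [← hj, hcardGb, hk, hmn, hm', hj]
        ring
      exact Nat.eq_of_mul_eq_mul_left (pow_pos hp.pos j) this
    have hc' : m'.Coprime n := Nat.Coprime.coprime_dvd_left ⟨p ^ j, by rw [hm', mul_comm]⟩ hc
    obtain ⟨Hb, hHbG, hHbm, hAHb, hUHb⟩ := ih _ hlt (X ⧸ N) (A.map (QuotientGroup.mk' N))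
      (G.map (QuotientGroup.mk' N)) rfl hcopb hsolvb m' n hcardGb' hc'
      (U.map (QuotientGroup.mk' N)) hUb hAUb (Nat.Coprime.coprime_dvd_left hUbcard hUn)
    obtain ⟨h1, h2, h3, -, h5⟩ := pull Hb hHbG hAHb hUHb
    exact ⟨Hb.comap (QuotientGroup.mk' N), h1, by rw [h5, hj, hHbm, hm'], h2, h3⟩
  · have hcopm : (p ^ j).Coprime m :=
      Nat.Coprime.pow_left j ((Nat.Prime.coprime_iff_not_dvd hp).mpr hpm)
    obtain ⟨n', hn'⟩ : p ^ j ∣ n := hcopm.dvd_of_dvd_mul_left hNdvd
    have hcardGb' : Nat.card (G.map (QuotientGroup.mk' N)) = m * n' := by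
      have : p ^ j * Nat.card (G.map (QuotientGroup.mk' N)) = p ^ j * (m * n') := by
        rw [← hj, hcardGb, hk, hmn, hn', hj]
        ring
      exact Nat.eq_of_mul_eq_mul_left (pow_pos hp.pos j) this
    have hc' : m.Coprime n' := Nat.Coprime.coprime_dvd_right ⟨p ^ j, by rw [hn', mul_comm]⟩ hc
    have hUn' : (Nat.card U).Coprime n' :=
      Nat.Coprime.coprime_dvd_right ⟨p ^ j, by rw [hn', mul_comm]⟩ hUn
    have hUpj : (Nat.card U).Coprime (p ^ j) := Nat.Coprime.coprime_dvd_right ⟨n', hn'⟩ hUn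
    obtain ⟨Hb, hHbG, hHbm, hAHb, hUHb⟩ := ih _ hlt (X ⧸ N) (A.map (QuotientGroup.mk' N))
      (G.map (QuotientGroup.mk' N)) rfl hcopb hsolvb m n' hcardGb' hc'
      (U.map (QuotientGroup.mk' N)) hUb hAUb (Nat.Coprime.coprime_dvd_left hUbcard hUn')
    obtain ⟨hKG, hAK, hUK, hNK, hKcard⟩ := pull Hb hHbG hAHb hUHb
    obtain ⟨K, hK⟩ : ∃ K : Subgroup X, K = Hb.comap (QuotientGroup.mk' N) := ⟨_, rfl⟩
    rw [← hK] at hKG hAK hUK hNK hKcard
    rw [hj, hHbm] at hKcard
    -- (i) an invariant complement of `N` in `K`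
    have hKsolv : Group.IsSolvable K := isSolvable_of_le hKG hsolv
    have hKcop : (Nat.card A).Coprime (Nat.card K) :=
      Nat.Coprime.coprime_dvd_right (Subgroup.card_dvd_of_le hKG) hcop
    obtain ⟨H₀, hH₀K, hH₀m, hAH₀⟩ := exists_invariant_hall A K hAK hKcop hKsolv m (p ^ j)
      (by rw [hKcard, mul_comm]) hcopm.symm
    have hH₀N : H₀ ⊓ N = ⊥ :=
      (Subgroup.disjoint_of_coprime_natCard (by rw [hH₀m, hj]; exact hcopm.symm)).eq_bot
    have hNH₀ : N ⊔ H₀ = K := by
      apply Subgroup.eq_of_le_of_card_ge (sup_le hNK hH₀K)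
      rw [card_sup_of_disjoint N H₀ hH₀N, hj, hH₀m, hKcard]
    have hUL : U ≤ N ⊔ H₀ := by
      rw [hNH₀]
      exact hUK
    -- (iii) the part of `H₀` over `U`
    obtain ⟨U₀, hU₀⟩ : ∃ U₀ : Subgroup X, U₀ = (N ⊔ U) ⊓ H₀ := ⟨_, rfl⟩
    have hU₀H₀ : U₀ ≤ H₀ := by
      rw [hU₀]
      exact inf_le_right
    have hUNU₀ : U ≤ N ⊔ U₀ := by
      intro u hu
      obtain ⟨x, hx, h, hh, rfl⟩ :=
        Cfsg.Agent.Helper1.exists_mul_of_mem_sup (le_normalizer_of_normal H₀ N) (hUL hu)
      have hhU₀ : h ∈ U₀ := by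
        rw [hU₀]
        refine Subgroup.mem_inf.mpr ⟨?_, hh⟩
        have : h = x⁻¹ * (x * h) := by group
        rw [this]
        exact Subgroup.mul_mem _ (Subgroup.mem_sup_left (N.inv_mem hx)) (Subgroup.mem_sup_right hu)
      exact Subgroup.mul_mem _ (Subgroup.mem_sup_left hx) (Subgroup.mem_sup_right hhU₀)
    have hsupeq : N ⊔ U₀ = N ⊔ U := by
      apply le_antisymm
      · refine sup_le le_sup_left ?_
        rw [hU₀]
        exact inf_le_left
      · exact sup_le le_sup_left hUNU₀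
    have hcopU₀ : (Nat.card U₀).Coprime (Nat.card N) := by
      rw [hj]
      refine Nat.Coprime.coprime_dvd_left (Subgroup.card_dvd_of_le hU₀H₀) ?_
      rw [hH₀m]
      exact hcopm.symm
    have hU₀N : U₀ ⊓ N = ⊥ := (Subgroup.disjoint_of_coprime_natCard hcopU₀).eq_bot
    have hUN : U ⊓ N = ⊥ :=
      (Subgroup.disjoint_of_coprime_natCard (by rw [hj]; exact hUpj)).eq_bot
    have hcardU₀ : Nat.card U₀ = Nat.card U := by
      have h1 := card_sup_of_disjoint N U₀ hU₀N
      have h2 := card_sup_of_disjoint N U hUN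
      rw [hsupeq, h2] at h1
      have hpos : 0 < Nat.card N := Nat.card_pos
      exact (Nat.eq_of_mul_eq_mul_left hpos h1).symm
    have hAL : A ≤ Subgroup.normalizer ((N ⊔ U : Subgroup X) : Set X) :=
      le_normalizer_sup A N U (le_normalizer_of_normal A N) hAU
    have hAU₀ : A ≤ Subgroup.normalizer (U₀ : Set X) := by
      rw [hU₀]
      exact le_normalizer_inf A _ _ hAL hAH₀
    -- (iv) conjugate `U₀` to `U` inside `N ⊔ U` by an element centralizing `A`
    have hLK : N ⊔ U ≤ K := sup_le hNK hUK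
    have hLG : N ⊔ U ≤ G := le_trans hLK hKG
    have hLcard : Nat.card ↥(N ⊔ U) = Nat.card U * p ^ j := by
      rw [card_sup_of_disjoint N U hUN, hj, mul_comm]
    obtain ⟨c, hcL, hcU⟩ := invariant_hall_conj A (N ⊔ U) hAL
      (Nat.Coprime.coprime_dvd_right (Subgroup.card_dvd_of_le hLG) hcop)
      (isSolvable_of_le hLG hsolv) (Nat.card U) (p ^ j) hLcard hUpj U₀ U
      (hsupeq ▸ le_sup_right) le_sup_right hcardU₀ rfl hAU₀ hAU
    refine ⟨H₀.map (MulAut.conj c).toMonoidHom, ?_, ?_, ?_, ?_⟩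
    · exact le_trans (map_conj_le_of_mem c (hLK hcL.1) hH₀K) hKG
    · rw [card_map_conj, hH₀m]
    · exact le_normalizer_map_conj_of_mem_centralizer A H₀ c hcL.2 hAH₀
    · rw [hcU]
      exact map_conj_mono c hU₀H₀

/-- (C) in general. -/
theorem invariant_hall_contain [Finite X] (A G : Subgroup X)
    (hAG : A ≤ Subgroup.normalizer (G : Set X)) (hcop : (Nat.card A).Coprime (Nat.card G))
    (hsolv : Group.IsSolvable G) (m n : ℕ) (hmn : Nat.card G = m * n) (hc : m.Coprime n)
    (U : Subgroup X) (hUG : U ≤ G) (hAU : A ≤ Subgroup.normalizer (U : Set X))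
    (hUn : (Nat.card U).Coprime n) :
    ∃ H : Subgroup X, H ≤ G ∧ Nat.card H = m ∧ A ≤ Subgroup.normalizer (H : Set X) ∧ U ≤ H := by
  obtain ⟨Y, hY⟩ : ∃ Y : Subgroup X, Y = Subgroup.normalizer (G : Set X) := ⟨_, rfl⟩
  have hGY : G ≤ Y := by
    rw [hY]
    exact Subgroup.le_normalizer
  have hAY : A ≤ Y := by
    rw [hY]
    exact hAG
  have hnorm : (G.subgroupOf Y).Normal := by
    rw [hY]
    exact Subgroup.normal_in_normalizer
  have hcardA : Nat.card (A.subgroupOf Y) = Nat.card A :=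
    Cfsg.Agent.S0001.card_subgroupOf_of_le hAY
  have hcardG : Nat.card (G.subgroupOf Y) = Nat.card G :=
    Cfsg.Agent.S0001.card_subgroupOf_of_le hGY
  have hUY : U ≤ Y := le_trans hUG hGY
  have hsolv' : Group.IsSolvable (G.subgroupOf Y) := by
    have := hsolv
    exact Group.isSolvable_of_isSolvable_injective
      (f := (Subgroup.subgroupOfEquivOfLe hGY).toMonoidHom)
      (Subgroup.subgroupOfEquivOfLe hGY).injective
  obtain ⟨H', hH'G, hH'm, hAH', hUH'⟩ := invariant_hall_contain_aux _ ↥Y (A.subgroupOf Y)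
    (G.subgroupOf Y) rfl (by rw [hcardA, hcardG]; exact hcop) hsolv' m n
    (by rw [hcardG, hmn]) hc (U.subgroupOf Y) (Subgroup.comap_mono hUG)
    (le_trans (Subgroup.comap_mono hAU) (Subgroup.le_normalizer_comap Y.subtype))
    (by rw [Cfsg.Agent.S0001.card_subgroupOf_of_le hUY]; exact hUn)
  refine ⟨H'.map Y.subtype, ?_, ?_, ?_, ?_⟩
  · have := Subgroup.map_mono (f := Y.subtype) hH'G
    rwa [Subgroup.subgroupOf_map_subtype, inf_eq_left.mpr hGY] at this
  · rw [Subgroup.card_map_of_injective Y.subtype_injective, hH'm]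
  · intro a ha
    have h1 : (⟨a, hAY ha⟩ : Y) ∈ Subgroup.normalizer (H' : Set Y) :=
      hAH' (Subgroup.mem_subgroupOf.mpr ha)
    exact Subgroup.le_normalizer_map Y.subtype (Subgroup.mem_map_of_mem Y.subtype h1)
  · intro u hu
    exact Subgroup.mem_map.mpr ⟨⟨u, hUY hu⟩, hUH' (Subgroup.mem_subgroupOf.mpr hu), rfl⟩

/-- Coprime action on a solvable group and Hall subgroups. Let A and G be subgroups of a finite group with A normalizing G, the orders of A and G coprime, and G solvable, and let π be a set of primes. Then (a) G has an A-invariant Hall π-subgroup; (b) any two A-invariant Hall π-subgroups of G are conjugate by an element of C_G(A); (c) every A-invariant π-subgroup of G lies in an A-invariant Hall π-subgroup of G. -/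
theorem result {X : Type*} [Group X] [Finite X] (A G : Subgroup X) (hAG : A ≤ Subgroup.normalizer (G : Set X)) (hcop : (Nat.card A).Coprime (Nat.card G)) (hsolv : Group.IsSolvable G) (π : Set ℕ) : (∃ H : Subgroup X, Cfsg.IsPiHallOf π H G ∧ A ≤ Subgroup.normalizer (H : Set X)) ∧ (∀ H₁ H₂ : Subgroup X, Cfsg.IsPiHallOf π H₁ G → A ≤ Subgroup.normalizer (H₁ : Set X) → Cfsg.IsPiHallOf π H₂ G → A ≤ Subgroup.normalizer (H₂ : Set X) → ∃ c ∈ G ⊓ Subgroup.centralizer (A : Set X), H₂ = H₁.map (MulAut.conj c).toMonoidHom) ∧ (∀ U : Subgroup X, U ≤ G → A ≤ Subgroup.normalizer (U : Set X) → (∀ p : ℕ, p.Prime → p ∣ Nat.card U → p ∈ π) → ∃ H : Subgroup X, Cfsg.IsPiHallOf π H G ∧ A ≤ Subgroup.normalizer (H : Set X) ∧ U ≤ H) := by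
  obtain ⟨m, n, hmn, hm, hn⟩ := exists_pi_decomp π (Nat.card G) Nat.card_pos.ne'
  have hc : m.Coprime n := coprime_of_pi hm hn
  have hmpos : 0 < m := by
    apply Nat.pos_of_ne_zero
    rintro rfl
    rw [zero_mul] at hmn
    exact Nat.card_pos.ne' hmn
  have hall_of_card : ∀ H : Subgroup X, H ≤ G → Nat.card H = m → IsPiHallOf π H G := by
    intro H hHG hHm
    refine ⟨hHG, by rw [hHm]; exact hm, ?_⟩
    have h1 := card_relIndex_of_le hHG
    rw [hHm, hmn] at h1
    have : H.relIndex G = n := Nat.eq_of_mul_eq_mul_left hmpos h1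
    rw [this]
    exact hn
  have card_of_hall : ∀ H : Subgroup X, IsPiHallOf π H G → Nat.card H = m := by
    rintro H ⟨hHG, h1, h2⟩
    have h3 := card_relIndex_of_le hHG
    rw [hmn] at h3
    exact pi_unique h3 h1 h2 hm hn
  refine ⟨?_, ?_, ?_⟩
  · obtain ⟨H, hHG, hHm, hAH⟩ := exists_invariant_hall A G hAG hcop hsolv m n hmn hc
    exact ⟨H, hall_of_card H hHG hHm, hAH⟩
  · intro H₁ H₂ h₁ hA₁ h₂ hA₂
    exact invariant_hall_conj A G hAG hcop hsolv m n hmn hc H₁ H₂ h₁.1 h₂.1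
      (card_of_hall H₁ h₁) (card_of_hall H₂ h₂) hA₁ hA₂
  · intro U hUG hAU hUπ
    have hUn : (Nat.card U).Coprime n := coprime_of_pi hUπ hn
    obtain ⟨H, hHG, hHm, hAH, hUH⟩ :=
      invariant_hall_contain A G hAG hcop hsolv m n hmn hc U hUG hAU hUn
    exact ⟨H, hall_of_card H hHG hHm, hAH, hUH⟩

end Cfsg.Agent.S3745
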