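import Mathlib
import Cfsg.Statements.S3746
import Cfsg.Agent.Lib.Helper7.Quasisimple
import Cfsg.Agent.Lib.Helper7.Quasisimple2
import Cfsg.Agent.Lib.Helper7.Components
import Cfsg.Agent.Lib.Helper19.CentralExt

set_option autoImplicit false
open Cfsg

namespace Cfsg.Agent.S3746

/-- Let Z ≤ Z(G) be a central subgroup of a finite group G and E a subgroup of G containing Z whose image E/Z is a component of G/Z (subnormal and quasisimple). Then the derived subgroup [E, E] is a component of G. -/
theorem result {G : Type*} [Group G] [Finite G] (Z : Subgroup G) (hZ : Z ≤ Subgroup.center G) [Z.Normal] (E : Subgroup G) (hZE : Z ≤ E) (hE : Cfsg.IsComponent (E.map (QuotientGroup.mk' Z))) : Cfsg.IsComponent ⁅E, E⁆ := by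
  have hEsn : E.IsSubnormal := by
    have := hE.1.comap (QuotientGroup.mk' Z)
    rwa [Subgroup.comap_map_eq_self (by rw [QuotientGroup.ker_mk']; exact hZE)] at this
  rw [← Subgroup.map_subtype_commutator]
  rw [← Cfsg.Agent.Helper7.isComponent_map_subtype_iff hEsn]
  have hn : (commutator ↥E).Normal := inferInstance
  refine ⟨hn.isSubnormal, ?_⟩
  -- the restriction of the quotient map to E
  have hρ : Function.Surjective ((QuotientGroup.mk' Z).subgroupMap E) :=
    MonoidHom.subgroupMap_surjective _ _
  have hker : ((QuotientGroup.mk' Z).subgroupMap E).ker ≤ Subgroup.center ↥E := by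
    intro x hx
    rw [MonoidHom.mem_ker] at hx
    have h1 : (QuotientGroup.mk' Z) (x : G) = 1 := congrArg Subtype.val hx
    rw [QuotientGroup.mk'_apply, QuotientGroup.eq_one_iff] at h1
    rw [Subgroup.mem_center_iff]
    intro g
    apply Subtype.ext
    exact Subgroup.mem_center_iff.mp (hZ h1) g
  obtain ⟨hs, hna⟩ := Cfsg.Agent.Helper19.simple_quotient_center_of_central_ext _ hρ hker hE.2
  exact Cfsg.Agent.Helper7.quasisimple_commutator hs hna

end Cfsg.Agent.S3746
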