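import Mathlib
import Cfsg.Statements.S3747
import Cfsg.Agent.Lib.Helper7.Layer3

set_option autoImplicit false
open Cfsg

namespace Cfsg.Agent.S3747

open Subgroup Cfsg.Agent.Helper7
open scoped commutatorElement Pointwise

variable {G : Type*} [Group G]

/-- elements of the join of two elementwise commuting subgroups are products -/
theorem exists_mul_of_mem_sup_of_commute {A B : Subgroup G}
    (hAB : ∀ x ∈ A, ∀ y ∈ B, Commute x y) {z : G} (hz : z ∈ A ⊔ B) :
    ∃ a ∈ A, ∃ b ∈ B, z = a * b := by
  rw [Subgroup.sup_eq_closure_mul] at hz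
  induction hz using Subgroup.closure_induction with
  | mem x hx =>
    obtain ⟨a, ha, b, hb, rfl⟩ := Set.mem_mul.mp hx
    exact ⟨a, ha, b, hb, rfl⟩
  | one => exact ⟨1, A.one_mem, 1, B.one_mem, by simp⟩
  | mul x y _ _ hx hy =>
    obtain ⟨a, ha, b, hb, rfl⟩ := hx
    obtain ⟨a', ha', b', hb', rfl⟩ := hy
    refine ⟨a * a', A.mul_mem ha ha', b * b', B.mul_mem hb hb', ?_⟩
    have := (hAB a' ha' b hb).eq
    calc a * b * (a' * b') = a * (b * a') * b' := by group
      _ = a * (a' * b) * b' := by rw [this]
      _ = a * a' * (b * b') := by group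
  | inv x _ hx =>
    obtain ⟨a, ha, b, hb, rfl⟩ := hx
    refine ⟨a⁻¹, A.inv_mem ha, b⁻¹, B.inv_mem hb, ?_⟩
    have := (hAB a ha b hb).eq
    rw [mul_inv_rev]
    exact ((hAB a⁻¹ (A.inv_mem ha) b⁻¹ (B.inv_mem hb)).eq).symm

/-- the join of finitely many pairwise commuting centerless subgroups is centerless -/
theorem eq_one_of_mem_biSup_of_commute {ι : Type*} [DecidableEq ι] (f : ι → Subgroup G)
    (hc : ∀ i, ∀ z ∈ f i, (∀ y ∈ f i, Commute y z) → z = 1) :
    ∀ s : Finset ι, (∀ i ∈ s, ∀ j ∈ s, i ≠ j → ∀ x ∈ f i, ∀ y ∈ f j, Commute x y) →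
      ∀ z ∈ ⨆ i ∈ s, f i, (∀ i ∈ s, ∀ y ∈ f i, Commute y z) → z = 1 := by
  intro s
  induction s using Finset.induction_on with
  | empty =>
    intro _ z hz _
    simpa using hz
  | insert a s has ih =>
    intro hpair z hz hzc
    rw [Finset.iSup_insert] at hz
    have hcomm : ∀ x ∈ f a, ∀ y ∈ ⨆ i ∈ s, f i, Commute x y := by
      intro x hx y hy
      have : (⨆ i ∈ s, f i) ≤ Subgroup.centralizer {x} := by
        apply iSup₂_le
        intro i hi y hy
        rw [Subgroup.mem_centralizer_singleton_iff]
        have hne : a ≠ i := fun h => has (h ▸ hi)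
        exact ((hpair a (Finset.mem_insert_self a s) i (Finset.mem_insert_of_mem hi) hne
          x hx y hy).eq).symm
      have := this hy
      rw [Subgroup.mem_centralizer_singleton_iff] at this
      exact this.symm
    obtain ⟨l, hl, t, ht, rfl⟩ := exists_mul_of_mem_sup_of_commute hcomm hz
    have hl1 : l = 1 := by
      apply hc a l hl
      intro y hy
      have h1 : Commute y (l * t) := hzc a (Finset.mem_insert_self a s) y hy
      have h2 : Commute y t := hcomm y hy t ht
      have h3 : Commute y ((l * t) * t⁻¹) := h1.mul_right h2.inv_right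
      simpa using h3
    subst hl1
    rw [one_mul] at hzc ⊢
    apply ih (fun i hi j hj hne => hpair i (Finset.mem_insert_of_mem hi) j
      (Finset.mem_insert_of_mem hj) hne) t ht
    intro i hi y hy
    exact hzc i (Finset.mem_insert_of_mem hi) y hy


theorem part_a [Finite G] (K : Subgroup G) (hK : Cfsg.IsComponent K)
    (hZ : Subgroup.center ↥K = ⊥) :
    Subgroup.normalClosure (K : Set G) ≠ ⊥ ∧ ∀ N : Subgroup G, N.Normal →
      N ≤ Subgroup.normalClosure (K : Set G) → N = ⊥ ∨ N = Subgroup.normalClosure (K : Set G) := by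
  classical
  have hKle : K ≤ Subgroup.normalClosure (K : Set G) := Subgroup.le_normalClosure
  refine ⟨?_, ?_⟩
  · intro h
    rw [h, le_bot_iff] at hKle
    exact component_ne_bot hK hKle
  · intro N hN hNM
    rcases component_le_or_commutator_eq_bot' K N hK hN.isSubnormal with h | h
    · right
      exact le_antisymm hNM (Subgroup.normalClosure_le_normal h)
    · left
      rw [Subgroup.commutator_eq_bot_iff_le_centralizer] at h
      -- index type: the conjugates of K
      have hfin : Finite {L : Subgroup G // ∃ g : G, L = MulAut.conj g • K} := inferInstance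
      have : Fintype {L : Subgroup G // ∃ g : G, L = MulAut.conj g • K} := Fintype.ofFinite _
      have hcenter : ∀ i : {L : Subgroup G // ∃ g : G, L = MulAut.conj g • K},
          ∀ z ∈ (i : Subgroup G), (∀ y ∈ (i : Subgroup G), Commute y z) → z = 1 := by
        rintro ⟨L, g, rfl⟩ z hz hcz
        simp only at hz hcz
        rw [Subgroup.mem_pointwise_smul_iff_inv_smul_mem] at hz
        have hz' : g⁻¹ * z * g ∈ K := by simpa [MulAut.smul_def] using hz
        have hmem : (⟨g⁻¹ * z * g, hz'⟩ : K) ∈ Subgroup.center ↥K := by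
          rw [Subgroup.mem_center_iff]
          rintro ⟨y, hy⟩
          have hy' : g * y * g⁻¹ ∈ MulAut.conj g • K := by
            rw [Subgroup.mem_pointwise_smul_iff_inv_smul_mem]
            simpa [MulAut.smul_def, mul_assoc] using hy
          have hc := (hcz _ hy').eq
          apply Subtype.ext
          show y * (g⁻¹ * z * g) = g⁻¹ * z * g * y
          have e1 : y * (g⁻¹ * z * g) = g⁻¹ * (g * y * g⁻¹ * z) * g := by group
          have e2 : g⁻¹ * z * g * y = g⁻¹ * (z * (g * y * g⁻¹)) * g := by group
          rw [e1, e2, hc]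
        rw [hZ, Subgroup.mem_bot] at hmem
        have h1 : g⁻¹ * z * g = 1 := congrArg Subtype.val hmem
        have : z = g * (g⁻¹ * z * g) * g⁻¹ := by group
        rw [this, h1]; group
      have hpair : ∀ i ∈ (Finset.univ : Finset {L : Subgroup G // ∃ g : G, L = MulAut.conj g • K}),
          ∀ j ∈ (Finset.univ : Finset {L : Subgroup G // ∃ g : G, L = MulAut.conj g • K}), i ≠ j →
          ∀ x ∈ (i : Subgroup G), ∀ y ∈ (j : Subgroup G), Commute x y := by
        rintro ⟨L, g, rfl⟩ _ ⟨L', g', rfl⟩ _ hne x hx y hy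
        have hne' : MulAut.conj g • K ≠ MulAut.conj g' • K := fun e => hne (Subtype.ext e)
        have hcm := component_commutator_eq_bot_of_ne (isComponent_conj_smul hK g)
          (isComponent_conj_smul hK g') hne'
        rw [Subgroup.commutator_eq_bot_iff_le_centralizer] at hcm
        exact (Subgroup.mem_centralizer_iff.mp (hcm hx) y hy).symm
      have hMle : Subgroup.normalClosure (K : Set G) ≤
          ⨆ i ∈ (Finset.univ : Finset {L : Subgroup G // ∃ g : G, L = MulAut.conj g • K}),
            (i : Subgroup G) := by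
        unfold Subgroup.normalClosure
        rw [Subgroup.closure_le]
        intro x hx
        obtain ⟨k, hk, hkx⟩ := Group.mem_conjugatesOfSet_iff.mp hx
        obtain ⟨g, rfl⟩ := isConj_iff.mp hkx
        have hmem : g * k * g⁻¹ ∈ MulAut.conj g • K := by
          rw [Subgroup.mem_pointwise_smul_iff_inv_smul_mem]
          simpa [MulAut.smul_def, mul_assoc] using hk
        exact Subgroup.mem_iSup_of_mem ⟨MulAut.conj g • K, g, rfl⟩
          (Subgroup.mem_iSup_of_mem (Finset.mem_univ _) hmem)
      rw [eq_bot_iff]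
      intro z hz
      rw [Subgroup.mem_bot]
      apply eq_one_of_mem_biSup_of_commute
        (fun i : {L : Subgroup G // ∃ g : G, L = MulAut.conj g • K} => (i : Subgroup G))
        hcenter Finset.univ hpair z (hMle (hNM hz))
      rintro ⟨L, g, rfl⟩ _ y hy
      simp only at hy
      rw [Subgroup.mem_pointwise_smul_iff_inv_smul_mem] at hy
      have hy' : g⁻¹ * y * g ∈ K := by simpa [MulAut.smul_def] using hy
      have hz' : g⁻¹ * z * g ∈ N := by
        have := hN.conj_mem z hz g⁻¹
        simpa using this
      have hc := Subgroup.mem_centralizer_iff.mp (h hy') _ hz'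
      -- hc : g⁻¹ z g * (g⁻¹ y g) = g⁻¹ y g * (g⁻¹ z g)
      show y * z = z * y
      have e1 : y * z = g * ((g⁻¹ * y * g) * (g⁻¹ * z * g)) * g⁻¹ := by group
      have e2 : z * y = g * ((g⁻¹ * z * g) * (g⁻¹ * y * g)) * g⁻¹ := by group
      rw [e1, e2, hc]

theorem part_b [Finite G] (hF : Cfsg.fittingSubgroup G = ⊥) :
    sSup {N : Subgroup G | N ≠ ⊥ ∧ N.Normal ∧ ∀ N' : Subgroup G, N'.Normal → N' ≤ N →
      N' = ⊥ ∨ N' = N} = Cfsg.layer G := by
  apply le_antisymm
  · apply sSup_le
    rintro N ⟨hN1, hNn, hmin⟩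
    have hEn : (Cfsg.layer G).Normal := inferInstance
    have hinf : (N ⊓ Cfsg.layer G).Normal := inferInstance
    rcases hmin _ hinf inf_le_left with h | h
    · exfalso
      have h1 : ⁅N, Cfsg.layer G⁆ = ⊥ := by
        rw [eq_bot_iff, ← h]
        exact Subgroup.commutator_le_inf N (Cfsg.layer G)
      rw [Subgroup.commutator_eq_bot_iff_le_centralizer] at h1
      have h2 : Cfsg.generalizedFittingSubgroup G = Cfsg.layer G := by
        unfold Cfsg.generalizedFittingSubgroup
        rw [hF, sup_bot_eq]
      have h3 := centralizer_generalizedFittingSubgroup_le (G := G)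
      rw [h2] at h3
      have h4 : N ≤ N ⊓ Cfsg.layer G := le_inf le_rfl (h1.trans h3)
      rw [h, le_bot_iff] at h4
      exact hN1 h4
    · exact inf_eq_left.mp h
  · conv_lhs => unfold Cfsg.layer
    apply sSup_le
    intro K hK
    have hZ : Subgroup.center ↥K = ⊥ := by
      have h1 : (Subgroup.center ↥K).map K.subtype ≤
          (Subgroup.center ↥(Cfsg.layer G)).map (Cfsg.layer G).subtype := by
        rw [map_subtype_center_layer_eq_iSup]
        exact le_iSup (fun L : {K : Subgroup G // Cfsg.IsComponent K} =>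
          (Subgroup.center ↥(L : Subgroup G)).map (L : Subgroup G).subtype) ⟨K, hK⟩
      rw [map_subtype_center_layer, hF, bot_inf_eq, le_bot_iff] at h1
      exact (Subgroup.map_eq_bot_iff_of_injective _ K.subtype_injective).mp h1
    obtain ⟨ha1, ha2⟩ := part_a K hK hZ
    exact (Subgroup.le_normalClosure).trans
      (le_sSup ⟨ha1, Subgroup.normalClosure_normal, ha2⟩)

/-- Let G be a finite group. (a) If K is a component of G with trivial centre, then the normal closure of K in G is a minimal normal subgroup of G. (b) If the Fitting subgroup of G is trivial, then the layer E(G) is generated by the minimal normal subgroups of G. -/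
theorem result {G : Type*} [Group G] [Finite G] : (∀ K : Subgroup G, Cfsg.IsComponent K → Subgroup.center ↥K = ⊥ → (Subgroup.normalClosure (K : Set G) ≠ ⊥ ∧ ∀ N : Subgroup G, N.Normal → N ≤ Subgroup.normalClosure (K : Set G) → N = ⊥ ∨ N = Subgroup.normalClosure (K : Set G))) ∧ (Cfsg.fittingSubgroup G = ⊥ → sSup {N : Subgroup G | N ≠ ⊥ ∧ N.Normal ∧ ∀ N' : Subgroup G, N'.Normal → N' ≤ N → N' = ⊥ ∨ N' = N} = Cfsg.layer G) := by
  exact ⟨fun K hK hZ => part_a K hK hZ, part_b⟩

end Cfsg.Agent.S3747
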