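import Mathlib
import Cfsg.Statements.S3748
import Cfsg.Agent.Lib.Helper7.Fitting
import Cfsg.Agent.Lib.Helper7.FStar
import Cfsg.Agent.Lib.Helper7.Layer4
import Cfsg.Agent.Lib.Helper7.Layer6
import Cfsg.Agent.Lib.Helper19.Conj

set_option autoImplicit false
open Cfsg

namespace Cfsg.Agent.S3748

open Cfsg.Agent.Helper19 in
/-- Call a proper subgroup M of G primitive when M = N_G(N) for every non-trivial normal subgroup N of M. If M is a primitive subgroup of the finite group G, then no non-trivial subnormal subgroup of G is contained in M; in particular M ∩ F(G) = 1. -/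
theorem result {G : Type*} [Group G] [Finite G] (M : Subgroup G) (hM : M ≠ ⊤) (hprim : ∀ N : Subgroup G, N ≤ M → M ≤ Subgroup.normalizer (N : Set G) → N ≠ ⊥ → Subgroup.normalizer (N : Set G) = M) : (∀ L : Subgroup G, L.IsSubnormal → L ≤ M → L = ⊥) ∧ M ⊓ Cfsg.fittingSubgroup G = ⊥ := by
  have hFn : (Cfsg.fittingSubgroup G).Normal := Cfsg.Agent.Helper7.fittingSubgroup_normal'
  have hEn : (Cfsg.layer G).Normal := inferInstance
  -- (A) M ∩ F(G) = 1
  have hA : M ⊓ Cfsg.fittingSubgroup G = ⊥ := by
    by_contra hne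
    have hPn : M ≤ Subgroup.normalizer ((M ⊓ Cfsg.fittingSubgroup G : Subgroup G) : Set G) := by
      rw [Subgroup.le_normalizer_iff]
      intro m hm x hx
      exact Subgroup.mem_inf.mpr ⟨M.mul_mem (M.mul_mem hm hx.1) (M.inv_mem hm),
        hFn.conj_mem x hx.2 m⟩
    have hNP := hprim _ inf_le_left hPn hne
    have hnil : Group.IsNilpotent ↥(Cfsg.fittingSubgroup G) :=
      Cfsg.Agent.Helper7.fittingSubgroup_isNilpotent
    have hnc := Group.normalizerCondition_of_isNilpotent (G := ↥(Cfsg.fittingSubgroup G))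
    rw [normalizerCondition_iff_only_full_group_self_normalizing] at hnc
    have h1 : (M ⊓ Cfsg.fittingSubgroup G).subgroupOf (Cfsg.fittingSubgroup G) = ⊤ := by
      apply hnc
      apply le_antisymm _ Subgroup.le_normalizer
      intro x hx
      have hx' : (x : G) ∈ Subgroup.normalizer
          ((M ⊓ Cfsg.fittingSubgroup G : Subgroup G) : Set G) := by
        rw [Subgroup.mem_normalizer_iff] at hx ⊢
        intro g
        constructor
        · intro hg
          exact (hx ⟨g, hg.2⟩).mp hg
        · intro hg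
          have hgF : g ∈ Cfsg.fittingSubgroup G := by
            have h := hg.2
            have := hFn.conj_mem _ h (x : G)⁻¹
            simpa [mul_assoc] using this
          exact (hx ⟨g, hgF⟩).mpr hg
      rw [hNP] at hx'
      exact Subgroup.mem_inf.mpr ⟨hx', x.2⟩
    have hFM : Cfsg.fittingSubgroup G ≤ M := by
      rw [Subgroup.subgroupOf_eq_top] at h1
      exact le_trans h1 inf_le_left
    have hF1 : Cfsg.fittingSubgroup G ≠ ⊥ := fun h => hne (by rw [eq_bot_iff, ← h]; exact inf_le_right)
    have := hprim _ hFM (by rw [Subgroup.normalizer_eq_top]; exact le_top) hF1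
    rw [Subgroup.normalizer_eq_top] at this
    exact hM this.symm
  refine ⟨?_, hA⟩
  intro L hL hLM
  by_contra hLne
  -- the normal closure of L in M
  have hN'M : (⨆ m : ↥M, L.map (MulAut.conj (m : G)).toMonoidHom) ≤ M :=
    iSup_le fun m => map_conj_le_of_mem (m : G) m.2 hLM
  have hLN' : L ≤ ⨆ m : ↥M, L.map (MulAut.conj (m : G)).toMonoidHom := by
    have h1 := le_iSup (fun m : ↥M => L.map (MulAut.conj (m : G)).toMonoidHom) 1
    have h2 : L.map (MulAut.conj ((1 : ↥M) : G)).toMonoidHom = L := map_conj_one L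
    exact le_trans (le_of_eq h2.symm) h1
  have hN'ne : (⨆ m : ↥M, L.map (MulAut.conj (m : G)).toMonoidHom) ≠ ⊥ :=
    fun h => hLne (by rw [eq_bot_iff, ← h]; exact hLN')
  have hnorm : ∀ K : Subgroup G,
      (∀ k ∈ K, ∀ m : ↥M, (L.map (MulAut.conj (m : G)).toMonoidHom).map
        (MulAut.conj k).toMonoidHom ≤ ⨆ m : ↥M, L.map (MulAut.conj (m : G)).toMonoidHom) →
      K ≤ Subgroup.normalizer
        ((⨆ m : ↥M, L.map (MulAut.conj (m : G)).toMonoidHom : Subgroup G) : Set G) := by
    intro K hK
    rw [Subgroup.le_normalizer_iff]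
    intro k hk x hx
    have h1 := conj_mem_map_conj _ k x hx
    rw [Subgroup.map_iSup] at h1
    exact (iSup_le (hK k hk)) h1
  have hMN' : M ≤ Subgroup.normalizer
      ((⨆ m : ↥M, L.map (MulAut.conj (m : G)).toMonoidHom : Subgroup G) : Set G) := by
    apply hnorm
    intro k hk m
    rw [← map_conj_mul]
    exact le_iSup (fun m : ↥M => L.map (MulAut.conj (m : G)).toMonoidHom) ⟨k * m, M.mul_mem hk m.2⟩
  have hEN' : Cfsg.layer G ≤ Subgroup.normalizer
      ((⨆ m : ↥M, L.map (MulAut.conj (m : G)).toMonoidHom : Subgroup G) : Set G) := by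
    apply hnorm
    intro e he m
    have hsn : (L.map (MulAut.conj (m : G)).toMonoidHom).IsSubnormal :=
      hL.map (MulAut.conj (m : G)).surjective
    have := Cfsg.Agent.Helper7.layer_le_normalizer_of_isSubnormal hsn he
    rw [mem_normalizer_iff_map_conj] at this
    rw [this]
    exact le_iSup (fun m : ↥M => L.map (MulAut.conj (m : G)).toMonoidHom) m
  have hNN' := hprim _ hN'M hMN' hN'ne
  have hEM : Cfsg.layer G ≤ M := hNN' ▸ hEN'
  have hE1 : Cfsg.layer G = ⊥ := by
    by_contra hE
    have := hprim _ hEM (by rw [Subgroup.normalizer_eq_top]; exact le_top) hE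
    rw [Subgroup.normalizer_eq_top] at this
    exact hM this.symm
  -- F(L) ≠ 1
  have hFL : Cfsg.fittingSubgroup ↥L ≠ ⊥ := by
    intro h
    have hEL : Cfsg.layer ↥L = ⊥ := by
      have := Cfsg.Agent.Helper7.map_subtype_layer_le hL
      rw [hE1, le_bot_iff, Subgroup.map_eq_bot_iff_of_injective _ L.subtype_injective] at this
      exact this
    have hFs : Cfsg.generalizedFittingSubgroup ↥L = ⊥ := by
      unfold Cfsg.generalizedFittingSubgroup
      rw [hEL, h, sup_bot_eq]
    have hcen := Cfsg.Agent.Helper7.centralizer_generalizedFittingSubgroup_le (G := ↥L)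
    rw [hFs] at hcen
    have htop : (⊤ : Subgroup ↥L) ≤ ⊥ := by
      refine le_trans ?_ hcen
      intro x _
      rw [Subgroup.mem_centralizer_iff]
      intro y hy
      rw [Subgroup.coe_bot, Set.mem_singleton_iff] at hy
      rw [hy]
      simp
    apply hLne
    rw [eq_bot_iff]
    intro x hx
    have := htop (Subgroup.mem_top (⟨x, hx⟩ : ↥L))
    rw [Subgroup.mem_bot] at this ⊢
    exact congrArg Subtype.val this
  have hmap := Cfsg.Agent.Helper7.map_subtype_fittingSubgroup_eq hL
  have hle : (Cfsg.fittingSubgroup ↥L).map L.subtype ≤ M ⊓ Cfsg.fittingSubgroup G := by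
    rw [hmap]
    exact le_inf (le_trans inf_le_right hLM) inf_le_left
  rw [hA, le_bot_iff, Subgroup.map_eq_bot_iff_of_injective _ L.subtype_injective] at hle
  exact hFL hle

end Cfsg.Agent.S3748
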