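import Mathlib
import Cfsg.Statements.S3749
import Cfsg.Agent.Lib.Helper1.Coprime
import Cfsg.Agent.Lib.Helper1.CoprimeSylow
import Cfsg.Agent.Lib.Helper15.PCore

set_option autoImplicit false
open Cfsg

namespace Cfsg.Agent.S3749

open Cfsg.Agent.Helper1 in
/-- Call a proper subgroup M of G primitive when M = N_G(N) for every non-trivial normal subgroup N of M. Let M be a primitive subgroup of the finite group G, p a prime with O_p(M) ≠ 1, and N a normal subgroup of G with M ∩ N = 1. Then p does not divide the order of N; for every prime q there is exactly one Sylow q-subgroup of N normalized by M; and if the order of N has at least two prime divisors then M is not a maximal subgroup of G. -/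
theorem result {G : Type*} [Group G] [Finite G] (M : Subgroup G) (hM : M ≠ ⊤) (hprim : ∀ N : Subgroup G, N ≤ M → M ≤ Subgroup.normalizer (N : Set G) → N ≠ ⊥ → Subgroup.normalizer (N : Set G) = M) {p : ℕ} [Fact p.Prime] (hOp : Cfsg.pCore p ↥M ≠ ⊥) (N : Subgroup G) [N.Normal] (hMN : M ⊓ N = ⊥) : ¬ p ∣ Nat.card N ∧ (∀ q : ℕ, [Fact q.Prime] → ∃! Q : Sylow q ↥N, M ≤ Subgroup.normalizer ((Q : Subgroup ↥N).map N.subtype : Set G)) ∧ ((∃ q r : ℕ, q.Prime ∧ r.Prime ∧ q ≠ r ∧ q ∣ Nat.card N ∧ r ∣ Nat.card N) → ¬ IsCoatom M) := by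
  have hNn : N.Normal := inferInstance
  have hp : p.Prime := Fact.out
  -- P₀ = O_p(M) inside G
  have hP₀M : (Cfsg.pCore p ↥M).map M.subtype ≤ M := Subgroup.map_subtype_le _
  have hP₀ne : (Cfsg.pCore p ↥M).map M.subtype ≠ ⊥ := by
    intro h
    rw [Subgroup.map_eq_bot_iff_of_injective _ M.subtype_injective] at h
    exact hOp h
  have hMP₀ : M ≤ Subgroup.normalizer (((Cfsg.pCore p ↥M).map M.subtype : Subgroup G) : Set G) := by
    have h1 := Subgroup.le_normalizer_map (H := Cfsg.pCore p ↥M) M.subtype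
    have hn : (Cfsg.pCore p ↥M).Normal := Cfsg.pCore_normal p ↥M
    rw [Subgroup.normalizer_eq_top, ← MonoidHom.range_eq_map, Subgroup.range_subtype] at h1
    exact h1
  have hNP₀ := hprim _ hP₀M hMP₀ hP₀ne
  have hP₀p : IsPGroup p ↥((Cfsg.pCore p ↥M).map M.subtype) :=
    (Cfsg.Agent.Helper15.isPGroup_pCore p ↥M).map _
  -- elements of N centralising P₀ are trivial
  have hCN : ∀ n ∈ N, (∀ x ∈ (Cfsg.pCore p ↥M).map M.subtype, x * n = n * x) → n = 1 := by
    intro n hn hc
    have h1 : n ∈ Subgroup.centralizer (((Cfsg.pCore p ↥M).map M.subtype : Subgroup G) : Set G) := by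
      rw [Subgroup.mem_centralizer_iff]
      exact hc
    have h2 : n ∈ M := hNP₀ ▸ (Subgroup.centralizer_le_normalizer _ h1)
    have h3 : n ∈ M ⊓ N := Subgroup.mem_inf.mpr ⟨h2, hn⟩
    rw [hMN, Subgroup.mem_bot] at h3
    exact h3
  -- (i)
  have hpN : ¬ p ∣ Nat.card N := by
    intro hdvd
    let _inst : MulAction ↥((Cfsg.pCore p ↥M).map M.subtype) ↥N :=
      MulAction.compHom ↥N ((MulAut.conjNormal : G →* MulAut ↥N).comp
        ((Cfsg.pCore p ↥M).map M.subtype).subtype)
    have hsmul : ∀ (g : ↥((Cfsg.pCore p ↥M).map M.subtype)) (n : ↥N),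
        ((g • n : ↥N) : G) = (g : G) * n * (g : G)⁻¹ := fun g n => rfl
    have h1 : (1 : ↥N) ∈ MulAction.fixedPoints ↥((Cfsg.pCore p ↥M).map M.subtype) ↥N := by
      intro g
      apply Subtype.ext
      rw [hsmul]
      simp
    obtain ⟨b, hb, hb1⟩ :=
      hP₀p.exists_fixed_point_of_prime_dvd_card_of_fixed_point ↥N hdvd h1
    apply hb1
    apply Subtype.ext
    symm
    apply hCN b b.2
    intro x hx
    have := hb ⟨x, hx⟩
    have h2 : x * (b : G) * x⁻¹ = b := by
      rw [← hsmul ⟨x, hx⟩ b, this]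
    calc x * (b : G) = (x * b * x⁻¹) * x := by group
      _ = b * x := by rw [h2]
  -- coprime action data
  have hAK : (Cfsg.pCore p ↥M).map M.subtype ≤ Subgroup.normalizer (N : Set G) := by
    rw [Subgroup.normalizer_eq_top]
    exact le_top
  have hcop : (Nat.card ↥((Cfsg.pCore p ↥M).map M.subtype)).Coprime (Nat.card N) := by
    obtain ⟨k, hk⟩ := hP₀p.exists_card_eq
    rw [hk]
    exact Nat.Coprime.pow_left k ((Nat.Prime.coprime_iff_not_dvd hp).mpr hpN)
  have hsolv : Group.IsSolvable ↥((Cfsg.pCore p ↥M).map M.subtype) ∨ Group.IsSolvable ↥N := by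
    left
    have := hP₀p.isNilpotent
    infer_instance
  -- (ii)
  have hii : ∀ q : ℕ, [Fact q.Prime] → ∃ Q : Sylow q ↥N,
      M ≤ Subgroup.normalizer ((Q : Subgroup ↥N).map N.subtype : Set G) ∧
      ∀ Q' : Sylow q ↥N, (Cfsg.pCore p ↥M).map M.subtype ≤
        Subgroup.normalizer ((Q' : Subgroup ↥N).map N.subtype : Set G) → Q' = Q := by
    intro q _
    obtain ⟨Q, hQ⟩ := exists_invariant_sylow (p := q) _ hAK hcop hsolv
    have huniq : ∀ Q' : Sylow q ↥N, (Cfsg.pCore p ↥M).map M.subtype ≤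
        Subgroup.normalizer ((Q' : Subgroup ↥N).map N.subtype : Set G) → Q' = Q := by
      intro Q' hQ'
      obtain ⟨c, hc, hcQ⟩ := invariant_sylow_conj (p := q) _ hAK hcop hsolv Q' Q hQ' hQ
      have hc1 : (c : G) = 1 := by
        apply hCN c c.2
        intro x hx
        rw [Subgroup.mem_centralizer_iff] at hc
        exact hc x hx
      have hc1' : c = 1 := Subtype.ext hc1
      rw [hc1', map_one, one_smul] at hcQ
      exact hcQ
    refine ⟨Q, ?_, huniq⟩
    intro m hm
    have hmN : m ∈ Subgroup.normalizer (N : Set G) := by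
      rw [Subgroup.normalizer_eq_top]
      exact Subgroup.mem_top m
    have hinv : (Cfsg.pCore p ↥M).map M.subtype ≤ Subgroup.normalizer
        ((((⟨m, hmN⟩ : Subgroup.normalizer (N : Set G)) • Q : Sylow q ↥N) : Subgroup ↥N).map
          N.subtype : Set G) := by
      intro a ha
      have haN : a ∈ Subgroup.normalizer (N : Set G) := hAK ha
      rw [← normalizer_smul_sylow_eq_iff ⟨a, haN⟩, ← mul_smul]
      -- a m = m (m⁻¹ a m)
      have hconj : m⁻¹ * a * m ∈ (Cfsg.pCore p ↥M).map M.subtype := by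
        have := (Subgroup.le_normalizer_iff.mp hMP₀) m⁻¹ (M.inv_mem hm) a ha
        simpa using this
      have hconjN : m⁻¹ * a * m ∈ Subgroup.normalizer (N : Set G) := hAK hconj
      have e : (⟨a, haN⟩ : Subgroup.normalizer (N : Set G)) * ⟨m, hmN⟩ =
          ⟨m, hmN⟩ * ⟨m⁻¹ * a * m, hconjN⟩ := by
        apply Subtype.ext
        show a * m = m * (m⁻¹ * a * m)
        group
      rw [e, mul_smul]
      congr 1
      exact (normalizer_smul_sylow_eq_iff ⟨m⁻¹ * a * m, hconjN⟩ Q).mpr (hQ hconj)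
    have := huniq _ hinv
    exact (normalizer_smul_sylow_eq_iff ⟨m, hmN⟩ Q).mp this
  refine ⟨hpN, ?_, ?_⟩
  · intro q _
    obtain ⟨Q, hQ, huniq⟩ := hii q
    refine ⟨Q, hQ, ?_⟩
    intro Q' hQ'
    exact huniq Q' (le_trans hP₀M hQ')
  · rintro ⟨q, r, hq, hr, hqr, hqN, hrN⟩ hco
    have : Fact q.Prime := ⟨hq⟩
    obtain ⟨Q, hQ, -⟩ := hii q
    -- Q₁ ≠ ⊥
    have hQ1 : ((Q : Subgroup ↥N).map N.subtype) ≠ ⊥ := by
      intro h
      rw [Subgroup.map_eq_bot_iff_of_injective _ N.subtype_injective] at h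
      have := Q.card_eq_multiplicity
      rw [h, Subgroup.card_bot] at this
      have h2 : (Nat.card ↥N).factorization q ≠ 0 := by
        have hpos : 0 < (Nat.card ↥N).factorization q :=
          hq.factorization_pos_of_dvd Nat.card_pos.ne' hqN
        omega
      have h3 : 1 < q ^ (Nat.card ↥N).factorization q := Nat.one_lt_pow h2 hq.one_lt
      omega
    have hQN : ((Q : Subgroup ↥N).map N.subtype) ≤ N := Subgroup.map_subtype_le _
    have hlt : M < (Q : Subgroup ↥N).map N.subtype ⊔ M := by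
      apply lt_of_le_of_ne le_sup_right
      intro h
      have hle : (Q : Subgroup ↥N).map N.subtype ≤ M := by
        rw [h]
        exact le_sup_left
      have : (Q : Subgroup ↥N).map N.subtype ≤ M ⊓ N := le_inf hle hQN
      rw [hMN, le_bot_iff] at this
      exact hQ1 this
    have htop := hco.2 _ hlt
    -- then N = Q₁ is a q-group
    have hNQ : N ≤ (Q : Subgroup ↥N).map N.subtype := by
      intro x hx
      have hx' : x ∈ (Q : Subgroup ↥N).map N.subtype ⊔ M := htop ▸ Subgroup.mem_top x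
      obtain ⟨y, hy, m, hm, rfl⟩ := exists_mul_of_mem_sup hQ hx'
      have hmN : m ∈ N := by
        have : m = y⁻¹ * (y * m) := by group
        rw [this]
        exact N.mul_mem (N.inv_mem (hQN hy)) hx
      have hm1 : m ∈ M ⊓ N := Subgroup.mem_inf.mpr ⟨hm, hmN⟩
      rw [hMN, Subgroup.mem_bot] at hm1
      rw [hm1, mul_one]
      exact hy
    have hQp : IsPGroup q ↥((Q : Subgroup ↥N).map N.subtype) := Q.2.map _
    have hNp : IsPGroup q ↥N := hQp.to_le hNQ
    obtain ⟨k, hk⟩ := hNp.exists_card_eq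
    rw [hk] at hrN
    have := (Nat.prime_dvd_prime_iff_eq hr hq).mp (hr.dvd_of_dvd_pow hrN)
    exact hqr this.symm

end Cfsg.Agent.S3749
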