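import Mathlib
import Cfsg.Statements.S3750
import Cfsg.Agent.S3748
import Cfsg.Agent.Lib.Helper7.Fitting
import Cfsg.Agent.Lib.Helper7.FStar
import Cfsg.Agent.Lib.Helper7.FStar2
import Cfsg.Agent.Lib.Helper7.Components
import Cfsg.Agent.Lib.Helper7.Components2
import Cfsg.Agent.Lib.Helper7.Layer6

set_option autoImplicit false
open Cfsg

namespace Cfsg.Agent.S3750

/-- Call a proper subgroup M of G primitive when M = N_G(N) for every non-trivial normal subgroup N of M. Let M be a primitive subgroup of the finite group G and N a normal subgroup of G with M ∩ F*(N) ≠ 1. Then F(G) = 1 and F*(N) = F*(G) = E(G); in particular every minimal normal subgroup of G is contained in N. -/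
theorem result {G : Type*} [Group G] [Finite G] (M : Subgroup G) (hM : M ≠ ⊤) (hprim : ∀ N : Subgroup G, N ≤ M → M ≤ Subgroup.normalizer (N : Set G) → N ≠ ⊥ → Subgroup.normalizer (N : Set G) = M) (N : Subgroup G) [N.Normal] (hMF : M ⊓ (Cfsg.generalizedFittingSubgroup ↥N).map N.subtype ≠ ⊥) : Cfsg.fittingSubgroup G = ⊥ ∧ (Cfsg.generalizedFittingSubgroup ↥N).map N.subtype = Cfsg.generalizedFittingSubgroup G ∧ Cfsg.generalizedFittingSubgroup G = Cfsg.layer G ∧ ∀ K : Subgroup G, K.Normal → K ≠ ⊥ → (∀ K' : Subgroup G, K'.Normal → K' ≤ K → K' = ⊥ ∨ K' = K) → K ≤ N := by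
  have hNn : N.Normal := inferInstance
  have hFNeq : Cfsg.generalizedFittingSubgroup G ⊓ N =
      (Cfsg.generalizedFittingSubgroup ↥N).map N.subtype :=
    Cfsg.Agent.Helper7.generalizedFittingSubgroup_inf_normal N
  have hFsn : (Cfsg.generalizedFittingSubgroup G).Normal := inferInstance
  have hFNn : ((Cfsg.generalizedFittingSubgroup ↥N).map N.subtype).Normal := by
    rw [← hFNeq]
    infer_instance
  have hFNle : (Cfsg.generalizedFittingSubgroup ↥N).map N.subtype ≤
      Cfsg.generalizedFittingSubgroup G := hFNeq ▸ inf_le_left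
  have hFNN : (Cfsg.generalizedFittingSubgroup ↥N).map N.subtype ≤ N := Subgroup.map_subtype_le _
  -- the centraliser of F*(N) is trivial
  have hDn : (Subgroup.centralizer
      (((Cfsg.generalizedFittingSubgroup ↥N).map N.subtype : Subgroup G) : Set G)).Normal :=
    Subgroup.normal_centralizer
  have hXn : M ≤ Subgroup.normalizer
      ((M ⊓ (Cfsg.generalizedFittingSubgroup ↥N).map N.subtype : Subgroup G) : Set G) := by
    rw [Subgroup.le_normalizer_iff]
    intro m hm x hx
    exact Subgroup.mem_inf.mpr ⟨M.mul_mem (M.mul_mem hm hx.1) (M.inv_mem hm),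
      hFNn.conj_mem x hx.2 m⟩
  have hNX := hprim _ inf_le_left hXn hMF
  have hDM : Subgroup.centralizer
      (((Cfsg.generalizedFittingSubgroup ↥N).map N.subtype : Subgroup G) : Set G) ≤ M := by
    calc Subgroup.centralizer
          (((Cfsg.generalizedFittingSubgroup ↥N).map N.subtype : Subgroup G) : Set G)
        ≤ Subgroup.centralizer
          ((M ⊓ (Cfsg.generalizedFittingSubgroup ↥N).map N.subtype : Subgroup G) : Set G) :=
          Subgroup.centralizer_le (inf_le_right :
            M ⊓ (Cfsg.generalizedFittingSubgroup ↥N).map N.subtype ≤ _)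
      _ ≤ Subgroup.normalizer
          ((M ⊓ (Cfsg.generalizedFittingSubgroup ↥N).map N.subtype : Subgroup G) : Set G) :=
          Subgroup.centralizer_le_normalizer _
      _ = M := hNX
  have hD : Subgroup.centralizer
      (((Cfsg.generalizedFittingSubgroup ↥N).map N.subtype : Subgroup G) : Set G) = ⊥ :=
    (Cfsg.Agent.S3748.result M hM hprim).1 _ hDn.isSubnormal hDM
  -- F(G) = 1
  have hF : Cfsg.fittingSubgroup G = ⊥ := by
    by_contra hne
    have hnil : Group.IsNilpotent ↥(Cfsg.fittingSubgroup G) :=
      Cfsg.Agent.Helper7.fittingSubgroup_isNilpotent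
    have hnt : Nontrivial ↥(Cfsg.fittingSubgroup G) := (Subgroup.nontrivial_iff_ne_bot _).mpr hne
    apply Group.IsNilpotent.center_ne_bot (G := ↥(Cfsg.fittingSubgroup G))
    rw [eq_bot_iff]
    intro z hz
    have hzc : (z : G) ∈ Subgroup.centralizer
        (((Cfsg.generalizedFittingSubgroup ↥N).map N.subtype : Subgroup G) : Set G) := by
      apply Subgroup.centralizer_le hFNle
      have hle : Cfsg.layer G ⊔ Cfsg.fittingSubgroup G ≤
          Subgroup.centralizer ({(z : G)} : Set G) := by
        apply sup_le
        · have h1 : Cfsg.layer G ≤ Subgroup.centralizer (Cfsg.fittingSubgroup G : Set G) :=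
            Subgroup.commutator_eq_bot_iff_le_centralizer.mp
              Cfsg.Agent.Helper7.layer_commutator_fittingSubgroup
          intro e he
          rw [Subgroup.mem_centralizer_iff]
          intro d hd
          rw [Set.mem_singleton_iff] at hd
          rw [hd]
          have := h1 he
          rw [Subgroup.mem_centralizer_iff] at this
          exact this z z.2
        · intro f hf
          rw [Subgroup.mem_centralizer_iff]
          intro d hd
          rw [Set.mem_singleton_iff] at hd
          rw [hd]
          have := Subgroup.mem_center_iff.mp hz ⟨f, hf⟩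
          exact (congrArg Subtype.val this).symm
      rw [Subgroup.mem_centralizer_iff]
      intro h hh
      have := hle hh
      rw [Subgroup.mem_centralizer_iff] at this
      exact (this z rfl).symm
    rw [hD, Subgroup.mem_bot] at hzc
    rw [Subgroup.mem_bot]
    exact Subtype.ext hzc
  -- E(G) ≤ N
  have hEN : Cfsg.layer G ≤ N := by
    unfold Cfsg.layer
    apply sSup_le
    intro K hK
    rcases Cfsg.Agent.Helper7.component_le_or_commutator_eq_bot' K N hK hNn.isSubnormal with h | h
    · exact h
    · exfalso
      have h1 : K ≤ Subgroup.centralizer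
          (((Cfsg.generalizedFittingSubgroup ↥N).map N.subtype : Subgroup G) : Set G) :=
        le_trans (Subgroup.commutator_eq_bot_iff_le_centralizer.mp h)
          (Subgroup.centralizer_le hFNN)
      rw [hD, le_bot_iff] at h1
      exact Cfsg.Agent.Helper7.component_ne_bot hK h1
  have hFsE : Cfsg.generalizedFittingSubgroup G = Cfsg.layer G := by
    unfold Cfsg.generalizedFittingSubgroup
    rw [hF, sup_bot_eq]
  refine ⟨hF, ?_, hFsE, ?_⟩
  · rw [← hFNeq, inf_eq_left, hFsE]
    exact hEN
  · intro K hKn hK1 hKmin
    have hinf : (K ⊓ N).Normal := inferInstance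
    rcases hKmin (K ⊓ N) hinf inf_le_left with h | h
    · exfalso
      have hc : ⁅K, N⁆ ≤ K ⊓ N :=
        le_inf (Subgroup.commutator_le_left K N) (Subgroup.commutator_le_right K N)
      rw [h, le_bot_iff] at hc
      have h1 : K ≤ Subgroup.centralizer
          (((Cfsg.generalizedFittingSubgroup ↥N).map N.subtype : Subgroup G) : Set G) :=
        le_trans (Subgroup.commutator_eq_bot_iff_le_centralizer.mp hc)
          (Subgroup.centralizer_le hFNN)
      rw [hD, le_bot_iff] at h1
      exact hK1 h1
    · exact inf_eq_left.mp h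

end Cfsg.Agent.S3750
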