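import Mathlib
import Cfsg.Statements.S3751
import Cfsg.Agent.Lib.Helper9.PCoreSub
import Cfsg.Agent.Lib.Helper1.CommutatorBasic

set_option autoImplicit false
open Cfsg

namespace Cfsg.Agent.S3751

open Subgroup

variable {G : Type*} [Group G] [Finite G] {p : ℕ} [Fact p.Prime]

/-- `O_p(M)` as a subgroup of `G`. -/
def Op (p : ℕ) (M : Subgroup G) : Subgroup G := (Cfsg.pCore p ↥M).map M.subtype

theorem Op_le (M : Subgroup G) : Op p M ≤ M := by
  rintro _ ⟨x, _, rfl⟩; exact x.2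

theorem Op_isPGroup (M : Subgroup G) : IsPGroup p (Op p M) :=
  (Cfsg.Agent.Helper9.pCore_isPGroup' p ↥M).map _

theorem le_Op {M B : Subgroup G} (hBM : B ≤ M) (hB : IsPGroup p B)
    (hn : M ≤ normalizer (B : Set G)) : B ≤ Op p M := by
  have hnorm : (B.subgroupOf M).Normal := by
    constructor
    intro n hn' g
    rw [mem_subgroupOf] at hn' ⊢
    exact (mem_normalizer_iff.mp (hn g.2) n).mp hn'
  have h1 : B.subgroupOf M ≤ Cfsg.pCore p ↥M :=
    Cfsg.Agent.Helper9.le_pCore' hnorm hB.comap_subtype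
  intro b hb
  exact ⟨⟨b, hBM hb⟩, h1 (mem_subgroupOf.mpr hb), rfl⟩

theorem Op_normal (M : Subgroup G) : M ≤ normalizer (Op p M : Set G) := by
  apply Cfsg.Agent.Helper1.le_normalizer_of_forall_conj_mem
  rintro g hg _ ⟨x, hx, rfl⟩
  haveI : (Cfsg.pCore p ↥M).Characteristic := Cfsg.Agent.Helper9.pCore_characteristic p
  have hN : (Cfsg.pCore p ↥M).Normal := inferInstance
  exact ⟨⟨g, hg⟩ * x * ⟨g, hg⟩⁻¹, hN.conj_mem x hx ⟨g, hg⟩, rfl⟩

/-- `p`-local subgroups. -/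
def PLocal (p : ℕ) (M : Subgroup G) : Prop :=
  ∃ T : Subgroup G, IsPGroup p T ∧ T ≠ ⊥ ∧ M = normalizer (T : Set G)

/-- maximal `p`-local subgroups. -/
def MaxPLocal (p : ℕ) (M : Subgroup G) : Prop :=
  PLocal p M ∧ ∀ L : Subgroup G, PLocal p L → M ≤ L → L = M

theorem exists_maxPLocal_ge {L : Subgroup G} (hL : PLocal p L) :
    ∃ M, MaxPLocal p M ∧ L ≤ M := by
  obtain ⟨M, hLM, hM⟩ := Finite.exists_le_maximal (p := fun M : Subgroup G => PLocal p M) hL
  exact ⟨M, ⟨hM.1, fun L' hL' hML' => le_antisymm (hM.2 hL' hML') hML'⟩, hLM⟩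

theorem normalizer_eq_of_maxPLocal {M B : Subgroup G} (hM : MaxPLocal p M) (hB : IsPGroup p B)
    (hB1 : B ≠ ⊥) (hn : M ≤ normalizer (B : Set G)) : normalizer (B : Set G) = M :=
  hM.2 _ ⟨B, hB, hB1, rfl⟩ hn

theorem Op_ne_bot {M : Subgroup G} (hM : PLocal p M) : Op p M ≠ ⊥ := by
  obtain ⟨T, hT, hT1, rfl⟩ := hM
  intro h
  apply hT1
  have : T ≤ Op p (normalizer (T : Set G)) := le_Op le_normalizer hT le_rfl
  rw [h] at this
  exact le_bot_iff.mp this

theorem normalizer_Op_eq {M : Subgroup G} (hM : MaxPLocal p M) :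
    normalizer (Op p M : Set G) = M :=
  normalizer_eq_of_maxPLocal hM (Op_isPGroup M) (Op_ne_bot hM.1) (Op_normal M)

theorem ne_top_of_pLocal (hOp : Cfsg.pCore p G = ⊥) {M : Subgroup G} (hM : PLocal p M) :
    M ≠ ⊤ := by
  obtain ⟨T, hT, hT1, rfl⟩ := hM
  intro h
  apply hT1
  have hTn : T.Normal := normalizer_eq_top_iff.mp h
  have := Cfsg.Agent.Helper9.le_pCore' hTn hT
  rw [hOp] at this
  exact le_bot_iff.mp this

theorem dvd_card_of_isPGroup {T : Subgroup G} (hT : IsPGroup p T) (hT1 : T ≠ ⊥) :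
    p ∣ Nat.card T := by
  obtain ⟨n, hn⟩ := IsPGroup.iff_card.mp hT
  rw [hn]
  rcases n with _ | n
  · exfalso; apply hT1; rw [pow_zero] at hn; exact Subgroup.card_eq_one.mp hn
  · exact dvd_pow_self p (Nat.succ_ne_zero n)

theorem dvd_card_of_pLocal {M : Subgroup G} (hM : PLocal p M) : p ∣ Nat.card M := by
  obtain ⟨T, hT, hT1, rfl⟩ := hM
  exact (dvd_card_of_isPGroup hT hT1).trans (Subgroup.card_dvd_of_le le_normalizer)

theorem conj_mem_Op {M : Subgroup G} {g : G} (h1 : ∀ m ∈ M, g * m * g⁻¹ ∈ M)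
    (h2 : ∀ m ∈ M, g⁻¹ * m * g ∈ M) : ∀ q ∈ Op p M, g * q * g⁻¹ ∈ Op p M := by
  intro q hq
  have hQ : (Op p M).map (MulAut.conj g).toMonoidHom ≤ Op p M := by
    apply le_Op
    · rintro _ ⟨q, hq, rfl⟩; exact h1 q (Op_le M hq)
    · exact (Op_isPGroup M).map _
    · apply Cfsg.Agent.Helper1.le_normalizer_of_forall_conj_mem
      rintro m hm _ ⟨q, hq, rfl⟩
      refine ⟨(g⁻¹ * m * g) * q * (g⁻¹ * m * g)⁻¹, ?_, ?_⟩
      · exact (mem_normalizer_iff.mp (Op_normal M (h2 m hm)) q).mp hq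
      · simp only [MulEquiv.coe_toMonoidHom, MulAut.conj_apply]; group
  exact hQ ⟨q, hq, rfl⟩

theorem normalizer_le_normalizer_Op (A : Subgroup G) :
    normalizer (A : Set G) ≤ normalizer (Op p A : Set G) := by
  intro g hg
  have h1 : ∀ a ∈ A, g * a * g⁻¹ ∈ A := fun a ha => (mem_normalizer_iff.mp hg a).mp ha
  have h2 : ∀ a ∈ A, g⁻¹ * a * g ∈ A := by
    intro a ha
    apply (mem_normalizer_iff.mp hg _).mpr
    have e : g * (g⁻¹ * a * g) * g⁻¹ = a := by group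
    rw [e]; exact ha
  rw [mem_normalizer_iff]
  intro h
  constructor
  · exact conj_mem_Op h1 h2 h
  · intro hh
    have := conj_mem_Op (p := p) (M := A) (g := g⁻¹)
      (by intro m hm; rw [inv_inv]; exact h2 m hm) (by intro m hm; rw [inv_inv]; exact h1 m hm) _ hh
    have e : g⁻¹ * (g * h * g⁻¹) * g⁻¹⁻¹ = h := by group
    rwa [e] at this

theorem mem_of_map_conj_eq {M : Subgroup G} (hM : MaxPLocal p M) {g : G}
    (h : M.map (MulAut.conj g).toMonoidHom = M) : g ∈ M := by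
  have hgM : ∀ m ∈ M, g * m * g⁻¹ ∈ M := by
    intro m hm
    rw [← h]
    exact ⟨m, hm, rfl⟩
  have hgM' : ∀ m ∈ M, g⁻¹ * m * g ∈ M := by
    intro m hm
    rw [← h] at hm
    obtain ⟨m', hm', rfl⟩ := hm
    have e : g⁻¹ * ((MulAut.conj g).toMonoidHom m') * g = m' := by
      simp only [MulEquiv.coe_toMonoidHom, MulAut.conj_apply]; group
    rw [e]; exact hm'
  have hgN : g ∈ normalizer (M : Set G) := by
    rw [mem_normalizer_iff]
    intro x
    constructor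
    · exact hgM x
    · intro hx
      have := hgM' _ hx
      have e : g⁻¹ * (g * x * g⁻¹) * g = x := by group
      rwa [e] at this
  have := normalizer_le_normalizer_Op (p := p) M hgN
  rwa [normalizer_Op_eq hM] at this

theorem pLocal_map {M : Subgroup G} (hM : PLocal p M) (φ : G ≃* G) :
    PLocal p (M.map φ.toMonoidHom) := by
  obtain ⟨T, hT, hT1, rfl⟩ := hM
  refine ⟨T.map φ.toMonoidHom, hT.map _, ?_, Subgroup.map_equiv_normalizer_eq T φ⟩
  intro h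
  apply hT1
  exact (Subgroup.map_eq_bot_iff_of_injective T φ.injective).mp h

theorem maxPLocal_map {M : Subgroup G} (hM : MaxPLocal p M) (φ : G ≃* G) :
    MaxPLocal p (M.map φ.toMonoidHom) := by
  refine ⟨pLocal_map hM.1 φ, ?_⟩
  intro L hL hML
  have h1 : M ≤ L.map φ.symm.toMonoidHom := by
    rw [← Subgroup.comap_equiv_eq_map_symm']
    exact Subgroup.map_le_iff_le_comap.mp hML
  have h2 := hM.2 _ (pLocal_map hL φ.symm) h1
  rw [← h2, Subgroup.map_map]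
  have : φ.toMonoidHom.comp φ.symm.toMonoidHom = MonoidHom.id G := by
    ext x; simp
  rw [this, Subgroup.map_id]

theorem charP_stmt (hloc : Cfsg.IsOfLocalCharacteristic p G) {M : Subgroup G} (hM : PLocal p M) :
    Subgroup.centralizer (Cfsg.pCore p ↥M : Set ↥M) ≤ Cfsg.pCore p ↥M := by
  obtain ⟨T, hT, hT1, rfl⟩ := hM
  exact hloc.2 T hT hT1

theorem charP_of {M : Subgroup G}
    (h : Subgroup.centralizer (Cfsg.pCore p ↥M : Set ↥M) ≤ Cfsg.pCore p ↥M) :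
    ∀ x ∈ M, (∀ q ∈ Op p M, x * q = q * x) → x ∈ Op p M := by
  intro x hx hq
  have : (⟨x, hx⟩ : ↥M) ∈ Subgroup.centralizer (Cfsg.pCore p ↥M : Set ↥M) := by
    rw [Subgroup.mem_centralizer_iff]
    intro y hy
    apply Subtype.ext
    have := hq (y : G) ⟨y, hy, rfl⟩
    exact this.symm
  exact ⟨⟨x, hx⟩, h this, rfl⟩

/-- Primitivity is automatic for maximal `p`-locals of characteristic `p`. -/
theorem primitive_half {M₁ : Subgroup G} (hM₁ : MaxPLocal p M₁)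
    (hc : ∀ x ∈ M₁, (∀ q ∈ Op p M₁, x * q = q * x) → x ∈ Op p M₁)
    {A : Subgroup G} (hA1 : A ≠ ⊥) (hAM : A ≤ M₁) (hn : M₁ ≤ normalizer (A : Set G)) :
    normalizer (A : Set G) ≤ M₁ := by
  have hB1 : Op p A ≠ ⊥ := by
    intro hB
    apply hA1
    have h1 : A ⊓ Op p M₁ ≤ Op p A := by
      apply le_Op inf_le_left ((Op_isPGroup M₁).to_le inf_le_right)
      apply Cfsg.Agent.Helper1.le_normalizer_of_forall_conj_mem
      intro a ha x hx
      refine mem_inf.mpr ⟨A.mul_mem (A.mul_mem ha hx.1) (A.inv_mem ha), ?_⟩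
      exact (mem_normalizer_iff.mp (Op_normal M₁ (hAM ha)) x).mp hx.2
    rw [hB] at h1
    have hcent : ∀ a ∈ A, ∀ q ∈ Op p M₁, a * q = q * a := by
      intro a ha q hq
      have hqM : q ∈ M₁ := Op_le M₁ hq
      have h2 : a * q * a⁻¹ * q⁻¹ ∈ A ⊓ Op p M₁ := by
        refine mem_inf.mpr ⟨?_, ?_⟩
        · have h3 : q * a⁻¹ * q⁻¹ ∈ A :=
            (mem_normalizer_iff.mp (hn hqM) a⁻¹).mp (A.inv_mem ha)
          have e : a * q * a⁻¹ * q⁻¹ = a * (q * a⁻¹ * q⁻¹) := by group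
          rw [e]; exact A.mul_mem ha h3
        · have h3 : a * q * a⁻¹ ∈ Op p M₁ :=
            (mem_normalizer_iff.mp (Op_normal M₁ (hAM ha)) q).mp hq
          exact (Op p M₁).mul_mem h3 ((Op p M₁).inv_mem hq)
      have h3 := h1 h2
      rw [mem_bot] at h3
      calc a * q = (a * q * a⁻¹ * q⁻¹) * (q * a) := by group
        _ = q * a := by rw [h3, one_mul]
    have hAO : A ≤ Op p M₁ := fun a ha => hc a (hAM ha) (hcent a ha)
    exact le_bot_iff.mp (fun a ha => h1 (mem_inf.mpr ⟨ha, hAO ha⟩))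
  have hNAB : normalizer (A : Set G) ≤ normalizer (Op p A : Set G) :=
    normalizer_le_normalizer_Op A
  have h := normalizer_eq_of_maxPLocal hM₁ (Op_isPGroup A) hB1 (hn.trans hNAB)
  exact hNAB.trans h.le

theorem lt_inf_normalizer {V W : Subgroup G} (hW : IsPGroup p W) (hVW : V < W) :
    V < W ⊓ normalizer (V : Set G) := by
  haveI : Group.IsNilpotent W := hW.isNilpotent
  have hnc := Group.normalizerCondition_of_isNilpotent (G := W)
  have hlt : V.subgroupOf W < ⊤ := by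
    rw [lt_top_iff_ne_top]
    intro h
    apply hVW.ne
    apply le_antisymm hVW.le
    rw [← Subgroup.subgroupOf_eq_top]; exact h
  have h2 := hnc (V.subgroupOf W) hlt
  rw [← Subgroup.subgroupOf_normalizer_eq hVW.le] at h2
  obtain ⟨x, hx1, hx2⟩ := SetLike.exists_of_lt h2
  refine lt_of_le_of_ne (le_inf hVW.le le_normalizer) ?_
  intro heq
  apply hx2
  rw [mem_subgroupOf] at hx1 ⊢
  rw [heq]; exact ⟨x.2, hx1⟩

/-- One step: if `T` is not a maximal `p`-subgroup of `M₁`, pass to `(M₂, M₂^u)`. -/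
theorem step {M₁ M₂ T : Subgroup G} (h1 : MaxPLocal p M₁) (h2 : MaxPLocal p M₂)
    (hT : IsPGroup p T) (hT1 : T ≠ ⊥) (hTle : T ≤ M₁ ⊓ M₂)
    (hmax : ∀ N₁ N₂ R : Subgroup G, MaxPLocal p N₁ → MaxPLocal p N₂ → N₁ ≠ N₂ → IsPGroup p R →
      R ≠ ⊥ → R ≤ N₁ ⊓ N₂ → Nat.card R ≤ Nat.card T) (hne : M₁ ≠ M₂)
    (hnot : ¬ ∀ R : Subgroup G, IsPGroup p R → T ≤ R → R ≤ M₁ → R = T) :
    ∃ N₁ N₂ : Subgroup G, MaxPLocal p N₁ ∧ MaxPLocal p N₂ ∧ N₁ ≠ N₂ ∧
      (∀ R : Subgroup G, IsPGroup p R → T ≤ R → R ≤ N₁ → R = T) ∧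
      (∀ R : Subgroup G, IsPGroup p R → T ≤ R → R ≤ N₂ → R = T) ∧ T ≤ N₁ ⊓ N₂ := by
  push Not at hnot
  obtain ⟨R, hR, hTR, hRM, hRT⟩ := hnot
  have hlt : T < R := lt_of_le_of_ne hTR (Ne.symm hRT)
  have hlt' := lt_inf_normalizer hR hlt
  obtain ⟨u, huR', huT⟩ := SetLike.exists_of_lt hlt'
  have hR'p : IsPGroup p ↥(R ⊓ normalizer (T : Set G)) := hR.to_le inf_le_left
  have hne_bot : ∀ {R₀ : Subgroup G}, T ≤ R₀ → R₀ ≠ ⊥ := by
    intro R₀ h h0
    apply hT1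
    rw [h0] at h
    exact le_bot_iff.mp h
  -- `N_G(T) ≤ M₁`
  have hNT : normalizer (T : Set G) ≤ M₁ := by
    obtain ⟨M₃, hM₃, hle⟩ := exists_maxPLocal_ge (p := p) ⟨T, hT, hT1, rfl⟩
    have : M₃ = M₁ := by
      by_contra hne3
      have hc := hmax M₁ M₃ (R ⊓ normalizer (T : Set G)) h1 hM₃ (Ne.symm hne3) hR'p
        (hne_bot hlt'.le) (le_inf (inf_le_left.trans hRM) (inf_le_right.trans hle))
      exact hlt'.ne (Subgroup.eq_of_le_of_card_ge hlt'.le hc)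
    rw [← this]; exact hle
  -- `T` is a maximal `p`-subgroup of `M₁ ⊓ M₂`
  have ha : ∀ R₀ : Subgroup G, IsPGroup p R₀ → T ≤ R₀ → R₀ ≤ M₁ ⊓ M₂ → R₀ = T := by
    intro R₀ hR₀ hTR₀ hle
    have hc := hmax M₁ M₂ R₀ h1 h2 hne hR₀ (hne_bot hTR₀) hle
    exact (Subgroup.eq_of_le_of_card_ge hTR₀ hc).symm
  -- `T` is a maximal `p`-subgroup of `M₂`
  have hd : ∀ R₂ : Subgroup G, IsPGroup p R₂ → T ≤ R₂ → R₂ ≤ M₂ → R₂ = T := by
    intro R₂ hR₂ hTR₂ hle
    by_contra hne2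
    have hlt2 : T < R₂ := lt_of_le_of_ne hTR₂ (Ne.symm hne2)
    have hlt2' := lt_inf_normalizer hR₂ hlt2
    have := ha _ (hR₂.to_le inf_le_left) hlt2'.le
      (le_inf (inf_le_right.trans hNT) (inf_le_left.trans hle))
    exact hlt2'.ne this.symm
  -- `u ∉ M₂`
  have huM₁ : u ∈ M₁ := hRM (mem_inf.mp huR').1
  have huN : u ∈ normalizer (T : Set G) := (mem_inf.mp huR').2
  have hu : u ∉ M₂ := by
    intro huM₂
    have hle : T ⊔ zpowers u ≤ R ⊓ normalizer (T : Set G) :=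
      sup_le hlt'.le ((zpowers_le).mpr huR')
    have := ha (T ⊔ zpowers u) (hR'p.to_le hle) le_sup_left
      (sup_le hTle ((zpowers_le).mpr (mem_inf.mpr ⟨huM₁, huM₂⟩)))
    apply huT
    rw [← this]
    exact (le_sup_right : zpowers u ≤ T ⊔ zpowers u) (mem_zpowers u)
  -- the conjugate
  have hN₂ := maxPLocal_map h2 (MulAut.conj u)
  have hTmap : T.map (MulAut.conj u).toMonoidHom = T := by
    apply le_antisymm
    · rintro _ ⟨t, ht, rfl⟩
      exact (mem_normalizer_iff.mp huN t).mp ht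
    · intro t ht
      have huN' : u⁻¹ ∈ normalizer (T : Set G) := (normalizer (T : Set G)).inv_mem huN
      refine ⟨u⁻¹ * t * u, ?_, ?_⟩
      · have := (mem_normalizer_iff.mp huN' t).mp ht
        rwa [inv_inv] at this
      · simp only [MulEquiv.coe_toMonoidHom, MulAut.conj_apply]; group
  refine ⟨M₂, M₂.map (MulAut.conj u).toMonoidHom, h2, hN₂, ?_, hd, ?_, ?_⟩
  · intro h
    exact hu (mem_of_map_conj_eq h2 h.symm)
  · intro R₀ hR₀ hTR₀ hle
    -- conjugate back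
    have h3 : R₀.map (MulAut.conj u⁻¹).toMonoidHom ≤ M₂ := by
      rintro _ ⟨r, hr, rfl⟩
      obtain ⟨m, hm, hmr⟩ := hle hr
      have e : (MulAut.conj u⁻¹).toMonoidHom r = m := by
        rw [← hmr]
        simp only [MulEquiv.coe_toMonoidHom, MulAut.conj_apply]; group
      rw [e]; exact hm
    have h4 : T ≤ R₀.map (MulAut.conj u⁻¹).toMonoidHom := by
      intro t ht
      refine ⟨u * t * u⁻¹, hTR₀ ((mem_normalizer_iff.mp huN t).mp ht), ?_⟩
      simp only [MulEquiv.coe_toMonoidHom, MulAut.conj_apply]; group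
    have h5 := hd _ (hR₀.map _) h4 h3
    -- `R₀ = T`
    apply le_antisymm _ hTR₀
    intro r hr
    have : (MulAut.conj u⁻¹).toMonoidHom r ∈ T := by rw [← h5]; exact ⟨r, hr, rfl⟩
    have h6 := (mem_normalizer_iff.mp huN _).mp this
    have e : u * (MulAut.conj u⁻¹).toMonoidHom r * u⁻¹ = r := by
      simp only [MulEquiv.coe_toMonoidHom, MulAut.conj_apply]; group
    rwa [e] at h6
  · refine le_inf (le_trans hTle inf_le_right) ?_
    rw [← hTmap]
    exact Subgroup.map_mono (le_trans hTle inf_le_right)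

/-- There is a pair of distinct maximal `p`-locals sharing a common maximal `p`-subgroup. -/
theorem core {M₁ M₂ T : Subgroup G} (h1 : MaxPLocal p M₁) (h2 : MaxPLocal p M₂)
    (hT : IsPGroup p T) (hT1 : T ≠ ⊥) (hTle : T ≤ M₁ ⊓ M₂)
    (hmax : ∀ N₁ N₂ R : Subgroup G, MaxPLocal p N₁ → MaxPLocal p N₂ → N₁ ≠ N₂ → IsPGroup p R →
      R ≠ ⊥ → R ≤ N₁ ⊓ N₂ → Nat.card R ≤ Nat.card T) (hne : M₁ ≠ M₂) :
    ∃ N₁ N₂ : Subgroup G, MaxPLocal p N₁ ∧ MaxPLocal p N₂ ∧ N₁ ≠ N₂ ∧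
      (∀ R : Subgroup G, IsPGroup p R → T ≤ R → R ≤ N₁ → R = T) ∧
      (∀ R : Subgroup G, IsPGroup p R → T ≤ R → R ≤ N₂ → R = T) ∧ T ≤ N₁ ⊓ N₂ := by
  by_cases hA : ∀ R : Subgroup G, IsPGroup p R → T ≤ R → R ≤ M₁ → R = T
  · by_cases hB : ∀ R : Subgroup G, IsPGroup p R → T ≤ R → R ≤ M₂ → R = T
    · exact ⟨M₁, M₂, h1, h2, hne, hA, hB, hTle⟩
    · exact step h2 h1 hT hT1 (by rw [inf_comm]; exact hTle) hmax hne.symm hB
  · exact step h1 h2 hT hT1 hTle hmax hne hA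

/-- Two distinct subgroups M₁, M₂ of G form a primitive pair when, for {i, j} = {1, 2}, every non-trivial normal subgroup A of M_i contained in M₁ ∩ M₂ satisfies N_{M_j}(A) = M₁ ∩ M₂; the pair has characteristic p when moreover C_{M_i}(O_p(M_i)) ≤ O_p(M_i) for both i and O_p(M₁)O_p(M₂) ≤ M₁ ∩ M₂. Let G be a finite group, p a prime dividing its order, with O_p(G) = 1 and every p-local subgroup of characteristic p. Then either G has a primitive pair of characteristic p, or every maximal p-local subgroup M of G is strongly p-embedded in G: M is a proper subgroup, p divides its order, and for every g ∉ M the order of M ∩ gMg⁻¹ is prime to p. -/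
theorem result {G : Type*} [Group G] [Finite G] {p : ℕ} [Fact p.Prime] (hloc : Cfsg.IsOfLocalCharacteristic p G) (hOp : Cfsg.pCore p G = ⊥) : (∃ M₁ M₂ : Subgroup G, M₁ ≠ M₂ ∧ (∀ A : Subgroup G, A ≠ ⊥ → A ≤ M₁ ⊓ M₂ → (M₁ ≤ Subgroup.normalizer (A : Set G) → M₂ ⊓ Subgroup.normalizer (A : Set G) = M₁ ⊓ M₂) ∧ (M₂ ≤ Subgroup.normalizer (A : Set G) → M₁ ⊓ Subgroup.normalizer (A : Set G) = M₁ ⊓ M₂)) ∧ Subgroup.centralizer (Cfsg.pCore p ↥M₁ : Set ↥M₁) ≤ Cfsg.pCore p ↥M₁ ∧ Subgroup.centralizer (Cfsg.pCore p ↥M₂ : Set ↥M₂) ≤ Cfsg.pCore p ↥M₂ ∧ (Cfsg.pCore p ↥M₁).map M₁.subtype ⊔ (Cfsg.pCore p ↥M₂).map M₂.subtype ≤ M₁ ⊓ M₂) ∨ (∀ M : Subgroup G, (∃ T : Subgroup G, IsPGroup p T ∧ T ≠ ⊥ ∧ M = Subgroup.normalizer (T : Set G)) → (∀ L : Subgroup G, (∃ T : Subgroup G, IsPGroup p T ∧ T ≠ ⊥ ∧ L = Subgroup.normalizer (T : Set G)) → M ≤ L → L = M) → M ≠ ⊤ ∧ p ∣ Nat.card M ∧ ∀ g : G, g ∉ M → ¬ p ∣ Nat.card ↥(M ⊓ M.map (MulAut.conj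 g).toMonoidHom)) := by
  by_cases h : ∀ M : Subgroup G, MaxPLocal p M → ∀ g : G, g ∉ M →
      ¬ p ∣ Nat.card ↥(M ⊓ M.map (MulAut.conj g).toMonoidHom)
  · right
    intro M hM1 hM2
    exact ⟨ne_top_of_pLocal hOp hM1, dvd_card_of_pLocal hM1, h M ⟨hM1, hM2⟩⟩
  · left
    push Not at h
    obtain ⟨M, hM, g, hg, hdvd⟩ := h
    obtain ⟨x, hx⟩ := exists_prime_orderOf_dvd_card' p hdvd
    have hxo : orderOf (x : G) = p := by rw [Subgroup.orderOf_coe]; exact hx
    have hT₀ : IsPGroup p ↥(zpowers (x : G)) := by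
      apply IsPGroup.of_card (n := 1)
      rw [Nat.card_zpowers, hxo, pow_one]
    have hT₀1 : zpowers (x : G) ≠ ⊥ := by
      intro h0
      rw [zpowers_eq_bot] at h0
      rw [h0, orderOf_one] at hxo
      exact (Fact.out : p.Prime).one_lt.ne hxo
    have hT₀le : zpowers (x : G) ≤ M ⊓ M.map (MulAut.conj g).toMonoidHom :=
      (zpowers_le).mpr x.2
    have hMg : MaxPLocal p (M.map (MulAut.conj g).toMonoidHom) := maxPLocal_map hM _
    have hMne : M ≠ M.map (MulAut.conj g).toMonoidHom := by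
      intro hh
      exact hg (mem_of_map_conj_eq hM hh.symm)
    let Good : Subgroup G × Subgroup G × Subgroup G → Prop := fun t =>
      MaxPLocal p t.1 ∧ MaxPLocal p t.2.1 ∧ t.1 ≠ t.2.1 ∧ IsPGroup p t.2.2 ∧ t.2.2 ≠ ⊥ ∧
        t.2.2 ≤ t.1 ⊓ t.2.1
    haveI : Nonempty {t // Good t} :=
      ⟨⟨(M, M.map (MulAut.conj g).toMonoidHom, zpowers (x : G)),
        hM, hMg, hMne, hT₀, hT₀1, hT₀le⟩⟩
    obtain ⟨t₀, ht₀⟩ := Finite.exists_max (fun t : {t // Good t} => Nat.card t.1.2.2)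
    obtain ⟨⟨M₁, M₂, T⟩, h1, h2, hne, hT, hT1, hTle⟩ := t₀
    have hmax : ∀ N₁ N₂ R : Subgroup G, MaxPLocal p N₁ → MaxPLocal p N₂ → N₁ ≠ N₂ →
        IsPGroup p R → R ≠ ⊥ → R ≤ N₁ ⊓ N₂ → Nat.card R ≤ Nat.card T :=
      fun N₁ N₂ R a b c d e f => ht₀ ⟨(N₁, N₂, R), a, b, c, d, e, f⟩
    obtain ⟨N₁, N₂, hN₁, hN₂, hN, hS₁, hS₂, hTN⟩ := core h1 h2 hT hT1 hTle hmax hne
    refine ⟨N₁, N₂, hN, ?_, charP_stmt hloc hN₁.1, charP_stmt hloc hN₂.1, ?_⟩
    · intro A hA1 hA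
      constructor
      · intro hn
        have := primitive_half hN₁ (charP_of (charP_stmt hloc hN₁.1)) hA1
          (hA.trans inf_le_left) hn
        apply le_antisymm
        · exact le_inf (inf_le_right.trans this) inf_le_left
        · exact le_inf inf_le_right (inf_le_left.trans hn)
      · intro hn
        have := primitive_half hN₂ (charP_of (charP_stmt hloc hN₂.1)) hA1
          (hA.trans inf_le_right) hn
        apply le_antisymm
        · exact le_inf inf_le_left (inf_le_right.trans this)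
        · exact le_inf inf_le_left (inf_le_right.trans hn)
    · have key : ∀ N : Subgroup G, T ≤ N →
          (∀ R : Subgroup G, IsPGroup p R → T ≤ R → R ≤ N → R = T) → Op p N ≤ T := by
        intro N hTN' hS
        have hp : IsPGroup p ↥(T ⊔ Op p N) :=
          IsPGroup.to_sup_of_normal_right' hT (Op_isPGroup N) (hTN'.trans (Op_normal N))
        have := hS _ hp le_sup_left (sup_le hTN' (Op_le N))
        rw [← this]; exact le_sup_right
      exact sup_le ((key N₁ (hTN.trans inf_le_left) hS₁).trans hTN)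
        ((key N₂ (hTN.trans inf_le_right) hS₂).trans hTN)

end Cfsg.Agent.S3751
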