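import Mathlib
import Cfsg.Statements.S3753
import Cfsg.Agent.Lib.Helper10.BenderPair3
-- import your own Cfsg.Agent.* helpers here

set_option autoImplicit false
open Cfsg

namespace Cfsg.Agent.S3753

/-- Two distinct subgroups M₁, M₂ of G form a primitive pair when, for {i, j} = {1, 2}, every non-trivial normal subgroup A of M_i contained in M₁ ∩ M₂ satisfies N_{M_j}(A) = M₁ ∩ M₂; the pair has characteristic p when moreover C_{M_i}(O_p(M_i)) ≤ O_p(M_i) for both i and O_p(M₁)O_p(M₂) ≤ M₁ ∩ M₂. If the finite group G has a primitive pair (M₁, M₂) of characteristic p for some prime p, then M₁ or M₂ has non-abelian Sylow 2-subgroups. In particular no group of odd order has a primitive pair of characteristic p. -/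
theorem result {G : Type*} [Group G] [Finite G] {p : ℕ} [Fact p.Prime] (M₁ M₂ : Subgroup G) (hne : M₁ ≠ M₂) (hP : ∀ A : Subgroup G, A ≠ ⊥ → A ≤ M₁ ⊓ M₂ → (M₁ ≤ Subgroup.normalizer (A : Set G) → M₂ ⊓ Subgroup.normalizer (A : Set G) = M₁ ⊓ M₂) ∧ (M₂ ≤ Subgroup.normalizer (A : Set G) → M₁ ⊓ Subgroup.normalizer (A : Set G) = M₁ ⊓ M₂)) (hc₁ : Subgroup.centralizer (Cfsg.pCore p ↥M₁ : Set ↥M₁) ≤ Cfsg.pCore p ↥M₁) (hc₂ : Subgroup.centralizer (Cfsg.pCore p ↥M₂ : Set ↥M₂) ≤ Cfsg.pCore p ↥M₂) (hO : (Cfsg.pCore p ↥M₁).map M₁.subtype ⊔ (Cfsg.pCore p ↥M₂).map M₂.subtype ≤ M₁ ⊓ M₂) : (∃ S : Sylow 2 ↥M₁, ¬ IsMulCommutative (S : Subgroup ↥M₁)) ∨ (∃ S : Sylow 2 ↥M₂, ¬ IsMulCommutative (S : Subgroup ↥M₂)) := by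
  classical
  by_contra hcon
  push Not at hcon
  obtain ⟨hab₁, hab₂⟩ := hcon
  have hpP : p.Prime := Fact.out
  -- the cores are nontrivial
  have hQ₁X : Cfsg.Agent.Helper10.BenderPair.oR p M₁ ≤ M₁ ⊓ M₂ := le_sup_left.trans hO
  have hQ₂X : Cfsg.Agent.Helper10.BenderPair.oR p M₂ ≤ M₁ ⊓ M₂ := le_sup_right.trans hO
  have hne₁ : Cfsg.Agent.Helper10.BenderPair.oR p M₁ ≠ ⊥ := by
    intro h
    have h1 := (Cfsg.Agent.Helper10.BenderPair.oR_eq_bot_iff p M₁).mp h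
    have hM₁ := Cfsg.Agent.Helper10.BenderPair.eq_bot_of_pCore_eq_bot M₁ hc₁ h1
    have h2 : Cfsg.Agent.Helper10.BenderPair.oR p M₂ = ⊥ := by
      rw [eq_bot_iff]
      refine (hQ₂X.trans inf_le_left).trans ?_
      rw [hM₁]
    have h3 := (Cfsg.Agent.Helper10.BenderPair.oR_eq_bot_iff p M₂).mp h2
    have hM₂ := Cfsg.Agent.Helper10.BenderPair.eq_bot_of_pCore_eq_bot M₂ hc₂ h3
    exact hne (hM₁.trans hM₂.symm)
  have hp₁ := Cfsg.Agent.Helper10.BenderPair.isPGroup_oR p M₁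
  have hp₂ := Cfsg.Agent.Helper10.BenderPair.isPGroup_oR p M₂
  have hn₁ := Cfsg.Agent.Helper10.BenderPair.le_normalizer_oR p M₁
  have hn₂ := Cfsg.Agent.Helper10.BenderPair.le_normalizer_oR p M₂
  by_cases hp2 : p = 2
  · -- `p = 2`: the cores are the Sylow subgroups
    subst hp2
    have hsyl : ∀ (M : Subgroup G),
        Subgroup.centralizer ((Cfsg.pCore 2 ↥M : Subgroup ↥M) : Set ↥M) ≤ Cfsg.pCore 2 ↥M →
        (∀ S : Sylow 2 ↥M, IsMulCommutative ↥(S : Subgroup ↥M)) →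
        ∀ R : Subgroup G, IsPGroup 2 R → R ≤ M → R ≤ Cfsg.Agent.Helper10.BenderPair.oR 2 M := by
      intro M hc hab R hR hRM
      obtain ⟨T⟩ : Nonempty (Sylow 2 ↥M) := inferInstance
      have hn : (Cfsg.pCore 2 ↥M).Normal := Cfsg.Agent.Helper10.pCore_normal 2
      have hQT : Cfsg.pCore 2 ↥M ≤ (T : Subgroup ↥M) :=
        Cfsg.Agent.Helper23.PSolv.normal_pGroup_le_sylow _ (Cfsg.Agent.Helper10.pCore_isPGroup 2) T
      have hTQ : (T : Subgroup ↥M) ≤ Cfsg.pCore 2 ↥M := by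
        intro t ht
        apply hc
        rw [Subgroup.mem_centralizer_iff]
        intro d hd
        have hcomm := (hab T).is_comm.comm
        have := hcomm ⟨d, hQT hd⟩ ⟨t, ht⟩
        exact congrArg Subtype.val this
      have hTeq : (T : Subgroup ↥M) = Cfsg.pCore 2 ↥M := le_antisymm hTQ hQT
      have hsup : IsPGroup 2 ↥((Cfsg.pCore 2 ↥M) ⊔ R.subgroupOf M : Subgroup ↥M) :=
        IsPGroup.to_sup_of_normal_left (Cfsg.Agent.Helper10.pCore_isPGroup 2) hR.comap_subtype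
      have hmax := T.is_maximal' hsup (by rw [hTeq]; exact le_sup_left)
      intro r hr
      have h1 : (⟨r, hRM hr⟩ : ↥M) ∈ (Cfsg.pCore 2 ↥M) ⊔ R.subgroupOf M :=
        (le_sup_right : R.subgroupOf M ≤ _) (Subgroup.mem_subgroupOf.mpr hr)
      rw [hmax, hTeq] at h1
      exact (Cfsg.Agent.Helper10.BenderPair.mem_oR_iff 2 M ⟨r, hRM hr⟩).mpr h1
    have e1 : Cfsg.Agent.Helper10.BenderPair.oR 2 M₂ ≤ Cfsg.Agent.Helper10.BenderPair.oR 2 M₁ :=
      hsyl M₁ hc₁ hab₁ _ hp₂ (hQ₂X.trans inf_le_left)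
    have e2 : Cfsg.Agent.Helper10.BenderPair.oR 2 M₁ ≤ Cfsg.Agent.Helper10.BenderPair.oR 2 M₂ :=
      hsyl M₂ hc₂ hab₂ _ hp₁ (hQ₁X.trans inf_le_right)
    have e := le_antisymm e2 e1
    apply Cfsg.Agent.Helper10.BenderPair.false_of_both_normalize hne hP _ hne₁ hQ₁X hn₁
    rw [e]; exact hn₂
  · -- `p` odd
    have hf₁ := Cfsg.Agent.Helper4.SLF.sl2free_of_abelian_sylow2 (p := p) (G := ↥M₁) hp2 hab₁
    have hf₂ := Cfsg.Agent.Helper4.SLF.sl2free_of_abelian_sylow2 (p := p) (G := ↥M₂) hp2 hab₂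
    set S : Subgroup G := Cfsg.Agent.Helper10.BenderPair.oR p M₁ ⊔
      Cfsg.Agent.Helper10.BenderPair.oR p M₂ with hS
    have hSX : S ≤ M₁ ⊓ M₂ := hO
    have hSp : IsPGroup p ↥S :=
      IsPGroup.to_sup_of_normal_left' hp₁ hp₂ ((hQ₂X.trans inf_le_left).trans hn₁)
    have hWL := Cfsg.Agent.Helper10.isCharPFunctor_kInfLower p
    have k1 := Cfsg.Agent.Helper10.BenderPair.indW_eq_of_sl2free hp2 M₁ hc₁ hf₁ S hSp
      (hSX.trans inf_le_left) le_sup_left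
    have k2 := Cfsg.Agent.Helper10.BenderPair.indW_eq_of_sl2free hp2 M₂ hc₂ hf₂ S hSp
      (hSX.trans inf_le_right) le_sup_right
    have hSne : S ≠ ⊥ := fun h => hne₁ (le_bot_iff.mp (h ▸ (le_sup_left : _ ≤ S)))
    have hcf := Cfsg.Agent.Helper10.isConjugacyFunctor_indW (H := G) hWL S hSp
    apply Cfsg.Agent.Helper10.BenderPair.false_of_both_normalize hne hP
      (Cfsg.inducedFunctor (G := G) Cfsg.kInfLower S) (hcf.2.1 hSne) (hcf.1.trans hSX)
    · rw [k1]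
      exact hn₁.trans (Cfsg.Agent.Helper10.BenderPair.normalizer_le_normalizer_indW hWL _ hp₁)
    · rw [k2]
      exact hn₂.trans (Cfsg.Agent.Helper10.BenderPair.normalizer_le_normalizer_indW hWL _ hp₂)

end Cfsg.Agent.S3753
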