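import Mathlib
import Cfsg.Statements.S3754
import Cfsg.Agent.Lib.Helper14.PSolMin2

set_option autoImplicit false
open Cfsg

namespace Cfsg.Agent.S3754

/-- Let M be a finite p-soluble group and A a p-subgroup of M with Φ(A) ≤ O_p(M) but A ≰ O_p(M). Then there is x ∈ O_{p,p'}(M) such that L = ⟨A, xAx⁻¹⟩ satisfies: x ∈ O^p(L) and O^p(L) ≤ O_{p,p'}(M); [O^p(L), A] = O^p(L); A ∩ O_p(L) has index p in A; and [A ∩ O_p(L), L] ≤ O_p(M). Here O^p(L) is the subgroup generated by the p'-elements of L and O_{p,p'}(M) the preimage of O_{p'}(M/O_p(M)). -/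
theorem result {M : Type*} [Group M] [Finite M] {p : ℕ} [Fact p.Prime] (hM : Cfsg.IsPSolvable p M) (A : Subgroup M) (hA : IsPGroup p A) (hΦ : (frattini ↥A).map A.subtype ≤ Cfsg.pCore p M) (hnot : ¬ A ≤ Cfsg.pCore p M) : ∃ x ∈ (Cfsg.pPrimeCore p (M ⧸ Cfsg.pCore p M)).comap (QuotientGroup.mk' (Cfsg.pCore p M)), x ∈ (Cfsg.pResidual p ↥(A ⊔ A.map (MulAut.conj x).toMonoidHom)).map (A ⊔ A.map (MulAut.conj x).toMonoidHom).subtype ∧ (Cfsg.pResidual p ↥(A ⊔ A.map (MulAut.conj x).toMonoidHom)).map (A ⊔ A.map (MulAut.conj x).toMonoidHom).subtype ≤ (Cfsg.pPrimeCore p (M ⧸ Cfsg.pCore p M)).comap (QuotientGroup.mk' (Cfsg.pCore p M)) ∧ ⁅(Cfsg.pResidual p ↥(A ⊔ A.map (MulAut.conj x).toMonoidHom)).map (A ⊔ A.map (MulAut.conj x).toMonoidHom).subtype, A⁆ = (Cfsg.pResidual p ↥(A ⊔ A.map (MulAut.conj x).toMonoidHom)).map (A ⊔ A.map (MulAut.conj x).toMonoidHom).subtype ∧ (A ⊓ (Cfsg.pCore p ↥(A ⊔ A.map (MulAut.conj x).toMonoidHom)).map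 (A ⊔ A.map (MulAut.conj x).toMonoidHom).subtype).relIndex A = p ∧ ⁅A ⊓ (Cfsg.pCore p ↥(A ⊔ A.map (MulAut.conj x).toMonoidHom)).map (A ⊔ A.map (MulAut.conj x).toMonoidHom).subtype, A ⊔ A.map (MulAut.conj x).toMonoidHom⁆ ≤ Cfsg.pCore p M := by
  set Q := Cfsg.pCore p M with hQ
  set π := QuotientGroup.mk' Q with hπ
  have hπs : Function.Surjective π := QuotientGroup.mk'_surjective Q
  have hker : π.ker = Q := QuotientGroup.ker_mk' Q
  have hMb : Cfsg.IsPSolvable p (M ⧸ Q) := Cfsg.Agent.Helper23.PSolv.isPSolvable_quotient Q hM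
  have hO : Cfsg.pCore p (M ⧸ Q) = ⊥ := Cfsg.Agent.Helper10.pCore_quotient_pCore p M
  have hC := Cfsg.Agent.Helper4.HHD.centralizer_pPrimeCore_le hMb hO
  have hK : (Nat.card (Cfsg.pPrimeCore p (M ⧸ Q))).Coprime p :=
    Cfsg.Agent.Helper22.card_pPrimeCore_coprime p
  have hkp : IsPGroup p π.ker := by rw [hker]; exact Cfsg.Agent.Helper10.pCore_isPGroup p
  -- the image of `A` is elementary abelian
  have hfr : ∀ u : A, u ∈ frattini ↥A → π (u : M) = 1 := by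
    intro u hu
    have : (u : M) ∈ Q := hΦ ⟨u, hu, rfl⟩
    rw [← hker] at this
    exact this
  have hAb : IsElementaryAbelian p (A.map π) := by
    constructor
    · constructor
      constructor
      rintro ⟨_, a, ha, rfl⟩ ⟨_, b, hb, rfl⟩
      apply Subtype.ext
      show π a * π b = π b * π a
      have h1 := hfr _ (Cfsg.Agent.Helper21.commutator_mem_frattini_of_isPGroup hA ⟨a, ha⟩ ⟨b, hb⟩)
      have h2 : π (a * b * a⁻¹ * b⁻¹) = 1 := h1
      rw [map_mul, map_mul, map_mul, map_inv, map_inv] at h2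
      calc π a * π b = (π a * π b * (π a)⁻¹ * (π b)⁻¹) * π b * π a := by group
        _ = π b * π a := by rw [h2, one_mul]
    · rintro _ ⟨a, ha, rfl⟩
      have h1 := hfr _ (Cfsg.Agent.Helper21.pow_mem_frattini_of_isPGroup hA ⟨a, ha⟩)
      have h2 : π (a ^ p) = 1 := h1
      rw [map_pow] at h2
      exact h2
  have hAb1 : A.map π ≠ ⊥ := by
    intro h
    rw [Subgroup.map_eq_bot_iff, hker] at h
    exact hnot h
  obtain ⟨x, hxK, h1, h2, h3, h4, h5⟩ :=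
    Cfsg.Agent.Helper14.PSolMin.main_abstract π hπs hK hC A hA hkp hAb hAb1
  rw [hker] at h5
  exact ⟨x, hxK, h1, h2, h3, h4, h5⟩

end Cfsg.Agent.S3754
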