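import Mathlib
import Cfsg.Statements.S3755
import Cfsg.Agent.Lib.Helper14.TwoF

set_option autoImplicit false
open Cfsg

namespace Cfsg.Agent.S3755

open Subgroup Cfsg.Agent.Helper1.BO

/-- Let M and V be subgroups of a finite group with V an elementary abelian 2-group, M normalizing V and acting faithfully on it (M ∩ C(V) = 1), and C_M(O_{2'}(M)) ≤ O_{2'}(M). If some elementary abelian 2-subgroup A of M satisfies |V : C_V(A)| < |A|², then M has a section isomorphic to the symmetric group of degree 3. -/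
theorem result {X : Type*} [Group X] [Finite X] (M V : Subgroup X) (hV : Cfsg.IsElementaryAbelian 2 V) (hMV : M ≤ Subgroup.normalizer (V : Set X)) (hfaith : M ⊓ Subgroup.centralizer (V : Set X) = ⊥) (hcon : Subgroup.centralizer (Cfsg.pPrimeCore 2 ↥M : Set ↥M) ≤ Cfsg.pPrimeCore 2 ↥M) (A : Subgroup X) (hAM : A ≤ M) (hA : Cfsg.IsElementaryAbelian 2 A) (hsmall : (V ⊓ Subgroup.centralizer (A : Set X)).relIndex V < Nat.card A ^ 2) : Cfsg.Involves (Equiv.Perm (Fin 3)) ↥M := by
  haveI : Fact (Nat.Prime 2) := ⟨Nat.prime_two⟩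
  by_contra hno
  have S : Setup 2 V M := ⟨hV, hMV, hfaith, hcon⟩
  have hKM : qOf 2 M ≤ M := qOf_le 2 M
  have hf : qOf 2 M ⊓ centralizer (V : Set X) = ⊥ := by
    apply le_bot_iff.mp
    rw [← hfaith]
    exact inf_le_inf_right _ hKM
  have hno' : ∀ a ∈ A, ∀ y ∈ qOf 2 M, y ^ 3 = 1 → a * y * a⁻¹ = y⁻¹ → y = 1 := by
    intro a haA y hyK hy3 hinv
    by_contra hy1
    apply hno
    have ha2 : a * a = 1 := by
      have := hA.2 a haA
      rwa [pow_two] at this
    have haM : a ∈ M := hAM haA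
    have hyM : y ∈ M := hKM hyK
    apply Cfsg.Agent.Helper14.SThree.involves_of_invert (a := (⟨a, haM⟩ : ↥M)) (y := ⟨y, hyM⟩)
    · exact Subtype.ext ha2
    · exact Subtype.ext hy3
    · exact Subtype.ext hinv
    · intro h
      exact hy1 (congrArg Subtype.val h)
  have key := Cfsg.Agent.Helper14.TwoF.two_f V (qOf 2 M) A hV (card_qOf_coprime 2 M) hA
    (hKM.trans hMV) (hAM.trans hMV) (hAM.trans (le_normalizer_qOf 2 M)) hf
    (S.inf_centralizer_qOf hAM (isPGroup_of_elemAb hA)) hno' (Nat.card A) A le_rfl rfl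
  have h1 := card_mul_relIndex_le (cV_le V A)
  unfold cV at key h1
  have hpos : 0 < Nat.card ↥(V ⊓ centralizer (A : Set X)) := Nat.card_pos
  have h2 : Nat.card ↥(V ⊓ centralizer (A : Set X)) * (V ⊓ centralizer (A : Set X)).relIndex V <
      Nat.card ↥(V ⊓ centralizer (A : Set X)) * Nat.card A ^ 2 :=
    Nat.mul_lt_mul_of_pos_left hsmall hpos
  rw [h1] at h2
  have h3 : Nat.card ↥A ^ 2 * Nat.card ↥(V ⊓ centralizer (A : Set X)) =
      Nat.card ↥(V ⊓ centralizer (A : Set X)) * Nat.card A ^ 2 := mul_comm _ _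
  omega

end Cfsg.Agent.S3755
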