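import Mathlib
import Cfsg.Statements.S3760

set_option autoImplicit false
open Cfsg

namespace Cfsg.Agent.S3760

theorem mem_map_conj {G : Type*} [Group G] (K : Subgroup G) (g y : G) :
    y ∈ K.map (MulAut.conj g).toMonoidHom ↔ g⁻¹ * y * g ∈ K := by
  constructor
  · rintro ⟨k, hk, rfl⟩
    simpa [mul_assoc] using hk
  · intro h
    refine ⟨g⁻¹ * y * g, h, ?_⟩
    simp [mul_assoc]

/-- Let the group G act transitively on a set X, let x ∈ X with stabilizer H = G_x, and let K ≤ H. Then N_G(K) acts transitively on the set of fixed points of K if and only if every G-conjugate of K contained in H is already an H-conjugate of K. -/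
theorem result {G : Type*} [Group G] {X : Type*} [MulAction G X] (htrans : ∀ a b : X, ∃ g : G, g • a = b) (x : X) (K : Subgroup G) (hK : K ≤ MulAction.stabilizer G x) : (∀ a b : X, (∀ k ∈ K, k • a = a) → (∀ k ∈ K, k • b = b) → ∃ g ∈ Subgroup.normalizer (K : Set G), g • a = b) ↔ ∀ g : G, K.map (MulAut.conj g).toMonoidHom ≤ MulAction.stabilizer G x → ∃ h ∈ MulAction.stabilizer G x, K.map (MulAut.conj g).toMonoidHom = K.map (MulAut.conj h).toMonoidHom := by
  constructor
  · intro hN g hg
    -- K fixes g⁻¹ • x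
    have h1 : ∀ k ∈ K, k • (g⁻¹ • x) = g⁻¹ • x := by
      intro k hk
      have : g * k * g⁻¹ ∈ MulAction.stabilizer G x := by
        apply hg
        rw [mem_map_conj]
        simpa [mul_assoc] using hk
      rw [MulAction.mem_stabilizer_iff] at this
      calc k • (g⁻¹ • x) = g⁻¹ • ((g * k * g⁻¹) • x) := by
            simp [smul_smul, mul_assoc]
        _ = g⁻¹ • x := by rw [this]
    have h2 : ∀ k ∈ K, k • x = x := fun k hk => MulAction.mem_stabilizer_iff.mp (hK hk)
    obtain ⟨n, hn, hnx⟩ := hN x (g⁻¹ • x) h2 h1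
    refine ⟨g * n, ?_, ?_⟩
    · rw [MulAction.mem_stabilizer_iff, mul_smul, hnx, smul_smul]
      simp
    · ext y
      rw [mem_map_conj, mem_map_conj]
      rw [Subgroup.mem_normalizer_iff''] at hn
      rw [hn (g⁻¹ * y * g)]
      simp [mul_assoc]
  · intro hC a b ha hb
    -- key: every K-fixed point is n • x with n in the normalizer
    have key : ∀ c : X, (∀ k ∈ K, k • c = c) → ∃ n ∈ Subgroup.normalizer (K : Set G), n • x = c := by
      intro c hc
      obtain ⟨g, hg⟩ := htrans x c
      have hle : K.map (MulAut.conj g⁻¹).toMonoidHom ≤ MulAction.stabilizer G x := by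
        intro y hy
        rw [mem_map_conj] at hy
        simp only [inv_inv] at hy
        rw [MulAction.mem_stabilizer_iff]
        have := hc _ hy
        rw [← hg] at this
        have h3 : g⁻¹ • ((g * y * g⁻¹) • g • x) = g⁻¹ • (g • x) := by rw [this]
        simpa [smul_smul, mul_assoc] using h3
      obtain ⟨h, hh, heq⟩ := hC g⁻¹ hle
      refine ⟨g * h, ?_, ?_⟩
      · rw [Subgroup.mem_normalizer_iff'']
        intro y
        have := Subgroup.ext_iff.mp heq (g⁻¹ * y * g)
        rw [mem_map_conj, mem_map_conj] at this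
        simp only [inv_inv] at this
        have e1 : g * (g⁻¹ * y * g) * g⁻¹ = y := by group
        have e2 : h⁻¹ * (g⁻¹ * y * g) * h = (g * h)⁻¹ * y * (g * h) := by group
        rw [e1, e2] at this
        exact this
      · rw [MulAction.mem_stabilizer_iff] at hh
        rw [mul_smul, hh, hg]
    obtain ⟨n₁, hn₁, h₁⟩ := key a ha
    obtain ⟨n₂, hn₂, h₂⟩ := key b hb
    refine ⟨n₂ * n₁⁻¹, Subgroup.mul_mem _ hn₂ (Subgroup.inv_mem _ hn₁), ?_⟩
    rw [← h₁, ← h₂, smul_smul]
    simp

end Cfsg.Agent.S3760
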