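import Mathlib
import Cfsg.Agent.Lib.Helper8.HHGlue1
import Cfsg.Agent.S0095
import Cfsg.Agent.S3767
import Cfsg.Statements.S3764
-- import your own Cfsg.Agent.* helpers here

set_option autoImplicit false
open Cfsg

namespace Cfsg.Agent.S3764

/-- Let p, q, r be distinct primes and let X, Q, V be subgroups of a finite group with X of order r, Q an extraspecial q-group normalized by X with C_Q(X) = Z(Q), and V an elementary abelian p-group normalized by X and Q on which XQ acts faithfully ((X ⊔ Q) ∩ C(V) = 1). If C_V(X) = 1, then q = 2, r = 2^n + 1 for some n, and Q has order 2^(2n+1). -/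
theorem result {G : Type*} [Group G] [Finite G] {p q r : ℕ} (hp : p.Prime) (hq : q.Prime) (hr : r.Prime) (hpq : p ≠ q) (hpr : p ≠ r) (hqr : q ≠ r) (X Q V : Subgroup G) (hX : Nat.card X = r) (hQ : Cfsg.IsExtraspecial q ↥Q) (hXQ : X ≤ Subgroup.normalizer (Q : Set G)) (hCQ : Q ⊓ Subgroup.centralizer (X : Set G) = (Subgroup.center ↥Q).map Q.subtype) (hV : Cfsg.IsElementaryAbelian p V) (hXV : X ≤ Subgroup.normalizer (V : Set G)) (hQV : Q ≤ Subgroup.normalizer (V : Set G)) (hfaith : (X ⊔ Q) ⊓ Subgroup.centralizer (V : Set G) = ⊥) (hCV : V ⊓ Subgroup.centralizer (X : Set G) = ⊥) : q = 2 ∧ ∃ n : ℕ, r = 2 ^ n + 1 ∧ Nat.card Q = 2 ^ (2 * n + 1) := by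
  classical
  haveI : Fact p.Prime := ⟨hp⟩
  haveI : Fact q.Prime := ⟨hq⟩
  set Z : Subgroup G := (Subgroup.center ↥Q).map Q.subtype with hZ
  have hZQ : Z ≤ Q := Subgroup.map_subtype_le _
  have hZcard : Nat.card ↥Z = q := by
    rw [hZ, Subgroup.card_map_of_injective Q.subtype_injective]
    exact hQ.2
  have hXprime : (Nat.card ↥X).Prime := by rw [hX]; exact hr
  have hQcomm : ∀ a ∈ Q, ∀ b ∈ Q, a * b * a⁻¹ * b⁻¹ ∈ Z := by
    intro a ha b hb
    have h1 := Subgroup.commutator_mem_commutator (Subgroup.mem_top (⟨a, ha⟩ : ↥Q))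
      (Subgroup.mem_top (⟨b, hb⟩ : ↥Q))
    have h2 : (⁅(⊤ : Subgroup ↥Q), (⊤ : Subgroup ↥Q)⁆) = Subgroup.center ↥Q := hQ.1.2.2
    rw [h2] at h1
    exact ⟨_, h1, by rw [commutatorElement_def]; rfl⟩
  have hZcenter : ∀ g ∈ Q, (∀ y ∈ Q, y * g = g * y) → g ∈ Z := by
    intro g hg hall
    refine ⟨⟨g, hg⟩, ?_, rfl⟩
    rw [SetLike.mem_coe, Subgroup.mem_center_iff]
    intro y
    apply Subtype.ext
    exact hall y y.2
  have hZQc : ∀ z ∈ Z, ∀ g ∈ Q, g * z = z * g := by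
    rintro _ ⟨c, hc, rfl⟩ g hg
    rw [SetLike.mem_coe, Subgroup.mem_center_iff] at hc
    have := hc ⟨g, hg⟩
    exact congrArg Subtype.val this
  have hZX : ∀ z ∈ Z, ∀ g ∈ X, g * z = z * g := by
    intro z hz g hg
    rw [← hCQ] at hz
    exact Subgroup.mem_centralizer_iff.mp (Subgroup.mem_inf.mp hz).2 g hg
  have hCQ' : ∀ g ∈ Q, (∀ x ∈ X, x * g = g * x) → g ∈ Z := by
    intro g hg hall
    rw [← hCQ]
    exact Subgroup.mem_inf.mpr ⟨hg, Subgroup.mem_centralizer_iff.mpr hall⟩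
  have hVc : ∀ x ∈ V, ∀ y ∈ V, x * y = y * x := by
    intro x hx y hy
    have h1 : (⟨x, hx⟩ : ↥V) * ⟨y, hy⟩ = ⟨y, hy⟩ * ⟨x, hx⟩ := hV.1.is_comm.comm _ _
    exact congrArg Subtype.val h1
  have hpQ : ¬ p ∣ Nat.card ↥Q := by
    obtain ⟨k, hk⟩ := IsPGroup.exists_card_eq hQ.1.1
    rw [hk]
    intro hd
    exact hpq ((Nat.prime_dvd_prime_iff_eq hp hq).mp (hp.dvd_of_dvd_pow hd))
  have hpX : ¬ p ∣ Nat.card ↥X := by
    rw [hX]
    intro hd
    exact hpr ((Nat.prime_dvd_prime_iff_eq hp hr).mp hd)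
  have hcopXZ : (Nat.card ↥X).Coprime (Nat.card ↥Z) := by
    rw [hX, hZcard]
    exact (Nat.coprime_primes hr hq).mpr (Ne.symm hqr)
  have hfaithZ : Z ⊓ Subgroup.centralizer (V : Set G) = ⊥ := by
    rw [eq_bot_iff, ← hfaith]
    exact inf_le_inf_right _ (hZQ.trans le_sup_right)
  have key := Cfsg.Agent.Helper8.HHLin.group_hh_bound p X Q Z V hXprime hZQ
    (by rw [hZcard]; exact hq) hXQ hQcomm hZcenter hZQc hZX hCQ' hVc hV.2 hXV hQV hpQ hpX hcopXZ
    hfaithZ hCV
  rw [hX, hZcard] at key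
  obtain ⟨n, hn1, hn⟩ := Cfsg.Agent.S0095.result (P := ↥Q) hQ
  -- the centraliser condition for single elements
  haveI : Fact r.Prime := ⟨hr⟩
  have hXcyc : IsCyclic ↥X := isCyclic_of_prime_card (p := r) hX
  have hfix : ∀ x ∈ X, x ≠ 1 → Q ⊓ Subgroup.centralizer {x} = (Subgroup.center ↥Q).map Q.subtype := by
    intro x hx hx1
    have hzp : Subgroup.zpowers x = X := by
      apply Subgroup.eq_of_le_of_card_ge (Subgroup.zpowers_le.mpr hx)
      rw [Nat.card_zpowers, hX]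
      have h1 : orderOf x ∣ r := by
        rw [← hX]
        exact Subgroup.orderOf_dvd_natCard X hx
      rcases (Nat.dvd_prime hr).mp h1 with h2 | h2
      · exact absurd (orderOf_eq_one_iff.mp h2) hx1
      · exact h2.ge
    show Q ⊓ Subgroup.centralizer {x} = Z
    rw [← hCQ, ← hzp, Subgroup.zpowers_eq_closure, Subgroup.centralizer_closure]
  have hdiv := Cfsg.Agent.S3767.result Q X hQ n hn hXcyc
    (by rw [hX]; exact (Nat.coprime_primes hr hq).mpr (Ne.symm hqr)) hXQ hfix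
  rw [hX] at hdiv
  -- arithmetic
  rw [hn] at key
  have hr2 : 2 ≤ r := hr.two_le
  have hq2 : 2 ≤ q := hq.two_le
  have hqn2 : 2 ≤ q ^ n := by
    calc 2 ≤ q := hq2
      _ = q ^ 1 := (pow_one q).symm
      _ ≤ q ^ n := Nat.pow_le_pow_right (by omega) hn1
  have hle : q ^ n ≤ r - 1 := by
    have h1 : q ^ (2 * n + 1) = (q ^ n) ^ 2 * q := by ring
    rw [h1] at key
    have h2 : (q ^ n) ^ 2 ≤ (r - 1) ^ 2 := Nat.le_of_mul_le_mul_right key (by omega)
    exact (Nat.pow_le_pow_iff_left (by norm_num)).mp h2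
  have hreq : r = q ^ n + 1 := by
    rcases hdiv with h | h
    · have := Nat.le_of_dvd (by omega) h
      omega
    · have := Nat.le_of_dvd (by omega) h
      omega
  have hq2' : q = 2 := by
    rcases hq.eq_two_or_odd' with h | h
    · exact h
    · exfalso
      have hodd : Odd (q ^ n) := h.pow
      have hev : Even r := by
        rw [hreq]
        exact hodd.add_one
      have hr2' : r = 2 := (Nat.Prime.even_iff hr).mp hev
      omega
  refine ⟨hq2', n, ?_, ?_⟩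
  · rw [hreq, hq2']
  · rw [hn, hq2']

end Cfsg.Agent.S3764
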