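import Mathlib
import Cfsg.Agent.Lib.Helper8.HHGlue2
import Cfsg.Statements.S3765
-- import your own Cfsg.Agent.* helpers here

set_option autoImplicit false
open Cfsg

namespace Cfsg.Agent.S3765

/-- Let p, q, r be distinct primes and let X, Q, V be subgroups of a finite group with X of order r normalizing the q-group Q and acting faithfully on it (X ∩ C(Q) = 1), and V a nontrivial elementary abelian p-group normalized by X and Q on which XQ acts faithfully. If q = 2 and r has the form 2^n + 1, assume in addition that Q is abelian. Then C_V(X) ≠ 1. -/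
theorem result {G : Type*} [Group G] [Finite G] {p q r : ℕ} (hp : p.Prime) (hq : q.Prime) (hr : r.Prime) (hpq : p ≠ q) (hpr : p ≠ r) (hqr : q ≠ r) (X Q V : Subgroup G) (hX : Nat.card X = r) (hQ : IsPGroup q Q) (hXQ : X ≤ Subgroup.normalizer (Q : Set G)) (hXfaith : X ⊓ Subgroup.centralizer (Q : Set G) = ⊥) (hV : Cfsg.IsElementaryAbelian p V) (hV1 : V ≠ ⊥) (hXV : X ≤ Subgroup.normalizer (V : Set G)) (hQV : Q ≤ Subgroup.normalizer (V : Set G)) (hfaith : (X ⊔ Q) ⊓ Subgroup.centralizer (V : Set G) = ⊥) (hexc : q = 2 → (∃ n : ℕ, r = 2 ^ n + 1) → IsMulCommutative Q) : V ⊓ Subgroup.centralizer (X : Set G) ≠ ⊥ := by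
  classical
  haveI : Fact p.Prime := ⟨hp⟩
  intro hCV
  have hVc : ∀ x ∈ V, ∀ y ∈ V, x * y = y * x := by
    intro x hx y hy
    have h1 : (⟨x, hx⟩ : ↥V) * ⟨y, hy⟩ = ⟨y, hy⟩ * ⟨x, hx⟩ := hV.1.is_comm.comm _ _
    exact congrArg Subtype.val h1
  have hexc' : ¬ (q = 2 ∧ ∃ m : ℕ, r = 2 ^ m + 1) ∨
      ∀ a ∈ Q, ∀ b ∈ Q, a * b * a⁻¹ * b⁻¹ ∈ Subgroup.centralizer (V : Set G) := by
    by_cases h : q = 2 ∧ ∃ m : ℕ, r = 2 ^ m + 1
    · right
      have hc := hexc h.1 h.2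
      intro a ha b hb
      have h1 : (⟨a, ha⟩ : ↥Q) * ⟨b, hb⟩ = ⟨b, hb⟩ * ⟨a, ha⟩ := hc.is_comm.comm _ _
      have h2 : a * b = b * a := congrArg Subtype.val h1
      have h3 : a * b * a⁻¹ * b⁻¹ = 1 := by
        rw [h2, mul_inv_cancel_right, mul_inv_cancel]
      rw [h3]
      exact Subgroup.one_mem _
    · exact Or.inl h
  have key := Cfsg.Agent.Helper8.HHLin.group_lin_hh p hq hr hpq hpr hqr X Q V hX hQ hXQ hVc hV.2
    hXV hQV hCV hexc'
  have hcomm : ∀ g ∈ Q, ∀ x ∈ X, x * g = g * x := by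
    intro g hg x hx
    have h1 := key g hg x hx
    have h2 : x * g * x⁻¹ * g⁻¹ ∈ X ⊔ Q := by
      have hxS : x ∈ X ⊔ Q := (le_sup_left : X ≤ X ⊔ Q) hx
      have hgS : g ∈ X ⊔ Q := (le_sup_right : Q ≤ X ⊔ Q) hg
      exact Subgroup.mul_mem _ (Subgroup.mul_mem _ (Subgroup.mul_mem _ hxS hgS)
        (Subgroup.inv_mem _ hxS)) (Subgroup.inv_mem _ hgS)
    have h3 : x * g * x⁻¹ * g⁻¹ ∈ (X ⊔ Q) ⊓ Subgroup.centralizer (V : Set G) :=
      Subgroup.mem_inf.mpr ⟨h2, h1⟩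
    rw [hfaith, Subgroup.mem_bot] at h3
    have h4 : x * g = (x * g * x⁻¹ * g⁻¹) * (g * x) := by group
    rw [h4, h3, one_mul]
  have hXle : X ≤ X ⊓ Subgroup.centralizer (Q : Set G) := by
    intro x hx
    refine Subgroup.mem_inf.mpr ⟨hx, ?_⟩
    rw [Subgroup.mem_centralizer_iff]
    intro g hg
    exact (hcomm g hg x hx).symm
  rw [hXfaith, le_bot_iff] at hXle
  rw [hXle, Subgroup.card_bot] at hX
  rw [← hX] at hr
  exact Nat.not_prime_one hr

end Cfsg.Agent.S3765
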