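import Mathlib
import Cfsg.Statements.S3766
import Cfsg.Agent.Lib.Helper7.Fitting2
import Cfsg.Agent.Lib.Helper7.Quasisimple

set_option autoImplicit false
open Cfsg

namespace Cfsg.Agent.S3766

open Subgroup
open scoped commutatorElement

variable {G : Type*} [Group G]

/-- `U / V` is a chief factor of `G`. -/
def IsChief (U V : Subgroup G) : Prop :=
  U.Normal ∧ V.Normal ∧ V < U ∧ ∀ W : Subgroup G, W.Normal → V ≤ W → W ≤ U → W = V ∨ W = U

/-- The iterated commutator `[W, M, …, M]`. -/
def iterComm (M W : Subgroup G) : ℕ → Subgroup G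
  | 0 => W
  | k + 1 => ⁅iterComm M W k, M⁆

theorem iterComm_normal (M W : Subgroup G) [hM : M.Normal] [hW : W.Normal] :
    ∀ k, (iterComm M W k).Normal
  | 0 => hW
  | k + 1 => by
    have := iterComm_normal M W k
    exact Subgroup.commutator_normal _ _

theorem iterComm_le (M W : Subgroup G) [hM : M.Normal] [hW : W.Normal] :
    ∀ k, iterComm M W k ≤ W
  | 0 => le_rfl
  | k + 1 => by
    have := iterComm_normal M W k
    exact (Subgroup.commutator_le_left _ _).trans (iterComm_le M W k)

/-- A nilpotent normal subgroup centralizes every chief factor. -/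
theorem commutator_le_of_isChief (U V K : Subgroup G) (hUV : IsChief U V) [hK : K.Normal]
    (hKnil : Group.IsNilpotent ↥K) : ⁅U, K⁆ ≤ V := by
  obtain ⟨hUn, hVn, hVU, hmax⟩ := hUV
  obtain ⟨c, hc⟩ := (Subgroup.isNilpotent_iff_lowerCentralSeries K).mp hKnil
  have h1 : ∀ i, iterComm K U (i + 1) ≤ K.lowerCentralSeries i := by
    intro i
    induction i with
    | zero => exact Subgroup.commutator_le_right U K
    | succ i ih => exact Subgroup.commutator_mono ih le_rfl
  by_contra hnot
  have hWn : (⁅U, K⁆ ⊔ V).Normal := inferInstance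
  have hW : ⁅U, K⁆ ⊔ V = U := by
    rcases hmax (⁅U, K⁆ ⊔ V) hWn le_sup_right
      (sup_le (Subgroup.commutator_le_left U K) hVU.le) with h | h
    · exfalso
      apply hnot
      rw [← h]
      exact le_sup_left
    · exact h
  have h2 : ∀ i, U ≤ iterComm K U i ⊔ V := by
    intro i
    induction i with
    | zero => exact le_sup_left
    | succ i ih =>
      have := iterComm_normal K U i
      have := iterComm_normal K U (i + 1)
      have h3 : ⁅U, K⁆ ≤ iterComm K U (i + 1) ⊔ V := by
        refine (Subgroup.commutator_mono ih le_rfl).trans ?_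
        apply Cfsg.Agent.Helper7.commutator_sup_le
        · exact le_sup_left
        · exact (Subgroup.commutator_le_left V K).trans le_sup_right
      calc U = ⁅U, K⁆ ⊔ V := hW.symm
        _ ≤ iterComm K U (i + 1) ⊔ V := sup_le h3 le_sup_right
  have h4 := h2 (c + 1)
  have h5 : iterComm K U (c + 1) ≤ ⊥ := (h1 c).trans (le_of_eq hc)
  have h6 : U ≤ V := h4.trans (sup_le (h5.trans bot_le) le_rfl)
  exact (lt_irrefl _ (lt_of_lt_of_le hVU h6))

/-- Below every nontrivial normal subgroup there is a chief factor. -/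
theorem exists_isChief [Finite G] (W : Subgroup G) [hW : W.Normal] (hne : W ≠ ⊥) :
    ∃ V : Subgroup G, IsChief W V := by
  obtain ⟨V, hV⟩ := Set.Finite.exists_maximal (s := {V : Subgroup G | V.Normal ∧ V < W})
    (Set.toFinite _) ⟨⊥, inferInstance, bot_lt_iff_ne_bot.mpr hne⟩
  obtain ⟨⟨hVn, hVW⟩, hVmax⟩ := hV
  refine ⟨V, hW, hVn, hVW, ?_⟩
  intro X hXn hVX hXW
  rcases eq_or_lt_of_le hXW with h | h
  · exact Or.inr h
  · exact Or.inl (le_antisymm (hVmax ⟨hXn, h⟩ hVX) hVX)

theorem card_lt_of_lt [Finite G] {A B : Subgroup G} (h : A < B) : Nat.card A < Nat.card B := by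
  apply lt_of_le_of_ne (Subgroup.card_le_of_le h.le)
  intro heq
  exact h.ne (Subgroup.eq_of_le_of_card_ge h.le (le_of_eq heq.symm))

/-- The inductive step: a normal subgroup of `G` inside `N` that centralizes the chief factors
below `F(N)` and whose derived subgroup lies in `F(N)` lies in `F(N)`. -/
theorem le_fitting_step [Finite G] (N : Subgroup G) [hN : N.Normal] (E : Subgroup G)
    [hE : E.Normal] (hEN : E ≤ N)
    (hcent : ∀ U V : Subgroup G, IsChief U V → U ≤ (Cfsg.fittingSubgroup ↥N).map N.subtype →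
      ⁅U, E⁆ ≤ V)
    (hder : ⁅E, E⁆ ≤ (Cfsg.fittingSubgroup ↥N).map N.subtype) :
    E ≤ (Cfsg.fittingSubgroup ↥N).map N.subtype := by
  have hchar : (Cfsg.fittingSubgroup ↥N).Characteristic :=
    Cfsg.Agent.Helper7.fittingSubgroup_characteristic
  obtain ⟨F, hF⟩ : ∃ F : Subgroup G, F = (Cfsg.fittingSubgroup ↥N).map N.subtype := ⟨_, rfl⟩
  rw [← hF] at hcent hder ⊢
  have hFn : F.Normal := by
    rw [hF]
    exact ConjAct.normal_of_characteristic_of_normal
  have hFnil : Group.IsNilpotent ↥F := by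
    rw [hF]
    exact Cfsg.Agent.Helper7.isNilpotent_map_subtype _
      Cfsg.Agent.Helper7.fittingSubgroup_isNilpotent
  have hFN : F ≤ N := by
    rw [hF]
    exact Subgroup.map_subtype_le _
  obtain ⟨M, hM⟩ : ∃ M : Subgroup G, M = F ⊔ E := ⟨_, rfl⟩
  have hMn : M.Normal := by
    rw [hM]
    infer_instance
  have hMN : M ≤ N := by
    rw [hM]
    exact sup_le hFN hEN
  -- `M` strictly shrinks nontrivial normal subgroups of `F`
  have hshrink : ∀ W : Subgroup G, W.Normal → W ≤ F → W ≠ ⊥ → ⁅W, M⁆ < W := by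
    intro W hWn hWF hWne
    obtain ⟨V, hV⟩ := exists_isChief W hWne
    have hVn : V.Normal := hV.2.1
    have h1 : ⁅W, F⁆ ≤ V := commutator_le_of_isChief W V F hV hFnil
    have h2 : ⁅W, E⁆ ≤ V := hcent W V hV hWF
    have h3 : ⁅W, M⁆ ≤ V := by
      rw [hM]
      exact Cfsg.Agent.Helper7.commutator_sup_le' _ _ _ _ h1 h2
    exact lt_of_le_of_lt h3 hV.2.2.1
  -- the lower central series of `M`
  have hlcs : ∀ k, M.lowerCentralSeries (k + 1) ≤ iterComm M F k := by
    intro k
    induction k with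
    | zero =>
      show ⁅M, M⁆ ≤ F
      nth_rewrite 1 [hM]
      apply Cfsg.Agent.Helper7.commutator_sup_le
      · exact Subgroup.commutator_le_left F M
      · rw [hM]
        exact Cfsg.Agent.Helper7.commutator_sup_le' _ _ _ _ (Subgroup.commutator_le_right E F) hder
    | succ k ih => exact Subgroup.commutator_mono ih le_rfl
  have hdecr : ∀ k, iterComm M F k = ⊥ ∨ Nat.card (iterComm M F k) + k ≤ Nat.card F := by
    intro k
    induction k with
    | zero => exact Or.inr (le_refl _)
    | succ k ih =>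
      rcases ih with h | h
      · left
        show ⁅iterComm M F k, M⁆ = ⊥
        rw [h]
        exact Subgroup.commutator_bot_left M
      · by_cases hb : iterComm M F k = ⊥
        · left
          show ⁅iterComm M F k, M⁆ = ⊥
          rw [hb]
          exact Subgroup.commutator_bot_left M
        · right
          have h1 := hshrink (iterComm M F k) (iterComm_normal M F k) (iterComm_le M F k) hb
          have h2 := card_lt_of_lt h1
          show Nat.card ↥⁅iterComm M F k, M⁆ + (k + 1) ≤ Nat.card F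
          omega
  have hMnil : Group.IsNilpotent ↥M := by
    rw [Subgroup.isNilpotent_iff_lowerCentralSeries]
    refine ⟨Nat.card F + 1, ?_⟩
    rw [eq_bot_iff]
    refine (hlcs (Nat.card F)).trans ?_
    rcases hdecr (Nat.card F) with h | h
    · exact le_of_eq h
    · exfalso
      have : 0 < Nat.card (iterComm M F (Nat.card F)) := Nat.card_pos
      omega
  have hsub : (M.subgroupOf N).Normal := Subgroup.normal_subgroupOf
  have h1 := @Cfsg.Agent.Helper7.le_fittingSubgroup ↥N _ (M.subgroupOf N) hsub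
    (Cfsg.Agent.Helper7.isNilpotent_subgroupOf hMN hMnil)
  have h2 := Subgroup.map_mono (f := N.subtype) h1
  rw [Subgroup.map_subgroupOf_eq_of_le hMN, ← hF] at h2
  have h3 : E ≤ M := by
    rw [hM]
    exact le_sup_right
  exact h3.trans h2

/-- The derived series of a subgroup, computed in the ambient group. -/
def dser (D : Subgroup G) : ℕ → Subgroup G
  | 0 => D
  | k + 1 => ⁅dser D k, dser D k⁆

theorem dser_normal (D : Subgroup G) [hD : D.Normal] : ∀ k, (dser D k).Normal
  | 0 => hD
  | k + 1 => by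
    have := dser_normal D k
    exact Subgroup.commutator_normal _ _

theorem dser_le (D : Subgroup G) [hD : D.Normal] : ∀ k, dser D k ≤ D
  | 0 => le_rfl
  | k + 1 => by
    have := dser_normal D k
    exact (Subgroup.commutator_le_left _ _).trans (dser_le D k)

theorem dser_le_derivedSeries (D : Subgroup G) : ∀ k, dser D k ≤ derivedSeries G k
  | 0 => le_top
  | k + 1 => Subgroup.commutator_mono (dser_le_derivedSeries D k) (dser_le_derivedSeries D k)

/-- The backward direction. -/
theorem mem_fitting_of_cent [Finite G] (hG : Group.IsSolvable G) (N : Subgroup G) [hN : N.Normal]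
    (g : G) (hgN : g ∈ N)
    (hcent : ∀ U V : Subgroup G, IsChief U V → U ≤ (Cfsg.fittingSubgroup ↥N).map N.subtype →
      ∀ u ∈ U, u * g * u⁻¹ * g⁻¹ ∈ V) :
    g ∈ (Cfsg.fittingSubgroup ↥N).map N.subtype := by
  obtain ⟨D, hD⟩ : ∃ D : Subgroup G, D = Subgroup.normalClosure {g} := ⟨_, rfl⟩
  have hDn : D.Normal := by
    rw [hD]
    exact Subgroup.normalClosure_normal
  have hDN : D ≤ N := by
    rw [hD]
    exact Subgroup.normalClosure_le_normal (Set.singleton_subset_iff.mpr hgN)
  have hgD : g ∈ D := by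
    rw [hD]
    exact Subgroup.subset_normalClosure (Set.mem_singleton g)
  have hDcent : ∀ U V : Subgroup G, IsChief U V →
      U ≤ (Cfsg.fittingSubgroup ↥N).map N.subtype → ⁅U, D⁆ ≤ V := by
    intro U V hUV hUF
    have hUn : U.Normal := hUV.1
    have hVn : V.Normal := hUV.2.1
    rw [Subgroup.commutator_comm, ← Cfsg.Agent.Helper7.le_commutatorStab_iff, hD]
    unfold Subgroup.normalClosure
    rw [Subgroup.closure_le]
    intro x hx
    obtain ⟨a, ha, hax⟩ := Group.mem_conjugatesOfSet_iff.mp hx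
    rw [Set.mem_singleton_iff] at ha
    obtain ⟨c, hc⟩ := isConj_iff.mp hax
    intro u hu
    have hu' : c⁻¹ * u * c ∈ U := by
      have := hUn.conj_mem u hu c⁻¹
      rwa [inv_inv] at this
    have h1 := hcent U V hUV hUF _ hu'
    have h2 : ⁅x, u⁆ = c * (c⁻¹ * u * c * g * (c⁻¹ * u * c)⁻¹ * g⁻¹)⁻¹ * c⁻¹ := by
      rw [← hc, ha, commutatorElement_def]
      group
    rw [h2]
    exact hVn.conj_mem _ (V.inv_mem h1) c
  have hind : ∀ k i : ℕ, dser D (i + k) ≤ (Cfsg.fittingSubgroup ↥N).map N.subtype →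
      dser D i ≤ (Cfsg.fittingSubgroup ↥N).map N.subtype := by
    intro k
    induction k with
    | zero => intro i h; exact h
    | succ k ih =>
      intro i h
      have h1 : dser D (i + 1) ≤ (Cfsg.fittingSubgroup ↥N).map N.subtype := by
        apply ih (i + 1)
        rw [show i + 1 + k = i + (k + 1) by ring]
        exact h
      have := dser_normal D i
      apply le_fitting_step N (dser D i) ((dser_le D i).trans hDN)
      · intro U V hUV hUF
        exact (Subgroup.commutator_mono le_rfl (dser_le D i)).trans (hDcent U V hUV hUF)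
      · exact h1
  obtain ⟨n, hn⟩ := hG.solvable
  have h0 : dser D (0 + n) ≤ (Cfsg.fittingSubgroup ↥N).map N.subtype := by
    rw [zero_add]
    refine (dser_le_derivedSeries D n).trans ?_
    rw [hn]
    exact bot_le
  exact hind n 0 h0 hgD

theorem result {G : Type*} [Group G] [Finite G] (hG : Group.IsSolvable G) (N : Subgroup G) [N.Normal] (g : G) : (g ∈ (Cfsg.fittingSubgroup ↥N).map N.subtype ↔ g ∈ N ∧ ∀ U V : Subgroup G, (U.Normal ∧ V.Normal ∧ V < U ∧ ∀ W : Subgroup G, W.Normal → V ≤ W → W ≤ U → W = V ∨ W = U) → ∀ u ∈ U, u * g * u⁻¹ * g⁻¹ ∈ V) ∧ (g ∈ (Cfsg.fittingSubgroup ↥N).map N.subtype ↔ g ∈ N ∧ ∀ U V : Subgroup G, (U.Normal ∧ V.Normal ∧ V < U ∧ ∀ W : Subgroup G, W.Normal → V ≤ W → W ≤ U → W = V ∨ W = U) → U ≤ (Cfsg.fittingSubgroup ↥N).map N.subtype → ∀ u ∈ U, u * g * u⁻¹ * g⁻¹ ∈ V) := by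
  have hchar : (Cfsg.fittingSubgroup ↥N).Characteristic :=
    Cfsg.Agent.Helper7.fittingSubgroup_characteristic
  have hFn : ((Cfsg.fittingSubgroup ↥N).map N.subtype).Normal :=
    ConjAct.normal_of_characteristic_of_normal
  have hFnil : Group.IsNilpotent ↥((Cfsg.fittingSubgroup ↥N).map N.subtype) :=
    Cfsg.Agent.Helper7.isNilpotent_map_subtype _ Cfsg.Agent.Helper7.fittingSubgroup_isNilpotent
  have hforward : g ∈ (Cfsg.fittingSubgroup ↥N).map N.subtype →
      ∀ U V : Subgroup G, IsChief U V → ∀ u ∈ U, u * g * u⁻¹ * g⁻¹ ∈ V := by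
    intro hg U V hUV u hu
    have h1 := commutator_le_of_isChief U V _ hUV hFnil
    have h2 : ⁅u, g⁆ ∈ ⁅U, (Cfsg.fittingSubgroup ↥N).map N.subtype⁆ :=
      Subgroup.commutator_mem_commutator hu hg
    have h3 := h1 h2
    rwa [commutatorElement_def] at h3
  refine ⟨⟨fun hg => ⟨Subgroup.map_subtype_le _ hg, fun U V hUV => hforward hg U V hUV⟩, ?_⟩,
    ⟨fun hg => ⟨Subgroup.map_subtype_le _ hg, fun U V hUV _ => hforward hg U V hUV⟩, ?_⟩⟩
  · rintro ⟨hgN, h⟩
    exact mem_fitting_of_cent hG N g hgN (fun U V hUV _ => h U V hUV)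
  · rintro ⟨hgN, h⟩
    exact mem_fitting_of_cent hG N g hgN (fun U V hUV hUF => h U V hUV hUF)

end Cfsg.Agent.S3766
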