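import Mathlib
import Cfsg.Statements.S3768
import Cfsg.Agent.S0035
import Cfsg.Agent.S0034
import Cfsg.Agent.Lib.Helper1.Complement

set_option autoImplicit false
open Pointwise
open Cfsg

namespace Cfsg.Agent.S3768

open Cfsg.Agent.S0034 (mem_conj_smul mem_of_conj_mem)

variable {G : Type*} [Group G]

/-- In a Frobenius group, an element of the kernel conjugating a nontrivial element of the
complement into the complement is trivial. -/
theorem eq_one_of_conj_mem (R K : Subgroup G) (hR : Cfsg.IsFrobeniusComplement R)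
    (hKR : K ⊓ R = ⊥) {k x : G} (hk : k ∈ K) (hx : x ∈ R) (hx1 : x ≠ 1)
    (hc : k⁻¹ * x * k ∈ R) : k = 1 := by
  have hkR : k ∈ R := mem_of_conj_mem R hR hx hx1 hc
  have : k ∈ K ⊓ R := Subgroup.mem_inf.mpr ⟨hk, hkR⟩
  rwa [hKR, Subgroup.mem_bot] at this

/-- The commutator map `κ ↦ κ⁻¹ x κ x⁻¹` is injective on the kernel, for `1 ≠ x ∈ R`. -/
theorem comm_injective (R K : Subgroup G) (hR : Cfsg.IsFrobeniusComplement R)
    (hKR : K ⊓ R = ⊥) {x : G} (hx : x ∈ R) (hx1 : x ≠ 1) {a b : G} (ha : a ∈ K) (hb : b ∈ K)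
    (h : a⁻¹ * x * a * x⁻¹ = b⁻¹ * x * b * x⁻¹) : a = b := by
  have h1 : a⁻¹ * x * a = b⁻¹ * x * b := mul_right_cancel h
  have h2 : (a * b⁻¹)⁻¹ * x * (a * b⁻¹) = x := by
    have e : (a * b⁻¹)⁻¹ * x * (a * b⁻¹) = b * (a⁻¹ * x * a) * b⁻¹ := by group
    rw [e, h1]
    group
  have h3 : a * b⁻¹ = 1 := eq_one_of_conj_mem R K hR hKR (K.mul_mem ha (K.inv_mem hb)) hx hx1
    (by rw [h2]; exact hx)
  exact mul_inv_eq_one.mp h3

/-- Let G be a finite Frobenius group with Frobenius complement R and Frobenius kernel K (the identity together with the elements in no conjugate of R), and let N be a normal subgroup of G not containing K. Then G/N is a Frobenius group with Frobenius complement RN/N whose Frobenius kernel is the image of K. -/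
theorem result {G : Type*} [Group G] [Finite G] (R : Subgroup G) (hR : Cfsg.IsFrobeniusComplement R) (N : Subgroup G) [N.Normal] (hKN : ¬ Cfsg.frobeniusKernel R ⊆ N) : Cfsg.IsFrobeniusComplement (R.map (QuotientGroup.mk' N)) ∧ Cfsg.frobeniusKernel (R.map (QuotientGroup.mk' N)) = QuotientGroup.mk' N '' Cfsg.frobeniusKernel R := by
  obtain ⟨K, hKset, hKn, hKc⟩ := Cfsg.Agent.S0035.result R hR
  have hNn : N.Normal := inferInstance
  have hKR : K ⊓ R = ⊥ := hKc.disjoint.eq_bot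
  have hmemK : ∀ x : G, x ∈ K ↔ x ∈ Cfsg.frobeniusKernel R := fun x => by
    rw [← hKset]
    rfl
  have hdecomp : ∀ g : G, ∃ k ∈ K, ∃ r ∈ R, g = k * r :=
    fun g => Cfsg.Agent.Helper1.IsComplement'.exists_mul hKc g
  have hKnotN : ¬ K ≤ N := fun h => hKN (fun y hy => h ((hmemK y).mpr hy))
  have hmk1 : ∀ x : G, (QuotientGroup.mk' N) x = 1 ↔ x ∈ N := fun x => QuotientGroup.eq_one_iff x
  -- Step 1
  have hNR : N ⊓ R = ⊥ := by
    rw [eq_bot_iff]
    intro x hx
    rw [Subgroup.mem_bot]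
    by_contra hx1
    apply hKnotN
    have hmem : ∀ k : K, (k : G)⁻¹ * x * k * x⁻¹ ∈ K ⊓ N := by
      intro k
      refine Subgroup.mem_inf.mpr ⟨?_, ?_⟩
      · have h1 : x * (k : G) * x⁻¹ ∈ K := hKn.conj_mem _ k.2 x
        have e : (k : G)⁻¹ * x * k * x⁻¹ = (k : G)⁻¹ * (x * k * x⁻¹) := by group
        rw [e]
        exact K.mul_mem (K.inv_mem k.2) h1
      · have h1 : (k : G)⁻¹ * x * (k : G)⁻¹⁻¹ ∈ N := hNn.conj_mem _ hx.1 (k : G)⁻¹
        rw [inv_inv] at h1
        exact N.mul_mem h1 (N.inv_mem hx.1)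
    have hinj : Function.Injective (fun k : K => (⟨(k : G)⁻¹ * x * k * x⁻¹, hmem k⟩ : ↥(K ⊓ N))) := by
      intro a b hab
      have h1 : (a : G)⁻¹ * x * a * x⁻¹ = (b : G)⁻¹ * x * b * x⁻¹ := congrArg Subtype.val hab
      exact Subtype.ext (comm_injective R K hR hKR hx.2 hx1 a.2 b.2 h1)
    have hcard : Nat.card K ≤ Nat.card ↥(K ⊓ N) := Nat.card_le_card_of_injective _ hinj
    have heq : K ⊓ N = K := Subgroup.eq_of_le_of_card_ge inf_le_left hcard
    rw [← heq]
    exact inf_le_right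
  have hNK : N ≤ K := by
    intro y hy
    rw [hmemK]
    by_cases hy1 : y = 1
    · exact Or.inl hy1
    · right
      intro g hg
      rw [mem_conj_smul] at hg
      have h1 : g⁻¹ * y * g⁻¹⁻¹ ∈ N := hNn.conj_mem _ hy g⁻¹
      rw [inv_inv] at h1
      have h2 : g⁻¹ * y * g ∈ N ⊓ R := Subgroup.mem_inf.mpr ⟨h1, hg⟩
      rw [hNR, Subgroup.mem_bot] at h2
      apply hy1
      have e : y = g * (g⁻¹ * y * g) * g⁻¹ := by group
      rw [e, h2]
      group
  have hRK1 : ∀ r ∈ R, r ∈ K → r = 1 := by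
    intro r hr hrK
    have : r ∈ K ⊓ R := Subgroup.mem_inf.mpr ⟨hrK, hr⟩
    rwa [hKR, Subgroup.mem_bot] at this
  refine ⟨⟨?_, ?_, ?_⟩, ?_⟩
  · -- nontrivial
    intro hb
    apply hR.1
    rw [eq_bot_iff]
    intro r hr
    have h1 : (QuotientGroup.mk' N) r ∈ R.map (QuotientGroup.mk' N) := Subgroup.mem_map_of_mem _ hr
    rw [hb, Subgroup.mem_bot, hmk1] at h1
    have h2 : r ∈ N ⊓ R := Subgroup.mem_inf.mpr ⟨h1, hr⟩
    rwa [hNR] at h2
  · -- proper
    intro ht
    apply hKnotN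
    intro k hk
    have h1 : (QuotientGroup.mk' N) k ∈ R.map (QuotientGroup.mk' N) := by
      rw [ht]
      exact Subgroup.mem_top _
    obtain ⟨r, hr, hrk⟩ := Subgroup.mem_map.mp h1
    have h2 : r⁻¹ * k ∈ N := by
      rw [← hmk1, map_mul, map_inv, hrk, inv_mul_cancel]
    have h3 : r ∈ K := by
      have e : r = k * (r⁻¹ * k)⁻¹ := by group
      rw [e]
      exact K.mul_mem hk (K.inv_mem (hNK h2))
    rw [hRK1 r hr h3, inv_one, one_mul] at h2
    exact h2
  · -- Frobenius condition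
    intro gb hgb
    rw [eq_bot_iff]
    intro yb hyb
    rw [Subgroup.mem_bot]
    by_contra hy1
    obtain ⟨g, rfl⟩ := QuotientGroup.mk'_surjective N gb
    obtain ⟨hyb1, hyb2⟩ := Subgroup.mem_inf.mp hyb
    obtain ⟨r₁, hr₁, rfl⟩ := Subgroup.mem_map.mp hyb1
    rw [mem_conj_smul] at hyb2
    obtain ⟨r₂, hr₂, hr₂eq⟩ := Subgroup.mem_map.mp hyb2
    have hr₁1 : r₁ ≠ 1 := by
      intro h
      apply hy1
      rw [h, map_one]
    obtain ⟨k, hk, r, hr, rfl⟩ := hdecomp g
    have hN1 : (k * r)⁻¹ * r₁ * (k * r) * r₂⁻¹ ∈ N := by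
      rw [← hmk1, map_mul, map_mul, map_mul, map_inv, map_inv, hr₂eq, mul_inv_cancel]
    -- conjugate everything by `r`
    obtain ⟨r₁', hr₁'⟩ : ∃ r₁' : G, r₁' = r⁻¹ * r₁ * r := ⟨_, rfl⟩
    obtain ⟨k', hk'⟩ : ∃ k' : G, k' = r⁻¹ * k * r := ⟨_, rfl⟩
    have hr₁'R : r₁' ∈ R := by
      rw [hr₁']
      exact R.mul_mem (R.mul_mem (R.inv_mem hr) hr₁) hr
    have hk'K : k' ∈ K := by
      rw [hk']
      have := hKn.conj_mem _ hk r⁻¹
      rwa [inv_inv] at this
    have hr₁'1 : r₁' ≠ 1 := by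
      intro h
      apply hr₁1
      have e : r₁ = r * r₁' * r⁻¹ := by
        rw [hr₁']
        group
      rw [e, h]
      group
    have econj : (k * r)⁻¹ * r₁ * (k * r) = k'⁻¹ * r₁' * k' := by
      rw [hr₁', hk']
      group
    rw [econj] at hN1
    have hcK : k'⁻¹ * r₁' * k' * r₁'⁻¹ ∈ K := by
      have h1 : r₁' * k' * r₁'⁻¹ ∈ K := hKn.conj_mem _ hk'K r₁'
      have e : k'⁻¹ * r₁' * k' * r₁'⁻¹ = k'⁻¹ * (r₁' * k' * r₁'⁻¹) := by group
      rw [e]
      exact K.mul_mem (K.inv_mem hk'K) h1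
    have hr₂r₁' : r₁' = r₂ := by
      have h1 : r₁' * r₂⁻¹ ∈ K := by
        have e : r₁' * r₂⁻¹ = (k'⁻¹ * r₁' * k' * r₁'⁻¹)⁻¹ * (k'⁻¹ * r₁' * k' * r₂⁻¹) := by group
        rw [e]
        exact K.mul_mem (K.inv_mem hcK) (hNK hN1)
      have h2 := hRK1 _ (R.mul_mem hr₁'R (R.inv_mem hr₂)) h1
      exact mul_inv_eq_one.mp h2
    rw [← hr₂r₁'] at hN1
    -- the commutator map is a bijection of `N`
    have hmemN : ∀ ν : N, (ν : G)⁻¹ * r₁' * ν * r₁'⁻¹ ∈ N := by
      intro ν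
      have h1 : r₁' * (ν : G) * r₁'⁻¹ ∈ N := hNn.conj_mem _ ν.2 r₁'
      have e : (ν : G)⁻¹ * r₁' * ν * r₁'⁻¹ = (ν : G)⁻¹ * (r₁' * ν * r₁'⁻¹) := by group
      rw [e]
      exact N.mul_mem (N.inv_mem ν.2) h1
    have hinjN : Function.Injective (fun ν : N => (⟨(ν : G)⁻¹ * r₁' * ν * r₁'⁻¹, hmemN ν⟩ : N)) := by
      intro a b hab
      have h1 : (a : G)⁻¹ * r₁' * a * r₁'⁻¹ = (b : G)⁻¹ * r₁' * b * r₁'⁻¹ := congrArg Subtype.val hab
      exact Subtype.ext (comm_injective R K hR hKR hr₁'R hr₁'1 (hNK a.2) (hNK b.2) h1)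
    obtain ⟨ν, hν⟩ := Finite.surjective_of_injective hinjN ⟨_, hN1⟩
    have hν' : (ν : G)⁻¹ * r₁' * ν * r₁'⁻¹ = k'⁻¹ * r₁' * k' * r₁'⁻¹ := congrArg Subtype.val hν
    have hνk : (ν : G) = k' := comm_injective R K hR hKR hr₁'R hr₁'1 (hNK ν.2) hk'K hν'
    have hk'N : k' ∈ N := by
      rw [← hνk]
      exact ν.2
    have hkN : k ∈ N := by
      have e : k = r * k' * r⁻¹ := by
        rw [hk']
        group
      rw [e]
      exact hNn.conj_mem _ hk'N r
    apply hgb
    rw [map_mul, (hmk1 k).mpr hkN, one_mul]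
    exact Subgroup.mem_map_of_mem _ hr
  · -- the kernel
    ext xb
    constructor
    · intro hxb
      obtain ⟨g, rfl⟩ := QuotientGroup.mk'_surjective N xb
      obtain ⟨k, hk, r, hr, rfl⟩ := hdecomp g
      by_cases hr1 : r = 1
      · refine ⟨k, (hmemK k).mp hk, ?_⟩
        rw [hr1, mul_one]
      · exfalso
        have hnotK : ¬ k * r ∈ K := by
          intro h
          apply hr1
          apply hRK1 r hr
          have e : r = k⁻¹ * (k * r) := by group
          rw [e]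
          exact K.mul_mem (K.inv_mem hk) h
        have hnotker : ¬ k * r ∈ Cfsg.frobeniusKernel R := fun h => hnotK ((hmemK _).mpr h)
        have hnk : ¬ (k * r = 1 ∨ ∀ g : G, k * r ∉ MulAut.conj g • R) := hnotker
        push Not at hnk
        obtain ⟨-, g', hg'⟩ := hnk
        rcases hxb with h1 | h2
        · exact hnotK (hNK ((hmk1 _).mp h1))
        · apply h2 ((QuotientGroup.mk' N) g')
          rw [mem_conj_smul]
          rw [mem_conj_smul] at hg'
          refine Subgroup.mem_map.mpr ⟨g'⁻¹ * (k * r) * g', hg', ?_⟩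
          rw [map_mul, map_mul, map_inv]
    · rintro ⟨x, hx, rfl⟩
      have hxK : x ∈ K := (hmemK x).mpr hx
      by_cases hx1 : (QuotientGroup.mk' N) x = 1
      · exact Or.inl hx1
      · right
        intro gb hmem
        obtain ⟨g, rfl⟩ := QuotientGroup.mk'_surjective N gb
        rw [mem_conj_smul] at hmem
        obtain ⟨r, hr, hreq⟩ := Subgroup.mem_map.mp hmem
        have hconjK : g⁻¹ * x * g ∈ K := by
          have := hKn.conj_mem _ hxK g⁻¹
          rwa [inv_inv] at this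
        have h2 : (g⁻¹ * x * g)⁻¹ * r ∈ N := by
          rw [← hmk1, map_mul, map_inv, hreq, map_mul, map_mul, map_inv, inv_mul_cancel]
        have h3 : r ∈ K := by
          have e : r = (g⁻¹ * x * g) * ((g⁻¹ * x * g)⁻¹ * r) := by group
          rw [e]
          exact K.mul_mem hconjK (hNK h2)
        have hr1 := hRK1 r hr h3
        rw [hr1, map_one] at hreq
        apply hx1
        have e : (QuotientGroup.mk' N) x = (QuotientGroup.mk' N) g *
            (((QuotientGroup.mk' N) g)⁻¹ * (QuotientGroup.mk' N) x * (QuotientGroup.mk' N) g) *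
            ((QuotientGroup.mk' N) g)⁻¹ := by group
        rw [e, ← hreq]
        group

end Cfsg.Agent.S3768
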