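import Mathlib
import Cfsg.Agent.Lib.Helper8.HHGlue2
import Cfsg.Agent.Lib.Helper15.CoprimeGen
import Cfsg.Statements.S3769
-- import your own Cfsg.Agent.* helpers here

set_option autoImplicit false
open Cfsg

namespace Cfsg.Agent.S3769

/-- Let G and V be subgroups of a finite group with G solvable of odd order normalizing V, V an elementary abelian ℓ-group for a prime ℓ not dividing the order of G, and suppose G has a normal Hall subgroup K with a complement R of prime order. If C_V(R) = 1, then [R, K] centralizes V. -/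
theorem result {X : Type*} [Group X] [Finite X] (G : Subgroup X) (hsolv : Group.IsSolvable G) (hodd : Odd (Nat.card G)) (V : Subgroup X) {ℓ : ℕ} (hℓ : ℓ.Prime) (hV : Cfsg.IsElementaryAbelian ℓ V) (hℓG : ¬ ℓ ∣ Nat.card G) (hGV : G ≤ Subgroup.normalizer (V : Set X)) (K R : Subgroup X) (hKG : K ≤ G) (hKn : G ≤ Subgroup.normalizer (K : Set X)) (hHall : (Nat.card K).Coprime (K.relIndex G)) (hRG : R ≤ G) (hR : (Nat.card R).Prime) (hKR : K ⊓ R = ⊥) (hKRG : K ⊔ R = G) (hCV : V ⊓ Subgroup.centralizer (R : Set X) = ⊥) : ⁅R, K⁆ ≤ Subgroup.centralizer (V : Set X) := by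
  classical
  haveI : Fact ℓ.Prime := ⟨hℓ⟩
  set r := Nat.card ↥R with hr
  haveI : Fact r.Prime := ⟨hR⟩
  have hRnK : R ≤ Subgroup.normalizer (K : Set X) := hRG.trans hKn
  have hCVn : ∀ c ∈ Subgroup.centralizer (V : Set X), ∀ n ∈ Subgroup.normalizer (V : Set X),
      n * c * n⁻¹ ∈ Subgroup.centralizer (V : Set X) := by
    intro c hc n hn
    exact (Subgroup.normal_subgroupOf_iff (Subgroup.centralizer_le_normalizer (V : Set X))).mp
      (Subgroup.normal_subgroupOf_centralizer_normalizer (V : Set X)) c n hc hn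
  have hidx : K.relIndex G = r := by
    haveI hKn' : (K.subgroupOf G).Normal := (Subgroup.normal_subgroupOf_iff hKG).mpr
      (fun h k hh hk => (Subgroup.mem_normalizer_iff.mp (hKn hk) h).mp hh)
    have h1 : K.subgroupOf G ⊔ R.subgroupOf G = ⊤ := by
      rw [← Subgroup.subgroupOf_sup hKG hRG, hKRG, Subgroup.subgroupOf_self]
    have h2 : K.subgroupOf G ⊓ R.subgroupOf G = ⊥ := by
      rw [eq_bot_iff]
      intro x hx
      obtain ⟨hx1, hx2⟩ := Subgroup.mem_inf.mp hx
      rw [Subgroup.mem_subgroupOf] at hx1 hx2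
      have : (x : X) ∈ K ⊓ R := Subgroup.mem_inf.mpr ⟨hx1, hx2⟩
      rw [hKR, Subgroup.mem_bot] at this
      rw [Subgroup.mem_bot]
      exact Subtype.ext this
    have h3 : (K.subgroupOf G).relIndex (K.subgroupOf G ⊔ R.subgroupOf G) =
        (K.subgroupOf G).relIndex (R.subgroupOf G) := Subgroup.relIndex_sup_left _ _
    rw [h1, Subgroup.relIndex_top_right, ← Subgroup.inf_relIndex_right, h2,
      Subgroup.relIndex_bot_left] at h3
    show (K.subgroupOf G).index = r
    rw [h3]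
    exact Nat.card_congr (Subgroup.subgroupOfEquivOfLe hRG).toEquiv
  have hcop : (Nat.card ↥K).Coprime r := by rw [← hidx]; exact hHall
  have hrG : r ∣ Nat.card ↥G := Subgroup.card_dvd_of_le hRG
  have hℓr : ℓ ≠ r := by
    intro h; apply hℓG; rw [h]; exact hrG
  have hVc : ∀ x ∈ V, ∀ y ∈ V, x * y = y * x := by
    intro x hx y hy
    have h1 : (⟨x, hx⟩ : ↥V) * ⟨y, hy⟩ = ⟨y, hy⟩ * ⟨x, hx⟩ := hV.1.is_comm.comm _ _
    exact congrArg Subtype.val h1
  have hRp : IsPGroup r ↥R := IsPGroup.of_card (n := 1) (by rw [pow_one])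
  let S : Subgroup X :=
    { carrier := {k | k ∈ K ∧ ∀ x ∈ R, x * k * x⁻¹ * k⁻¹ ∈ Subgroup.centralizer (V : Set X)}
      one_mem' := ⟨K.one_mem, fun x _ => by
        have e : x * 1 * x⁻¹ * (1 : X)⁻¹ = 1 := by group
        rw [e]; exact Subgroup.one_mem _⟩
      mul_mem' := by
        rintro a b ⟨haK, ha⟩ ⟨hbK, hb⟩
        refine ⟨K.mul_mem haK hbK, fun x hx => ?_⟩
        have e : x * (a * b) * x⁻¹ * (a * b)⁻¹ =
            (x * a * x⁻¹ * a⁻¹) * (a * (x * b * x⁻¹ * b⁻¹) * a⁻¹) := by group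
        rw [e]
        exact Subgroup.mul_mem _ (ha x hx) (hCVn _ (hb x hx) a (hGV (hKG haK)))
      inv_mem' := by
        rintro a ⟨haK, ha⟩
        refine ⟨K.inv_mem haK, fun x hx => ?_⟩
        have e : x * a⁻¹ * x⁻¹ * a⁻¹⁻¹ = a⁻¹ * (x * a * x⁻¹ * a⁻¹)⁻¹ * a⁻¹⁻¹ := by group
        rw [e]
        exact hCVn _ (Subgroup.inv_mem _ (ha x hx)) a⁻¹ (Subgroup.inv_mem _ (hGV (hKG haK))) }
  have hSK : S ≤ K := fun k hk => hk.1
  have hSeq : S = K := by
    by_contra hne
    have h1 : S.relIndex K ≠ 1 := by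
      intro h
      exact hne (le_antisymm hSK (Subgroup.relIndex_eq_one.mp h))
    obtain ⟨q, hq, hqd⟩ := Nat.exists_prime_and_dvd h1
    haveI : Fact q.Prime := ⟨hq⟩
    have hqK : q ∣ Nat.card ↥K := hqd.trans (Subgroup.relIndex_dvd_card S K)
    have hqG : q ∣ Nat.card ↥G := hqK.trans (Subgroup.card_dvd_of_le hKG)
    have hℓq : ℓ ≠ q := by
      intro h; apply hℓG; rw [h]; exact hqG
    have hq2 : q ≠ 2 := by
      intro h
      rw [h] at hqG
      exact (Nat.not_even_iff_odd.mpr hodd) (even_iff_two_dvd.mpr hqG)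
    have hqr : q ≠ r := by
      intro h
      rw [h] at hqK
      have h2 : r ∣ Nat.gcd (Nat.card ↥K) r := Nat.dvd_gcd hqK dvd_rfl
      rw [hcop] at h2
      exact hR.one_lt.ne' (Nat.dvd_one.mp h2)
    obtain ⟨P, hPK, hPq, hPcard, hRP⟩ :=
      Cfsg.Agent.Helper15.exists_invariant_sylow_of_coprime (p := r) q hRp hcop hRnK
    have key := Cfsg.Agent.Helper8.HHLin.group_lin_hh ℓ hq hR hℓq hℓr hqr R P V rfl hPq hRP hVc
      hV.2 (hRG.trans hGV) ((hPK.trans hKG).trans hGV) hCV (Or.inl (fun h => hq2 h.1))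
    have hPS : P ≤ S := fun g hg => ⟨hPK hg, fun x hx => key g hg x hx⟩
    have h2 : S.relIndex K ∣ P.relIndex K := Subgroup.relIndex_dvd_of_le_left K hPS
    have h3 : P.relIndex K * Nat.card ↥P = Nat.card ↥K := by
      have := (P.subgroupOf K).index_mul_card
      rw [Cfsg.Agent.Helper8.HHLin.card_subgroupOf_of_le hPK] at this
      exact this
    have hKpos : Nat.card ↥K ≠ 0 := Nat.card_pos.ne'
    have h4 : P.relIndex K = (Nat.card ↥K) / q ^ (Nat.card ↥K).factorization q := by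
      rw [← hPcard]
      exact (Nat.div_eq_of_eq_mul_left Nat.card_pos h3.symm).symm
    have h5 : ¬ q ∣ P.relIndex K := by
      rw [h4]
      exact Nat.not_dvd_ordCompl hq hKpos
    exact h5 (hqd.trans h2)
  rw [Subgroup.commutator_le]
  intro x hx k hk
  rw [commutatorElement_def]
  have hkS : k ∈ S := by rw [hSeq]; exact hk
  exact hkS.2 x hx

end Cfsg.Agent.S3769
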