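import Mathlib
import Cfsg.Agent.Lib.Helper8.SecRep7
import Cfsg.Agent.S0042
import Cfsg.Agent.S0035
import Cfsg.Agent.S3768
import Cfsg.Statements.S3770
-- import your own Cfsg.Agent.* helpers here

set_option autoImplicit false
open Cfsg

namespace Cfsg.Agent.S3770

/-- Let G and V be subgroups of a finite group with G a Frobenius group with complement R of prime order and kernel K, G normalizing V, and V an elementary abelian ℓ-group for a prime ℓ not dividing the order of G. If C_V(R) has order ℓ, then the derived subgroup of K centralizes V. -/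
theorem result {X : Type*} [Group X] [Finite X] (G : Subgroup X) (V : Subgroup X) {ℓ : ℕ} (hℓ : ℓ.Prime) (hV : Cfsg.IsElementaryAbelian ℓ V) (hℓG : ¬ ℓ ∣ Nat.card G) (hGV : G ≤ Subgroup.normalizer (V : Set X)) (R : Subgroup ↥G) (hR : Cfsg.IsFrobeniusComplement R) (hRp : (Nat.card R).Prime) (hCV : Nat.card ↥(V ⊓ Subgroup.centralizer ((R.map G.subtype : Subgroup X) : Set X)) = ℓ) : ⁅Subgroup.closure (Subtype.val '' Cfsg.frobeniusKernel R), Subgroup.closure (Subtype.val '' Cfsg.frobeniusKernel R)⁆ ≤ Subgroup.centralizer (V : Set X) := by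
  classical
  haveI : Fact ℓ.Prime := ⟨hℓ⟩
  obtain ⟨N, hNk, hNn, hNnil⟩ := Cfsg.Agent.S0042.result R hR
  obtain ⟨N', hNk', _, hc⟩ := Cfsg.Agent.S0035.result R hR
  have hNN' : N' = N := SetLike.coe_injective (hNk'.trans hNk.symm)
  rw [hNN'] at hc
  have hKR : N ⊓ R = ⊥ := hc.disjoint.eq_bot
  haveI := hNn
  set U : Subgroup X := N.map G.subtype with hU
  set E : Subgroup X := R.map G.subtype with hE
  have hcl : Subgroup.closure (Subtype.val '' Cfsg.frobeniusKernel R) = U := by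
    rw [← hNk]
    have : (Subtype.val '' (N : Set ↥G)) = ((N.map G.subtype : Subgroup X) : Set X) := by
      rw [Subgroup.coe_map]; rfl
    rw [this, Subgroup.closure_eq]
  rw [hcl]
  have hUG : U ≤ G := by
    rintro _ ⟨u, _, rfl⟩
    exact u.2
  have hEG : E ≤ G := by
    rintro _ ⟨u, _, rfl⟩
    exact u.2
  have hUn : ∀ e ∈ E, ∀ u ∈ U, e * u * e⁻¹ ∈ U := by
    rintro _ ⟨e, _, rfl⟩ _ ⟨u, hu, rfl⟩
    exact ⟨e * u * e⁻¹, hNn.conj_mem u hu e, by simp⟩
  have hfpf : ∀ e ∈ E, e ≠ 1 → ∀ u ∈ U, e * u = u * e → u = 1 := by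
    rintro _ ⟨e, he, rfl⟩ he1 _ ⟨u, hu, rfl⟩ heu
    have he1' : e ≠ 1 := by
      intro h1
      apply he1
      rw [h1]; rfl
    have heu' : e * u = u * e := by
      apply Subtype.ext
      exact heu
    have h1 : u = 1 := Cfsg.Agent.S3768.eq_one_of_conj_mem R N hR hKR hu he he1' (by
      have : u⁻¹ * e * u = e := by rw [mul_assoc, heu']; group
      rw [this]; exact he)
    rw [h1]; rfl
  have hnil : Group.IsNilpotent ↥U :=
    (Group.isNilpotent_congr (N.equivMapOfInjective G.subtype G.subtype_injective)).mp hNnil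
  have hℓ' : ¬ ℓ ∣ Nat.card ↥(U ⊔ E) := fun hd =>
    hℓG (hd.trans (Subgroup.card_dvd_of_le (sup_le hUG hEG)))
  have key := Cfsg.Agent.Helper8.SecRep.elem_abelian_comm U E V ℓ
    (fun x hx y hy => by
      have h1 : (⟨x, hx⟩ : ↥V) * ⟨y, hy⟩ = ⟨y, hy⟩ * ⟨x, hx⟩ := hV.1.is_comm.comm _ _
      exact congrArg Subtype.val h1)
    hV.2 (hUG.trans hGV) (hEG.trans hGV) hUn hfpf hnil hℓ' hCV.le
  rw [Subgroup.commutator_le]
  intro a ha b hb
  rw [commutatorElement_def]
  exact key a ha b hb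

end Cfsg.Agent.S3770
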