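import Mathlib
import Cfsg.Statements.S3772
import Cfsg.Agent.Lib.Helper21.PGroupFrattini
import Cfsg.Agent.Lib.Helper19.PGroupBasic
import Cfsg.Agent.Lib.Helper19.SylowNormal

set_option autoImplicit false
open Cfsg

namespace Cfsg.Agent.S3772

open scoped commutatorElement
open scoped Classical

variable {G : Type*} [Group G]

/-- The sign character: `1` at the identity, `-1` elsewhere. -/
noncomputable def chi (w : G) : ℤ := by
  classical
  exact if w = 1 then 1 else -1

theorem chi_one : chi (1 : G) = 1 := by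
  unfold chi
  simp

theorem chi_of_ne {w : G} (h : w ≠ 1) : chi w = -1 := by
  unfold chi
  simp [h]

theorem chi_of_eq {w : G} (h : w = 1) : chi w = 1 := by
  rw [h, chi_one]

theorem chi_mul_self (w : G) : chi w * chi w = 1 := by
  by_cases h : w = 1
  · rw [chi_of_eq h]; norm_num
  · rw [chi_of_ne h]; norm_num

theorem chi_eq_one_iff (w : G) : chi w = 1 ↔ w = 1 := by
  constructor
  · intro h
    by_contra hne
    rw [chi_of_ne hne] at h
    norm_num at h
  · exact chi_of_eq

/-- A sum twisted by a sign vanishes. -/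
theorem sum_eq_zero_of_twist [Fintype G] (ψ : G → ℤ) (y₀ : G)
    (h : ∀ y, ψ (y₀ * y) = - ψ y) : ∑ y, ψ y = 0 := by
  have h1 : ∑ y, ψ y = ∑ y, ψ (y₀ * y) := (Equiv.sum_comp (Equiv.mulLeft y₀) ψ).symm
  have h2 : ∑ y, ψ (y₀ * y) = - ∑ y, ψ y := by
    rw [← Finset.sum_neg_distrib]
    exact Finset.sum_congr rfl (fun y _ => h y)
  omega

/-- In a subgroup of order two, `chi` is multiplicative. -/
theorem chi_mul_of_card_two (Φ : Subgroup G) (hΦ : Nat.card Φ = 2) (a b : G) (ha : a ∈ Φ)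
    (hb : b ∈ Φ) : chi (a * b) = chi a * chi b := by
  by_cases ha1 : a = 1
  · rw [ha1, one_mul, chi_one, one_mul]
  by_cases hb1 : b = 1
  · rw [hb1, mul_one, chi_one, mul_one]
  obtain ⟨y, -, hy⟩ := (Nat.card_eq_two_iff' (1 : ↥Φ)).mp hΦ
  have h1 : (⟨a, ha⟩ : ↥Φ) = y := hy _ (fun h => ha1 (congrArg Subtype.val h))
  have h2 : (⟨b, hb⟩ : ↥Φ) = y := hy _ (fun h => hb1 (congrArg Subtype.val h))
  have hab : a = b := congrArg Subtype.val (h1.trans h2.symm)
  have h3 : (⟨a, ha⟩ : ↥Φ) ^ 2 = 1 := by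
    rw [← hΦ]
    exact pow_card_eq_one'
  have h4 : a * a = 1 := by
    have := congrArg Subtype.val h3
    simpa [pow_two] using this
  rw [← hab, h4, chi_one, chi_of_ne ha1]
  norm_num

theorem chi_sq_mul (Φ : Subgroup G) (hΦ : Nat.card Φ = 2)
    (hsq : ∀ x : G, x ^ 2 ∈ Φ) (hcomm : ∀ x y : G, ⁅x, y⁆ ∈ Φ) (u y : G) :
    chi ((u * y) ^ 2) * chi (y ^ 2) = chi (u ^ 2) * chi ⁅u⁻¹, y⁆ := by
  have e : (u * y) ^ 2 = u ^ 2 * ⁅u⁻¹, y⁆ * y ^ 2 := by
    rw [commutatorElement_def, pow_two, pow_two, pow_two]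
    group
  rw [e, chi_mul_of_card_two Φ hΦ _ _ (Φ.mul_mem (hsq u) (hcomm _ _)) (hsq y),
    chi_mul_of_card_two Φ hΦ _ _ (hsq u) (hcomm _ _), mul_assoc, chi_mul_self, mul_one]

theorem sum_chi_comm [Fintype G] (Φ : Subgroup G) (hΦ : Nat.card Φ = 2)
    (hΦc : Φ ≤ Subgroup.center G) (hcomm : ∀ x y : G, ⁅x, y⁆ ∈ Φ) (u : G) :
    ∑ y : G, chi ⁅u⁻¹, y⁆ = if u ∈ Subgroup.center G then (Fintype.card G : ℤ) else 0 := by
  split_ifs with hu
  · have h1 : ∀ y : G, chi ⁅u⁻¹, y⁆ = 1 := by
      intro y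
      apply chi_of_eq
      rw [commutatorElement_eq_one_iff_commute]
      have := Subgroup.mem_center_iff.mp (Subgroup.inv_mem _ hu) y
      exact this.symm
    simp [h1]
  · have h1 : ∃ y₀ : G, ⁅u⁻¹, y₀⁆ ≠ 1 := by
      by_contra hcon
      push Not at hcon
      apply hu
      have : u⁻¹ ∈ Subgroup.center G := by
        rw [Subgroup.mem_center_iff]
        intro y
        have := commutatorElement_eq_one_iff_commute.mp (hcon y)
        exact this.eq.symm
      have h2 := Subgroup.inv_mem _ this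
      rwa [inv_inv] at h2
    obtain ⟨y₀, hy₀⟩ := h1
    apply sum_eq_zero_of_twist _ y₀
    intro y
    have e : ⁅u⁻¹, y₀ * y⁆ = ⁅u⁻¹, y₀⁆ * ⁅u⁻¹, y⁆ := by
      have hc := Subgroup.mem_center_iff.mp (hΦc (hcomm u⁻¹ y)) y₀
      have e1 : ⁅u⁻¹, y₀ * y⁆ = ⁅u⁻¹, y₀⁆ * (y₀ * ⁅u⁻¹, y⁆) * y₀⁻¹ := by
        simp only [commutatorElement_def]
        group
      rw [e1, hc]
      group
    rw [e, chi_mul_of_card_two Φ hΦ _ _ (hcomm _ _) (hcomm _ _), chi_of_ne hy₀]
    ring

theorem sum_sq [Fintype G] (Φ : Subgroup G) (hΦ : Nat.card Φ = 2)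
    (hΦc : Φ ≤ Subgroup.center G)
    (hsq : ∀ x : G, x ^ 2 ∈ Φ) (hcomm : ∀ x y : G, ⁅x, y⁆ ∈ Φ) :
    (∑ x : G, chi (x ^ 2)) * (∑ x : G, chi (x ^ 2)) =
      (Fintype.card G : ℤ) *
        ∑ u : G, (if u ∈ Subgroup.center G then chi (u ^ 2) else 0) := by
  classical
  calc (∑ x : G, chi (x ^ 2)) * (∑ x : G, chi (x ^ 2))
      = ∑ x : G, ∑ y : G, chi (x ^ 2) * chi (y ^ 2) := Finset.sum_mul_sum _ _ _ _
    _ = ∑ y : G, ∑ x : G, chi (x ^ 2) * chi (y ^ 2) := Finset.sum_comm
    _ = ∑ y : G, ∑ u : G, chi ((u * y) ^ 2) * chi (y ^ 2) := by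
        apply Finset.sum_congr rfl
        intro y _
        exact (Equiv.sum_comp (Equiv.mulRight y) (fun x => chi (x ^ 2) * chi (y ^ 2))).symm
    _ = ∑ y : G, ∑ u : G, chi (u ^ 2) * chi ⁅u⁻¹, y⁆ := by
        apply Finset.sum_congr rfl
        intro y _
        apply Finset.sum_congr rfl
        intro u _
        exact chi_sq_mul Φ hΦ hsq hcomm u y
    _ = ∑ u : G, ∑ y : G, chi (u ^ 2) * chi ⁅u⁻¹, y⁆ := Finset.sum_comm
    _ = ∑ u : G, chi (u ^ 2) *
          (if u ∈ Subgroup.center G then (Fintype.card G : ℤ) else 0) := by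
        apply Finset.sum_congr rfl
        intro u _
        rw [← Finset.mul_sum, sum_chi_comm Φ hΦ hΦc hcomm u]
    _ = (Fintype.card G : ℤ) *
        ∑ u : G, (if u ∈ Subgroup.center G then chi (u ^ 2) else 0) := by
        rw [Finset.mul_sum]
        apply Finset.sum_congr rfl
        intro u _
        split_ifs <;> ring

theorem sum_center_of_sq [Fintype G] (h : ∀ u ∈ Subgroup.center G, u ^ 2 = 1) :
    ∑ u : G, (if u ∈ Subgroup.center G then chi (u ^ 2) else 0) =
      (Nat.card (Subgroup.center G) : ℤ) := by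
  have h1 : ∀ u : G, (if u ∈ Subgroup.center G then chi (u ^ 2) else 0) =
      (if u ∈ Subgroup.center G then (1 : ℤ) else 0) := by
    intro u
    split_ifs with hu
    · exact chi_of_eq (h u hu)
    · rfl
  rw [Finset.sum_congr rfl (fun u _ => h1 u), Finset.sum_boole, Nat.card_eq_fintype_card,
    Fintype.card_subtype]

theorem sum_center_of_not_sq [Fintype G] (Φ : Subgroup G) (hΦ : Nat.card Φ = 2)
    (hsq : ∀ x : G, x ^ 2 ∈ Φ) (u₀ : G) (hu₀ : u₀ ∈ Subgroup.center G) (hu₀2 : u₀ ^ 2 ≠ 1) :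
    ∑ u : G, (if u ∈ Subgroup.center G then chi (u ^ 2) else 0) = 0 := by
  apply sum_eq_zero_of_twist _ u₀
  intro u
  have hiff : u₀ * u ∈ Subgroup.center G ↔ u ∈ Subgroup.center G :=
    Subgroup.mul_mem_cancel_left _ hu₀
  by_cases hu : u ∈ Subgroup.center G
  · rw [if_pos (hiff.mpr hu), if_pos hu]
    have hc := Subgroup.mem_center_iff.mp hu₀ u
    have e : (u₀ * u) ^ 2 = u₀ ^ 2 * u ^ 2 := by
      rw [pow_two, pow_two, pow_two]
      calc u₀ * u * (u₀ * u) = u₀ * (u * u₀) * u := by group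
        _ = u₀ * (u₀ * u) * u := by rw [hc]
        _ = u₀ * u₀ * (u * u) := by group
    rw [e, chi_mul_of_card_two Φ hΦ _ _ (hsq _) (hsq _), chi_of_ne hu₀2]
    ring
  · rw [if_neg (fun h => hu (hiff.mp h)), if_neg hu]
    rfl

/-- A finite group of exponent two has trivial Frattini subgroup. -/
theorem frattini_eq_bot_of_sq [Finite G] (h : ∀ x : G, x ^ 2 = 1) : frattini G = ⊥ := by
  by_contra hne
  obtain ⟨⟨z, hz⟩, hz1⟩ := (Subgroup.ne_bot_iff_exists_ne_one).mp hne
  have hz1' : z ≠ 1 := fun h => hz1 (Subtype.ext h)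
  have hcomm : ∀ a b : G, a * b = b * a := by
    intro a b
    have h1 := h (a * b)
    have ha := h a
    have hb := h b
    rw [pow_two] at h1 ha hb
    calc a * b = a * (a * b * (a * b)) * b := by rw [h1, mul_one]
      _ = (a * a) * (b * a) * (b * b) := by group
      _ = b * a := by rw [ha, hb, one_mul, mul_one]
  obtain ⟨M, hM⟩ := Set.Finite.exists_maximal (s := {M : Subgroup G | z ∉ M})
    (Set.toFinite _) ⟨⊥, fun hmem => hz1' (Subgroup.mem_bot.mp hmem)⟩
  obtain ⟨hzM, hMmax⟩ := hM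
  have hMco : IsCoatom M := by
    refine ⟨fun htop => hzM (htop ▸ Subgroup.mem_top z), ?_⟩
    intro K hMK
    have hzK : z ∈ K := by
      by_contra hzK
      exact hMK.not_ge (hMmax hzK hMK.le)
    rw [eq_top_iff]
    intro x _
    by_cases hxM : x ∈ M
    · exact hMK.le hxM
    have hn : (Subgroup.zpowers x).Normal := by
      constructor
      intro n hn g
      rw [hcomm g n, mul_assoc, mul_inv_cancel, mul_one]
      exact hn
    have hlt : M < M ⊔ Subgroup.zpowers x := by
      apply lt_of_le_of_ne le_sup_left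
      intro heq
      apply hxM
      rw [heq]
      exact (le_sup_right : Subgroup.zpowers x ≤ _) (Subgroup.mem_zpowers x)
    have hzs : z ∈ M ⊔ Subgroup.zpowers x := by
      by_contra hzs
      exact hlt.not_ge (hMmax hzs hlt.le)
    obtain ⟨m, hm, w, hw, hmw⟩ := Subgroup.mem_sup_of_normal_right.mp hzs
    obtain ⟨k, hk⟩ := Subgroup.mem_zpowers_iff.mp hw
    have hw' : w = 1 ∨ w = x := by
      rcases Int.even_or_odd k with ⟨j, hj⟩ | ⟨j, hj⟩
      · left
        rw [← hk, hj, ← two_mul, zpow_mul, zpow_ofNat, h, one_zpow]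
      · right
        rw [← hk, hj, zpow_add, zpow_mul, zpow_ofNat, h, one_zpow, one_mul, zpow_one]
    rcases hw' with hw1 | hwx
    · exfalso
      apply hzM
      rw [← hmw, hw1, mul_one]
      exact hm
    · have : x = m⁻¹ * z := by
        rw [← hmw, hwx]
        group
      rw [this]
      exact K.mul_mem (K.inv_mem (hMK.le hm)) hzK
  exact hzM (frattini_le_coatom hMco hz)

theorem card_lt_of_ne_top [Finite G] {A : Subgroup G} (h : A ≠ ⊤) : Nat.card A < Nat.card G := by
  apply lt_of_le_of_ne (Subgroup.card_le_card_group A)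
  intro heq
  exact h (Subgroup.eq_top_of_card_eq A heq)

/-- The key identity on the character sum. -/
theorem key [Fintype G] (hG : IsPGroup 2 G) (hΦ : Nat.card (frattini G) = 2) (d : ℕ)
    (hd : (frattini G).index = 2 ^ d) :
    Nat.card G = 2 ^ (d + 1) ∧
    (∑ x : G, chi (x ^ 2) = 2 * (Nat.card {x : G // x ^ 2 = 1} : ℤ) - 2 ^ (d + 1)) ∧
    ((∑ x : G, chi (x ^ 2)) = 0 ∨
      ∃ z : ℕ, Nat.card (Subgroup.center G) = 2 ^ z ∧ 1 ≤ z ∧ z ≤ d ∧
        (∑ x : G, chi (x ^ 2)) * (∑ x : G, chi (x ^ 2)) = 2 ^ (d + 1 + z)) := by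
  have h2f : Fact (Nat.Prime 2) := ⟨Nat.prime_two⟩
  have hΦc : frattini G ≤ Subgroup.center G :=
    Cfsg.Agent.Helper19.normal_card_prime_le_center hG (frattini G) hΦ
  have hsq : ∀ x : G, x ^ 2 ∈ frattini G :=
    fun x => Cfsg.Agent.Helper21.pow_mem_frattini_of_isPGroup hG x
  have hcomm : ∀ x y : G, ⁅x, y⁆ ∈ frattini G := by
    intro x y
    rw [commutatorElement_def]
    exact Cfsg.Agent.Helper21.commutator_mem_frattini_of_isPGroup hG x y
  have hcardG : Nat.card G = 2 ^ (d + 1) := by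
    rw [← Subgroup.card_mul_index (frattini G), hΦ, hd, pow_succ]
    ring
  refine ⟨hcardG, ?_, ?_⟩
  · have h1 : ∀ x : G, chi (x ^ 2) = 2 * (if x ^ 2 = 1 then (1 : ℤ) else 0) - 1 := by
      intro x
      split_ifs with h
      · rw [chi_of_eq h]; norm_num
      · rw [chi_of_ne h]; norm_num
    rw [Finset.sum_congr rfl (fun x _ => h1 x), Finset.sum_sub_distrib, ← Finset.mul_sum,
      Finset.sum_boole, Finset.sum_const, Finset.card_univ, ← Nat.card_eq_fintype_card (α := G),
      hcardG, Nat.card_eq_fintype_card, Fintype.card_subtype]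
    simp
  · have hSS := sum_sq (frattini G) hΦ hΦc hsq hcomm
    by_cases hZ : ∀ u ∈ Subgroup.center G, u ^ 2 = 1
    · right
      rw [sum_center_of_sq hZ, ← Nat.card_eq_fintype_card, hcardG] at hSS
      obtain ⟨z, hz⟩ := IsPGroup.iff_card.mp (hG.to_subgroup (Subgroup.center G))
      refine ⟨z, hz, ?_, ?_, ?_⟩
      · have h1 := Subgroup.card_le_of_le hΦc
        rw [hΦ, hz] at h1
        by_contra hcon
        have : z = 0 := by omega
        rw [this] at h1
        norm_num at h1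
      · have hne : Subgroup.center G ≠ ⊤ := by
          intro htop
          have hall : ∀ x : G, x ^ 2 = 1 := fun x => hZ x (htop ▸ Subgroup.mem_top x)
          have := frattini_eq_bot_of_sq hall
          rw [this, Subgroup.card_bot] at hΦ
          norm_num at hΦ
        have h1 := card_lt_of_ne_top hne
        rw [hz, hcardG] at h1
        have := (Nat.pow_lt_pow_iff_right (by norm_num : 1 < 2)).mp h1
        omega
      · rw [hSS, hz, pow_add]
        push_cast
        ring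
    · left
      push Not at hZ
      obtain ⟨u₀, hu₀, hu₀2⟩ := hZ
      rw [sum_center_of_not_sq (frattini G) hΦ hsq u₀ hu₀ hu₀2, mul_zero] at hSS
      exact mul_self_eq_zero.mp hSS

/-- Integer square roots of powers of two. -/
theorem eq_pow_of_mul_self (S : ℤ) (e : ℕ) (h : S * S = 2 ^ e) :
    ∃ m : ℕ, m + m = e ∧ (S = 2 ^ m ∨ S = - 2 ^ m) := by
  have h1 : S.natAbs * S.natAbs = 2 ^ e := by
    have := congrArg Int.natAbs h
    rw [Int.natAbs_mul, Int.natAbs_pow] at this
    simpa using this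
  have h2 : S.natAbs ∣ 2 ^ e := ⟨S.natAbs, h1.symm⟩
  obtain ⟨m, -, hm⟩ := (Nat.dvd_prime_pow Nat.prime_two).mp h2
  refine ⟨m, ?_, ?_⟩
  · rw [hm, ← pow_add] at h1
    exact Nat.pow_right_injective (le_refl 2) h1
  · rcases Int.natAbs_eq S with h3 | h3
    · left
      rw [h3, hm]
      push_cast
      rfl
    · right
      rw [h3, hm]
      push_cast
      rfl

theorem result {G : Type*} [Group G] [Finite G] (hG : IsPGroup 2 G) (hΦ : Nat.card (frattini G) = 2) (d : ℕ) (hd : (frattini G).index = 2 ^ d) : (Nat.card {x : G // x ^ 2 = 1} = 2 ^ d ∨ ∃ r : ℕ, 1 ≤ r ∧ 2 * r ≤ d ∧ (Nat.card {x : G // x ^ 2 = 1} = 2 ^ d + 2 ^ (d - r) ∨ Nat.card {x : G // x ^ 2 = 1} + 2 ^ (d - r) = 2 ^ d)) ∧ (∀ r : ℕ, d = 2 * r → (Nat.card {x : G // x ^ 2 = 1} = 2 ^ d + 2 ^ r ∨ Nat.card {x : G // x ^ 2 = 1} + 2 ^ r = 2 ^ d) → Cfsg.IsExtraspecial 2 G) := by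
  have hfin : Fintype G := Fintype.ofFinite G
  obtain ⟨hcardG, hSj, hkey⟩ := key hG hΦ d hd
  obtain ⟨j, hj⟩ : ∃ j : ℕ, j = Nat.card {x : G // x ^ 2 = 1} := ⟨_, rfl⟩
  obtain ⟨S, hS⟩ : ∃ S : ℤ, S = ∑ x : G, chi (x ^ 2) := ⟨_, rfl⟩
  rw [← hj]
  rw [← hj, ← hS] at hSj
  rw [← hS] at hkey
  have hpd : (2 : ℤ) ^ (d + 1) = 2 * 2 ^ d := by rw [pow_succ]; ring
  constructor
  · rcases hkey with h0 | ⟨z, hz, hz1, hzd, hSS⟩
    · left
      rw [h0, hpd] at hSj
      have : (j : ℤ) = 2 ^ d := by linarith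
      exact_mod_cast this
    · right
      obtain ⟨m, hm, hSm⟩ := eq_pow_of_mul_self S _ hSS
      have hm1 : 1 ≤ m := by omega
      have hmd : m ≤ d := by omega
      refine ⟨d + 1 - m, by omega, by omega, ?_⟩
      have hdr : d - (d + 1 - m) = m - 1 := by omega
      rw [hdr]
      have hpm : (2 : ℤ) ^ m = 2 * 2 ^ (m - 1) := by
        obtain ⟨m', rfl⟩ : ∃ m', m = m' + 1 := ⟨m - 1, by omega⟩
        rw [pow_succ]
        simp
        ring
      rcases hSm with h | h
      · left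
        rw [h, hpd, hpm] at hSj
        have : (j : ℤ) = 2 ^ d + 2 ^ (m - 1) := by linarith
        exact_mod_cast this
      · right
        rw [h, hpd, hpm] at hSj
        have : (j : ℤ) + 2 ^ (m - 1) = 2 ^ d := by linarith
        exact_mod_cast this
  · intro r hdr hjr
    have h2f : Fact (Nat.Prime 2) := ⟨Nat.prime_two⟩
    have hSr : S = 2 * 2 ^ r ∨ S = - (2 * 2 ^ r) := by
      rcases hjr with h | h
      · left
        have : (j : ℤ) = 2 ^ d + 2 ^ r := by exact_mod_cast h
        rw [hSj, hpd, this]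
        ring
      · right
        have : (j : ℤ) + 2 ^ r = 2 ^ d := by exact_mod_cast h
        rw [hSj, hpd, ← this]
        ring
    have hSS' : S * S = 2 ^ (d + 2) := by
      have e : (2 : ℤ) ^ (d + 2) = (2 * 2 ^ r) * (2 * 2 ^ r) := by
        rw [hdr]
        ring
      rcases hSr with h | h
      · rw [h, e]
      · rw [h, e]
        ring
    have hS0 : S ≠ 0 := by
      intro h0
      rw [h0, mul_zero] at hSS'
      have : (0 : ℤ) < 2 ^ (d + 2) := by positivity
      omega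
    rcases hkey with h0 | ⟨z, hz, hz1, hzd, hSS⟩
    · exact absurd h0 hS0
    · have hz1' : z = 1 := by
        rw [hSS] at hSS'
        have := Int.pow_right_injective (le_refl 2) hSS'
        omega
      rw [hz1', pow_one] at hz
      have hΦc : frattini G ≤ Subgroup.center G :=
        Cfsg.Agent.Helper19.normal_card_prime_le_center hG (frattini G) hΦ
      have hΦZ : frattini G = Subgroup.center G :=
        Subgroup.eq_of_le_of_card_ge hΦc (by rw [hz, hΦ])
      have hcomle : commutator G ≤ frattini G := by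
        rw [commutator_eq_closure, Subgroup.closure_le]
        rintro g ⟨g₁, g₂, rfl⟩
        rw [commutatorElement_def]
        exact Cfsg.Agent.Helper21.commutator_mem_frattini_of_isPGroup hG g₁ g₂
      have hcomne : commutator G ≠ ⊥ := by
        intro hbot
        have hZtop : Subgroup.center G = ⊤ := by
          rw [eq_top_iff]
          intro x _
          rw [Subgroup.mem_center_iff]
          intro y
          have h1 : ⁅y, x⁆ ∈ commutator G :=
            Subgroup.commutator_mem_commutator (Subgroup.mem_top y) (Subgroup.mem_top x)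
          rw [hbot, Subgroup.mem_bot, commutatorElement_eq_one_iff_commute] at h1
          exact h1.eq
        rw [hZtop, Subgroup.card_top, hcardG] at hz
        have : 1 ≤ d := by omega
        have h4 : 2 ^ 2 ≤ 2 ^ (d + 1) := Nat.pow_le_pow_right (by norm_num) (by omega)
        omega
      have hcomΦ : commutator G = frattini G := by
        apply Subgroup.eq_of_le_of_card_ge hcomle
        rw [hΦ]
        have h1 : Nat.card (commutator G) ≠ 1 := fun h => hcomne (Subgroup.card_eq_one.mp h)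
        have h2 : 0 < Nat.card (commutator G) := Nat.card_pos
        omega
      exact ⟨⟨hG, hΦZ, hcomΦ.trans hΦZ⟩, hz⟩

end Cfsg.Agent.S3772
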