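import Mathlib
import Cfsg.Statements.S3773
import Cfsg.Agent.Lib.Helper21.PGroupFrattini
import Cfsg.Agent.Lib.Helper1.QuotientCard
import Cfsg.Agent.Lib.Helper20.AbelianNoncyclic
import Cfsg.Agent.S3772

set_option autoImplicit false
open Cfsg

namespace Cfsg.Agent.S3773

open scoped commutatorElement

/-! ### Polynomial functions over `ZMod 2` -/

section Poly

variable {σ : Type*}

/-- `F` is given by a polynomial of total degree at most `d`. -/
def IsPolyDeg (d : ℕ) (F : (σ → ZMod 2) → ZMod 2) : Prop :=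
  ∃ P : MvPolynomial σ (ZMod 2), P.totalDegree ≤ d ∧ ∀ v, MvPolynomial.eval v P = F v

theorem IsPolyDeg.mono {d d' : ℕ} {F : (σ → ZMod 2) → ZMod 2} (h : IsPolyDeg d F)
    (hd : d ≤ d') : IsPolyDeg d' F := by
  obtain ⟨P, hP, hev⟩ := h
  exact ⟨P, hP.trans hd, hev⟩

theorem isPolyDeg_const (c : ZMod 2) (d : ℕ) : IsPolyDeg d (fun _ : σ → ZMod 2 => c) :=
  ⟨MvPolynomial.C c, by rw [MvPolynomial.totalDegree_C]; exact Nat.zero_le d, fun v => by simp⟩

theorem isPolyDeg_coord (i : σ) : IsPolyDeg 1 (fun v : σ → ZMod 2 => v i) :=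
  ⟨MvPolynomial.X i, by rw [MvPolynomial.totalDegree_X], fun v => by simp⟩

theorem IsPolyDeg.add {d : ℕ} {F F' : (σ → ZMod 2) → ZMod 2} (h : IsPolyDeg d F)
    (h' : IsPolyDeg d F') : IsPolyDeg d (fun v => F v + F' v) := by
  obtain ⟨P, hP, hev⟩ := h
  obtain ⟨P', hP', hev'⟩ := h'
  refine ⟨P + P', (MvPolynomial.totalDegree_add P P').trans (max_le hP hP'), fun v => ?_⟩
  rw [map_add, hev, hev']

theorem IsPolyDeg.mul {d d' : ℕ} {F F' : (σ → ZMod 2) → ZMod 2} (h : IsPolyDeg d F)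
    (h' : IsPolyDeg d' F') : IsPolyDeg (d + d') (fun v => F v * F' v) := by
  obtain ⟨P, hP, hev⟩ := h
  obtain ⟨P', hP', hev'⟩ := h'
  refine ⟨P * P', (MvPolynomial.totalDegree_mul P P').trans (Nat.add_le_add hP hP'), fun v => ?_⟩
  rw [map_mul, hev, hev']

theorem IsPolyDeg.succ {b d : ℕ} {F : ((Fin b) → ZMod 2) → ZMod 2} (h : IsPolyDeg d F) :
    IsPolyDeg d (fun v : Fin (b + 1) → ZMod 2 => F (fun i => v i.succ)) := by
  obtain ⟨P, hP, hev⟩ := h
  refine ⟨MvPolynomial.rename Fin.succ P, (MvPolynomial.totalDegree_rename_le _ _).trans hP,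
    fun v => ?_⟩
  rw [MvPolynomial.eval_rename]
  exact hev _

end Poly

/-! ### The group-theoretic setting -/

variable {G : Type*} [Group G]

/-- Class at most two, exponent dividing four, and the involutions form a subgroup. -/
structure Setting (G : Type*) [Group G] : Prop where
  central : ∀ x y z : G, ⁅x, y⁆ * z = z * ⁅x, y⁆
  exp4 : ∀ x : G, x ^ 4 = 1
  invol : ∀ x y : G, x ^ 2 = 1 → y ^ 2 = 1 → (x * y) ^ 2 = 1

/-- The subgroup of elements of order dividing two. -/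
def Setting.N (h : Setting G) : Subgroup G where
  carrier := {x | x ^ 2 = 1}
  one_mem' := one_pow 2
  mul_mem' := fun hx hy => h.invol _ _ hx hy
  inv_mem' := fun {x} hx => by
    show x⁻¹ ^ 2 = 1
    rw [inv_pow, show x ^ 2 = 1 from hx, inv_one]

theorem Setting.mem_N (h : Setting G) (x : G) : x ∈ h.N ↔ x ^ 2 = 1 := Iff.rfl

theorem Setting.sq_mem (h : Setting G) (x : G) : x ^ 2 ∈ h.N := by
  rw [h.mem_N, ← pow_mul]
  exact h.exp4 x

/-- The squaring identity. -/
theorem mul_sq_eq (z y : G) : (z * y) ^ 2 = z ^ 2 * ⁅z⁻¹, y⁆ * y ^ 2 := by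
  rw [commutatorElement_def, pow_two, pow_two, pow_two]
  group

theorem Setting.comm_mem (h : Setting G) (x y : G) : ⁅x, y⁆ ∈ h.N := by
  have h1 := mul_sq_eq x⁻¹ y
  rw [inv_inv] at h1
  have h2 : ⁅x, y⁆ = ((x⁻¹) ^ 2)⁻¹ * (x⁻¹ * y) ^ 2 * (y ^ 2)⁻¹ := by
    rw [h1]
    group
  rw [h2]
  exact h.N.mul_mem (h.N.mul_mem (h.N.inv_mem (h.sq_mem _)) (h.sq_mem _))
    (h.N.inv_mem (h.sq_mem _))

theorem Setting.comm_mul_right (h : Setting G) (t y z : G) : ⁅t, y * z⁆ = ⁅t, y⁆ * ⁅t, z⁆ := by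
  have hc := h.central t z y
  have e : ⁅t, y * z⁆ = ⁅t, y⁆ * (y * ⁅t, z⁆) * y⁻¹ := by
    simp only [commutatorElement_def]
    group
  rw [e, ← hc]
  group

theorem Setting.comm_mul_left (h : Setting G) (y z t : G) : ⁅y * z, t⁆ = ⁅y, t⁆ * ⁅z, t⁆ := by
  have hc := h.central z t y
  have hc2 := h.central y t ⁅z, t⁆
  calc ⁅y * z, t⁆ = (y * ⁅z, t⁆) * y⁻¹ * ⁅y, t⁆ := by
        simp only [commutatorElement_def]
        group
    _ = (⁅z, t⁆ * y) * y⁻¹ * ⁅y, t⁆ := by rw [hc]
    _ = ⁅z, t⁆ * ⁅y, t⁆ := by group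
    _ = ⁅y, t⁆ * ⁅z, t⁆ := hc2.symm

theorem Setting.N_comm (h : Setting G) (x y : G) (hx : x ∈ h.N) (hy : y ∈ h.N) :
    x * y = y * x := by
  have h1 : (x * y) ^ 2 = 1 := h.invol x y hx hy
  rw [h.mem_N, pow_two] at hx hy
  rw [pow_two] at h1
  have hx' : x⁻¹ = x := inv_eq_of_mul_eq_one_left hx
  have hy' : y⁻¹ = y := inv_eq_of_mul_eq_one_left hy
  have h2 : (x * y)⁻¹ = x * y := inv_eq_of_mul_eq_one_left h1
  calc x * y = (x * y)⁻¹ := h2.symm
    _ = y⁻¹ * x⁻¹ := mul_inv_rev x y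
    _ = y * x := by rw [hx', hy']

/-! ### Functionals and the product map -/

/-- `lam` is additive on the involutions. -/
def IsAdd (h : Setting G) (lam : G → ZMod 2) : Prop :=
  ∀ y z, y ∈ h.N → z ∈ h.N → lam (y * z) = lam y + lam z

theorem zmod2_cases (ε : ZMod 2) : ε = 0 ∨ ε = 1 := by
  fin_cases ε
  · left; rfl
  · right; rfl

theorem zmod2_add_self (a : ZMod 2) : a + a = 0 := by
  rcases zmod2_cases a with rfl | rfl
  · simp
  · rfl

theorem IsAdd.map_one {h : Setting G} {lam : G → ZMod 2} (hl : IsAdd h lam) : lam 1 = 0 := by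
  have h1 := hl 1 1 h.N.one_mem h.N.one_mem
  rw [mul_one] at h1
  have h2 := zmod2_add_self (lam 1)
  rw [← h1] at h2
  exact h2

theorem pow_val_zero (x : G) : x ^ (0 : ZMod 2).val = 1 := by
  rw [ZMod.val_zero, pow_zero]

theorem pow_val_one (x : G) : x ^ (1 : ZMod 2).val = x := by
  have : (1 : ZMod 2).val = 1 := rfl
  rw [this, pow_one]

/-- The ordered product `x₀^{v₀} x₁^{v₁} ⋯`. -/
def gprod {b : ℕ} (x : Fin b → G) (v : Fin b → ZMod 2) : G :=
  (List.ofFn (fun i => x i ^ (v i).val)).prod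

theorem gprod_zero (x : Fin 0 → G) (v : Fin 0 → ZMod 2) : gprod x v = 1 := by
  unfold gprod
  simp

theorem gprod_succ {b : ℕ} (x : Fin (b + 1) → G) (v : Fin (b + 1) → ZMod 2) :
    gprod x v = x 0 ^ (v 0).val * gprod (fun i => x i.succ) (fun i => v i.succ) := by
  unfold gprod
  rw [List.ofFn_succ, List.prod_cons]

theorem gprod_zero_vec {b : ℕ} (x : Fin b → G) : gprod x (fun _ => 0) = 1 := by
  induction b with
  | zero => exact gprod_zero x _
  | succ b ih =>
    rw [gprod_succ, pow_val_zero, one_mul]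
    exact ih _

theorem poly_claim (h : Setting G) (lam : G → ZMod 2) (hl : IsAdd h lam) :
    ∀ (b : ℕ) (x : Fin b → G),
      IsPolyDeg 2 (fun v => lam ((gprod x v) ^ 2)) ∧
      (∀ t : G, IsPolyDeg 1 (fun v => lam ⁅t, gprod x v⁆)) ∧
      ((∀ s t : G, lam ⁅s, t⁆ = 0) → IsPolyDeg 1 (fun v => lam ((gprod x v) ^ 2))) := by
  intro b
  induction b with
  | zero =>
    intro x
    refine ⟨?_, ?_, ?_⟩
    · have : (fun v => lam ((gprod x v) ^ 2)) = fun _ => (0 : ZMod 2) := by
        funext v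
        rw [gprod_zero, one_pow, hl.map_one]
      rw [this]
      exact isPolyDeg_const 0 2
    · intro t
      have : (fun v => lam ⁅t, gprod x v⁆) = fun _ => (0 : ZMod 2) := by
        funext v
        rw [gprod_zero, commutatorElement_one_right, hl.map_one]
      rw [this]
      exact isPolyDeg_const 0 1
    · intro _
      have : (fun v => lam ((gprod x v) ^ 2)) = fun _ => (0 : ZMod 2) := by
        funext v
        rw [gprod_zero, one_pow, hl.map_one]
      rw [this]
      exact isPolyDeg_const 0 1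
  | succ b ih =>
    intro x
    obtain ⟨ih1, ih2, ih3⟩ := ih (fun i => x i.succ)
    -- auxiliary evaluations
    have hpowc : ∀ (ε : ZMod 2) (t : G), lam ⁅t, x 0 ^ ε.val⁆ = ε * lam ⁅t, x 0⁆ := by
      intro ε t
      rcases zmod2_cases ε with rfl | rfl
      · rw [pow_val_zero, commutatorElement_one_right, hl.map_one, zero_mul]
      · rw [pow_val_one, one_mul]
    have hpows : ∀ ε : ZMod 2, lam ((x 0 ^ ε.val) ^ 2) = ε * lam (x 0 ^ 2) := by
      intro ε
      rcases zmod2_cases ε with rfl | rfl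
      · rw [pow_val_zero, one_pow, hl.map_one, zero_mul]
      · rw [pow_val_one, one_mul]
    have hpowi : ∀ (ε : ZMod 2) (y : G), lam ⁅(x 0 ^ ε.val)⁻¹, y⁆ = ε * lam ⁅(x 0)⁻¹, y⁆ := by
      intro ε y
      rcases zmod2_cases ε with rfl | rfl
      · rw [pow_val_zero, inv_one, commutatorElement_one_left, hl.map_one, zero_mul]
      · rw [pow_val_one, one_mul]
    have hsq : ∀ v : Fin (b + 1) → ZMod 2, lam ((gprod x v) ^ 2) =
        v 0 * lam (x 0 ^ 2) +
          v 0 * lam ⁅(x 0)⁻¹, gprod (fun i => x i.succ) (fun i => v i.succ)⁆ +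
          lam ((gprod (fun i => x i.succ) (fun i => v i.succ)) ^ 2) := by
      intro v
      rw [gprod_succ, mul_sq_eq, hl _ _ (h.N.mul_mem (h.sq_mem _) (h.comm_mem _ _)) (h.sq_mem _),
        hl _ _ (h.sq_mem _) (h.comm_mem _ _), hpows, hpowi]
    refine ⟨?_, ?_, ?_⟩
    · rw [funext hsq]
      apply IsPolyDeg.add
      · apply IsPolyDeg.add
        · exact ((isPolyDeg_coord (0 : Fin (b + 1))).mul (isPolyDeg_const _ 0)).mono (by norm_num)
        · exact (isPolyDeg_coord (0 : Fin (b + 1))).mul (ih2 (x 0)⁻¹).succ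
      · exact ih1.succ
    · intro t
      have : (fun v : Fin (b + 1) → ZMod 2 => lam ⁅t, gprod x v⁆) =
          fun v => v 0 * lam ⁅t, x 0⁆ +
            lam ⁅t, gprod (fun i => x i.succ) (fun i => v i.succ)⁆ := by
        funext v
        rw [gprod_succ, h.comm_mul_right, hl _ _ (h.comm_mem _ _) (h.comm_mem _ _), hpowc]
      rw [this]
      apply IsPolyDeg.add
      · exact (isPolyDeg_coord (0 : Fin (b + 1))).mul (isPolyDeg_const _ 0)
      · exact (ih2 t).succ
    · intro hkill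
      have : (fun v : Fin (b + 1) → ZMod 2 => lam ((gprod x v) ^ 2)) =
          fun v => v 0 * lam (x 0 ^ 2) +
            lam ((gprod (fun i => x i.succ) (fun i => v i.succ)) ^ 2) := by
        funext v
        rw [hsq, hkill, mul_zero, add_zero]
      rw [this]
      apply IsPolyDeg.add
      · exact (isPolyDeg_coord (0 : Fin (b + 1))).mul (isPolyDeg_const _ 0)
      · exact (ih3 hkill).succ

/-- The Chevalley–Warning step: a system of few functionals has a nonzero solution. -/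
theorem exists_nonzero_solution (h : Setting G) {b m : ℕ} (x : Fin b → G)
    (Λ : Fin m → (G → ZMod 2)) (hΛ : ∀ k, IsAdd h (Λ k)) (d : Fin m → ℕ)
    (hd : ∀ k, d k = 2 ∨ (d k = 1 ∧ ∀ s t : G, Λ k ⁅s, t⁆ = 0))
    (hsum : ∑ k, d k < b) :
    ∃ v : Fin b → ZMod 2, v ≠ 0 ∧ ∀ k, Λ k ((gprod x v) ^ 2) = 0 := by
  classical
  have hpoly : ∀ k, IsPolyDeg (d k) (fun v => Λ k ((gprod x v) ^ 2)) := by
    intro k
    obtain ⟨h1, -, h3⟩ := poly_claim h (Λ k) (hΛ k) b x
    rcases hd k with hk | ⟨hk, hkill⟩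
    · rw [hk]; exact h1
    · rw [hk]; exact h3 hkill
  choose f hfdeg hfev0 using hpoly
  have hfev : ∀ k v, MvPolynomial.eval v (f k) = Λ k ((gprod x v) ^ 2) := fun k v => hfev0 k v
  have hlt : ∑ k, (f k).totalDegree < Fintype.card (Fin b) := by
    rw [Fintype.card_fin]
    exact lt_of_le_of_lt (Finset.sum_le_sum (fun k _ => hfdeg k)) hsum
  have hcw := char_dvd_card_solutions_of_fintype_sum_lt 2 hlt
  rw [Fintype.card_eq_nat_card] at hcw
  by_contra hno
  push Not at hno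
  have hzero : ∀ k, MvPolynomial.eval (0 : Fin b → ZMod 2) (f k) = 0 := by
    intro k
    rw [hfev]
    have : gprod x (0 : Fin b → ZMod 2) = 1 := gprod_zero_vec x
    rw [this, one_pow, (hΛ k).map_one]
  have hcard : Nat.card {v : Fin b → ZMod 2 // ∀ k, MvPolynomial.eval v (f k) = 0} = 1 := by
    rw [Nat.card_eq_one_iff_unique]
    refine ⟨⟨?_⟩, ⟨⟨0, hzero⟩⟩⟩
    have key : ∀ w : {v : Fin b → ZMod 2 // ∀ k, MvPolynomial.eval v (f k) = 0},
        w = ⟨0, hzero⟩ := by
      rintro ⟨v, hv⟩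
      apply Subtype.ext
      show v = 0
      by_contra hv0
      obtain ⟨k, hk⟩ := hno v hv0
      apply hk
      rw [← hfev]
      exact hv k
    intro w₁ w₂
    rw [key w₁, key w₂]
  rw [hcard] at hcw
  norm_num at hcw

/-! ### Independent sequences modulo a subgroup -/

theorem Setting.normal_of_le (h : Setting G) (H₀ : Subgroup G) (hN : h.N ≤ H₀) : H₀.Normal := by
  constructor
  intro n hn g
  have e : g * n * g⁻¹ = ⁅g, n⁆ * n := by
    rw [commutatorElement_def]; group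
  rw [e]
  exact H₀.mul_mem (hN (h.comm_mem g n)) hn

/-- Adjoining an element outside `H₀`. -/
theorem exists_adjoin [Finite G] (h : Setting G) (H₀ : Subgroup G) (hN : h.N ≤ H₀) (t : G)
    (ht : t ∉ H₀) : ∃ H₁ : Subgroup G, H₀ ≤ H₁ ∧ t ∈ H₁ ∧ Nat.card H₁ = Nat.card H₀ * 2 ∧
      ∀ g ∈ H₁, g ∈ H₀ ∨ t⁻¹ * g ∈ H₀ := by
  have hn : H₀.Normal := h.normal_of_le H₀ hN
  have hord : orderOf (QuotientGroup.mk t : G ⧸ H₀) = 2 := by
    apply orderOf_eq_prime
    · rw [← QuotientGroup.mk_pow, QuotientGroup.eq_one_iff]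
      exact hN (h.sq_mem t)
    · rw [Ne, QuotientGroup.eq_one_iff]
      exact ht
  refine ⟨(Subgroup.zpowers (QuotientGroup.mk t : G ⧸ H₀)).comap (QuotientGroup.mk' H₀),
    ?_, ?_, ?_, ?_⟩
  · intro g hg
    rw [Subgroup.mem_comap, QuotientGroup.mk'_apply, (QuotientGroup.eq_one_iff g).mpr hg]
    exact Subgroup.one_mem _
  · rw [Subgroup.mem_comap]
    exact Subgroup.mem_zpowers _
  · rw [Cfsg.Agent.Helper1.card_comap_mk', Nat.card_zpowers, hord]
  · intro g hg
    rw [Subgroup.mem_comap, QuotientGroup.mk'_apply] at hg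
    obtain ⟨k, hk⟩ := Subgroup.mem_zpowers_iff.mp hg
    have hsq : (QuotientGroup.mk t : G ⧸ H₀) ^ (2 : ℤ) = 1 := by
      rw [zpow_ofNat, ← hord]
      exact pow_orderOf_eq_one _
    rcases Int.even_or_odd k with ⟨j, hj⟩ | ⟨j, hj⟩
    · left
      rw [← QuotientGroup.eq_one_iff, ← hk, hj, ← two_mul, zpow_mul, hsq, one_zpow]
    · right
      rw [← QuotientGroup.eq_one_iff, QuotientGroup.mk_mul, QuotientGroup.mk_inv, ← hk, hj,
        zpow_add, zpow_mul, hsq, one_zpow, one_mul, zpow_one, inv_mul_cancel]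

theorem exists_independent [Finite G] (h : Setting G) :
    ∀ (b : ℕ) (H₀ : Subgroup G), h.N ≤ H₀ → Nat.card H₀ * 2 ^ b = Nat.card G →
      ∃ x : Fin b → G, ∀ v : Fin b → ZMod 2, gprod x v ∈ H₀ → v = 0 := by
  intro b
  induction b with
  | zero =>
    intro H₀ _ _
    exact ⟨Fin.elim0, fun v _ => Subsingleton.elim _ _⟩
  | succ b ih =>
    intro H₀ hN hcard
    have hne : H₀ ≠ ⊤ := by
      intro htop
      rw [htop, Subgroup.card_top] at hcard
      have h1 : 0 < Nat.card G := Nat.card_pos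
      have h2 : 2 ≤ 2 ^ (b + 1) := by
        calc 2 = 2 ^ 1 := by norm_num
          _ ≤ 2 ^ (b + 1) := Nat.pow_le_pow_right (by norm_num) (by omega)
      nlinarith
    obtain ⟨t, ht⟩ : ∃ t : G, t ∉ H₀ := by
      by_contra hcon
      push Not at hcon
      exact hne (eq_top_iff.mpr fun x _ => hcon x)
    obtain ⟨H₁, hH₀₁, htH₁, hcard₁, hmem₁⟩ := exists_adjoin h H₀ hN t ht
    have hcard' : Nat.card H₁ * 2 ^ b = Nat.card G := by
      rw [hcard₁, ← hcard, pow_succ]
      ring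
    obtain ⟨x', hx'⟩ := ih H₁ (hN.trans hH₀₁) hcard'
    refine ⟨Fin.cons t x', ?_⟩
    intro v hv
    rw [gprod_succ] at hv
    simp only [Fin.cons_zero, Fin.cons_succ] at hv
    have h1 : gprod x' (fun i => v i.succ) ∈ H₁ := by
      have e : gprod x' (fun i => v i.succ) =
          (t ^ (v 0).val)⁻¹ * (t ^ (v 0).val * gprod x' (fun i => v i.succ)) := by group
      rw [e]
      exact H₁.mul_mem (H₁.inv_mem (H₁.pow_mem htH₁ _)) (hH₀₁ hv)
    have h2 := hx' _ h1
    have h3 : gprod x' (fun i => v i.succ) = 1 := by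
      rw [h2]
      exact gprod_zero_vec x'
    rw [h3, mul_one] at hv
    have h4 : v 0 = 0 := by
      rcases zmod2_cases (v 0) with h0 | h0
      · exact h0
      · exfalso
        rw [h0, pow_val_one] at hv
        exact ht hv
    funext i
    refine Fin.cases ?_ (fun j => ?_) i
    · exact h4
    · exact congrFun h2 j

/-! ### Functionals separating points -/

theorem exists_functional (h : Setting G) (T : Subgroup G) (hT : T ≤ h.N) (y : G) (hy : y ∈ h.N)
    (hyT : y ∉ T) :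
    ∃ lam : G → ZMod 2, IsAdd h lam ∧ (∀ t ∈ T, lam t = 0) ∧ lam y = 1 := by
  classical
  let inst : CommGroup ↥h.N :=
    { (inferInstance : Group ↥h.N) with
      mul_comm := fun a b => Subtype.ext (h.N_comm a b a.2 b.2) }
  have hV : ∀ x : Additive (↥h.N ⧸ T.subgroupOf h.N), 2 • x = 0 := by
    intro x
    obtain ⟨n, hn⟩ := QuotientGroup.mk_surjective (Additive.toMul x)
    have hx : x = Additive.ofMul (QuotientGroup.mk n) := by
      rw [hn]; rfl
    rw [hx, ← ofMul_pow, ← QuotientGroup.mk_pow]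
    have : n ^ 2 = 1 := Subtype.ext ((h.mem_N n).mp n.2)
    rw [this]
    rfl
  have hne : (Additive.ofMul (QuotientGroup.mk (⟨y, hy⟩ : ↥h.N)) :
      Additive (↥h.N ⧸ T.subgroupOf h.N)) ≠ 0 := by
    intro h0
    apply hyT
    have h1 : (QuotientGroup.mk (⟨y, hy⟩ : ↥h.N) : ↥h.N ⧸ T.subgroupOf h.N) = 1 := h0
    rw [QuotientGroup.eq_one_iff, Subgroup.mem_subgroupOf] at h1
    exact h1
  obtain ⟨φ, hφ⟩ := Cfsg.Agent.Helper20.exists_addHom_zmod_ne_zero 2 hV _ hne
  refine ⟨fun g => if hg : g ∈ h.N then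
    φ (Additive.ofMul (QuotientGroup.mk (⟨g, hg⟩ : ↥h.N))) else 0, ?_, ?_, ?_⟩
  · intro a b ha hb
    simp only [dif_pos ha, dif_pos hb, dif_pos (h.N.mul_mem ha hb)]
    rw [← map_add]
    rfl
  · intro t ht
    simp only [dif_pos (hT ht)]
    have h1 : (QuotientGroup.mk (⟨t, hT ht⟩ : ↥h.N) : ↥h.N ⧸ T.subgroupOf h.N) = 1 := by
      rw [QuotientGroup.eq_one_iff, Subgroup.mem_subgroupOf]
      exact ht
    rw [h1]
    exact map_zero φ
  · simp only [dif_pos hy]
    rcases zmod2_cases (φ (Additive.ofMul (QuotientGroup.mk (⟨y, hy⟩ : ↥h.N)))) with h0 | h1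
    · exact absurd h0 hφ
    · exact h1

/-- The kernel of a functional inside a subgroup of involutions. -/
def kerIn (h : Setting G) (L : Subgroup G) (hL : L ≤ h.N) (lam : G → ZMod 2)
    (hl : IsAdd h lam) : Subgroup G where
  carrier := {x | x ∈ L ∧ lam x = 0}
  one_mem' := ⟨L.one_mem, hl.map_one⟩
  mul_mem' := by
    rintro a b ⟨ha, ha0⟩ ⟨hb, hb0⟩
    exact ⟨L.mul_mem ha hb, by rw [hl a b (hL ha) (hL hb), ha0, hb0, add_zero]⟩
  inv_mem' := by
    rintro a ⟨ha, ha0⟩
    refine ⟨L.inv_mem ha, ?_⟩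
    have h1 := hl a a⁻¹ (hL ha) (hL (L.inv_mem ha))
    rw [mul_inv_cancel, hl.map_one, ha0, zero_add] at h1
    exact h1.symm

theorem mem_kerIn (h : Setting G) (L : Subgroup G) (hL : L ≤ h.N) (lam : G → ZMod 2)
    (hl : IsAdd h lam) (x : G) : x ∈ kerIn h L hL lam hl ↔ x ∈ L ∧ lam x = 0 := Iff.rfl

theorem card_kerIn [Finite G] (h : Setting G) (L : Subgroup G) (hL : L ≤ h.N) (lam : G → ZMod 2)
    (hl : IsAdd h lam) (y : G) (hy : y ∈ L) (hy1 : lam y = 1) :
    Nat.card (kerIn h L hL lam hl) * 2 = Nat.card L := by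
  obtain ⟨ψ, hψ⟩ : ∃ ψ : ↥L →* Multiplicative (ZMod 2),
      ∀ x : ↥L, ψ x = Multiplicative.ofAdd (lam (x : G)) :=
    ⟨{ toFun := fun x => Multiplicative.ofAdd (lam (x : G))
       map_one' := by
        show Multiplicative.ofAdd (lam ((1 : ↥L) : G)) = 1
        rw [Subgroup.coe_one, hl.map_one]
        rfl
       map_mul' := by
        intro a b
        show Multiplicative.ofAdd (lam ((a * b : ↥L) : G)) = _
        rw [Subgroup.coe_mul, hl _ _ (hL a.2) (hL b.2)]
        rfl }, fun x => rfl⟩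
  have hker : ψ.ker = (kerIn h L hL lam hl).subgroupOf L := by
    ext x
    rw [MonoidHom.mem_ker, hψ, Subgroup.mem_subgroupOf, mem_kerIn]
    constructor
    · intro hx
      exact ⟨x.2, Multiplicative.ofAdd.injective hx⟩
    · intro hx
      rw [hx.2]
      rfl
  have hsurj : Function.Surjective ψ := by
    intro z
    rcases zmod2_cases (Multiplicative.toAdd z) with h0 | h1
    · exact ⟨1, by rw [map_one]; exact (Multiplicative.toAdd.injective h0).symm⟩
    · refine ⟨⟨y, hy⟩, ?_⟩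
      rw [hψ]
      show Multiplicative.ofAdd (lam y) = z
      rw [hy1, ← h1]
      rfl
  have hidx : ψ.ker.index = 2 := by
    rw [Subgroup.index_ker, MonoidHom.range_eq_top.mpr hsurj, Subgroup.card_top]
    rw [Nat.card_eq_fintype_card]
    rfl
  have hle : kerIn h L hL lam hl ≤ L := fun x hx => hx.1
  have h1 := Subgroup.card_mul_index ψ.ker
  rw [hidx, hker, Nat.card_congr (Subgroup.subgroupOfEquivOfLe hle).toEquiv] at h1
  exact h1

theorem exists_cutdown [Finite G] (h : Setting G) :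
    ∀ (m : ℕ) (L T : Subgroup G), T ≤ L → L ≤ h.N → Nat.card L = 2 ^ m * Nat.card T →
      ∃ Λ : Fin m → (G → ZMod 2), (∀ k, IsAdd h (Λ k)) ∧ (∀ k, ∀ t ∈ T, Λ k t = 0) ∧
        ∀ x ∈ L, (∀ k, Λ k x = 0) → x ∈ T := by
  intro m
  induction m with
  | zero =>
    intro L T hTL _ hcard
    rw [pow_zero, one_mul] at hcard
    have hLT : T = L := Subgroup.eq_of_le_of_card_ge hTL (le_of_eq hcard)
    exact ⟨Fin.elim0, fun k => Fin.elim0 k, fun k => Fin.elim0 k, fun x hx _ => hLT ▸ hx⟩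
  | succ m ih =>
    intro L T hTL hLN hcard
    obtain ⟨y, hyL, hyT⟩ : ∃ y ∈ L, y ∉ T := by
      by_contra hcon
      push Not at hcon
      have hLT : L = T := le_antisymm hcon hTL
      rw [hLT] at hcard
      have hpos : 0 < Nat.card T := Nat.card_pos
      have h2 : 2 ≤ 2 ^ (m + 1) := by
        calc 2 = 2 ^ 1 := by norm_num
          _ ≤ 2 ^ (m + 1) := Nat.pow_le_pow_right (by norm_num) (by omega)
      nlinarith
    obtain ⟨lam, hl, hlT, hly⟩ := exists_functional h T (hTL.trans hLN) y (hLN hyL) hyT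
    have hc := card_kerIn h L hLN lam hl y hyL hly
    have hTL' : T ≤ kerIn h L hLN lam hl := fun t ht => ⟨hTL ht, hlT t ht⟩
    have hL'N : kerIn h L hLN lam hl ≤ h.N := fun x hx => hLN hx.1
    have hcard' : Nat.card (kerIn h L hLN lam hl) = 2 ^ m * Nat.card T := by
      rw [hcard, pow_succ] at hc
      nlinarith
    obtain ⟨Λ', hΛ'add, hΛ'T, hΛ'⟩ := ih _ T hTL' hL'N hcard'
    refine ⟨Fin.cons lam Λ', ?_, ?_, ?_⟩
    · intro k
      refine Fin.cases ?_ (fun j => ?_) k
      · simpa using hl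
      · simpa using hΛ'add j
    · intro k
      refine Fin.cases ?_ (fun j => ?_) k
      · simpa using hlT
      · simpa using hΛ'T j
    · intro x hx hall
      apply hΛ' x
      · refine ⟨hx, ?_⟩
        have := hall 0
        simpa using this
      · intro j
        have := hall j.succ
        simpa using this

/-! ### The main argument -/

theorem Setting.sq_eq_one_mem (h : Setting G) (u : G) (hu : u ^ 2 = 1) : u ∈ h.N := hu

/-- The bound `|G : N| ≤ |N|²`. -/
theorem index_le [Finite G] (h : Setting G) (n a : ℕ) (hn : Nat.card h.N = 2 ^ n)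
    (hg : Nat.card G = 2 ^ (n + a)) : a ≤ 2 * n := by
  by_contra hlt
  push Not at hlt
  obtain ⟨x, hx⟩ := exists_independent h a h.N le_rfl (by rw [hn, hg, pow_add])
  obtain ⟨Λ, hΛadd, -, hΛ⟩ := exists_cutdown h n h.N ⊥ bot_le le_rfl
    (by rw [hn, Subgroup.card_bot, mul_one])
  obtain ⟨v, hv0, hv⟩ := exists_nonzero_solution h x Λ hΛadd (fun _ => 2)
    (fun _ => Or.inl rfl) (by
      rw [Finset.sum_const, Finset.card_univ, Fintype.card_fin, smul_eq_mul]
      omega)
  apply hv0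
  apply hx
  have h1 := hΛ _ (h.sq_mem (gprod x v)) hv
  exact Subgroup.mem_bot.mp h1

/-- In the extremal case, the derived subgroup consists of all the involutions. -/
theorem commutator_eq_of_extremal [Finite G] (h : Setting G) (n : ℕ)
    (hn : Nat.card h.N = 2 ^ n) (hg : Nat.card G = 2 ^ (n + 2 * n)) : commutator G = h.N := by
  have hle : commutator G ≤ h.N := by
    rw [commutator_eq_closure, Subgroup.closure_le]
    rintro g ⟨g₁, g₂, rfl⟩
    exact h.comm_mem g₁ g₂
  by_contra hne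
  obtain ⟨y, hyN, hyC⟩ : ∃ y ∈ h.N, y ∉ commutator G := by
    by_contra hcon
    push Not at hcon
    exact hne (le_antisymm hle hcon)
  obtain ⟨lam, hl, hlC, hly⟩ := exists_functional h (commutator G) hle y hyN hyC
  have hkill : ∀ s t : G, lam ⁅s, t⁆ = 0 := by
    intro s t
    apply hlC
    rw [commutator_def]
    exact Subgroup.commutator_mem_commutator (Subgroup.mem_top s) (Subgroup.mem_top t)
  have hc := card_kerIn h h.N le_rfl lam hl y hyN hly
  rw [hn] at hc
  obtain ⟨n', rfl⟩ : ∃ n', n = n' + 1 := by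
    rcases n with _ | n'
    · rw [pow_zero] at hc; omega
    · exact ⟨n', rfl⟩
  have hcard' : Nat.card (kerIn h h.N le_rfl lam hl) = 2 ^ n' * Nat.card (⊥ : Subgroup G) := by
    rw [Subgroup.card_bot, mul_one]
    rw [pow_succ] at hc
    omega
  obtain ⟨x, hx⟩ := exists_independent h (2 * (n' + 1)) h.N le_rfl (by rw [hn, hg, ← pow_add])
  obtain ⟨Λ', hΛ'add, -, hΛ'⟩ := exists_cutdown h n' (kerIn h h.N le_rfl lam hl) ⊥ bot_le
    (fun x hx => hx.1) hcard'
  obtain ⟨v, hv0, hv⟩ := exists_nonzero_solution h x (Fin.cons lam Λ')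
    (by
      intro k
      refine Fin.cases ?_ (fun j => ?_) k
      · simpa using hl
      · simpa using hΛ'add j)
    (Fin.cons 1 (fun _ => 2))
    (by
      intro k
      refine Fin.cases ?_ (fun j => ?_) k
      · right
        refine ⟨by simp, ?_⟩
        simpa using hkill
      · left
        simp)
    (by
      rw [Fin.sum_univ_succ]
      simp only [Fin.cons_zero, Fin.cons_succ, Finset.sum_const, Finset.card_univ,
        Fintype.card_fin, smul_eq_mul]
      omega)
  apply hv0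
  apply hx
  have hw : (gprod x v) ^ 2 ∈ kerIn h h.N le_rfl lam hl := by
    refine ⟨h.sq_mem _, ?_⟩
    have := hv 0
    simpa using this
  have h1 := hΛ' _ hw (by
    intro j
    have := hv j.succ
    simpa using this)
  exact Subgroup.mem_bot.mp h1

/-- In the extremal case, the centre consists of involutions. -/
theorem center_le_of_extremal [Finite G] (h : Setting G) (n : ℕ)
    (hn : Nat.card h.N = 2 ^ n) (hg : Nat.card G = 2 ^ (n + 2 * n)) :
    Subgroup.center G ≤ h.N := by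
  intro x₀ hx₀
  by_contra hx₀N
  have hc1 : x₀ ^ 2 ≠ 1 := hx₀N
  have hcN : x₀ ^ 2 ∈ h.N := h.sq_mem x₀
  have hord : orderOf (x₀ ^ 2) = 2 :=
    orderOf_eq_prime (by rw [← pow_mul]; exact h.exp4 x₀) hc1
  have hTcard : Nat.card (Subgroup.zpowers (x₀ ^ 2)) = 2 := by rw [Nat.card_zpowers, hord]
  have hTle : Subgroup.zpowers (x₀ ^ 2) ≤ h.N := (Subgroup.zpowers_le).mpr hcN
  obtain ⟨n', rfl⟩ : ∃ n', n = n' + 1 := by
    rcases n with _ | n'
    · exfalso
      rw [pow_zero] at hn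
      have hbot : h.N = ⊥ := Subgroup.card_eq_one.mp hn
      rw [hbot] at hcN
      exact hc1 (Subgroup.mem_bot.mp hcN)
    · exact ⟨n', rfl⟩
  obtain ⟨H₀, hNH₀, hx₀H₀, hcardH₀, -⟩ := exists_adjoin h h.N le_rfl x₀ hx₀N
  obtain ⟨x, hx⟩ := exists_independent h (2 * n' + 1) H₀ hNH₀ (by
    rw [hcardH₀, hn, hg, ← pow_succ, ← pow_add]
    congr 1
    omega)
  obtain ⟨Λ, hΛadd, -, hΛ⟩ := exists_cutdown h n' h.N (Subgroup.zpowers (x₀ ^ 2)) hTle le_rfl
    (by rw [hn, hTcard, pow_succ])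
  obtain ⟨v, hv0, hv⟩ := exists_nonzero_solution h x Λ hΛadd (fun _ => 2)
    (fun _ => Or.inl rfl) (by
      rw [Finset.sum_const, Finset.card_univ, Fintype.card_fin, smul_eq_mul]
      omega)
  apply hv0
  apply hx
  have hw := hΛ _ (h.sq_mem (gprod x v)) hv
  obtain ⟨k, hk⟩ := Subgroup.mem_zpowers_iff.mp hw
  have hc2 : (x₀ ^ 2) ^ (2 : ℤ) = 1 := by
    rw [zpow_ofNat, ← pow_mul]
    exact h.exp4 x₀
  rcases Int.even_or_odd k with ⟨j, hj⟩ | ⟨j, hj⟩
  · have h1 : (gprod x v) ^ 2 = 1 := by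
      rw [← hk, hj, ← two_mul, zpow_mul, hc2, one_zpow]
    exact hNH₀ h1
  · have hsq : (gprod x v) ^ 2 = x₀ ^ 2 := by
      rw [← hk, hj, zpow_add, zpow_mul, hc2, one_zpow, one_mul, zpow_one]
    have hcomm : Commute x₀⁻¹ (gprod x v) :=
      (Subgroup.mem_center_iff.mp (Subgroup.inv_mem _ hx₀) (gprod x v)).symm
    have h1 : (x₀⁻¹ * gprod x v) ^ 2 = 1 := by
      rw [hcomm.mul_pow, hsq, inv_pow, inv_mul_cancel]
    have h2 : x₀⁻¹ * gprod x v ∈ H₀ := hNH₀ h1
    have e : gprod x v = x₀ * (x₀⁻¹ * gprod x v) := by group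
    rw [e]
    exact H₀.mul_mem hx₀H₀ h2

/-- In the extremal case the group is special. -/
theorem special_of_extremal [Finite G] (hG : IsPGroup 2 G) (h : Setting G) (n : ℕ)
    (hn : Nat.card h.N = 2 ^ n) (hg : Nat.card G = 2 ^ (n + 2 * n)) : Cfsg.IsSpecial 2 G := by
  have hcomm := commutator_eq_of_extremal h n hn hg
  have hcenter : Subgroup.center G = h.N := by
    apply le_antisymm (center_le_of_extremal h n hn hg)
    rw [← hcomm, commutator_eq_closure, Subgroup.closure_le]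
    rintro g ⟨g₁, g₂, rfl⟩
    rw [SetLike.mem_coe, Subgroup.mem_center_iff]
    intro z
    exact (h.central g₁ g₂ z).symm
  have hfrat : frattini G = h.N := by
    apply le_antisymm
    · have hnorm : h.N.Normal := h.normal_of_le h.N le_rfl
      have hq : frattini (G ⧸ h.N) = ⊥ := Cfsg.Agent.S3772.frattini_eq_bot_of_sq (by
        intro x
        obtain ⟨g, rfl⟩ := QuotientGroup.mk_surjective x
        rw [← QuotientGroup.mk_pow, QuotientGroup.eq_one_iff]
        exact h.sq_mem g)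
      have h1 := frattini_le_comap_frattini_of_surjective (QuotientGroup.mk'_surjective h.N)
      rw [hq] at h1
      intro x hx
      have h2 := h1 hx
      rw [Subgroup.mem_comap, Subgroup.mem_bot, QuotientGroup.mk'_apply,
        QuotientGroup.eq_one_iff] at h2
      exact h2
    · rw [← hcomm, commutator_eq_closure, Subgroup.closure_le]
      rintro g ⟨g₁, g₂, rfl⟩
      rw [SetLike.mem_coe, commutatorElement_def]
      exact Cfsg.Agent.Helper21.commutator_mem_frattini_of_isPGroup hG g₁ g₂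
  exact ⟨hG, by rw [hfrat, hcenter], by rw [hcomm, hcenter]⟩

/-- Let G be a finite 2-group of nilpotency class at most 2 and exponent dividing 4 in which the elements x with x² = 1 form a subgroup N. Then |G| ≤ |N|³, and |G| < |N|³ unless G is special. -/
theorem result {G : Type*} [Group G] [Finite G] (hG : IsPGroup 2 G) (hcl : (⊤ : Subgroup G).lowerCentralSeries 2 = ⊥) (hexp : ∀ x : G, x ^ 4 = 1) (hN : ∀ x y : G, x ^ 2 = 1 → y ^ 2 = 1 → (x * y) ^ 2 = 1) : Nat.card G ≤ Nat.card {x : G // x ^ 2 = 1} ^ 3 ∧ (¬ Cfsg.IsSpecial 2 G → Nat.card G < Nat.card {x : G // x ^ 2 = 1} ^ 3) := by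
  have hcl' : ⁅⁅(⊤ : Subgroup G), ⊤⁆, ⊤⁆ = ⊥ := hcl
  have h : Setting G := by
    refine ⟨?_, hexp, hN⟩
    intro x y z
    have h1 : ⁅⁅x, y⁆, z⁆ ∈ ⁅⁅(⊤ : Subgroup G), ⊤⁆, ⊤⁆ :=
      Subgroup.commutator_mem_commutator
        (Subgroup.commutator_mem_commutator (Subgroup.mem_top x) (Subgroup.mem_top y))
        (Subgroup.mem_top z)
    rw [hcl', Subgroup.mem_bot] at h1
    exact commutatorElement_eq_one_iff_mul_comm.mp h1
  have hcardN : Nat.card {x : G // x ^ 2 = 1} = Nat.card h.N := rfl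
  rw [hcardN]
  obtain ⟨n, hn⟩ := IsPGroup.iff_card.mp (hG.to_subgroup h.N)
  obtain ⟨m, hm⟩ := IsPGroup.iff_card.mp hG
  have hdvd : Nat.card h.N ∣ Nat.card G := Subgroup.card_subgroup_dvd_card h.N
  rw [hn, hm] at hdvd
  have hnm : n ≤ m := (Nat.pow_dvd_pow_iff_le_right (by norm_num)).mp hdvd
  obtain ⟨a, rfl⟩ : ∃ a, m = n + a := ⟨m - n, by omega⟩
  have ha := index_le h n a hn hm
  rw [hn, hm, ← pow_mul]
  refine ⟨Nat.pow_le_pow_right (by norm_num) (by omega), ?_⟩
  intro hns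
  apply Nat.pow_lt_pow_right (by norm_num)
  by_contra hge
  apply hns
  have ha2 : a = 2 * n := by omega
  rw [ha2] at hm
  exact special_of_extremal hG h n hn hm

end Cfsg.Agent.S3773
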