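import Mathlib
import Cfsg.Statements.S3774

set_option autoImplicit false
open Cfsg

namespace Cfsg.Agent.S3774

variable {G : Type*} [Group G]

/-- The "involution part" of an element of a 2-group. -/
noncomputable def invPart (x : G) : G := x ^ (orderOf x / 2)

theorem invPart_map (a : MulAut G) (x : G) : invPart (a x) = a (invPart x) := by
  unfold invPart
  rw [MulEquiv.orderOf_eq, map_pow]

theorem invPart_spec [Finite G] (hG : IsPGroup 2 G) (x : G) (hx : x ≠ 1) :
    invPart x ≠ 1 ∧ invPart x ^ 2 = 1 := by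
  obtain ⟨j, hj⟩ := hG x
  have hord : orderOf x ∣ 2 ^ j := orderOf_dvd_of_pow_eq_one hj
  obtain ⟨i, hi, hi2⟩ := (Nat.dvd_prime_pow Nat.prime_two).mp hord
  have hi0 : i ≠ 0 := by
    intro h0
    rw [h0, pow_zero, orderOf_eq_one_iff] at hi2
    exact hx hi2
  obtain ⟨i', rfl⟩ := Nat.exists_eq_succ_of_ne_zero hi0
  have hhalf : orderOf x / 2 = 2 ^ i' := by
    rw [hi2, pow_succ]
    simp
  unfold invPart
  rw [hhalf]
  constructor
  · apply pow_ne_one_of_lt_orderOf (by positivity)
    rw [hi2]
    exact Nat.pow_lt_pow_right (by norm_num) (Nat.lt_succ_self i')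
  · rw [← pow_mul, ← pow_succ, ← hi2, pow_orderOf_eq_one]

theorem dvd_of_pow_sub_one_dvd (k n : ℕ) (h : 2 ^ k - 1 ∣ 2 ^ n - 1) : k ∣ n := by
  have h1 : Nat.gcd (2 ^ k - 1) (2 ^ n - 1) = 2 ^ k - 1 := Nat.gcd_eq_left h
  rw [Nat.pow_sub_one_gcd_pow_sub_one] at h1
  have h2 : 2 ^ Nat.gcd k n = 2 ^ k := by
    have := Nat.one_le_two_pow (n := Nat.gcd k n)
    have := Nat.one_le_two_pow (n := k)
    omega
  have h3 : Nat.gcd k n = k := Nat.pow_right_injective (le_refl 2) h2
  rw [← h3]
  exact Nat.gcd_dvd_right k n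

theorem result {G : Type*} [Group G] [Finite G] [Nontrivial G] (hG : IsPGroup 2 G) (htrans : ∀ x y : G, x ≠ 1 → x ^ 2 = 1 → y ≠ 1 → y ^ 2 = 1 → ∃ a : MulAut G, a x = y) : (∀ x : G, x ^ 2 = 1 → x ∈ Subgroup.center G) ∧ ∃ m : ℕ, Nat.card G = Nat.card {z : G // z ^ 2 = 1} ^ m := by
  classical
  have hfin : Fintype G := Fintype.ofFinite G
  have h2f : Fact (Nat.Prime 2) := ⟨Nat.prime_two⟩
  -- a central involution
  have hcenter : ∃ z : G, z ∈ Subgroup.center G ∧ z ≠ 1 ∧ z ^ 2 = 1 := by
    have hnt : Nontrivial (Subgroup.center G) := hG.center_nontrivial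
    obtain ⟨z, hz⟩ := exists_ne (1 : Subgroup.center G)
    obtain ⟨h1, h2⟩ := invPart_spec (hG.to_subgroup (Subgroup.center G)) z hz
    refine ⟨((invPart z : Subgroup.center G) : G), (invPart z).2, ?_, ?_⟩
    · intro h
      apply h1
      exact Subtype.ext h
    · have := congrArg Subtype.val h2
      simpa using this
  obtain ⟨z, hzc, hz1, hz2⟩ := hcenter
  have hcentral : ∀ x : G, x ^ 2 = 1 → x ∈ Subgroup.center G := by
    intro x hx2
    by_cases hx1 : x = 1
    · rw [hx1]; exact Subgroup.one_mem _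
    obtain ⟨a, ha⟩ := htrans z x hz1 hz2 hx1 hx2
    rw [← ha]
    rw [Subgroup.mem_center_iff] at hzc ⊢
    intro g
    have := congrArg a (hzc (a.symm g))
    simpa using this
  refine ⟨hcentral, ?_⟩
  -- the subgroup of involutions
  obtain ⟨N, hN⟩ : ∃ N : Subgroup G, ∀ x : G, x ∈ N ↔ x ^ 2 = 1 := by
    refine ⟨{ carrier := {x | x ^ 2 = 1}, one_mem' := by simp, mul_mem' := ?_, inv_mem' := ?_ },
      fun x => Iff.rfl⟩
    · intro a b ha hb
      simp only [Set.mem_ofPred_eq] at ha hb ⊢
      have hc := hcentral a ha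
      rw [Subgroup.mem_center_iff] at hc
      have : (a * b) ^ 2 = a ^ 2 * b ^ 2 := by
        rw [pow_two, pow_two, pow_two]
        calc a * b * (a * b) = a * (b * a) * b := by group
          _ = a * (a * b) * b := by rw [hc b]
          _ = a * a * (b * b) := by group
      rw [this, ha, hb, mul_one]
    · intro a ha
      simp only [Set.mem_ofPred_eq] at ha ⊢
      rw [inv_pow, ha, inv_one]
  have hcardN : Nat.card {z : G // z ^ 2 = 1} = Nat.card N := by
    apply Nat.card_congr
    exact Equiv.subtypeEquivRight (fun x => (hN x).symm)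
  obtain ⟨k, hk⟩ := (IsPGroup.iff_card.mp (hG.to_subgroup N))
  obtain ⟨n, hn⟩ := (IsPGroup.iff_card.mp hG)
  rw [hcardN, hk, hn]
  -- counting
  have hdvd : 2 ^ k - 1 ∣ 2 ^ n - 1 := by
    obtain ⟨s, hs⟩ : ∃ s : Finset G, s = Finset.univ.filter (fun x => x ≠ 1) := ⟨_, rfl⟩
    obtain ⟨t, ht⟩ : ∃ t : Finset G, t = Finset.univ.filter (fun x => x ≠ 1 ∧ x ^ 2 = 1) :=
      ⟨_, rfl⟩
    have hmaps : (s : Set G).MapsTo invPart t := by
      intro x hx
      rw [hs] at hx
      rw [ht]
      simp only [Finset.coe_filter, Finset.mem_univ, true_and, Set.mem_ofPred_eq] at hx ⊢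
      exact invPart_spec hG x hx
    have hsum := Finset.card_eq_sum_card_fiberwise hmaps
    have hscard : s.card = 2 ^ n - 1 := by
      rw [hs, Finset.filter_ne' Finset.univ (1 : G), Finset.card_erase_of_mem (Finset.mem_univ _),
        Finset.card_univ, ← Nat.card_eq_fintype_card, hn]
    have htcard : t.card = 2 ^ k - 1 := by
      have h1 : t = (Finset.univ.filter (fun x : G => x ^ 2 = 1)).erase 1 := by
        rw [ht]
        ext x
        simp only [Finset.mem_filter, Finset.mem_univ, true_and, Finset.mem_erase]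
      have h2 : (Finset.univ.filter (fun x : G => x ^ 2 = 1)).card = 2 ^ k := by
        rw [← hk, ← hcardN, Nat.card_eq_fintype_card, Fintype.card_subtype]
      rw [h1, Finset.card_erase_of_mem (by simp), h2]
    have hfib : ∀ b ∈ t, (s.filter (fun a => invPart a = b)).card =
        (s.filter (fun a => invPart a = z)).card := by
      intro b hb
      rw [ht] at hb
      simp only [Finset.mem_filter, Finset.mem_univ, true_and] at hb
      obtain ⟨a, ha⟩ := htrans b z hb.1 hb.2 hz1 hz2
      apply Finset.card_bij (fun x _ => a x)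
      · intro x hx
        rw [hs] at hx ⊢
        simp only [Finset.mem_filter, Finset.mem_univ, true_and] at hx ⊢
        refine ⟨?_, ?_⟩
        · intro h
          apply hx.1
          have := congrArg a.symm h
          simpa using this
        · rw [invPart_map, hx.2, ha]
      · intro x _ y _ hxy
        exact a.injective hxy
      · intro y hy
        rw [hs] at hy
        simp only [Finset.mem_filter, Finset.mem_univ, true_and] at hy
        refine ⟨a.symm y, ?_, by simp⟩
        rw [hs]
        simp only [Finset.mem_filter, Finset.mem_univ, true_and]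
        refine ⟨?_, ?_⟩
        · intro h
          apply hy.1
          have := congrArg a h
          simpa using this
        · rw [invPart_map, hy.2, ← ha]
          simp
    rw [Finset.sum_congr rfl hfib, Finset.sum_const, smul_eq_mul, hscard, htcard] at hsum
    exact ⟨_, hsum⟩
  obtain ⟨m, hm⟩ := dvd_of_pow_sub_one_dvd k n hdvd
  exact ⟨m, by rw [hm, pow_mul]⟩

end Cfsg.Agent.S3774
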