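import Mathlib
import Cfsg.Statements.S3775
import Cfsg.Agent.Lib.Helper19.CoprimeAbelian

set_option autoImplicit false
open Cfsg

namespace Cfsg.Agent.S3775

open Cfsg.Agent.Helper19.CoAb

theorem inv_iff {A : Type*} [CommGroup A] (X : Subgroup (MulAut A)) (B : Subgroup A) :
    (∀ x ∈ X, B.map x.toMonoidHom = B) ↔ Inv X B := by
  constructor
  · intro h x b hb
    have := h x.1 x.2
    rw [← this]
    exact ⟨b, hb, rfl⟩
  · intro h x hx
    apply le_antisymm
    · rintro _ ⟨b, hb, rfl⟩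
      exact h ⟨x, hx⟩ b hb
    · intro b hb
      refine ⟨x⁻¹ b, h ⟨x⁻¹, X.inv_mem hx⟩ b hb, ?_⟩
      show x (x⁻¹ b) = b
      rw [← MulAut.mul_apply, mul_inv_cancel, MulAut.one_apply]

/-- Let A be a finite abelian p-group and X a group of automorphisms of A of order prime to p. Call a subgroup of A invariant when every element of X maps it onto itself. Then the following are equivalent: (i) A is not the direct product of two nontrivial invariant subgroups; (ii) every invariant subgroup of A is one of the subgroups Ω_i(A) = {a : a^(p^i) = 1}; (iii) the subgroup Ω₁(A) of elements of order dividing p has no invariant subgroups other than 1 and itself. -/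
theorem result {A : Type*} [CommGroup A] [Finite A] {p : ℕ} [Fact p.Prime] (hA : IsPGroup p A) (X : Subgroup (MulAut A)) (hX : (Nat.card X).Coprime p) : ((¬ ∃ B C : Subgroup A, B ≠ ⊥ ∧ C ≠ ⊥ ∧ (∀ x ∈ X, B.map x.toMonoidHom = B) ∧ (∀ x ∈ X, C.map x.toMonoidHom = C) ∧ B ⊓ C = ⊥ ∧ B ⊔ C = ⊤) ↔ (∀ B : Subgroup A, (∀ x ∈ X, B.map x.toMonoidHom = B) → ∃ i : ℕ, ∀ a : A, a ∈ B ↔ a ^ p ^ i = 1)) ∧ ((∀ B : Subgroup A, (∀ x ∈ X, B.map x.toMonoidHom = B) → ∃ i : ℕ, ∀ a : A, a ∈ B ↔ a ^ p ^ i = 1) ↔ (∀ B : Subgroup A, (∀ x ∈ X, B.map x.toMonoidHom = B) → (∀ b ∈ B, b ^ p = 1) → B = ⊥ ∨ ∀ a : A, a ∈ B ↔ a ^ p = 1)) := by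
  have hp : p.Prime := Fact.out
  simp only [inv_iff]
  have h32 : (∀ B : Subgroup A, Inv X B → (∀ b ∈ B, b ^ p = 1) →
      B = ⊥ ∨ ∀ a : A, a ∈ B ↔ a ^ p = 1) →
      ∀ B : Subgroup A, Inv X B → ∃ i : ℕ, ∀ a : A, a ∈ B ↔ a ^ p ^ i = 1 :=
    fun h B hB => eq_omega_of_irreducible hA h B hB
  refine ⟨⟨?_, ?_⟩, ⟨?_, h32⟩⟩
  · intro hi
    apply h32
    intro B hB hexp
    exact irreducible_of_indecomposable hA hX hi B hB hexp
  · rintro hii ⟨B, C, hB0, hC0, hB, hC, hinf, -⟩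
    obtain ⟨i, hi⟩ := hii B hB
    obtain ⟨j, hj⟩ := hii C hC
    rcases le_total i j with hij | hij
    · apply hB0
      rw [eq_bot_iff, ← hinf]
      intro a ha
      refine ⟨ha, ?_⟩
      show a ∈ C
      rw [hj]
      obtain ⟨k, rfl⟩ := Nat.exists_eq_add_of_le hij
      rw [pow_add, pow_mul, (hi a).mp ha, one_pow]
    · apply hC0
      rw [eq_bot_iff, ← hinf]
      intro a ha
      refine ⟨?_, ha⟩
      show a ∈ B
      rw [hi]
      obtain ⟨k, rfl⟩ := Nat.exists_eq_add_of_le hij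
      rw [pow_add, pow_mul, (hj a).mp ha, one_pow]
  · intro hii B hB hexp
    obtain ⟨i, hi⟩ := hii B hB
    rcases Nat.eq_zero_or_pos i with h0 | h0
    · left
      rw [eq_bot_iff]
      intro a ha
      have := (hi a).mp ha
      rw [h0, pow_zero, pow_one] at this
      rw [Subgroup.mem_bot]
      exact this
    · right
      intro a
      refine ⟨hexp a, fun ha => (hi a).mpr ?_⟩
      obtain ⟨k, rfl⟩ := Nat.exists_eq_add_of_le h0
      rw [pow_add, pow_one, pow_mul, ha, one_pow]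

end Cfsg.Agent.S3775
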