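import Mathlib
import Cfsg.Statements.S3778
import Cfsg.Agent.Lib.Helper7.Quasisimple

set_option autoImplicit false
open Cfsg

namespace Cfsg.Agent.S3778

open scoped commutatorElement
open Cfsg.Agent.Helper7 (commutatorStab le_commutatorStab_iff)

variable {G : Type*} [Group G]

/-- The lower central series of the whole group. -/
abbrev Γ (G : Type*) [Group G] (j : ℕ) : Subgroup G := (⊤ : Subgroup G).lowerCentralSeries j

theorem Γ_succ (j : ℕ) : Γ G (j + 1) = ⁅Γ G j, (⊤ : Subgroup G)⁆ := rfl

theorem Γ_anti (j : ℕ) : Γ G (j + 1) ≤ Γ G j :=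
  (⊤ : Subgroup G).lowerCentralSeries_antitone (Nat.le_succ j)

/-- If the series stalls at `j` it stays constant. -/
theorem Γ_const_of_eq (j : ℕ) (h : Γ G (j + 1) = Γ G j) : ∀ m, Γ G (j + m) = Γ G j := by
  intro m
  induction m with
  | zero => rfl
  | succ m ih =>
    rw [← add_assoc, Γ_succ, ih, ← Γ_succ, h]

theorem Γ_ne_of_lt {c : ℕ} (hc : Γ G c = ⊥) (hmin : ∀ j < c, Γ G j ≠ ⊥) (j : ℕ) (hj : j < c) :
    Γ G (j + 1) ≠ Γ G j := by
  intro h
  have h1 := Γ_const_of_eq j h (c - j)
  rw [show j + (c - j) = c by omega, hc] at h1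
  exact hmin j hj h1.symm

/-- The subgroup of elements acting trivially on `γ_j / γ_{j+2}`. -/
noncomputable def D (G : Type*) [Group G] (j : ℕ) : Subgroup G :=
  commutatorStab (Γ G j) (Γ G (j + 2))

theorem mem_D (j : ℕ) (x : G) : x ∈ D G j ↔ ∀ y ∈ Γ G j, ⁅x, y⁆ ∈ Γ G (j + 2) := Iff.rfl

theorem D_ne_top {c : ℕ} (hc : Γ G c = ⊥) (hmin : ∀ j < c, Γ G j ≠ ⊥) (j : ℕ) (hj : j + 1 < c) :
    D G j ≠ ⊤ := by
  intro h
  have h1 : (⊤ : Subgroup G) ≤ D G j := h.ge
  have h2 : ⁅(⊤ : Subgroup G), Γ G j⁆ ≤ Γ G (j + 2) := (le_commutatorStab_iff _ _ _).mp h1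
  rw [Subgroup.commutator_comm, ← Γ_succ] at h2
  exact Γ_ne_of_lt hc hmin (j + 1) hj (le_antisymm (Γ_anti (j + 1)) h2)

/-- The chain `C(x) γ_j`. -/
def H (x : G) (j : ℕ) : Subgroup G := Subgroup.centralizer ({x} : Set G) ⊔ Γ G j

theorem H_anti (x : G) (j : ℕ) : H x (j + 1) ≤ H x j := sup_le_sup_left (Γ_anti j) _

theorem mem_D_of_H_eq (x : G) (j : ℕ) (h : H x j = H x (j + 1)) : x ∈ D G j := by
  rw [mem_D]
  intro y hy
  have hy' : y ∈ H x (j + 1) := by
    rw [← h]
    exact (le_sup_right : Γ G j ≤ H x j) hy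
  have hy'' : y ∈ ((Subgroup.centralizer ({x} : Set G) ⊔ Γ G (j + 1) : Subgroup G) : Set G) := hy'
  rw [Subgroup.mul_normal] at hy''
  obtain ⟨c, hc, z, hz, rfl⟩ := hy''
  have hcx : c * x = x * c := by
    have := Subgroup.mem_centralizer_iff.mp hc x (Set.mem_singleton x)
    exact this.symm
  have hcx' : x⁻¹ * c⁻¹ = c⁻¹ * x⁻¹ := by
    rw [← mul_inv_rev, ← mul_inv_rev, hcx]
  have e : ⁅x, c * z⁆ = c * ⁅x, z⁆ * c⁻¹ := by
    simp only [commutatorElement_def, mul_inv_rev]
    calc x * (c * z) * x⁻¹ * (z⁻¹ * c⁻¹) = (x * c) * z * (x⁻¹ * z⁻¹ * c⁻¹) := by group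
      _ = (c * x) * z * (x⁻¹ * z⁻¹ * c⁻¹) := by rw [hcx]
      _ = c * (x * z * x⁻¹ * z⁻¹) * c⁻¹ := by group
  rw [e]
  have hn : (Γ G (j + 2)).Normal := inferInstance
  apply hn.conj_mem
  have h3 : ⁅x, z⁆ ∈ ⁅(⊤ : Subgroup G), Γ G (j + 1)⁆ :=
    Subgroup.commutator_mem_commutator (Subgroup.mem_top x) hz
  rwa [Subgroup.commutator_comm, ← Γ_succ] at h3

/-- The number of strict steps in the chain is bounded by the index. -/
theorem pow_card_strict_le [Finite G] {p : ℕ} [hp : Fact p.Prime] (hG : IsPGroup p G) (x : G)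
    [DecidablePred fun i => H x i ≠ H x (i + 1)] :
    ∀ j : ℕ, p ^ ((Finset.range j).filter (fun i => H x i ≠ H x (i + 1))).card ≤ (H x j).index := by
  intro j
  induction j with
  | zero =>
    rw [Finset.range_zero, Finset.filter_empty, Finset.card_empty, pow_zero]
    exact Nat.one_le_iff_ne_zero.mpr Subgroup.index_ne_zero_of_finite
  | succ j ih =>
    have hmul := Subgroup.relIndex_mul_index (H_anti x j)
    rw [Finset.range_add_one, Finset.filter_insert]
    by_cases hs : H x j ≠ H x (j + 1)
    · rw [if_pos hs, Finset.card_insert_of_notMem (by simp), pow_succ, ← hmul, mul_comm]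
      apply Nat.mul_le_mul _ ih
      -- the relative index is a nontrivial power of p
      obtain ⟨m, hm⟩ := IsPGroup.iff_card.mp hG
      have hdvd : (H x (j + 1)).relIndex (H x j) ∣ p ^ m := by
        rw [← hm]
        exact (Subgroup.relIndex_dvd_card _ _).trans (Subgroup.card_subgroup_dvd_card _)
      obtain ⟨a, -, ha⟩ := (Nat.dvd_prime_pow hp.out).mp hdvd
      have ha0 : a ≠ 0 := by
        rintro rfl
        rw [pow_zero] at ha
        exact hs (le_antisymm (Subgroup.relIndex_eq_one.mp ha) (H_anti x j))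
      rw [ha]
      calc p = p ^ 1 := (pow_one p).symm
        _ ≤ p ^ a := Nat.pow_le_pow_right hp.out.pos (Nat.one_le_iff_ne_zero.mpr ha0)
    · rw [if_neg hs]
      refine ih.trans ?_
      rw [← hmul]
      exact Nat.le_mul_of_pos_left _ (Nat.pos_of_ne_zero (by
        intro h0
        rw [h0, zero_mul] at hmul
        exact Subgroup.index_ne_zero_of_finite hmul.symm))

/-- Let G be a finite p-group with all centralizers of index at most p^b. -/
theorem result {G : Type*} [Group G] [Finite G] {p : ℕ} [Fact p.Prime] (hG : IsPGroup p G) (b : ℕ) (hb : ∀ x : G, (Subgroup.centralizer ({x} : Set G)).index ≤ p ^ b) : ∃ c : ℕ, (⊤ : Subgroup G).lowerCentralSeries c = ⊥ ∧ (b ≠ 0 → (c - 1) * (p - 1) < b * p ∧ c ≤ 2 * b) ∧ (b = 0 → c ≤ 1) := by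
  classical
  have hp : p.Prime := Fact.out
  have hnil : Group.IsNilpotent G := hG.isNilpotent
  have hex : ∃ n, Γ G n = ⊥ := Subgroup.nilpotent_iff_lowerCentralSeries.mp hnil
  obtain ⟨c, hc⟩ : ∃ c, c = Nat.find hex := ⟨_, rfl⟩
  have hcbot : Γ G c = ⊥ := hc ▸ Nat.find_spec hex
  have hmin : ∀ j < c, Γ G j ≠ ⊥ := fun j hj => Nat.find_min hex (hc ▸ hj)
  have hcle : ∀ n, Γ G n = ⊥ → c ≤ n := fun n hn => hc ▸ Nat.find_min' hex hn
  have hfin : Fintype G := Fintype.ofFinite G
  refine ⟨c, hcbot, ?_, ?_⟩
  swap
  · -- b = 0: abelian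
    intro hb0
    apply hcle
    rw [Γ_succ, eq_bot_iff, Subgroup.commutator_le]
    intro x _ y _
    have h1 := hb x
    rw [hb0, pow_zero] at h1
    have h2 : (Subgroup.centralizer ({x} : Set G)).index = 1 :=
      le_antisymm h1 (Nat.one_le_iff_ne_zero.mpr Subgroup.index_ne_zero_of_finite)
    rw [Subgroup.index_eq_one] at h2
    have h3 : y ∈ Subgroup.centralizer ({x} : Set G) := h2 ▸ Subgroup.mem_top y
    have h4 := Subgroup.mem_centralizer_iff.mp h3 x (Set.mem_singleton x)
    rw [Subgroup.mem_bot, commutatorElement_eq_one_iff_mul_comm]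
    exact h4
  · intro hb0
    have hmain : (c - 1) * (p - 1) < b * p := by
      by_cases hsmall : c - 1 ≤ b
      · calc (c - 1) * (p - 1) ≤ b * (p - 1) := Nat.mul_le_mul_right _ hsmall
          _ < b * p := Nat.mul_lt_mul_of_pos_left (Nat.sub_lt hp.pos Nat.one_pos)
              (Nat.pos_of_ne_zero hb0)
      · push Not at hsmall
        -- the counting argument
        have hS : ∀ x : G, ((Finset.range (c - 1)).filter (fun j => x ∉ D G j)).card ≤ b := by
          intro x
          have h1 := pow_card_strict_le hG x c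
          have hHc : H x c = Subgroup.centralizer ({x} : Set G) := by
            unfold H
            rw [hcbot, sup_bot_eq]
          rw [hHc] at h1
          have h2 := h1.trans (hb x)
          have h3 := (Nat.pow_le_pow_iff_right hp.one_lt).mp h2
          refine le_trans (Finset.card_le_card ?_) h3
          intro j hj
          rw [Finset.mem_filter, Finset.mem_range] at hj ⊢
          refine ⟨by omega, fun heq => hj.2 (mem_D_of_H_eq x j heq)⟩
        have hcount : ∀ x : G, c - 1 - b ≤
            ((Finset.range (c - 1)).filter (fun j => x ∈ D G j)).card := by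
          intro x
          have h1 := Finset.card_filter_add_card_filter_not (s := Finset.range (c - 1))
            (fun j => x ∈ D G j)
          rw [Finset.card_range] at h1
          have h2 := hS x
          omega
        have hcount1 : c - 1 ≤
            ((Finset.range (c - 1)).filter (fun j => (1 : G) ∈ D G j)).card := by
          rw [Finset.filter_true_of_mem (fun j _ => (D G j).one_mem), Finset.card_range]
        have hdouble := Finset.sum_card_bipartiteAbove_eq_sum_card_bipartiteBelow
          (fun (j : ℕ) (x : G) => x ∈ D G j) (s := Finset.range (c - 1))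
          (t := (Finset.univ : Finset G))
        -- upper bound on the left side
        have hupper : ∀ j ∈ Finset.range (c - 1),
            p * (Finset.bipartiteAbove (fun (j : ℕ) (x : G) => x ∈ D G j) Finset.univ j).card ≤
              Nat.card G := by
          intro j hj
          rw [Finset.mem_range] at hj
          have hcard : (Finset.bipartiteAbove (fun (j : ℕ) (x : G) => x ∈ D G j)
              Finset.univ j).card = Nat.card (D G j) := by
            rw [Nat.card_eq_fintype_card, Fintype.card_subtype]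
            rfl
          rw [hcard]
          have hne := D_ne_top hcbot hmin j (by omega)
          have hidx : (D G j).index ≠ 1 := fun h => hne (Subgroup.index_eq_one.mp h)
          obtain ⟨m, hm⟩ := IsPGroup.iff_card.mp hG
          have hdvd : (D G j).index ∣ p ^ m := hm ▸ Subgroup.index_dvd_card _
          obtain ⟨a, -, ha⟩ := (Nat.dvd_prime_pow hp).mp hdvd
          have ha0 : a ≠ 0 := by
            rintro rfl
            exact hidx (by rw [ha, pow_zero])
          have hpi : p ≤ (D G j).index := by
            rw [ha]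
            calc p = p ^ 1 := (pow_one p).symm
              _ ≤ p ^ a := Nat.pow_le_pow_right hp.pos (Nat.one_le_iff_ne_zero.mpr ha0)
          rw [← Subgroup.card_mul_index (D G j), mul_comm]
          exact Nat.mul_le_mul_left _ hpi
        have hupper' : p * ∑ j ∈ Finset.range (c - 1),
            (Finset.bipartiteAbove (fun (j : ℕ) (x : G) => x ∈ D G j) Finset.univ j).card ≤
              (c - 1) * Nat.card G := by
          rw [Finset.mul_sum]
          calc ∑ j ∈ Finset.range (c - 1), p * (Finset.bipartiteAbove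
                (fun (j : ℕ) (x : G) => x ∈ D G j) Finset.univ j).card
              ≤ ∑ _j ∈ Finset.range (c - 1), Nat.card G := Finset.sum_le_sum hupper
            _ = (c - 1) * Nat.card G := by
              rw [Finset.sum_const, Finset.card_range, smul_eq_mul]
        -- lower bound on the right side
        have hlower : (c - 1) + (Nat.card G - 1) * (c - 1 - b) ≤
            ∑ x ∈ (Finset.univ : Finset G),
              (Finset.bipartiteBelow (fun (j : ℕ) (x : G) => x ∈ D G j)
                (Finset.range (c - 1)) x).card := by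
          rw [← Finset.add_sum_erase _ _ (Finset.mem_univ (1 : G))]
          apply Nat.add_le_add
          · exact hcount1
          · calc (Nat.card G - 1) * (c - 1 - b)
                = ∑ _x ∈ (Finset.univ : Finset G).erase 1, (c - 1 - b) := by
                  rw [Finset.sum_const, Finset.card_erase_of_mem (Finset.mem_univ _),
                    Finset.card_univ, smul_eq_mul, Nat.card_eq_fintype_card]
              _ ≤ _ := Finset.sum_le_sum (fun x _ => hcount x)
        rw [← hdouble] at hlower
        have hfinal : p * ((c - 1) + (Nat.card G - 1) * (c - 1 - b)) ≤ (c - 1) * Nat.card G :=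
          (Nat.mul_le_mul_left p hlower).trans hupper'
        -- arithmetic
        by_contra hcon
        push Not at hcon
        obtain ⟨n, hn⟩ : ∃ n, Nat.card G = n + 1 := ⟨Nat.card G - 1, by
          have : 0 < Nat.card G := Nat.card_pos
          omega⟩
        obtain ⟨m, hm⟩ : ∃ m, c - 1 = b + m + 1 := ⟨c - 1 - b - 1, by omega⟩
        obtain ⟨q, hq⟩ : ∃ q, p = q + 2 := ⟨p - 2, by have := hp.two_le; omega⟩
        rw [hn, hm, hq] at hfinal
        rw [hm, hq] at hcon
        have e1 : b + m + 1 - b = m + 1 := by omega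
        have e2 : n + 1 - 1 = n := by omega
        have e3 : q + 2 - 1 = q + 1 := by omega
        rw [e1, e2] at hfinal
        rw [e3] at hcon
        nlinarith
    refine ⟨hmain, ?_⟩
    by_contra hcon
    push Not at hcon
    obtain ⟨q, hq⟩ : ∃ q, p = q + 2 := ⟨p - 2, by have := hp.two_le; omega⟩
    obtain ⟨m, hm⟩ : ∃ m, c - 1 = 2 * b + m := ⟨c - 1 - 2 * b, by omega⟩
    rw [hm, hq] at hmain
    have e3 : q + 2 - 1 = q + 1 := by omega
    rw [e3] at hmain
    nlinarith

end Cfsg.Agent.S3778
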