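import Mathlib
import Cfsg.Statements.S3783
import Cfsg.Agent.Lib.Helper19.PLength
import Cfsg.Agent.Lib.Helper23.PSolvable
import Cfsg.Agent.Lib.Helper4.PLenExpD

set_option autoImplicit false
open Cfsg

namespace Cfsg.Agent.S3783

open Subgroup Cfsg.Agent.Helper19.PLen Cfsg.Agent.Helper23.PSolv Cfsg.Agent.Helper4.PLenExp

universe u

/-- quotient by a nontrivial normal subgroup is smaller -/
theorem card_quotient_lt {G : Type u} [Group G] [Finite G] (N : Subgroup G) [N.Normal]
    (hN : N ≠ ⊥) : Nat.card (G ⧸ N) < Nat.card G := by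
  have h1 := Subgroup.card_mul_index N
  rw [Subgroup.index_eq_card] at h1
  have h2 : 1 < Nat.card N := (Subgroup.one_lt_card_iff_ne_bot N).2 hN
  have h3 : 0 < Nat.card (G ⧸ N) := Nat.card_pos
  nlinarith

/-- the abelian Sylow hypothesis passes to quotients -/
theorem ab_quotient {G : Type u} [Group G] [Finite G] {p : ℕ} (N : Subgroup G) [N.Normal]
    (hab : ∀ (q : ℕ) [Fact q.Prime], q ≠ p → ∀ Q : Sylow q G, ∀ a ∈ Q, ∀ b ∈ Q, a * b = b * a) :
    ∀ (q : ℕ) [Fact q.Prime], q ≠ p → ∀ Q : Sylow q (G ⧸ N), ∀ a ∈ Q, ∀ b ∈ Q, a * b = b * a := by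
  intro q _ hqp Q' a ha b hb
  obtain ⟨S⟩ : Nonempty (Sylow q G) := inferInstance
  obtain ⟨g, s, hs, rfl⟩ := sylow_quotient_elem N S Q' a ha
  -- use the same conjugating element: both lie in g • S'
  set S' : Sylow q (G ⧸ N) := S.mapSurjective (QuotientGroup.mk'_surjective N) with hS'
  obtain ⟨g', hg'⟩ := MulAction.exists_smul_eq (G ⧸ N) S' Q'
  have key : ∀ c ∈ Q', ∃ t ∈ S, c = g' * QuotientGroup.mk' N t * g'⁻¹ := by
    intro c hc
    rw [← hg', Cfsg.Agent.Helper4.RedSyl.mem_smul_sylow_iff] at hc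
    have h1 : g'⁻¹ * c * g' ∈ (S : Subgroup G).map (QuotientGroup.mk' N) := hc
    obtain ⟨t, ht, htx⟩ := h1
    refine ⟨t, ht, ?_⟩
    rw [htx]
    group
  obtain ⟨t₁, ht₁, e₁⟩ := key _ ha
  obtain ⟨t₂, ht₂, e₂⟩ := key _ hb
  rw [e₁, e₂]
  have hc := hab q hqp S t₁ ht₁ t₂ ht₂
  calc g' * QuotientGroup.mk' N t₁ * g'⁻¹ * (g' * QuotientGroup.mk' N t₂ * g'⁻¹)
      = g' * QuotientGroup.mk' N (t₁ * t₂) * g'⁻¹ := by rw [map_mul]; group
    _ = g' * QuotientGroup.mk' N (t₂ * t₁) * g'⁻¹ := by rw [hc]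
    _ = g' * QuotientGroup.mk' N t₂ * g'⁻¹ * (g' * QuotientGroup.mk' N t₁ * g'⁻¹) := by
        rw [map_mul]; group

/-- the exponent hypothesis in terms of `p`-elements -/
theorem exp_elem {G : Type u} [Group G] [Finite G] {p : ℕ} [Fact p.Prime] (n : ℕ)
    (hexp : ∀ P : Sylow p G, ∀ x ∈ (P : Subgroup G), x ^ p ^ n = 1) :
    ∀ z : G, (∃ k : ℕ, z ^ p ^ k = 1) → z ^ p ^ n = 1 := by
  intro z hz
  obtain ⟨P, hP⟩ := (isPGroup_zpowers_of_pow z hz).exists_le_sylow
  exact hexp P z (hP (mem_zpowers z))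

theorem aux {p : ℕ} [hp : Fact p.Prime] : ∀ (m : ℕ) (G : Type u) [Group G] [Finite G],
    Nat.card G = m → IsPSolvable p G →
    (∀ (q : ℕ) [Fact q.Prime], q ≠ p → ∀ Q : Sylow q G, ∀ a ∈ Q, ∀ b ∈ Q, a * b = b * a) →
    ∀ n : ℕ, (∀ P : Sylow p G, ∀ x ∈ (P : Subgroup G), x ^ p ^ n = 1) → PLengthLE p n G := by
  intro m
  induction m using Nat.strong_induction_on with
  | _ m ih =>
  intro G _ _ hm hsol hab n hexp
  by_cases hO : pPrimeCore p G = ⊥
  · -- O_{p'}(G) = 1
    set H := pCore p G with hH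
    have hHn : H.Normal := inferInstance
    have hHp : IsPGroup p H := Cfsg.Agent.Helper10.pCore_isPGroup p
    have hc : centralizer (H : Set G) ≤ H := centralizer_pCore_le hsol hO
    by_cases hHbot : H = ⊥
    · have htop : (⊤ : Subgroup G) ≤ ⊥ := by
        have : centralizer ((⊥ : Subgroup G) : Set G) = ⊤ := by
          rw [Subgroup.coe_bot]; exact Subgroup.centralizer_eq_top_iff_subset.2 (by
            intro x hx; rw [Set.mem_singleton_iff] at hx; rw [hx]; exact Subgroup.one_mem _)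
        rw [hHbot, this] at hc
        exact hc
      have hcard : Nat.card G = 1 := by
        have h1 : (⊤ : Subgroup G) = ⊥ := le_bot_iff.1 htop
        rw [← Subgroup.card_top (G := G), h1]
        exact Subgroup.card_bot
      have h0 : PLengthLE p 0 G :=
        plengthLE_zero_of_coprime (by rw [hcard]; exact Nat.coprime_one_left p)
      exact plengthLE_mono (Nat.zero_le _) h0
    · -- n is positive
      have helem := exp_elem n hexp
      obtain ⟨n', rfl⟩ : ∃ n' : ℕ, n = n' + 1 := by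
        rcases n with _ | n'
        · exfalso
          apply hHbot
          rw [eq_bot_iff]
          intro x hx
          have h1 := helem x (exists_pow_of_mem_isPGroup hHp hx)
          rw [pow_zero, pow_one] at h1
          rw [Subgroup.mem_bot]
          exact h1
        · exact ⟨n', rfl⟩
      have hlt : Nat.card (G ⧸ H) < m := hm ▸ card_quotient_lt H hHbot
      have hsolQ : IsPSolvable p (G ⧸ H) := isPSolvable_quotient H hsol
      have habQ := ab_quotient H hab
      have hexpQ : ∀ P : Sylow p (G ⧸ H), ∀ x ∈ (P : Subgroup (G ⧸ H)), x ^ p ^ n' = 1 := by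
        intro P' x' hx'
        obtain ⟨S⟩ : Nonempty (Sylow p G) := inferInstance
        obtain ⟨g', s, hs, rfl⟩ := sylow_quotient_elem H S P' x' hx'
        have hsp : ∃ k : ℕ, s ^ p ^ k = 1 := exists_pow_of_mem_isPGroup S.2 hs
        have h1 : s ^ p ^ n' ∈ H := pow_mem_pCore hsol hO hab n' helem s hsp
        have h2 : (QuotientGroup.mk' H s) ^ p ^ n' = 1 := by
          rw [← map_pow]
          exact (QuotientGroup.eq_one_iff _).mpr h1
        have h3 : (g' * QuotientGroup.mk' H s * g'⁻¹) ^ p ^ n' =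
            g' * (QuotientGroup.mk' H s) ^ p ^ n' * g'⁻¹ := conj_pow
        rw [h3, h2]
        group
      have hih := ih _ hlt (G ⧸ H) rfl hsolQ habQ n' hexpQ
      have hHlen : PLengthLE p 1 H := plengthLE_one_of_isPGroup hHp
      have hadd := plengthLE_add H hHlen hih
      rwa [add_comm] at hadd
  · -- O_{p'}(G) ≠ 1
    set N := pPrimeCore p G with hN
    have hNn : N.Normal := inferInstance
    have hlt : Nat.card (G ⧸ N) < m := hm ▸ card_quotient_lt N hO
    have hsolQ : IsPSolvable p (G ⧸ N) := isPSolvable_quotient N hsol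
    have habQ := ab_quotient N hab
    have hexpQ : ∀ P : Sylow p (G ⧸ N), ∀ x ∈ (P : Subgroup (G ⧸ N)), x ^ p ^ n = 1 := by
      intro P' x' hx'
      obtain ⟨S⟩ : Nonempty (Sylow p G) := inferInstance
      obtain ⟨g', s, hs, rfl⟩ := sylow_quotient_elem N S P' x' hx'
      have h2 : (QuotientGroup.mk' N s) ^ p ^ n = 1 := by
        rw [← map_pow, hexp S s hs, map_one]
      have h3 : (g' * QuotientGroup.mk' N s * g'⁻¹) ^ p ^ n =
          g' * (QuotientGroup.mk' N s) ^ p ^ n * g'⁻¹ := conj_pow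
      rw [h3, h2]
      group
    have hih := ih _ hlt (G ⧸ N) rfl hsolQ habQ n hexpQ
    have hNlen : PLengthLE p 0 N :=
      plengthLE_zero_of_coprime (Cfsg.Agent.Helper22.card_pPrimeCore_coprime p)
    have hadd := plengthLE_add N hNlen hih
    rwa [zero_add] at hadd

/-- Let G be a finite p-soluble group in which, for every prime q ≠ p, the Sylow q-subgroups are abelian. If the Sylow p-subgroups of G have exponent dividing p^n, then G has p-length at most n. -/
theorem result {G : Type*} [Group G] [Finite G] {p : ℕ} [Fact p.Prime] (hG : Cfsg.IsPSolvable p G) (hab : ∀ (q : ℕ) [Fact q.Prime], q ≠ p → ∀ Q : Sylow q G, IsMulCommutative (Q : Subgroup G)) (n : ℕ) (hexp : ∀ (P : Sylow p G), ∀ x ∈ (P : Subgroup G), x ^ p ^ n = 1) : Cfsg.PLengthLE p n G := by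
  refine aux (Nat.card G) G rfl hG ?_ n hexp
  intro q _ hqp Q a ha b hb
  have h := hab q hqp Q
  have := h.is_comm.comm (⟨a, ha⟩ : ↥(Q : Subgroup G)) ⟨b, hb⟩
  exact congrArg Subtype.val this

end Cfsg.Agent.S3783
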