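import Mathlib
import Cfsg.Statements.S3784

set_option autoImplicit false
open Cfsg

namespace Cfsg.Agent.S3784

open Finset

theorem geom_parity (x : ℤ) (hx : Odd x) (n : ℕ) : Odd (∑ i ∈ range n, x ^ i) ↔ Odd n := by
  induction n with
  | zero => simp
  | succ n ih =>
    rw [Finset.sum_range_succ, Int.odd_add', Nat.odd_add_one]
    have hxn : Odd (x ^ n) := hx.pow
    simp only [hxn, true_iff]
    rw [← Int.not_odd_iff_even, ih]

theorem odd_dvd_two_pow (T : ℤ) (hT : Odd T) (m : ℕ) (h : T ∣ 2 ^ m) : T = 1 ∨ T = -1 := by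
  have h1 : T.natAbs ∣ 2 ^ m := by
    have := Int.natAbs_dvd_natAbs.mpr h
    simpa [Int.natAbs_pow] using this
  obtain ⟨j, -, hj⟩ := (Nat.dvd_prime_pow Nat.prime_two).mp h1
  have hodd : Odd T.natAbs := Int.natAbs_odd.mpr hT
  have hj0 : j = 0 := by
    by_contra hne
    rw [hj] at hodd
    have : Even (2 ^ j) := (Nat.even_pow' hne).mpr even_two
    exact (Nat.not_even_iff_odd.mpr hodd) this
  rw [hj0, pow_zero] at hj
  exact Int.natAbs_eq_natAbs_iff.mp (by simpa using hj)

/-- `p` odd, `a` odd, `p ^ a = 2 ^ b + 1`, `p ≥ 3` implies `a = 1`. -/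
theorem odd_exp_case (p a b : ℕ) (hp3 : 3 ≤ p) (hpo : Odd p) (hao : Odd a)
    (h : p ^ a = 2 ^ b + 1) : a = 1 := by
  by_contra ha1
  have ha2 : 2 ≤ a := by
    rcases hao with ⟨k, hk⟩
    omega
  have hx : Odd (p : ℤ) := by exact_mod_cast hpo
  have hS := (geom_parity (p : ℤ) hx a).mpr hao
  have hmul := mul_geom_sum (p : ℤ) a
  have hdvd : (∑ i ∈ range a, (p : ℤ) ^ i) ∣ 2 ^ b := by
    refine ⟨(p : ℤ) - 1, ?_⟩
    have : ((p : ℤ) ^ a) = 2 ^ b + 1 := by exact_mod_cast h
    rw [mul_comm, hmul, this]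
    ring
  -- the sum is at least 1 + p
  have hge : (1 : ℤ) + p ≤ ∑ i ∈ range a, (p : ℤ) ^ i := by
    have hsub : range 2 ⊆ range a := by
      intro i hi
      simp only [mem_range] at hi ⊢
      omega
    have := Finset.sum_le_sum_of_subset_of_nonneg hsub
      (f := fun i => (p : ℤ) ^ i) (fun i _ _ => by positivity)
    simpa [Finset.sum_range_succ] using this
  rcases odd_dvd_two_pow _ hS b hdvd with h1 | h1
  · rw [h1] at hge
    have : (0 : ℤ) ≤ p := by positivity
    omega
  · rw [h1] at hge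
    have : (0 : ℤ) ≤ p := by positivity
    omega

/-- `q` odd, `b` odd, `2 ^ a = q ^ b + 1`, `q ≥ 3` implies `b = 1`. -/
theorem odd_exp_case' (q a b : ℕ) (hq3 : 3 ≤ q) (hqo : Odd q) (hbo : Odd b)
    (h : 2 ^ a = q ^ b + 1) : b = 1 := by
  have hx : Odd (-(q : ℤ)) := by
    rw [odd_neg]
    exact_mod_cast hqo
  have hS := (geom_parity (-(q : ℤ)) hx b).mpr hbo
  have hmul := mul_neg_geom_sum (-(q : ℤ)) b
  have hpow : (-(q : ℤ)) ^ b = -((q : ℤ) ^ b) := hbo.neg_pow _
  have hZ : ((2 : ℤ) ^ a) = (q : ℤ) ^ b + 1 := by exact_mod_cast h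
  have hprod : (1 + (q : ℤ)) * (∑ i ∈ range b, (-(q : ℤ)) ^ i) = 2 ^ a := by
    have : (1 - -(q : ℤ)) = 1 + q := by ring
    rw [this] at hmul
    rw [hmul, hpow, hZ]
    ring
  have hdvd : (∑ i ∈ range b, (-(q : ℤ)) ^ i) ∣ 2 ^ a := ⟨1 + (q : ℤ), by rw [← hprod]; ring⟩
  rcases odd_dvd_two_pow _ hS a hdvd with h1 | h1
  · rw [h1, mul_one, hZ] at hprod
    have hqq : (q : ℤ) ^ b = q := by linarith
    have hqq' : q ^ b = q ^ 1 := by
      rw [pow_one]
      exact_mod_cast hqq
    exact Nat.pow_right_injective (by omega : 2 ≤ q) hqq'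
  · rw [h1, hZ] at hprod
    have : (0 : ℤ) < (q : ℤ) ^ b := by positivity
    have : (0 : ℤ) ≤ q := by positivity
    nlinarith

/-- `x` odd, `x ^ 2 = 2 ^ b + 1` implies `x = 3`. -/
theorem sq_case (x b : ℕ) (hxo : Odd x) (h : x ^ 2 = 2 ^ b + 1) : x = 3 := by
  have hx1 : 1 ≤ x := hxo.pos
  have hx2 : x ≠ 1 := by
    rintro rfl
    have : 0 < 2 ^ b := by positivity
    omega
  have hx3 : 3 ≤ x := by
    rcases hxo with ⟨k, hk⟩
    omega
  have hprod : (x - 1) * (x + 1) = 2 ^ b := by
    zify [hx1]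
    have : ((x : ℤ) ^ 2) = 2 ^ b + 1 := by exact_mod_cast h
    linear_combination this
  have hd1 : x - 1 ∣ 2 ^ b := ⟨x + 1, hprod.symm⟩
  have hd2 : x + 1 ∣ 2 ^ b := ⟨x - 1, by rw [← hprod]; ring⟩
  obtain ⟨u, -, hu⟩ := (Nat.dvd_prime_pow Nat.prime_two).mp hd1
  obtain ⟨v, -, hv⟩ := (Nat.dvd_prime_pow Nat.prime_two).mp hd2
  have huv : 2 ^ u + 2 = 2 ^ v := by omega
  -- u = 1
  have hu1 : u = 1 := by
    rcases Nat.lt_or_ge u 2 with hlt | hge
    · interval_cases u
      · -- x - 1 = 1, x = 2, not odd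
        simp at hu
        omega
      · rfl
    · exfalso
      obtain ⟨k, rfl⟩ : ∃ k, u = k + 2 := ⟨u - 2, by omega⟩
      have h4 : 2 ^ (k + 2) = 4 * 2 ^ k := by ring
      have hv2 : 2 ≤ v := by
        by_contra hlt
        have : v = 0 ∨ v = 1 := by omega
        have hpos : 0 < 2 ^ k := by positivity
        rcases this with rfl | rfl <;> omega
      obtain ⟨l, rfl⟩ : ∃ l, v = l + 2 := ⟨v - 2, by omega⟩
      have h4' : 2 ^ (l + 2) = 4 * 2 ^ l := by ring
      omega
  rw [hu1] at hu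
  omega

/-- Let p, q be primes and a, b positive integers with p^a = q^b + 1. Then either p = 2, b = 1, a is prime and q = 2^a − 1; or q = 2, a = 1, b is a power of 2 and p = 2^b + 1; or p^a = 9 and q^b = 8. -/
theorem result (p q a b : ℕ) (hp : p.Prime) (hq : q.Prime) (ha : 1 ≤ a) (hb : 1 ≤ b) (h : p ^ a = q ^ b + 1) : (p = 2 ∧ b = 1 ∧ a.Prime ∧ q + 1 = 2 ^ a) ∨ (q = 2 ∧ a = 1 ∧ (∃ m : ℕ, b = 2 ^ m) ∧ p = 2 ^ b + 1) ∨ (p ^ a = 9 ∧ q ^ b = 8) := by
  have ha0 : a ≠ 0 := by omega
  have hb0 : b ≠ 0 := by omega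
  rcases hp.eq_two_or_odd' with rfl | hpo
  · -- p = 2
    rcases hq.eq_two_or_odd' with rfl | hqo
    · exfalso
      have h1 : Even (2 ^ a) := (Nat.even_pow' ha0).mpr even_two
      have h2 : Even (2 ^ b) := (Nat.even_pow' hb0).mpr even_two
      rw [h] at h1
      rw [Nat.even_add_one] at h1
      exact h1 h2
    · have hq3 : 3 ≤ q := by
        have := hq.two_le
        rcases hqo with ⟨k, hk⟩
        omega
      left
      have hb1 : b = 1 := by
        rcases Nat.even_or_odd b with hbe | hbo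
        · exfalso
          obtain ⟨c, hc⟩ := hbe
          have hc' : b = 2 * c := by omega
          have hsq : q ^ b = (q ^ c) ^ 2 := by rw [hc', mul_comm, pow_mul]
          have hmod : (q ^ c) ^ 2 % 4 = 1 := by
            obtain ⟨k, hk⟩ : Odd (q ^ c) := hqo.pow
            rw [hk]
            have : (2 * k + 1) ^ 2 = 4 * (k * k + k) + 1 := by ring
            omega
          have ha1 : a = 1 := by
            by_contra hne
            obtain ⟨k, rfl⟩ : ∃ k, a = k + 2 := ⟨a - 2, by omega⟩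
            have h4 : 2 ^ (k + 2) = 4 * 2 ^ k := by ring
            omega
          rw [ha1, pow_one] at h
          have : 2 ≤ q ^ b := by
            calc 2 ≤ q := hq.two_le
              _ = q ^ 1 := (pow_one q).symm
              _ ≤ q ^ b := Nat.pow_le_pow_right hq.pos hb
          omega
        · exact odd_exp_case' q a b hq3 hqo hbo h
      refine ⟨rfl, hb1, ?_, ?_⟩
      · rw [hb1, pow_one] at h
        have ha1 : a ≠ 1 := by
          rintro rfl
          have := hq.two_le
          omega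
        have hP : (2 ^ a - 1).Prime := by
          have : 2 ^ a - 1 = q := by omega
          rw [this]; exact hq
        exact (Nat.prime_of_pow_sub_one_prime ha1 hP).2
      · rw [hb1, pow_one] at h
        exact h.symm
  · -- p odd
    have hp3 : 3 ≤ p := by
      have := hp.two_le
      rcases hpo with ⟨k, hk⟩
      omega
    rcases hq.eq_two_or_odd' with rfl | hqo
    · right
      by_cases ha1 : a = 1
      · left
        rw [ha1, pow_one] at h
        refine ⟨rfl, ha1, ?_, h⟩
        exact Nat.pow_of_pow_add_prime (by norm_num) hb0 (h ▸ hp)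
      · right
        rcases Nat.even_or_odd a with hae | hao
        · obtain ⟨c, hc⟩ := hae
          have hc' : a = c * 2 := by omega
          have hsq : p ^ a = (p ^ c) ^ 2 := by rw [hc', pow_mul]
          have hx := sq_case (p ^ c) b hpo.pow (hsq ▸ h)
          rw [hsq, hx] at h
          rw [hsq, hx]
          constructor
          · norm_num
          · omega
        · exact absurd (odd_exp_case p a b hp3 hpo hao h) ha1
    · exfalso
      have h1 : Odd (p ^ a) := hpo.pow
      have h2 : Odd (q ^ b) := hqo.pow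
      rw [h] at h1
      rw [Nat.odd_add_one] at h1
      exact h1 h2

end Cfsg.Agent.S3784
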