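import Mathlib
import Cfsg.Statements.S3785
import Cfsg.Agent.Lib.Helper10.OmegaLemma
import Cfsg.Agent.Lib.Helper1.FittingSolvable
import Cfsg.Agent.Lib.Helper20.PrimaryParts
import Cfsg.Agent.Lib.Helper7.Fitting

set_option autoImplicit false
open Cfsg

namespace Cfsg.Agent.S3785

variable {G : Type*} [Group G]

/-- To show `T ≤ S` it suffices to treat the elements of prime power order. -/
theorem primary_induction [Finite G] (T S : Subgroup G)
    (h : ∀ x ∈ T, (∃ q : ℕ, q.Prime ∧ ∃ k : ℕ, orderOf x = q ^ k) → x ∈ S) : T ≤ S := by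
  suffices H : ∀ n : ℕ, ∀ x ∈ T, orderOf x = n → x ∈ S from fun x hx => H _ x hx rfl
  intro n
  induction n using Nat.strong_induction_on with
  | _ n ih =>
  intro x hxT hn
  by_cases h1 : n = 1
  · rw [h1] at hn
    rw [orderOf_eq_one_iff.mp hn]
    exact S.one_mem
  · have hn0 : 0 < n := hn ▸ orderOf_pos x
    obtain ⟨q, hq, hqn⟩ := Nat.exists_prime_and_dvd h1
    have hqf : Fact q.Prime := ⟨hq⟩
    obtain ⟨u, v, huv, -, ⟨k, hk⟩, hv, hu', hv'⟩ :=
      Cfsg.Agent.Helper20.exists_pPart_decomp q x (orderOf_pos x)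
    have hzT : Subgroup.zpowers x ≤ T := Subgroup.zpowers_le.mpr hxT
    have hvdvd : orderOf v ∣ n := by
      rw [← hn]
      exact orderOf_dvd_of_mem_zpowers hv'
    have hvlt : orderOf v < n := by
      apply lt_of_le_of_ne (Nat.le_of_dvd hn0 hvdvd)
      intro heq
      rw [heq] at hv
      exact hq.one_lt.ne' (Nat.Coprime.eq_one_of_dvd hv.symm hqn)
    rw [huv]
    exact S.mul_mem (h u (hzT hu') ⟨q, hq, k, hk⟩) (ih _ hvlt v (hzT hv') rfl)

/-- The centralizer of a conjugation-invariant set is normal. -/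
theorem normal_centralizer_of_conj_invariant (s : Set G)
    (hs : ∀ g x : G, x ∈ s → g * x * g⁻¹ ∈ s) : (Subgroup.centralizer s).Normal := by
  constructor
  intro n hn g
  rw [Subgroup.mem_centralizer_iff] at hn ⊢
  intro h hh
  have hh' : g⁻¹ * h * g ∈ s := by
    have := hs g⁻¹ h hh
    rwa [inv_inv] at this
  have h1 := hn _ hh'
  have e1 : h * (g * n * g⁻¹) = g * ((g⁻¹ * h * g) * n) * g⁻¹ := by group
  have e2 : g * n * g⁻¹ * h = g * (n * (g⁻¹ * h * g)) * g⁻¹ := by group
  rw [e1, e2, h1]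

theorem orderOf_conj' (g x : G) : orderOf (g * x * g⁻¹) = orderOf x := by
  have e : g * x * g⁻¹ = (MulAut.conj g) x := by simp
  rw [e, MulEquiv.orderOf_eq]

/-- The normal Sylow subgroups of the Fitting subgroup. -/
theorem exists_sylow_fitting [Finite G] (p : ℕ) (hp : p.Prime) :
    ∃ P : Subgroup G, P.Normal ∧ IsPGroup p P ∧ P ≤ Cfsg.fittingSubgroup G ∧
      ∀ x ∈ Cfsg.fittingSubgroup G, (∃ k : ℕ, orderOf x = p ^ k) → x ∈ P := by
  have hpf : Fact p.Prime := ⟨hp⟩
  have hFn : (Cfsg.fittingSubgroup G).Normal := Cfsg.Agent.Helper7.fittingSubgroup_normal'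
  have hFnil : Group.IsNilpotent ↥(Cfsg.fittingSubgroup G) :=
    Cfsg.Agent.Helper7.fittingSubgroup_isNilpotent
  obtain ⟨Q⟩ : Nonempty (Sylow p ↥(Cfsg.fittingSubgroup G)) := inferInstance
  have hQn : (Q : Subgroup ↥(Cfsg.fittingSubgroup G)).Normal :=
    Sylow.normal_of_normalizerCondition Group.normalizerCondition_of_isNilpotent Q
  have hQc : (Q : Subgroup ↥(Cfsg.fittingSubgroup G)).Characteristic :=
    Sylow.characteristic_of_normal Q hQn
  refine ⟨(Q : Subgroup ↥(Cfsg.fittingSubgroup G)).map (Cfsg.fittingSubgroup G).subtype,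
    ConjAct.normal_of_characteristic_of_normal, Q.2.map _, Subgroup.map_subtype_le _, ?_⟩
  rintro x hx ⟨k, hk⟩
  have h2 : IsPGroup p (Subgroup.zpowers (⟨x, hx⟩ : ↥(Cfsg.fittingSubgroup G))) :=
    IsPGroup.of_card (n := k) (by rw [Nat.card_zpowers, Subgroup.orderOf_mk, hk])
  obtain ⟨Q', hQ'⟩ := h2.exists_le_sylow
  have hu := Sylow.unique_of_normal Q hQn
  have hQQ : Q' = Q := Subsingleton.elim _ _
  rw [hQQ] at hQ'
  exact Subgroup.mem_map.mpr ⟨⟨x, hx⟩, hQ' (Subgroup.mem_zpowers _), rfl⟩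

/-- Coprime elements centralizing the elements of prime order of `F(G)` centralize the Sylow
subgroups of `F(G)`, when `F(G)` has odd order. -/
theorem mem_centralizer_sylow [Finite G] (hodd : Odd (Nat.card (Cfsg.fittingSubgroup G)))
    {p : ℕ} (hp : p.Prime) (P : Subgroup G) (hPn : P.Normal) (hPp : IsPGroup p P)
    (hPF : P ≤ Cfsg.fittingSubgroup G) (a : G) (hcop : (orderOf a).Coprime p)
    (ha : ∀ x ∈ Cfsg.fittingSubgroup G, (orderOf x).Prime → a * x = x * a) :
    a ∈ Subgroup.centralizer (P : Set G) := by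
  have hpf : Fact p.Prime := ⟨hp⟩
  apply Cfsg.Agent.Helper10.mem_centralizer_of_omega P hPp a hcop
  · rw [Subgroup.normalizer_eq_top]
    exact Subgroup.mem_top a
  · intro x hx hΩ
    by_cases hx1 : x = 1
    · rw [hx1, mul_one, one_mul]
    rcases hΩ with h1 | ⟨_, h4⟩
    · have hord : orderOf x = p := orderOf_eq_prime h1 hx1
      exact ha x (hPF hx) (by rw [hord]; exact hp)
    · exfalso
      apply hx1
      have hd1 : orderOf x ∣ 4 := orderOf_dvd_of_pow_eq_one h4
      have hd2 : orderOf x ∣ Nat.card (Cfsg.fittingSubgroup G) :=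
        Subgroup.orderOf_dvd_natCard _ (hPF hx)
      have hc : (Nat.card (Cfsg.fittingSubgroup G)).Coprime 4 := by
        have : (4 : ℕ) = 2 ^ 2 := by norm_num
        rw [this]
        exact Nat.Coprime.pow_right 2 (Nat.coprime_two_right.mpr hodd)
      exact orderOf_eq_one_iff.mp (Nat.eq_one_of_dvd_coprimes hc hd2 hd1)


/-- A normal subgroup all of whose `q'`-elements are central in it and whose elements are
products of commuting `q`- and `q'`-parts is nilpotent. -/
theorem isNilpotent_of_pPrime_central [Finite G] (q : ℕ) (hq : q.Prime) (D : Subgroup G)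
    (h : ∀ y ∈ D, (orderOf y).Coprime q → ∀ d ∈ D, d * y = y * d) :
    Group.IsNilpotent ↥D := by
  have hqf : Fact q.Prime := ⟨hq⟩
  have hP : IsPGroup q (↥D ⧸ Subgroup.center ↥D) := by
    intro z
    obtain ⟨d, rfl⟩ := QuotientGroup.mk_surjective z
    obtain ⟨u, v, huv, -, ⟨k, hk⟩, hv, -, -⟩ :=
      Cfsg.Agent.Helper20.exists_pPart_decomp q d (orderOf_pos d)
    have hvc : v ∈ Subgroup.center ↥D := by
      rw [Subgroup.mem_center_iff]
      intro e
      apply Subtype.ext
      have hv' : (orderOf (v : G)).Coprime q := by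
        rw [Subgroup.orderOf_coe]
        exact hv
      exact h v v.2 hv' e e.2
    refine ⟨k, ?_⟩
    have e1 : (QuotientGroup.mk d : ↥D ⧸ Subgroup.center ↥D) = QuotientGroup.mk u := by
      rw [huv, QuotientGroup.mk_mul, (QuotientGroup.eq_one_iff v).mpr hvc, mul_one]
    rw [e1, ← QuotientGroup.mk_pow, ← hk, pow_orderOf_eq_one, QuotientGroup.mk_one]
  exact Group.of_quotient_center_nilpotent hP.isNilpotent

theorem result {G : Type*} [Group G] [Finite G] (hG : Group.IsSolvable G) (hodd : Odd (Nat.card (Cfsg.fittingSubgroup G))) (g : G) (hg : ∀ x ∈ Cfsg.fittingSubgroup G, (orderOf x).Prime → g * x = x * g) : g ∈ Cfsg.fittingSubgroup G := by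
  have hGs : Group.IsSolvable G := hG
  have hFn : (Cfsg.fittingSubgroup G).Normal := Cfsg.Agent.Helper7.fittingSubgroup_normal'
  -- the centralizer of the prime order elements
  obtain ⟨Ω, hΩ⟩ : ∃ Ω : Set G, Ω = {x | x ∈ Cfsg.fittingSubgroup G ∧ (orderOf x).Prime} :=
    ⟨_, rfl⟩
  have hΩinv : ∀ a x : G, x ∈ Ω → a * x * a⁻¹ ∈ Ω := by
    intro a x hx
    rw [hΩ] at hx ⊢
    exact ⟨hFn.conj_mem x hx.1 a, by rw [orderOf_conj']; exact hx.2⟩
  have hCn : (Subgroup.centralizer Ω).Normal := normal_centralizer_of_conj_invariant Ω hΩinv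
  have hCmem : ∀ y : G, y ∈ Subgroup.centralizer Ω ↔
      ∀ x ∈ Cfsg.fittingSubgroup G, (orderOf x).Prime → y * x = x * y := by
    intro y
    rw [Subgroup.mem_centralizer_iff, hΩ]
    constructor
    · intro h x hx hxp
      exact (h x ⟨hx, hxp⟩).symm
    · rintro h x ⟨hx, hxp⟩
      exact (h x hx hxp).symm
  have hgC : g ∈ Subgroup.centralizer Ω := (hCmem g).mpr hg
  suffices hCF : Subgroup.centralizer Ω ≤ Cfsg.fittingSubgroup G from hCF hgC
  apply primary_induction
  rintro x hxC ⟨q, hq, k, hk⟩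
  have hqf : Fact q.Prime := ⟨hq⟩
  -- the q'-elements of F
  obtain ⟨Sq, hSq⟩ : ∃ Sq : Set G,
      Sq = {f | f ∈ Cfsg.fittingSubgroup G ∧ (orderOf f).Coprime q} := ⟨_, rfl⟩
  have hSqinv : ∀ a f : G, f ∈ Sq → a * f * a⁻¹ ∈ Sq := by
    intro a f hf
    rw [hSq] at hf ⊢
    exact ⟨hFn.conj_mem f hf.1 a, by rw [orderOf_conj']; exact hf.2⟩
  have hEn : (Subgroup.centralizer Sq).Normal := normal_centralizer_of_conj_invariant Sq hSqinv
  have hDn : (Subgroup.centralizer Ω ⊓ Subgroup.centralizer Sq).Normal :=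
    Subgroup.normal_inf_normal _ _
  -- Sylow subgroups of F
  -- an element of `C` of order coprime to `r` centralizes `P_r`
  have key : ∀ (r : ℕ), r.Prime → ∀ y ∈ Subgroup.centralizer Ω, (orderOf y).Coprime r →
      ∀ f ∈ Cfsg.fittingSubgroup G, (∃ j : ℕ, orderOf f = r ^ j) → y * f = f * y := by
    intro r hr y hy hyr f hf hfj
    obtain ⟨P, hPn, hPp, hPF, hPall⟩ := exists_sylow_fitting (G := G) r hr
    have h1 := mem_centralizer_sylow hodd hr P hPn hPp hPF y hyr ((hCmem y).mp hy)
    rw [Subgroup.mem_centralizer_iff] at h1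
    exact (h1 f (hPall f hf hfj)).symm
  -- (a) x ∈ D
  have hxD : x ∈ Subgroup.centralizer Ω ⊓ Subgroup.centralizer Sq := by
    refine Subgroup.mem_inf.mpr ⟨hxC, ?_⟩
    rw [Subgroup.mem_centralizer_iff]
    intro f hf
    rw [hSq] at hf
    obtain ⟨hfF, hfq⟩ := hf
    have h2 : Subgroup.zpowers f ≤ Subgroup.centralizer ({x} : Set G) := by
      apply primary_induction
      rintro f' hf' ⟨r, hr, j, hj⟩
      rw [Subgroup.mem_centralizer_iff]
      intro x' hx'
      rw [Set.mem_singleton_iff] at hx'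
      rw [hx']
      have hf'F : f' ∈ Cfsg.fittingSubgroup G := (Subgroup.zpowers_le.mpr hfF) hf'
      have hdvd : orderOf f' ∣ orderOf f := orderOf_dvd_of_mem_zpowers hf'
      by_cases hj0 : j = 0
      · rw [hj0, pow_zero, orderOf_eq_one_iff] at hj
        rw [hj, mul_one, one_mul]
      · have hrq : r ≠ q := by
          intro hrq
          have : q ∣ orderOf f := by
            apply dvd_trans _ hdvd
            rw [hj, hrq]
            exact dvd_pow_self q hj0
          exact hq.one_lt.ne' (Nat.Coprime.eq_one_of_dvd hfq.symm this)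
        have hxr : (orderOf x).Coprime r := by
          rw [hk]
          exact Nat.Coprime.pow_left k ((Nat.coprime_primes hq hr).mpr (Ne.symm hrq))
        exact key r hr x hxC hxr f' hf'F ⟨j, hj⟩
    have h3 := h2 (Subgroup.mem_zpowers f)
    rw [Subgroup.mem_centralizer_iff] at h3
    exact (h3 x rfl).symm
  -- (c) q'-elements of D are central in D
  have hcentral : ∀ y ∈ Subgroup.centralizer Ω ⊓ Subgroup.centralizer Sq, (orderOf y).Coprime q →
      ∀ d ∈ Subgroup.centralizer Ω ⊓ Subgroup.centralizer Sq, d * y = y * d := by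
    intro y hy hyq d hd
    rw [Subgroup.mem_inf] at hy hd
    have hyF : y ∈ Cfsg.fittingSubgroup G := by
      apply Cfsg.Agent.Helper1.centralizer_fittingSubgroup_le_of_isSolvable
      rw [Subgroup.mem_centralizer_iff]
      intro f hf
      have h2 : Cfsg.fittingSubgroup G ≤ Subgroup.centralizer ({y} : Set G) := by
        apply primary_induction
        rintro f' hf' ⟨r, hr, j, hj⟩
        rw [Subgroup.mem_centralizer_iff]
        intro y' hy'
        rw [Set.mem_singleton_iff] at hy'
        rw [hy']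
        by_cases hrq : r = q
        · rw [hrq] at hj
          exact key q hq y hy.1 hyq f' hf' ⟨j, hj⟩
        · have hf'S : f' ∈ Sq := by
            rw [hSq]
            refine ⟨hf', ?_⟩
            rw [hj]
            exact Nat.Coprime.pow_left j ((Nat.coprime_primes hr hq).mpr hrq)
          have h4 := hy.2
          rw [Subgroup.mem_centralizer_iff] at h4
          exact (h4 f' hf'S).symm
      have h3 := h2 hf
      rw [Subgroup.mem_centralizer_iff] at h3
      exact (h3 y rfl).symm
    have hyS : y ∈ Sq := by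
      rw [hSq]
      exact ⟨hyF, hyq⟩
    have h5 := hd.2
    rw [Subgroup.mem_centralizer_iff] at h5
    exact (h5 y hyS).symm
  have hDnil := isNilpotent_of_pPrime_central q hq _ hcentral
  exact Cfsg.Agent.Helper7.le_fittingSubgroup _ hDnil hxD

end Cfsg.Agent.S3785
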