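import Mathlib
import Cfsg.Statements.S3786
import Cfsg.Agent.Lib.Helper6.HHXFA
import Cfsg.Agent.Lib.Helper6.HHXEB
import Cfsg.Agent.Lib.Helper25.HHXFB
import Cfsg.Agent.Lib.Helper26.HHXYQ
import Cfsg.Agent.Lib.Helper28.HHXYQQ0

set_option autoImplicit false
open Cfsg

namespace Cfsg.Agent.S3786

open Cfsg.Agent.Helper3.HHX

/-- the exponent hypothesis in terms of `p`-elements -/
theorem exp_elem' {G : Type*} [Group G] [Finite G] {p : ℕ} [Fact p.Prime] (n : ℕ)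
    (hexp : ∀ P : Sylow p G, ∀ x ∈ (P : Subgroup G), x ^ p ^ n = 1) :
    ∀ z : G, (∃ k : ℕ, z ^ p ^ k = 1) → z ^ p ^ n = 1 := by
  intro z hz
  have hZ : IsPGroup p ↥(Subgroup.zpowers z) := by
    obtain ⟨k, hk⟩ := hz
    rintro ⟨g, hg⟩
    obtain ⟨j, rfl⟩ := Subgroup.mem_zpowers_iff.mp hg
    refine ⟨k, ?_⟩
    apply Subtype.ext
    rw [Subgroup.coe_pow]
    show (z ^ j) ^ p ^ k = 1
    rw [← zpow_natCast, ← zpow_mul, mul_comm, zpow_mul, zpow_natCast, hk, one_zpow]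
  obtain ⟨P, hP⟩ := hZ.exists_le_sylow
  exact hexp P z (hP (Subgroup.mem_zpowers z))

universe u

/-- part (b), assembled from the pieces EB, YQ, YQQ and FB -/
theorem aux_b' {p : ℕ} [hp : Fact p.Prime] (hp2 : p ≠ 2) :
    ∀ (m : ℕ) (G : Type u) [Group G] [Finite G],
    Nat.card G = m → IsPSolvable p G →
    ∀ n : ℕ, (∀ z : G, (∃ k : ℕ, z ^ p ^ k = 1) → z ^ p ^ n = 1) → PLengthLE p (2 * n) G :=
  aux_b_of
    (fun _ _ _ hsol hO n hexp hcomm x hx => pow_mem_pCore_of_comm hp2 hsol hO n hexp hcomm x hx)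
    (fun G _ _ hsol hO n hexp S hS s₁ s₂ hs₁ hs₂ =>
      yqq_of_comm (pPrimeCore p (G ⧸ pCore p G)) n
        (fun S' hS' t₁ ht₁ t₂ ht₂ => quotient_pow_comm hsol hO n hexp S' hS' t₁ t₂ ht₁ ht₂)
        S hS s₁ s₂ hs₁ hs₂)

/-- The Hall–Higman bound on p-length. Let p be an odd prime and G a finite p-soluble group whose Sylow p-subgroups have exponent dividing p^e. (a) If p is not of the form 2^k + 1, or if the Sylow 2-subgroups of G are abelian, then G has p-length at most e. (b) In every case G has p-length at most 2e. -/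
theorem result {G : Type*} [Group G] [Finite G] {p : ℕ} [Fact p.Prime] (hp : p ≠ 2) (hG : Cfsg.IsPSolvable p G) (e : ℕ) (hexp : ∀ (P : Sylow p G), ∀ x ∈ (P : Subgroup G), x ^ p ^ e = 1) : (((¬ ∃ k : ℕ, p = 2 ^ k + 1) ∨ ∀ S : Sylow 2 G, IsMulCommutative (S : Subgroup G)) → Cfsg.PLengthLE p e G) ∧ Cfsg.PLengthLE p (2 * e) G := by
  have helem := exp_elem' e hexp
  refine ⟨fun h => ?_, aux_b' hp (Nat.card G) G rfl hG e helem⟩
  refine aux_a hp (Nat.card G) G rfl hG ?_ e helem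
  rcases h with h | h
  · exact Or.inl h
  · right
    intro S a ha b hb
    have := (h S).is_comm.comm (⟨a, ha⟩ : ↥(S : Subgroup G)) ⟨b, hb⟩
    exact congrArg Subtype.val this

end Cfsg.Agent.S3786
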