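import Mathlib
import Cfsg.Statements.S3787
import Cfsg.Agent.Lib.Helper19.PLength
import Cfsg.Agent.Lib.Helper23.PSolvable
import Cfsg.Agent.Lib.Helper4.WrSecF

set_option autoImplicit false
open Cfsg

namespace Cfsg.Agent.S3787

open Subgroup Cfsg.Agent.Helper19.PLen Cfsg.Agent.Helper23.PSolv Cfsg.Agent.Helper4.WrSec

universe u

/-- quotient by a nontrivial normal subgroup is smaller -/
theorem card_quotient_lt {G : Type u} [Group G] [Finite G] (N : Subgroup G) [N.Normal]
    (hN : N ≠ ⊥) : Nat.card (G ⧸ N) < Nat.card G := by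
  have h1 := Subgroup.card_mul_index N
  rw [Subgroup.index_eq_card] at h1
  have h2 : 1 < Nat.card N := (Subgroup.one_lt_card_iff_ne_bot N).2 hN
  have h3 : 0 < Nat.card (G ⧸ N) := Nat.card_pos
  nlinarith

theorem aux {p : ℕ} [hp : Fact p.Prime] (hp2 : p ≠ 2) (hnf : ¬ ∃ k : ℕ, p = 2 ^ k + 1) :
    ∀ (m : ℕ) (G : Type u) [Group G] [Finite G], Nat.card G = m → IsPSolvable p G →
    ∀ P : Sylow p G,
    (∀ (W : Type) [Group W] [Finite W], WrLike p W → ¬ Cfsg.Involves W ↥(P : Subgroup G)) →
    PLengthLE p 1 G := by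
  intro m
  induction m using Nat.strong_induction_on with
  | _ m ih =>
  intro G _ _ hm hsol P hfree
  by_cases hO : pPrimeCore p G = ⊥
  · haveI hHn : (pCore p G).Normal := Cfsg.Agent.Helper10.pCore_normal p
    have hHp : IsPGroup p ↥(pCore p G) := Cfsg.Agent.Helper10.pCore_isPGroup p
    by_cases hcop : (Nat.card (G ⧸ pCore p G)).Coprime p
    · have h0 : PLengthLE p 0 (G ⧸ pCore p G) := plengthLE_zero_of_coprime hcop
      have h1 : PLengthLE p 1 ↥(pCore p G) := plengthLE_one_of_isPGroup hHp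
      have hadd := plengthLE_add (pCore p G) h1 h0
      rwa [add_zero] at hadd
    · exfalso
      obtain ⟨g, hgP, hgV, hgp, hstar⟩ := exists_norm_product hp2 hnf hsol hO hcop P
      obtain ⟨W, iG, iF, hW, hinv⟩ := exists_involved (pCore p G) hHp (P : Subgroup G)
        (pCore_le_sylow P) g hgP hgV hgp hstar
      exact hfree W hW hinv
  · haveI hNn : (pPrimeCore p G).Normal := Cfsg.Agent.Helper22.pPrimeCore_normal p
    have hlt : Nat.card (G ⧸ pPrimeCore p G) < m := hm ▸ card_quotient_lt (pPrimeCore p G) hO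
    have hsolQ : IsPSolvable p (G ⧸ pPrimeCore p G) := isPSolvable_quotient (pPrimeCore p G) hsol
    have hπs : Function.Surjective (QuotientGroup.mk' (pPrimeCore p G)) :=
      QuotientGroup.mk'_surjective _
    have hfreeQ : ∀ (W : Type) [Group W] [Finite W], WrLike p W →
        ¬ Cfsg.Involves W ↥((P.mapSurjective hπs : Sylow p (G ⧸ pPrimeCore p G)) :
          Subgroup (G ⧸ pPrimeCore p G)) := by
      intro W _ _ hW hinv
      apply hfree W hW
      exact involves_of_surjective_hom
        ((QuotientGroup.mk' (pPrimeCore p G)).subgroupMap (P : Subgroup G))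
        (MonoidHom.subgroupMap_surjective _ _) hinv
    have hih := ih _ hlt (G ⧸ pPrimeCore p G) rfl hsolQ (P.mapSurjective hπs) hfreeQ
    have hNlen : PLengthLE p 0 ↥(pPrimeCore p G) :=
      plengthLE_zero_of_coprime (Cfsg.Agent.Helper22.card_pPrimeCore_coprime p)
    have hadd := plengthLE_add (pPrimeCore p G) hNlen hih
    rwa [zero_add] at hadd

/-- Let G be a finite p-soluble group, p an odd prime not of the form 2^k + 1, and suppose the wreath product C_p ≀ C_p (of order p^(p+1)) is not involved in a Sylow p-subgroup of G: no section of a Sylow p-subgroup is isomorphic to it. Then G has p-length at most 1. -/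
theorem result {G : Type*} [Group G] [Finite G] {p : ℕ} [Fact p.Prime] (hp2 : p ≠ 2) (hnf : (¬ ∃ k : ℕ, p = 2 ^ k + 1)) (hG : Cfsg.IsPSolvable p G) (P : Sylow p G) (hwr : ∀ (W : Type) [Group W] [Finite W], (∃ (B : Subgroup W) (t : W), B.Normal ∧ IsMulCommutative B ∧ (∀ b ∈ B, b ^ p = 1) ∧ Nat.card B = p ^ p ∧ orderOf t = p ∧ t ∉ B ∧ Nat.card W = p ^ (p + 1) ∧ Nat.card ↥(B ⊓ Subgroup.centralizer ({t} : Set W)) = p) → ¬ Cfsg.Involves W ↥(P : Subgroup G)) : Cfsg.PLengthLE p 1 G := by
  exact aux hp2 hnf (Nat.card G) G rfl hG P (fun W _ _ hW => hwr W hW)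

end Cfsg.Agent.S3787
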