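import Mathlib
import Cfsg.Statements.S3789
import Cfsg.Agent.Lib.Helper19.PLength
import Cfsg.Agent.Lib.Helper23.PSolvable
import Cfsg.Agent.Lib.Helper20.HHQuadJ

set_option autoImplicit false
open Cfsg

namespace Cfsg.Agent.S3789

open Subgroup Cfsg.Agent.Helper19.PLen Cfsg.Agent.Helper23.PSolv Cfsg.Agent.Helper20.HHQ

universe u

/-- quotient by a nontrivial normal subgroup is smaller -/
theorem card_quotient_lt {G : Type u} [Group G] [Finite G] (N : Subgroup G) [N.Normal]
    (hN : N ≠ ⊥) : Nat.card (G ⧸ N) < Nat.card G := by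
  have h1 := Subgroup.card_mul_index N
  rw [Subgroup.index_eq_card] at h1
  have h2 : 1 < Nat.card N := (Subgroup.one_lt_card_iff_ne_bot N).2 hN
  have h3 : 0 < Nat.card (G ⧸ N) := Nat.card_pos
  nlinarith

/-- the derived series of the image of a Sylow subgroup in a quotient -/
theorem derivedSeries_mapSurjective {G : Type u} [Group G] [Finite G] {p : ℕ} [Fact p.Prime]
    (N : Subgroup G) [N.Normal] (P : Sylow p G) (n : ℕ)
    (h : (derivedSeries ↥(P : Subgroup G) n).map (P : Subgroup G).subtype ≤ N) :
    derivedSeries ↥((P.mapSurjective (QuotientGroup.mk'_surjective N) : Sylow p (G ⧸ N)) :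
      Subgroup (G ⧸ N)) n = ⊥ := by
  set f := (QuotientGroup.mk' N).subgroupMap (P : Subgroup G) with hf
  have hfs : Function.Surjective f := MonoidHom.subgroupMap_surjective _ _
  have h1 := map_derivedSeries_eq hfs n
  have h2 : derivedSeries ↥((P : Subgroup G).map (QuotientGroup.mk' N)) n = ⊥ := by
    rw [← h1, eq_bot_iff]
    rintro _ ⟨s, hs, rfl⟩
    rw [mem_bot]
    apply Subtype.ext
    have hsN : (s : G) ∈ N := h ⟨s, hs, rfl⟩
    show QuotientGroup.mk' N (s : G) = 1
    exact (QuotientGroup.eq_one_iff _).mpr hsN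
  exact h2

theorem aux {p : ℕ} [hp : Fact p.Prime] (hp2 : p ≠ 2) : ∀ (m : ℕ) (G : Type u) [Group G]
    [Finite G], Nat.card G = m → IsPSolvable p G →
    ∀ d : ℕ, (∃ P : Sylow p G, derivedSeries ↥(P : Subgroup G) d = ⊥) → PLengthLE p d G := by
  intro m
  induction m using Nat.strong_induction_on with
  | _ m ih =>
  intro G _ _ hm hsol d hd
  obtain ⟨P, hP⟩ := hd
  by_cases hO : pPrimeCore p G = ⊥
  · -- O_{p'}(G) = 1
    set H := pCore p G with hH
    haveI hHn : H.Normal := Cfsg.Agent.Helper10.pCore_normal p
    have hHp : IsPGroup p H := Cfsg.Agent.Helper10.pCore_isPGroup p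
    have hc : centralizer (H : Set G) ≤ H := centralizer_pCore_le hsol hO
    by_cases hHbot : H = ⊥
    · have htop : (⊤ : Subgroup G) ≤ ⊥ := by
        have : centralizer ((⊥ : Subgroup G) : Set G) = ⊤ := by
          rw [Subgroup.coe_bot]; exact Subgroup.centralizer_eq_top_iff_subset.2 (by
            intro x hx; rw [Set.mem_singleton_iff] at hx; rw [hx]; exact Subgroup.one_mem _)
        rw [hHbot, this] at hc
        exact hc
      have hcard : Nat.card G = 1 := by
        have h1 : (⊤ : Subgroup G) = ⊥ := le_bot_iff.1 htop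
        rw [← Subgroup.card_top (G := G), h1]
        exact Subgroup.card_bot
      have h0 : PLengthLE p 0 G :=
        plengthLE_zero_of_coprime (by rw [hcard]; exact Nat.coprime_one_left p)
      exact plengthLE_mono (Nat.zero_le _) h0
    · -- d is positive
      have hHP : H ≤ (P : Subgroup G) := Cfsg.Agent.Helper14.pCore_le_sylow P
      obtain ⟨d', rfl⟩ : ∃ d' : ℕ, d = d' + 1 := by
        rcases d with _ | d'
        · exfalso
          apply hHbot
          rw [eq_bot_iff]
          intro x hx
          have h1 : (⟨x, hHP hx⟩ : ↥(P : Subgroup G)) ∈ derivedSeries ↥(P : Subgroup G) 0 := by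
            rw [derivedSeries_zero]; exact mem_top _
          rw [hP, mem_bot] at h1
          rw [Subgroup.mem_bot]
          exact congrArg Subtype.val h1
        · exact ⟨d', rfl⟩
      have hkey := derived_le_pCore hp2 hsol hO P d' hP
      have hlt : Nat.card (G ⧸ H) < m := hm ▸ card_quotient_lt H hHbot
      have hsolQ : IsPSolvable p (G ⧸ H) := isPSolvable_quotient H hsol
      have hih := ih _ hlt (G ⧸ H) rfl hsolQ d'
        ⟨P.mapSurjective (QuotientGroup.mk'_surjective H), derivedSeries_mapSurjective H P d' hkey⟩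
      have hHlen : PLengthLE p 1 H := plengthLE_one_of_isPGroup hHp
      have hadd := plengthLE_add H hHlen hih
      rwa [add_comm] at hadd
  · -- O_{p'}(G) ≠ 1
    set N := pPrimeCore p G with hN
    haveI hNn : N.Normal := Cfsg.Agent.Helper22.pPrimeCore_normal p
    have hlt : Nat.card (G ⧸ N) < m := hm ▸ card_quotient_lt N hO
    have hsolQ : IsPSolvable p (G ⧸ N) := isPSolvable_quotient N hsol
    have hle : (derivedSeries ↥(P : Subgroup G) d).map (P : Subgroup G).subtype ≤ N := by
      rw [hP, Subgroup.map_bot]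
      exact bot_le
    have hih := ih _ hlt (G ⧸ N) rfl hsolQ d
      ⟨P.mapSurjective (QuotientGroup.mk'_surjective N), derivedSeries_mapSurjective N P d hle⟩
    have hNlen : PLengthLE p 0 N :=
      plengthLE_zero_of_coprime (Cfsg.Agent.Helper22.card_pPrimeCore_coprime p)
    have hadd := plengthLE_add N hNlen hih
    rwa [zero_add] at hadd

/-- Let p be an odd prime and G a finite p-soluble group whose Sylow p-subgroups have derived length at most d. Then G has p-length at most d. -/
theorem result {G : Type*} [Group G] [Finite G] {p : ℕ} [Fact p.Prime] (hp : p ≠ 2) (hG : Cfsg.IsPSolvable p G) (d : ℕ) (hd : ∀ P : Sylow p G, derivedSeries ↥(P : Subgroup G) d = ⊥) : Cfsg.PLengthLE p d G := by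
  obtain ⟨P⟩ : Nonempty (Sylow p G) := inferInstance
  exact aux hp (Nat.card G) G rfl hG d ⟨P, hd P⟩

end Cfsg.Agent.S3789
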