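import Mathlib
import Cfsg.Statements.S3790
import Cfsg.Agent.Lib.Helper19.PLength

set_option autoImplicit false
open Cfsg

namespace Cfsg.Agent.S3790

open Cfsg.Agent.Helper19.PLen

universe u

/-- The inductive step over the upper `q`-series. -/
theorem length_step {p q : ℕ} [hp : Fact p.Prime] [hq : Fact q.Prime] (hpq : q ≠ p) (B : ℕ)
    (P : ∀ (H : Type u) [Group H], Prop)
    (hsub : ∀ (H : Type u) [Group H] [Finite H] (K : Subgroup H) [K.Normal], P H → P K)
    (hquot : ∀ (H : Type u) [Group H] [Finite H] (K : Subgroup H) [K.Normal], P H → P (H ⧸ K))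
    (hbase : ∀ (H : Type u) [Group H] [Finite H], P H → (Nat.card H).Coprime q →
      PLengthLE p B H) :
    ∀ (k : ℕ) (H : Type u) [Group H] [Finite H], P H → PLengthLE q k H →
      PLengthLE p ((k + 1) * B) H := by
  intro k
  induction k with
  | zero =>
    intro H _ _ hP hl
    rw [zero_add, one_mul]
    exact hbase H hP (coprime_of_plengthLE_zero hl)
  | succ k ih =>
    intro H _ _ hP hl
    have hle := upperPSeries_one_le_two (G := H) q
    have hQlen : PLengthLE p B (upperPSeries q H 2).1 := by
      have h1 : PLengthLE p B ((upperPSeries q H 1).1.subgroupOf (upperPSeries q H 2).1) := by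
        apply hbase _ (hsub _ _ (hsub H _ hP))
        rw [Nat.card_congr (Subgroup.subgroupOfEquivOfLe hle).toEquiv]
        exact card_upperPSeries_one_coprime q
      have h2 : PLengthLE p 0 (↥(upperPSeries q H 2).1 ⧸
          (upperPSeries q H 1).1.subgroupOf (upperPSeries q H 2).1) := by
        apply plengthLE_zero_of_coprime
        rw [← Subgroup.index_eq_card]
        obtain ⟨m, hm⟩ := relIndex_upperPSeries_one_two (G := H) q
        have hm' : ((upperPSeries q H 1).1.subgroupOf (upperPSeries q H 2).1).index = q ^ m := hm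
        rw [hm']
        exact Nat.Coprime.pow_left m ((Nat.coprime_primes hq.out hp.out).mpr hpq)
      have h3 := plengthLE_add _ h1 h2
      rwa [add_zero] at h3
    have hGQ : PLengthLE p ((k + 1) * B) (H ⧸ (upperPSeries q H 2).1) :=
      ih _ (hquot H _ hP) (plengthLE_quotient_two hl)
    have h4 := plengthLE_add _ hQlen hGQ
    have e : B + (k + 1) * B = (k + 1 + 1) * B := by ring
    rwa [e] at h4

theorem main (p : ℕ) [hp : Fact p.Prime] : ∀ (r : ℕ) (G : Type u) [Group G] [Finite G]
    (q : Fin r → ℕ), (∀ i, (q i).Prime ∧ q i ≠ p) →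
    (∀ s : ℕ, s.Prime → s ∣ Nat.card G → s ≠ p → ∃ i, q i = s) →
    ∀ l : Fin r → ℕ, (∀ i, PLengthLE (q i) (l i) G) →
      PLengthLE p (Finset.univ.prod fun i => 1 + l i) G := by
  intro r
  induction r with
  | zero =>
    intro G _ _ q _ hcover l _
    have hcard : Nat.card G = p ^ (Nat.card G).primeFactorsList.length := by
      apply Nat.eq_prime_pow_of_unique_prime_dvd Nat.card_pos.ne'
      intro d hd hdvd
      by_contra hne
      obtain ⟨i, -⟩ := hcover d hd hdvd hne
      exact Fin.elim0 i
    have h1 := plengthLE_one_of_isPGroup (IsPGroup.of_card hcard)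
    simpa using h1
  | succ r ih =>
    intro G _ _ q hq hcover l hl
    have hqlast : Fact (q (Fin.last r)).Prime := ⟨(hq _).1⟩
    have key := length_step (p := p) (q := q (Fin.last r)) (hq _).2
      (Finset.univ.prod fun i : Fin r => 1 + l i.castSucc)
      (fun (H : Type u) [Group H] => (∀ i, PLengthLE (q i) (l i) H) ∧
        (∀ s : ℕ, s.Prime → s ∣ Nat.card H → s ≠ p → ∃ i, q i = s))
      (by
        intro H _ _ K _ hP
        refine ⟨fun i => ?_, fun s hs hdvd hsp => ?_⟩
        · have : Fact (q i).Prime := ⟨(hq i).1⟩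
          exact plengthLE_subgroup K (hP.1 i)
        · exact hP.2 s hs (hdvd.trans (Subgroup.card_subgroup_dvd_card K)) hsp)
      (by
        intro H _ _ K _ hP
        refine ⟨fun i => ?_, fun s hs hdvd hsp => ?_⟩
        · have : Fact (q i).Prime := ⟨(hq i).1⟩
          exact plengthLE_quotient K (hP.1 i)
        · exact hP.2 s hs (hdvd.trans (Subgroup.card_quotient_dvd_card K)) hsp)
      (by
        intro H _ _ hP hcop
        apply ih H (fun i => q i.castSucc) (fun i => hq _)
        · intro s hs hdvd hsp
          obtain ⟨i, hi⟩ := hP.2 s hs hdvd hsp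
          rcases Fin.eq_castSucc_or_eq_last i with ⟨j, rfl⟩ | rfl
          · exact ⟨j, hi⟩
          · exfalso
            rw [← hi] at hdvd
            have h1 : q (Fin.last r) ∣ Nat.gcd (Nat.card H) (q (Fin.last r)) :=
              Nat.dvd_gcd hdvd dvd_rfl
            rw [hcop] at h1
            exact (hq (Fin.last r)).1.one_lt.ne' (Nat.dvd_one.mp h1)
        · intro i
          exact hP.1 _)
      (l (Fin.last r)) G ⟨hl, hcover⟩ (hl _)
    rw [Fin.prod_univ_castSucc]
    have e : (l (Fin.last r) + 1) * (Finset.univ.prod fun i : Fin r => 1 + l i.castSucc) =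
        (Finset.univ.prod fun i : Fin r => 1 + l i.castSucc) * (1 + l (Fin.last r)) := by ring
    rwa [e] at key

/-- Let G be a finite solvable group and p a prime. Suppose p₁, …, p_r are distinct primes, all different from p, that include every prime dividing the order of G other than p, and that G has p_i-length at most l_i for each i. Then G has p-length at most the product of the numbers 1 + l_i. -/
theorem result {G : Type*} [Group G] [Finite G] (hG : Group.IsSolvable G) (p : ℕ) [Fact p.Prime] (r : ℕ) (q : Fin r → ℕ) (hq : ∀ i, (q i).Prime ∧ q i ≠ p) (hinj : Function.Injective q) (hcover : ∀ s : ℕ, s.Prime → s ∣ Nat.card G → s ≠ p → ∃ i, q i = s) (l : Fin r → ℕ) (hl : ∀ i, Cfsg.PLengthLE (q i) (l i) G) : Cfsg.PLengthLE p (Finset.univ.prod fun i => 1 + l i) G :=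
  main p r G q hq hcover l hl

end Cfsg.Agent.S3790
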