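import Mathlib
import Cfsg.Statements.S3791
import Cfsg.Agent.Lib.Helper19.PLength
import Cfsg.Agent.Lib.Helper1.SolvableBasic

set_option autoImplicit false
open Cfsg

namespace Cfsg.Agent.S3791

open Cfsg.Agent.Helper19.PLen

universe u

section Derived

variable {G : Type*} [Group G]

/-- The iterated commutator subgroups of a subgroup. -/
def dser (H : Subgroup G) : ℕ → Subgroup G
  | 0 => H
  | n + 1 => ⁅dser H n, dser H n⁆

theorem dser_mono {H K : Subgroup G} (h : H ≤ K) (n : ℕ) : dser H n ≤ dser K n := by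
  induction n with
  | zero => exact h
  | succ n ih => exact Subgroup.commutator_mono ih ih

theorem derivedSeries_eq_dser (n : ℕ) : derivedSeries G n = dser (⊤ : Subgroup G) n := by
  induction n with
  | zero => rfl
  | succ n ih =>
    rw [derivedSeries_succ, ih]
    rfl

theorem dser_add (H : Subgroup G) (a b : ℕ) : dser H (a + b) = dser (dser H a) b := by
  induction b with
  | zero => rfl
  | succ b ih =>
    show ⁅dser H (a + b), dser H (a + b)⁆ = ⁅dser (dser H a) b, dser (dser H a) b⁆
    rw [ih]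

theorem map_derivedSeries_subtype (H : Subgroup G) (n : ℕ) :
    (derivedSeries H n).map H.subtype = dser H n := by
  induction n with
  | zero =>
    rw [derivedSeries_zero]
    show (⊤ : Subgroup H).map H.subtype = H
    rw [← MonoidHom.range_eq_map, Subgroup.range_subtype]
  | succ n ih =>
    rw [derivedSeries_succ, Subgroup.map_commutator, ih]
    rfl

theorem dser_eq_bot_of_le {H S : Subgroup G} (h : H ≤ S) (n : ℕ)
    (hS : derivedSeries S n = ⊥) : dser H n = ⊥ := by
  rw [eq_bot_iff]
  calc dser H n ≤ dser S n := dser_mono h n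
    _ = (derivedSeries S n).map S.subtype := (map_derivedSeries_subtype S n).symm
    _ = ⊥ := by rw [hS, Subgroup.map_bot]

theorem derivedSeries_le_of_quotient (N : Subgroup G) [N.Normal] (m : ℕ)
    (h : derivedSeries (G ⧸ N) m = ⊥) : derivedSeries G m ≤ N := by
  have h1 := map_derivedSeries_le_derivedSeries (QuotientGroup.mk' N) m
  rw [h, le_bot_iff, Subgroup.map_eq_bot_iff, QuotientGroup.ker_mk'] at h1
  exact h1

end Derived

/-- The hypotheses of the theorem, for a fixed family of primes. -/
structure Hyp {r : ℕ} (q : Fin r → ℕ) (d l : Fin r → ℕ) (G : Type u) [Group G] : Prop where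
  cover : ∀ s : ℕ, s.Prime → s ∣ Nat.card G → ∃ i, q i = s
  der : ∀ i, ∀ S : Sylow (q i) G, derivedSeries ↥(S : Subgroup G) (d i) = ⊥
  len : ∀ i, PLengthLE (q i) (l i) G

theorem Hyp.quotient {r : ℕ} {q : Fin r → ℕ} (hq : ∀ i, (q i).Prime) {d l : Fin r → ℕ}
    {G : Type u} [Group G] [Finite G] (h : Hyp q d l G) (N : Subgroup G) [N.Normal] :
    Hyp q d l (G ⧸ N) := by
  refine ⟨?_, ?_, ?_⟩
  · intro s hs hdvd
    exact h.cover s hs (hdvd.trans (Subgroup.card_quotient_dvd_card N))
  · intro i Sbar
    have : Fact (q i).Prime := ⟨hq i⟩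
    obtain ⟨S, rfl⟩ := Sylow.mapSurjective_surjective (QuotientGroup.mk'_surjective N) (q i) Sbar
    have hsurj := MonoidHom.subgroupMap_surjective (QuotientGroup.mk' N) (S : Subgroup G)
    have h1 := map_derivedSeries_eq hsurj (d i)
    rw [Sylow.coe_mapSurjective, ← h1, h.der i S, Subgroup.map_bot]
  · intro i
    have : Fact (q i).Prime := ⟨hq i⟩
    exact plengthLE_quotient N (h.len i)

theorem card_quotient_lt {G : Type u} [Group G] [Finite G] (N : Subgroup G) [N.Normal]
    (hN : N ≠ ⊥) : Nat.card (G ⧸ N) < Nat.card G := by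
  have h1 := Subgroup.card_eq_card_quotient_mul_card_subgroup N
  have h2 : 1 < Nat.card N := N.one_lt_card_iff_ne_bot.mpr hN
  have h3 : 0 < Nat.card (G ⧸ N) := Nat.card_pos
  rw [h1]
  exact lt_mul_of_one_lt_right h3 h2

theorem main {r : ℕ} (q : Fin r → ℕ) (hq : ∀ i, (q i).Prime) (d : Fin r → ℕ) :
    ∀ (n : ℕ) (G : Type u) [Group G] [Finite G], Nat.card G = n → Group.IsSolvable G →
      ∀ l : Fin r → ℕ, Hyp q d l G → derivedSeries G (∑ i, d i * l i) = ⊥ := by
  intro n
  induction n using Nat.strong_induction_on with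
  | _ n ih =>
  intro G _ _ hcard hsol l hyp
  by_cases htriv : Subsingleton G
  · exact Subsingleton.elim _ _
  have hnt : Nontrivial G := not_subsingleton_iff_nontrivial.mp htriv
  obtain ⟨s, hs, P₀, hP₀n, hP₀ne, hP₀p⟩ :=
    Cfsg.Agent.Helper1.exists_normal_pSubgroup_of_solvable G
  have hsdvd : s ∣ Nat.card G := by
    have hF : Fact s.Prime := ⟨hs⟩
    obtain ⟨m, hm⟩ := IsPGroup.iff_card.mp hP₀p
    have hm0 : m ≠ 0 := by
      rintro rfl
      rw [pow_zero] at hm
      exact hP₀ne (Subgroup.card_eq_one.mp hm)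
    have h1 : s ∣ Nat.card P₀ := by
      rw [hm]
      exact dvd_pow_self s hm0
    exact h1.trans (Subgroup.card_subgroup_dvd_card P₀)
  obtain ⟨i, rfl⟩ := hyp.cover s hs hsdvd
  have hF : Fact (q i).Prime := ⟨hs⟩
  have hPn : (pCore (q i) G).Normal := Cfsg.Agent.Helper10.pCore_normal _
  have hPne : pCore (q i) G ≠ ⊥ := ne_bot_of_le_ne_bot hP₀ne (le_sSup ⟨hP₀n, hP₀p⟩)
  have hPp : IsPGroup (q i) (pCore (q i) G) := Cfsg.Agent.Helper10.pCore_isPGroup _
  have hlt : Nat.card (G ⧸ pCore (q i) G) < n := hcard ▸ card_quotient_lt _ hPne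
  have hsolq : ∀ (N : Subgroup G) [N.Normal], Group.IsSolvable (G ⧸ N) := by
    intro N _
    infer_instance
  by_cases hK : pPrimeCore (q i) G = ⊥
  · obtain ⟨k, hk⟩ : ∃ k, l i = k + 1 := by
      rcases Nat.eq_zero_or_eq_succ_pred (l i) with h0 | h1
      · exfalso
        have h2 := hyp.len i
        rw [h0] at h2
        have h3 := coprime_of_plengthLE_zero h2
        have h4 : q i ∣ Nat.gcd (Nat.card G) (q i) := Nat.dvd_gcd hsdvd dvd_rfl
        rw [h3] at h4
        exact hs.one_lt.ne' (Nat.dvd_one.mp h4)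
      · exact ⟨_, h1⟩
    have hlen' : PLengthLE (q i) k (G ⧸ pCore (q i) G) :=
      plengthLE_quotient_pCore hK (hk ▸ hyp.len i)
    have hypq := hyp.quotient hq (pCore (q i) G)
    have hyp' : Hyp q d (Function.update l i k) (G ⧸ pCore (q i) G) := by
      refine ⟨hypq.cover, hypq.der, fun j => ?_⟩
      by_cases hj : j = i
      · subst hj
        rw [Function.update_self]
        exact hlen'
      · rw [Function.update_of_ne hj]
        exact hypq.len j
    have h1 := ih _ hlt (G ⧸ pCore (q i) G) rfl (hsolq _) _ hyp'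
    have h2 := derivedSeries_le_of_quotient _ _ h1
    have hsum : ∑ j, d j * l j = (∑ j, d j * Function.update l i k j) + d i := by
      rw [← Finset.add_sum_erase _ _ (Finset.mem_univ i),
        ← Finset.add_sum_erase (f := fun j => d j * Function.update l i k j) _ (Finset.mem_univ i),
        Function.update_self, hk]
      have e : ∑ j ∈ Finset.univ.erase i, d j * Function.update l i k j =
          ∑ j ∈ Finset.univ.erase i, d j * l j := by
        apply Finset.sum_congr rfl
        intro j hj
        rw [Function.update_of_ne (Finset.ne_of_mem_erase hj)]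
      rw [e]
      ring
    rw [hsum, derivedSeries_eq_dser, dser_add, ← derivedSeries_eq_dser]
    obtain ⟨S, hS⟩ := hPp.exists_le_sylow
    exact dser_eq_bot_of_le (h2.trans hS) _ (hyp.der i S)
  · have hKn : (pPrimeCore (q i) G).Normal := Cfsg.Agent.Helper22.pPrimeCore_normal _
    have hlt2 : Nat.card (G ⧸ pPrimeCore (q i) G) < n := hcard ▸ card_quotient_lt _ hK
    have h1 := ih _ hlt (G ⧸ pCore (q i) G) rfl (hsolq _) l (hyp.quotient hq _)
    have h2 := ih _ hlt2 (G ⧸ pPrimeCore (q i) G) rfl (hsolq _) l (hyp.quotient hq _)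
    have h3 := derivedSeries_le_of_quotient _ _ h1
    have h4 := derivedSeries_le_of_quotient _ _ h2
    have hPK : pCore (q i) G ⊓ pPrimeCore (q i) G = ⊥ := by
      apply Subgroup.card_eq_one.mp
      obtain ⟨m, hm⟩ := IsPGroup.iff_card.mp hPp
      have hc : (Nat.card (pPrimeCore (q i) G)).Coprime (q i) :=
        Cfsg.Agent.Helper22.card_pPrimeCore_coprime _
      have d1 : Nat.card ↥(pCore (q i) G ⊓ pPrimeCore (q i) G) ∣ q i ^ m :=
        hm ▸ Subgroup.card_dvd_of_le inf_le_left
      have d2 : Nat.card ↥(pCore (q i) G ⊓ pPrimeCore (q i) G) ∣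
          Nat.card (pPrimeCore (q i) G) := Subgroup.card_dvd_of_le inf_le_right
      have h5 := Nat.dvd_gcd d2 d1
      rw [Nat.Coprime.pow_right m hc] at h5
      exact Nat.dvd_one.mp h5
    rw [eq_bot_iff, ← hPK]
    exact le_inf h3 h4

/-- The Hall–Higman bound on derived length: let G be a finite solvable group, let p₁, …, p_r be distinct primes that include every prime dividing the order of G, and suppose that for each i the Sylow p_i-subgroups of G have derived length at most d_i and G has p_i-length at most l_i. Then G has derived length at most Σ d_i l_i. -/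
theorem result {G : Type*} [Group G] [Finite G] (hG : Group.IsSolvable G) (r : ℕ) (q : Fin r → ℕ) (hq : ∀ i, (q i).Prime) (hinj : Function.Injective q) (hcover : ∀ s : ℕ, s.Prime → s ∣ Nat.card G → ∃ i, q i = s) (d l : Fin r → ℕ) (hd : ∀ i, ∀ P : Subgroup G, (haveI := Fact.mk (hq i); ∃ S : Sylow (q i) G, (S : Subgroup G) = P) → derivedSeries ↥P (d i) = ⊥) (hl : ∀ i, Cfsg.PLengthLE (q i) (l i) G) : derivedSeries G (Finset.univ.sum fun i => d i * l i) = ⊥ :=
  main q hq d (Nat.card G) G rfl hG l ⟨hcover, fun i S => hd i S ⟨S, rfl⟩, hl⟩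

end Cfsg.Agent.S3791
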