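import Mathlib
import Cfsg.Statements.S3796
import Cfsg.Agent.Lib.Helper1.WardEnd

set_option autoImplicit false
open Cfsg

namespace Cfsg.Agent.S3796

/-- Ward's Theorem: let G be a finite solvable group and A an elementary abelian group of automorphisms of G of order p² (p a prime) with no non-identity common fixed point. Then G has Fitting height at most 2: G has Fitting height at most m when there is a chain of normal subgroups 1 = F₀ ≤ F₁ ≤ ⋯ ≤ F_m = G with each F_{i+1}/F_i nilpotent. -/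
theorem result {G : Type*} [Group G] [Finite G] (hG : Group.IsSolvable G) {p : ℕ} (hp : p.Prime) (A : Subgroup (MulAut G)) (hA : Cfsg.IsElementaryAbelian p A) (hcard : Nat.card A = p ^ 2) (hfpf : ∀ g : G, (∀ a ∈ A, a g = g) → g = 1) : ∃ F : Fin (2 + 1) → Subgroup G, F 0 = ⊥ ∧ F (Fin.last 2) = ⊤ ∧ Monotone F ∧ (∀ i, (F i).Normal) ∧ ∀ i : Fin 2, ∃ k : ℕ, (F i.succ).lowerCentralSeries k ≤ F i.castSucc := by
  have hA0 : Nat.card A ≠ 0 := by
    rw [hcard]
    exact pow_ne_zero 2 hp.ne_zero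
  haveI : Finite ↥A := Nat.finite_of_card_ne_zero hA0
  have hH : Cfsg.Agent.Helper1.Ward.Hyp (A.subtype) p :=
    { hp := hp
      comm := fun a b => hA.1.is_comm.comm a b
      exp := fun a => Subtype.ext (by
        rw [Subgroup.coe_pow, Subgroup.coe_one]
        exact hA.2 a a.2)
      card := hcard
      fpf := fun g hg => hfpf g (fun a ha => hg ⟨a, ha⟩) }
  obtain ⟨N, hNn, ⟨k₁, hk₁⟩, ⟨k₂, hk₂⟩⟩ :=
    Cfsg.Agent.Helper1.Ward.main_aux (P := ↥A) _ G rfl hG A.subtype hH
  refine ⟨![⊥, N, ⊤], rfl, rfl, ?_, ?_, ?_⟩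
  · rw [Fin.monotone_iff_le_succ]
    intro i
    fin_cases i
    · show (⊥ : Subgroup G) ≤ N
      exact bot_le
    · show N ≤ (⊤ : Subgroup G)
      exact le_top
  · intro i
    fin_cases i
    · show (⊥ : Subgroup G).Normal
      infer_instance
    · show N.Normal
      exact hNn
    · show (⊤ : Subgroup G).Normal
      infer_instance
  · intro i
    fin_cases i
    · show ∃ k : ℕ, N.lowerCentralSeries k ≤ (⊥ : Subgroup G)
      exact ⟨k₁, hk₁.le⟩
    · show ∃ k : ℕ, (⊤ : Subgroup G).lowerCentralSeries k ≤ N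
      exact ⟨k₂, hk₂⟩

end Cfsg.Agent.S3796
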