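import Cfsg.Statements.S3797
import Cfsg.Agent.Lib.T97.T97Main
import Cfsg.Agent.Lib.T97.T97OUT1
import Cfsg.Agent.Lib.T97.T97SYL1
import Cfsg.Agent.Lib.T97.T97SYL2
import Cfsg.Agent.Lib.T97.T97SYL3
import Cfsg.Agent.Lib.T97.T97HOMO
import Cfsg.Agent.Lib.Helper19.PLength
import Cfsg.Agent.Lib.Helper23.PSolvable
import Cfsg.Agent.Lib.Helper22.PPrimeCore
import Cfsg.Agent.Lib.Helper10.Cores

set_option autoImplicit false
open Cfsg

namespace Cfsg.Agent.S3797

open Cfsg.Agent.Helper18.T97 in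
/-- Let G be a finite solvable group of even order whose Sylow 2-subgroups contain more than one involution, and suppose all involutions of G are conjugate. Then G has 2-length at most 1, and a Sylow 2-subgroup S of G is either homocyclic (a direct product of cyclic groups of one common order) or a non-abelian 2-group with more than one involution admitting a solvable group of automorphisms transitive on its involutions. -/
theorem result {G : Type*} [Group G] [Finite G] (hG : Group.IsSolvable G) (heven : Even (Nat.card G)) (S : Sylow 2 G) (htwo : ∃ x y : G, x ∈ (S : Subgroup G) ∧ y ∈ (S : Subgroup G) ∧ x ≠ y ∧ x ≠ 1 ∧ x ^ 2 = 1 ∧ y ≠ 1 ∧ y ^ 2 = 1) (hconj : ∀ x y : G, x ≠ 1 → x ^ 2 = 1 → y ≠ 1 → y ^ 2 = 1 → IsConj x y) : Cfsg.PLengthLE 2 1 G ∧ ((∃ m r : ℕ, Nonempty (↥(S : Subgroup G) ≃* (Fin r → Multiplicative (ZMod (2 ^ m))))) ∨ (¬ IsMulCommutative (S : Subgroup G) ∧ ∃ Y : Subgroup (MulAut ↥(S : Subgroup G)), Group.IsSolvable Y ∧ ∀ x y : ↥(S :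 Subgroup G), x ≠ 1 → x ^ 2 = 1 → y ≠ 1 → y ^ 2 = 1 → ∃ a ∈ Y, a x = y)) := by
  haveI : Fact (Nat.Prime 2) := ⟨Nat.prime_two⟩
  haveI hKn : (pPrimeCore 2 G).Normal := Cfsg.Agent.Helper22.pPrimeCore_normal 2
  have hsetup := setup_quot hG S htwo hconj
  have hidx := main hsetup
  haveI hRn : (pCore 2 (G ⧸ pPrimeCore 2 G)).Normal := Cfsg.Agent.Helper10.pCore_normal 2
  constructor
  · -- 2-length
    have h0 : PLengthLE 2 0 (pPrimeCore 2 G) :=
      Cfsg.Agent.Helper19.PLen.plengthLE_zero_of_coprime (Cfsg.Agent.Helper22.card_pPrimeCore_coprime 2)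
    have hcop : (Nat.card ((G ⧸ pPrimeCore 2 G) ⧸ pCore 2 (G ⧸ pPrimeCore 2 G))).Coprime 2 := by
      rw [← Subgroup.index_eq_card]
      exact (Nat.Prime.coprime_iff_not_dvd Nat.prime_two).mpr hidx |>.symm
    have h1 : PLengthLE 2 (1 + 0) (G ⧸ pPrimeCore 2 G) :=
      Cfsg.Agent.Helper19.PLen.plengthLE_add (pCore 2 (G ⧸ pPrimeCore 2 G))
        (Cfsg.Agent.Helper19.PLen.plengthLE_one_of_isPGroup (Cfsg.Agent.Helper10.pCore_isPGroup 2))
        (Cfsg.Agent.Helper19.PLen.plengthLE_zero_of_coprime hcop)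
    have h2 : PLengthLE 2 (0 + (1 + 0)) G :=
      Cfsg.Agent.Helper19.PLen.plengthLE_add (pPrimeCore 2 G) h0 h1
    simpa using h2
  · -- the Sylow 2-subgroup
    have hcen := sylow_invol_central S hidx (fun x hx1 hx2 => invol_mem hsetup x hx1 hx2)
    have htr := sylow_normalizer_trans S hcen hconj
    obtain ⟨Yv, hYsol, hYtr⟩ := exists_aut_subgroup hG S htr
    by_cases hc : IsMulCommutative (S : Subgroup G)
    · left
      refine homocyclic_of_trans S.2 (fun a b => ?_) Yv hYtr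
      exact hc.is_comm.comm a b
    · right
      exact ⟨hc, Yv, hYsol, hYtr⟩

end Cfsg.Agent.S3797
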