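import Cfsg.Statements.S3798
import Cfsg.Agent.Lib.Helper24.GYTrans
import Cfsg.Agent.Lib.Helper24.GYCore
import Cfsg.Agent.Lib.Helper19.PLength
import Cfsg.Agent.Lib.Helper23.PSolvable
import Cfsg.Agent.Lib.Helper22.PPrimeCore
import Cfsg.Agent.Lib.Helper10.Cores

set_option autoImplicit false
open Cfsg

namespace Cfsg.Agent.S3798

/-- The Gaschütz–Yen Theorem: let G be a finite p-soluble group, p an odd prime dividing its order, such that the automorphism group of G permutes the subgroups of G of order p transitively. Then G has p-length at most 1. -/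
theorem result {G : Type*} [Group G] [Finite G] {p : ℕ} [Fact p.Prime] (hp : p ≠ 2) (hdvd : p ∣ Nat.card G) (hG : Cfsg.IsPSolvable p G) (htrans : ∀ U V : Subgroup G, Nat.card U = p → Nat.card V = p → ∃ a : MulAut G, U.map a.toMonoidHom = V) : Cfsg.PLengthLE p 1 G := by
  haveI hKn : (pPrimeCore p G).Normal := Cfsg.Agent.Helper22.pPrimeCore_normal p
  have h0 : PLengthLE p 0 (pPrimeCore p G) :=
    Cfsg.Agent.Helper19.PLen.plengthLE_zero_of_coprime (Cfsg.Agent.Helper22.card_pPrimeCore_coprime p)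
  have hsolQ : IsPSolvable p (G ⧸ pPrimeCore p G) :=
    Cfsg.Agent.Helper23.PSolv.isPSolvable_quotient _ hG
  have hOQ : pPrimeCore p (G ⧸ pPrimeCore p G) = ⊥ :=
    Cfsg.Agent.Helper23.PSolv.pPrimeCore_quotient_pPrimeCore p
  have htQ : Cfsg.Agent.Helper24.GY.Trans p (G ⧸ pPrimeCore p G) :=
    Cfsg.Agent.Helper24.GY.trans_quotient htrans
  haveI hRn : (pCore p (G ⧸ pPrimeCore p G)).Normal := Cfsg.Agent.Helper10.pCore_normal p
  have hcop := Cfsg.Agent.Helper24.GY.core_coprime hp hsolQ hOQ htQ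
  have h1 : PLengthLE p (1 + 0) (G ⧸ pPrimeCore p G) :=
    Cfsg.Agent.Helper19.PLen.plengthLE_add (pCore p (G ⧸ pPrimeCore p G))
      (Cfsg.Agent.Helper19.PLen.plengthLE_one_of_isPGroup (Cfsg.Agent.Helper10.pCore_isPGroup p))
      (Cfsg.Agent.Helper19.PLen.plengthLE_zero_of_coprime hcop)
  have h2 : PLengthLE p (0 + (1 + 0)) G :=
    Cfsg.Agent.Helper19.PLen.plengthLE_add (pPrimeCore p G) h0 h1
  simpa using h2

end Cfsg.Agent.S3798
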