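import Mathlib
import Cfsg.Statements.S3799
import Cfsg.Agent.Lib.Helper9.FrattiniElem
import Cfsg.Agent.Lib.Helper21.PGroupFrattini
import Cfsg.Agent.Lib.Helper7.Quasisimple

set_option autoImplicit false
open Cfsg

namespace Cfsg.Agent.S3799

open Matrix
open scoped commutatorElement

/-- the Heisenberg group over `ZMod p` with `2n+1` parameters -/
@[ext] structure Heis (n p : ℕ) where
  a : Fin n → ZMod p
  b : Fin n → ZMod p
  c : ZMod p

namespace Heis

variable {n p : ℕ}

instance : Mul (Heis n p) := ⟨fun x y => ⟨x.a + y.a, x.b + y.b, x.c + y.c + x.a ⬝ᵥ y.b⟩⟩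
instance : One (Heis n p) := ⟨⟨0, 0, 0⟩⟩
instance : Inv (Heis n p) := ⟨fun x => ⟨-x.a, -x.b, -x.c + x.a ⬝ᵥ x.b⟩⟩

@[simp] theorem mul_a (x y : Heis n p) : (x * y).a = x.a + y.a := rfl
@[simp] theorem mul_b (x y : Heis n p) : (x * y).b = x.b + y.b := rfl
@[simp] theorem mul_c (x y : Heis n p) : (x * y).c = x.c + y.c + x.a ⬝ᵥ y.b := rfl
@[simp] theorem one_a : (1 : Heis n p).a = 0 := rfl
@[simp] theorem one_b : (1 : Heis n p).b = 0 := rfl
@[simp] theorem one_c : (1 : Heis n p).c = 0 := rfl
@[simp] theorem inv_a (x : Heis n p) : (x⁻¹).a = -x.a := rfl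
@[simp] theorem inv_b (x : Heis n p) : (x⁻¹).b = -x.b := rfl
@[simp] theorem inv_c (x : Heis n p) : (x⁻¹).c = -x.c + x.a ⬝ᵥ x.b := rfl

instance : Group (Heis n p) :=
  Group.ofLeftAxioms
    (by
      intro x y z
      ext1
      · simp [add_assoc]
      · simp [add_assoc]
      · simp only [mul_c, mul_a, mul_b, add_dotProduct, dotProduct_add]
        ring)
    (by
      intro x
      ext1 <;> simp)
    (by
      intro x
      ext1
      · simp
      · simp
      · simp only [mul_c, inv_c, inv_a, neg_dotProduct, one_c]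
        ring)


theorem pow_eq (x : Heis n p) (k : ℕ) :
    x ^ k = ⟨(k : ZMod p) • x.a, (k : ZMod p) • x.b,
      (k : ZMod p) * x.c + ((k.choose 2 : ℕ) : ZMod p) * (x.a ⬝ᵥ x.b)⟩ := by
  induction k with
  | zero =>
    rw [pow_zero]
    ext1 <;> simp
  | succ k ih =>
    rw [pow_succ, ih]
    ext1
    · simp [add_smul]
    · simp [add_smul]
    · simp only [mul_c, smul_dotProduct, smul_eq_mul]
      have : (k + 1).choose 2 = k + k.choose 2 := by
        rw [Nat.choose_succ_succ, Nat.choose_one_right]
      rw [this]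
      push_cast
      ring

theorem pow_prime_eq_one [Fact p.Prime] (hp : p ≠ 2) (x : Heis n p) : x ^ p = 1 := by
  have hpp : p.Prime := Fact.out
  rw [pow_eq]
  have h1 : ((p : ℕ) : ZMod p) = 0 := ZMod.natCast_self p
  have h2 : ((p.choose 2 : ℕ) : ZMod p) = 0 := by
    rw [ZMod.natCast_eq_zero_iff]
    apply hpp.dvd_choose_self (by norm_num)
    have := hpp.two_le
    omega
  ext1 <;> simp [h1, h2]

/-- the centre, explicitly -/
def Z (n p : ℕ) : Subgroup (Heis n p) where
  carrier := {x | x.a = 0 ∧ x.b = 0}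
  mul_mem' := by
    rintro x y ⟨h1, h2⟩ ⟨h3, h4⟩
    exact ⟨by simp [h1, h3], by simp [h2, h4]⟩
  one_mem' := ⟨rfl, rfl⟩
  inv_mem' := by
    rintro x ⟨h1, h2⟩
    exact ⟨by simp [h1], by simp [h2]⟩

theorem mem_Z (x : Heis n p) : x ∈ Z n p ↔ x.a = 0 ∧ x.b = 0 := Iff.rfl

theorem center_eq : Subgroup.center (Heis n p) = Z n p := by
  classical
  ext x
  rw [Subgroup.mem_center_iff, mem_Z]
  constructor
  · intro h
    constructor
    · funext i
      have := congrArg Heis.c (h ⟨0, Pi.single i 1, 0⟩)
      simp only [mul_c, zero_dotProduct, dotProduct_single, mul_one] at this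
      have h2 : x.a i = 0 := by
        have h3 : (0 : ZMod p) + x.c + 0 = x.c + 0 + x.a i := this
        have : x.c + x.a i = x.c + 0 := by rw [← add_zero x.c] at h3 ⊢; simpa using h3.symm
        exact add_left_cancel this
      simpa using h2
    · funext i
      have := congrArg Heis.c (h ⟨Pi.single i 1, 0, 0⟩)
      simp only [mul_c, dotProduct_zero, single_dotProduct, one_mul] at this
      have h2 : x.b i = 0 := by
        have h3 : (0 : ZMod p) + x.c + x.b i = x.c + 0 + 0 := this
        have : x.c + x.b i = x.c + 0 := by simpa using h3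
        exact add_left_cancel this
      simpa using h2
  · rintro ⟨h1, h2⟩ g
    ext1
    · simp [h1]
    · simp [h2]
    · simp [h1, h2, add_comm]

/-- the quotient map onto the elementary abelian quotient -/
def proj (n p : ℕ) : Heis n p →* Multiplicative ((Fin n → ZMod p) × (Fin n → ZMod p)) where
  toFun x := Multiplicative.ofAdd (x.a, x.b)
  map_one' := rfl
  map_mul' x y := rfl

theorem ker_proj : (proj n p).ker = Z n p := by
  ext x
  rw [MonoidHom.mem_ker, mem_Z]
  show Multiplicative.ofAdd (x.a, x.b) = 1 ↔ _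
  rw [ofAdd_eq_one, Prod.mk_eq_zero]

theorem commutator_eq (hn : 1 ≤ n) : commutator (Heis n p) = Z n p := by
  classical
  apply le_antisymm
  · rw [← ker_proj]
    exact Abelianization.commutator_subset_ker _
  · intro z hz
    obtain ⟨h1, h2⟩ := (mem_Z z).mp hz
    have key : ⁅(⟨Pi.single ⟨0, hn⟩ z.c, 0, 0⟩ : Heis n p), ⟨0, Pi.single ⟨0, hn⟩ 1, 0⟩⁆ = z := by
      rw [commutatorElement_def]
      have : (⟨Pi.single ⟨0, hn⟩ z.c, 0, 0⟩ : Heis n p) * ⟨0, Pi.single ⟨0, hn⟩ 1, 0⟩ =
          z * (⟨0, Pi.single ⟨0, hn⟩ 1, 0⟩ * ⟨Pi.single ⟨0, hn⟩ z.c, 0, 0⟩) := by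
        ext1
        · simp [h1]
        · simp [h2]
        · simp [h1]
      rw [this]
      group
    rw [← key, commutator_def]
    exact Subgroup.commutator_mem_commutator (Subgroup.mem_top _) (Subgroup.mem_top _)

theorem card_eq [NeZero p] : Nat.card (Heis n p) = p ^ (1 + 2 * n) := by
  have e : Heis n p ≃ (Fin n → ZMod p) × (Fin n → ZMod p) × ZMod p :=
    { toFun := fun x => (x.a, x.b, x.c)
      invFun := fun y => ⟨y.1, y.2.1, y.2.2⟩
      left_inv := fun x => rfl
      right_inv := fun y => rfl }
  rw [Nat.card_congr e, Nat.card_prod, Nat.card_prod, Nat.card_fun, Nat.card_zmod, Nat.card_fin]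
  ring

theorem card_Z [NeZero p] : Nat.card (Z n p) = p := by
  have e : Z n p ≃ ZMod p :=
    { toFun := fun x => x.1.c
      invFun := fun t => ⟨⟨0, 0, t⟩, rfl, rfl⟩
      left_inv := by
        rintro ⟨x, h1, h2⟩
        apply Subtype.ext
        ext1
        · exact h1.symm
        · exact h2.symm
        · rfl
      right_inv := fun t => rfl }
  rw [Nat.card_congr e, Nat.card_zmod]

instance [NeZero p] : Finite (Heis n p) :=
  Nat.finite_of_card_ne_zero (by rw [card_eq]; exact pow_ne_zero _ (NeZero.ne p))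

theorem isExtraspecial [Fact p.Prime] (hn : 1 ≤ n) :
    Cfsg.IsExtraspecial p (Heis n p) := by
  have hpp : p.Prime := Fact.out
  have hP : IsPGroup p (Heis n p) := IsPGroup.of_card card_eq
  refine ⟨⟨hP, ?_, ?_⟩, ?_⟩
  · apply le_antisymm
    · rw [center_eq, ← ker_proj]
      apply Cfsg.Agent.Helper9.frattini_le_ker_of_elementary (p := p)
      · intro a b
        exact mul_comm a b
      · intro a
        have : a = Multiplicative.ofAdd (Multiplicative.toAdd a) := rfl
        rw [this, ← ofAdd_nsmul]
        have h0 : p • (Multiplicative.toAdd a) = 0 := by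
          ext i <;> simp
        rw [h0]; rfl
    · rw [center_eq, ← commutator_eq hn, commutator_def, Subgroup.commutator_le]
      intro x _ y _
      rw [commutatorElement_def]
      exact Cfsg.Agent.Helper21.commutator_mem_frattini_of_isPGroup hP x y
  · rw [center_eq, commutator_eq hn]
  · rw [center_eq, card_Z]


/-- the natural module -/
abbrev V (n p : ℕ) := ZMod p × (Fin n → ZMod p) × ZMod p

/-- the natural action of a Heisenberg element -/
def act (h : Heis n p) : Module.End (ZMod p) (V n p) where
  toFun v := (v.1 + h.a ⬝ᵥ v.2.1 + h.c * v.2.2, v.2.1 + v.2.2 • h.b, v.2.2)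
  map_add' v w := by
    refine Prod.ext ?_ (Prod.ext ?_ ?_)
    · simp only [Prod.fst_add, Prod.snd_add, dotProduct_add, mul_add]
      ring
    · simp only [Prod.fst_add, Prod.snd_add, add_smul]
      abel
    · simp
  map_smul' r v := by
    refine Prod.ext ?_ (Prod.ext ?_ ?_)
    · simp only [Prod.smul_fst, Prod.smul_snd, dotProduct_smul, smul_eq_mul, RingHom.id_apply]
      ring
    · simp only [Prod.smul_fst, Prod.smul_snd, smul_eq_mul, RingHom.id_apply, smul_add, mul_smul]
    · simp

theorem act_apply (h : Heis n p) (v : V n p) :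
    act h v = (v.1 + h.a ⬝ᵥ v.2.1 + h.c * v.2.2, v.2.1 + v.2.2 • h.b, v.2.2) := rfl

/-- the representation -/
def rho (n p : ℕ) : Heis n p →* Module.End (ZMod p) (V n p) where
  toFun := act
  map_one' := by
    apply LinearMap.ext
    intro v
    rw [act_apply]
    simp
  map_mul' x y := by
    apply LinearMap.ext
    intro v
    rw [Module.End.mul_apply, act_apply, act_apply, act_apply]
    refine Prod.ext ?_ (Prod.ext ?_ ?_)
    · simp only [mul_a, mul_c, add_dotProduct, dotProduct_add, dotProduct_smul, smul_eq_mul]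
      ring
    · simp only [mul_b, smul_add]
      abel
    · rfl

theorem rho_injective : Function.Injective (rho n p) := by
  classical
  intro x y hxy
  have h1 : ∀ v, act x v = act y v := fun v => LinearMap.congr_fun hxy v
  ext1
  · funext i
    have := congrArg Prod.fst (h1 (0, Pi.single i 1, 0))
    simpa [act_apply] using this
  · have := congrArg (fun v => v.2.1) (h1 (0, 0, 1))
    simpa [act_apply] using this
  · have := congrArg Prod.fst (h1 (0, 0, 1))
    simpa [act_apply] using this

end Heis

theorem finrank_V (n p : ℕ) [Fact p.Prime] : Module.finrank (ZMod p) (Heis.V n p) = n + 2 := by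
  rw [Module.finrank_prod, Module.finrank_prod, Module.finrank_fin_fun, Module.finrank_self]
  ring

/-- the embedding of the Heisenberg group into the general linear group -/
noncomputable def embed (n p : ℕ) [Fact p.Prime] :
    Heis n p →* Matrix.GeneralLinearGroup (Fin (n + 2)) (ZMod p) :=
  (Units.map (LinearMap.toMatrixAlgEquiv
    (Module.finBasisOfFinrankEq (ZMod p) (Heis.V n p) (finrank_V n p))).toAlgHom.toRingHom.toMonoidHom).comp
    (Heis.rho n p).toHomUnits

theorem embed_injective (n p : ℕ) [Fact p.Prime] : Function.Injective (embed n p) := by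
  unfold embed
  rw [MonoidHom.coe_comp]
  apply Function.Injective.comp
  · apply Units.map_injective
    exact (LinearMap.toMatrixAlgEquiv
      (Module.finBasisOfFinrankEq (ZMod p) (Heis.V n p) (finrank_V n p))).injective
  · intro x y hxy
    apply Heis.rho_injective
    have := congrArg Units.val hxy
    rwa [MonoidHom.coe_toHomUnits, MonoidHom.coe_toHomUnits] at this

theorem frattini_map_mulEquiv {P Q : Type*} [Group P] [Group Q] (e : P ≃* Q) :
    (frattini P).map (e : P →* Q) = frattini Q := by
  apply le_antisymm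
  · rw [Subgroup.map_le_iff_le_comap]
    exact frattini_le_comap_frattini_of_surjective (φ := (e : P →* Q)) e.surjective
  · intro x hx
    have h := frattini_le_comap_frattini_of_surjective (φ := (e.symm : Q →* P)) e.symm.surjective hx
    rw [Subgroup.mem_comap] at h
    exact ⟨_, h, by simp⟩

theorem commutator_map_mulEquiv {P Q : Type*} [Group P] [Group Q] (e : P ≃* Q) :
    (commutator P).map (e : P →* Q) = commutator Q := by
  rw [commutator_def, commutator_def, Subgroup.map_commutator,
    Subgroup.map_top_of_surjective _ e.surjective]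

theorem isExtraspecial_of_mulEquiv {P Q : Type*} [Group P] [Group Q] {p : ℕ} (e : P ≃* Q)
    (h : Cfsg.IsExtraspecial p P) : Cfsg.IsExtraspecial p Q := by
  obtain ⟨⟨h1, h2, h3⟩, h4⟩ := h
  refine ⟨⟨h1.of_equiv e, ?_, ?_⟩, ?_⟩
  · rw [← frattini_map_mulEquiv e, ← Cfsg.Agent.Helper7.map_center_mulEquiv e, h2]
  · rw [← commutator_map_mulEquiv e, ← Cfsg.Agent.Helper7.map_center_mulEquiv e, h3]
  · rw [← h4]
    exact Nat.card_congr (Subgroup.centerCongr e).symm.toEquiv

/-- For every odd prime p and every n ≥ 1 there is an extraspecial p-group of order p^(1+2n) and exponent p; concretely, the general linear group of degree n + 2 over the field with p elements contains such a subgroup. -/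
theorem result (p : ℕ) [Fact p.Prime] (hp : p ≠ 2) (n : ℕ) (hn : 1 ≤ n) : ∃ E : Subgroup (Matrix.GeneralLinearGroup (Fin (n + 2)) (ZMod p)), Cfsg.IsExtraspecial p ↥E ∧ Nat.card E = p ^ (1 + 2 * n) ∧ ∀ x ∈ E, x ^ p = 1 := by
  refine ⟨(embed n p).range, ?_, ?_, ?_⟩
  · exact isExtraspecial_of_mulEquiv (MonoidHom.ofInjective (embed_injective n p))
      (Heis.isExtraspecial hn)
  · rw [← Nat.card_congr (MonoidHom.ofInjective (embed_injective n p)).toEquiv, Heis.card_eq]
  · rintro x ⟨h, rfl⟩
    rw [← map_pow, Heis.pow_prime_eq_one hp, map_one]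

end Cfsg.Agent.S3799
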