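import Mathlib
import Cfsg.Statements.S3800
import Cfsg.Agent.Lib.Helper19.PPrime

set_option autoImplicit false
open Cfsg

namespace Cfsg.Agent.S3800

open Cfsg.Agent.Helper19

/-- Lifting an element normalizing the image of `P` to an element normalizing `P`. -/
theorem key {G : Type*} [Group G] [Finite G] {p : ℕ} [Fact p.Prime] (N : Subgroup G) [N.Normal]
    (hN : (Nat.card N).Coprime p) (P : Subgroup G) (hP : IsPGroup p P) (g : G)
    (hg : (QuotientGroup.mk' N g) ∈ Subgroup.normalizer ((P.map (QuotientGroup.mk' N)) : Set (G ⧸ N))) :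
    ∃ h ∈ Subgroup.normalizer (P : Set G), QuotientGroup.mk' N h = QuotientGroup.mk' N g := by
  have hNn : N.Normal := inferInstance
  -- for y ∈ P, g y g⁻¹ ∈ P ⊔ N and g⁻¹ y g ∈ P ⊔ N
  have h1 : ∀ y ∈ P, g * y * g⁻¹ ∈ P ⊔ N := by
    intro y hy
    have hmem : QuotientGroup.mk' N y ∈ P.map (QuotientGroup.mk' N) := Subgroup.mem_map_of_mem _ hy
    have := (Subgroup.mem_normalizer_iff.mp hg _).mp hmem
    obtain ⟨y', hy', hy'e⟩ := this
    have hn : y'⁻¹ * (g * y * g⁻¹) ∈ N := by
      rw [← QuotientGroup.eq]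
      simpa using hy'e
    have e : g * y * g⁻¹ = y' * (y'⁻¹ * (g * y * g⁻¹)) := by group
    rw [e]
    exact Subgroup.mul_mem_sup hy' hn
  have h2 : ∀ y ∈ P, g⁻¹ * y * g ∈ P ⊔ N := by
    intro y hy
    have hmem : QuotientGroup.mk' N y ∈ P.map (QuotientGroup.mk' N) := Subgroup.mem_map_of_mem _ hy
    have := (Subgroup.mem_normalizer_iff''.mp hg _).mp hmem
    obtain ⟨y', hy', hy'e⟩ := this
    have hn : y'⁻¹ * (g⁻¹ * y * g) ∈ N := by
      rw [← QuotientGroup.eq]
      simpa using hy'e
    have e : g⁻¹ * y * g = y' * (y'⁻¹ * (g⁻¹ * y * g)) := by group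
    rw [e]
    exact Subgroup.mul_mem_sup hy' hn
  set P₂ := P.map (MulAut.conj g).toMonoidHom with hP₂
  have hP₂p : IsPGroup p P₂ := hP.map _
  have h21 : P₂ ≤ P ⊔ N := by
    intro z hz
    rw [mem_map_conj] at hz
    have := h1 _ hz
    have e : g * (g⁻¹ * z * g) * g⁻¹ = z := by group
    rwa [e] at this
  have h12 : P ≤ P₂ ⊔ N := by
    intro y hy
    have := h2 y hy
    rw [Subgroup.mem_sup_of_normal_right] at this
    obtain ⟨y', hy', n, hn, hyn⟩ := this
    have e : y = (g * y' * g⁻¹) * (g * n * g⁻¹) := by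
      have : g * (y' * n) * g⁻¹ = y := by rw [hyn]; group
      rw [← this]; group
    rw [e]
    exact Subgroup.mul_mem_sup (conj_mem_map_conj P g y' hy') (hNn.conj_mem n hn g)
  obtain ⟨n, hn, hconj⟩ := exists_conj_of_sup_eq P P₂ N hP hP₂p hN h12 h21
  refine ⟨n⁻¹ * g, ?_, ?_⟩
  · rw [mem_normalizer_iff_map_conj, map_conj_mul, ← hP₂, ← hconj, map_conj_inv_map_conj]
  · rw [map_mul]
    have : QuotientGroup.mk' N n⁻¹ = 1 := by
      rw [QuotientGroup.mk'_apply, QuotientGroup.eq_one_iff]
      exact N.inv_mem hn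
    rw [this, one_mul]

/-- Let G be a finite group, N a normal subgroup of G whose order is prime to p, and P a p-subgroup of G. Then in G/N the normalizer of the image of P is the image of N_G(P), and the centralizer of the image of P is the image of C_G(P). -/
theorem result {G : Type*} [Group G] [Finite G] {p : ℕ} [Fact p.Prime] (N : Subgroup G) [N.Normal] (hN : (Nat.card N).Coprime p) (P : Subgroup G) (hP : IsPGroup p P) : Subgroup.normalizer ((P.map (QuotientGroup.mk' N)) : Set (G ⧸ N)) = (Subgroup.normalizer (P : Set G)).map (QuotientGroup.mk' N) ∧ Subgroup.centralizer ((P.map (QuotientGroup.mk' N)) : Set (G ⧸ N)) = (Subgroup.centralizer (P : Set G)).map (QuotientGroup.mk' N) := by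
  constructor
  · apply le_antisymm
    · intro q hq
      obtain ⟨g, rfl⟩ := QuotientGroup.mk'_surjective N q
      obtain ⟨h, hh, hhe⟩ := key N hN P hP g hq
      exact ⟨h, hh, hhe⟩
    · exact Subgroup.le_normalizer_map _
  · apply le_antisymm
    · intro q hq
      obtain ⟨g, rfl⟩ := QuotientGroup.mk'_surjective N q
      have hqn : (QuotientGroup.mk' N g) ∈ Subgroup.normalizer ((P.map (QuotientGroup.mk' N)) : Set (G ⧸ N)) :=
        Subgroup.centralizer_le_normalizer _ hq
      obtain ⟨h, hh, hhe⟩ := key N hN P hP g hqn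
      refine ⟨h, ?_, hhe⟩
      rw [SetLike.mem_coe, Subgroup.mem_centralizer_iff]
      intro y hy
      have hyP : y ∈ P := hy
      -- commutator lies in P ⊓ N
      have hc1 : h * y * h⁻¹ * y⁻¹ ∈ P := by
        apply P.mul_mem _ (P.inv_mem hyP)
        exact (Subgroup.mem_normalizer_iff.mp hh y).mp hyP
      have hc2 : h * y * h⁻¹ * y⁻¹ ∈ N := by
        rw [← QuotientGroup.eq_one_iff]
        have hcomm := (Subgroup.mem_centralizer_iff.mp hq) (QuotientGroup.mk' N y)
          (Subgroup.mem_map_of_mem _ hyP)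
        rw [← hhe] at hcomm
        simp only [QuotientGroup.mk'_apply] at hcomm
        simp only [QuotientGroup.mk_mul, QuotientGroup.mk_inv]
        rw [← hcomm]
        group
      have hc : h * y * h⁻¹ * y⁻¹ ∈ P ⊓ N := ⟨hc1, hc2⟩
      rw [inf_eq_bot_of_isPGroup_of_coprime P N hP hN, Subgroup.mem_bot] at hc
      have : h * y = (h * y * h⁻¹ * y⁻¹) * (y * h) := by group
      rw [this, hc, one_mul]
    · rintro _ ⟨c, hc, rfl⟩
      rw [Subgroup.mem_centralizer_iff]
      rintro _ ⟨y, hy, rfl⟩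
      rw [← map_mul, ← map_mul, (Subgroup.mem_centralizer_iff.mp hc) y hy]

end Cfsg.Agent.S3800
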