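import Mathlib
import Cfsg.Statements.S3802
import Cfsg.Agent.Lib.Helper19.Conj
import Cfsg.Agent.Lib.Helper19.SylowNormal

set_option autoImplicit false
open Cfsg

namespace Cfsg.Agent.S3802

open Cfsg.Agent.Helper19

universe u

theorem aux (n : ℕ) : ∀ (G : Type u) [Group G] [Finite G], Nat.card G = n →
    ∀ (M N : Subgroup G), IsCoatom M → N.IsSubnormal → N ≤ M → N ≤ M.normalCore := by
  induction n using Nat.strong_induction_on with
  | _ n ih =>
  intro G _ _ hcard M N hM hN hNM
  set K := Subgroup.normalClosure (N : Set G) with hK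
  have hNK : N ≤ K := Subgroup.subset_normalClosure
  by_cases hKM : K ≤ M
  · exact le_trans hNK (Subgroup.normal_le_normalCore.mpr hKM)
  · exfalso
    -- K ⊔ M = ⊤
    have hsup : K ⊔ M = ⊤ := by
      by_contra hne
      have hlt : M < K ⊔ M := lt_of_le_of_ne le_sup_right (fun h => hKM (h ▸ le_sup_left))
      exact hne (hM.2 _ hlt)
    -- K ≠ ⊤
    have hNtop : N ≠ ⊤ := fun h => hM.1 (top_le_iff.mp (h ▸ hNM))
    obtain ⟨L, hLn, hNL, hLtop⟩ := hN.exists_normal_and_le_and_lt_top_of_ne hNtop
    have hKL : K ≤ L := Subgroup.normalClosure_le_normal hNL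
    have hKtop : K ≠ ⊤ := fun h => (lt_of_le_of_lt (h ▸ hKL) hLtop).ne rfl
    have hcardK : Nat.card K < n := by
      rw [← hcard]
      apply lt_of_le_of_ne (Subgroup.card_le_card_group K)
      intro h
      exact hKtop ((Subgroup.card_eq_iff_eq_top K).mp h)
    -- a maximal subgroup of K containing M ∩ K
    have hMK : M.subgroupOf K ≠ ⊤ := by
      intro h
      rw [Subgroup.subgroupOf_eq_top] at h
      exact hKM h
    obtain ⟨M₁, hM₁co, hM₁⟩ := exists_coatom_ge (M.subgroupOf K) hMK
    set C := M₁.normalCore with hC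
    -- every M-conjugate of N lies in C
    have hconj : ∀ m ∈ M, (N.map (MulAut.conj m).toMonoidHom).subgroupOf K ≤ C := by
      intro m hm
      apply ih (Nat.card K) hcardK K rfl M₁ _ hM₁co
      · exact (hN.map (MulAut.conj m).surjective).subgroupOf
      · refine le_trans ?_ hM₁
        intro y hy
        rw [Subgroup.mem_subgroupOf] at hy ⊢
        exact map_conj_le_of_mem m hm hNM hy
    -- K ≤ C.map K.subtype
    have hKC : K ≤ C.map K.subtype := by
      have hKdef : K = Subgroup.closure (Group.conjugatesOfSet (N : Set G)) := rfl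
      intro z hz
      rw [hKdef] at hz
      revert z
      apply (Subgroup.closure_le _).mpr
      intro y hy
      rw [Group.mem_conjugatesOfSet_iff] at hy
      obtain ⟨a, ha, hay⟩ := hy
      obtain ⟨g, rfl⟩ := isConj_iff.mp hay
      have hg : g ∈ K ⊔ M := by rw [hsup]; trivial
      rw [Subgroup.mem_sup_of_normal_left] at hg
      obtain ⟨k, hk, m, hm, rfl⟩ := hg
      have hx : m * a * m⁻¹ ∈ N.map (MulAut.conj m).toMonoidHom := conj_mem_map_conj N m a ha
      have hxK : m * a * m⁻¹ ∈ K := by
        have hKn : K.Normal := Subgroup.normalClosure_normal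
        exact hKn.conj_mem a (hNK ha) m
      have hxC : (⟨m * a * m⁻¹, hxK⟩ : K) ∈ C := hconj m hm (by
        rw [Subgroup.mem_subgroupOf]; exact hx)
      have hCn : C.Normal := Subgroup.normalCore_normal M₁
      have := hCn.conj_mem _ hxC ⟨k, hk⟩
      refine ⟨_, this, ?_⟩
      simp only [Subgroup.subtype_apply, Subgroup.coe_mul, Subgroup.coe_inv]
      group
    have hCtop : C = ⊤ := by
      rw [eq_top_iff]
      intro k _
      have := hKC k.2
      exact (Subgroup.mem_map_iff_mem K.subtype_injective).mp this
    have : M₁ = ⊤ := top_le_iff.mp (hCtop ▸ Subgroup.normalCore_le M₁)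
    exact hM₁co.1 this

/-- Let G be a finite group, M a maximal subgroup of G and N a subnormal subgroup of G contained in M. Then N is contained in every conjugate of M, that is, N lies in the core of M in G. -/
theorem result {G : Type*} [Group G] [Finite G] (M N : Subgroup G) (hM : IsCoatom M) (hN : N.IsSubnormal) (hNM : N ≤ M) :
    N ≤ Subgroup.normalCore M :=
  aux (Nat.card G) G rfl M N hM hN hNM

end Cfsg.Agent.S3802
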