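import Mathlib
import Cfsg.Statements.S3803
import Cfsg.Agent.Lib.Helper10.OmegaLemma
import Cfsg.Agent.Lib.Helper23.BurnsideFrattini
import Cfsg.Agent.Lib.Helper21.PGroupFrattini
import Cfsg.Agent.Lib.Helper19.NormalizerLattice
import Cfsg.Agent.Lib.Helper19.SylowNormal

set_option autoImplicit false
open Cfsg

namespace Cfsg.Agent.S3803

variable {X : Type*} [Group X]

/-- Subgroups of a `p`-subgroup of every intermediate order. -/
theorem exists_between [Finite X] {p : ℕ} [Fact p.Prime] (P Z : Subgroup X) (hZP : Z ≤ P)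
    (n m : ℕ) (hZ : Nat.card Z = p ^ n) (hnm : n ≤ m) (hm : p ^ m ∣ Nat.card P) :
    ∃ E : Subgroup X, Z ≤ E ∧ E ≤ P ∧ Nat.card E = p ^ m := by
  have h1 : Nat.card (Z.subgroupOf P) = p ^ n := by
    rw [← hZ]
    exact Nat.card_congr (Subgroup.subgroupOfEquivOfLe hZP).toEquiv
  obtain ⟨K, hK, hZK⟩ := Sylow.exists_subgroup_card_pow_prime_le p hm (Z.subgroupOf P) h1 hnm
  refine ⟨K.map P.subtype, ?_, Subgroup.map_subtype_le K, ?_⟩
  · intro z hz
    exact Subgroup.mem_map.mpr ⟨⟨z, hZP hz⟩, hZK (Subgroup.mem_subgroupOf.mpr hz), rfl⟩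
  · rw [Subgroup.card_map_of_injective P.subtype_injective, hK]

/-- An element of odd order normalizing a cyclic `2`-subgroup centralizes it. -/
theorem mem_centralizer_of_isCyclic [Finite X] (E : Subgroup X) (hE : IsPGroup 2 E)
    (hcyc : IsCyclic ↥E) (a : X) (ha : Odd (orderOf a))
    (haE : a ∈ Subgroup.normalizer (E : Set X)) : a ∈ Subgroup.centralizer (E : Set X) := by
  obtain ⟨φ, hφ⟩ : ∃ φ : MulAut ↥E, φ = E.normalizerMonoidHom ⟨a, haE⟩ := ⟨_, rfl⟩
  have h1 : orderOf φ ∣ orderOf a := by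
    rw [hφ]
    have := orderOf_map_dvd E.normalizerMonoidHom (⟨a, haE⟩ : ↥(Subgroup.normalizer (E : Set X)))
    rwa [Subgroup.orderOf_mk] at this
  have h2 : orderOf φ ∣ Nat.card (MulAut ↥E) := orderOf_dvd_natCard φ
  rw [IsCyclic.card_mulAut] at h2
  obtain ⟨k, hk⟩ := IsPGroup.iff_card.mp hE
  rw [hk] at h2
  have h3 : ∃ j : ℕ, Nat.totient (2 ^ k) = 2 ^ j := by
    rcases Nat.eq_zero_or_pos k with h0 | h0
    · exact ⟨0, by rw [h0]; simp⟩
    · exact ⟨k - 1, by rw [Nat.totient_prime_pow Nat.prime_two h0]; simp⟩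
  obtain ⟨j, hj⟩ := h3
  rw [hj] at h2
  have h4 : orderOf φ = 1 := by
    have hodd : Odd (orderOf φ) := by
      obtain ⟨c, hc⟩ := h1
      rw [hc] at ha
      exact (Nat.odd_mul.mp ha).1
    have hcop : Nat.Coprime (orderOf φ) (2 ^ j) :=
      Nat.Coprime.pow_right j (Nat.coprime_two_right.mpr hodd)
    exact Nat.Coprime.eq_one_of_dvd hcop h2
  have h5 : φ = 1 := orderOf_eq_one_iff.mp h4
  have h6 : (⟨a, haE⟩ : ↥(Subgroup.normalizer (E : Set X))) ∈ E.normalizerMonoidHom.ker := by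
    rw [MonoidHom.mem_ker, ← hφ, h5]
  rw [Subgroup.normalizerMonoidHom_ker, Subgroup.mem_subgroupOf] at h6
  exact h6

/-- An element of odd order normalizing a `2`-subgroup and all its subgroups of index `2`
centralizes it. -/
theorem mem_centralizer_of_normalizes_maximal [Finite X] (F : Subgroup X) (hF : IsPGroup 2 F)
    (a : X) (ha : Odd (orderOf a)) (haF : a ∈ Subgroup.normalizer (F : Set X))
    (hM : ∀ M : Subgroup X, M ≤ F → Nat.card M * 2 = Nat.card F →
      a ∈ Subgroup.normalizer (M : Set X)) :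
    a ∈ Subgroup.centralizer (F : Set X) := by
  have h2f : Fact (Nat.Prime 2) := ⟨Nat.prime_two⟩
  have hcop : (Nat.card (Subgroup.zpowers a)).Coprime 2 := by
    rw [Nat.card_zpowers]
    exact Nat.coprime_two_right.mpr ha
  have hsolv : Group.IsSolvable ↥(Subgroup.zpowers a) := inferInstance
  have hΦ : Subgroup.zpowers a ≤
      Subgroup.normalizer (((frattini ↥F).map F.subtype : Subgroup X) : Set X) := by
    rw [Subgroup.zpowers_le]
    exact Cfsg.Agent.Helper10.normalizer_le_normalizer_map_frattini F haF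
  have hact : ∀ b ∈ Subgroup.zpowers a, ∀ r ∈ F,
      b * r * b⁻¹ * r⁻¹ ∈ (frattini ↥F).map F.subtype := by
    intro b hb r hr
    have hbF : b ∈ Subgroup.normalizer (F : Set X) :=
      (Subgroup.zpowers_le.mpr haF) hb
    have hc1 : b * r * b⁻¹ ∈ F := (Subgroup.mem_normalizer_iff.mp hbF r).mp hr
    have hc : b * r * b⁻¹ * r⁻¹ ∈ F := F.mul_mem hc1 (F.inv_mem hr)
    refine Subgroup.mem_map.mpr ⟨⟨b * r * b⁻¹ * r⁻¹, hc⟩, ?_, rfl⟩
    unfold frattini Order.radical
    simp only [Subgroup.mem_iInf]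
    intro M' hM'
    have hidx : M'.index = 2 := Cfsg.Agent.Helper21.coatom_index_of_isPGroup hF M' hM'
    have hcard : Nat.card (M'.map F.subtype) * 2 = Nat.card F := by
      rw [Subgroup.card_map_of_injective F.subtype_injective, ← hidx]
      exact Subgroup.card_mul_index M'
    have hbM : b ∈ Subgroup.normalizer ((M'.map F.subtype : Subgroup X) : Set X) :=
      (Subgroup.zpowers_le.mpr (hM _ (Subgroup.map_subtype_le M') hcard)) hb
    have hiff : (⟨b * r * b⁻¹, hc1⟩ : ↥F) ∈ M' ↔ (⟨r, hr⟩ : ↥F) ∈ M' := by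
      have h1 := Subgroup.mem_normalizer_iff.mp hbM r
      constructor
      · intro h
        have h2 : b * r * b⁻¹ ∈ M'.map F.subtype := Subgroup.mem_map.mpr ⟨_, h, rfl⟩
        obtain ⟨y, hy, hyr⟩ := Subgroup.mem_map.mp (h1.mpr h2)
        have : y = ⟨r, hr⟩ := Subtype.ext hyr
        rwa [← this]
      · intro h
        have h2 : r ∈ M'.map F.subtype := Subgroup.mem_map.mpr ⟨_, h, rfl⟩
        obtain ⟨y, hy, hyr⟩ := Subgroup.mem_map.mp (h1.mp h2)
        have : y = ⟨b * r * b⁻¹, hc1⟩ := Subtype.ext hyr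
        rwa [← this]
    have e : (⟨b * r * b⁻¹ * r⁻¹, hc⟩ : ↥F) = ⟨b * r * b⁻¹, hc1⟩ * (⟨r, hr⟩ : ↥F)⁻¹ := rfl
    rw [e, Subgroup.mul_mem_iff_of_index_two hidx, Subgroup.inv_mem_iff]
    exact hiff
  have key := Cfsg.Agent.Helper23.centralizes_of_frattini F hF (Subgroup.zpowers a) hcop hsolv
    hΦ hact
  rw [Subgroup.mem_centralizer_iff]
  intro x hx
  have := key hx
  rw [Subgroup.mem_centralizer_iff] at this
  exact (this a (Subgroup.mem_zpowers a)).symm

/-- A non-cyclic finite group has two distinct maximal subgroups. -/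
theorem exists_two_coatoms {F : Type*} [Group F] [Finite F] (h : ¬ IsCyclic F) :
    ∃ M₁ M₂ : Subgroup F, IsCoatom M₁ ∧ IsCoatom M₂ ∧ M₁ ≠ M₂ := by
  have hnt : (⊥ : Subgroup F) ≠ ⊤ := by
    intro hbt
    apply h
    have h1 : Subsingleton (Subgroup F) := subsingleton_iff_bot_eq_top.mp hbt
    have h2 : Subsingleton F := Subgroup.subsingleton_iff.mp h1
    exact isCyclic_of_subsingleton
  obtain ⟨M₁, hM₁, -⟩ := Cfsg.Agent.Helper19.exists_coatom_ge (⊥ : Subgroup F) hnt
  obtain ⟨x, hx⟩ : ∃ x : F, x ∉ M₁ := by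
    by_contra hcon
    push Not at hcon
    exact hM₁.1 (eq_top_iff.mpr fun x _ => hcon x)
  have hz : Subgroup.zpowers x ≠ ⊤ := by
    intro hz
    exact h ⟨x, fun y => by
      have : y ∈ Subgroup.zpowers x := by rw [hz]; exact Subgroup.mem_top y
      exact this⟩
  obtain ⟨M₂, hM₂, hxM₂⟩ := Cfsg.Agent.Helper19.exists_coatom_ge (Subgroup.zpowers x) hz
  refine ⟨M₁, M₂, hM₁, hM₂, ?_⟩
  intro heq
  apply hx
  rw [heq]
  exact hxM₂ (Subgroup.mem_zpowers x)

/-- An element normalizing all subgroups of index `2` of a non-cyclic `2`-subgroup normalizes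
the subgroup. -/
theorem mem_normalizer_of_not_isCyclic [Finite X] (F : Subgroup X) (hF : IsPGroup 2 F)
    (hnc : ¬ IsCyclic ↥F) (a : X)
    (hM : ∀ M : Subgroup X, M ≤ F → Nat.card M * 2 = Nat.card F →
      a ∈ Subgroup.normalizer (M : Set X)) :
    a ∈ Subgroup.normalizer (F : Set X) := by
  have h2f : Fact (Nat.Prime 2) := ⟨Nat.prime_two⟩
  obtain ⟨M₁, M₂, hM₁, hM₂, hne⟩ := exists_two_coatoms hnc
  have hsup : M₁ ⊔ M₂ = ⊤ := by
    by_contra hcon
    have h1 : M₁ ⊔ M₂ = M₁ := by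
      rcases eq_or_lt_of_le (le_sup_left : M₁ ≤ M₁ ⊔ M₂) with h | h
      · exact h.symm
      · exact absurd (hM₁.2 _ h) hcon
    have h2 : M₁ ⊔ M₂ = M₂ := by
      rcases eq_or_lt_of_le (le_sup_right : M₂ ≤ M₁ ⊔ M₂) with h | h
      · exact h.symm
      · exact absurd (hM₂.2 _ h) hcon
    exact hne (h1.symm.trans h2)
  have hcard : ∀ M' : Subgroup ↥F, IsCoatom M' →
      Nat.card (M'.map F.subtype) * 2 = Nat.card F := by
    intro M' hM'
    have hidx : M'.index = 2 := Cfsg.Agent.Helper21.coatom_index_of_isPGroup hF M' hM'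
    rw [Subgroup.card_map_of_injective F.subtype_injective, ← hidx]
    exact Subgroup.card_mul_index M'
  have hF' : F = M₁.map F.subtype ⊔ M₂.map F.subtype := by
    rw [← Subgroup.map_sup, hsup, ← MonoidHom.range_eq_map, Subgroup.range_subtype]
  have h1 := hM _ (Subgroup.map_subtype_le M₁) (hcard M₁ hM₁)
  have h2 := hM _ (Subgroup.map_subtype_le M₂) (hcard M₂ hM₂)
  have h3 := Cfsg.Agent.Helper19.le_normalizer_sup (Subgroup.zpowers a) _ _
    (Subgroup.zpowers_le.mpr h1) (Subgroup.zpowers_le.mpr h2)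
  rw [← hF'] at h3
  exact h3 (Subgroup.mem_zpowers a)

theorem result {X : Type*} [Group X] [Finite X] (P A D : Subgroup X) (hP : IsPGroup 2 P) (hA : Odd (Nat.card A))
    (hAP : A ≤ Subgroup.normalizer (P : Set X)) (hDP : D ≤ P) (hD1 : 1 < Nat.card D) (hD2 : Nat.card D < Nat.card P)
    (hinv : ∀ E : Subgroup X, E ≤ P → (Nat.card E = Nat.card D ∨ (Nat.card D = 2 ∧ Nat.card E = 4)) → A ≤ Subgroup.normalizer (E : Set X)) :
    A ≤ Subgroup.centralizer (P : Set X) := by
  have h2f : Fact (Nat.Prime 2) := ⟨Nat.prime_two⟩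
  obtain ⟨n, hn⟩ := IsPGroup.iff_card.mp hP
  obtain ⟨k, hk⟩ := IsPGroup.iff_card.mp (hP.to_le hDP)
  have hkn : k < n := by
    rw [hk, hn] at hD2
    exact (Nat.pow_lt_pow_iff_right (by norm_num)).mp hD2
  have hk1 : 1 ≤ k := by
    by_contra h
    have h0 : k = 0 := by omega
    rw [hk, h0] at hD1
    simp at hD1
  have hoddA : ∀ a ∈ A, Odd (orderOf a) := by
    intro a ha
    obtain ⟨c, hc⟩ := Subgroup.orderOf_dvd_natCard A ha
    rw [hc] at hA
    exact (Nat.odd_mul.mp hA).1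
  -- subgroups of order `|D|` are centralized
  have SC : ∀ E : Subgroup X, E ≤ P → Nat.card E = 2 ^ k →
      ∀ a ∈ A, a ∈ Subgroup.centralizer (E : Set X) := by
    intro E hEP hEk a ha
    have haE : a ∈ Subgroup.normalizer (E : Set X) :=
      hinv E hEP (Or.inl (by rw [hEk, hk])) ha
    by_cases hcyc : IsCyclic ↥E
    · exact mem_centralizer_of_isCyclic E (hP.to_le hEP) hcyc a (hoddA a ha) haE
    · obtain ⟨F, hEF, hFP, hFcard⟩ := exists_between P E hEP k (k + 1) hEk (Nat.le_succ k)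
        (by rw [hn]; exact pow_dvd_pow 2 hkn)
      have hFnc : ¬ IsCyclic ↥F := by
        intro hF
        apply hcyc
        exact isCyclic_of_injective (Subgroup.inclusion hEF) (Subgroup.inclusion_injective hEF)
      have hM : ∀ M : Subgroup X, M ≤ F → Nat.card M * 2 = Nat.card F →
          a ∈ Subgroup.normalizer (M : Set X) := by
        intro M hMF hMc
        refine hinv M (hMF.trans hFP) (Or.inl ?_) ha
        rw [hFcard, pow_succ] at hMc
        rw [hk]
        omega
      have haF := mem_normalizer_of_not_isCyclic F (hP.to_le hFP) hFnc a hM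
      have hcF := mem_centralizer_of_normalizes_maximal F (hP.to_le hFP) a (hoddA a ha) haF hM
      exact Subgroup.centralizer_le hEF hcF
  intro a ha
  have hcop : (orderOf a).Coprime 2 := Nat.coprime_two_right.mpr (hoddA a ha)
  apply Cfsg.Agent.Helper10.mem_centralizer_of_omega P hP a hcop (hAP ha)
  intro x hxP hx
  by_cases hx1 : x = 1
  · rw [hx1, mul_one, one_mul]
  have hx4 : x ^ 4 = 1 := by
    rcases hx with h | ⟨_, h⟩
    · rw [show 4 = 2 * 2 from rfl, pow_mul, h, one_pow]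
    · exact h
  have hZP : Subgroup.zpowers x ≤ P := Subgroup.zpowers_le.mpr hxP
  have hord : orderOf x ∣ 2 ^ 2 := orderOf_dvd_of_pow_eq_one hx4
  obtain ⟨j, hj2, hj⟩ := (Nat.dvd_prime_pow Nat.prime_two).mp hord
  have hZcard : Nat.card (Subgroup.zpowers x) = 2 ^ j := by rw [Nat.card_zpowers, hj]
  have hj0 : j ≠ 0 := by
    intro h0
    rw [h0, pow_zero, orderOf_eq_one_iff] at hj
    exact hx1 hj
  have hcent : a ∈ Subgroup.centralizer ((Subgroup.zpowers x : Subgroup X) : Set X) := by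
    by_cases hk1' : k = 1
    · have haZ : a ∈ Subgroup.normalizer ((Subgroup.zpowers x : Subgroup X) : Set X) := by
        have hj12 : j = 1 ∨ j = 2 := by omega
        rcases hj12 with h | h
        · refine hinv _ hZP (Or.inl ?_) ha
          rw [hZcard, hk, h, hk1']
        · refine hinv _ hZP (Or.inr ⟨?_, ?_⟩) ha
          · rw [hk, hk1', pow_one]
          · rw [hZcard, h]
            norm_num
      exact mem_centralizer_of_isCyclic _ (hP.to_le hZP) inferInstance a (hoddA a ha) haZ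
    · have hk2 : 2 ≤ k := by omega
      obtain ⟨E, hZE, hEP, hEcard⟩ := exists_between P (Subgroup.zpowers x) hZP j k hZcard
        (by omega) (by rw [hn]; exact pow_dvd_pow 2 hkn.le)
      exact Subgroup.centralizer_le hZE (SC E hEP hEcard a ha)
  rw [Subgroup.mem_centralizer_iff] at hcent
  exact (hcent x (Subgroup.mem_zpowers x)).symm

end Cfsg.Agent.S3803
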