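import Mathlib
import Cfsg.Statements.S3804
import Cfsg.Agent.Lib.Helper19.CardProd

set_option autoImplicit false
open Cfsg

namespace Cfsg.Agent.S3804

/-- real-number core of the argument -/
theorem real_core {M mI mJ : ℝ} (hM : 0 < M) (hI0 : 0 < mI) (hJ0 : 0 < mJ) (hI : mI ≤ M) (hJ : mJ ≤ M)
    (hprod : M * M ≤ mI * mJ) : mI = M ∧ mJ = M := by
  constructor
  · by_contra hne
    have hlt : mI < M := lt_of_le_of_ne hI hne
    nlinarith
  · by_contra hne
    have hlt : mJ < M := lt_of_le_of_ne hJ hne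
    nlinarith

/-- equality in a product of two inequalities between positive reals -/
theorem real_core2 {x y u v : ℝ} (hx : 0 < x) (hu : 0 < u) (hxy : x ≤ y) (huv : u ≤ v)
    (h : y * v ≤ x * u) : x = y ∧ u = v := by
  constructor
  · by_contra hne
    have hlt : x < y := lt_of_le_of_ne hxy hne
    nlinarith
  · by_contra hne
    have hlt : u < v := lt_of_le_of_ne huv hne
    nlinarith

theorem nat_core {x y u v : ℕ} (hx : 0 < x) (hu : 0 < u) (hxy : x ≤ y) (huv : u ≤ v)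
    (h : y * v ≤ x * u) : x = y ∧ u = v := by
  constructor
  · by_contra hne
    have hlt : x < y := lt_of_le_of_ne hxy hne
    nlinarith
  · by_contra hne
    have hlt : u < v := lt_of_le_of_ne huv hne
    nlinarith

/-- Let G and H be subgroups of a finite group with G normalizing H, fix a real number α > 0, and for a subgroup A of G put m(A) = |A|^α · |C_H(A)|. Let A and B be nontrivial subgroups of G at which m attains its maximum over all nontrivial subgroups of G, and assume that A ∩ B ≠ 1 or that this maximum is at least |H|. Then AB = BA is a subgroup at which m is again maximal, C_H(A ∩ B) = C_H(A) C_H(B), and if A ∩ B ≠ 1 then m is maximal at A ∩ B as well. -/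
theorem result {X : Type*} [Group X] [Finite X] (G H : Subgroup X) (hGH : G ≤ Subgroup.normalizer (H : Set X)) (α : ℝ) (hα : 0 < α)
    (A B : Subgroup X) (hA : A ≤ G) (hB : B ≤ G) (hA1 : A ≠ ⊥) (hB1 : B ≠ ⊥)
    (hAmax : ∀ A' : Subgroup X, A' ≤ G → A' ≠ ⊥ → (fun A : Subgroup X => ((Nat.card A : ℝ) ^ α) * (Nat.card ↥(H ⊓ Subgroup.centralizer (A : Set X)) : ℝ)) A' ≤ (fun A : Subgroup X => ((Nat.card A : ℝ) ^ α) * (Nat.card ↥(H ⊓ Subgroup.centralizer (A : Set X)) : ℝ)) A)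
    (hBmax : ∀ A' : Subgroup X, A' ≤ G → A' ≠ ⊥ → (fun A : Subgroup X => ((Nat.card A : ℝ) ^ α) * (Nat.card ↥(H ⊓ Subgroup.centralizer (A : Set X)) : ℝ)) A' ≤ (fun A : Subgroup X => ((Nat.card A : ℝ) ^ α) * (Nat.card ↥(H ⊓ Subgroup.centralizer (A : Set X)) : ℝ)) B)
    (hcase : A ⊓ B ≠ ⊥ ∨ (Nat.card H : ℝ) ≤ (fun A : Subgroup X => ((Nat.card A : ℝ) ^ α) * (Nat.card ↥(H ⊓ Subgroup.centralizer (A : Set X)) : ℝ)) A) :
    (∀ a ∈ A, ∀ b ∈ B, ∃ b' ∈ B, ∃ a' ∈ A, a * b = b' * a') ∧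
    (∀ A' : Subgroup X, A' ≤ G → A' ≠ ⊥ → (fun A : Subgroup X => ((Nat.card A : ℝ) ^ α) * (Nat.card ↥(H ⊓ Subgroup.centralizer (A : Set X)) : ℝ)) A' ≤ (fun A : Subgroup X => ((Nat.card A : ℝ) ^ α) * (Nat.card ↥(H ⊓ Subgroup.centralizer (A : Set X)) : ℝ)) (A ⊔ B)) ∧
    (∀ h ∈ H ⊓ Subgroup.centralizer ((A ⊓ B : Subgroup X) : Set X), ∃ u ∈ H ⊓ Subgroup.centralizer (A : Set X), ∃ v ∈ H ⊓ Subgroup.centralizer (B : Set X), h = u * v) ∧
    (A ⊓ B ≠ ⊥ → ∀ A' : Subgroup X, A' ≤ G → A' ≠ ⊥ → (fun A : Subgroup X => ((Nat.card A : ℝ) ^ α) * (Nat.card ↥(H ⊓ Subgroup.centralizer (A : Set X)) : ℝ)) A' ≤ (fun A : Subgroup X => ((Nat.card A : ℝ) ^ α) * (Nat.card ↥(H ⊓ Subgroup.centralizer (A : Set X)) : ℝ)) (A ⊓ B)) := by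
  let m : Subgroup X → ℝ := fun A => ((Nat.card A : ℝ) ^ α) *
    (Nat.card ↥(H ⊓ Subgroup.centralizer (A : Set X)) : ℝ)
  have hmdef : ∀ K : Subgroup X, m K = ((Nat.card K : ℝ) ^ α) *
    (Nat.card ↥(H ⊓ Subgroup.centralizer (K : Set X)) : ℝ) := fun _ => rfl
  have hAmax' : ∀ A' : Subgroup X, A' ≤ G → A' ≠ ⊥ → m A' ≤ m A := hAmax
  have hBmax' : ∀ A' : Subgroup X, A' ≤ G → A' ≠ ⊥ → m A' ≤ m B := hBmax
  have hcase' : A ⊓ B ≠ ⊥ ∨ (Nat.card H : ℝ) ≤ m A := hcase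
  have hMAB : m A = m B := le_antisymm (hBmax' A hA hA1) (hAmax' B hB hB1)
  have hcpos : ∀ K : Subgroup X, (0 : ℝ) < (Nat.card K : ℝ) := fun K =>
    Nat.cast_pos.mpr Nat.card_pos
  have hmpos : ∀ K : Subgroup X, 0 < m K := by
    intro K
    rw [hmdef]
    exact mul_pos (Real.rpow_pos_of_pos (hcpos K) α) (hcpos _)
  -- the subgroup-level inequalities
  have hN1 : Nat.card A * Nat.card B ≤ Nat.card ↥(A ⊓ B) * Nat.card ↥(A ⊔ B) :=
    Cfsg.Agent.Helper19.card_mul_card_le A B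
  have hCA_I : H ⊓ Subgroup.centralizer (A : Set X) ≤
      H ⊓ Subgroup.centralizer ((A ⊓ B : Subgroup X) : Set X) :=
    inf_le_inf_left H (Subgroup.centralizer_le (inf_le_left : A ⊓ B ≤ A))
  have hCB_I : H ⊓ Subgroup.centralizer (B : Set X) ≤
      H ⊓ Subgroup.centralizer ((A ⊓ B : Subgroup X) : Set X) :=
    inf_le_inf_left H (Subgroup.centralizer_le (inf_le_right : A ⊓ B ≤ B))
  have hsup_I : (H ⊓ Subgroup.centralizer (A : Set X)) ⊔ (H ⊓ Subgroup.centralizer (B : Set X)) ≤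
      H ⊓ Subgroup.centralizer ((A ⊓ B : Subgroup X) : Set X) := sup_le hCA_I hCB_I
  have hinf_J : (H ⊓ Subgroup.centralizer (A : Set X)) ⊓ (H ⊓ Subgroup.centralizer (B : Set X)) ≤
      H ⊓ Subgroup.centralizer ((A ⊔ B : Subgroup X) : Set X) := by
    intro g hg
    have hg1 : g ∈ H ⊓ Subgroup.centralizer (A : Set X) := hg.1
    have hg2 : g ∈ H ⊓ Subgroup.centralizer (B : Set X) := hg.2
    have hgH : g ∈ H := hg1.1
    have hgA : g ∈ Subgroup.centralizer (A : Set X) := hg1.2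
    have hgB : g ∈ Subgroup.centralizer (B : Set X) := hg2.2
    refine Subgroup.mem_inf.mpr ⟨hgH, ?_⟩
    have hle : A ⊔ B ≤ Subgroup.centralizer ({g} : Set X) := by
      apply sup_le
      · intro a ha
        rw [Subgroup.mem_centralizer_iff]
        intro d hd
        rw [Set.mem_singleton_iff] at hd
        rw [hd]
        rw [Subgroup.mem_centralizer_iff] at hgA
        exact (hgA a ha).symm
      · intro b hb
        rw [Subgroup.mem_centralizer_iff]
        intro d hd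
        rw [Set.mem_singleton_iff] at hd
        rw [hd]
        rw [Subgroup.mem_centralizer_iff] at hgB
        exact (hgB b hb).symm
    rw [Subgroup.mem_centralizer_iff]
    intro k hk
    have := hle hk
    rw [Subgroup.mem_centralizer_iff] at this
    exact (this g rfl).symm
  have hN2a : Nat.card ↥(H ⊓ Subgroup.centralizer (A : Set X)) *
      Nat.card ↥(H ⊓ Subgroup.centralizer (B : Set X)) ≤
      Nat.card ↥((H ⊓ Subgroup.centralizer (A : Set X)) ⊓ (H ⊓ Subgroup.centralizer (B : Set X))) *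
      Nat.card ↥((H ⊓ Subgroup.centralizer (A : Set X)) ⊔ (H ⊓ Subgroup.centralizer (B : Set X))) :=
    Cfsg.Agent.Helper19.card_mul_card_le _ _
  have hN2b := Subgroup.card_le_of_le hinf_J
  have hN2c := Subgroup.card_le_of_le hsup_I
  -- names for the cardinalities
  set a := Nat.card A with ha
  set b := Nat.card B with hb
  set i := Nat.card ↥(A ⊓ B) with hi
  set j := Nat.card ↥(A ⊔ B) with hj
  set cA := Nat.card ↥(H ⊓ Subgroup.centralizer (A : Set X)) with hcA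
  set cB := Nat.card ↥(H ⊓ Subgroup.centralizer (B : Set X)) with hcB
  set cI := Nat.card ↥(H ⊓ Subgroup.centralizer ((A ⊓ B : Subgroup X) : Set X)) with hcI
  set cJ := Nat.card ↥(H ⊓ Subgroup.centralizer ((A ⊔ B : Subgroup X) : Set X)) with hcJ
  set dI := Nat.card ↥((H ⊓ Subgroup.centralizer (A : Set X)) ⊓
    (H ⊓ Subgroup.centralizer (B : Set X))) with hdI
  set dS := Nat.card ↥((H ⊓ Subgroup.centralizer (A : Set X)) ⊔
    (H ⊓ Subgroup.centralizer (B : Set X))) with hdS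
  have ha0 : 0 < a := Nat.card_pos
  have hb0 : 0 < b := Nat.card_pos
  have hi0 : 0 < i := Nat.card_pos
  have hj0 : 0 < j := Nat.card_pos
  have hcA0 : 0 < cA := Nat.card_pos
  have hcB0 : 0 < cB := Nat.card_pos
  have hcI0 : 0 < cI := Nat.card_pos
  have hcJ0 : 0 < cJ := Nat.card_pos
  have hdI0 : 0 < dI := Nat.card_pos
  have hdS0 : 0 < dS := Nat.card_pos
  have hN2 : cA * cB ≤ cI * cJ := by
    calc cA * cB ≤ dI * dS := hN2a
      _ ≤ cJ * cI := Nat.mul_le_mul hN2b hN2c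
      _ = cI * cJ := mul_comm _ _
  have hmA : m A = (a : ℝ) ^ α * (cA : ℝ) := rfl
  have hmB : m B = (b : ℝ) ^ α * (cB : ℝ) := rfl
  have hmI : m (A ⊓ B) = (i : ℝ) ^ α * (cI : ℝ) := rfl
  have hmJ : m (A ⊔ B) = (j : ℝ) ^ α * (cJ : ℝ) := rfl
  -- m at the join and the meet is at most the maximum
  have hJle : m (A ⊔ B) ≤ m A := by
    apply hAmax' _ (sup_le hA hB)
    intro h
    apply hA1
    rw [eq_bot_iff, ← h]
    exact le_sup_left
  have hIle : m (A ⊓ B) ≤ m A := by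
    by_cases hI : A ⊓ B = ⊥
    · rcases hcase' with h | h
      · exact absurd hI h
      · refine le_trans (le_of_eq ?_) h
        rw [hmdef, hI]
        have h1 : Nat.card ↥(⊥ : Subgroup X) = 1 := Subgroup.card_bot
        have h2 : H ⊓ Subgroup.centralizer (((⊥ : Subgroup X) : Subgroup X) : Set X) = H := by
          rw [Subgroup.coe_bot, Subgroup.centralizer_eq_top_iff_subset.mpr, inf_top_eq]
          intro x hx
          rw [Set.mem_singleton_iff] at hx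
          rw [hx]
          exact Subgroup.one_mem _
        rw [h1, h2]
        simp
    · exact hAmax' _ (le_trans inf_le_left hA) hI
  -- product inequality
  have hpow : ((a : ℝ) * (b : ℝ)) ^ α ≤ ((i : ℝ) * (j : ℝ)) ^ α := by
    apply Real.rpow_le_rpow (by positivity) _ hα.le
    exact_mod_cast hN1
  have hcc : ((cA : ℝ) * (cB : ℝ)) ≤ ((cI : ℝ) * (cJ : ℝ)) := by exact_mod_cast hN2
  have hab : ((a : ℝ) * (b : ℝ)) ^ α = (a : ℝ) ^ α * (b : ℝ) ^ α :=
    Real.mul_rpow (by positivity) (by positivity)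
  have hij : ((i : ℝ) * (j : ℝ)) ^ α = (i : ℝ) ^ α * (j : ℝ) ^ α :=
    Real.mul_rpow (by positivity) (by positivity)
  have hpowpos : 0 < ((a : ℝ) * (b : ℝ)) ^ α := Real.rpow_pos_of_pos (by positivity) α
  have hccpos : 0 < ((cA : ℝ) * (cB : ℝ)) := by positivity
  have hMM : m A * m A = ((a : ℝ) * (b : ℝ)) ^ α * ((cA : ℝ) * (cB : ℝ)) := by
    rw [hab]
    nth_rewrite 2 [hMAB]
    rw [hmA, hmB]
    ring
  have hIJ : m (A ⊓ B) * m (A ⊔ B) = ((i : ℝ) * (j : ℝ)) ^ α * ((cI : ℝ) * (cJ : ℝ)) := by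
    rw [hij, hmI, hmJ]
    ring
  have hprod : m A * m A ≤ m (A ⊓ B) * m (A ⊔ B) := by
    rw [hMM, hIJ]
    exact mul_le_mul hpow hcc hccpos.le (le_trans hpowpos.le hpow)
  obtain ⟨hIeq, hJeq⟩ := real_core (hmpos A) (hmpos _) (hmpos _) hIle hJle hprod
  -- equalities
  have hprod' : ((i : ℝ) * (j : ℝ)) ^ α * ((cI : ℝ) * (cJ : ℝ)) ≤
      ((a : ℝ) * (b : ℝ)) ^ α * ((cA : ℝ) * (cB : ℝ)) := by
    rw [← hMM, ← hIJ, hIeq, hJeq]
  obtain ⟨hpoweq, hcceq⟩ := real_core2 hpowpos hccpos hpow hcc hprod'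
  have hNeq1 : a * b = i * j := by
    by_contra hne
    have hlt : a * b < i * j := lt_of_le_of_ne hN1 hne
    have hlt' : ((a : ℝ) * (b : ℝ)) < ((i : ℝ) * (j : ℝ)) := by exact_mod_cast hlt
    have := Real.rpow_lt_rpow (by positivity) hlt' hα
    exact this.ne hpoweq
  have hNeq2 : cA * cB = cI * cJ := by exact_mod_cast hcceq
  -- consequences
  have hfact := Cfsg.Agent.Helper19.exists_mul_of_card_mul_card_eq A B hNeq1
  have hchain : cJ * cI ≤ dI * dS := by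
    calc cJ * cI = cI * cJ := mul_comm _ _
      _ = cA * cB := hNeq2.symm
      _ ≤ dI * dS := hN2a
  obtain ⟨hdIeq, hdSeq⟩ := nat_core hdI0 hdS0 hN2b hN2c hchain
  have hsupeq : (H ⊓ Subgroup.centralizer (A : Set X)) ⊔ (H ⊓ Subgroup.centralizer (B : Set X)) =
      H ⊓ Subgroup.centralizer ((A ⊓ B : Subgroup X) : Set X) :=
    Subgroup.eq_of_le_of_card_ge hsup_I hdSeq.ge
  have hCeq : cA * cB = dI * dS := by
    rw [hdIeq, hdSeq, hNeq2, mul_comm]
  have hfact2 := Cfsg.Agent.Helper19.exists_mul_of_card_mul_card_eq _ _ hCeq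
  refine ⟨?_, ?_, ?_, ?_⟩
  · intro x hx y hy
    have hmem : (x * y)⁻¹ ∈ A ⊔ B :=
      Subgroup.inv_mem _ (Subgroup.mul_mem _ (Subgroup.mem_sup_left hx) (Subgroup.mem_sup_right hy))
    obtain ⟨a₁, ha₁, b₁, hb₁, h⟩ := hfact _ hmem
    refine ⟨b₁⁻¹, B.inv_mem hb₁, a₁⁻¹, A.inv_mem ha₁, ?_⟩
    have : x * y = (a₁ * b₁)⁻¹ := by rw [← h, inv_inv]
    rw [this, mul_inv_rev]
  · intro A' hA' hA'1
    show m A' ≤ m (A ⊔ B)
    rw [hJeq]
    exact hAmax' A' hA' hA'1
  · intro h hh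
    rw [← hsupeq] at hh
    obtain ⟨u, hu, v, hv, huv⟩ := hfact2 h hh
    exact ⟨u, hu, v, hv, huv⟩
  · intro _ A' hA' hA'1
    show m A' ≤ m (A ⊓ B)
    rw [hIeq]
    exact hAmax' A' hA' hA'1

end Cfsg.Agent.S3804
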