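import Mathlib
import Cfsg.Statements.S3806
import Cfsg.Agent.Lib.MXC.RANK
import Cfsg.Agent.Lib.MXC.BASIC
import Cfsg.Agent.Lib.MXC.SEC

set_option autoImplicit false
open Cfsg

namespace Cfsg.Agent.S3806

open scoped commutatorElement
open Cfsg.Agent.MXC

/-- Let p be a prime and S a finite p-group of order pⁿ (n ≥ 2) of maximal nilpotency class n − 1 whose sectional p-rank is exactly k (every section has p-rank at most k, and some section has p-rank k). If p ≥ k + 2 then the order of S is at most p^(2k). -/
theorem result {S : Type*} [Group S] [Finite S] (p : ℕ) [Fact p.Prime] (hS : IsPGroup p S) [Group.IsNilpotent S]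
    (n : ℕ) (hn : 2 ≤ n) (hcard : Nat.card S = p ^ n) (hmax : Group.nilpotencyClass S = n - 1)
    (k : ℕ) (hk : 1 ≤ k) (hsr : Cfsg.SectionalPRankLE p k S ∧ ¬ Cfsg.SectionalPRankLE p (k - 1) S)
    (hpk : k + 2 ≤ p) : Nat.card S ≤ p ^ (2 * k) := by
  have hp : p.Prime := Fact.out
  have hp1 : 1 < p := hp.one_lt
  rw [hcard]
  apply Nat.pow_le_pow_right hp.pos
  by_contra hcon
  have hnk : 2 * k + 1 ≤ n := by omega
  have hn3 : 3 ≤ n := by omega
  rcases Nat.lt_or_ge k 2 with hk1 | hk2
  · -- `k = 1`
    have hk1' : k = 1 := by omega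
    subst hk1'
    have h1 := rank_le hsr.1 (⊤ : Subgroup S) ((⊤ : Subgroup S).lowerCentralSeries 1) le_top
      (by
        have : ((⊤ : Subgroup S).lowerCentralSeries 1).Normal := inferInstance
        rw [Subgroup.normalizer_eq_top]; )
      (by
        intro a _ b _
        rw [Subgroup.top_lowerCentralSeries_one]
        exact Subgroup.commutator_mem_commutator (Subgroup.mem_top a) (Subgroup.mem_top b))
      (fun a _ => pow_mem_lcsT_one n hcard hmax hn3 a)
    rw [Subgroup.card_top, hcard, card_lcsT n hcard hmax hn3 1 le_rfl (by omega), ← pow_add] at h1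
    have := (Nat.pow_le_pow_iff_right hp1).1 h1
    omega
  · -- `k ≥ 2`
    obtain ⟨hc, hpw⟩ := section_exp n hcard hmax hn3 k hk2 hpk hnk
    have hle : (⊤ : Subgroup S).lowerCentralSeries (2 * k) ≤ (⊤ : Subgroup S).lowerCentralSeries (k - 1) :=
      Subgroup.lowerCentralSeries_antitone _ (by omega)
    have h1 := rank_le hsr.1 ((⊤ : Subgroup S).lowerCentralSeries (k - 1))
      ((⊤ : Subgroup S).lowerCentralSeries (2 * k)) hle
      (by
        have : ((⊤ : Subgroup S).lowerCentralSeries (2 * k)).Normal := inferInstance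
        rw [Subgroup.normalizer_eq_top]; exact le_top)
      hc hpw
    rw [card_lcsT n hcard hmax hn3 (k - 1) (by omega) (by omega),
      card_lcsT n hcard hmax hn3 (2 * k) (by omega) (by omega), ← pow_add] at h1
    have := (Nat.pow_le_pow_iff_right hp1).1 h1
    omega

end Cfsg.Agent.S3806
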