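import Mathlib
import Cfsg.Statements.S3807
import Cfsg.Agent.Lib.Helper19.PGroupBasic
import Cfsg.Agent.Lib.Helper19.Extraspecial
import Cfsg.Agent.Lib.Helper19.CommPairing

set_option autoImplicit false
open Cfsg

namespace Cfsg.Agent.S3807

section aux

variable {S : Type*} [Group S] {p : ℕ}

/-- An element of an abelian subgroup of prime index commuting with an outside element is
central. -/
theorem mem_center_of_commute_outside (hp : p.Prime) (B : Subgroup S)
    (hB : ∀ a ∈ B, ∀ b ∈ B, a * b = b * a) (hBi : B.index = p) {g y : S} (hg : g ∈ B)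
    (hy : y ∉ B) (hgy : g * y = y * g) : g ∈ Subgroup.center S := by
  have hyK : y ∈ Subgroup.centralizer ({g} : Set S) := by
    rw [Subgroup.mem_centralizer_iff]
    intro d hd
    rw [Set.mem_singleton_iff] at hd
    rw [hd]
    exact hgy
  have htop : Subgroup.centralizer ({g} : Set S) = ⊤ := by
    apply Cfsg.Agent.Helper19.eq_top_of_index_prime hp B _ hBi
    · intro c hc
      rw [Subgroup.mem_centralizer_iff]
      intro d hd
      rw [Set.mem_singleton_iff] at hd
      rw [hd]
      exact hB g hg c hc
    · exact fun hle => hy (hle hyK)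
  rw [Subgroup.mem_center_iff]
  intro h
  have hh : h ∈ Subgroup.centralizer ({g} : Set S) := htop ▸ Subgroup.mem_top h
  rw [Subgroup.mem_centralizer_iff] at hh
  exact (hh g rfl).symm

/-- In a nonabelian group every abelian subgroup of prime index contains the centre. -/
theorem center_le_of_abelian (hp : p.Prime) (hna : ¬ IsMulCommutative S) (B : Subgroup S)
    (hB : ∀ a ∈ B, ∀ b ∈ B, a * b = b * a) (hBi : B.index = p) : Subgroup.center S ≤ B := by
  by_contra hle
  have hBc : B ≤ Subgroup.centralizer (B : Set S) := by
    intro b hb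
    rw [Subgroup.mem_centralizer_iff]
    intro c hc
    exact hB c hc b hb
  have h1 : Subgroup.centralizer (B : Set S) = ⊤ :=
    Cfsg.Agent.Helper19.eq_top_of_index_prime hp B _ hBi hBc
      (fun h => hle (le_trans (Subgroup.center_le_centralizer _) h))
  have h2 : B ≤ Subgroup.center S := by
    intro b hb
    rw [Subgroup.mem_center_iff]
    intro g
    have hg : g ∈ Subgroup.centralizer (B : Set S) := h1 ▸ Subgroup.mem_top g
    rw [Subgroup.mem_centralizer_iff] at hg
    exact (hg b hb).symm
  have h3 : Subgroup.center S = ⊤ := Cfsg.Agent.Helper19.eq_top_of_index_prime hp B _ hBi h2 hle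
  apply hna
  rw [isMulCommutative_iff]
  intro a b
  have hb : b ∈ Subgroup.center S := h3 ▸ Subgroup.mem_top b
  exact Subgroup.mem_center_iff.mp hb a

end aux

/-- Let S be a non-abelian finite p-group with an abelian subgroup A of index p. Then [S : Z(S)] = p·#[S,S], and either [S,S] has order p, S/Z(S) is elementary abelian of order p², and S has exactly p + 1 abelian subgroups of index p; or [S,S] has order at least p² and A is the only abelian subgroup of index p in S. -/
theorem result {S : Type*} [Group S] [Finite S] (p : ℕ) [Fact p.Prime] (hS : IsPGroup p S) (hna : ¬ IsMulCommutative S)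
    (A : Subgroup S) (hA : IsMulCommutative ↥A) (hAi : A.index = p) :
    (Subgroup.center S).index = p * Nat.card (commutator S) ∧
      ((Nat.card (commutator S) = p ∧ Cfsg.IsElementaryAbelian p (⊤ : Subgroup (S ⧸ Subgroup.center S)) ∧
          Nat.card (S ⧸ Subgroup.center S) = p ^ 2 ∧
          Nat.card {B : Subgroup S // IsMulCommutative ↥B ∧ B.index = p} = p + 1) ∨
        (p ^ 2 ≤ Nat.card (commutator S) ∧ ∀ B : Subgroup S, IsMulCommutative ↥B → B.index = p → B = A)) := by
  have hp : p.Prime := Fact.out
  have hAn : A.Normal := Cfsg.Agent.Helper19.normal_of_index_eq_prime hS A hAi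
  have hAc : ∀ a ∈ A, ∀ b ∈ A, a * b = b * a := isMulCommutative_iff_of_setLike.mp hA
  have hZA : Subgroup.center S ≤ A := center_le_of_abelian hp hna A hAc hAi
  obtain ⟨x, hx⟩ : ∃ x, x ∉ A := by
    by_contra h
    push Not at h
    apply hna
    rw [isMulCommutative_iff]
    intro a b
    exact hAc a (h a) b (h b)
  -- the commutator homomorphism
  have hxA : ∀ k ∈ A, x * k * x⁻¹ * k⁻¹ ∈ A := fun k hk =>
    A.mul_mem (hAn.conj_mem k hk x) (A.inv_mem hk)
  obtain ⟨φ, hφker, hφval⟩ : ∃ φ : ↥A →* ↥A, (∀ k : ↥A, k ∈ φ.ker ↔ x * (k : S) = k * x) ∧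
      (∀ k : ↥A, ((φ k : ↥A) : S) = x * k * x⁻¹ * (k : S)⁻¹) :=
    ⟨Cfsg.Agent.Helper19.commHomRel A A x hAc hxA,
      Cfsg.Agent.Helper19.mem_commHomRel_ker A A x hAc hxA, fun _ => rfl⟩
  have hker : φ.ker = (Subgroup.center S).subgroupOf A := by
    ext k
    rw [hφker, Subgroup.mem_subgroupOf]
    constructor
    · intro hk
      exact mem_center_of_commute_outside hp A hAc hAi k.2 hx hk.symm
    · intro hk
      exact Subgroup.mem_center_iff.mp hk x
  -- the image
  have hRmem : ∀ r : S, r ∈ φ.range.map A.subtype ↔ ∃ a ∈ A, x * a * x⁻¹ * a⁻¹ = r := by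
    intro r
    constructor
    · rintro ⟨_, ⟨k, rfl⟩, rfl⟩
      exact ⟨k, k.2, (hφval k).symm⟩
    · rintro ⟨a, ha, rfl⟩
      exact ⟨φ ⟨a, ha⟩, ⟨⟨a, ha⟩, rfl⟩, hφval ⟨a, ha⟩⟩
  have hRA : φ.range.map A.subtype ≤ A := Subgroup.map_subtype_le _
  have hRcard : Nat.card ↥(φ.range.map A.subtype) = (Subgroup.center S).relIndex A := by
    rw [Subgroup.card_map_of_injective A.subtype_injective, ← Subgroup.index_ker, hker]
    rfl
  -- R is normal
  have hRn : (φ.range.map A.subtype).Normal := by
    rw [← Subgroup.normalizer_eq_top_iff]
    apply Cfsg.Agent.Helper19.eq_top_of_index_prime hp A _ hAi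
    · rw [Subgroup.le_normalizer_iff]
      intro a ha r hr
      have : a * r * a⁻¹ = r := by
        rw [hAc a ha r (hRA hr)]
        group
      rw [this]
      exact hr
    · intro hle
      apply hx
      apply hle
      rw [Subgroup.mem_normalizer_iff]
      intro r
      constructor
      · intro hr
        obtain ⟨a, ha, rfl⟩ := (hRmem r).mp hr
        rw [hRmem]
        refine ⟨x * a * x⁻¹, hAn.conj_mem a ha x, ?_⟩
        group
      · intro hr
        obtain ⟨a, ha, hra⟩ := (hRmem _).mp hr
        rw [hRmem]
        refine ⟨x⁻¹ * a * x, ?_, ?_⟩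
        · have := hAn.conj_mem a ha x⁻¹
          simpa using this
        · have : r = x⁻¹ * (x * r * x⁻¹) * x := by group
          rw [this, ← hra]
          group
  -- the quotient by R is commutative
  have hTcomm : IsMulCommutative (S ⧸ φ.range.map A.subtype) := by
    set R := φ.range.map A.subtype with hR
    have hπ : ∀ g h : S, g * h * g⁻¹ * h⁻¹ ∈ R →
        (g : S ⧸ R) * (h : S ⧸ R) = (h : S ⧸ R) * (g : S ⧸ R) := by
      intro g h hgh
      have h1 : ((g * h * g⁻¹ * h⁻¹ : S) : S ⧸ R) = 1 := (QuotientGroup.eq_one_iff _).mpr hgh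
      have h2 : (g : S ⧸ R) * (h : S ⧸ R) * (g : S ⧸ R)⁻¹ * (h : S ⧸ R)⁻¹ = 1 := by
        simpa only [QuotientGroup.mk_mul, QuotientGroup.mk_inv] using h1
      calc (g : S ⧸ R) * (h : S ⧸ R)
          = ((g : S ⧸ R) * (h : S ⧸ R) * (g : S ⧸ R)⁻¹ * (h : S ⧸ R)⁻¹) * ((h : S ⧸ R) * g) := by
            group
        _ = (h : S ⧸ R) * g := by rw [h2, one_mul]
    -- images of elements of A are central
    have hAcen : ∀ a ∈ A, ((a : S) : S ⧸ R) ∈ Subgroup.center (S ⧸ R) := by
      intro a ha
      have htop : (Subgroup.centralizer ({((a : S) : S ⧸ R)} : Set (S ⧸ R))).comap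
          (QuotientGroup.mk' R) = ⊤ := by
        apply Cfsg.Agent.Helper19.eq_top_of_index_prime hp A _ hAi
        · intro b hb
          rw [Subgroup.mem_comap, Subgroup.mem_centralizer_iff]
          intro d hd
          rw [Set.mem_singleton_iff] at hd
          rw [hd]
          show ((a : S) : S ⧸ R) * ((b : S) : S ⧸ R) = ((b : S) : S ⧸ R) * ((a : S) : S ⧸ R)
          rw [← QuotientGroup.mk_mul, ← QuotientGroup.mk_mul, hAc a ha b hb]
        · intro hle
          apply hx
          apply hle
          rw [Subgroup.mem_comap, Subgroup.mem_centralizer_iff]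
          intro d hd
          rw [Set.mem_singleton_iff] at hd
          rw [hd]
          show ((a : S) : S ⧸ R) * ((x : S) : S ⧸ R) = ((x : S) : S ⧸ R) * ((a : S) : S ⧸ R)
          exact (hπ x a ((hRmem _).mpr ⟨a, ha, rfl⟩)).symm
      rw [Subgroup.mem_center_iff]
      intro t
      obtain ⟨g, rfl⟩ := QuotientGroup.mk_surjective t
      have hg : g ∈ (Subgroup.centralizer ({((a : S) : S ⧸ R)} : Set (S ⧸ R))).comap
          (QuotientGroup.mk' R) := htop ▸ Subgroup.mem_top g
      rw [Subgroup.mem_comap, Subgroup.mem_centralizer_iff] at hg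
      exact (hg _ rfl).symm
    have hxcen : ((x : S) : S ⧸ R) ∈ Subgroup.center (S ⧸ R) := by
      have htop : (Subgroup.centralizer ({((x : S) : S ⧸ R)} : Set (S ⧸ R))).comap
          (QuotientGroup.mk' R) = ⊤ := by
        apply Cfsg.Agent.Helper19.eq_top_of_index_prime hp A _ hAi
        · intro b hb
          rw [Subgroup.mem_comap, Subgroup.mem_centralizer_iff]
          intro d hd
          rw [Set.mem_singleton_iff] at hd
          rw [hd]
          exact Subgroup.mem_center_iff.mp (hAcen b hb) _
        · intro hle
          apply hx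
          apply hle
          rw [Subgroup.mem_comap, Subgroup.mem_centralizer_iff]
          intro d hd
          rw [Set.mem_singleton_iff] at hd
          rw [hd]
          rfl
      rw [Subgroup.mem_center_iff]
      intro t
      obtain ⟨g, rfl⟩ := QuotientGroup.mk_surjective t
      have hg : g ∈ (Subgroup.centralizer ({((x : S) : S ⧸ R)} : Set (S ⧸ R))).comap
          (QuotientGroup.mk' R) := htop ▸ Subgroup.mem_top g
      rw [Subgroup.mem_comap, Subgroup.mem_centralizer_iff] at hg
      exact (hg _ rfl).symm
    have htop : (Subgroup.center (S ⧸ R)).comap (QuotientGroup.mk' R) = ⊤ := by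
      apply Cfsg.Agent.Helper19.eq_top_of_index_prime hp A _ hAi
      · intro b hb
        exact hAcen b hb
      · intro hle
        exact hx (hle hxcen)
    rw [isMulCommutative_iff]
    intro t t'
    obtain ⟨g, rfl⟩ := QuotientGroup.mk_surjective t
    obtain ⟨g', rfl⟩ := QuotientGroup.mk_surjective t'
    have hg' : g' ∈ (Subgroup.center (S ⧸ R)).comap (QuotientGroup.mk' R) :=
      htop ▸ Subgroup.mem_top g'
    exact Subgroup.mem_center_iff.mp hg' _
  have hReq : φ.range.map A.subtype = commutator S := by
    apply le_antisymm
    · intro r hr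
      obtain ⟨a, ha, rfl⟩ := (hRmem r).mp hr
      rw [commutator_def]
      have := Subgroup.commutator_mem_commutator (Subgroup.mem_top x) (Subgroup.mem_top a)
      rwa [commutatorElement_def] at this
    · exact Subgroup.Normal.quotient_commutative_iff_commutator_le.mp hTcomm
  -- first claim
  have hcardR : (Subgroup.center S).relIndex A = Nat.card (commutator S) := by
    rw [← hRcard, hReq]
  have hidx : (Subgroup.center S).index = p * Nat.card (commutator S) := by
    rw [← Subgroup.relIndex_mul_index hZA, hAi, hcardR, mul_comm]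
  refine ⟨hidx, ?_⟩
  -- the commutator subgroup is a nontrivial p-group
  obtain ⟨k, hk⟩ := (hS.to_subgroup (commutator S)).exists_card_eq
  have hk0 : k ≠ 0 := by
    rintro rfl
    rw [pow_zero] at hk
    apply hna
    rw [← commutator_eq_bot_iff]
    exact Subgroup.card_eq_one.mp hk
  rcases Nat.lt_or_ge k 2 with hk2 | hk2
  · -- order p
    left
    have hk1 : k = 1 := by omega
    rw [hk1, pow_one] at hk
    rw [hk] at hidx
    have hcardT : Nat.card (S ⧸ Subgroup.center S) = p ^ 2 := by
      rw [← Subgroup.index_eq_card, hidx, pow_two]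
    refine ⟨hk, ?_, hcardT, ?_⟩
    · -- elementary abelian
      have hTc : ∀ a b : S ⧸ Subgroup.center S, a * b = b * a :=
        Cfsg.Agent.Helper19.commutative_of_card_dvd_prime_sq (p := p) (by rw [hcardT])
      refine ⟨?_, ?_⟩
      · rw [isMulCommutative_iff_of_setLike]
        intro a _ b _
        exact hTc a b
      · intro t _
        by_contra ht
        -- then t has order p², and the quotient by the centre is cyclic
        have h1 : orderOf t ∣ p ^ 2 := by
          rw [← hcardT]
          exact orderOf_dvd_natCard t
        obtain ⟨j, hj, hj'⟩ := (Nat.dvd_prime_pow hp).mp h1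
        have hj2 : j = 2 := by
          by_contra hne
          have hj1 : j ≤ 1 := by omega
          apply ht
          have : orderOf t ∣ p := by
            rw [hj']
            calc p ^ j ∣ p ^ 1 := pow_dvd_pow p hj1
              _ = p := pow_one p
          exact orderOf_dvd_iff_pow_eq_one.mp this
        have hcyc : IsCyclic (S ⧸ Subgroup.center S) :=
          isCyclic_of_orderOf_eq_card t (by rw [hj', hj2, hcardT])
        apply hna
        exact (QuotientGroup.mk' (Subgroup.center S)).isMulCommutative_of_isCyclic_of_ker_le_center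
          (QuotientGroup.ker_mk' _).le
    · -- counting the abelian subgroups of index p
      have hZidx : (Subgroup.center S).index = p * p := hidx
      have hprops : ∀ B : {B : Subgroup S // IsMulCommutative ↥B ∧ B.index = p},
          Subgroup.center S ≤ B.1 ∧ (Subgroup.center S).relIndex B.1 = p := by
        intro B
        have hBc : ∀ a ∈ B.1, ∀ b ∈ B.1, a * b = b * a := isMulCommutative_iff_of_setLike.mp B.2.1
        have hle := center_le_of_abelian hp hna B.1 hBc B.2.2
        refine ⟨hle, ?_⟩
        have := Subgroup.relIndex_mul_index hle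
        rw [B.2.2, hZidx] at this
        exact Nat.eq_of_mul_eq_mul_right hp.pos this
      -- the generated subgroup
      have hgen : ∀ g : S, g ∉ Subgroup.center S →
          IsMulCommutative ↥(Subgroup.center S ⊔ Subgroup.zpowers g) ∧
            (Subgroup.center S ⊔ Subgroup.zpowers g).index = p := by
        intro g hg
        have hc1 : Subgroup.center S ⊔ Subgroup.zpowers g ≤
            Subgroup.centralizer ({g} : Set S) := by
          apply sup_le (Subgroup.center_le_centralizer _)
          rw [Subgroup.zpowers_le, Subgroup.mem_centralizer_iff]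
          intro d hd
          rw [Set.mem_singleton_iff] at hd
          rw [hd]
        have hc2 : Subgroup.center S ⊔ Subgroup.zpowers g ≤
            Subgroup.centralizer ((Subgroup.center S ⊔ Subgroup.zpowers g : Subgroup S) : Set S) := by
          apply sup_le (Subgroup.center_le_centralizer _)
          rw [Subgroup.zpowers_le, Subgroup.mem_centralizer_iff]
          intro d hd
          have := hc1 hd
          rw [Subgroup.mem_centralizer_iff] at this
          exact (this g rfl).symm
        have hcomm : ∀ a ∈ Subgroup.center S ⊔ Subgroup.zpowers g,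
            ∀ b ∈ Subgroup.center S ⊔ Subgroup.zpowers g, a * b = b * a := by
          intro a ha b hb
          have := hc2 hb
          rw [Subgroup.mem_centralizer_iff] at this
          exact this a ha
        refine ⟨isMulCommutative_iff_of_setLike.mpr hcomm, ?_⟩
        have hle : Subgroup.center S ≤ Subgroup.center S ⊔ Subgroup.zpowers g := le_sup_left
        have hgm : g ∈ Subgroup.center S ⊔ Subgroup.zpowers g :=
          (le_sup_right : Subgroup.zpowers g ≤ _) (Subgroup.mem_zpowers g)
        have h1 := Subgroup.relIndex_mul_index hle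
        rw [hZidx] at h1
        have h2 : (Subgroup.center S ⊔ Subgroup.zpowers g).index ∣ p ^ 2 := by
          rw [pow_two]
          exact Dvd.intro_left _ h1
        obtain ⟨j, hj, hj'⟩ := (Nat.dvd_prime_pow hp).mp h2
        interval_cases j
        · exfalso
          rw [pow_zero] at hj'
          have htop := Subgroup.index_eq_one.mp hj'
          apply hna
          rw [isMulCommutative_iff]
          intro a b
          exact hcomm a (htop ▸ Subgroup.mem_top a) b (htop ▸ Subgroup.mem_top b)
        · rw [hj', pow_one]
        · exfalso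
          rw [hj', pow_two] at h1
          have h3 : (Subgroup.center S).relIndex (Subgroup.center S ⊔ Subgroup.zpowers g) = 1 := by
            have : (Subgroup.center S).relIndex (Subgroup.center S ⊔ Subgroup.zpowers g) * (p * p)
                = 1 * (p * p) := by rw [h1, one_mul]
            exact Nat.eq_of_mul_eq_mul_right (Nat.mul_pos hp.pos hp.pos) this
          exact hg (Subgroup.relIndex_eq_one.mp h3 hgm)
      -- the equivalence
      let F : (Σ B : {B : Subgroup S // IsMulCommutative ↥B ∧ B.index = p},
          ↥((B.1 : Set S) \ (Subgroup.center S : Set S))) →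
          ↥((Subgroup.center S : Set S)ᶜ) := fun y => ⟨y.2.1, y.2.2.2⟩
      have hBeq : ∀ (B : {B : Subgroup S // IsMulCommutative ↥B ∧ B.index = p}) (g : S),
          g ∈ B.1 → g ∉ Subgroup.center S → B.1 = Subgroup.center S ⊔ Subgroup.zpowers g := by
        intro B g hgB hgZ
        obtain ⟨hle, hrel⟩ := hprops B
        apply le_antisymm
        · exact Cfsg.Agent.Helper19.le_of_relIndex_prime hp (Subgroup.center S) _ B.1 hrel
            le_sup_left ⟨g, (le_sup_right : Subgroup.zpowers g ≤ _) (Subgroup.mem_zpowers g),
              hgB, hgZ⟩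
        · exact sup_le hle ((Subgroup.zpowers_le).mpr hgB)
      have hFbij : Function.Bijective F := by
        constructor
        · rintro ⟨B, g, hg1, hg2⟩ ⟨B', g', hg1', hg2'⟩ h
          have hgg : g = g' := congrArg Subtype.val h
          subst hgg
          have hBB : B = B' := by
            apply Subtype.ext
            rw [hBeq B g hg1 hg2, hBeq B' g hg1' hg2']
          subst hBB
          rfl
        · rintro ⟨g, hg⟩
          have hg' : g ∉ Subgroup.center S := hg
          refine ⟨⟨⟨Subgroup.center S ⊔ Subgroup.zpowers g, hgen g hg'⟩, ⟨g, ?_, hg'⟩⟩, rfl⟩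
          exact (le_sup_right : Subgroup.zpowers g ≤ _) (Subgroup.mem_zpowers g)
      have hcardeq := Nat.card_congr (Equiv.ofBijective F hFbij)
      have : Fintype {B : Subgroup S // IsMulCommutative ↥B ∧ B.index = p} := Fintype.ofFinite _
      rw [Nat.card_sigma] at hcardeq
      -- sizes
      have hp2 : 2 ≤ p := hp.two_le
      obtain ⟨q, rfl⟩ : ∃ q, p = q + 1 := ⟨p - 1, by omega⟩
      have hq : 1 ≤ q := by omega
      set z := Nat.card (Subgroup.center S) with hz
      have hzpos : 0 < z := Nat.card_pos
      have hfib : ∀ B : {B : Subgroup S // IsMulCommutative ↥B ∧ B.index = q + 1},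
          Nat.card ↥((B.1 : Set S) \ (Subgroup.center S : Set S)) = z * q := by
        intro B
        obtain ⟨hle, hrel⟩ := hprops B
        have h1 := Set.ncard_sdiff_add_ncard_of_subset (s := (Subgroup.center S : Set S))
          (t := (B.1 : Set S)) hle
        have h2 : Nat.card B.1 = z * (q + 1) := by
          have := Subgroup.relIndex_mul_relIndex (⊥ : Subgroup S) (Subgroup.center S) B.1 bot_le hle
          rw [Subgroup.relIndex_bot_left, Subgroup.relIndex_bot_left, hrel] at this
          rw [← this]
        rw [Nat.card_coe_set_eq]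
        have h3 : (B.1 : Set S).ncard = Nat.card B.1 := (Nat.card_coe_set_eq _).symm
        have h4 : (Subgroup.center S : Set S).ncard = z := (Nat.card_coe_set_eq _).symm
        rw [h3, h4, h2] at h1
        nlinarith
      have hcompl : Nat.card ↥((Subgroup.center S : Set S)ᶜ) + z = z * ((q + 1) * (q + 1)) := by
        have h1 := Set.ncard_add_ncard_compl (Subgroup.center S : Set S)
        have h4 : (Subgroup.center S : Set S).ncard = z := (Nat.card_coe_set_eq _).symm
        have h5 : Nat.card S = z * ((q + 1) * (q + 1)) := by
          rw [← Subgroup.card_mul_index (Subgroup.center S), hZidx]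
        rw [Nat.card_coe_set_eq]
        rw [h4, h5] at h1
        omega
      rw [Finset.sum_congr rfl (fun B _ => hfib B), Finset.sum_const, Finset.card_univ,
        smul_eq_mul, ← Nat.card_eq_fintype_card] at hcardeq
      rw [← hcardeq] at hcompl
      have h5 : Nat.card {B : Subgroup S // IsMulCommutative ↥B ∧ B.index = q + 1} * (z * q) =
          (q + 2) * (z * q) := by nlinarith
      have h6 := Nat.eq_of_mul_eq_mul_right (Nat.mul_pos hzpos hq) h5
      rw [h6]
  · -- order at least p²
    right
    refine ⟨?_, ?_⟩
    · rw [hk]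
      exact Nat.pow_le_pow_right hp.pos hk2
    · intro B hB hBi
      by_contra hne
      have hBc : ∀ a ∈ B, ∀ b ∈ B, a * b = b * a := isMulCommutative_iff_of_setLike.mp hB
      have hBn : B.Normal := Cfsg.Agent.Helper19.normal_of_index_eq_prime hS B hBi
      have hBA : ¬ B ≤ A := by
        intro hle
        apply hne
        have h1 := Subgroup.relIndex_mul_index hle
        rw [hAi, hBi] at h1
        have h2 : B.relIndex A = 1 := by
          have : B.relIndex A * p = 1 * p := by rw [h1, one_mul]
          exact Nat.eq_of_mul_eq_mul_right hp.pos this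
        exact le_antisymm hle (Subgroup.relIndex_eq_one.mp h2)
      have hsup : A ⊔ B = ⊤ :=
        Cfsg.Agent.Helper19.eq_top_of_index_prime hp A _ hAi le_sup_left
          (fun h => hBA (le_trans le_sup_right h))
      have hrel : B.relIndex A = p := by
        rw [← Subgroup.relIndex_sup_right (K := B) (H := A), hsup, Subgroup.relIndex_top_right, hBi]
      have hinfidx : (A ⊓ B).index = p * p := by
        rw [← Subgroup.relIndex_mul_index (inf_le_left : A ⊓ B ≤ A), hAi,
          Subgroup.inf_relIndex_left, hrel]
      have hinfZ : A ⊓ B ≤ Subgroup.center S := by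
        intro g hg
        have hg1 : g ∈ A := hg.1
        have hg2 : g ∈ B := hg.2
        obtain ⟨y, hyB, hyA⟩ : ∃ y ∈ B, y ∉ A := by
          by_contra h
          push Not at h
          exact hBA h
        exact mem_center_of_commute_outside hp A hAc hAi hg1 hyA (hBc g hg2 y hyB)
      have hdvd : (Subgroup.center S).index ∣ (A ⊓ B).index := Subgroup.index_dvd_of_le hinfZ
      rw [hidx, hinfidx, hk] at hdvd
      have h3 : p ^ k ∣ p := (Nat.mul_dvd_mul_iff_left hp.pos).mp hdvd
      have h4 : p ^ 2 ∣ p := dvd_trans (pow_dvd_pow p hk2) h3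
      have h5 := Nat.le_of_dvd hp.pos h4
      nlinarith [hp.one_lt]

end Cfsg.Agent.S3807
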