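import Mathlib
import Cfsg.Statements.S3808
import Cfsg.Agent.Lib.Helper19.PGroupBasic

set_option autoImplicit false
open Cfsg

namespace Cfsg.Agent.S3808

/-- Let S be a finite p-group with an extraspecial subgroup Q of index p. Then either Z(S) = Z(Q), or S = Q·Z(S) and Z(S) has order p². -/
theorem result {S : Type*} [Group S] [Finite S] (p : ℕ) [Fact p.Prime] (hS : IsPGroup p S) (Q : Subgroup S) (hQ : Cfsg.IsExtraspecial p ↥Q) (hQi : Q.index = p) :
    Subgroup.center S = (Subgroup.center ↥Q).map Q.subtype ∨
      (Q ⊔ Subgroup.center S = ⊤ ∧ Nat.card (Subgroup.center S) = p ^ 2) := by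
  have hQn : Q.Normal := Cfsg.Agent.Helper19.normal_of_index_eq_prime hS Q hQi
  obtain ⟨-, hZc⟩ := hQ
  have hZn : ((Subgroup.center ↥Q).map Q.subtype).Normal :=
    ConjAct.normal_of_characteristic_of_normal
  have hZcard : Nat.card ↥((Subgroup.center ↥Q).map Q.subtype) = p := by
    rw [Subgroup.card_map_of_injective Q.subtype_injective]
    exact hZc
  have hZle : (Subgroup.center ↥Q).map Q.subtype ≤ Subgroup.center S :=
    Cfsg.Agent.Helper19.normal_card_prime_le_center hS _ hZcard
  have hinf : Subgroup.center S ⊓ Q = (Subgroup.center ↥Q).map Q.subtype := by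
    apply le_antisymm
    · intro x hx
      have hx1 : x ∈ Subgroup.center S := hx.1
      have hx2 : x ∈ Q := hx.2
      have hc : (⟨x, hx2⟩ : ↥Q) ∈ Subgroup.center ↥Q := by
        rw [Subgroup.mem_center_iff]
        intro g
        apply Subtype.ext
        exact (Subgroup.mem_center_iff.mp hx1) g
      exact ⟨⟨x, hx2⟩, hc, rfl⟩
    · apply le_inf hZle
      exact Subgroup.map_subtype_le _
  by_cases hle : Subgroup.center S ≤ Q
  · left
    rw [← hinf]
    exact (inf_eq_left.mpr hle).symm
  · right
    have hp : p.Prime := Fact.out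
    have htop : Q ⊔ Subgroup.center S = ⊤ := by
      have h1 : Q ≤ Q ⊔ Subgroup.center S := le_sup_left
      have h2 := Subgroup.relIndex_mul_index h1
      rw [hQi] at h2
      have h3 : (Q ⊔ Subgroup.center S).index ∣ p := Dvd.intro_left _ h2
      rcases (Nat.dvd_prime hp).mp h3 with h4 | h4
      · exact Subgroup.index_eq_one.mp h4
      · exfalso
        rw [h4] at h2
        have h5 : Q.relIndex (Q ⊔ Subgroup.center S) = 1 := by
          have : Q.relIndex (Q ⊔ Subgroup.center S) * p = 1 * p := by rw [h2, one_mul]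
          exact Nat.eq_of_mul_eq_mul_right hp.pos this
        rw [Subgroup.relIndex_eq_one] at h5
        exact hle (le_trans le_sup_right h5)
    refine ⟨htop, ?_⟩
    have h1 : Q.relIndex (Subgroup.center S) = p := by
      rw [← Subgroup.relIndex_sup_left (K := Q) (H := Subgroup.center S), htop,
        Subgroup.relIndex_top_right, hQi]
    have h2 := Subgroup.relIndex_mul_relIndex (⊥ : Subgroup S) (Subgroup.center S ⊓ Q)
      (Subgroup.center S) bot_le inf_le_left
    rw [Subgroup.relIndex_bot_left, Subgroup.relIndex_bot_left, inf_comm,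
      Subgroup.inf_relIndex_right, h1, inf_comm, hinf, hZcard] at h2
    rw [← h2, pow_two]

end Cfsg.Agent.S3808
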