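import Mathlib
import Cfsg.Statements.S3809
import Cfsg.Agent.Lib.Helper19.PGroupBasic
import Cfsg.Agent.Lib.Helper19.Extraspecial
import Cfsg.Agent.Lib.Helper22.ClassTwo

set_option autoImplicit false
open Cfsg

namespace Cfsg.Agent.S3809

/-- Let S be a finite p-group with an extraspecial subgroup of index p. Then S has order p^(2+2n) for some n ≥ 1, derived length at most 3, and exponent dividing p³. -/
theorem result {S : Type*} [Group S] [Finite S] (p : ℕ) [Fact p.Prime] (hS : IsPGroup p S) (Q : Subgroup S) (hQ : Cfsg.IsExtraspecial p ↥Q) (hQi : Q.index = p) :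
    (∃ n : ℕ, 1 ≤ n ∧ Nat.card S = p ^ (2 + 2 * n)) ∧ derivedSeries S 3 = ⊥ ∧ ∀ x : S, x ^ (p ^ 3) = 1 := by
  have hp : p.Prime := Fact.out
  have hQn : Q.Normal := Cfsg.Agent.Helper19.normal_of_index_eq_prime hS Q hQi
  obtain ⟨⟨hQp, hfr, hcomm⟩, hZc⟩ := hQ
  have hQcyc : IsCyclic (S ⧸ Q) :=
    isCyclic_of_prime_card (p := p) (by rw [← Subgroup.index_eq_card]; exact hQi)
  refine ⟨?_, ?_, ?_⟩
  · obtain ⟨m, hm⟩ := Cfsg.Agent.Helper19.card_of_commutator_le_center_prime p _ ↥Q rfl hQp
      hcomm.le hZc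
    refine ⟨m, ?_, ?_⟩
    · by_contra h
      have hm0 : m = 0 := by omega
      subst hm0
      have hm' : Nat.card ↥Q = p := by simpa using hm
      have hc : ∀ a b : ↥Q, a * b = b * a :=
        Cfsg.Agent.Helper19.commutative_of_card_dvd_prime_sq (p := p)
          (by rw [hm']; exact dvd_pow_self p two_ne_zero)
      have hct : Subgroup.center ↥Q = ⊤ := by
        rw [eq_top_iff]
        intro x _
        rw [Subgroup.mem_center_iff]
        intro g
        exact hc g x
      have h1 : commutator ↥Q = ⊥ := (commutator_eq_bot_iff_center_eq_top ↥Q).mpr hct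
      rw [hcomm] at h1
      rw [h1, Subgroup.card_bot] at hZc
      exact hp.one_lt.ne hZc
    · rw [← Subgroup.card_mul_index Q, hm, hQi]
      ring
  · have h1 : derivedSeries S 1 ≤ Q := by
      rw [derivedSeries_one]
      exact Subgroup.Normal.quotient_commutative_iff_commutator_le.mp inferInstance
    have h2 : derivedSeries S 2 ≤ (Subgroup.center ↥Q).map Q.subtype := by
      rw [derivedSeries_succ]
      refine le_trans (Subgroup.commutator_mono h1 h1) ?_
      rw [← Subgroup.map_subtype_commutator, hcomm]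
    rw [derivedSeries_succ, eq_bot_iff]
    refine le_trans (Subgroup.commutator_mono h2 h2) ?_
    rw [Subgroup.commutator_le]
    intro a ha b hb
    rw [Subgroup.mem_bot, commutatorElement_eq_one_iff_mul_comm]
    obtain ⟨a', ha', rfl⟩ := ha
    obtain ⟨b', hb', rfl⟩ := hb
    have := Subgroup.mem_center_iff.mp hb' a'
    exact congrArg Subtype.val this
  · intro x
    have hxp : x ^ p ∈ Q := by
      rw [← QuotientGroup.eq_one_iff, QuotientGroup.mk_pow]
      have hc : Nat.card (S ⧸ Q) = p := by rw [← Subgroup.index_eq_card]; exact hQi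
      have : (x : S ⧸ Q) ^ Nat.card (S ⧸ Q) = 1 := pow_card_eq_one'
      rwa [hc] at this
    have h2 : (⟨x ^ p, hxp⟩ : ↥Q) ^ p ∈ Subgroup.center ↥Q := by
      rw [← hfr]
      exact Cfsg.Agent.Helper22.pow_prime_mem_frattini hQp _
    have h3 : ((⟨x ^ p, hxp⟩ : ↥Q) ^ p) ^ p = 1 := by
      have hgen : ∀ z : ↥(Subgroup.center ↥Q), z ^ p = 1 := by
        intro z
        have : z ^ Nat.card ↥(Subgroup.center ↥Q) = 1 := pow_card_eq_one'
        rwa [hZc] at this
      have := hgen ⟨(⟨x ^ p, hxp⟩ : ↥Q) ^ p, h2⟩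
      exact congrArg Subtype.val this
    have h4 := congrArg Subtype.val h3
    simp only [Subgroup.coe_pow, Subgroup.coe_one] at h4
    rw [← h4, ← pow_mul, ← pow_mul]
    congr 1
    ring

end Cfsg.Agent.S3809
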