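import Mathlib
import Cfsg.Statements.S3810
import Cfsg.Agent.Lib.Helper19.PGroupBasic

set_option autoImplicit false
open Cfsg

namespace Cfsg.Agent.S3810

/-- A finite `p`-group with `[P,P] = Z(P)` of order `p` having an abelian subgroup of index
dividing `p` has order `p ^ 3`. -/
theorem card_eq_cube {P : Type*} [Group P] [Finite P] (p : ℕ) [Fact p.Prime]
    (hcomm : commutator P = Subgroup.center P) (hZ : Nat.card (Subgroup.center P) = p)
    (B : Subgroup P) (hB : IsMulCommutative ↥B) (hBi : B.index ∣ p) : Nat.card P = p ^ 3 := by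
  have hp : p.Prime := Fact.out
  have hna : ¬ ∀ a b : P, a * b = b * a := by
    intro h
    have hc : Subgroup.center P = ⊤ := by
      rw [eq_top_iff]
      intro x _
      rw [Subgroup.mem_center_iff]
      intro g
      exact h g x
    have h1 : commutator P = ⊥ := (commutator_eq_bot_iff_center_eq_top P).mpr hc
    rw [hcomm] at h1
    rw [h1, Subgroup.card_bot] at hZ
    exact hp.one_lt.ne hZ
  have hcommB : ∀ a ∈ B, ∀ b ∈ B, a * b = b * a := isMulCommutative_iff_of_setLike.mp hB
  have hBtop : B ≠ ⊤ := by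
    rintro rfl
    apply hna
    intro a b
    exact hcommB a (Subgroup.mem_top a) b (Subgroup.mem_top b)
  have hBi' : B.index = p := by
    rcases (Nat.dvd_prime hp).mp hBi with h | h
    · exact absurd (Subgroup.index_eq_one.mp h) hBtop
    · exact h
  obtain ⟨x, hx⟩ : ∃ x, x ∉ B := by
    by_contra h
    push Not at h
    exact hBtop (eq_top_iff.mpr fun y _ => h y)
  have hcen : ∀ b ∈ B, b * x = x * b → b ∈ Subgroup.center P := by
    intro b hb hbx
    have htop : Subgroup.centralizer ({b} : Set P) = ⊤ := by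
      apply Cfsg.Agent.Helper19.eq_top_of_index_prime hp B _ hBi'
      · intro c hc
        rw [Subgroup.mem_centralizer_iff]
        intro d hd
        rw [Set.mem_singleton_iff] at hd
        rw [hd]
        exact hcommB b hb c hc
      · intro hle
        apply hx
        apply hle
        rw [Subgroup.mem_centralizer_iff]
        intro d hd
        rw [Set.mem_singleton_iff] at hd
        rw [hd]
        exact hbx
    rw [Subgroup.mem_center_iff]
    intro g
    have hg : g ∈ Subgroup.centralizer ({b} : Set P) := htop ▸ Subgroup.mem_top g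
    rw [Subgroup.mem_centralizer_iff] at hg
    exact (hg b rfl).symm
  have hall : ∀ g : P, g * x * g⁻¹ * x⁻¹ ∈ Subgroup.center P := by
    intro g
    rw [← hcomm, commutator_def]
    have := Subgroup.commutator_mem_commutator (Subgroup.mem_top g) (Subgroup.mem_top x)
    rwa [commutatorElement_def] at this
  obtain ⟨f, hfker⟩ : ∃ f : P →* ↥(Subgroup.center P), ∀ g, g ∈ f.ker ↔ g * x = x * g :=
    ⟨Cfsg.Agent.Helper19.commHom x (Subgroup.center P) le_rfl hall,
      Cfsg.Agent.Helper19.mem_commHom_ker x _ le_rfl hall⟩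
  have h1 : f.ker.relIndex B = Nat.card (B.map f) := Subgroup.relIndex_ker (K := B) f
  have h2 : Nat.card (B.map f) ∣ p := by
    rw [← hZ]
    exact Subgroup.card_subgroup_dvd_card _
  have h3 : Nat.card ↥(f.ker ⊓ B) ∣ p := by
    rw [← hZ]
    apply Subgroup.card_dvd_of_le
    intro b hb
    have hb1 : b ∈ f.ker := hb.1
    have hb2 : b ∈ B := hb.2
    exact hcen b hb2 ((hfker b).mp hb1)
  have h4 : Nat.card ↥(f.ker ⊓ B) * f.ker.relIndex B = Nat.card B := by
    have := Subgroup.relIndex_mul_relIndex (⊥ : Subgroup P) (f.ker ⊓ B) B bot_le inf_le_right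
    rwa [Subgroup.relIndex_bot_left, Subgroup.relIndex_bot_left, Subgroup.inf_relIndex_right]
      at this
  have h5 : Nat.card B ∣ p ^ 2 := by
    rw [← h4, pow_two, h1]
    exact Nat.mul_dvd_mul h3 h2
  have h6 : Nat.card P ∣ p ^ 3 := by
    rw [← Subgroup.card_mul_index B, hBi', pow_succ]
    exact Nat.mul_dvd_mul h5 dvd_rfl
  obtain ⟨k, hk, hk'⟩ := (Nat.dvd_prime_pow hp).mp h6
  rcases Nat.lt_or_ge k 3 with hlt | hge
  · exfalso
    apply hna
    apply Cfsg.Agent.Helper19.commutative_of_card_dvd_prime_sq (p := p)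
    rw [hk']
    exact pow_dvd_pow p (by omega)
  · have : k = 3 := by omega
    rw [hk', this]

/-- Let S be a finite p-group with an extraspecial subgroup of index p. Then S has an abelian subgroup of index p if and only if S has order p⁴. -/
theorem result {S : Type*} [Group S] [Finite S] (p : ℕ) [Fact p.Prime] (hS : IsPGroup p S) (Q : Subgroup S) (hQ : Cfsg.IsExtraspecial p ↥Q) (hQi : Q.index = p) :
    (∃ A : Subgroup S, IsMulCommutative ↥A ∧ A.index = p) ↔ Nat.card S = p ^ 4 := by
  have hp : p.Prime := Fact.out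
  constructor
  · rintro ⟨A, hA, hAi⟩
    have hAn : A.Normal := Cfsg.Agent.Helper19.normal_of_index_eq_prime hS A hAi
    have hcommA : ∀ a ∈ A, ∀ b ∈ A, a * b = b * a := isMulCommutative_iff_of_setLike.mp hA
    have hB : IsMulCommutative ↥(A.subgroupOf Q) := by
      rw [isMulCommutative_iff_of_setLike]
      intro a ha b hb
      apply Subtype.ext
      exact hcommA a ha b hb
    have hBi : (A.subgroupOf Q).index ∣ p := by
      rw [← hAi]
      exact Subgroup.relIndex_dvd_index_of_normal A Q
    have hQ3 := card_eq_cube p hQ.1.2.2 hQ.2 _ hB hBi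
    rw [← Subgroup.card_mul_index Q, hQ3, hQi]
    ring
  · intro h4
    have hQn : Q.Normal := Cfsg.Agent.Helper19.normal_of_index_eq_prime hS Q hQi
    have hQ3 : Nat.card Q = p ^ 3 := by
      have := Subgroup.card_mul_index Q
      rw [hQi, h4] at this
      exact Nat.eq_of_mul_eq_mul_right hp.pos (by rw [this]; ring)
    obtain ⟨-, hZc⟩ := hQ
    set Z₀ := (Subgroup.center ↥Q).map Q.subtype with hZ₀
    have hZn : Z₀.Normal := ConjAct.normal_of_characteristic_of_normal
    have hZcard : Nat.card Z₀ = p := by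
      rw [hZ₀, Subgroup.card_map_of_injective Q.subtype_injective]
      exact hZc
    have hZle : Z₀ ≤ Subgroup.center S :=
      Cfsg.Agent.Helper19.normal_card_prime_le_center hS _ hZcard
    have hT : IsPGroup p (S ⧸ Z₀) := hS.to_quotient Z₀
    have hVn : (Q.map (QuotientGroup.mk' Z₀)).Normal :=
      hQn.map _ (QuotientGroup.mk'_surjective Z₀)
    have hVne : Q.map (QuotientGroup.mk' Z₀) ≠ ⊥ := by
      intro hV
      have hle : Q ≤ Z₀ := by
        intro q hq
        have : (QuotientGroup.mk' Z₀ q) ∈ Q.map (QuotientGroup.mk' Z₀) :=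
          Subgroup.mem_map_of_mem _ hq
        rw [hV, Subgroup.mem_bot] at this
        exact (QuotientGroup.eq_one_iff q).mp this
      have := Subgroup.card_le_of_le hle
      rw [hQ3, hZcard] at this
      have h2 : p ^ 1 < p ^ 3 := Nat.pow_lt_pow_right hp.one_lt (by norm_num)
      rw [pow_one] at h2
      omega
    have hne := Cfsg.Agent.Helper19.normal_inf_center_ne_bot hT _ hVne
    obtain ⟨t, ht, ht1⟩ := (Subgroup.ne_bot_iff_exists_ne_one).mp hne |>.imp
      (fun a ha => ha) |> fun ⟨a, ha⟩ => (⟨(a : S ⧸ Z₀), a.2, fun h => ha (Subtype.ext h)⟩ :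
        ∃ t : S ⧸ Z₀, t ∈ Q.map (QuotientGroup.mk' Z₀) ⊓ Subgroup.center (S ⧸ Z₀) ∧ t ≠ 1)
    have ht' : t ∈ Q.map (QuotientGroup.mk' Z₀) := ht.1
    have htc : t ∈ Subgroup.center (S ⧸ Z₀) := ht.2
    obtain ⟨x, hxQ, rfl⟩ := ht'
    have hxZ : x ∉ Z₀ := fun h => ht1 ((QuotientGroup.eq_one_iff x).mpr h)
    have hall : ∀ g : S, g * x * g⁻¹ * x⁻¹ ∈ Z₀ := by
      intro g
      rw [← QuotientGroup.eq_one_iff]
      have := Subgroup.mem_center_iff.mp htc (g : S ⧸ Z₀)
      simp only [QuotientGroup.mk_mul, QuotientGroup.mk_inv]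
      have h' : (g : S ⧸ Z₀) * (x : S ⧸ Z₀) = (x : S ⧸ Z₀) * (g : S ⧸ Z₀) := this
      rw [h']
      group
    obtain ⟨f, hCmem⟩ : ∃ f : S →* ↥Z₀, ∀ g, g ∈ f.ker ↔ g * x = x * g :=
      ⟨Cfsg.Agent.Helper19.commHom x Z₀ hZle hall,
        Cfsg.Agent.Helper19.mem_commHom_ker x Z₀ hZle hall⟩
    have hCi : f.ker.index ∣ p := by
      rw [Subgroup.index_ker, ← hZcard]
      exact Subgroup.card_subgroup_dvd_card _
    have hCtop : f.ker ≠ ⊤ := by
      intro h
      apply hxZ
      refine ⟨⟨x, hxQ⟩, ?_, rfl⟩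
      show (⟨x, hxQ⟩ : ↥Q) ∈ Subgroup.center ↥Q
      rw [Subgroup.mem_center_iff]
      intro g
      apply Subtype.ext
      have : (g : S) ∈ f.ker := h ▸ Subgroup.mem_top _
      exact (hCmem _).mp this
    have hCi' : f.ker.index = p := by
      rcases (Nat.dvd_prime hp).mp hCi with h | h
      · exact absurd (Subgroup.index_eq_one.mp h) hCtop
      · exact h
    refine ⟨f.ker, ?_, hCi'⟩
    have hxC : x ∈ f.ker := (hCmem x).mpr rfl
    have hZC : Z₀ ≤ f.ker := fun z hz =>
      (hCmem z).mpr ((Subgroup.mem_center_iff.mp (hZle hz) x).symm)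
    have hWC : Z₀ ⊔ Subgroup.zpowers x ≤ f.ker := sup_le hZC ((Subgroup.zpowers_le).mpr hxC)
    have hWcent : Z₀ ⊔ Subgroup.zpowers x ≤ Subgroup.centralizer (f.ker : Set S) := by
      apply sup_le
      · intro z hz
        rw [Subgroup.mem_centralizer_iff]
        intro c _
        exact Subgroup.mem_center_iff.mp (hZle hz) c
      · rw [Subgroup.zpowers_le, Subgroup.mem_centralizer_iff]
        intro c hc
        exact (hCmem c).mp hc
    have hWcen : (Z₀ ⊔ Subgroup.zpowers x).subgroupOf f.ker ≤ Subgroup.center ↥f.ker := by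
      intro w hw
      rw [Subgroup.mem_center_iff]
      intro c
      apply Subtype.ext
      exact Subgroup.mem_centralizer_iff.mp (hWcent hw) c c.2
    have hZW : Z₀ < Z₀ ⊔ Subgroup.zpowers x := by
      apply lt_of_le_of_ne le_sup_left
      intro h
      apply hxZ
      rw [h]
      exact (le_sup_right : Subgroup.zpowers x ≤ Z₀ ⊔ Subgroup.zpowers x)
        (Subgroup.mem_zpowers x)
    have hW2 : p ^ 2 ∣ Nat.card ↥(Z₀ ⊔ Subgroup.zpowers x) := by
      obtain ⟨j, hj⟩ := (hS.to_subgroup (Z₀ ⊔ Subgroup.zpowers x)).exists_card_eq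
      have hlt : Nat.card Z₀ < Nat.card ↥(Z₀ ⊔ Subgroup.zpowers x) := by
        apply lt_of_le_of_ne (Subgroup.card_le_of_le hZW.le)
        intro h
        exact hZW.ne (Subgroup.eq_of_le_of_card_ge hZW.le h.ge)
      rw [hj, hZcard] at hlt
      have hj2 : 2 ≤ j := by
        by_contra hcon
        have : j ≤ 1 := by omega
        have := Nat.pow_le_pow_right hp.pos this
        rw [pow_one] at this
        omega
      rw [hj]
      exact pow_dvd_pow p hj2
    have hC3 : Nat.card f.ker = p ^ 3 := by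
      have := Subgroup.card_mul_index f.ker
      rw [hCi', h4] at this
      exact Nat.eq_of_mul_eq_mul_right hp.pos (by rw [this]; ring)
    have hcenC : p ^ 2 ∣ Nat.card (Subgroup.center ↥f.ker) := by
      refine dvd_trans ?_ (Subgroup.card_dvd_of_le hWcen)
      rw [Nat.card_congr (Subgroup.subgroupOfEquivOfLe hWC).toEquiv]
      exact hW2
    have hidx : (Subgroup.center ↥f.ker).index ∣ p := by
      have h1 := Subgroup.card_mul_index (Subgroup.center ↥f.ker)
      rw [hC3] at h1
      obtain ⟨m, hm⟩ := hcenC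
      rw [hm] at h1
      have h2 : m * (Subgroup.center ↥f.ker).index = p := by
        have h' : p ^ 2 * (m * (Subgroup.center ↥f.ker).index) = p ^ 2 * p := by
          rw [← mul_assoc, h1]
          ring
        exact Nat.eq_of_mul_eq_mul_left (pow_pos hp.pos 2) h'
      exact Dvd.intro_left _ h2
    have hcyc : IsCyclic (↥f.ker ⧸ Subgroup.center ↥f.ker) :=
      isCyclic_of_card_dvd_prime (p := p) (by rw [← Subgroup.index_eq_card]; exact hidx)
    exact (QuotientGroup.mk' (Subgroup.center ↥f.ker)).isMulCommutative_of_isCyclic_of_ker_le_center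
      (QuotientGroup.ker_mk' _).le

end Cfsg.Agent.S3810
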