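import Mathlib
import Cfsg.Statements.S3811
import Cfsg.Agent.Lib.Helper19.Conj
import Cfsg.Agent.Lib.Helper19.PGroupBasic

set_option autoImplicit false
set_option linter.unusedSectionVars false
open Cfsg

namespace Cfsg.Agent.S3811

open Cfsg.Agent.Helper19

universe u

structure Soft (p : ℕ) {P : Type u} [Group P] (E : Subgroup P) : Prop where
  comm : ∀ a ∈ E, ∀ b ∈ E, a * b = b * a
  cent : Subgroup.centralizer (E : Set P) ≤ E
  idx : E.relIndex (Subgroup.normalizer (E : Set P)) = p

theorem prime_between {P : Type u} [Group P] {p : ℕ} (hp : p.Prime) (H K L : Subgroup P)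
    (hHK : H ≤ K) (hKL : K ≤ L) (hidx : H.relIndex L = p) : K ≤ H ∨ L ≤ K := by
  have h := Subgroup.relIndex_mul_relIndex H K L hHK hKL
  rw [hidx] at h
  have h1 : H.relIndex K ∣ p := Dvd.intro _ h
  rcases (Nat.dvd_prime hp).mp h1 with h2 | h2
  · left
    exact Subgroup.relIndex_eq_one.mp h2
  · right
    rw [h2] at h
    have : K.relIndex L = 1 := by
      have h3 : p * K.relIndex L = p * 1 := by rw [h, mul_one]
      exact Nat.eq_of_mul_eq_mul_left hp.pos h3
    exact Subgroup.relIndex_eq_one.mp this

variable {P : Type u} [Group P] [Finite P] {p : ℕ} [Fact p.Prime]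

omit [Finite P] in
theorem Soft.ne_top {E : Subgroup P} (hE : Soft p E) : ¬ Subgroup.normalizer (E : Set P) ≤ E := by
  intro h
  have := Subgroup.relIndex_eq_one.mpr h
  rw [hE.idx] at this
  exact (Fact.out : p.Prime).one_lt.ne' this

theorem Soft.normalizer_le (hP : IsPGroup p P) {E : Subgroup P} (hE : Soft p E)
    (K : Subgroup P) (hEK : E ≤ K) (hKE : ¬ K ≤ E) : Subgroup.normalizer (E : Set P) ≤ K := by
  have hp : p.Prime := Fact.out
  have hnil : Group.IsNilpotent K := (hP.to_subgroup K).isNilpotent
  have hne : E.subgroupOf K ≠ ⊤ := by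
    intro h
    exact hKE (Subgroup.subgroupOf_eq_top.mp h)
  have hlt := Group.normalizerCondition_of_isNilpotent (G := K) (E.subgroupOf K) (lt_top_iff_ne_top.mpr hne)
  rw [← Subgroup.subgroupOf_normalizer_eq hEK] at hlt
  obtain ⟨y, hy1, hy2⟩ := SetLike.exists_of_lt hlt
  rw [Subgroup.mem_subgroupOf] at hy1 hy2
  have h1 : E ≤ Subgroup.normalizer (E : Set P) ⊓ K := le_inf Subgroup.le_normalizer hEK
  rcases prime_between hp E (Subgroup.normalizer (E : Set P) ⊓ K) (Subgroup.normalizer (E : Set P))
    h1 inf_le_left hE.idx with h | h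
  · exact absurd (h (Subgroup.mem_inf.mpr ⟨hy1, y.2⟩)) hy2
  · exact h.trans inf_le_right

/-- the centre of `N`, as a subgroup of `P` -/
def ZZ (N : Subgroup P) : Subgroup P := N ⊓ Subgroup.centralizer (N : Set P)

omit [Finite P] in
theorem ZZ_conj (N : Subgroup P) (y : P) (hy : y ∈ Subgroup.normalizer (N : Set P)) (z : P)
    (hz : z ∈ ZZ N) : y * z * y⁻¹ ∈ ZZ N := by
  rw [ZZ, Subgroup.mem_inf] at hz ⊢
  obtain ⟨hz1, hz2⟩ := hz
  have hy' := Subgroup.mem_normalizer_iff.mp hy
  refine ⟨(hy' z).mp hz1, ?_⟩
  rw [Subgroup.mem_centralizer_iff] at hz2 ⊢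
  intro n hn
  have hn' : y⁻¹ * n * y ∈ N := by
    have := (hy' (y⁻¹ * n * y)).mpr (by simpa [mul_assoc] using hn)
    exact this
  have := hz2 _ hn'
  calc n * (y * z * y⁻¹) = y * ((y⁻¹ * n * y) * z) * y⁻¹ := by group
    _ = y * (z * (y⁻¹ * n * y)) * y⁻¹ := by rw [this]
    _ = y * z * y⁻¹ * n := by group

omit [Finite P] in
theorem Soft.ZZ_le {E : Subgroup P} (hE : Soft p E) :
    ZZ (Subgroup.normalizer (E : Set P)) ≤ E := by
  intro z hz
  apply hE.cent
  rw [ZZ, Subgroup.mem_inf] at hz
  exact Subgroup.centralizer_le (Subgroup.le_normalizer) hz.2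

omit [Finite P] in
theorem Soft.ZZ_ne {E : Subgroup P} (hE : Soft p E) :
    ZZ (Subgroup.normalizer (E : Set P)) ≠ E := by
  intro h
  apply hE.ne_top
  have h1 : ZZ (Subgroup.normalizer (E : Set P)) ≤
      Subgroup.centralizer ((Subgroup.normalizer (E : Set P) : Subgroup P) : Set P) := inf_le_right
  rw [h] at h1
  rw [Subgroup.le_centralizer_iff] at h1
  exact h1.trans hE.cent



/-- conjugate of a subgroup -/
abbrev cj (E : Subgroup P) (y : P) : Subgroup P := E.map (MulAut.conj y).toMonoidHom

theorem cj_le {E : Subgroup P} (y : P)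
    (hy : y ∈ Subgroup.normalizer ((Subgroup.normalizer (E : Set P) : Subgroup P) : Set P)) :
    cj E y ≤ Subgroup.normalizer (E : Set P) := by
  have h1 : cj E y ≤ cj (Subgroup.normalizer (E : Set P)) y := Subgroup.map_mono Subgroup.le_normalizer
  rwa [cj, cj, (mem_normalizer_iff_map_conj _ y).mp hy] at h1

theorem Soft.cj_relIndex {E : Subgroup P} (hE : Soft p E) (y : P)
    (hy : y ∈ Subgroup.normalizer ((Subgroup.normalizer (E : Set P) : Subgroup P) : Set P)) :
    (cj E y).relIndex (Subgroup.normalizer (E : Set P)) = p := by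
  have h1 := Subgroup.relIndex_map_map_of_injective E (Subgroup.normalizer (E : Set P))
    (f := (MulAut.conj y).toMonoidHom) (MulAut.conj y).injective
  rw [(mem_normalizer_iff_map_conj _ y).mp hy, hE.idx] at h1
  exact h1

theorem Soft.cj_comm {E : Subgroup P} (hE : Soft p E) (y : P) :
    ∀ a ∈ cj E y, ∀ b ∈ cj E y, a * b = b * a := by
  intro a ha b hb
  rw [mem_map_conj] at ha hb
  have := hE.comm _ ha _ hb
  calc a * b = y * ((y⁻¹ * a * y) * (y⁻¹ * b * y)) * y⁻¹ := by group
    _ = y * ((y⁻¹ * b * y) * (y⁻¹ * a * y)) * y⁻¹ := by rw [this]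
    _ = b * a := by group

theorem Soft.ZZ_le_cj {E : Subgroup P} (hE : Soft p E) (y : P)
    (hy : y ∈ Subgroup.normalizer ((Subgroup.normalizer (E : Set P) : Subgroup P) : Set P)) :
    ZZ (Subgroup.normalizer (E : Set P)) ≤ cj E y := by
  intro z hz
  rw [mem_map_conj]
  apply hE.ZZ_le
  have := ZZ_conj _ y⁻¹ (Subgroup.inv_mem _ hy) z hz
  simpa using this

theorem Soft.cj_inf_le {E : Subgroup P} (hE : Soft p E) (y y' : P)
    (hy : y ∈ Subgroup.normalizer ((Subgroup.normalizer (E : Set P) : Subgroup P) : Set P))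
    (hy' : y' ∈ Subgroup.normalizer ((Subgroup.normalizer (E : Set P) : Subgroup P) : Set P))
    (hne : cj E y ≠ cj E y') : cj E y ⊓ cj E y' ≤ ZZ (Subgroup.normalizer (E : Set P)) := by
  have hp : p.Prime := Fact.out
  have hnot : ¬ cj E y' ≤ cj E y := by
    intro hle
    apply hne
    symm
    apply Subgroup.eq_of_le_of_card_ge hle
    rw [card_map_conj, card_map_conj]
  have hsup : Subgroup.normalizer (E : Set P) ≤ cj E y ⊔ cj E y' := by
    rcases prime_between hp (cj E y) (cj E y ⊔ cj E y') (Subgroup.normalizer (E : Set P))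
      le_sup_left (sup_le (cj_le y hy) (cj_le y' hy')) (hE.cj_relIndex y hy) with h | h
    · exact absurd (le_sup_right.trans h) hnot
    · exact h
  intro w hw
  rw [Subgroup.mem_inf] at hw
  rw [ZZ, Subgroup.mem_inf]
  refine ⟨cj_le y hy hw.1, ?_⟩
  have h1 : cj E y ⊔ cj E y' ≤ Subgroup.centralizer ({w} : Set P) := by
    apply sup_le
    · intro a ha
      rw [Subgroup.mem_centralizer_iff]
      intro d hd
      rw [Set.mem_singleton_iff] at hd
      rw [hd]
      exact hE.cj_comm y _ hw.1 _ ha
    · intro a ha
      rw [Subgroup.mem_centralizer_iff]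
      intro d hd
      rw [Set.mem_singleton_iff] at hd
      rw [hd]
      exact hE.cj_comm y' _ hw.2 _ ha
  rw [Subgroup.mem_centralizer_iff]
  intro n hn
  have := h1 (hsup hn)
  rw [Subgroup.mem_centralizer_iff] at this
  exact (this w rfl).symm



theorem card_filter_mem [Fintype P] [DecidableEq P] (H : Subgroup P) [DecidablePred (· ∈ H)] :
    (Finset.univ.filter (· ∈ H)).card = Nat.card H := by
  rw [Nat.card_eq_fintype_card, Fintype.card_subtype]

theorem card_mul_relIndex' (H K : Subgroup P) (h : H ≤ K) :
    Nat.card H * H.relIndex K = Nat.card K := by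
  have := Subgroup.relIndex_mul_relIndex (⊥ : Subgroup P) H K bot_le h
  rwa [Subgroup.relIndex_bot_left, Subgroup.relIndex_bot_left] at this

theorem Soft.count {E : Subgroup P} (hE : Soft p E) :
    Nat.card (Subgroup.normalizer ((Subgroup.normalizer (E : Set P) : Subgroup P) : Set P)) *
      (Nat.card E - Nat.card (ZZ (Subgroup.normalizer (E : Set P)))) ≤
    (Nat.card (Subgroup.normalizer (E : Set P)) - Nat.card (ZZ (Subgroup.normalizer (E : Set P)))) *
      Nat.card (Subgroup.normalizer (E : Set P)) := by
  classical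
  have := Fintype.ofFinite P
  set N1 := Subgroup.normalizer (E : Set P) with hN1
  set N2 := Subgroup.normalizer (N1 : Set P) with hN2
  set Z := ZZ N1 with hZ
  have hZN1 : Z ≤ N1 := inf_le_left
  let s : Finset P := Finset.univ.filter (· ∈ N2)
  let t : Finset P := Finset.univ.filter (fun w => w ∈ N1 ∧ w ∉ Z)
  let r : P → P → Prop := fun y w => w ∈ cj E y
  have hs : s.card = Nat.card N2 := card_filter_mem N2
  have ht : t.card = Nat.card N1 - Nat.card Z := by
    have h1 : t = (Finset.univ.filter (· ∈ N1)) \ (Finset.univ.filter (· ∈ Z)) := by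
      ext w
      simp [t]
    rw [h1, Finset.card_sdiff_of_subset, card_filter_mem, card_filter_mem]
    intro w hw
    simp only [Finset.mem_filter, Finset.mem_univ, true_and] at hw ⊢
    exact hZN1 hw
  have hm : ∀ y ∈ s, Nat.card E - Nat.card Z ≤ (t.bipartiteAbove r y).card := by
    intro y hy
    have hy' : y ∈ N2 := by simpa [s] using hy
    have h1 : (Finset.univ.filter (· ∈ cj E y)) \ (Finset.univ.filter (· ∈ Z)) ⊆
        t.bipartiteAbove r y := by
      intro w hw
      simp only [Finset.mem_sdiff, Finset.mem_filter, Finset.mem_univ, true_and] at hw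
      simp only [Finset.mem_bipartiteAbove, t, r, Finset.mem_filter, Finset.mem_univ, true_and]
      exact ⟨⟨cj_le y hy' hw.1, hw.2⟩, hw.1⟩
    refine le_trans ?_ (Finset.card_le_card h1)
    refine le_trans ?_ (Finset.le_card_sdiff _ _)
    rw [card_filter_mem, card_filter_mem, card_map_conj]
  have hn : ∀ w ∈ t, (s.bipartiteBelow r w).card ≤ Nat.card N1 := by
    intro w hw
    have hw' : w ∈ N1 ∧ w ∉ Z := by simpa [t] using hw
    by_cases hemp : s.bipartiteBelow r w = ∅
    · rw [hemp]; simp
    · obtain ⟨y0, hy0⟩ := Finset.nonempty_iff_ne_empty.mpr hemp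
      simp only [Finset.mem_bipartiteBelow, s, r, Finset.mem_filter, Finset.mem_univ, true_and] at hy0
      have hsub : s.bipartiteBelow r w ⊆ (Finset.univ.filter (· ∈ N1)).image (fun n => y0 * n) := by
        intro y hy
        simp only [Finset.mem_bipartiteBelow, s, r, Finset.mem_filter, Finset.mem_univ, true_and] at hy
        simp only [Finset.mem_image, Finset.mem_filter, Finset.mem_univ, true_and]
        refine ⟨y0⁻¹ * y, ?_, by group⟩
        have heq : cj E y = cj E y0 := by
          by_contra hne
          exact hw'.2 (hE.cj_inf_le y y0 hy.1 hy0.1 hne (Subgroup.mem_inf.mpr ⟨hy.2, hy0.2⟩))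
        rw [hN1, mem_normalizer_iff_map_conj, map_conj_mul]
        have : E.map (MulAut.conj y).toMonoidHom = cj E y0 := heq
        rw [this, cj, map_conj_inv_map_conj]
      refine le_trans (Finset.card_le_card hsub) ?_
      refine le_trans Finset.card_image_le ?_
      rw [card_filter_mem]
  have := Finset.card_mul_le_card_mul r hm hn
  rwa [hs, ht] at this



theorem Soft.card_normalizer {E : Subgroup P} (hE : Soft p E) :
    Nat.card (Subgroup.normalizer (E : Set P)) = Nat.card E * p := by
  rw [← card_mul_relIndex' E _ Subgroup.le_normalizer, hE.idx]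

theorem Soft.relIndex_N2 (hP : IsPGroup p P) {E : Subgroup P} (hE : Soft p E)
    (hN1 : Subgroup.normalizer (E : Set P) ≠ ⊤) :
    (Subgroup.normalizer (E : Set P)).relIndex
      (Subgroup.normalizer ((Subgroup.normalizer (E : Set P) : Subgroup P) : Set P)) = p := by
  have hp : p.Prime := Fact.out
  have hcount := hE.count
  have hcN1 := hE.card_normalizer
  set N1 := Subgroup.normalizer (E : Set P) with hN1def
  set N2 := Subgroup.normalizer (N1 : Set P) with hN2def
  set Z := ZZ N1 with hZ
  have hnil : Group.IsNilpotent P := hP.isNilpotent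
  have hlt : N1 < N2 := Group.normalizerCondition_of_isNilpotent N1 (lt_top_iff_ne_top.mpr hN1)
  have hk1 : N1.relIndex N2 ≠ 1 := fun h => hlt.not_ge (Subgroup.relIndex_eq_one.mp h)
  have hcN2 : Nat.card N1 * N1.relIndex N2 = Nat.card N2 := card_mul_relIndex' N1 N2 hlt.le
  obtain ⟨a, ha⟩ := (hP.to_subgroup N2).exists_card_eq
  have hdvd : N1.relIndex N2 ∣ p ^ a := by
    rw [← ha]
    exact Subgroup.relIndex_dvd_card N1 N2
  obtain ⟨e, -, he⟩ := (Nat.dvd_prime_pow hp).mp hdvd
  have he0 : e ≠ 0 := by
    rintro rfl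
    rw [pow_zero] at he
    exact hk1 he
  by_cases he1 : e = 1
  · rw [he, he1, pow_one]
  exfalso
  have he2 : 2 ≤ e := by omega
  have hk : p * p ≤ N1.relIndex N2 := by
    rw [he, ← pow_two]
    exact Nat.pow_le_pow_right hp.pos he2
  -- cardinalities
  have hZE : Z ≤ E := hE.ZZ_le
  have hZlt : Z < E := lt_of_le_of_ne hZE hE.ZZ_ne
  have hpZ : p * Nat.card Z ≤ Nat.card E := mul_card_le_of_lt hP hZlt
  have hZpos : 0 < Nat.card Z := Nat.card_pos
  have hEpos : 0 < Nat.card E := Nat.card_pos
  have hp2 : 2 ≤ p := hp.two_le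
  -- set up numbers
  generalize Nat.card Z = cZ at *
  generalize Nat.card E = cE at *
  generalize N1.relIndex N2 = k at *
  rw [← hcN2, hcN1] at hcount
  -- hcount : cE * p * k * (cE - cZ) ≤ (cE * p - cZ) * (cE * p)
  have hcZE : cZ ≤ cE := le_trans (Nat.le_mul_of_pos_left _ hp.pos) hpZ
  obtain ⟨m, rfl⟩ := Nat.exists_eq_add_of_le hcZE
  rw [Nat.add_sub_cancel_left] at hcount
  have h1 : k * m ≤ (cZ + m) * p - cZ := by
    have h2 : (cZ + m) * p * (k * m) ≤ (cZ + m) * p * ((cZ + m) * p - cZ) := by
      calc (cZ + m) * p * (k * m) = (cZ + m) * p * k * m := by ring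
        _ ≤ ((cZ + m) * p - cZ) * ((cZ + m) * p) := hcount
        _ = (cZ + m) * p * ((cZ + m) * p - cZ) := by ring
    exact Nat.le_of_mul_le_mul_left h2 (Nat.mul_pos hEpos hp.pos)
  have h3 : p * p * m ≤ (cZ + m) * p - cZ := le_trans (Nat.mul_le_mul_right _ hk) h1
  have h4 : p * p * m + cZ ≤ (cZ + m) * p := by
    have : cZ ≤ (cZ + m) * p := le_trans hcZE (Nat.le_mul_of_pos_right _ hp.pos)
    omega
  -- p * cZ ≤ cZ + m
  nlinarith



theorem mem_normalizer_of_conj_le (E : Subgroup P) (x : P) (h : ∀ e ∈ E, x * e * x⁻¹ ∈ E) :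
    x ∈ Subgroup.normalizer (E : Set P) := by
  rw [mem_normalizer_iff_map_conj]
  apply Subgroup.eq_of_le_of_card_ge
  · rintro _ ⟨e, he, rfl⟩
    exact h e he
  · rw [card_map_conj]

theorem Soft.ne_top' {E : Subgroup P} (hE : Soft p E) : E ≠ ⊤ := by
  intro h
  apply hE.ne_top
  rw [h]
  exact le_top

theorem Soft.comm_mem_core (hP : IsPGroup p P) {E : Subgroup P} (hE : Soft p E) (g : P)
    (hg : g ∈ Subgroup.normalizer (E : Set P)) (e : P) (he : e ∈ E) :
    g * e * g⁻¹ * e⁻¹ ∈ E.normalCore := by
  have hp : p.Prime := Fact.out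
  set R := E.normalCore with hR
  have hRE : R ≤ E := Subgroup.normalCore_le E
  let π := QuotientGroup.mk' R
  have hπ : ∀ x : P, π x = 1 ↔ x ∈ R := fun x => QuotientGroup.eq_one_iff x
  set C := (Subgroup.centralizer ((E.map π : Subgroup (P ⧸ R)) : Set (P ⧸ R))).comap π with hC
  have hmemC : ∀ x : P, x ∈ C ↔ ∀ e ∈ E, x * e * x⁻¹ * e⁻¹ ∈ R := by
    intro x
    rw [hC, Subgroup.mem_comap, Subgroup.mem_centralizer_iff]
    constructor
    · intro h e he
      have := h (π e) (Subgroup.mem_map_of_mem π he)
      rw [← hπ]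
      rw [map_mul, map_mul, map_mul, map_inv, map_inv, ← this]
      group
    · rintro h _ ⟨e, he, rfl⟩
      have := (hπ _).mpr (h e he)
      rw [map_mul, map_mul, map_mul, map_inv, map_inv] at this
      have h2 : π x * π e = π e * π x := by
        calc π x * π e = (π x * π e * (π x)⁻¹ * (π e)⁻¹) * (π e * π x) := by group
          _ = π e * π x := by rw [this, one_mul]
      exact h2.symm
  have hEC : E ≤ C := by
    intro x hx
    rw [hmemC]
    intro e he
    rw [hE.comm x hx e he]
    have : e * x * x⁻¹ * e⁻¹ = 1 := by group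
    rw [this]
    exact R.one_mem
  have hCN : C ≤ Subgroup.normalizer (E : Set P) := by
    intro x hx
    rw [hmemC] at hx
    apply mem_normalizer_of_conj_le
    intro e he
    have := E.mul_mem (hRE (hx e he)) he
    simpa using this
  rcases prime_between hp E C _ hEC hCN hE.idx with h | h
  · exfalso
    have hRtop : R ≠ ⊤ := by
      intro h'
      apply hE.ne_top'
      rw [eq_top_iff, ← h']
      exact hRE
    have hnt : Nontrivial (P ⧸ R) := by
      rw [← Finite.one_lt_card_iff_nontrivial]
      have h1 : Nat.card (P ⧸ R) = R.index := rfl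
      have h2 : R.index ≠ 1 := fun h'' => hRtop (Subgroup.index_eq_one.mp h'')
      have h3 : R.index ≠ 0 := Subgroup.index_ne_zero_of_finite
      omega
    have hPq : IsPGroup p (P ⧸ R) := hP.to_quotient R
    have hcnt := hPq.center_nontrivial
    have hcle : (Subgroup.center (P ⧸ R)).comap π ≤ R := by
      have hnorm : ((Subgroup.center (P ⧸ R)).comap π).Normal := inferInstance
      refine (Subgroup.normal_le_normalCore (H := E)).mpr ?_
      refine le_trans ?_ h
      rw [hC]
      apply Subgroup.comap_mono
      exact Subgroup.center_le_centralizer _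
    have hbot : Subgroup.center (P ⧸ R) = ⊥ := by
      rw [eq_bot_iff]
      intro z hz
      obtain ⟨x, rfl⟩ := QuotientGroup.mk'_surjective R z
      rw [Subgroup.mem_bot]
      exact (hπ x).mpr (hcle hz)
    rw [hbot] at hcnt
    exact not_nontrivial _ hcnt
  · exact (hmemC g).mp (h hg) e he



theorem Soft.mem_normalizer_of_comm {E : Subgroup P} (x : P)
    (h : ∀ e ∈ E, x * e * x⁻¹ * e⁻¹ ∈ E.normalCore) : x ∈ Subgroup.normalizer (E : Set P) := by
  apply mem_normalizer_of_conj_le
  intro e he
  have := E.mul_mem (Subgroup.normalCore_le E (h e he)) he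
  simpa using this

theorem mk_comm_iff (R : Subgroup P) [R.Normal] (x y : P) :
    (QuotientGroup.mk' R x) * (QuotientGroup.mk' R y) = (QuotientGroup.mk' R y) * (QuotientGroup.mk' R x) ↔
      x * y * x⁻¹ * y⁻¹ ∈ R := by
  rw [← QuotientGroup.eq_one_iff]
  have h1 : ((x * y * x⁻¹ * y⁻¹ : P) : P ⧸ R) = (QuotientGroup.mk' R x) * (QuotientGroup.mk' R y) *
      (QuotientGroup.mk' R x)⁻¹ * (QuotientGroup.mk' R y)⁻¹ := by
    simp
  rw [h1]
  constructor
  · intro h
    rw [h]
    group
  · intro h
    calc (QuotientGroup.mk' R x) * (QuotientGroup.mk' R y)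
        = ((QuotientGroup.mk' R x) * (QuotientGroup.mk' R y) *
      (QuotientGroup.mk' R x)⁻¹ * (QuotientGroup.mk' R y)⁻¹) * ((QuotientGroup.mk' R y) * (QuotientGroup.mk' R x)) := by group
      _ = (QuotientGroup.mk' R y) * (QuotientGroup.mk' R x) := by rw [h, one_mul]

theorem Soft.quot (hP : IsPGroup p P) {E : Subgroup P} (hE : Soft p E)
    (hN1 : Subgroup.normalizer (E : Set P) ≠ ⊤) :
    Soft p ((Subgroup.normalizer (E : Set P)).map (QuotientGroup.mk' E.normalCore)) := by
  have hp : p.Prime := Fact.out
  set R := E.normalCore with hR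
  have hRE : R ≤ E := Subgroup.normalCore_le E
  set N1 := Subgroup.normalizer (E : Set P) with hN1def
  have hEN : E ≤ N1 := Subgroup.le_normalizer
  have hker : (QuotientGroup.mk' R).ker ≤ N1 := by
    rw [QuotientGroup.ker_mk']
    exact hRE.trans hEN
  have hcomap : (N1.map (QuotientGroup.mk' R)).comap (QuotientGroup.mk' R) = N1 :=
    Subgroup.comap_map_eq_self hker
  refine ⟨?_, ?_, ?_⟩
  · -- commutative
    obtain ⟨g, hg1, hg2⟩ := SetLike.exists_of_lt (lt_of_le_not_ge hEN hE.ne_top)
    have hsup : N1 = E ⊔ Subgroup.zpowers g := by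
      apply le_antisymm
      · rcases prime_between hp E (E ⊔ Subgroup.zpowers g) N1 le_sup_left
          (sup_le hEN (by rwa [Subgroup.zpowers_le])) hE.idx with h | h
        · exfalso
          apply hg2
          apply h
          exact le_sup_right (α := Subgroup P) (Subgroup.mem_zpowers g)
        · exact h
      · exact sup_le hEN (by rwa [Subgroup.zpowers_le])
    have hmap : N1.map (QuotientGroup.mk' R) =
        E.map (QuotientGroup.mk' R) ⊔ Subgroup.zpowers (QuotientGroup.mk' R g) := by
      rw [hsup, Subgroup.map_sup, MonoidHom.map_zpowers]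
    rw [hmap]
    apply commute_sup_zpowers
    · rintro _ ⟨a, ha, rfl⟩ _ ⟨b, hb, rfl⟩
      rw [← map_mul, ← map_mul, hE.comm a ha b hb]
    · rintro _ ⟨a, ha, rfl⟩
      symm
      rw [mk_comm_iff]
      exact hE.comm_mem_core hP g hg1 a ha
  · -- self-centralizing
    intro x hx
    obtain ⟨y, rfl⟩ := QuotientGroup.mk'_surjective R x
    apply Subgroup.mem_map_of_mem
    apply Soft.mem_normalizer_of_comm
    intro e he
    rw [← mk_comm_iff]
    rw [Subgroup.mem_centralizer_iff] at hx
    exact (hx _ (Subgroup.mem_map_of_mem _ (hEN he))).symm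
  · -- index
    have h1 := Subgroup.comap_normalizer_eq_of_surjective (N1.map (QuotientGroup.mk' R))
      (QuotientGroup.mk'_surjective R)
    rw [hcomap] at h1
    have h2 := Subgroup.relIndex_comap (N1.map (QuotientGroup.mk' R)) (QuotientGroup.mk' R)
      (Subgroup.normalizer (N1 : Set P))
    rw [hcomap, hE.relIndex_N2 hP hN1, ← h1,
      Subgroup.map_comap_eq_self_of_surjective (QuotientGroup.mk'_surjective R)] at h2
    exact h2.symm



theorem class_congr {A B : Type*} [Group A] [Group B] [Finite A] (hA : IsPGroup p A) (f : A ≃* B) :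
    Group.nilpotencyClass A = Group.nilpotencyClass B := by
  have hnA : Group.IsNilpotent A := hA.isNilpotent
  have hnB : Group.IsNilpotent B := Group.nilpotent_of_mulEquiv f
  apply le_antisymm
  · exact Group.nilpotencyClass_le_of_surjective f.symm.toMonoidHom f.symm.surjective
  · exact Group.nilpotencyClass_le_of_surjective f.toMonoidHom f.surjective

theorem class_of_ker_eq_center {A B : Type*} [Group A] [Group B] [Group.IsNilpotent A]
    [Nontrivial A] (f : A →* B) (hf : Function.Surjective f) (hker : f.ker = Subgroup.center A) :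
    Group.nilpotencyClass A = Group.nilpotencyClass B + 1 := by
  rw [Group.nilpotencyClass_eq_quotient_center_plus_one]
  congr 1
  have e : A ⧸ Subgroup.center A ≃* B :=
    (QuotientGroup.quotientMulEquivOfEq hker.symm).trans (QuotientGroup.quotientKerEquivOfSurjective f hf)
  have hn : Group.IsNilpotent (A ⧸ Subgroup.center A) := inferInstance
  have hnB : Group.IsNilpotent B := Group.nilpotent_of_mulEquiv e
  apply le_antisymm
  · exact Group.nilpotencyClass_le_of_surjective e.symm.toMonoidHom e.symm.surjective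
  · exact Group.nilpotencyClass_le_of_surjective e.toMonoidHom e.surjective

theorem Soft.ne_bot {E : Subgroup P} (hE : Soft p E) : E ≠ ⊥ := by
  intro h
  apply hE.ne_top'
  rw [eq_top_iff]
  refine le_trans ?_ hE.cent
  rw [h]
  intro x _
  rw [Subgroup.mem_centralizer_iff]
  intro y hy
  rw [SetLike.mem_coe, Subgroup.mem_bot] at hy
  rw [hy, one_mul, mul_one]

theorem Soft.class_self (hP : IsPGroup p P) {E : Subgroup P} (hE : Soft p E) :
    Group.nilpotencyClass E = 1 := by
  have hnil : Group.IsNilpotent E := (hP.to_subgroup E).isNilpotent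
  let _ : CommGroup E := { (inferInstance : Group E) with
    mul_comm := fun a b => Subtype.ext (hE.comm a a.2 b b.2) }
  have h1 : Group.nilpotencyClass E ≤ 1 := CommGroup.nilpotencyClass_le_one
  have h2 : Group.nilpotencyClass E ≠ 0 := by
    intro h
    rw [Group.nilpotencyClass_zero_iff_subsingleton] at h
    exact hE.ne_bot (Subgroup.eq_bot_of_subsingleton E)
  omega



section Quot
variable (R : Subgroup P) [R.Normal]

theorem comap_map_mk (K : Subgroup P) (h : R ≤ K) :
    (K.map (QuotientGroup.mk' R)).comap (QuotientGroup.mk' R) = K := by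
  apply Subgroup.comap_map_eq_self
  rw [QuotientGroup.ker_mk']
  exact h

theorem relIndex_map_mk (H K : Subgroup P) (hH : R ≤ H) (hK : R ≤ K) :
    (H.map (QuotientGroup.mk' R)).relIndex (K.map (QuotientGroup.mk' R)) = H.relIndex K := by
  rw [Subgroup.relIndex_map_map, QuotientGroup.ker_mk', sup_eq_left.mpr hH, sup_eq_left.mpr hK]

theorem normalizer_map_mk (K : Subgroup P) (h : R ≤ K) :
    Subgroup.normalizer ((K.map (QuotientGroup.mk' R) : Subgroup (P ⧸ R)) : Set (P ⧸ R)) =
      (Subgroup.normalizer (K : Set P)).map (QuotientGroup.mk' R) := by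
  have h1 := Subgroup.comap_normalizer_eq_of_surjective (K.map (QuotientGroup.mk' R))
      (QuotientGroup.mk'_surjective R)
  rw [comap_map_mk R K h] at h1
  rw [← h1, Subgroup.map_comap_eq_self_of_surjective (QuotientGroup.mk'_surjective R)]

theorem relIndex_normalizer_map_mk (K : Subgroup P) (h : R ≤ K) :
    (K.map (QuotientGroup.mk' R)).relIndex
      (Subgroup.normalizer ((K.map (QuotientGroup.mk' R) : Subgroup (P ⧸ R)) : Set (P ⧸ R))) =
      K.relIndex (Subgroup.normalizer (K : Set P)) := by
  rw [normalizer_map_mk R K h, relIndex_map_mk R _ _ h (h.trans Subgroup.le_normalizer)]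

theorem map_mk_ne_top (K : Subgroup P) (h : R ≤ K) (hK : K ≠ ⊤) :
    K.map (QuotientGroup.mk' R) ≠ ⊤ := by
  intro h'
  apply hK
  rw [← comap_map_mk R K h, h', Subgroup.comap_top]

theorem le_of_map_mk_le (K L : Subgroup P) (hL : R ≤ L)
    (h : K.map (QuotientGroup.mk' R) ≤ L.map (QuotientGroup.mk' R)) : K ≤ L := by
  rw [← comap_map_mk R L hL]
  exact (Subgroup.le_comap_map _ _).trans (Subgroup.comap_mono h)

end Quot



theorem Soft.mem_center_iff {E : Subgroup P} (hE : Soft p E) (K : Subgroup P) [K.Normal]
    (hEK : E ≤ K) (hcl : Subgroup.normalClosure (E : Set P) = K) (x : K) :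
    x ∈ Subgroup.center K ↔ (x : P) ∈ E.normalCore := by
  constructor
  · intro hx
    have hZn : (K ⊓ Subgroup.centralizer (K : Set P)).Normal := inferInstance
    have hZE : K ⊓ Subgroup.centralizer (K : Set P) ≤ E :=
      inf_le_right.trans ((Subgroup.centralizer_le hEK).trans hE.cent)
    have hxZ : (x : P) ∈ K ⊓ Subgroup.centralizer (K : Set P) := by
      rw [Subgroup.mem_inf]
      refine ⟨x.2, ?_⟩
      rw [Subgroup.mem_centralizer_iff]
      intro k hk
      rw [Subgroup.mem_center_iff] at hx
      have := hx ⟨k, hk⟩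
      exact congrArg Subtype.val this
    exact (Subgroup.normal_le_normalCore (H := E)).mpr hZE hxZ
  · intro hx
    rw [Subgroup.mem_center_iff]
    intro k
    have hRn : (E.normalCore).Normal := inferInstance
    have hcn : (Subgroup.centralizer ((E.normalCore : Subgroup P) : Set P)).Normal := inferInstance
    have h1 : (E : Set P) ⊆ Subgroup.centralizer ((E.normalCore : Subgroup P) : Set P) := by
      intro e he
      rw [SetLike.mem_coe, Subgroup.mem_centralizer_iff]
      intro r hr
      exact hE.comm r (Subgroup.normalCore_le E hr) e he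
    have h2 := Subgroup.normalClosure_le_normal h1
    rw [hcl] at h2
    have h3 := h2 k.2
    rw [Subgroup.mem_centralizer_iff] at h3
    apply Subtype.ext
    exact (h3 _ hx).symm



theorem Soft.subgroupOf {E : Subgroup P} (hE : Soft p E) (T : Subgroup P)
    (hNT : Subgroup.normalizer (E : Set P) ≤ T) : Soft p (E.subgroupOf T) := by
  have hET : E ≤ T := Subgroup.le_normalizer.trans hNT
  refine ⟨?_, ?_, ?_⟩
  · intro a ha b hb
    rw [Subgroup.mem_subgroupOf] at ha hb
    exact Subtype.ext (hE.comm _ ha _ hb)
  · intro x hx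
    rw [Subgroup.mem_subgroupOf]
    apply hE.cent
    rw [Subgroup.mem_centralizer_iff] at hx ⊢
    intro e he
    have := hx ⟨e, hET he⟩ (by rw [SetLike.mem_coe, Subgroup.mem_subgroupOf]; exact he)
    exact congrArg Subtype.val this
  · rw [← Subgroup.subgroupOf_normalizer_eq hET, Subgroup.relIndex_subgroupOf hNT, hE.idx]



theorem Soft.core_ne_bot (hP : IsPGroup p P) {E : Subgroup P} (hE : Soft p E) :
    E.normalCore ≠ ⊥ := by
  have hnt : Nontrivial P := by
    by_contra h
    rw [not_nontrivial_iff_subsingleton] at h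
    exact hE.ne_top' (Subsingleton.elim _ _)
  have hc := hP.center_nontrivial
  have hle : Subgroup.center P ≤ E.normalCore := by
    refine (Subgroup.normal_le_normalCore (H := E)).mpr ?_
    exact (Subgroup.center_le_centralizer _).trans hE.cent
  intro h
  rw [h, le_bot_iff] at hle
  rw [hle] at hc
  exact not_nontrivial _ hc

theorem card_quot_lt (R : Subgroup P) [R.Normal] (hR : R ≠ ⊥) : Nat.card (P ⧸ R) < Nat.card P := by
  have h1 : Nat.card R * R.index = Nat.card P := Subgroup.card_mul_index R
  have h2 : Nat.card (P ⧸ R) = R.index := rfl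
  have h3 : 1 < Nat.card R := by
    rw [Finite.one_lt_card_iff_nontrivial]
    exact (Subgroup.nontrivial_iff_ne_bot R).mpr hR
  have h4 : 0 < R.index := Nat.pos_of_ne_zero Subgroup.index_ne_zero_of_finite
  rw [h2, ← h1]
  nlinarith

theorem card_subgroup_lt (T : Subgroup P) (hT : T ≠ ⊤) : Nat.card T < Nat.card P := by
  have h1 : Nat.card T * T.index = Nat.card P := Subgroup.card_mul_index T
  have h2 : T.index ≠ 1 := fun h => hT (Subgroup.index_eq_one.mp h)
  have h4 : T.index ≠ 0 := Subgroup.index_ne_zero_of_finite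
  have h5 : 0 < Nat.card T := Nat.card_pos
  rw [← h1]
  have : 2 ≤ T.index := by omega
  nlinarith



theorem main_aux (p : ℕ) [Fact p.Prime] : ∀ n : ℕ, ∀ (P : Type u) [Group P] [Finite P],
    Nat.card P = n → IsPGroup p P → ∀ E : Subgroup P, Soft p E →
    (∀ K L : Subgroup P, E ≤ K → E ≤ L → K ≤ L ∨ L ≤ K) ∧
    (∀ K : Subgroup P, E ≤ K → K ≠ ⊤ → K.relIndex (Subgroup.normalizer (K : Set P)) = p) ∧
    (∀ (i : ℕ) (K : Subgroup P), E ≤ K → K ≠ ⊤ → E.relIndex K = p ^ i →
      Group.nilpotencyClass K = i + 1) := by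
  intro n
  induction n using Nat.strong_induction_on with
  | _ n ih =>
  intro P _ _ hn hP E hE
  have hp : p.Prime := Fact.out
  by_cases hN1 : Subgroup.normalizer (E : Set P) = ⊤
  · -- `E` is normal of index `p`
    have hidx : E.relIndex ⊤ = p := by rw [← hN1]; exact hE.idx
    have hKE : ∀ K : Subgroup P, E ≤ K → K ≠ ⊤ → K = E := by
      intro K hEK hK
      rcases prime_between hp E K ⊤ hEK le_top hidx with h | h
      · exact le_antisymm h hEK
      · exact absurd (top_le_iff.mp h) hK
    refine ⟨?_, ?_, ?_⟩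
    · intro K L hEK hEL
      by_cases hK : K = ⊤
      · right; rw [hK]; exact le_top
      · left; rw [hKE K hEK hK]; exact hEL
    · intro K hEK hK
      rw [hKE K hEK hK]
      exact hE.idx
    · intro i K hEK hK hi
      have hKE' := hKE K hEK hK
      subst hKE'
      rw [Subgroup.relIndex_self] at hi
      have hi0 : i = 0 := by
        by_contra h0
        have : p ∣ 1 := by rw [hi]; exact dvd_pow_self p h0
        exact hp.one_lt.ne' (Nat.dvd_one.mp this)
      rw [hi0, hE.class_self hP]
  · -- general case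
    set R := E.normalCore with hR
    have hRE : R ≤ E := Subgroup.normalCore_le E
    set N1 := Subgroup.normalizer (E : Set P) with hN1def
    have hEN : E ≤ N1 := Subgroup.le_normalizer
    have hRN : R ≤ N1 := hRE.trans hEN
    have hsoft := hE.quot hP hN1
    have hlt : Nat.card (P ⧸ R) < n := by
      rw [← hn]
      exact card_quot_lt R (hE.core_ne_bot hP)
    obtain ⟨ih1, ih2, ih3⟩ := ih _ hlt (P ⧸ R) rfl (hP.to_quotient R) _ hsoft
    have hkey : ∀ K : Subgroup P, E ≤ K → K = E ∨ N1 ≤ K := by
      intro K hEK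
      by_cases h : K ≤ E
      · left; exact le_antisymm h hEK
      · right; exact hE.normalizer_le hP K hEK h
    have part1 : ∀ K L : Subgroup P, E ≤ K → E ≤ L → K ≤ L ∨ L ≤ K := by
      intro K L hEK hEL
      rcases hkey K hEK with rfl | hK
      · left; exact hEL
      rcases hkey L hEL with rfl | hL
      · right; exact hEK
      rcases ih1 _ _ (Subgroup.map_mono hK) (Subgroup.map_mono hL) with h | h
      · left; exact le_of_map_mk_le R K L (hRN.trans hL) h
      · right; exact le_of_map_mk_le R L K (hRN.trans hK) h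
    have part2 : ∀ K : Subgroup P, E ≤ K → K ≠ ⊤ →
        K.relIndex (Subgroup.normalizer (K : Set P)) = p := by
      intro K hEK hK
      rcases hkey K hEK with rfl | hNK
      · exact hE.idx
      · have := ih2 _ (Subgroup.map_mono hNK) (map_mk_ne_top R K (hRN.trans hNK) hK)
        rwa [relIndex_normalizer_map_mk R K (hRN.trans hNK)] at this
    refine ⟨part1, part2, ?_⟩
    intro i K hEK hK hi
    rcases hkey K hEK with rfl | hNK
    · rw [Subgroup.relIndex_self] at hi
      have hi0 : i = 0 := by
        by_contra h0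
        have : p ∣ 1 := by rw [hi]; exact dvd_pow_self p h0
        exact hp.one_lt.ne' (Nat.dvd_one.mp this)
      rw [hi0, hE.class_self hP]
    · have hRK : R ≤ K := hRN.trans hNK
      -- index bookkeeping
      have hmul := Subgroup.relIndex_mul_relIndex E N1 K hEN hNK
      rw [hE.idx, hi] at hmul
      have hi0 : i ≠ 0 := by
        rintro rfl
        rw [pow_zero] at hmul
        have : p ∣ 1 := Dvd.intro _ hmul
        exact hp.one_lt.ne' (Nat.dvd_one.mp this)
      obtain ⟨j, rfl⟩ := Nat.exists_eq_succ_of_ne_zero hi0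
      have hj : N1.relIndex K = p ^ j := by
        rw [pow_succ, mul_comm] at hmul
        exact Nat.eq_of_mul_eq_mul_right hp.pos hmul
      have h2K := part2 K hEK hK
      by_cases hT : Subgroup.normalizer (K : Set P) = ⊤
      · -- `K` is normal
        have hKn : K.Normal := Subgroup.normalizer_eq_top_iff.mp hT
        have hKidx : K.index = p := by
          rw [hT, Subgroup.relIndex_top_right] at h2K
          exact h2K
        -- normal closure of `E` is `K`
        have hcl : Subgroup.normalClosure (E : Set P) = K := by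
          have hle : Subgroup.normalClosure (E : Set P) ≤ K := Subgroup.normalClosure_le_normal hEK
          have hEL : E ≤ Subgroup.normalClosure (E : Set P) := Subgroup.le_normalClosure
          have hLtop : Subgroup.normalClosure (E : Set P) ≠ ⊤ := by
            intro h
            rw [h] at hle
            exact hK (top_le_iff.mp hle)
          have h2L := part2 _ hEL hLtop
          have hLn : (Subgroup.normalClosure (E : Set P)).Normal := Subgroup.normalClosure_normal
          rw [Subgroup.normalizer_eq_top_iff.mpr hLn, Subgroup.relIndex_top_right] at h2L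
          have h3 := Subgroup.relIndex_mul_index hle
          rw [h2L, hKidx] at h3
          have h4 : (Subgroup.normalClosure (E : Set P)).relIndex K = 1 := by
            have : (Subgroup.normalClosure (E : Set P)).relIndex K * p = 1 * p := by rw [h3, one_mul]
            exact Nat.eq_of_mul_eq_mul_right hp.pos this
          exact le_antisymm hle (Subgroup.relIndex_eq_one.mp h4)
        have hcls := ih3 j (K.map (QuotientGroup.mk' R)) (Subgroup.map_mono hNK)
          (map_mk_ne_top R K hRK hK) (by rw [relIndex_map_mk R N1 K hRN hRK, hj])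
        have hnilK : Group.IsNilpotent K := (hP.to_subgroup K).isNilpotent
        have hntK : Nontrivial K := by
          rw [Subgroup.nontrivial_iff_ne_bot]
          intro h
          apply hE.ne_bot
          rw [eq_bot_iff, ← h]
          exact hEK
        have hker : ((QuotientGroup.mk' R).subgroupMap K).ker = Subgroup.center K := by
          ext x
          rw [MonoidHom.mem_ker, hE.mem_center_iff K hEK hcl x, ← hR]
          rw [← QuotientGroup.eq_one_iff (N := R) (x : P)]
          constructor
          · intro h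
            have := congrArg Subtype.val h
            simpa using this
          · intro h
            apply Subtype.ext
            simpa using h
        rw [class_of_ker_eq_center _ ((QuotientGroup.mk' R).subgroupMap_surjective K) hker, hcls]
      · -- `K` is not normal: use the induction hypothesis in `N_P(K)`
        set T := Subgroup.normalizer (K : Set P) with hTdef
        have hKT : K ≤ T := Subgroup.le_normalizer
        have hltT : Nat.card T < n := by
          rw [← hn]
          exact card_subgroup_lt T hT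
        have hsoftT := hE.subgroupOf T (hNK.trans hKT)
        obtain ⟨-, -, ihT⟩ := ih _ hltT T rfl (hP.to_subgroup T) _ hsoftT
        have hK' : K.subgroupOf T ≠ ⊤ := by
          intro h
          rw [Subgroup.subgroupOf_eq_top] at h
          have := Subgroup.relIndex_eq_one.mpr h
          rw [h2K] at this
          exact hp.one_lt.ne' this
        have := ihT (j + 1) (K.subgroupOf T) (Subgroup.comap_mono hEK) hK'
          (by rw [Subgroup.relIndex_subgroupOf hKT, hi])
        rw [← this]
        exact (class_congr ((hP.to_subgroup T).to_subgroup (K.subgroupOf T))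
          (Subgroup.subgroupOfEquivOfLe hKT)).symm



end Cfsg.Agent.S3811

namespace Cfsg.Agent.S3811

/-- Let P be a finite p-group and E an abelian subgroup of P that contains its centralizer, has index p in its normalizer, and has index at least p² in P. Then the subgroups of P containing E are totally ordered by inclusion, each proper one has index p in its normalizer (so they form the normalizer tower of E, with all steps of index p), and the i-th member of the tower above E has nilpotency class i + 1 whenever it is a proper subgroup of P. -/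
theorem result {P : Type*} [Group P] [Finite P] (p : ℕ) [Fact p.Prime] (hP : IsPGroup p P)
    (E : Subgroup P) (hEab : IsMulCommutative ↥E) (hC : Subgroup.centralizer (E : Set P) ≤ E)
    (hN : (E.subgroupOf (Subgroup.normalizer (E : Set P))).index = p) (hidx : p ^ 2 ≤ E.index) :
    (∀ K L : Subgroup P, E ≤ K → E ≤ L → K ≤ L ∨ L ≤ K) ∧
      (∀ K : Subgroup P, E ≤ K → K ≠ ⊤ → (K.subgroupOf (Subgroup.normalizer (K : Set P))).index = p) ∧
      ∀ (i : ℕ) (K : Subgroup P) [Group.IsNilpotent ↥K], E ≤ K → K ≠ ⊤ → K.index * p ^ i = E.index →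
        Group.nilpotencyClass ↥K = i + 1 := by
  have hsoft : Soft p E := by
    refine ⟨?_, hC, hN⟩
    intro a ha b hb
    have := hEab.is_comm.comm ⟨a, ha⟩ ⟨b, hb⟩
    exact congrArg Subtype.val this
  obtain ⟨h1, h2, h3⟩ := main_aux p _ P rfl hP E hsoft
  refine ⟨h1, h2, ?_⟩
  intro i K _ hEK hK hi
  apply h3 i K hEK hK
  have h4 := Subgroup.relIndex_mul_index hEK
  rw [← hi, mul_comm] at h4
  have h5 : K.index ≠ 0 := Subgroup.index_ne_zero_of_finite
  exact Nat.eq_of_mul_eq_mul_left (Nat.pos_of_ne_zero h5) h4

end Cfsg.Agent.S3811
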