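import Mathlib
import Cfsg.Statements.S3815

set_option autoImplicit false
open Cfsg

namespace Cfsg.Agent.S3815

/-- The set of elements `e` with `e * X ⊆ X`, `X` the set of `p'`-elements, as a subgroup. -/
def stab {G : Type*} [Group G] [Finite G] (p : ℕ) : Subgroup G where
  carrier := {e : G | ∀ g : G, (orderOf g).Coprime p → (orderOf (e * g)).Coprime p}
  mul_mem' := by
    intro a b ha hb g hg
    rw [mul_assoc]
    exact ha _ (hb _ hg)
  one_mem' := by
    intro g hg
    simpa using hg
  inv_mem' := by
    intro a ha
    -- powers of a stay in the set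
    have hpow : ∀ n : ℕ, ∀ g : G, (orderOf g).Coprime p → (orderOf (a ^ n * g)).Coprime p := by
      intro n
      induction n with
      | zero => intro g hg; simpa using hg
      | succ n ih =>
        intro g hg
        rw [pow_succ, mul_assoc]
        exact ih _ (ha _ hg)
    have hinv : a⁻¹ = a ^ (orderOf a - 1) := by
      have hpos : 0 < orderOf a := orderOf_pos a
      rw [inv_eq_iff_mul_eq_one, ← pow_succ']
      have : orderOf a - 1 + 1 = orderOf a := by omega
      rw [this, pow_orderOf_eq_one]
    intro g hg
    rw [hinv]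
    exact hpow _ g hg

theorem orderOf_conj_eq {G : Type*} [Group G] (c x : G) : orderOf (c * x * c⁻¹) = orderOf x := by
  have := MulEquiv.orderOf_eq (MulAut.conj c) x
  rwa [MulAut.conj_apply] at this

theorem mem_stab {G : Type*} [Group G] [Finite G] (p : ℕ) (e : G) :
    e ∈ stab (G := G) p ↔ ∀ g : G, (orderOf g).Coprime p → (orderOf (e * g)).Coprime p := Iff.rfl

theorem stab_normal {G : Type*} [Group G] [Finite G] (p : ℕ) : (stab (G := G) p).Normal := by
  constructor
  intro e he c g hg
  have h1 : (orderOf (c⁻¹ * g * c)).Coprime p := by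
    have : c⁻¹ * g * c = c⁻¹ * g * c⁻¹⁻¹ := by simp
    rw [this, orderOf_conj_eq]
    exact hg
  have h2 := he _ h1
  have h3 : c * e * c⁻¹ * g = c * (e * (c⁻¹ * g * c)) * c⁻¹ := by group
  rw [h3, orderOf_conj_eq]
  exact h2

/-- Let G be a finite group, p a prime and d ∈ G an element of order prime to p. If dg has order prime to p for every element g ∈ G of order prime to p, then d ∈ O_{p'}(G). -/
theorem result {G : Type*} [Group G] [Finite G] {p : ℕ} [Fact p.Prime]
    (d : G) (hd : (orderOf d).Coprime p)
    (h : ∀ g : G, (orderOf g).Coprime p → (orderOf (d * g)).Coprime p) :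
    d ∈ Cfsg.pPrimeCore p G := by
  have hp : p.Prime := Fact.out
  have hmem : d ∈ stab (G := G) p := h
  have hcard : (Nat.card (stab (G := G) p)).Coprime p := by
    rw [Nat.coprime_comm, Nat.Prime.coprime_iff_not_dvd hp]
    intro hdvd
    obtain ⟨x, hx⟩ := exists_prime_orderOf_dvd_card' (G := stab (G := G) p) p hdvd
    have hx' : orderOf (x : G) = p := by
      rw [Subgroup.orderOf_coe]
      exact hx
    have := x.2 1 (by simp)
    rw [mul_one, hx'] at this
    exact hp.one_lt.ne' ((Nat.coprime_self p).mp this)
  have hle : stab (G := G) p ≤ Cfsg.pPrimeCore p G := by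
    apply le_sSup
    exact ⟨stab_normal p, hcard⟩
  exact hle hmem

end Cfsg.Agent.S3815
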