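import Mathlib
import Cfsg.Statements.S3821
import Cfsg.Agent.Lib.Helper19.Conj

set_option autoImplicit false
open Cfsg

namespace Cfsg.Agent.S3821

open Cfsg.Agent.Helper19

theorem map_subtype_map_conj {G : Type*} [Group G] (A : Subgroup G) (L : Subgroup ↥A) (a : ↥A) :
    (L.map (MulAut.conj a).toMonoidHom).map A.subtype =
      (L.map A.subtype).map (MulAut.conj (a : G)).toMonoidHom := by
  rw [Subgroup.map_map, Subgroup.map_map]
  congr 1

theorem mem_iff_coe_mem_map {G : Type*} [Group G] (A : Subgroup G) (L : Subgroup ↥A) (y : ↥A) :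
    y ∈ L ↔ (y : G) ∈ L.map A.subtype :=
  (Subgroup.mem_map_iff_mem A.subtype_injective).symm

/-- Let A be a normal subgroup of the finite group G and H a subgroup of A. Then H is pronormal in G (H and gHg⁻¹ conjugate inside ⟨H, gHg⁻¹⟩ for every g ∈ G) if and only if H is pronormal in A and G = A · N_G(H). -/
theorem result {G : Type*} [Group G] [Finite G] (A H : Subgroup G) [A.Normal] (hHA : H ≤ A) :
    Cfsg.IsPronormal H ↔ (Cfsg.IsPronormal (H.subgroupOf A) ∧ A ⊔ Subgroup.normalizer (H : Set G) = ⊤) := by
  have hmapH : (H.subgroupOf A).map A.subtype = H := Subgroup.map_subgroupOf_eq_of_le hHA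
  have hconjA : ∀ g : G, H.map (MulAut.conj g).toMonoidHom ≤ A := by
    intro g y hy
    rw [mem_map_conj] at hy
    have h1 := hHA hy
    have h2 := (inferInstance : A.Normal).conj_mem _ h1 g
    simpa [mul_assoc] using h2
  constructor
  · intro hH
    constructor
    · intro a
      obtain ⟨x, hx, hxe⟩ := hH (a : G)
      have hxA : x ∈ A := (sup_le hHA (hconjA _)) hx
      refine ⟨⟨x, hxA⟩, ?_, ?_⟩
      · rw [mem_iff_coe_mem_map, Subgroup.map_sup, map_subtype_map_conj, hmapH]
        exact hx
      · apply Subgroup.map_injective A.subtype_injective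
        rw [map_subtype_map_conj, map_subtype_map_conj, hmapH]
        exact hxe
    · rw [eq_top_iff]
      intro g _
      obtain ⟨x, hx, hxe⟩ := hH g
      have hxA : x ∈ A := (sup_le hHA (hconjA _)) hx
      have hn : x⁻¹ * g ∈ Subgroup.normalizer (H : Set G) := by
        rw [mem_normalizer_iff_map_conj, map_conj_mul, hxe, map_conj_inv_map_conj]
      have : g = x * (x⁻¹ * g) := by group
      rw [this]
      exact Subgroup.mul_mem_sup hxA hn
  · rintro ⟨hA, htop⟩ g
    have hg : g ∈ A ⊔ Subgroup.normalizer (H : Set G) := by rw [htop]; trivial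
    rw [Subgroup.mem_sup_of_normal_left] at hg
    obtain ⟨a, ha, n, hn, rfl⟩ := hg
    rw [mem_normalizer_iff_map_conj] at hn
    have e : H.map (MulAut.conj (a * n)).toMonoidHom = H.map (MulAut.conj a).toMonoidHom := by
      rw [map_conj_mul, hn]
    rw [e]
    obtain ⟨x, hx, hxe⟩ := hA ⟨a, ha⟩
    refine ⟨(x : G), ?_, ?_⟩
    · rw [mem_iff_coe_mem_map, Subgroup.map_sup, map_subtype_map_conj, hmapH] at hx
      exact hx
    · have := congrArg (Subgroup.map A.subtype) hxe
      rw [map_subtype_map_conj, map_subtype_map_conj, hmapH] at this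
      exact this

end Cfsg.Agent.S3821
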