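import Mathlib
import Cfsg.Statements.S3824
import Cfsg.Agent.S0143
import Cfsg.Agent.Lib.Helper19.SylowNormal
import Cfsg.Agent.Lib.Helper19.PGroupBasic

set_option autoImplicit false
open Cfsg

namespace Cfsg.Agent.S3824

universe u

/-- A divisor of a power of two is a power of two. -/
theorem exists_pow_of_dvd {d k : ℕ} (h : d ∣ 2 ^ k) : ∃ j, d = 2 ^ j := by
  obtain ⟨j, -, hj⟩ := (Nat.dvd_prime_pow Nat.prime_two).mp h
  exact ⟨j, hj⟩

theorem aux : ∀ (n : ℕ) (G : Type u) [Group G] [Finite G], Nat.card G = n →
    ∀ A : Subgroup G, (∀ a ∈ A, ∀ b ∈ A, a * b = b * a) → (∃ k : ℕ, A.index = 2 ^ k) →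
    Group.IsSolvable G := by
  intro n
  induction n using Nat.strong_induction_on with
  | _ n ih =>
    intro G _ _ hn A hA ⟨k, hk⟩
    by_cases hsimple : IsSimpleGroup G
    · -- the simple case
      by_cases hAbot : A = ⊥
      · rw [hAbot, Subgroup.index_bot] at hk
        have : Fact (Nat.Prime 2) := ⟨Nat.prime_two⟩
        have hp : IsPGroup 2 G := IsPGroup.of_card hk
        have := hp.isNilpotent
        infer_instance
      · obtain ⟨a, haA, ha1⟩ := (Subgroup.ne_bot_iff_exists_ne_one).mp hAbot |>.elim
          (fun a ha => (⟨(a : G), a.2, fun h => ha (Subtype.ext h)⟩ : ∃ a : G, a ∈ A ∧ a ≠ 1))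
        have hle : A ≤ Subgroup.centralizer ({a} : Set G) := by
          intro b hb
          rw [Subgroup.mem_centralizer_iff]
          intro d hd
          rw [Set.mem_singleton_iff] at hd
          rw [hd]
          exact hA a haA b hb
        have hdvd : (Subgroup.centralizer ({a} : Set G)).index ∣ 2 ^ k := by
          rw [← hk]
          exact Subgroup.index_dvd_of_le hle
        obtain ⟨j, hj⟩ := exists_pow_of_dvd hdvd
        have hprime := Cfsg.Agent.S0143.result 2 j Nat.prime_two a ha1 hj
        have : Fact (Nat.card G).Prime := ⟨hprime⟩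
        have hcyc : IsCyclic G := isCyclic_of_prime_card rfl
        exact Group.isSolvable_of_comm (fun x y => (IsCyclic.commGroup (α := G)).mul_comm x y)
    · -- the non-simple case
      by_cases hsub : Subsingleton G
      · infer_instance
      · have hnt : Nontrivial G := not_subsingleton_iff_nontrivial.mp hsub
        obtain ⟨N, hNn, hNbot, hNtop⟩ : ∃ N : Subgroup G, N.Normal ∧ N ≠ ⊥ ∧ N ≠ ⊤ := by
          by_contra hcon
          push Not at hcon
          apply hsimple
          refine ⟨fun N hN => ?_⟩
          by_cases h : N = ⊥
          · exact Or.inl h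
          · exact Or.inr (hcon N hN h)
        -- the subgroup N
        have hNlt : Nat.card N < n := by
          rw [← hn]
          apply lt_of_le_of_ne (Subgroup.card_le_card_group N)
          intro h
          exact hNtop ((Subgroup.card_eq_iff_eq_top N).mp h)
        have hNsol : Group.IsSolvable ↥N := by
          apply ih (Nat.card N) hNlt ↥N rfl (A.subgroupOf N)
          · intro x hx y hy
            apply Subtype.ext
            exact hA x hx y hy
          · have h1 : (A.subgroupOf N).index ∣ 2 ^ k := by
              rw [← hk]
              exact Cfsg.Agent.Helper19.relIndex_dvd_index_of_normal_right A N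
            exact exists_pow_of_dvd h1
        -- the quotient
        have hQlt : Nat.card (G ⧸ N) < n := by
          rw [← hn, ← Subgroup.card_mul_index N, ← Subgroup.index_eq_card]
          have h1 : 1 < Nat.card N := by
            rw [Subgroup.one_lt_card_iff_ne_bot]
            exact hNbot
          have h2 : 0 < N.index := Nat.pos_of_ne_zero Subgroup.index_ne_zero_of_finite
          nlinarith
        have hQsol : Group.IsSolvable (G ⧸ N) := by
          apply ih (Nat.card (G ⧸ N)) hQlt (G ⧸ N) rfl (A.map (QuotientGroup.mk' N))
          · rintro _ ⟨x, hx, rfl⟩ _ ⟨y, hy, rfl⟩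
            rw [← map_mul, ← map_mul, hA x hx y hy]
          · have h1 : (A.map (QuotientGroup.mk' N)).index ∣ 2 ^ k := by
              rw [← hk]
              exact Subgroup.index_map_dvd A (QuotientGroup.mk'_surjective N)
            exact exists_pow_of_dvd h1
        exact (Group.isSolvable_iff_subgroup_quotient N).mpr ⟨hNsol, hQsol⟩

/-- Every finite group having an abelian subgroup whose index is a power of 2 is solvable. -/
theorem result {G : Type*} [Group G] [Finite G]
    (A : Subgroup G) (hA : IsMulCommutative A) (hidx : ∃ k : ℕ, A.index = 2 ^ k) : Group.IsSolvable G :=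
  aux _ G rfl A (isMulCommutative_iff_of_setLike.mp hA) hidx

end Cfsg.Agent.S3824
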