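import Mathlib
import Cfsg.Statements.S3825

set_option autoImplicit false
open Cfsg

namespace Cfsg.Agent.S3825

/-- Let U be a subgroup of a finite group H and w an involution of H normalizing U and commuting with exactly two elements of U, the identity and y. If V is a non-cyclic elementary abelian 2-subgroup of U containing y which is normal in U and invariant under w, then V is a Sylow 2-subgroup of U, V has order 4, and U/V is abelian. -/
theorem result {H : Type*} [Group H] [Finite H] (U : Subgroup H) (w : H) (hw : orderOf w = 2)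
    (hwU : w ∈ Subgroup.normalizer (U : Set H)) (y : H) (hy : y ≠ 1) (hyU : y ∈ U)
    (hfix : ∀ u ∈ U, w * u * w⁻¹ = u ↔ (u = 1 ∨ u = y))
    (V : Subgroup H) (hVU : V ≤ U) (hVn : (V.subgroupOf U).Normal) (hVw : ∀ v ∈ V, w * v * w⁻¹ ∈ V)
    (hVe : Cfsg.IsElementaryAbelian 2 V) (hVc : ¬ IsCyclic ↥V) (hyV : y ∈ V) :
    ¬ 2 ∣ V.relIndex U ∧ Nat.card ↥V = 4 ∧ ⁅U, U⁆ ≤ V := by
  obtain ⟨hVcomm, hVsq⟩ := hVe
  have hw2 : w * w = 1 := by
    have := pow_orderOf_eq_one w
    rwa [hw, pow_two] at this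
  have hwinv : w⁻¹ = w := inv_eq_of_mul_eq_one_right hw2
  -- commutativity and involution in V
  have hcomm : ∀ a ∈ V, ∀ b ∈ V, a * b = b * a := by
    intro a ha b hb
    have := (isMulCommutative_iff.mp hVcomm) ⟨a, ha⟩ ⟨b, hb⟩
    exact congrArg Subtype.val this
  have hinvV : ∀ a ∈ V, a⁻¹ = a := by
    intro a ha
    have := hVsq a ha
    rw [pow_two] at this
    exact inv_eq_of_mul_eq_one_right this
  -- fixed points of w in V
  have hfixV : ∀ v ∈ V, w * v * w⁻¹ = v ↔ (v = 1 ∨ v = y) := fun v hv => hfix v (hVU hv)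
  -- the map φ(v) = v * w v w⁻¹ has values in {1, y}
  have hφfix : ∀ v ∈ V, v * (w * v * w⁻¹) = 1 ∨ v * (w * v * w⁻¹) = y := by
    intro v hv
    have hv' := hVw v hv
    have hmem : v * (w * v * w⁻¹) ∈ V := V.mul_mem hv hv'
    apply (hfixV _ hmem).mp
    calc w * (v * (w * v * w⁻¹)) * w⁻¹ = (w * v * w⁻¹) * ((w * w) * v * (w * w)⁻¹) := by group
      _ = (w * v * w⁻¹) * v := by rw [hw2]; group
      _ = v * (w * v * w⁻¹) := hcomm _ hv' _ hv
  -- an element outside {1, y}
  have hex : ∃ a ∈ V, a ≠ 1 ∧ a ≠ y := by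
    by_contra hcon
    push Not at hcon
    apply hVc
    refine ⟨⟨⟨y, hyV⟩, ?_⟩⟩
    intro x
    by_cases hx1 : (x : H) = 1
    · refine ⟨0, ?_⟩
      apply Subtype.ext
      simp [hx1]
    · have := hcon x x.2 hx1
      refine ⟨1, ?_⟩
      apply Subtype.ext
      simp [this]
  obtain ⟨a, haV, ha1, hay⟩ := hex
  have hφa : a * (w * a * w⁻¹) = y := by
    rcases hφfix a haV with h | h
    · exfalso
      have h1 : w * a * w⁻¹ = a⁻¹ := by
        rw [← mul_right_inj a, h, mul_inv_cancel]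
      rw [hinvV a haV] at h1
      rcases (hfixV a haV).mp h1 with h2 | h2
      · exact ha1 h2
      · exact hay h2
    · exact h
  -- card V = 4: V = {1, y, a, a*y}
  have hV4 : ∀ v ∈ V, v = 1 ∨ v = y ∨ v = a ∨ v = a * y := by
    intro v hv
    rcases hφfix v hv with h | h
    · have h1 : w * v * w⁻¹ = v⁻¹ := by
        rw [← mul_right_inj v, h, mul_inv_cancel]
      rw [hinvV v hv] at h1
      rcases (hfixV v hv).mp h1 with h2 | h2
      · exact Or.inl h2
      · exact Or.inr (Or.inl h2)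
    · -- φ(v) = y = φ(a) so a*v ∈ ker φ
      have hav : a * v ∈ V := V.mul_mem haV hv
      have h3 : (a * v) * (w * (a * v) * w⁻¹) = 1 := by
        have e : (a * v) * (w * (a * v) * w⁻¹) = a * (v * (w * a * w⁻¹)) * (w * v * w⁻¹) := by group
        rw [e, hcomm v hv _ (hVw a haV)]
        have e2 : a * ((w * a * w⁻¹) * v) * (w * v * w⁻¹) = (a * (w * a * w⁻¹)) * (v * (w * v * w⁻¹)) := by
          group
        rw [e2, hφa, h]
        have := hVsq y hyV
        rwa [pow_two] at this
      have h1 : w * (a * v) * w⁻¹ = (a * v)⁻¹ := by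
        rw [← mul_right_inj (a * v), h3, mul_inv_cancel]
      rw [hinvV _ hav] at h1
      rcases (hfixV _ hav).mp h1 with h2 | h2
      · right; right; left
        have : v = a⁻¹ := by
          rw [eq_inv_iff_mul_eq_one, hcomm v hv a haV]; exact h2
        rw [this, hinvV a haV]
      · right; right; right
        have : v = a⁻¹ * y := by rw [← h2]; group
        rw [this, hinvV a haV]
  have hcard : Nat.card ↥V = 4 := by
    have hay' : a * y ∈ V := V.mul_mem haV hyV
    have hne1 : a * y ≠ 1 := by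
      intro h
      have : a = y⁻¹ := eq_inv_of_mul_eq_one_left h
      rw [hinvV y hyV] at this
      exact hay this
    have hne2 : a * y ≠ y := by
      intro h
      have : a = 1 := by simpa using h
      exact ha1 this
    have hne3 : a * y ≠ a := by
      intro h
      have : y = 1 := by simpa using h
      exact hy this
    let e : Fin 4 → ↥V := ![⟨1, V.one_mem⟩, ⟨y, hyV⟩, ⟨a, haV⟩, ⟨a * y, hay'⟩]
    have hinj : Function.Injective e := by
      intro i j hij
      have hij' := congrArg Subtype.val hij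
      have hij'' : ((e i : ↥V) : H) = ((e j : ↥V) : H) := hij'
      fin_cases i <;> fin_cases j
      · rfl
      · exact absurd hij''.symm hy
      · exact absurd hij''.symm ha1
      · exact absurd hij''.symm hne1
      · exact absurd hij'' hy
      · rfl
      · exact absurd hij''.symm hay
      · exact absurd hij''.symm hne2
      · exact absurd hij'' ha1
      · exact absurd hij'' hay
      · rfl
      · exact absurd hij''.symm hne3
      · exact absurd hij'' hne1
      · exact absurd hij'' hne2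
      · exact absurd hij'' hne3
      · rfl
    have hsurj : Function.Surjective e := by
      intro v
      rcases hV4 v v.2 with h | h | h | h
      · exact ⟨0, Subtype.ext (by simp [e, h])⟩
      · exact ⟨1, Subtype.ext (by simp [e, h])⟩
      · exact ⟨2, Subtype.ext (by simp [e, h])⟩
      · exact ⟨3, Subtype.ext (by simp [e, h])⟩
    have := Nat.card_congr (Equiv.ofBijective e ⟨hinj, hsurj⟩)
    rw [← this]
    simp
  -- the automorphism of the quotient
  have hwU' : ∀ u ∈ U, w * u * w⁻¹ ∈ U := fun u hu => (Subgroup.mem_normalizer_iff.mp hwU u).mp hu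
  let c : ↥U →* ↥U :=
    { toFun := fun u => ⟨w * u * w⁻¹, hwU' u u.2⟩
      map_one' := by ext; simp
      map_mul' := by intro x z; ext; simp [mul_assoc] }
  have hcV : V.subgroupOf U ≤ (V.subgroupOf U).comap c := by
    intro u hu
    rw [Subgroup.mem_comap, Subgroup.mem_subgroupOf]
    rw [Subgroup.mem_subgroupOf] at hu
    exact hVw _ hu
  let α : (↥U ⧸ V.subgroupOf U) →* (↥U ⧸ V.subgroupOf U) :=
    QuotientGroup.map (V.subgroupOf U) (V.subgroupOf U) c hcV
  have hinvol : Function.Involutive α := by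
    intro q
    obtain ⟨u, rfl⟩ := QuotientGroup.mk_surjective q
    show ((c (c u) : ↥U) : ↥U ⧸ V.subgroupOf U) = (u : ↥U ⧸ V.subgroupOf U)
    congr 1
    ext
    show w * (w * (u : H) * w⁻¹) * w⁻¹ = u
    calc w * (w * (u : H) * w⁻¹) * w⁻¹ = (w * w) * u * (w * w)⁻¹ := by group
      _ = u := by rw [hw2]; group
  have hfpf : MonoidHom.FixedPointFree α := by
    intro q hq
    obtain ⟨u, rfl⟩ := QuotientGroup.mk_surjective q
    rw [QuotientGroup.eq_one_iff, Subgroup.mem_subgroupOf]
    have hq' : ((c u : ↥U) : ↥U ⧸ V.subgroupOf U) = (u : ↥U ⧸ V.subgroupOf U) := hq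
    rw [QuotientGroup.eq, Subgroup.mem_subgroupOf] at hq'
    -- v₁ = (w u w⁻¹)⁻¹ u ∈ V ; work with v₁' = u⁻¹ (w u w⁻¹)
    have hv0 : (w * (u : H) * w⁻¹)⁻¹ * (u : H) ∈ V := by simpa [c] using hq'
    set v₁ := (u : H)⁻¹ * (w * (u : H) * w⁻¹) with hv₁
    have hv₁V : v₁ ∈ V := by
      have := V.inv_mem hv0
      have e : ((w * (u : H) * w⁻¹)⁻¹ * (u : H))⁻¹ = v₁ := by rw [hv₁]; group
      rwa [e] at this
    -- v₁ * w v₁ w⁻¹ = 1
    have h1 : v₁ * (w * v₁ * w⁻¹) = 1 := by
      rw [hv₁]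
      calc (u : H)⁻¹ * (w * (u : H) * w⁻¹) * (w * ((u : H)⁻¹ * (w * (u : H) * w⁻¹)) * w⁻¹)
          = (u : H)⁻¹ * ((w * w) * (u : H) * (w * w)⁻¹) := by group
        _ = 1 := by rw [hw2]; group
    have h2 : w * v₁ * w⁻¹ = v₁ := by
      have : w * v₁ * w⁻¹ = v₁⁻¹ := by
        rw [← mul_right_inj v₁, h1, mul_inv_cancel]
      rw [this, hinvV v₁ hv₁V]
    -- v₁ ∈ {1, y}; find a fixed point in the coset u V
    have key : ∃ v ∈ V, v₁ = v * (w * v * w⁻¹) := by
      rcases (hfixV v₁ hv₁V).mp h2 with h | h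
      · exact ⟨1, V.one_mem, by rw [h]; group⟩
      · exact ⟨a, haV, by rw [h, hφa]⟩
    obtain ⟨v, hvV, hv⟩ := key
    have huv : (u : H) * v ∈ U := U.mul_mem u.2 (hVU hvV)
    have hfixuv : w * ((u : H) * v) * w⁻¹ = (u : H) * v := by
      have e : w * ((u : H) * v) * w⁻¹ = (u : H) * (v₁ * (w * v * w⁻¹)) := by rw [hv₁]; group
      rw [e, hv]
      have hwv := hVw v hvV
      have : v * (w * v * w⁻¹) * (w * v * w⁻¹) = v := by
        rw [mul_assoc]
        have := hVsq _ hwv
        rw [pow_two] at this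
        rw [this, mul_one]
      rw [this]
    rcases (hfix _ huv).mp hfixuv with h | h
    · have : (u : H) = v⁻¹ := eq_inv_of_mul_eq_one_left h
      rw [this]; exact V.inv_mem hvV
    · have : (u : H) = y * v⁻¹ := by rw [← h]; group
      rw [this]; exact V.mul_mem hyV (V.inv_mem hvV)
  refine ⟨?_, hcard, ?_⟩
  · have hodd : Odd (Nat.card (↥U ⧸ V.subgroupOf U)) := hfpf.odd_card_of_involutive hinvol
    rw [← Subgroup.index_eq_card] at hodd
    intro h2
    have : Even (V.relIndex U) := even_iff_two_dvd.mpr h2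
    exact (Nat.not_even_iff_odd.mpr hodd) this
  · rw [Subgroup.commutator_le]
    intro g₁ hg₁ g₂ hg₂
    have hc := hfpf.commute_all_of_involutive hinvol
      ((⟨g₁, hg₁⟩ : ↥U) : ↥U ⧸ V.subgroupOf U) ((⟨g₂, hg₂⟩ : ↥U) : ↥U ⧸ V.subgroupOf U)
    have : (((⟨g₁, hg₁⟩ : ↥U) * (⟨g₂, hg₂⟩ : ↥U) * (⟨g₁, hg₁⟩ : ↥U)⁻¹ * (⟨g₂, hg₂⟩ : ↥U)⁻¹ : ↥U) :
        ↥U ⧸ V.subgroupOf U) = 1 := by
      simp only [QuotientGroup.mk_mul, QuotientGroup.mk_inv]
      rw [hc.eq]
      group
    rw [QuotientGroup.eq_one_iff, Subgroup.mem_subgroupOf] at this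
    rw [commutatorElement_def]
    simpa using this

end Cfsg.Agent.S3825
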