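import Mathlib
import Cfsg.Statements.S3835

set_option autoImplicit false
open Cfsg

namespace Cfsg.Agent.S3835

open Matrix

variable {F : Type*} [Field F]

local notation "SL2" => Matrix.SpecialLinearGroup (Fin 2)
local notation "SL3" => Matrix.SpecialLinearGroup (Fin 3)

/-- the affine transformation `w ↦ A w + v` as a `3 × 3` matrix -/
def aff (A : SL2 F) (v : Fin 2 → F) : SL3 F :=
  ⟨!![(A : Matrix (Fin 2) (Fin 2) F) 0 0, (A : Matrix (Fin 2) (Fin 2) F) 0 1, v 0;
      (A : Matrix (Fin 2) (Fin 2) F) 1 0, (A : Matrix (Fin 2) (Fin 2) F) 1 1, v 1; 0, 0, 1], by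
    have := A.det_coe
    rw [Matrix.det_fin_two] at this
    rw [Matrix.det_fin_three]
    simp
    linear_combination this⟩

theorem aff_coe (A : SL2 F) (v : Fin 2 → F) :
    ((aff A v : SL3 F) : Matrix (Fin 3) (Fin 3) F) =
      !![(A : Matrix (Fin 2) (Fin 2) F) 0 0, (A : Matrix (Fin 2) (Fin 2) F) 0 1, v 0;
      (A : Matrix (Fin 2) (Fin 2) F) 1 0, (A : Matrix (Fin 2) (Fin 2) F) 1 1, v 1; 0, 0, 1] := rfl

theorem aff_mul (A B : SL2 F) (v w : Fin 2 → F) :
    aff A v * aff B w = aff (A * B) ((A : Matrix (Fin 2) (Fin 2) F).mulVec w + v) := by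
  ext i j
  rw [Matrix.SpecialLinearGroup.coe_mul, aff_coe, aff_coe, aff_coe, Matrix.SpecialLinearGroup.coe_mul]
  fin_cases i <;> fin_cases j <;>
    simp [Matrix.mul_apply, Fin.sum_univ_three, Fin.sum_univ_two, Matrix.mulVec, dotProduct]

theorem aff_one : aff (1 : SL2 F) 0 = 1 := by
  ext i j
  rw [aff_coe]
  fin_cases i <;> fin_cases j <;> simp

theorem aff_injective {A B : SL2 F} {v w : Fin 2 → F}
    (h : aff A v = aff B w) : A = B ∧ v = w := by
  have h1 : ((aff A v : SL3 F) : Matrix (Fin 3) (Fin 3) F) = (aff B w : SL3 F) := by rw [h]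
  rw [aff_coe, aff_coe] at h1
  constructor
  · ext i j
    fin_cases i <;> fin_cases j
    · simpa using congrFun (congrFun h1 0) 0
    · simpa using congrFun (congrFun h1 0) 1
    · simpa using congrFun (congrFun h1 1) 0
    · simpa using congrFun (congrFun h1 1) 1
  · funext i
    fin_cases i
    · simpa using congrFun (congrFun h1 0) 2
    · simpa using congrFun (congrFun h1 1) 2

/-- every matrix of determinant one with last row `(0, 0, 1)` is affine -/
theorem exists_aff (M : SL3 F) (h0 : (M : Matrix (Fin 3) (Fin 3) F) 2 0 = 0)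
    (h1 : (M : Matrix (Fin 3) (Fin 3) F) 2 1 = 0)
    (h2 : (M : Matrix (Fin 3) (Fin 3) F) 2 2 = 1) : ∃ A v, M = aff A v := by
  have hdet : (!![(M : Matrix (Fin 3) (Fin 3) F) 0 0, (M : Matrix (Fin 3) (Fin 3) F) 0 1;
      (M : Matrix (Fin 3) (Fin 3) F) 1 0, (M : Matrix (Fin 3) (Fin 3) F) 1 1] :
      Matrix (Fin 2) (Fin 2) F).det = 1 := by
    have := M.det_coe
    rw [Matrix.det_fin_three, h0, h1, h2] at this
    rw [Matrix.det_fin_two]
    simp
    linear_combination this
  obtain ⟨A, hA⟩ : ∃ A : SL2 F, (A : Matrix (Fin 2) (Fin 2) F) =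
      !![(M : Matrix (Fin 3) (Fin 3) F) 0 0, (M : Matrix (Fin 3) (Fin 3) F) 0 1;
      (M : Matrix (Fin 3) (Fin 3) F) 1 0, (M : Matrix (Fin 3) (Fin 3) F) 1 1] :=
    ⟨⟨_, hdet⟩, rfl⟩
  refine ⟨A, ![(M : Matrix (Fin 3) (Fin 3) F) 0 2, (M : Matrix (Fin 3) (Fin 3) F) 1 2], ?_⟩
  ext i j
  rw [aff_coe, hA]
  fin_cases i <;> fin_cases j <;> simp [h0, h1, h2]

/-- the affine group as a subgroup of `SL₃` -/
def affSub (F : Type*) [Field F] : Subgroup (SL3 F) where
  carrier := {M | ∃ A v, M = aff A v}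
  mul_mem' := by
    rintro _ _ ⟨A, v, rfl⟩ ⟨B, w, rfl⟩
    exact ⟨_, _, aff_mul A B v w⟩
  one_mem' := ⟨1, 0, aff_one.symm⟩
  inv_mem' := by
    rintro _ ⟨A, v, rfl⟩
    refine ⟨A⁻¹, -((A⁻¹ : SL2 F) : Matrix (Fin 2) (Fin 2) F).mulVec v, ?_⟩
    rw [inv_eq_iff_mul_eq_one, aff_mul, mul_inv_cancel, ← aff_one]
    congr 1
    rw [Matrix.mulVec_neg, Matrix.mulVec_mulVec, ← Matrix.SpecialLinearGroup.coe_mul, mul_inv_cancel]
    simp

theorem aff_mem (A : SL2 F) (v : Fin 2 → F) : aff A v ∈ affSub F := ⟨A, v, rfl⟩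

theorem mem_affSub_iff (M : SL3 F) :
    M ∈ affSub F ↔ (M : Matrix (Fin 3) (Fin 3) F) 2 0 = 0 ∧
      (M : Matrix (Fin 3) (Fin 3) F) 2 1 = 0 ∧ (M : Matrix (Fin 3) (Fin 3) F) 2 2 = 1 := by
  constructor
  · rintro ⟨A, v, rfl⟩
    rw [aff_coe]
    simp
  · rintro ⟨h0, h1, h2⟩
    exact exists_aff M h0 h1 h2

theorem qd_eq (p : ℕ) [Fact p.Prime] : Cfsg.qd p = affSub (ZMod p) := by
  unfold Cfsg.qd
  have : {M : SL3 (ZMod p) |
      (M : Matrix (Fin 3) (Fin 3) (ZMod p)) 2 0 = 0 ∧
      (M : Matrix (Fin 3) (Fin 3) (ZMod p)) 2 1 = 0 ∧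
      (M : Matrix (Fin 3) (Fin 3) (ZMod p)) 2 2 = 1} = (affSub (ZMod p) : Set _) := by
    ext M
    exact (mem_affSub_iff M).symm
  rw [this, Subgroup.closure_eq]


theorem aff_inv (A : SL2 F) (v : Fin 2 → F) :
    (aff A v)⁻¹ = aff A⁻¹ (-((A⁻¹ : SL2 F) : Matrix (Fin 2) (Fin 2) F).mulVec v) := by
  rw [inv_eq_iff_mul_eq_one, aff_mul, mul_inv_cancel, ← aff_one]
  congr 1
  rw [Matrix.mulVec_neg, Matrix.mulVec_mulVec, ← Matrix.SpecialLinearGroup.coe_mul, mul_inv_cancel]
  simp

theorem aff_one_mul (A : SL2 F) (v : Fin 2 → F) : aff 1 v * aff A 0 = aff A v := by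
  rw [aff_mul, one_mul]
  congr 1
  simp

theorem aff_lin_mul (A B : SL2 F) : aff A 0 * aff B 0 = aff (A * B) 0 := by
  rw [aff_mul]
  congr 1
  simp

theorem aff_trans_mul (v w : Fin 2 → F) : aff (1 : SL2 F) v * aff 1 w = aff 1 (v + w) := by
  rw [aff_mul, one_mul]
  congr 1
  simp [add_comm]

theorem aff_one_pow (w : Fin 2 → F) (k : ℕ) : (aff (1 : SL2 F) w) ^ k = aff 1 (k • w) := by
  induction k with
  | zero => rw [pow_zero, zero_smul, aff_one]
  | succ k ih => rw [pow_succ, ih, aff_trans_mul, succ_nsmul]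

theorem aff_pow_exists (A : SL2 F) (v : Fin 2 → F) (k : ℕ) :
    ∃ w, (aff A v) ^ k = aff (A ^ k) w := by
  induction k with
  | zero => exact ⟨0, by rw [pow_zero, pow_zero, aff_one]⟩
  | succ k ih =>
    obtain ⟨w, hw⟩ := ih
    exact ⟨_, by rw [pow_succ, hw, aff_mul, ← pow_succ]⟩

theorem transvection_pow {i j : Fin 2} (hij : i ≠ j) (c : F) (k : ℕ) :
    (SpecialLinearGroup.transvection hij c) ^ k = SpecialLinearGroup.transvection hij (k • c) := by
  induction k with
  | zero => rw [pow_zero, zero_smul, SpecialLinearGroup.transvection_coeff_zero]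
  | succ k ih => rw [pow_succ, ih, ← SpecialLinearGroup.transvection_add, succ_nsmul]

theorem exists_of_mem (M : ↥(affSub F)) :
    ∃ c : SL2 F × (Fin 2 → F), (M : SL3 F) = aff c.1 c.2 := by
  obtain ⟨A, v, h⟩ := M.2
  exact ⟨(A, v), h⟩

/-- the affine action -/
noncomputable def actFun (M : ↥(affSub F)) (w : Fin 2 → F) : Fin 2 → F :=
  ((Classical.choose (exists_of_mem M)).1 : Matrix (Fin 2) (Fin 2) F).mulVec w +
    (Classical.choose (exists_of_mem M)).2

theorem actFun_aff (A : SL2 F) (v w : Fin 2 → F) (h : aff A v ∈ affSub F) :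
    actFun ⟨aff A v, h⟩ w = (A : Matrix (Fin 2) (Fin 2) F).mulVec w + v := by
  have hs := Classical.choose_spec (exists_of_mem ⟨aff A v, h⟩)
  unfold actFun
  generalize Classical.choose (exists_of_mem ⟨aff A v, h⟩) = c at hs ⊢
  obtain ⟨h1, h2⟩ := aff_injective hs
  rw [← h1, ← h2]

theorem actFun_one (w : Fin 2 → F) : actFun (1 : ↥(affSub F)) w = w := by
  have : (1 : ↥(affSub F)) = ⟨aff 1 0, aff_mem 1 0⟩ := Subtype.ext aff_one.symm
  rw [this, actFun_aff]
  simp

theorem actFun_mul_aff (A B : SL2 F) (v w' x : Fin 2 → F) :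
    actFun ((⟨aff A v, aff_mem A v⟩ : ↥(affSub F)) * ⟨aff B w', aff_mem B w'⟩) x =
      actFun ⟨aff A v, aff_mem A v⟩ (actFun ⟨aff B w', aff_mem B w'⟩ x) := by
  have : (⟨aff A v, aff_mem A v⟩ : ↥(affSub F)) * ⟨aff B w', aff_mem B w'⟩ =
      ⟨aff (A * B) ((A : Matrix (Fin 2) (Fin 2) F).mulVec w' + v), aff_mem _ _⟩ :=
    Subtype.ext (aff_mul A B v w')
  have e1 := actFun_aff (A * B) ((A : Matrix (Fin 2) (Fin 2) F).mulVec w' + v) x (aff_mem _ _)
  have e2 := actFun_aff B w' x (aff_mem _ _)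
  have e3 := actFun_aff A v ((B : Matrix (Fin 2) (Fin 2) F).mulVec x + w') (aff_mem _ _)
  rw [this, e1, e2, e3, Matrix.SpecialLinearGroup.coe_mul, Matrix.mulVec_add,
    Matrix.mulVec_mulVec, add_assoc]

/-- the action as a monoid homomorphism -/
noncomputable def θ₀ (F : Type*) [Field F] : ↥(affSub F) →* Function.End (Fin 2 → F) where
  toFun M := actFun M
  map_one' := by
    funext w
    exact actFun_one w
  map_mul' := by
    rintro ⟨M, hM⟩ ⟨N, hN⟩
    obtain ⟨A, v, rfl⟩ := hM
    obtain ⟨B, w', rfl⟩ := hN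
    funext x
    exact actFun_mul_aff A B v w' x

/-- the action as a homomorphism into the symmetric group -/
noncomputable def θ (F : Type*) [Field F] : ↥(affSub F) →* Equiv.Perm (Fin 2 → F) :=
  (Equiv.Perm.equivUnitsEnd (α := Fin 2 → F)).symm.toMonoidHom.comp (θ₀ F).toHomUnits

theorem θ_apply (M : ↥(affSub F)) (w : Fin 2 → F) : θ F M w = actFun M w := rfl

theorem θ_injective : Function.Injective (θ F) := by
  rw [injective_iff_map_eq_one]
  rintro ⟨M, A, v, rfl⟩ h
  have h1 : ∀ w, (A : Matrix (Fin 2) (Fin 2) F).mulVec w + v = w := by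
    intro w
    rw [← actFun_aff A v w (aff_mem A v), ← θ_apply, h]
    rfl
  have hv : v = 0 := by
    have := h1 0
    rwa [Matrix.mulVec_zero, zero_add] at this
  have hA : A = 1 := by
    ext i j
    have := congrFun (h1 (Pi.single j 1)) i
    rw [hv, add_zero, Matrix.mulVec_single_one, Matrix.col_apply] at this
    rw [Matrix.SpecialLinearGroup.coe_one, Matrix.one_apply, this, Pi.single_apply]
  apply Subtype.ext
  show aff A v = 1
  rw [hv, hA, aff_one]

section ZModp

variable {p : ℕ} [Fact p.Prime]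

theorem transvection_pow_p {i j : Fin 2} (hij : i ≠ j) (c : ZMod p) :
    (SpecialLinearGroup.transvection hij c) ^ p = 1 := by
  rw [transvection_pow, nsmul_eq_mul, ZMod.natCast_self, zero_mul,
    SpecialLinearGroup.transvection_coeff_zero]

theorem aff_trans_pow_p (w : Fin 2 → ZMod p) : (aff (1 : SL2 (ZMod p)) w) ^ p = 1 := by
  rw [aff_one_pow, ← aff_one]
  congr 1
  funext i
  simp

/-- a homomorphism to `{±1}` kills elements of odd prime order -/
theorem units_hom_eq_one {G : Type*} [Group G] (hp : p ≠ 2) (χ : G →* ℤˣ) (g : G)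
    (hg : g ^ p = 1) : χ g = 1 := by
  have hpp : p.Prime := Fact.out
  have h1 : χ g ^ p = 1 := by rw [← map_pow, hg, map_one]
  rcases Int.units_eq_one_or (χ g) with h | h
  · exact h
  · rw [h, (hpp.odd_of_ne_two hp).neg_one_pow] at h1
    exact absurd h1 (by decide)

/-- every homomorphism from the affine group to `{±1}` is trivial -/
theorem hom_units_trivial (hp : p ≠ 2) (χ : ↥(affSub (ZMod p)) →* ℤˣ) (M : ↥(affSub (ZMod p))) :
    χ M = 1 := by
  obtain ⟨M, A, v, rfl⟩ := M
  have htrans : ∀ w : Fin 2 → ZMod p, ∀ h, χ ⟨aff 1 w, h⟩ = 1 := by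
    intro w h
    apply units_hom_eq_one hp
    apply Subtype.ext
    rw [Subgroup.coe_pow, Subgroup.coe_one]
    exact aff_trans_pow_p w
  have hlin : ∀ B : SL2 (ZMod p), ∀ h, χ ⟨aff B 0, h⟩ = 1 := by
    intro B
    refine SL2.transvection_induction (fun B => ∀ h, χ ⟨aff B 0, h⟩ = 1) ?_ ?_ B
    · intro i j hij c h
      apply units_hom_eq_one hp
      apply Subtype.ext
      rw [Subgroup.coe_pow, Subgroup.coe_one]
      obtain ⟨w, hw⟩ := aff_pow_exists (SpecialLinearGroup.transvection hij c) 0 p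
      rw [hw, transvection_pow_p]
      -- a translation which is a `p`-th power of a linear element is trivial
      have h0 : ∀ k : ℕ, (aff (SpecialLinearGroup.transvection hij c) (0 : Fin 2 → ZMod p)) ^ k =
          aff ((SpecialLinearGroup.transvection hij c) ^ k) 0 := by
        intro k
        induction k with
        | zero => rw [pow_zero, pow_zero, aff_one]
        | succ k ih => rw [pow_succ, ih, aff_lin_mul, ← pow_succ]
      have := h0 p
      rw [hw, transvection_pow_p] at this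
      rw [this, aff_one]
    · intro A B hA hB h
      have h1 : (⟨aff (A * B) 0, h⟩ : ↥(affSub (ZMod p))) =
          ⟨aff A 0, aff_mem A 0⟩ * ⟨aff B 0, aff_mem B 0⟩ := by
        apply Subtype.ext
        rw [Subgroup.coe_mul]
        exact (aff_lin_mul A B).symm
      rw [h1, map_mul, hA, hB, one_mul]
  have h1 : (⟨aff A v, aff_mem A v⟩ : ↥(affSub (ZMod p))) =
      ⟨aff 1 v, aff_mem 1 v⟩ * ⟨aff A 0, aff_mem A 0⟩ := by
    apply Subtype.ext
    rw [Subgroup.coe_mul]
    exact (aff_one_mul A v).symm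
  rw [h1, map_mul, htrans, hlin, one_mul]

theorem exists_subgroup_alt (hp : p ≠ 2) {n : ℕ} (hn : p ^ 2 ≤ n) :
    ∃ H : Subgroup (alternatingGroup (Fin n)), Nonempty (↥H ≃* ↥(Cfsg.qd p)) := by
  have hcard : Fintype.card (Fin 2 → ZMod p) ≤ Fintype.card (Fin n) := by
    rw [Fintype.card_fun, ZMod.card, Fintype.card_fin, Fintype.card_fin]
    exact hn
  obtain ⟨ι⟩ := Function.Embedding.nonempty_of_card_le hcard
  have hinj : Function.Injective ((Equiv.Perm.viaEmbeddingHom ι).comp (θ (ZMod p))) := by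
    rw [MonoidHom.coe_comp]
    exact (Equiv.Perm.viaEmbeddingHom_injective ι).comp θ_injective
  have hmem : ∀ M, ((Equiv.Perm.viaEmbeddingHom ι).comp (θ (ZMod p))) M ∈
      alternatingGroup (Fin n) := by
    intro M
    rw [Equiv.Perm.mem_alternatingGroup]
    exact hom_units_trivial hp
      (Equiv.Perm.sign.comp ((Equiv.Perm.viaEmbeddingHom ι).comp (θ (ZMod p)))) M
  have hinj' : Function.Injective
      (((Equiv.Perm.viaEmbeddingHom ι).comp (θ (ZMod p))).codRestrict
        (alternatingGroup (Fin n)) hmem) := by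
    intro M N h
    apply hinj
    exact congrArg Subtype.val h
  refine ⟨(((Equiv.Perm.viaEmbeddingHom ι).comp (θ (ZMod p))).codRestrict
        (alternatingGroup (Fin n)) hmem).range, ⟨?_⟩⟩
  exact (MonoidHom.ofInjective hinj').symm.trans (MulEquiv.subgroupCongr (qd_eq p).symm)

end ZModp


section NonInvolved

variable {p : ℕ} [Fact p.Prime]

/-- a `p`-group of order dividing `p!` is commutative -/
theorem comm_of_card_dvd_factorial {G : Type*} [Group G] [Finite G] (hG : IsPGroup p G)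
    (hd : Nat.card G ∣ p.factorial) (a b : G) : a * b = b * a := by
  have hp : p.Prime := Fact.out
  obtain ⟨m, hm⟩ := IsPGroup.iff_card.mp hG
  have hm1 : m ≤ 1 := by
    by_contra hcon
    have h2 : p ^ 2 ∣ p.factorial := by
      refine dvd_trans ?_ hd
      rw [hm]
      exact pow_dvd_pow p (by omega)
    obtain ⟨k, hk⟩ := Nat.exists_eq_succ_of_ne_zero hp.ne_zero
    rw [hk, Nat.factorial_succ, pow_two] at h2
    have h3 : k + 1 ∣ k.factorial := Nat.dvd_of_mul_dvd_mul_left (Nat.succ_pos k) h2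
    have h4 : p ∣ k.factorial := by rw [hk]; exact h3
    have := (hp.dvd_factorial).mp h4
    omega
  interval_cases m
  · rw [pow_zero] at hm
    have := (Nat.card_eq_one_iff_unique.mp hm).1
    exact Subsingleton.elim _ _
  · rw [pow_one] at hm
    have := isCyclic_of_prime_card hm
    have h := IsCyclic.isMulCommutative (α := G)
    exact mul_comm' a b

/-- `p`-subgroups of the symmetric group of degree `n < p²` are commutative -/
theorem perm_pgroup_comm {n : ℕ} (hn : n < p ^ 2) (P : Subgroup (Equiv.Perm (Fin n)))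
    (hP : IsPGroup p P) (x y : Equiv.Perm (Fin n)) (hx : x ∈ P) (hy : y ∈ P) :
    x * y = y * x := by
  have hp : p.Prime := Fact.out
  apply Equiv.ext
  intro i
  rw [Equiv.Perm.mul_apply, Equiv.Perm.mul_apply]
  -- the orbit of `i`
  obtain ⟨j, hj⟩ := hP.card_orbit i
  have hle : Nat.card (MulAction.orbit P i) ≤ n := by
    have := Nat.card_le_card_of_injective (fun o : MulAction.orbit P i => (o : Fin n))
      Subtype.val_injective
    rwa [Nat.card_fin] at this
  have hj1 : j ≤ 1 := by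
    by_contra hcon
    have : p ^ 2 ≤ p ^ j := Nat.pow_le_pow_right hp.pos (by omega)
    omega
  have key : ∀ a b : P, a • b • (⟨i, MulAction.mem_orbit_self i⟩ : MulAction.orbit P i) =
      b • a • (⟨i, MulAction.mem_orbit_self i⟩ : MulAction.orbit P i) := by
    intro a b
    have hr : IsPGroup p (MulAction.toPermHom P (MulAction.orbit P i)).range :=
      IsPGroup.of_surjective hP _ (MulAction.toPermHom P (MulAction.orbit P i)).rangeRestrict_surjective
    have hd : Nat.card (MulAction.toPermHom P (MulAction.orbit P i)).range ∣ p.factorial := by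
      have h1 := Subgroup.card_subgroup_dvd_card (MulAction.toPermHom P (MulAction.orbit P i)).range
      rw [Nat.card_perm, hj] at h1
      refine dvd_trans h1 (Nat.factorial_dvd_factorial ?_)
      interval_cases j
      · rw [pow_zero]; exact hp.one_le
      · rw [pow_one]
    have hc := comm_of_card_dvd_factorial hr hd
      ⟨_, a, rfl⟩ ⟨_, b, rfl⟩
    have hc' : MulAction.toPermHom P (MulAction.orbit P i) a *
        MulAction.toPermHom P (MulAction.orbit P i) b =
        MulAction.toPermHom P (MulAction.orbit P i) b *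
        MulAction.toPermHom P (MulAction.orbit P i) a := congrArg Subtype.val hc
    have := congrArg (fun σ => σ (⟨i, MulAction.mem_orbit_self i⟩ : MulAction.orbit P i)) hc'
    simpa [Equiv.Perm.mul_apply, MulAction.toPermHom_apply] using this
  have := congrArg Subtype.val (key ⟨x, hx⟩ ⟨y, hy⟩)
  simpa [MulAction.orbit.coe_smul, Subgroup.smul_def] using this

/-- the upper unitriangular affine group -/
def uniSub (p : ℕ) [Fact p.Prime] : Subgroup (SL3 (ZMod p)) where
  carrier := {M | ∃ (b : ZMod p) (v : Fin 2 → ZMod p),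
    M = aff (SpecialLinearGroup.transvection (zero_ne_one : (0 : Fin 2) ≠ 1) b) v}
  mul_mem' := by
    rintro _ _ ⟨b, v, rfl⟩ ⟨b', v', rfl⟩
    exact ⟨b + b', _, by rw [aff_mul, ← SpecialLinearGroup.transvection_add]⟩
  one_mem' := ⟨0, 0, by rw [SpecialLinearGroup.transvection_coeff_zero, aff_one]⟩
  inv_mem' := by
    rintro _ ⟨b, v, rfl⟩
    exact ⟨-b, _, by rw [aff_inv, SpecialLinearGroup.transvection_inv]⟩

theorem uniSub_isPGroup : IsPGroup p (uniSub p) := by
  rintro ⟨_, b, v, rfl⟩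
  refine ⟨2, ?_⟩
  apply Subtype.ext
  rw [Subgroup.coe_pow, Subgroup.coe_one, pow_two, pow_mul]
  obtain ⟨w, hw⟩ := aff_pow_exists
    (SpecialLinearGroup.transvection (zero_ne_one : (0 : Fin 2) ≠ 1) b) v p
  rw [hw, transvection_pow_p, aff_trans_pow_p]

theorem uniSub_le : uniSub p ≤ affSub (ZMod p) := by
  rintro _ ⟨b, v, rfl⟩
  exact aff_mem _ _

theorem uniSub_not_comm :
    aff (SpecialLinearGroup.transvection (zero_ne_one : (0 : Fin 2) ≠ 1) (0 : ZMod p)) ![0, 1] *
      aff (SpecialLinearGroup.transvection (zero_ne_one : (0 : Fin 2) ≠ 1) (1 : ZMod p)) 0 ≠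
    aff (SpecialLinearGroup.transvection (zero_ne_one : (0 : Fin 2) ≠ 1) (1 : ZMod p)) 0 *
      aff (SpecialLinearGroup.transvection (zero_ne_one : (0 : Fin 2) ≠ 1) (0 : ZMod p)) ![0, 1] := by
  intro h
  rw [aff_mul, aff_mul] at h
  have h2 := congrFun (aff_injective h).2 0
  simp [SpecialLinearGroup.transvection_coe, Matrix.mulVec, dotProduct, Fin.sum_univ_two,
    Matrix.add_apply, Matrix.single_apply] at h2

theorem not_involves {n : ℕ} (hn : n < p ^ 2) :
    ¬ Cfsg.Involves ↥(Cfsg.qd p) ↥(alternatingGroup (Fin n)) := by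
  rintro ⟨K, R, hN, ⟨e⟩⟩
  -- `p`-subgroups of `K` are commutative
  have step1 : ∀ P : Subgroup ↥K, IsPGroup p P → ∀ a ∈ P, ∀ b ∈ P, a * b = b * a := by
    intro P hP a ha b hb
    have hinj : Function.Injective ((alternatingGroup (Fin n)).subtype.comp K.subtype) := by
      rw [MonoidHom.coe_comp]
      exact (Subgroup.subtype_injective _).comp (Subgroup.subtype_injective _)
    apply hinj
    rw [map_mul, map_mul]
    exact perm_pgroup_comm hn (P.map ((alternatingGroup (Fin n)).subtype.comp K.subtype))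
      (hP.map _) _ _ ⟨a, ha, rfl⟩ ⟨b, hb, rfl⟩
  -- hence so are the `p`-subgroups of the quotient
  have step2 : ∀ Q : Subgroup (↥K ⧸ R.subgroupOf K), IsPGroup p Q →
      ∀ a ∈ Q, ∀ b ∈ Q, a * b = b * a := by
    intro Q hQ a ha b hb
    obtain ⟨T, hT⟩ := hQ.exists_le_sylow
    obtain ⟨S, rfl⟩ := Sylow.mapSurjective_surjective
      (QuotientGroup.mk'_surjective (R.subgroupOf K)) p T
    have ha' := hT ha
    have hb' := hT hb
    rw [Sylow.coe_mapSurjective] at ha' hb'
    obtain ⟨s₁, hs₁, rfl⟩ := ha'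
    obtain ⟨s₂, hs₂, rfl⟩ := hb'
    rw [← map_mul, ← map_mul, step1 S S.2 s₁ hs₁ s₂ hs₂]
  -- but the quotient contains a non-commutative `p`-subgroup
  have hx : aff (SpecialLinearGroup.transvection (zero_ne_one : (0 : Fin 2) ≠ 1) (0 : ZMod p))
      ![0, 1] ∈ Cfsg.qd p := by rw [qd_eq]; exact aff_mem _ _
  have hy : aff (SpecialLinearGroup.transvection (zero_ne_one : (0 : Fin 2) ≠ 1) (1 : ZMod p))
      0 ∈ Cfsg.qd p := by rw [qd_eq]; exact aff_mem _ _
  have hQ : IsPGroup p (((uniSub p).subgroupOf (Cfsg.qd p)).comap e.toMonoidHom) :=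
    (uniSub_isPGroup.comap_subtype).comap_of_injective _ e.injective
  have h := step2 _ hQ (e.symm ⟨_, hx⟩) (by
      rw [Subgroup.mem_comap, MulEquiv.coe_toMonoidHom, MulEquiv.apply_symm_apply,
        Subgroup.mem_subgroupOf]
      exact ⟨0, _, rfl⟩) (e.symm ⟨_, hy⟩) (by
      rw [Subgroup.mem_comap, MulEquiv.coe_toMonoidHom, MulEquiv.apply_symm_apply,
        Subgroup.mem_subgroupOf]
      exact ⟨1, _, rfl⟩)
  rw [← map_mul, ← map_mul] at h
  have h' := congrArg Subtype.val (e.symm.injective h)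
  exact uniSub_not_comm h'

end NonInvolved

/-- Let p be an odd prime and n a natural number. The alternating group of degree n has a subgroup isomorphic to Qd(p) (the natural semidirect product of an elementary abelian group of order p² by SL₂(p)) if and only if n ≥ p²; and if n < p² then Qd(p) is not even involved in it. -/
theorem result {p : ℕ} [Fact p.Prime] (hp : p ≠ 2) (n : ℕ) : ((∃ H : Subgroup (alternatingGroup (Fin n)), Nonempty (↥H ≃* ↥(Cfsg.qd p))) ↔ p ^ 2 ≤ n) ∧ (n < p ^ 2 → ¬ Cfsg.Involves ↥(Cfsg.qd p) ↥(alternatingGroup (Fin n))) := by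
  refine ⟨⟨?_, exists_subgroup_alt hp⟩, not_involves⟩
  rintro ⟨H, ⟨e⟩⟩
  by_contra hcon
  push Not at hcon
  apply not_involves hcon
  have hN : ((⊥ : Subgroup ↥(alternatingGroup (Fin n))).subgroupOf H).Normal := by
    rw [Subgroup.bot_subgroupOf]; infer_instance
  refine ⟨H, ⊥, hN, ⟨?_⟩⟩
  exact (QuotientGroup.quotientMulEquivOfEq (Subgroup.bot_subgroupOf H)).trans
    (QuotientGroup.quotientBot.trans e)

end Cfsg.Agent.S3835
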