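import Mathlib
import Cfsg.Statements.S3838
import Cfsg.Agent.S3744
import Cfsg.Agent.Lib.Helper10.Frobenius2
import Cfsg.Agent.Lib.Helper22.Burnside
import Cfsg.Agent.Lib.Helper1.Coprime
import Cfsg.Agent.Lib.Helper19.Conj
import Cfsg.Agent.Lib.Helper19.NormalizerLattice

set_option autoImplicit false
open Cfsg

namespace Cfsg.Agent.S3838

variable {G : Type*} [Group G] [Finite G] {p : ℕ} [Fact p.Prime]

/-- If `N_G(P)` has a normal `p`-complement, every element of `N_G(P)` acts on `P` as an inner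
automorphism of `P`; in particular commutators with `P` land in `P'`. -/
theorem comm_mem_of_npc (P : Sylow p G)
    (hN : HasNormalPComplement p ↥(Subgroup.normalizer ((P : Subgroup G) : Set G)))
    (x : G) (hx : x ∈ Subgroup.normalizer ((P : Subgroup G) : Set G)) (u : G)
    (hu : u ∈ (P : Subgroup G)) :
    x * u * x⁻¹ * u⁻¹ ∈ (commutator ↥(P : Subgroup G)).map (P : Subgroup G).subtype := by
  generalize hT : Subgroup.normalizer ((P : Subgroup G) : Set G) = T at hN hx
  have hPT' : (P : Subgroup G) ≤ T := by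
    rw [← hT]
    exact Subgroup.le_normalizer
  obtain ⟨K, hKn, hKc, hKi⟩ := Cfsg.Agent.Helper10.npc_of_hasNormalPComplement hN
  obtain ⟨PT, hPT⟩ : ∃ PT : Sylow p ↥T, (PT : Subgroup ↥T) = (P : Subgroup G).subgroupOf T :=
    ⟨P.subtype hPT', Sylow.coe_subtype P _⟩
  have hcompl : K.IsComplement' (PT : Subgroup ↥T) :=
    Cfsg.Agent.Helper10.isComplement'_of_npc hKc hKi PT
  have hPTn : (PT : Subgroup ↥T).Normal := by
    rw [hPT]
    subst hT
    exact Subgroup.normal_in_normalizer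
  obtain ⟨k, hk, u', hu', hxku⟩ := Cfsg.Agent.Helper1.IsComplement'.exists_mul hcompl ⟨x, hx⟩
  have hcomm : ∀ y ∈ (PT : Subgroup ↥T), k * y = y * k := fun y hy =>
    Subgroup.commute_of_normal_of_disjoint K (PT : Subgroup ↥T) hKn hPTn hcompl.disjoint k y hk hy
  rw [hPT] at hu'
  have hu'P : (u' : G) ∈ (P : Subgroup G) := Subgroup.mem_subgroupOf.mp hu'
  have hxeq : x = (k : G) * (u' : G) := congrArg Subtype.val hxku
  -- `k` commutes with `u' u u'⁻¹`
  have hconj : (u' : G) * u * (u' : G)⁻¹ ∈ (P : Subgroup G) :=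
    (P : Subgroup G).mul_mem ((P : Subgroup G).mul_mem hu'P hu) ((P : Subgroup G).inv_mem hu'P)
  have hkc : (k : G) * ((u' : G) * u * (u' : G)⁻¹) = ((u' : G) * u * (u' : G)⁻¹) * (k : G) := by
    have h1 := hcomm ⟨(u' : G) * u * (u' : G)⁻¹, hPT' hconj⟩ (by
      rw [hPT]
      exact Subgroup.mem_subgroupOf.mpr hconj)
    exact congrArg Subtype.val h1
  have hcalc : x * u * x⁻¹ * u⁻¹ = (u' : G) * u * (u' : G)⁻¹ * u⁻¹ := by
    rw [hxeq]
    calc (k : G) * (u' : G) * u * ((k : G) * (u' : G))⁻¹ * u⁻¹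
        = ((k : G) * ((u' : G) * u * (u' : G)⁻¹)) * (k : G)⁻¹ * u⁻¹ := by group
      _ = (((u' : G) * u * (u' : G)⁻¹) * (k : G)) * (k : G)⁻¹ * u⁻¹ := by rw [hkc]
      _ = (u' : G) * u * (u' : G)⁻¹ * u⁻¹ := by group
  rw [hcalc]
  have hmem := Subgroup.commutator_mem_commutator (H₁ := (⊤ : Subgroup ↥(P : Subgroup G)))
    (H₂ := (⊤ : Subgroup ↥(P : Subgroup G))) (Subgroup.mem_top ⟨(u' : G), hu'P⟩)
    (Subgroup.mem_top ⟨u, hu⟩)
  rw [commutatorElement_def, ← commutator_def] at hmem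
  exact Subgroup.mem_map.mpr ⟨_, hmem, rfl⟩

omit [Finite G] in
theorem comm_mem_commutator_map (P : Subgroup G) (a b : G) (ha : a ∈ P) (hb : b ∈ P) :
    a * b * a⁻¹ * b⁻¹ ∈ (commutator ↥P).map P.subtype := by
  have hmem := Subgroup.commutator_mem_commutator (H₁ := (⊤ : Subgroup ↥P))
    (H₂ := (⊤ : Subgroup ↥P)) (Subgroup.mem_top ⟨a, ha⟩) (Subgroup.mem_top ⟨b, hb⟩)
  rw [commutatorElement_def, ← commutator_def] at hmem
  exact Subgroup.mem_map.mpr ⟨_, hmem, rfl⟩

/-- Let G be a finite group with Sylow p-subgroup P such that N_G(P) has a normal p-complement. Then N_G(Q) has a normal p-complement for every subgroup Q with [P, P] ≤ Q ≤ Φ(P). -/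
theorem result {G : Type*} [Group G] [Finite G] {p : ℕ} [Fact p.Prime] (P : Sylow p G) (hN : Cfsg.HasNormalPComplement p ↥(Subgroup.normalizer ((P : Subgroup G) : Set G))) (Q : Subgroup G) (h1 : (commutator ↥(P : Subgroup G)).map (P : Subgroup G).subtype ≤ Q) (h2 : Q ≤ (frattini ↥(P : Subgroup G)).map (P : Subgroup G).subtype) : Cfsg.HasNormalPComplement p ↥(Subgroup.normalizer (Q : Set G)) := by
  open Cfsg.Agent.Helper19 in
  have hQP : Q ≤ (P : Subgroup G) := le_trans h2 (Subgroup.map_subtype_le _)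
  generalize hNdef : Subgroup.normalizer (Q : Set G) = N
  have hPN : (P : Subgroup G) ≤ N := by
    rw [← hNdef, Subgroup.le_normalizer_iff]
    intro u hu q hq
    have h3 := h1 (comm_mem_commutator_map (P : Subgroup G) u q hu (hQP hq))
    have e : u * q * u⁻¹ = (u * q * u⁻¹ * q⁻¹) * q := by group
    rw [e]
    exact Q.mul_mem h3 hq
  have hQLn : (Q.subgroupOf N).Normal := by
    subst hNdef
    exact Subgroup.normal_in_normalizer
  obtain ⟨PL, hPL⟩ : ∃ PL : Sylow p ↥N, (PL : Subgroup ↥N) = (P : Subgroup G).subgroupOf N :=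
    ⟨P.subtype hPN, Sylow.coe_subtype P _⟩
  have hQPL : Q.subgroupOf N ≤ (PL : Subgroup ↥N) := by
    rw [hPL]
    exact Subgroup.comap_mono hQP
  have hQp : IsPGroup p (Q.subgroupOf N) := (PL.2).to_le hQPL
  obtain ⟨m, hm⟩ := hQp.exists_card_eq
  have hsurj := QuotientGroup.mk'_surjective (Q.subgroupOf N)
  obtain ⟨Pb, hPb⟩ : ∃ Pb : Sylow p (↥N ⧸ Q.subgroupOf N),
      (Pb : Subgroup (↥N ⧸ Q.subgroupOf N)) =
        (PL : Subgroup ↥N).map (QuotientGroup.mk' (Q.subgroupOf N)) :=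
    ⟨PL.mapSurjective hsurj, Sylow.coe_mapSurjective hsurj PL⟩
  have hB : Subgroup.normalizer ((Pb : Subgroup (↥N ⧸ Q.subgroupOf N)) : Set (↥N ⧸ Q.subgroupOf N)) ≤
      Subgroup.centralizer ((Pb : Subgroup (↥N ⧸ Q.subgroupOf N)) : Set (↥N ⧸ Q.subgroupOf N)) := by
    intro xb hxb
    obtain ⟨x, rfl⟩ := hsurj xb
    have hx1 : x ∈ Subgroup.normalizer ((PL : Subgroup ↥N) : Set ↥N) := by
      have h3 : x ∈ (Subgroup.normalizer ((Pb : Subgroup (↥N ⧸ Q.subgroupOf N)) :
          Set (↥N ⧸ Q.subgroupOf N))).comap (QuotientGroup.mk' (Q.subgroupOf N)) := hxb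
      have h4 := Subgroup.le_normalizer_comap (QuotientGroup.mk' (Q.subgroupOf N)) h3
      rw [hPb, QuotientGroup.comap_map_mk', sup_eq_right.mpr hQPL] at h4
      exact h4
    have hx2 : (x : G) ∈ Subgroup.normalizer ((P : Subgroup G) : Set G) := by
      have h5 := Subgroup.le_normalizer_map N.subtype (Subgroup.mem_map_of_mem N.subtype hx1)
      rw [hPL, Subgroup.subgroupOf_map_subtype, inf_eq_left.mpr hPN] at h5
      exact h5
    rw [Subgroup.mem_centralizer_iff]
    intro ub hub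
    rw [SetLike.mem_coe, hPb] at hub
    obtain ⟨u, hu, rfl⟩ := Subgroup.mem_map.mp hub
    rw [hPL] at hu
    have huP : (u : G) ∈ (P : Subgroup G) := Subgroup.mem_subgroupOf.mp hu
    have h6 := h1 (comm_mem_of_npc P hN x hx2 u huP)
    have h7 : (x * u * x⁻¹ * u⁻¹ : ↥N) ∈ Q.subgroupOf N := by
      rw [Subgroup.mem_subgroupOf]
      simpa using h6
    have h8 : (QuotientGroup.mk' (Q.subgroupOf N)) (x * u * x⁻¹ * u⁻¹) = 1 :=
      (QuotientGroup.eq_one_iff _).mpr h7
    rw [map_mul, map_mul, map_mul, map_inv, map_inv] at h8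
    have h9 := mul_inv_eq_iff_eq_mul.mp (mul_inv_eq_one.mp h8)
    exact h9.symm
  obtain ⟨Mb, hMbn, hMbc, hMbi⟩ := Cfsg.Agent.Helper10.npc_of_hasNormalPComplement
    (Cfsg.Agent.Helper22.hasNormalPComplement_of_normalizer_le_centralizer Pb hB)
  obtain ⟨K, hKpc, hKM⟩ :=
    Cfsg.Agent.S3744.exists_isPC_of_quotient (Q.subgroupOf N) hm (K := Mb) ⟨hMbc, hMbi⟩
  have hMn : (Mb.comap (QuotientGroup.mk' (Q.subgroupOf N))).Normal := hMbn.comap _
  have hKM' : K ≤ Mb.comap (QuotientGroup.mk' (Q.subgroupOf N)) := by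
    rw [← hKM]
    exact le_sup_right
  have hQsolv : Group.IsSolvable (Q.subgroupOf N) := by
    have : Group.IsNilpotent (Q.subgroupOf N) := hQp.isNilpotent
    infer_instance
  have hcopKQ : (Nat.card K).Coprime (Nat.card (Q.subgroupOf N)) := by
    rw [hm]
    exact Nat.Coprime.pow_right m hKpc.1
  have hfrat : ∀ x : ↥N, ∃ n ∈ Q.subgroupOf N, n * x ∈ Subgroup.normalizer (K : Set ↥N) := by
    intro x
    have hle : K.map (MulAut.conj x).toMonoidHom ≤ (Q.subgroupOf N) ⊔ K := by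
      rw [hKM]
      intro y hy
      rw [mem_map_conj] at hy
      have := hMn.conj_mem _ (hKM' hy) x
      have e : x * (x⁻¹ * y * x) * x⁻¹ = y := by group
      rwa [e] at this
    obtain ⟨n, hn, hnK⟩ := Cfsg.Agent.Helper1.sz_internal (Q.subgroupOf N) K
      (K.map (MulAut.conj x).toMonoidHom) (le_normalizer_of_normal K _) hcopKQ (Or.inr hQsolv)
      hle (card_map_conj K x)
    refine ⟨n, hn, ?_⟩
    rw [mem_normalizer_iff_map_conj, map_conj_mul]
    exact hnK
  have hPnorm : ∀ u : ↥(P : Subgroup G),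
      Subgroup.inclusion hPN u ∈ Subgroup.normalizer (K : Set ↥N) := by
    obtain ⟨R, hR⟩ : ∃ R : Subgroup ↥(P : Subgroup G),
        R = (Subgroup.normalizer (K : Set ↥N)).comap (Subgroup.inclusion hPN) := ⟨_, rfl⟩
    have hRtop : R = ⊤ := by
      apply frattini_nongenerating
      rw [eq_top_iff]
      intro u _
      obtain ⟨n, hn, hnx⟩ := hfrat (Subgroup.inclusion hPN u)
      have hnQ : (n : G) ∈ Q := Subgroup.mem_subgroupOf.mp hn
      obtain ⟨f, hf, hfn⟩ := Subgroup.mem_map.mp (h2 hnQ)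
      have hr : f * u ∈ R := by
        rw [hR, Subgroup.mem_comap]
        have e : Subgroup.inclusion hPN (f * u) = n * Subgroup.inclusion hPN u := by
          apply Subtype.ext
          simpa using hfn
        rw [e]
        exact hnx
      have e2 : u = f⁻¹ * (f * u) := by group
      rw [e2]
      exact Subgroup.mul_mem _ (Subgroup.mem_sup_right (Subgroup.inv_mem _ hf))
        (Subgroup.mem_sup_left hr)
    intro u
    have : u ∈ R := by
      rw [hRtop]
      exact Subgroup.mem_top u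
    rw [hR] at this
    exact this
  have hKn : K.Normal := by
    rw [← Subgroup.normalizer_eq_top_iff, eq_top_iff]
    intro x _
    obtain ⟨n, hn, hnx⟩ := hfrat x
    have hnP : (n : G) ∈ (P : Subgroup G) := hQP (Subgroup.mem_subgroupOf.mp hn)
    have hn' : n ∈ Subgroup.normalizer (K : Set ↥N) := by
      have := hPnorm ⟨(n : G), hnP⟩
      have e : Subgroup.inclusion hPN ⟨(n : G), hnP⟩ = n := Subtype.ext rfl
      rwa [e] at this
    have e2 : x = n⁻¹ * (n * x) := by group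
    rw [e2]
    exact Subgroup.mul_mem _ (Subgroup.inv_mem _ hn') hnx
  exact Cfsg.Agent.Helper10.NPC.hasNormalPComplement ⟨K, hKn, hKpc.1, hKpc.2⟩

end Cfsg.Agent.S3838
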