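import Mathlib
import Cfsg.Statements.S3839
import Cfsg.Agent.Lib.Helper10.Frobenius4
import Cfsg.Agent.Lib.Helper16.PGroup2
import Cfsg.Agent.Lib.Helper1.Coprime
import Cfsg.Agent.Lib.Helper19.NormalizerLattice

set_option autoImplicit false
open Cfsg

namespace Cfsg.Agent.S3839

open Cfsg.Agent.Helper10

variable {G : Type*} [Group G]

/-- `Q` is a bad `p`-subgroup: some `p'`-element normalizes but does not centralize it. -/
def Bad (p : ℕ) (Q : Subgroup G) : Prop :=
  IsPGroup p Q ∧ ∃ g ∈ Subgroup.normalizer (Q : Set G), (orderOf g).Coprime p ∧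
    g ∉ Subgroup.centralizer (Q : Set G)

theorem bad_rcg {p : ℕ} {Q : Subgroup G} (h : Bad p Q) (c : G) : Bad p (rcg c Q) := by
  obtain ⟨hQ, g, hgN, hgc, hgC⟩ := h
  refine ⟨isPGroup_rcg c hQ, c⁻¹ * g * c, ?_, ?_, ?_⟩
  · rw [← rcg_normalizer, mem_rcg]
    have e : c * (c⁻¹ * g * c) * c⁻¹ = g := by group
    rw [e]
    exact hgN
  · have e : c⁻¹ * g * c = (MulAut.conj c⁻¹) g := by simp
    rw [e, MulEquiv.orderOf_eq]
    exact hgc
  · intro hC
    apply hgC
    rw [Subgroup.mem_centralizer_iff] at hC ⊢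
    intro q hq
    have hq' : c⁻¹ * q * c ∈ rcg c Q := by
      rw [mem_rcg]
      have e : c * (c⁻¹ * q * c) * c⁻¹ = q := by group
      rw [e]
      exact hq
    have h1 := hC _ hq'
    have e1 : q * g = c * ((c⁻¹ * q * c) * (c⁻¹ * g * c)) * c⁻¹ := by group
    have e2 : g * q = c * ((c⁻¹ * g * c) * (c⁻¹ * q * c)) * c⁻¹ := by group
    rw [e1, e2, h1]

/-- Powers of `g * w` modulo a subgroup `W` normalized by `g`. -/
theorem exists_pow_mul_eq (W : Subgroup G) (g w : G) (hg : g ∈ Subgroup.normalizer (W : Set G))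
    (hw : w ∈ W) (k : ℕ) : ∃ w' ∈ W, (g * w) ^ k = g ^ k * w' := by
  induction k with
  | zero => exact ⟨1, W.one_mem, by simp⟩
  | succ k ih =>
    obtain ⟨w', hw', hk⟩ := ih
    refine ⟨(g⁻¹ * w' * g) * w, W.mul_mem ?_ hw, ?_⟩
    · exact (Subgroup.mem_normalizer_iff''.mp hg w').mp hw'
    · rw [pow_succ, hk, pow_succ]
      group

theorem conj_mem_centralizer (H : Subgroup G) (x c : G)
    (hx : x ∈ Subgroup.normalizer (H : Set G)) (hc : c ∈ Subgroup.centralizer (H : Set G)) :
    x * c * x⁻¹ ∈ Subgroup.centralizer (H : Set G) := by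
  rw [Subgroup.mem_centralizer_iff] at hc ⊢
  intro h hh
  have h' : x⁻¹ * h * x ∈ H := (Subgroup.mem_normalizer_iff''.mp hx h).mp hh
  have h1 := hc _ h'
  have e1 : h * (x * c * x⁻¹) = x * ((x⁻¹ * h * x) * c) * x⁻¹ := by group
  have e2 : x * c * x⁻¹ * h = x * (c * (x⁻¹ * h * x)) * x⁻¹ := by group
  rw [e1, e2, h1]

/-- Key step: for a bad subgroup `H` of maximal order, any `p`-subgroup of an `N(H)`-invariant
subgroup `W ≤ N(H)` whose `p'`-elements centralize `H` lies in `H`. -/
theorem le_of_max_bad [Finite G] {p : ℕ} [Fact p.Prime] (H : Subgroup G) (hH : Bad p H)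
    (hmax : ∀ Q : Subgroup G, Bad p Q → Nat.card Q ≤ Nat.card H)
    (W : Subgroup G) (hWN : W ≤ Subgroup.normalizer (H : Set G))
    (hNW : Subgroup.normalizer (H : Set G) ≤ Subgroup.normalizer (W : Set G))
    (hWc : ∀ w ∈ W, (orderOf w).Coprime p → w ∈ Subgroup.centralizer (H : Set G))
    (X : Subgroup G) (hXW : X ≤ W) (hX : IsPGroup p X) : X ≤ H := by
  -- a Sylow `p`-subgroup `T` of `W` containing `X`
  obtain ⟨T', hT'⟩ := (hX.comap_subtype (K := W)).exists_le_sylow
  obtain ⟨T, hT⟩ : ∃ T : Subgroup G, T = (T' : Subgroup ↥W).map W.subtype := ⟨_, rfl⟩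
  have hTW : T ≤ W := by
    rw [hT]
    exact Subgroup.map_subtype_le _
  have hXT : X ≤ T := by
    intro x hx
    rw [hT]
    exact Subgroup.mem_map.mpr ⟨⟨x, hXW hx⟩, hT' (Subgroup.mem_subgroupOf.mpr hx), rfl⟩
  have hTp : IsPGroup p T := by
    rw [hT]
    exact T'.2.map _
  have hTidx : ¬ p ∣ T.relIndex W := by
    have e : T.subgroupOf W = (T' : Subgroup ↥W) := by
      rw [hT]
      exact Subgroup.comap_map_eq_self_of_injective W.subtype_injective _
    rw [Subgroup.relIndex, e]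
    exact T'.not_dvd_index
  obtain ⟨hHp, g, hgN, hgcop, hgC⟩ := hH
  -- Frattini: adjust `g` by an element of `W` to normalize `T`
  have hgW : g ∈ Subgroup.normalizer (W : Set G) := hNW hgN
  have hrcgW : rcg g T ≤ W := by
    intro y hy
    rw [mem_rcg] at hy
    exact (Subgroup.mem_normalizer_iff.mp hgW y).mpr (hTW hy)
  obtain ⟨c, hcW, hc⟩ := conj_into_relSylow W T (rcg g T) hTW hTp hTidx hrcgW (isPGroup_rcg g hTp)
  rw [← rcg_mul] at hc
  have hnT : g * c ∈ Subgroup.normalizer (T : Set G) :=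
    mem_normalizer_iff_rcg.mpr (rcg_eq_of_le_of_finite hc)
  have hnH : g * c ∈ Subgroup.normalizer (H : Set G) := Subgroup.mul_mem _ hgN (hWN hcW)
  obtain ⟨e, he⟩ := exists_pow_coprime_order (p := p) (g * c)
  -- the `p'`-part of `g * c` does not centralize `H`
  have hnC : (g * c) ^ (p ^ e) ∉ Subgroup.centralizer (H : Set G) := by
    intro hcen
    obtain ⟨w₁, hw₁, hpow⟩ := exists_pow_mul_eq W g c hgW hcW (p ^ e)
    obtain ⟨f, hf⟩ := exists_pow_coprime_order (p := p) w₁
    have hw₁c : w₁ ^ (p ^ f) ∈ Subgroup.centralizer (H : Set G) :=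
      hWc _ (W.pow_mem hw₁ _) hf
    -- `w₁ = a⁻¹ * n'` with `a = g ^ (p ^ e)` and `n'` centralizing `H`
    have haN : (g ^ (p ^ e))⁻¹ ∈ Subgroup.normalizer (H : Set G) :=
      Subgroup.inv_mem _ (Subgroup.pow_mem _ hgN _)
    have haNC : (g ^ (p ^ e))⁻¹ ∈
        Subgroup.normalizer ((Subgroup.centralizer (H : Set G) : Subgroup G) : Set G) := by
      have hle : Subgroup.normalizer (H : Set G) ≤
          Subgroup.normalizer ((Subgroup.centralizer (H : Set G) : Subgroup G) : Set G) := by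
        rw [Subgroup.le_normalizer_iff]
        intro x hx y hy
        exact conj_mem_centralizer H x y hx hy
      exact hle haN
    have hw₁eq : w₁ = (g ^ (p ^ e))⁻¹ * (g * c) ^ (p ^ e) := by
      rw [hpow]
      group
    obtain ⟨c', hc', hpow'⟩ := exists_pow_mul_eq (Subgroup.centralizer (H : Set G))
      (g ^ (p ^ e))⁻¹ ((g * c) ^ (p ^ e)) haNC hcen (p ^ f)
    rw [← hw₁eq] at hpow'
    -- so `a ^ (p ^ f)` centralizes `H`
    have h1 : ((g ^ (p ^ e))⁻¹) ^ (p ^ f) ∈ Subgroup.centralizer (H : Set G) := by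
      have e1 : ((g ^ (p ^ e))⁻¹) ^ (p ^ f) = w₁ ^ (p ^ f) * c'⁻¹ := by
        rw [hpow']
        group
      rw [e1]
      exact Subgroup.mul_mem _ hw₁c (Subgroup.inv_mem _ hc')
    have h2 : g ^ (p ^ (e + f)) ∈ Subgroup.centralizer (H : Set G) := by
      have e2 : g ^ (p ^ (e + f)) = (((g ^ (p ^ e))⁻¹) ^ (p ^ f))⁻¹ := by
        rw [inv_pow, inv_inv, ← pow_mul, ← pow_add]
      rw [e2]
      exact Subgroup.inv_mem _ h1
    have hcop' : (p ^ (e + f)).Coprime (orderOf g) := (Nat.Coprime.pow_right _ hgcop).symm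
    obtain ⟨m, hm⟩ := exists_pow_eq_self_of_coprime hcop'
    apply hgC
    rw [← hm]
    exact Subgroup.pow_mem _ h2 m
  -- hence `H ⊔ T` is bad
  have hHTp : IsPGroup p ↥(H ⊔ T) := by
    have h := IsPGroup.to_sup_of_normal_right' hTp hHp (le_trans hTW hWN)
    rwa [sup_comm] at h
  have hbad : Bad p (H ⊔ T) := by
    refine ⟨hHTp, (g * c) ^ (p ^ e), ?_, he, ?_⟩
    · have hle := Cfsg.Agent.Helper19.le_normalizer_sup
        (Subgroup.normalizer (H : Set G) ⊓ Subgroup.normalizer (T : Set G)) H T inf_le_left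
        inf_le_right
      exact hle (Subgroup.pow_mem _ (Subgroup.mem_inf.mpr ⟨hnH, hnT⟩) _)
    · intro hcen
      apply hnC
      exact Subgroup.centralizer_le (SetLike.coe_subset_coe.mpr le_sup_left) hcen
  have hcard := hmax _ hbad
  have hHT : H = H ⊔ T := Subgroup.eq_of_le_of_card_ge le_sup_left hcard
  exact le_trans hXT (by rw [hHT]; exact le_sup_right)

/-- The stabilizer in `N(H)` of the chain `1 ≤ U ≤ H`. -/
def chainStab (H U : Subgroup G) : Subgroup G where
  carrier := {x | x ∈ Subgroup.normalizer (H : Set G) ∧ (∀ h ∈ H, x * h * x⁻¹ * h⁻¹ ∈ U) ∧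
    ∀ u ∈ U, x * u = u * x}
  one_mem' := by
    refine ⟨Subgroup.one_mem _, ?_, ?_⟩
    · intro h _
      have e : (1 : G) * h * 1⁻¹ * h⁻¹ = 1 := by group
      rw [e]
      exact U.one_mem
    · intro u _
      rw [one_mul, mul_one]
  mul_mem' := by
    rintro x y ⟨hx1, hx2, hx3⟩ ⟨hy1, hy2, hy3⟩
    refine ⟨Subgroup.mul_mem _ hx1 hy1, ?_, ?_⟩
    · intro h hh
      have hu₁ := hy2 h hh
      have hu₂ := hx2 h hh
      have hcomm := hx3 _ hu₁
      have e : x * y * h * (x * y)⁻¹ * h⁻¹ =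
          (x * (y * h * y⁻¹ * h⁻¹)) * x⁻¹ * (x * h * x⁻¹ * h⁻¹) := by group
      rw [e, hcomm, mul_assoc (y * h * y⁻¹ * h⁻¹) x x⁻¹, mul_inv_cancel, mul_one]
      exact U.mul_mem hu₁ hu₂
    · intro u hu
      rw [mul_assoc, hy3 u hu, ← mul_assoc, hx3 u hu, mul_assoc]
  inv_mem' := by
    rintro x ⟨hx1, hx2, hx3⟩
    refine ⟨Subgroup.inv_mem _ hx1, ?_, ?_⟩
    · intro h hh
      have hh' : x⁻¹ * h * x ∈ H := (Subgroup.mem_normalizer_iff''.mp hx1 h).mp hh
      have hu := hx2 _ hh'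
      have e : x⁻¹ * h * x⁻¹⁻¹ * h⁻¹ = (x * (x⁻¹ * h * x) * x⁻¹ * (x⁻¹ * h * x)⁻¹)⁻¹ := by group
      rw [e]
      exact U.inv_mem hu
    · intro u hu
      have h := hx3 u hu
      rw [inv_mul_eq_iff_eq_mul, ← mul_assoc, h, mul_assoc, mul_inv_cancel, mul_one]

theorem mem_chainStab {H U : Subgroup G} {x : G} : x ∈ chainStab H U ↔
    x ∈ Subgroup.normalizer (H : Set G) ∧ (∀ h ∈ H, x * h * x⁻¹ * h⁻¹ ∈ U) ∧
      ∀ u ∈ U, x * u = u * x := Iff.rfl

/-- Coprime elements stabilizing the chain `1 ≤ U ≤ H` centralize `H`. -/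
theorem mem_centralizer_of_chainStab {p : ℕ} [Fact p.Prime] (H U : Subgroup G)
    (hUp : IsPGroup p U) (x : G) (hx : x ∈ chainStab H U) (hcop : (orderOf x).Coprime p) :
    x ∈ Subgroup.centralizer (H : Set G) := by
  obtain ⟨_, hx2, hx3⟩ := hx
  rw [Subgroup.mem_centralizer_iff]
  intro h hh
  have hu := hx2 h hh
  have hxu : Commute x (x * h * x⁻¹ * h⁻¹) := hx3 _ hu
  have key : ∀ k : ℕ, x ^ k * h * (x ^ k)⁻¹ = (x * h * x⁻¹ * h⁻¹) ^ k * h := by
    intro k
    induction k with
    | zero => simp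
    | succ k ih =>
      have hc : x * (x * h * x⁻¹ * h⁻¹) ^ k = (x * h * x⁻¹ * h⁻¹) ^ k * x := (hxu.pow_right k).eq
      calc x ^ (k + 1) * h * (x ^ (k + 1))⁻¹
          = x * (x ^ k * h * (x ^ k)⁻¹) * x⁻¹ := by
            rw [pow_succ']
            group
        _ = x * ((x * h * x⁻¹ * h⁻¹) ^ k * h) * x⁻¹ := by rw [ih]
        _ = (x * (x * h * x⁻¹ * h⁻¹) ^ k) * h * x⁻¹ := by group
        _ = ((x * h * x⁻¹ * h⁻¹) ^ k * x) * h * x⁻¹ := by rw [hc]
        _ = (x * h * x⁻¹ * h⁻¹) ^ k * (x * h * x⁻¹ * h⁻¹) * h := by group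
        _ = (x * h * x⁻¹ * h⁻¹) ^ (k + 1) * h := by rw [pow_succ]
  have h1 := key (orderOf x)
  rw [pow_orderOf_eq_one, one_mul, inv_one, mul_one] at h1
  have h2 : (x * h * x⁻¹ * h⁻¹) ^ orderOf x = 1 := by
    have := h1.symm
    rwa [mul_eq_right] at this
  obtain ⟨j, hj⟩ := hUp ⟨_, hu⟩
  have h3 : (x * h * x⁻¹ * h⁻¹) ^ (p ^ j) = 1 := congrArg Subtype.val hj
  have h4 : orderOf (x * h * x⁻¹ * h⁻¹) ∣ orderOf x := orderOf_dvd_of_pow_eq_one h2
  have h5 : orderOf (x * h * x⁻¹ * h⁻¹) ∣ p ^ j := orderOf_dvd_of_pow_eq_one h3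
  have h6 : orderOf (x * h * x⁻¹ * h⁻¹) = 1 :=
    Nat.eq_one_of_dvd_coprimes (Nat.Coprime.pow_right j hcop) h4 h5
  have h7 : x * h * x⁻¹ * h⁻¹ = 1 := orderOf_eq_one_iff.mp h6
  have h8 := mul_inv_eq_iff_eq_mul.mp (mul_inv_eq_one.mp h7)
  exact h8.symm

/-- A Frobenius normal p-complement criterion relative to a strongly closed subgroup. Let G be a finite group, S a Sylow p-subgroup and D a subgroup of S strongly closed in S with respect to G. Then G has a normal p-complement if and only if N_G(U) has a normal p-complement for every subgroup U of D with C_D(U) ≤ U. -/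
theorem result {G : Type*} [Group G] [Finite G] {p : ℕ} [Fact p.Prime] (S : Sylow p G) (D : Subgroup G) (hD : Cfsg.IsStronglyClosed D (S : Subgroup G)) : Cfsg.HasNormalPComplement p G ↔ ∀ U : Subgroup G, U ≤ D → D ⊓ Subgroup.centralizer (U : Set G) ≤ U → Cfsg.HasNormalPComplement p ↥(Subgroup.normalizer (U : Set G)) := by
  constructor
  · intro h U _ _
    exact (NPC.subgroup (npc_of_hasNormalPComplement h) _).hasNormalPComplement
  · intro hyp
    obtain ⟨hDS, hDcl⟩ := hD
    suffices hF : FrobCond p G from (npc_of_frobCond (Nat.card G) G rfl hF).hasNormalPComplement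
    by_contra hF
    have hex : ∃ Q : Subgroup G, Q ∈ {Q : Subgroup G | Bad p Q} := by
      unfold FrobCond at hF
      push Not at hF
      obtain ⟨Q, hQ, g, hg, hcop, hgC⟩ := hF
      exact ⟨Q, hQ, g, hg, hcop, hgC⟩
    obtain ⟨H₀, hH₀, hmax₀⟩ := Set.exists_max_image {Q : Subgroup G | Bad p Q}
      (fun Q => Nat.card Q) (Set.toFinite _) hex
    obtain ⟨c, -, hc⟩ := conj_into_relSylow (⊤ : Subgroup G) (S : Subgroup G) H₀ le_top
      S.isPGroup' (by rw [Subgroup.relIndex_top_right]; exact S.not_dvd_index) le_top hH₀.1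
    obtain ⟨H, hHdef⟩ : ∃ H : Subgroup G, H = rcg c H₀ := ⟨_, rfl⟩
    have hHS : H ≤ (S : Subgroup G) := by
      rw [hHdef]
      exact hc
    have hH : Bad p H := by
      rw [hHdef]
      exact bad_rcg hH₀ c
    have hmax : ∀ Q : Subgroup G, Bad p Q → Nat.card Q ≤ Nat.card H := by
      intro Q hQ
      rw [hHdef, card_rcg]
      exact hmax₀ Q hQ
    obtain ⟨hHp, g, hgN, hgcop, hgC⟩ := id hH
    obtain ⟨U, hU⟩ : ∃ U : Subgroup G, U = H ⊓ D := ⟨_, rfl⟩
    have hUH : U ≤ H := by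
      rw [hU]
      exact inf_le_left
    have hUD : U ≤ D := by
      rw [hU]
      exact inf_le_right
    have hSD : (S : Subgroup G) ≤ Subgroup.normalizer (D : Set G) := by
      rw [Subgroup.le_normalizer_iff]
      intro s hs x hx
      exact hDcl x hx s ((S : Subgroup G).mul_mem ((S : Subgroup G).mul_mem hs (hDS hx))
        ((S : Subgroup G).inv_mem hs))
    have hNU : Subgroup.normalizer (H : Set G) ≤ Subgroup.normalizer (U : Set G) := by
      rw [Subgroup.le_normalizer_iff]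
      intro y hy x hx
      rw [hU] at hx ⊢
      have h1 : y * x * y⁻¹ ∈ H := (Subgroup.mem_normalizer_iff.mp hy x).mp hx.1
      exact ⟨h1, hDcl x hx.2 y (hHS h1)⟩
    have hUp : IsPGroup p U := hHp.to_le hUH
    have hWN : chainStab H U ≤ Subgroup.normalizer (H : Set G) := fun x hx => hx.1
    have hNW : Subgroup.normalizer (H : Set G) ≤
        Subgroup.normalizer ((chainStab H U : Subgroup G) : Set G) := by
      rw [Subgroup.le_normalizer_iff]
      intro y hy x hx
      obtain ⟨hx1, hx2, hx3⟩ := hx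
      have hyU : y ∈ Subgroup.normalizer (U : Set G) := hNU hy
      refine ⟨Subgroup.mul_mem _ (Subgroup.mul_mem _ hy hx1) (Subgroup.inv_mem _ hy), ?_, ?_⟩
      · intro h hh
        have hh' : y⁻¹ * h * y ∈ H := (Subgroup.mem_normalizer_iff''.mp hy h).mp hh
        have hu := hx2 _ hh'
        have hyu := (Subgroup.mem_normalizer_iff.mp hyU _).mp hu
        have e : y * x * y⁻¹ * h * (y * x * y⁻¹)⁻¹ * h⁻¹ =
            y * (x * (y⁻¹ * h * y) * x⁻¹ * (y⁻¹ * h * y)⁻¹) * y⁻¹ := by group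
        rw [e]
        exact hyu
      · intro u hu
        have hu' : y⁻¹ * u * y ∈ U := (Subgroup.mem_normalizer_iff''.mp hyU u).mp hu
        have h1 := hx3 _ hu'
        have e1 : y * x * y⁻¹ * u = y * (x * (y⁻¹ * u * y)) * y⁻¹ := by group
        have e2 : u * (y * x * y⁻¹) = y * ((y⁻¹ * u * y) * x) * y⁻¹ := by group
        rw [e1, e2, h1]
    have hWc : ∀ w ∈ chainStab H U, (orderOf w).Coprime p →
        w ∈ Subgroup.centralizer (H : Set G) :=
      fun w hw hcop => mem_centralizer_of_chainStab H U hUp w hw hcop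
    have hHNH : H ≤ Subgroup.normalizer (H : Set G) := Subgroup.le_normalizer
    -- `U` is self-centralizing in `D`
    have hE : D ⊓ Subgroup.centralizer (U : Set G) ≤ U := by
      by_contra hEU
      have hES : D ⊓ Subgroup.centralizer (U : Set G) ≤ (S : Subgroup G) :=
        le_trans inf_le_left hDS
      have hHNE : H ≤ Subgroup.normalizer
          ((D ⊓ Subgroup.centralizer (U : Set G) : Subgroup G) : Set G) := by
        rw [Subgroup.le_normalizer_iff]
        intro h hh e he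
        refine Subgroup.mem_inf.mpr ⟨?_, ?_⟩
        · exact (Subgroup.mem_normalizer_iff.mp (hSD (hHS hh)) e).mp he.1
        · rw [Subgroup.mem_centralizer_iff]
          intro u hu
          have hu' : h⁻¹ * u * h ∈ U :=
            (Subgroup.mem_normalizer_iff''.mp (hNU (hHNH hh)) u).mp hu
          have h1 := (Subgroup.mem_centralizer_iff.mp he.2) _ hu'
          have e1 : u * (h * e * h⁻¹) = h * ((h⁻¹ * u * h) * e) * h⁻¹ := by group
          have e2 : h * e * h⁻¹ * u = h * (e * (h⁻¹ * u * h)) * h⁻¹ := by group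
          rw [e1, e2, h1]
      have hKp : IsPGroup p ↥(D ⊓ Subgroup.centralizer (U : Set G) ⊔ H) :=
        S.isPGroup'.to_le (sup_le hES hHS)
      have hne : H ≠ D ⊓ Subgroup.centralizer (U : Set G) ⊔ H := by
        intro heq
        apply hEU
        have hEH : D ⊓ Subgroup.centralizer (U : Set G) ≤ H := by
          rw [heq]
          exact le_sup_left
        exact le_trans (le_inf hEH inf_le_left) (le_of_eq hU.symm)
      obtain ⟨y, hyK, hyH, hy1, hy2⟩ := Cfsg.Agent.Helper16.exists_normalizing_not_mem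
        (D ⊓ Subgroup.centralizer (U : Set G) ⊔ H) H hKp le_sup_right hne
      have hyN : y ∈ Subgroup.normalizer (H : Set G) := by
        rw [Subgroup.mem_normalizer_iff]
        intro h
        constructor
        · exact hy1 h
        · intro hh
          have := hy2 _ hh
          have e : y⁻¹ * (y * h * y⁻¹) * y = h := by group
          rwa [e] at this
      obtain ⟨e, he, h, hh, rfl⟩ := Cfsg.Agent.Helper1.exists_mul_of_mem_sup hHNE hyK
      have heN : e ∈ Subgroup.normalizer (H : Set G) := by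
        have e1 : e = (e * h) * h⁻¹ := by group
        rw [e1]
        exact Subgroup.mul_mem _ hyN (Subgroup.inv_mem _ (hHNH hh))
      have heH : e ∉ H := fun heH => hyH (H.mul_mem heH hh)
      have heW : e ∈ chainStab H U := by
        refine ⟨heN, ?_, ?_⟩
        · intro h' hh'
          rw [hU]
          refine Subgroup.mem_inf.mpr ⟨?_, ?_⟩
          · have h1 : e * h' * e⁻¹ ∈ H := (Subgroup.mem_normalizer_iff.mp heN h').mp hh'
            exact H.mul_mem h1 (H.inv_mem hh')
          · have h1 : h' * e⁻¹ * h'⁻¹ ∈ D :=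
              (Subgroup.mem_normalizer_iff.mp (hSD (hHS hh')) e⁻¹).mp (D.inv_mem he.1)
            have e1 : e * h' * e⁻¹ * h'⁻¹ = e * (h' * e⁻¹ * h'⁻¹) := by group
            rw [e1]
            exact D.mul_mem he.1 h1
        · intro u hu
          exact ((Subgroup.mem_centralizer_iff.mp he.2) u hu).symm
      have hle := le_of_max_bad H hH hmax (chainStab H U) hWN hNW hWc (Subgroup.zpowers e)
        ((Subgroup.zpowers_le).mpr heW)
        (S.isPGroup'.to_le ((Subgroup.zpowers_le).mpr (hES he)))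
      exact heH (hle (Subgroup.mem_zpowers e))
    -- now `N(U)` has a normal `p`-complement, so `g` centralizes `H`
    have hFU : FrobCond p ↥(Subgroup.normalizer (U : Set G)) :=
      frobCond_of_npc (npc_of_hasNormalPComplement (hyp U hUD hE))
    have hgU : g ∈ Subgroup.normalizer (U : Set G) := hNU hgN
    have h1 := hFU (H.subgroupOf (Subgroup.normalizer (U : Set G))) hHp.comap_subtype
      ⟨g, hgU⟩ (Subgroup.le_normalizer_comap (Subgroup.normalizer (U : Set G)).subtype
        (Subgroup.mem_comap.mpr hgN)) (by rw [Subgroup.orderOf_mk]; exact hgcop)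
    apply hgC
    rw [Subgroup.mem_centralizer_iff]
    intro h hh
    have h2 := (Subgroup.mem_centralizer_iff.mp h1) ⟨h, hNU (hHNH hh)⟩
      (Subgroup.mem_subgroupOf.mpr hh)
    exact congrArg Subtype.val h2

end Cfsg.Agent.S3839
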