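import Mathlib
import Cfsg.Statements.S3857
import Cfsg.Agent.S0035
import Cfsg.Agent.S0039
import Cfsg.Agent.Lib.Helper1.FpfAction
import Cfsg.Agent.Lib.Helper1.SolvableBasic
import Cfsg.Agent.Lib.Helper1.QuotientCard
import Cfsg.Agent.Lib.Helper1.Complement

set_option autoImplicit false
open Cfsg
open scoped commutatorElement

namespace Cfsg.Agent.S3857

/-- all prime divisors of `n` lie in `A` -/
def PiNum (A : Set ℕ) (n : ℕ) : Prop := ∀ p : ℕ, p.Prime → p ∣ n → p ∈ A

theorem PiNum.of_dvd {A : Set ℕ} {m n : ℕ} (h : PiNum A n) (hd : m ∣ n) : PiNum A m :=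
  fun p hp hpm => h p hp (hpm.trans hd)

theorem PiNum.mul {A : Set ℕ} {m n : ℕ} (hm : PiNum A m) (hn : PiNum A n) : PiNum A (m * n) := by
  intro p hp hd
  rcases (Nat.Prime.dvd_mul hp).mp hd with h | h
  · exact hm p hp h
  · exact hn p hp h

theorem PiNum.one (A : Set ℕ) : PiNum A 1 := by
  intro p hp hd
  exact absurd (Nat.dvd_one.mp hd) hp.one_lt.ne'

theorem PiNum.prime_pow {A : Set ℕ} {p : ℕ} (hp : p.Prime) (hpA : p ∈ A) (k : ℕ) :
    PiNum A (p ^ k) := by
  intro q hq hd
  have := (Nat.prime_dvd_prime_iff_eq hq hp).mp (hq.dvd_of_dvd_pow hd)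
  rw [this]; exact hpA

theorem coprime_of_piNum {A : Set ℕ} {m n : ℕ} (hm : PiNum A m) (hn : PiNum Aᶜ n) :
    m.Coprime n :=
  Nat.coprime_of_dvd fun k hk h1 h2 => (hn k hk h2) (hm k hk h1)

/-- no element of order `a * b` with `a ∈ A`, `b ∉ A` primes -/
def Sep (A : Set ℕ) (X : Type*) [Group X] : Prop :=
  ∀ a ∈ A, ∀ b ∉ A, a.Prime → b.Prime → ∀ g : X, orderOf g ≠ a * b

theorem Sep.commute_false {A : Set ℕ} {X : Type*} [Group X] [Finite X] (hS : Sep A X) {x y : X}
    (hxy : Commute x y) (hx : x ≠ 1) (hy : y ≠ 1) (hxA : PiNum A (orderOf x))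
    (hyA : PiNum Aᶜ (orderOf y)) : False := by
  have hox : orderOf x ≠ 1 := fun h => hx (orderOf_eq_one_iff.mp h)
  have hoy : orderOf y ≠ 1 := fun h => hy (orderOf_eq_one_iff.mp h)
  obtain ⟨a, ha, hax⟩ := Nat.exists_prime_and_dvd hox
  obtain ⟨b, hb, hby⟩ := Nat.exists_prime_and_dvd hoy
  have haA : a ∈ A := hxA a ha hax
  have hbA : b ∉ A := hyA b hb hby
  have h1 : orderOf (x ^ (orderOf x / a)) = a :=
    orderOf_pow_orderOf_div (orderOf_pos x).ne' hax
  have h2 : orderOf (y ^ (orderOf y / b)) = b :=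
    orderOf_pow_orderOf_div (orderOf_pos y).ne' hby
  have hab : a.Coprime b := by
    rw [Nat.coprime_primes ha hb]; rintro rfl; exact hbA haA
  have hc : Commute (x ^ (orderOf x / a)) (y ^ (orderOf y / b)) := hxy.pow_pow _ _
  have h3 := hc.orderOf_mul_eq_mul_orderOf_of_coprime (by rw [h1, h2]; exact hab)
  rw [h1, h2] at h3
  exact hS a haA b hbA ha hb _ h3

theorem Sep.symm {A : Set ℕ} {X : Type*} [Group X] (hS : Sep A X) : Sep Aᶜ X := by
  intro a ha b hb hap hbp g hg
  have hbA : b ∈ A := by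
    by_contra h
    exact hb h
  exact hS b hbA a ha hbp hap g (by rw [hg, mul_comm])

theorem Sep.subgroup {A : Set ℕ} {X : Type*} [Group X] (hS : Sep A X) (K : Subgroup X) :
    Sep A K := by
  intro a ha b hb hap hbp g hg
  exact hS a ha b hb hap hbp (g : X) (by rw [Subgroup.orderOf_coe]; exact hg)

theorem Sep.quotient {A : Set ℕ} {X : Type*} [Group X] [Finite X] (hS : Sep A X)
    (N : Subgroup X) [N.Normal] : Sep A (X ⧸ N) := by
  intro a ha b hb hap hbp g hg
  induction g using QuotientGroup.induction_on with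
  | H x =>
    have hd : a * b ∣ orderOf x := by
      rw [← hg]
      apply orderOf_dvd_of_pow_eq_one
      rw [← QuotientGroup.mk_pow, pow_orderOf_eq_one]; rfl
    have := orderOf_pow_orderOf_div (orderOf_pos x).ne' hd
    exact hS a ha b hb hap hbp _ this

theorem piNum_card_sup {X : Type*} [Group X] [Finite X] {A : Set ℕ} (H N : Subgroup X) [H.Normal]
    (hH : PiNum A (Nat.card H)) (hN : PiNum A (Nat.card N)) :
    PiNum A (Nat.card (H ⊔ N : Subgroup X)) := by
  have h1 : Nat.card (H ⊔ N : Subgroup X) = Nat.card H * H.relIndex N := by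
    have := Subgroup.relIndex_mul_relIndex (H := ⊥) (K := H) (L := H ⊔ N) bot_le le_sup_left
    rw [Subgroup.relIndex_bot_left, Subgroup.relIndex_bot_left, Subgroup.relIndex_sup_left] at this
    exact this.symm
  rw [h1]
  exact hH.mul (hN.of_dvd (Subgroup.relIndex_dvd_card H N))

theorem exists_max_normal {X : Type*} [Group X] [Finite X] (A : Set ℕ) :
    ∃ H : Subgroup X, H.Normal ∧ PiNum A (Nat.card H) ∧
      ∀ N : Subgroup X, N.Normal → PiNum A (Nat.card N) → N ≤ H := by
  classical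
  have hS : ({N : Subgroup X | N.Normal ∧ PiNum A (Nat.card N)} : Set (Subgroup X)).Finite :=
    Set.toFinite _
  have hne : ({N : Subgroup X | N.Normal ∧ PiNum A (Nat.card N)} : Set (Subgroup X)).Nonempty :=
    ⟨⊥, inferInstance, by rw [Subgroup.card_bot]; exact PiNum.one A⟩
  obtain ⟨H, hH, hmax⟩ := Set.exists_max_image _ (fun N : Subgroup X => Nat.card N) hS hne
  refine ⟨H, hH.1, hH.2, fun N hNn hNA => ?_⟩
  have hHn : H.Normal := hH.1
  have h1 : PiNum A (Nat.card (H ⊔ N : Subgroup X)) := piNum_card_sup H N hH.2 hNA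
  have h2 := hmax (H ⊔ N) ⟨inferInstance, h1⟩
  have h3 : H = H ⊔ N := Subgroup.eq_of_le_of_card_ge le_sup_left h2
  rw [h3]; exact le_sup_right

/-- **Lemma F**: a nontrivial proper normal Hall subgroup on which coprime elements act
fixed-point-freely is a Frobenius kernel. -/
theorem frob_of_normal {X : Type*} [Group X] [Finite X] (N : Subgroup X) [hNn : N.Normal]
    (hN1 : N ≠ ⊥) (hN2 : N ≠ ⊤) (hcop : (Nat.card N).Coprime N.index)
    (hfpf : ∀ n ∈ N, ∀ x : X, n ≠ 1 → x ≠ 1 → orderOf x ∣ N.index → Commute n x → False) :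
    ∃ C : Subgroup X, Cfsg.IsFrobeniusComplement C ∧ Cfsg.frobeniusKernel C = (N : Set X) ∧
      Subgroup.IsComplement' N C := by
  obtain ⟨C, hC⟩ := Subgroup.exists_right_complement'_of_coprime hcop
  have hCne : C ≠ ⊥ := by
    rintro rfl
    exact hN2 (Subgroup.isComplement'_bot_right.mp hC)
  have hcardC : N.index = Nat.card C := hC.symm.index_eq_card
  have hfrob : Cfsg.IsFrobeniusComplement C := by
    rw [Cfsg.Agent.S0039.result N C hC hN1 hCne]
    intro h hh hh1
    rw [eq_bot_iff]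
    intro k hk
    obtain ⟨hkN, hkC⟩ := Subgroup.mem_inf.mp hk
    rw [Subgroup.mem_bot]
    by_contra hk1
    refine hfpf k hkN h hk1 hh1 ?_ ?_
    · rw [hcardC]
      have := orderOf_dvd_natCard (⟨h, hh⟩ : C)
      rwa [Subgroup.orderOf_mk] at this
    · exact (Subgroup.mem_centralizer_iff.mp hkC h rfl).symm
  refine ⟨C, hfrob, ?_, hC⟩
  obtain ⟨N', hN'k, hN'n, hN'c⟩ := Cfsg.Agent.S0035.result C hfrob
  rw [← hN'k]
  have hle : N ≤ N' := by
    intro n hn
    have : n ∈ Cfsg.frobeniusKernel C := by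
      by_cases hn1 : n = 1
      · exact Or.inl hn1
      · right
        intro g hg
        rw [Cfsg.Agent.Helper1.mem_conj_smul_iff] at hg
        have h1 : g⁻¹ * n * g ∈ N := by
          have := hNn.conj_mem n hn g⁻¹
          simpa using this
        have h2 : g⁻¹ * n * g ∈ N ⊓ C := Subgroup.mem_inf.mpr ⟨h1, hg⟩
        rw [disjoint_iff.mp (Subgroup.IsComplement'.disjoint hC), Subgroup.mem_bot] at h2
        apply hn1
        calc n = g * (g⁻¹ * n * g) * g⁻¹ := by group
          _ = 1 := by rw [h2]; group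
    rw [← hN'k] at this; exact this
  have hcard : Nat.card N' ≤ Nat.card N := by
    have h1 := hC.card_mul_card
    have h2 := hN'c.card_mul_card
    have hCpos : 0 < Nat.card C := Nat.card_pos
    have : Nat.card N' * Nat.card C = Nat.card N * Nat.card C := by rw [h1, h2]
    exact (Nat.eq_of_mul_eq_mul_right hCpos this).le
  have := Subgroup.eq_of_le_of_card_ge hle hcard
  rw [this]

theorem orderOf_conj' {X : Type*} [Group X] (g z : X) : orderOf (g * z * g⁻¹) = orderOf z := by
  have := orderOf_injective (MulAut.conj g).toMonoidHom (MulAut.conj g).injective z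
  simpa using this

theorem normal_of_commutator_le {X : Type*} [Group X] {M : Subgroup X} (h : commutator X ≤ M) :
    M.Normal := by
  constructor
  intro m hm g
  have h1 : g * m * g⁻¹ = ⁅g, m⁆ * m := by simp [commutatorElement_def]
  rw [h1]
  refine M.mul_mem (h ?_) hm
  rw [commutator_def]
  exact Subgroup.commutator_mem_commutator (Subgroup.mem_top g) (Subgroup.mem_top m)

/-- the second layer: `K = O_{A'}(X)` with "unique subgroups of prime order" forces `X/K` to be
an `A`-group and `X` to be Frobenius with kernel `K`. -/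
theorem second_layer {X : Type*} [Group X] [Finite X] [Group.IsSolvable X] (A : Set ℕ)
    (hS : Sep A X) (K : Subgroup X) [hKn : K.Normal] (hK1 : K ≠ ⊥) (hK2 : K ≠ ⊤)
    (hKA : PiNum Aᶜ (Nat.card K))
    (hKmax : ∀ N : Subgroup X, N.Normal → PiNum Aᶜ (Nat.card N) → N ≤ K)
    (hP2 : ∀ z w : X, z ∈ K → w ∈ K → ∀ p : ℕ, p.Prime → orderOf z = p → orderOf w = p →
      Commute z w → w ∈ Subgroup.zpowers z) :
    ∃ C : Subgroup X, Cfsg.IsFrobeniusComplement C ∧ Cfsg.frobeniusKernel C = (K : Set X) := by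
  classical
  have : Nontrivial K := (Subgroup.nontrivial_iff_ne_bot K).mpr hK1
  obtain ⟨Z, hZchar, hZne, hZc⟩ := Cfsg.Agent.Helper1.exists_normal_abelian_of_solvable K
  have := hZchar
  have hZxn : (Z.map K.subtype).Normal := inferInstance
  have hZxK : Z.map K.subtype ≤ K := Subgroup.map_subtype_le Z
  have hZcard : Nat.card (Z.map K.subtype) = Nat.card Z :=
    Subgroup.card_map_of_injective K.subtype_injective
  have hZcard1 : Nat.card (Z.map K.subtype) ≠ 1 := by
    rw [hZcard]; intro h; exact hZne (Subgroup.card_eq_one.mp h)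
  obtain ⟨p, hp, hpd⟩ := Nat.exists_prime_and_dvd hZcard1
  have : Fact p.Prime := ⟨hp⟩
  obtain ⟨zz, hzz⟩ := exists_prime_orderOf_dvd_card' p hpd
  have hzo : orderOf (zz : X) = p := by rw [Subgroup.orderOf_coe]; exact hzz
  have hzZ : (zz : X) ∈ Z.map K.subtype := zz.2
  have hz1 : (zz : X) ≠ 1 := by
    intro h
    rw [h, orderOf_one] at hzo
    exact hp.one_lt.ne hzo
  have hcomm : ∀ u v : X, u ∈ Z.map K.subtype → v ∈ Z.map K.subtype → Commute u v := by
    rintro _ _ ⟨u, hu, rfl⟩ ⟨v, hv, rfl⟩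
    have h1 := hZc.is_comm.comm (⟨u, hu⟩ : Z) ⟨v, hv⟩
    have h2 : u * v = v * u := congrArg Subtype.val h1
    show K.subtype u * K.subtype v = K.subtype v * K.subtype u
    rw [← map_mul, ← map_mul, h2]
  have hpA : p ∉ A := hKA p hp (hpd.trans (Subgroup.card_dvd_of_le hZxK))
  have hN1 : ∀ g : X, g * (zz : X) * g⁻¹ ∈ Subgroup.zpowers (zz : X) := by
    intro g
    have h1 : g * (zz : X) * g⁻¹ ∈ Z.map K.subtype := hZxn.conj_mem _ hzZ g
    exact hP2 _ _ (hZxK hzZ) (hZxK h1) p hp hzo (by rw [orderOf_conj', hzo]) (hcomm _ _ hzZ h1)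
  have hZpn : (Subgroup.zpowers (zz : X)).Normal := by
    constructor
    intro n hn g
    obtain ⟨k, rfl⟩ := Subgroup.mem_zpowers_iff.mp hn
    rw [← conj_zpow]
    exact Subgroup.zpow_mem _ (hN1 g) k
  obtain ⟨f, hf⟩ : ∃ f : X →* (ZMod (Nat.card (Subgroup.zpowers (zz : X))))ˣ,
      ∀ g, f g = 1 → g * (zz : X) * g⁻¹ = zz := by
    refine ⟨(IsCyclic.mulAutMulEquiv (Subgroup.zpowers (zz : X))).toMonoidHom.comp
      MulAut.conjNormal, ?_⟩
    intro g hg
    have h1 : (MulAut.conjNormal g : MulAut (Subgroup.zpowers (zz : X))) = 1 := by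
      apply (IsCyclic.mulAutMulEquiv (Subgroup.zpowers (zz : X))).injective
      rw [map_one]; exact hg
    have h2 := congrArg (fun φ : MulAut (Subgroup.zpowers (zz : X)) =>
      ((φ ⟨(zz : X), Subgroup.mem_zpowers _⟩ : Subgroup.zpowers (zz : X)) : X)) h1
    simpa using h2
  have hDA : PiNum Aᶜ (Nat.card f.ker) := by
    intro a ha had
    rw [Set.mem_compl_iff]
    intro haA
    have : Fact a.Prime := ⟨ha⟩
    obtain ⟨d, hd⟩ := exists_prime_orderOf_dvd_card' a had
    have hdz : (d : X) * (zz : X) * (d : X)⁻¹ = zz := hf d (MonoidHom.mem_ker.mp d.2)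
    have hcd : Commute (d : X) (zz : X) := by
      show (d : X) * (zz : X) = (zz : X) * (d : X)
      calc (d : X) * (zz : X) = ((d : X) * (zz : X) * (d : X)⁻¹) * d := by group
        _ = (zz : X) * (d : X) := by rw [hdz]
    have hdo : orderOf (d : X) = a := by rw [Subgroup.orderOf_coe]; exact hd
    have hd1 : (d : X) ≠ 1 := by
      intro h
      rw [h, orderOf_one] at hdo
      exact ha.one_lt.ne hdo
    refine hS.commute_false hcd hd1 hz1 ?_ ?_
    · rw [hdo]; simpa using PiNum.prime_pow ha haA 1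
    · rw [hzo]; simpa using PiNum.prime_pow (A := Aᶜ) hp hpA 1
  have hDK : f.ker ≤ K := hKmax f.ker inferInstance hDA
  have hcomK : commutator X ≤ K := (Abelianization.commutator_subset_ker f).trans hDK
  have hidx : PiNum A K.index := by
    intro b hb hbd
    by_contra hbA
    have : Fact b.Prime := ⟨hb⟩
    obtain ⟨S⟩ : Nonempty (Sylow b X) := inferInstance
    have hMn : (K ⊔ (S : Subgroup X)).Normal := normal_of_commutator_le (hcomK.trans le_sup_left)
    have hSA : PiNum Aᶜ (Nat.card (S : Subgroup X)) := by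
      obtain ⟨k, hk⟩ := IsPGroup.iff_card.mp S.2
      rw [hk]; exact PiNum.prime_pow hb hbA k
    have hMA := piNum_card_sup K (S : Subgroup X) hKA hSA
    have hSK : (S : Subgroup X) ≤ K := le_sup_right.trans (hKmax _ hMn hMA)
    have h1 : K.index ∣ (S : Subgroup X).index := Subgroup.index_dvd_of_le hSK
    exact S.not_dvd_index (hbd.trans h1)
  have hcop : (Nat.card K).Coprime K.index := (coprime_of_piNum hidx hKA).symm
  obtain ⟨C, hC1, hC2, -⟩ := frob_of_normal K hK1 hK2 hcop (by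
    intro n hn x hn1 hx1 hxd hnx
    refine hS.commute_false hnx.symm hx1 hn1 (hidx.of_dvd hxd) (hKA.of_dvd ?_)
    have := orderOf_dvd_natCard (⟨n, hn⟩ : K)
    rwa [Subgroup.orderOf_mk] at this)
  exact ⟨C, hC1, hC2⟩

theorem main_asym {G : Type*} [Group G] [Finite G] [hsol : Group.IsSolvable G] (A : Set ℕ)
    (hS : Sep A G)
    (hA : ∃ N : Subgroup G, N.Normal ∧ N ≠ ⊥ ∧ PiNum A (Nat.card N))
    (hB : ∃ b ∉ A, b.Prime ∧ b ∣ Nat.card G) :
    (∃ C : Subgroup G, Cfsg.IsFrobeniusComplement C) ∨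
    (∃ (H K : Subgroup G) (_ : H.Normal), K.Normal ∧ H < K ∧
      (∃ C : Subgroup ↥K, Cfsg.IsFrobeniusComplement C ∧ Cfsg.frobeniusKernel C = (H.subgroupOf K : Set ↥K)) ∧
      (∃ C : Subgroup (G ⧸ H), Cfsg.IsFrobeniusComplement C ∧ Cfsg.frobeniusKernel C = (K.map (QuotientGroup.mk' H) : Set (G ⧸ H)))) := by
  classical
  obtain ⟨H, hHn, hHA, hHmax⟩ := exists_max_normal (X := G) A
  have := hHn
  obtain ⟨N0, hN0n, hN0ne, hN0A⟩ := hA
  have hH1 : H ≠ ⊥ := by
    intro h
    apply hN0ne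
    have := hHmax N0 hN0n hN0A
    rw [h] at this
    exact le_bot_iff.mp this
  obtain ⟨b, hbA, hbp, hbd⟩ := hB
  have hH2 : H ≠ ⊤ := by
    intro h
    apply hbA
    apply hHA b hbp
    rw [h, Subgroup.card_top]; exact hbd
  by_cases hidx : PiNum Aᶜ H.index
  · left
    have hcop : (Nat.card H).Coprime H.index := coprime_of_piNum hHA hidx
    obtain ⟨C, hC1, -, -⟩ := frob_of_normal H hH1 hH2 hcop (by
      intro n hn x hn1 hx1 hxd hnx
      refine hS.commute_false hnx hn1 hx1 (hHA.of_dvd ?_) (hidx.of_dvd hxd)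
      have := orderOf_dvd_natCard (⟨n, hn⟩ : H)
      rwa [Subgroup.orderOf_mk] at this)
    exact ⟨C, hC1⟩
  · right
    have hS' : Sep A (G ⧸ H) := hS.quotient H
    have hP1 : ∀ M : Subgroup (G ⧸ H), M.Normal → PiNum A (Nat.card M) → M = ⊥ := by
      intro M hMn hMA
      have h1 : (M.comap (QuotientGroup.mk' H)).Normal := hMn.comap _
      have h2 : PiNum A (Nat.card (M.comap (QuotientGroup.mk' H))) := by
        rw [Cfsg.Agent.Helper1.card_comap_mk']
        exact hHA.mul hMA
      have h3 := hHmax _ h1 h2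
      rw [eq_bot_iff]
      intro x hx
      induction x using QuotientGroup.induction_on with
      | H g =>
        have h4 : g ∈ M.comap (QuotientGroup.mk' H) := hx
        rw [Subgroup.mem_bot]
        exact (QuotientGroup.eq_one_iff g).mpr (h3 h4)
    obtain ⟨Kb, hKbn, hKbA, hKbmax⟩ := exists_max_normal (X := G ⧸ H) Aᶜ
    have := hKbn
    have hGHnt : Nontrivial (G ⧸ H) := by
      rw [← Finite.one_lt_card_iff_nontrivial]
      have h1 : H.index ≠ 1 := fun h => hH2 (Subgroup.index_eq_one.mp h)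
      have h2 : Nat.card (G ⧸ H) = H.index := rfl
      have h3 : 0 < Nat.card (G ⧸ H) := Nat.card_pos
      omega
    have hKb1 : Kb ≠ ⊥ := by
      obtain ⟨p, hp, P, hPn, hPne, hPp⟩ :=
        Cfsg.Agent.Helper1.exists_normal_pSubgroup_of_solvable (G ⧸ H)
      have : Fact p.Prime := ⟨hp⟩
      obtain ⟨k, hk⟩ := IsPGroup.iff_card.mp hPp
      have hpA : p ∉ A := by
        intro hpA
        apply hPne
        apply hP1 P hPn
        rw [hk]; exact PiNum.prime_pow hp hpA k
      have hPK : P ≤ Kb := hKbmax P hPn (by rw [hk]; exact PiNum.prime_pow hp hpA k)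
      intro h
      rw [h] at hPK
      exact hPne (le_bot_iff.mp hPK)
    have hKb2 : Kb ≠ ⊤ := by
      intro h
      apply hidx
      rw [h, Subgroup.card_top] at hKbA
      exact hKbA
    obtain ⟨K, hKeq⟩ : ∃ K : Subgroup G, K = Kb.comap (QuotientGroup.mk' H) := ⟨_, rfl⟩
    have hKn : K.Normal := by rw [hKeq]; exact hKbn.comap _
    have hHK : H ≤ K := by
      rw [hKeq]
      intro h hh
      rw [Subgroup.mem_comap]
      have : (QuotientGroup.mk' H) h = 1 := (QuotientGroup.eq_one_iff h).mpr hh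
      rw [this]; exact one_mem _
    have hKmap : K.map (QuotientGroup.mk' H) = Kb := by
      rw [hKeq]
      exact Subgroup.map_comap_eq_self_of_surjective (QuotientGroup.mk'_surjective H) Kb
    have hHltK : H < K := by
      refine lt_of_le_of_ne hHK ?_
      intro h
      apply hKb1
      rw [← hKmap, ← h]
      exact QuotientGroup.map_mk'_self H
    have hNn : (H.subgroupOf K).Normal := hHn.subgroupOf K
    have hN1 : H.subgroupOf K ≠ ⊥ := by
      intro h
      rw [Subgroup.subgroupOf_eq_bot, disjoint_iff, inf_eq_left.mpr hHK] at h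
      exact hH1 h
    have hN2 : H.subgroupOf K ≠ ⊤ := by
      intro h
      rw [Subgroup.subgroupOf_eq_top] at h
      exact absurd hHltK (not_lt_of_ge h)
    have hNidx : (H.subgroupOf K).index = Nat.card Kb := by
      have h1 : (H.subgroupOf K).index = H.relIndex K := rfl
      rw [h1, ← hKmap]
      have h2 := Subgroup.relIndex_ker (K := K) (QuotientGroup.mk' H)
      rwa [QuotientGroup.ker_mk'] at h2
    have hNcard : Nat.card (H.subgroupOf K) = Nat.card H :=
      Nat.card_congr (Subgroup.subgroupOfEquivOfLe hHK).toEquiv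
    have hcop : (Nat.card (H.subgroupOf K)).Coprime (H.subgroupOf K).index := by
      rw [hNidx, hNcard]; exact coprime_of_piNum hHA hKbA
    obtain ⟨C, hC1, hC2, hC3⟩ := frob_of_normal (H.subgroupOf K) hN1 hN2 hcop (by
      intro n hn x hn1 hx1 hxd hnx
      refine (hS.subgroup K).commute_false hnx hn1 hx1 (hHA.of_dvd ?_) (hKbA.of_dvd ?_)
      · rw [← hNcard]
        have := orderOf_dvd_natCard (⟨n, hn⟩ : H.subgroupOf K)
        rwa [Subgroup.orderOf_mk] at this
      · rw [← hNidx]; exact hxd)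
    have hCne : C ≠ ⊥ := hC1.1
    have hfpfC := (Cfsg.Agent.S0039.result (H.subgroupOf K) C hC3 hN1 hCne).mp hC1
    -- the isomorphism `C ≃ Kb`
    obtain ⟨ψ, hψ⟩ : ∃ ψ : ↥C →* G ⧸ H, ∀ c : ↥C, ψ c = QuotientGroup.mk' H ((c : ↥K) : G) :=
      ⟨((QuotientGroup.mk' H).comp K.subtype).comp C.subtype, fun c => rfl⟩
    have hψinj : Function.Injective ψ := by
      rw [injective_iff_map_eq_one]
      intro c hc
      rw [hψ] at hc
      have h1 : ((c : ↥K) : G) ∈ H := (QuotientGroup.eq_one_iff _).mp hc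
      have h2 : (c : ↥K) ∈ H.subgroupOf K ⊓ C :=
        Subgroup.mem_inf.mpr ⟨Subgroup.mem_subgroupOf.mpr h1, c.2⟩
      rw [disjoint_iff.mp (Subgroup.IsComplement'.disjoint hC3), Subgroup.mem_bot] at h2
      exact Subtype.ext h2
    have hψsurj : ∀ y ∈ Kb, ∃ c : ↥C, ψ c = y := by
      intro y hy
      obtain ⟨g, rfl⟩ := QuotientGroup.mk'_surjective H y
      have hgK : g ∈ K := by rw [hKeq]; exact hy
      obtain ⟨n, hn, c, hc, hnc⟩ := Cfsg.Agent.Helper1.IsComplement'.exists_mul hC3 (⟨g, hgK⟩ : ↥K)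
      refine ⟨⟨c, hc⟩, ?_⟩
      rw [hψ]
      have h1 : g = (n : G) * (c : G) := by
        have := congrArg Subtype.val hnc
        simpa using this
      have h2 : (QuotientGroup.mk' H) (n : G) = 1 :=
        (QuotientGroup.eq_one_iff _).mpr (Subgroup.mem_subgroupOf.mp hn)
      rw [h1, map_mul, h2, one_mul]
    have hP2 : ∀ z w : G ⧸ H, z ∈ Kb → w ∈ Kb → ∀ p : ℕ, p.Prime → orderOf z = p →
        orderOf w = p → Commute z w → w ∈ Subgroup.zpowers z := by
      intro z w hz hw p hp hzo hwo hzw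
      obtain ⟨cz, rfl⟩ := hψsurj z hz
      obtain ⟨cw, rfl⟩ := hψsurj w hw
      have : Fact p.Prime := ⟨hp⟩
      have hoz : orderOf (cz : ↥K) = p := by
        rw [Subgroup.orderOf_coe, ← orderOf_injective ψ hψinj cz]; exact hzo
      have how : orderOf (cw : ↥K) = p := by
        rw [Subgroup.orderOf_coe, ← orderOf_injective ψ hψinj cw]; exact hwo
      have hcomm : (cz : ↥K) * (cw : ↥K) = (cw : ↥K) * (cz : ↥K) := by
        have h1 : ψ (cz * cw) = ψ (cw * cz) := by
          rw [map_mul, map_mul]; exact hzw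
        have h2 := hψinj h1
        exact congrArg Subtype.val h2
      have hmem := Cfsg.Agent.Helper1.mem_zpowers_of_fpf_of_commute (G := ↥K)
        (K := H.subgroupOf K) (H := C)
        (by rw [Subgroup.normalizer_eq_top]; exact le_top) hN1 hfpfC cz.2 cw.2 hoz how hcomm
      obtain ⟨k, hk⟩ := Subgroup.mem_zpowers_iff.mp hmem
      rw [Subgroup.mem_zpowers_iff]
      refine ⟨k, ?_⟩
      have h3 : cz ^ k = cw := by
        apply Subtype.ext
        rw [Subgroup.coe_zpow]; exact hk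
      rw [← map_zpow, h3]
    obtain ⟨Cb, hCb1, hCb2⟩ := second_layer (X := G ⧸ H) A hS' Kb hKb1 hKb2 hKbA hKbmax hP2
    exact ⟨H, K, hHn, hKn, hHltK, ⟨C, hC1, hC2⟩, ⟨Cb, hCb1, by rw [hKmap]; exact hCb2⟩⟩

/-- A finite solvable group whose prime graph (prime divisors of the order, two distinct primes joined when there is an element of order their product) is disconnected is a Frobenius group or a 2-Frobenius group (it has normal subgroups H < K with K a Frobenius group with kernel H and G/H a Frobenius group with kernel K/H). -/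
theorem result {G : Type*} [Group G] [Finite G] (hsol : Group.IsSolvable G)
    (hdisc : (∃ A : Set ℕ, (∃ a ∈ A, a.Prime ∧ a ∣ Nat.card G) ∧ (∃ b ∉ A, b.Prime ∧ b ∣ Nat.card G) ∧
      ∀ a ∈ A, ∀ b ∉ A, a.Prime → b.Prime → a ∣ Nat.card G → b ∣ Nat.card G → ¬ ∃ g : G, orderOf g = a * b)) :
    (∃ C : Subgroup G, Cfsg.IsFrobeniusComplement C) ∨
    (∃ (H K : Subgroup G) (_ : H.Normal), K.Normal ∧ H < K ∧
      (∃ C : Subgroup ↥K, Cfsg.IsFrobeniusComplement C ∧ Cfsg.frobeniusKernel C = (H.subgroupOf K : Set ↥K)) ∧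
      (∃ C : Subgroup (G ⧸ H), Cfsg.IsFrobeniusComplement C ∧ Cfsg.frobeniusKernel C = (K.map (QuotientGroup.mk' H) : Set (G ⧸ H)))) := by
  obtain ⟨A, ⟨a, haA, hap, had⟩, ⟨b, hbA, hbp, hbd⟩, hsep⟩ := hdisc
  have := hsol
  have hS : Sep A G := by
    intro a' ha' b' hb' hap' hbp' g hg
    refine hsep a' ha' b' hb' hap' hbp' ?_ ?_ ⟨g, hg⟩
    · exact (Dvd.intro _ hg.symm).trans (orderOf_dvd_natCard g)
    · exact (Dvd.intro_left _ hg.symm).trans (orderOf_dvd_natCard g)
  have hnt : Nontrivial G := by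
    rw [← Finite.one_lt_card_iff_nontrivial]
    exact lt_of_lt_of_le hap.one_lt (Nat.le_of_dvd Nat.card_pos had)
  obtain ⟨p, hp, P, hPn, hPne, hPp⟩ := Cfsg.Agent.Helper1.exists_normal_pSubgroup_of_solvable G
  have : Fact p.Prime := ⟨hp⟩
  obtain ⟨k, hk⟩ := IsPGroup.iff_card.mp hPp
  by_cases hpA : p ∈ A
  · exact main_asym A hS ⟨P, hPn, hPne, by rw [hk]; exact PiNum.prime_pow hp hpA k⟩
      ⟨b, hbA, hbp, hbd⟩
  · exact main_asym Aᶜ hS.symm ⟨P, hPn, hPne, by rw [hk]; exact PiNum.prime_pow hp hpA k⟩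
      ⟨a, fun h => h haA, hap, had⟩

end Cfsg.Agent.S3857
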