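import Mathlib
import Cfsg.Statements.S3858
import Cfsg.Agent.Lib.Helper19.AlmostSimple
import Cfsg.Agent.Lib.Helper19.SylowConj

set_option autoImplicit false
open Cfsg

namespace Cfsg.Agent.S3858

open Cfsg.Agent.Helper19

/-- Let G be a finite group with a normal non-abelian simple subgroup T whose centralizer is trivial (G almost simple with socle T), r a prime and R a Sylow r-subgroup of G meeting T nontrivially. Then R lies in exactly one maximal subgroup of G if and only if G has exactly one conjugacy class of maximal subgroups whose index is prime to r. -/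
theorem result {G : Type*} [Group G] [Finite G] (T : Subgroup G) [T.Normal] (hT : IsSimpleGroup T) (hna : ¬ IsMulCommutative T)
    (hC : Subgroup.centralizer (T : Set G) = ⊥) {r : ℕ} [Fact r.Prime] (R : Sylow r G) (hR0 : (R : Subgroup G) ⊓ T ≠ ⊥) :
    (∃! M : Subgroup G, IsCoatom M ∧ (R : Subgroup G) ≤ M) ↔
      ((∃ M : Subgroup G, IsCoatom M ∧ ¬ r ∣ M.index) ∧
        ∀ M₁ M₂ : Subgroup G, IsCoatom M₁ → ¬ r ∣ M₁.index → IsCoatom M₂ → ¬ r ∣ M₂.index → ∃ g : G, M₂ = M₁.map (MulAut.conj g).toMonoidHom) := by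
  -- a subgroup containing R has index prime to r
  have hidx : ∀ K : Subgroup G, (R : Subgroup G) ≤ K → ¬ r ∣ K.index := by
    intro K hK h
    exact R.not_dvd_index (dvd_trans h (Subgroup.index_dvd_of_le hK))
  constructor
  · rintro ⟨M, ⟨hMco, hRM⟩, hMuniq⟩
    refine ⟨⟨M, hMco, hidx M hRM⟩, ?_⟩
    -- every maximal subgroup of r'-index is a conjugate of M
    have key : ∀ M₁ : Subgroup G, IsCoatom M₁ → ¬ r ∣ M₁.index →
        ∃ g : G, M₁ = M.map (MulAut.conj g).toMonoidHom := by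
      intro M₁ hco hnd
      obtain ⟨g, hg⟩ := exists_conj_le_of_not_dvd_index R M₁ hnd
      -- R ≤ g⁻¹ M₁ g
      have hle : (R : Subgroup G) ≤ M₁.map (MulAut.conj g⁻¹).toMonoidHom := by
        have := map_conj_mono g⁻¹ hg
        rwa [map_conj_inv_map_conj] at this
      have := hMuniq _ ⟨isCoatom_map_conj M₁ g⁻¹ hco, hle⟩
      refine ⟨g, ?_⟩
      rw [← this, map_conj_map_conj_inv]
    intro M₁ M₂ h1 h1' h2 h2'
    obtain ⟨g₁, rfl⟩ := key M₁ h1 h1'
    obtain ⟨g₂, rfl⟩ := key M₂ h2 h2'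
    refine ⟨g₂ * g₁⁻¹, ?_⟩
    rw [← map_conj_mul, inv_mul_cancel_right]
  · rintro ⟨⟨M₀, hM₀co, hM₀idx⟩, hconj⟩
    set H := Subgroup.normalizer (((R : Subgroup G) ⊓ T : Subgroup G) : Set G) with hH
    have hHne : H ≠ ⊤ := normalizer_inf_ne_top T hT hna R hR0
    have hNH : Subgroup.normalizer ((R : Subgroup G) : Set G) ≤ H :=
      le_normalizer_inf_normal (R : Subgroup G) T
    have hRH : (R : Subgroup G) ≤ H := le_trans Subgroup.le_normalizer hNH
    obtain ⟨MH, hMHco, hHMH⟩ := exists_coatom_ge H hHne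
    have hRMH : (R : Subgroup G) ≤ MH := le_trans hRH hHMH
    refine ⟨MH, ⟨hMHco, hRMH⟩, ?_⟩
    rintro M ⟨hMco, hRM⟩
    obtain ⟨g, rfl⟩ := hconj MH M hMHco (hidx MH hRMH) hMco (hidx M hRM)
    -- g⁻¹ • R ≤ MH
    have hle : ((g⁻¹ • R : Sylow r G) : Subgroup G) ≤ MH := by
      rw [sylow_smul_coe]
      have := map_conj_mono g⁻¹ hRM
      rwa [map_conj_inv_map_conj] at this
    obtain ⟨m, hm, hmeq⟩ := exists_mem_conj_eq_of_le (g⁻¹ • R) R MH hle hRMH
    rw [sylow_smul_coe, ← map_conj_mul] at hmeq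
    have hn : m * g⁻¹ ∈ Subgroup.normalizer ((R : Subgroup G) : Set G) :=
      (mem_normalizer_iff_map_conj _ _).mpr hmeq
    have hmg : m * g⁻¹ ∈ MH := hHMH (hNH hn)
    have hg : g ∈ MH := by
      have h1 : g⁻¹ ∈ MH := by
        have := MH.mul_mem (MH.inv_mem hm) hmg
        simpa using this
      simpa using MH.inv_mem h1
    exact map_conj_eq_self_of_mem MH g hg

end Cfsg.Agent.S3858
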