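import Mathlib
import Cfsg.Statements.S3859
import Cfsg.Agent.Lib.Helper19.AlmostSimple

set_option autoImplicit false
open Cfsg

namespace Cfsg.Agent.S3859

open Cfsg.Agent.Helper19

/-- Let G be a finite group with a normal non-abelian simple subgroup T whose centralizer is trivial (G almost simple with socle T), r a prime and R a Sylow r-subgroup of G meeting T nontrivially. If R lies in exactly one maximal subgroup of G, then G/T is an r-group. -/
theorem result {G : Type*} [Group G] [Finite G] (T : Subgroup G) [T.Normal] (hT : IsSimpleGroup T) (hna : ¬ IsMulCommutative T)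
    (hC : Subgroup.centralizer (T : Set G) = ⊥) {r : ℕ} [Fact r.Prime] (R : Sylow r G) (hR0 : (R : Subgroup G) ⊓ T ≠ ⊥)
    (huniq : ∃! M : Subgroup G, IsCoatom M ∧ (R : Subgroup G) ≤ M) : IsPGroup r (G ⧸ T) := by
  obtain ⟨M, ⟨hMco, hRM⟩, hMuniq⟩ := huniq
  set H := Subgroup.normalizer (((R : Subgroup G) ⊓ T : Subgroup G) : Set G) with hH
  have hHne : H ≠ ⊤ := normalizer_inf_ne_top T hT hna R hR0
  have hRH : (R : Subgroup G) ≤ H :=
    le_trans Subgroup.le_normalizer (le_normalizer_inf_normal (R : Subgroup G) T)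
  have hHT : H ⊔ T = ⊤ := normalizer_inf_sup_eq_top R T
  -- H ≤ M
  have hHM : H ≤ M := by
    obtain ⟨M', hM'co, hHM'⟩ := exists_coatom_ge H hHne
    have : M' = M := hMuniq M' ⟨hM'co, le_trans hRH hHM'⟩
    rw [← this]; exact hHM'
  -- T is not contained in M
  have hTM : ¬ T ≤ M := by
    intro hle
    have : H ⊔ T ≤ M := sup_le hHM hle
    rw [hHT] at this
    exact hMco.1 (top_le_iff.mp this)
  -- R ⊔ T = ⊤
  have hRT : (R : Subgroup G) ⊔ T = ⊤ := by
    by_contra hne
    obtain ⟨M', hM'co, hle⟩ := exists_coatom_ge _ hne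
    have : M' = M := hMuniq M' ⟨hM'co, le_trans le_sup_left hle⟩
    rw [this] at hle
    exact hTM (le_trans le_sup_right hle)
  -- surjection R → G ⧸ T
  let φ : (R : Subgroup G) →* G ⧸ T := (QuotientGroup.mk' T).comp (R : Subgroup G).subtype
  have hsurj : Function.Surjective φ := by
    intro q
    obtain ⟨g, rfl⟩ := QuotientGroup.mk_surjective q
    have hg : g ∈ (R : Subgroup G) ⊔ T := by rw [hRT]; trivial
    rw [Subgroup.mem_sup_of_normal_right] at hg
    obtain ⟨y, hy, z, hz, rfl⟩ := hg
    refine ⟨⟨y, hy⟩, ?_⟩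
    simp only [φ, MonoidHom.comp_apply, Subgroup.subtype_apply, QuotientGroup.mk'_apply]
    rw [QuotientGroup.eq]
    simpa using hz
  exact R.2.of_surjective φ hsurj

end Cfsg.Agent.S3859
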