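import Mathlib
import Cfsg.Statements.S3861
import Cfsg.Agent.S0200
import Cfsg.Agent.Lib.Helper20.RealElements
import Cfsg.Agent.Lib.Helper23.PSolvable
import Cfsg.Agent.Lib.Helper10.Frobenius
import Cfsg.Agent.Lib.Helper1.Coprime
import Cfsg.Agent.Lib.Helper19.Conj
import Cfsg.Agent.Lib.Helper19.NormalizerLattice

set_option autoImplicit false
open Cfsg

namespace Cfsg.Agent.S3861

open Cfsg.Agent.Helper19

variable {G : Type*} [Group G] [Finite G]

omit [Finite G] in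
theorem eq_one_of_odd_of_pow_two_pow {x : G} (hodd : Odd (orderOf x)) (j : ℕ)
    (h : x ^ (2 ^ j) = 1) : x = 1 := by
  have h1 : orderOf x ∣ 2 ^ j := orderOf_dvd_of_pow_eq_one h
  have h2 : (orderOf x).Coprime (2 ^ j) := Nat.Coprime.pow_right j (Nat.coprime_two_right.mpr hodd)
  exact orderOf_eq_one_iff.mp (Nat.Coprime.eq_one_of_dvd h2 h1)

theorem not_real_of_normal (P : Sylow 2 G) (hP : (P : Subgroup G).Normal) (x : G) (hx1 : x ≠ 1)
    (hodd : Odd (orderOf x)) : ¬ IsConj x x⁻¹ := by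
  have : Fact (Nat.Prime 2) := ⟨Nat.prime_two⟩
  intro hconj
  obtain ⟨g, hg⟩ := isConj_iff.mp hconj
  obtain ⟨u, ⟨k, hk⟩, hu⟩ := Cfsg.Agent.Helper20.exists_two_element_inverting hg
  have huP : u ∈ (P : Subgroup G) := by
    have h2 : IsPGroup 2 (Subgroup.zpowers u) :=
      IsPGroup.of_card (n := k) (by rw [Nat.card_zpowers, hk])
    obtain ⟨Q, hQ⟩ := h2.exists_le_sylow
    have hu' := Sylow.unique_of_normal P hP
    have hQP : Q = P := Subsingleton.elim _ _
    rw [← hQP]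
    exact hQ (Subgroup.mem_zpowers u)
  have h1 : u * x * u⁻¹ * x⁻¹ ∈ (P : Subgroup G) := by
    have h3 : x * u⁻¹ * x⁻¹ ∈ (P : Subgroup G) := hP.conj_mem _ (inv_mem huP) x
    have e : u * x * u⁻¹ * x⁻¹ = u * (x * u⁻¹ * x⁻¹) := by group
    rw [e]
    exact mul_mem huP h3
  rw [hu] at h1
  have h2 : x ^ 2 ∈ (P : Subgroup G) := by
    have e : x ^ 2 = (x⁻¹ * x⁻¹)⁻¹ := by group
    rw [e]
    exact inv_mem h1
  obtain ⟨j, hj⟩ := P.2 ⟨x ^ 2, h2⟩
  have h3 : (x ^ 2) ^ (2 ^ j) = 1 := congrArg Subtype.val hj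
  rw [← pow_mul, ← pow_succ'] at h3
  exact hx1 (eq_one_of_odd_of_pow_two_pow hodd _ h3)

theorem normal_of_no_real (P : Sylow 2 G)
    (h : ∀ x : G, x ≠ 1 → Odd (orderOf x) → ¬ IsConj x x⁻¹) : (P : Subgroup G).Normal := by
  have hf2 : Fact (Nat.Prime 2) := ⟨Nat.prime_two⟩
  by_contra hPn
  obtain ⟨O, hO⟩ : ∃ O : Subgroup G, O = (P : Subgroup G).normalCore := ⟨_, rfl⟩
  have hOP : O ≤ (P : Subgroup G) := by
    rw [hO]
    exact Subgroup.normalCore_le _
  have hOn : O.Normal := by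
    rw [hO]
    exact Subgroup.normalCore_normal _
  have hO2 : IsPGroup 2 O := P.2.to_le hOP
  have hne : O ≠ (P : Subgroup G) := by
    intro he
    apply hPn
    rw [← he]
    exact hOn
  have hPb2 : IsPGroup 2 ((P : Subgroup G).map (QuotientGroup.mk' O)) := P.2.map _
  have hPbne : (P : Subgroup G).map (QuotientGroup.mk' O) ≠ ⊥ := by
    intro hb
    apply hne
    apply le_antisymm hOP
    intro x hx
    have h1 : (QuotientGroup.mk' O) x ∈ (P : Subgroup G).map (QuotientGroup.mk' O) :=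
      Subgroup.mem_map_of_mem _ hx
    rw [hb, Subgroup.mem_bot] at h1
    exact (QuotientGroup.eq_one_iff x).mp h1
  -- an involution of the quotient
  obtain ⟨tb, htb⟩ : ∃ tb : G ⧸ O, orderOf tb = 2 := by
    obtain ⟨k, hk⟩ := hPb2.exists_card_eq
    have hk0 : k ≠ 0 := by
      rintro rfl
      rw [pow_zero] at hk
      exact hPbne (Subgroup.card_eq_one.mp hk)
    have hdvd : 2 ∣ Nat.card ((P : Subgroup G).map (QuotientGroup.mk' O)) := by
      rw [hk]
      exact dvd_pow_self 2 hk0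
    obtain ⟨y, hy⟩ := exists_prime_orderOf_dvd_card' 2 hdvd
    exact ⟨(y : G ⧸ O), by rw [Subgroup.orderOf_coe, hy]⟩
  -- normal `2`-subgroups of the quotient are trivial
  have hOb : ∀ Nb : Subgroup (G ⧸ O), Nb.Normal → IsPGroup 2 Nb → Nb = ⊥ := by
    intro Nb hNb hNb2
    have hN : (Nb.comap (QuotientGroup.mk' O)).Normal := hNb.comap _
    have hN2 : IsPGroup 2 (Nb.comap (QuotientGroup.mk' O)) := by
      apply hNb2.comap_of_ker_isPGroup
      rw [QuotientGroup.ker_mk']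
      exact hO2
    have hNP : Nb.comap (QuotientGroup.mk' O) ≤ (P : Subgroup G) :=
      Cfsg.Agent.Helper23.PSolv.normal_pGroup_le_sylow _ hN2 P
    have hNO : Nb.comap (QuotientGroup.mk' O) ≤ O :=
      le_trans (Subgroup.normal_le_normalCore.mpr hNP) (le_of_eq hO.symm)
    rw [eq_bot_iff, ← Subgroup.map_comap_eq_self_of_surjective (QuotientGroup.mk'_surjective O) Nb]
    intro y hy
    obtain ⟨x, hx, rfl⟩ := Subgroup.mem_map.mp hy
    rw [Subgroup.mem_bot]
    exact (QuotientGroup.eq_one_iff x).mpr (hNO hx)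
  have htb1 : tb ≠ 1 := by
    intro h1
    rw [h1, orderOf_one] at htb
    omega
  obtain ⟨hb, hb1, hbodd, hbinv⟩ := Cfsg.Agent.S0200.result tb htb (by
    intro Nb hNb hNb2 hmem
    rw [hOb Nb hNb hNb2, Subgroup.mem_bot] at hmem
    exact htb1 hmem)
  -- lift
  obtain ⟨t, rfl⟩ := QuotientGroup.mk'_surjective O tb
  obtain ⟨h₀, rfl⟩ := QuotientGroup.mk'_surjective O hb
  obtain ⟨e, he⟩ := Cfsg.Agent.Helper10.exists_pow_coprime_order (p := 2) h₀
  have hhodd : Odd (orderOf (h₀ ^ (2 ^ e))) := Nat.Coprime.odd_of_right he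
  have hmk1 : (QuotientGroup.mk' O) (h₀ ^ (2 ^ e)) ≠ 1 := by
    intro h1
    rw [map_pow] at h1
    exact hb1 (eq_one_of_odd_of_pow_two_pow hbodd e h1)
  have hmkinv : (QuotientGroup.mk' O) t * (QuotientGroup.mk' O) (h₀ ^ (2 ^ e)) *
      ((QuotientGroup.mk' O) t)⁻¹ = ((QuotientGroup.mk' O) (h₀ ^ (2 ^ e)))⁻¹ := by
    rw [map_pow, ← conj_pow, hbinv, inv_pow]
  obtain ⟨h', hh'⟩ : ∃ h' : G, h' = h₀ ^ (2 ^ e) := ⟨_, rfl⟩
  rw [← hh'] at hhodd hmk1 hmkinv
  have hh'1 : h' ≠ 1 := by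
    intro h1
    apply hmk1
    rw [h1, map_one]
  have hcomm : t * h' * t⁻¹ * h' ∈ O := by
    rw [← QuotientGroup.eq_one_iff, ← QuotientGroup.mk'_apply, map_mul, map_mul, map_mul,
      map_inv, hmkinv, inv_mul_cancel]
  -- Schur–Zassenhaus inside `O ⊔ ⟨h'⟩`
  obtain ⟨j, hj⟩ := hO2.exists_card_eq
  have hcop : (Nat.card (Subgroup.zpowers h')).Coprime (Nat.card O) := by
    rw [Nat.card_zpowers, hj]
    exact Nat.Coprime.pow_right j (Nat.coprime_two_right.mpr hhodd)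
  have hOsolv : Group.IsSolvable O := by
    have : Group.IsNilpotent O := hO2.isNilpotent
    infer_instance
  have hB : (Subgroup.zpowers h').map (MulAut.conj t).toMonoidHom ≤ O ⊔ Subgroup.zpowers h' := by
    rw [MonoidHom.map_zpowers, Subgroup.zpowers_le]
    have e1 : (MulAut.conj t).toMonoidHom h' = (t * h' * t⁻¹ * h') * h'⁻¹ := by
      simp
    rw [e1]
    exact Subgroup.mul_mem _ (Subgroup.mem_sup_left hcomm)
      (Subgroup.mem_sup_right (Subgroup.inv_mem _ (Subgroup.mem_zpowers h')))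
  obtain ⟨n, hn, hnB⟩ := Cfsg.Agent.Helper1.sz_internal O (Subgroup.zpowers h')
    ((Subgroup.zpowers h').map (MulAut.conj t).toMonoidHom) (le_normalizer_of_normal _ O) hcop
    (Or.inr hOsolv) hB (card_map_conj _ t)
  have hnB' : (Subgroup.zpowers h').map (MulAut.conj (n * t)).toMonoidHom = Subgroup.zpowers h' := by
    rw [map_conj_mul]
    exact hnB
  -- `n * t` inverts `h'`
  have hmem1 : (n * t) * h' * (n * t)⁻¹ ∈ Subgroup.zpowers h' := by
    have := conj_mem_map_conj (Subgroup.zpowers h') (n * t) h' (Subgroup.mem_zpowers h')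
    rwa [hnB'] at this
  have hmem2 : (n * t) * h' * (n * t)⁻¹ * h' ∈ O := by
    have e1 : (n * t) * h' * (n * t)⁻¹ * h' =
        n * ((t * h' * t⁻¹ * h') * (h'⁻¹ * n⁻¹ * h')) := by group
    rw [e1]
    have h3 : h'⁻¹ * n⁻¹ * h' ∈ O := by
      have h4 := hOn.conj_mem _ (O.inv_mem hn) h'⁻¹
      rwa [inv_inv] at h4
    exact O.mul_mem hn (O.mul_mem hcomm h3)
  have hdisj : Subgroup.zpowers h' ⊓ O = ⊥ := (Subgroup.disjoint_of_coprime_natCard hcop).eq_bot
  have hone : (n * t) * h' * (n * t)⁻¹ * h' = 1 := by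
    have : (n * t) * h' * (n * t)⁻¹ * h' ∈ Subgroup.zpowers h' ⊓ O :=
      Subgroup.mem_inf.mpr ⟨Subgroup.mul_mem _ hmem1 (Subgroup.mem_zpowers h'), hmem2⟩
    rwa [hdisj, Subgroup.mem_bot] at this
  have hinv : (n * t) * h' * (n * t)⁻¹ = h'⁻¹ := mul_eq_one_iff_eq_inv.mp hone
  exact h h' hh'1 hhodd (isConj_iff.mpr ⟨n * t, hinv⟩)

/-- A finite group G has no non-identity element of odd order that is conjugate to its inverse if and only if the Sylow 2-subgroups of G are normal. -/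
theorem result {G : Type*} [Group G] [Finite G] (P : Sylow 2 G) : (∀ x : G, x ≠ 1 → Odd (orderOf x) → ¬ IsConj x x⁻¹) ↔ (P : Subgroup G).Normal := by
  constructor
  · intro h
    exact normal_of_no_real P h
  · intro hP x hx1 hodd
    exact not_real_of_normal P hP x hx1 hodd

end Cfsg.Agent.S3861
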