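import Mathlib
import Cfsg.Statements.S3862
import Cfsg.Agent.Lib.Helper10.Frobenius3
import Cfsg.Agent.Lib.Helper7.Coprime
import Cfsg.Agent.Lib.Helper19.Conj
import Cfsg.Agent.Lib.Helper21.PGroupFrattini

set_option autoImplicit false
open Cfsg

namespace Cfsg.Agent.S3862

open Cfsg.Agent.Helper10 Cfsg.Agent.Helper19
open scoped commutatorElement

variable {G : Type*} [Group G] [Finite G]

/-- membership in a normalizer from the two one-sided conditions -/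
theorem mem_normalizer_of_conj_mem {C : Subgroup G} {x : G} (hx : ∀ c ∈ C, x * c * x⁻¹ ∈ C)
    (hx' : ∀ c ∈ C, x⁻¹ * c * x ∈ C) : x ∈ Subgroup.normalizer (C : Set G) := by
  rw [Subgroup.mem_normalizer_iff]
  intro c
  constructor
  · exact hx c
  · intro h
    have := hx' _ h
    have e : x⁻¹ * (x * c * x⁻¹) * x = c := by group
    rwa [e] at this

/-- the closure of a set stable under conjugation by `x` and `x⁻¹` is normalized by `x` -/
theorem mem_normalizer_closure {S : Set G} {x : G} (hx : ∀ s ∈ S, x * s * x⁻¹ ∈ S)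
    (hx' : ∀ s ∈ S, x⁻¹ * s * x ∈ S) : x ∈ Subgroup.normalizer ((Subgroup.closure S : Subgroup G) : Set G) := by
  have key : ∀ z : G, (∀ s ∈ S, z * s * z⁻¹ ∈ S) → ∀ c ∈ Subgroup.closure S,
      z * c * z⁻¹ ∈ Subgroup.closure S := by
    intro z hz c hc
    induction hc using Subgroup.closure_induction with
    | mem s hs => exact Subgroup.subset_closure (hz s hs)
    | one => simp
    | mul a b _ _ iha ihb =>
      have : z * (a * b) * z⁻¹ = (z * a * z⁻¹) * (z * b * z⁻¹) := by group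
      rw [this]; exact Subgroup.mul_mem _ iha ihb
    | inv a _ iha =>
      have : z * a⁻¹ * z⁻¹ = (z * a * z⁻¹)⁻¹ := by group
      rw [this]; exact Subgroup.inv_mem _ iha
  apply mem_normalizer_of_conj_mem (key x hx)
  intro c hc
  have := key x⁻¹ (by simpa using hx') c hc
  simpa using this

/-- a proper subgroup of a nontrivial `2`-subgroup containing all squares and commutators -/
theorem exists_frattini_like (Q : Subgroup G) (hQ : IsPGroup 2 Q) (hne : Q ≠ ⊥) :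
    ∃ M : Subgroup G, M ≤ Q ∧ M ≠ Q ∧ (∀ y ∈ Q, y * y ∈ M) ∧
      (∀ a ∈ Q, ∀ b ∈ Q, a * b * a⁻¹ * b⁻¹ ∈ M) := by
  haveI : Fact (Nat.Prime 2) := ⟨Nat.prime_two⟩
  have hnt : Nontrivial Q := (Subgroup.nontrivial_iff_ne_bot Q).mpr hne
  refine ⟨(frattini Q).map Q.subtype, Subgroup.map_subtype_le _, ?_, ?_, ?_⟩
  · intro h
    have h1 : (frattini Q).map Q.subtype = (⊤ : Subgroup Q).map Q.subtype := by
      rw [h, ← MonoidHom.range_eq_map, Subgroup.range_subtype]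
    have h2 : frattini Q = ⊤ := Subgroup.map_injective Q.subtype_injective h1
    rcases eq_top_or_exists_le_coatom (⊥ : Subgroup Q) with h3 | ⟨M', hM', -⟩
    · exact bot_ne_top h3
    · have := frattini_le_coatom hM'
      rw [h2, top_le_iff] at this
      exact hM'.1 this
  · intro y hy
    have := Cfsg.Agent.Helper21.pow_mem_frattini_of_isPGroup hQ (⟨y, hy⟩ : Q)
    refine ⟨_, this, ?_⟩
    simp [pow_two]
  · intro a ha b hb
    have := Cfsg.Agent.Helper21.commutator_mem_frattini_of_isPGroup hQ (⟨a, ha⟩ : Q) ⟨b, hb⟩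
    refine ⟨_, this, ?_⟩
    simp

/-- a minimal configuration violating Frobenius' condition for the prime `2` -/
structure Min (Q : Subgroup G) (g : G) : Prop where
  hQ : IsPGroup 2 Q
  hgN : g ∈ Subgroup.normalizer (Q : Set G)
  hodd : (orderOf g).Coprime 2
  hgC : g ∉ Subgroup.centralizer (Q : Set G)
  hmin : ∀ D : Subgroup G, D ≤ Q → D ≠ Q → g ∈ Subgroup.normalizer (D : Set G) →
    g ∈ Subgroup.centralizer (D : Set G)

namespace Min

variable {Q : Subgroup G} {g : G} (hM : Min Q g)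
include hM

theorem conj_mem {y : G} (hy : y ∈ Q) : g * y * g⁻¹ ∈ Q :=
  (Subgroup.mem_normalizer_iff.mp hM.hgN y).mp hy

theorem conj_mem' {y : G} (hy : y ∈ Q) : g⁻¹ * y * g ∈ Q := by
  have := (Subgroup.mem_normalizer_iff.mp (Subgroup.inv_mem _ hM.hgN) y).mp hy
  simpa using this

theorem orderOf_eq {z : G} (hz : z ∈ Q) : ∃ a : ℕ, orderOf z = 2 ^ a := by
  haveI : Fact (Nat.Prime 2) := ⟨Nat.prime_two⟩
  obtain ⟨a, ha⟩ := (IsPGroup.iff_orderOf.mp hM.hQ) ⟨z, hz⟩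
  exact ⟨a, by rw [← ha, Subgroup.orderOf_mk]⟩

/-- the stability lemma -/
theorem stab {y : G} (hy : y ∈ Q)
    (hc : g * (y⁻¹ * (g * y * g⁻¹)) * g⁻¹ = y⁻¹ * (g * y * g⁻¹)) : g * y * g⁻¹ = y := by
  have hz : y⁻¹ * (g * y * g⁻¹) ∈ Q := Q.mul_mem (Q.inv_mem hy) (hM.conj_mem hy)
  obtain ⟨a, ha⟩ := hM.orderOf_eq hz
  have hcop : (orderOf g).Coprime (orderOf (y⁻¹ * (g * y * g⁻¹))) := by
    rw [ha]; exact Nat.Coprime.pow_right a hM.hodd
  exact Cfsg.Agent.Helper7.conj_eq_self_of_coprime g y (isOfFinOrder_of_finite g) hc hcop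

/-- the generating set of `[Q, g]` -/
def tset (Q : Subgroup G) (g : G) : Set G := {t | ∃ y ∈ Q, t = y⁻¹ * (g * y * g⁻¹)}

theorem closure_tset : Subgroup.closure (tset Q g) = Q := by
  have hle : Subgroup.closure (tset Q g) ≤ Q := by
    rw [Subgroup.closure_le]
    rintro _ ⟨y, hy, rfl⟩
    exact Q.mul_mem (Q.inv_mem hy) (hM.conj_mem hy)
  by_contra hne
  have hN : g ∈ Subgroup.normalizer ((Subgroup.closure (tset Q g) : Subgroup G) : Set G) := by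
    apply mem_normalizer_closure
    · rintro _ ⟨y, hy, rfl⟩
      exact ⟨g * y * g⁻¹, hM.conj_mem hy, by group⟩
    · rintro _ ⟨y, hy, rfl⟩
      exact ⟨g⁻¹ * y * g, hM.conj_mem' hy, by group⟩
  have hC := hM.hmin _ hle hne hN
  apply hM.hgC
  rw [Subgroup.mem_centralizer_iff]
  intro y hy
  have ht : y⁻¹ * (g * y * g⁻¹) ∈ Subgroup.closure (tset Q g) :=
    Subgroup.subset_closure ⟨y, hy, rfl⟩
  have h1 := (Subgroup.mem_centralizer_iff.mp hC) _ ht
  have h2 : g * (y⁻¹ * (g * y * g⁻¹)) * g⁻¹ = y⁻¹ * (g * y * g⁻¹) := by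
    rw [← h1]; group
  have h3 := hM.stab hy h2
  calc y * g = (g * y * g⁻¹) * g := by rw [h3]
    _ = g * y := by group

/-- proper invariant normal subgroups are central in `Q` -/
theorem central_of_proper {D : Subgroup G} (hDQ : D ≤ Q) (hne : D ≠ Q)
    (hgD : g ∈ Subgroup.normalizer (D : Set G)) (hQD : Q ≤ Subgroup.normalizer (D : Set G)) :
    ∀ d ∈ D, ∀ y ∈ Q, d * y = y * d := by
  have hC := hM.hmin D hDQ hne hgD
  have hle : Subgroup.closure (tset Q g) ≤ Subgroup.centralizer (D : Set G) := by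
    rw [Subgroup.closure_le]
    rintro _ ⟨y, hy, rfl⟩
    rw [SetLike.mem_coe, Subgroup.mem_centralizer_iff]
    intro d hd
    have h1 : g * d = d * g := ((Subgroup.mem_centralizer_iff.mp hC) d hd).symm
    have hyd : y * d * y⁻¹ ∈ D := (Subgroup.mem_normalizer_iff.mp (hQD hy) d).mp hd
    have h2 : g * (y * d * y⁻¹) = (y * d * y⁻¹) * g :=
      ((Subgroup.mem_centralizer_iff.mp hC) _ hyd).symm
    have h3 : (g * y * g⁻¹) * d * (g * y * g⁻¹)⁻¹ = y * d * y⁻¹ := by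
      calc (g * y * g⁻¹) * d * (g * y * g⁻¹)⁻¹ = g * y * (g⁻¹ * d * g) * y⁻¹ * g⁻¹ := by group
        _ = g * y * d * y⁻¹ * g⁻¹ := by
            have : g⁻¹ * d * g = d := by rw [mul_assoc, h1.symm]; group
            rw [this]
        _ = (g * (y * d * y⁻¹)) * g⁻¹ := by group
        _ = y * d * y⁻¹ := by rw [h2]; group
    calc d * (y⁻¹ * (g * y * g⁻¹))
        = y⁻¹ * (y * d * y⁻¹) * (g * y * g⁻¹) := by group
      _ = y⁻¹ * ((g * y * g⁻¹) * d * (g * y * g⁻¹)⁻¹) * (g * y * g⁻¹) := by rw [h3]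
      _ = y⁻¹ * (g * y * g⁻¹) * d := by group
  rw [hM.closure_tset] at hle
  intro d hd y hy
  exact (Subgroup.mem_centralizer_iff.mp (hle hy)) d hd

end Min

/-- no minimal configuration exists under the hypothesis on real `2`-elements -/
theorem no_min (h : ∀ x : G, (∃ j : ℕ, orderOf x = 2 ^ j) → IsConj x x⁻¹ → x ∈ Subgroup.center G)
    {Q : Subgroup G} {g : G} (hM : Min Q g) : False := by
  haveI : Fact (Nat.Prime 2) := ⟨Nat.prime_two⟩
  have hQne : Q ≠ ⊥ := by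
    rintro rfl
    apply hM.hgC
    rw [Subgroup.mem_centralizer_iff]
    intro y hy
    rw [SetLike.mem_coe, Subgroup.mem_bot] at hy
    rw [hy, one_mul, mul_one]
  obtain ⟨M, hMQ, hMne, hMsq, hMcomm⟩ := exists_frattini_like Q hM.hQ hQne
  -- the subgroup generated by squares
  let S : Set G := {w | ∃ y ∈ Q, w = y * y}
  have hSle : Subgroup.closure S ≤ M := by
    rw [Subgroup.closure_le]
    rintro _ ⟨y, hy, rfl⟩
    exact hMsq y hy
  have hSne : Subgroup.closure S ≠ Q := by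
    intro heq
    apply hMne
    exact le_antisymm hMQ (heq ▸ hSle)
  have hSg : g ∈ Subgroup.normalizer ((Subgroup.closure S : Subgroup G) : Set G) := by
    apply mem_normalizer_closure
    · rintro _ ⟨y, hy, rfl⟩
      exact ⟨g * y * g⁻¹, hM.conj_mem hy, by group⟩
    · rintro _ ⟨y, hy, rfl⟩
      exact ⟨g⁻¹ * y * g, hM.conj_mem' hy, by group⟩
  have hSQ : Q ≤ Subgroup.normalizer ((Subgroup.closure S : Subgroup G) : Set G) := by
    intro w hw
    apply mem_normalizer_closure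
    · rintro _ ⟨y, hy, rfl⟩
      exact ⟨w * y * w⁻¹, Q.mul_mem (Q.mul_mem hw hy) (Q.inv_mem hw), by group⟩
    · rintro _ ⟨y, hy, rfl⟩
      exact ⟨w⁻¹ * y * w, Q.mul_mem (Q.mul_mem (Q.inv_mem hw) hy) hw, by group⟩
  have hsq_g : ∀ y ∈ Q, g * (y * y) * g⁻¹ = y * y := by
    intro y hy
    have hC := hM.hmin _ (hSle.trans hMQ) hSne hSg
    have := (Subgroup.mem_centralizer_iff.mp hC) (y * y) (Subgroup.subset_closure ⟨y, hy, rfl⟩)
    rw [← this]; group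
  have hsq_c : ∀ y ∈ Q, ∀ x ∈ Q, (y * y) * x = x * (y * y) := by
    intro y hy x hx
    exact hM.central_of_proper (hSle.trans hMQ) hSne hSg hSQ _
      (Subgroup.subset_closure ⟨y, hy, rfl⟩) x hx
  -- the derived subgroup
  have hDle : ⁅Q, Q⁆ ≤ M := by
    rw [Subgroup.commutator_le]
    intro a ha b hb
    rw [commutatorElement_def]
    exact hMcomm a ha b hb
  have hDne : ⁅Q, Q⁆ ≠ Q := by
    intro heq
    apply hMne
    exact le_antisymm hMQ (heq ▸ hDle)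
  have hDg : g ∈ Subgroup.normalizer ((⁅Q, Q⁆ : Subgroup G) : Set G) := by
    rw [mem_normalizer_iff_map_conj, Subgroup.map_commutator,
      (mem_normalizer_iff_map_conj Q g).mp hM.hgN]
  have hDQ : Q ≤ Subgroup.normalizer ((⁅Q, Q⁆ : Subgroup G) : Set G) := by
    intro w hw
    rw [mem_normalizer_iff_map_conj, Subgroup.map_commutator, map_conj_eq_self_of_mem Q w hw]
  have hD_g : ∀ d ∈ ⁅Q, Q⁆, g * d * g⁻¹ = d := by
    intro d hd
    have hC := hM.hmin _ (hDle.trans hMQ) hDne hDg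
    have := (Subgroup.mem_centralizer_iff.mp hC) d hd
    rw [← this]; group
  have hD_g' : ∀ d ∈ ⁅Q, Q⁆, g⁻¹ * d * g = d := by
    intro d hd
    have := hD_g d hd
    calc g⁻¹ * d * g = g⁻¹ * (g * d * g⁻¹) * g := by rw [this]
      _ = d := by group
  have hD_c : ∀ d ∈ ⁅Q, Q⁆, ∀ x ∈ Q, d * x = x * d :=
    hM.central_of_proper (hDle.trans hMQ) hDne hDg hDQ
  have hcomm_mem : ∀ a ∈ Q, ∀ b ∈ Q, a * b * a⁻¹ * b⁻¹ ∈ ⁅Q, Q⁆ := by
    intro a ha b hb
    rw [← commutatorElement_def]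
    exact Subgroup.commutator_mem_commutator ha hb
  -- abelian case
  by_cases hab : ∀ a ∈ Q, ∀ b ∈ Q, a * b = b * a
  · apply hM.hgC
    rw [Subgroup.mem_centralizer_iff]
    intro y hy
    have hu : g * y * g⁻¹ ∈ Q := hM.conj_mem hy
    have hz : y⁻¹ * (g * y * g⁻¹) ∈ Q := Q.mul_mem (Q.inv_mem hy) hu
    have hzz : (y⁻¹ * (g * y * g⁻¹)) * (y⁻¹ * (g * y * g⁻¹)) = 1 := by
      have h1 : (g * y * g⁻¹) * y⁻¹ = y⁻¹ * (g * y * g⁻¹) := hab _ hu _ (Q.inv_mem hy)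
      calc (y⁻¹ * (g * y * g⁻¹)) * (y⁻¹ * (g * y * g⁻¹))
          = y⁻¹ * ((g * y * g⁻¹) * y⁻¹) * (g * y * g⁻¹) := by group
        _ = y⁻¹ * (y⁻¹ * (g * y * g⁻¹)) * (g * y * g⁻¹) := by rw [h1]
        _ = (y * y)⁻¹ * (g * (y * y) * g⁻¹) := by group
        _ = 1 := by rw [hsq_g y hy]; group
    have hzinv : (y⁻¹ * (g * y * g⁻¹))⁻¹ = y⁻¹ * (g * y * g⁻¹) := inv_eq_of_mul_eq_one_left hzz
    have hzc : y⁻¹ * (g * y * g⁻¹) ∈ Subgroup.center G := by
      apply h _ (hM.orderOf_eq hz)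
      rw [hzinv]
    have h2 : g * (y⁻¹ * (g * y * g⁻¹)) * g⁻¹ = y⁻¹ * (g * y * g⁻¹) := by
      rw [(Subgroup.mem_center_iff.mp hzc g)]; group
    have h3 := hM.stab hy h2
    calc y * g = (g * y * g⁻¹) * g := by rw [h3]
      _ = g * y := by group
  · push Not at hab
    obtain ⟨y₀, hy₀, b₀, hb₀, hyb⟩ := hab
    -- all squares lie in the derived subgroup
    have hsqD : ∀ y ∈ Q, y * y ∈ ⁅Q, Q⁆ := by
      let E : Subgroup G :=
        { carrier := {y | y ∈ Q ∧ y * y ∈ ⁅Q, Q⁆}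
          one_mem' := ⟨Q.one_mem, by simp⟩
          mul_mem' := by
            rintro a b ⟨ha, ha2⟩ ⟨hb, hb2⟩
            refine ⟨Q.mul_mem ha hb, ?_⟩
            have e : (a * b) * (a * b) = (a * a) * (a⁻¹ * b * a⁻¹⁻¹ * b⁻¹) * (b * b) := by group
            rw [e]
            exact Subgroup.mul_mem _ (Subgroup.mul_mem _ ha2
              (hcomm_mem _ (Q.inv_mem ha) _ hb)) hb2
          inv_mem' := by
            rintro a ⟨ha, ha2⟩
            refine ⟨Q.inv_mem ha, ?_⟩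
            have e : a⁻¹ * a⁻¹ = (a * a)⁻¹ := by group
            rw [e]
            exact Subgroup.inv_mem _ ha2 }
      have hE : Subgroup.closure (Min.tset Q g) ≤ E := by
        rw [Subgroup.closure_le]
        rintro _ ⟨y, hy, rfl⟩
        have hu : g * y * g⁻¹ ∈ Q := hM.conj_mem hy
        refine ⟨Q.mul_mem (Q.inv_mem hy) hu, ?_⟩
        have hc : (g * y * g⁻¹) * y⁻¹ * (g * y * g⁻¹)⁻¹ * y⁻¹⁻¹ ∈ ⁅Q, Q⁆ :=
          hcomm_mem _ hu _ (Q.inv_mem hy)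
        have e : (y⁻¹ * (g * y * g⁻¹)) * (y⁻¹ * (g * y * g⁻¹)) =
            y⁻¹ * ((g * y * g⁻¹) * y⁻¹ * (g * y * g⁻¹)⁻¹ * y⁻¹⁻¹) * y⁻¹ * (g * (y * y) * g⁻¹) := by
          group
        rw [e, hsq_g y hy]
        have hcy := hD_c _ hc y hy
        generalize (g * y * g⁻¹) * y⁻¹ * (g * y * g⁻¹)⁻¹ * y⁻¹⁻¹ = c at hc hcy ⊢
        have e2 : y⁻¹ * c * y⁻¹ * (y * y) = c := by
          calc y⁻¹ * c * y⁻¹ * (y * y) = y⁻¹ * (c * y) := by group
            _ = y⁻¹ * (y * c) := by rw [hcy]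
            _ = c := by group
        rw [e2]
        exact hc
      rw [hM.closure_tset] at hE
      intro y hy
      exact (hE hy).2
    -- the subgroup `[y₀, Q]`
    have hcomm_mul : ∀ y ∈ Q, ∀ x₁ ∈ Q, ∀ x₂ ∈ Q,
        y * (x₁ * x₂) * y⁻¹ * (x₁ * x₂)⁻¹ = (y * x₁ * y⁻¹ * x₁⁻¹) * (y * x₂ * y⁻¹ * x₂⁻¹) := by
      intro y hy x₁ hx₁ x₂ hx₂
      have h1 := hD_c _ (hcomm_mem y hy x₂ hx₂) x₁⁻¹ (Q.inv_mem hx₁)
      calc y * (x₁ * x₂) * y⁻¹ * (x₁ * x₂)⁻¹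
          = (y * x₁ * y⁻¹ * x₁⁻¹) * x₁ * ((y * x₂ * y⁻¹ * x₂⁻¹) * x₁⁻¹) := by group
        _ = (y * x₁ * y⁻¹ * x₁⁻¹) * x₁ * (x₁⁻¹ * (y * x₂ * y⁻¹ * x₂⁻¹)) := by rw [h1]
        _ = (y * x₁ * y⁻¹ * x₁⁻¹) * (y * x₂ * y⁻¹ * x₂⁻¹) := by group
    let W : Subgroup G :=
      { carrier := {w | ∃ x ∈ Q, w = y₀ * x * y₀⁻¹ * x⁻¹}
        one_mem' := ⟨1, Q.one_mem, by group⟩
        mul_mem' := by
          rintro _ _ ⟨x₁, hx₁, rfl⟩ ⟨x₂, hx₂, rfl⟩
          exact ⟨x₁ * x₂, Q.mul_mem hx₁ hx₂, (hcomm_mul y₀ hy₀ x₁ hx₁ x₂ hx₂).symm⟩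
        inv_mem' := by
          rintro _ ⟨x, hx, rfl⟩
          refine ⟨x⁻¹, Q.inv_mem hx, ?_⟩
          have h1 := hcomm_mul y₀ hy₀ x hx x⁻¹ (Q.inv_mem hx)
          have h2 : y₀ * (x * x⁻¹) * y₀⁻¹ * (x * x⁻¹)⁻¹ = 1 := by group
          rw [h2] at h1
          exact inv_eq_of_mul_eq_one_right h1.symm }
    have hWmem : ∀ w, w ∈ W ↔ ∃ x ∈ Q, w = y₀ * x * y₀⁻¹ * x⁻¹ := fun w => Iff.rfl
    have hWD : W ≤ ⁅Q, Q⁆ := by
      rintro _ ⟨x, hx, rfl⟩
      exact hcomm_mem y₀ hy₀ x hx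
    -- elements whose commutators with `Q` lie in `W`
    have hcomm_mul' : ∀ c₁ ∈ Q, ∀ c₂ ∈ Q, ∀ x ∈ Q,
        (c₁ * c₂) * x * (c₁ * c₂)⁻¹ * x⁻¹ =
          (c₂ * x * c₂⁻¹ * x⁻¹) * (c₁ * x * c₁⁻¹ * x⁻¹) := by
      intro c₁ hc₁ c₂ hc₂ x hx
      have h1 := hD_c _ (hcomm_mem c₂ hc₂ x hx) c₁⁻¹ (Q.inv_mem hc₁)
      calc (c₁ * c₂) * x * (c₁ * c₂)⁻¹ * x⁻¹
          = c₁ * ((c₂ * x * c₂⁻¹ * x⁻¹) * c₁⁻¹) * (c₁ * x * c₁⁻¹ * x⁻¹) := by group
        _ = c₁ * (c₁⁻¹ * (c₂ * x * c₂⁻¹ * x⁻¹)) * (c₁ * x * c₁⁻¹ * x⁻¹) := by rw [h1]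
        _ = (c₂ * x * c₂⁻¹ * x⁻¹) * (c₁ * x * c₁⁻¹ * x⁻¹) := by group
    let C : Subgroup G :=
      { carrier := {c | c ∈ Q ∧ ∀ x ∈ Q, c * x * c⁻¹ * x⁻¹ ∈ W}
        one_mem' := ⟨Q.one_mem, fun x _ => by
          have : (1 : G) * x * 1⁻¹ * x⁻¹ = 1 := by group
          rw [this]; exact W.one_mem⟩
        mul_mem' := by
          rintro c₁ c₂ ⟨hc₁, h1⟩ ⟨hc₂, h2⟩
          refine ⟨Q.mul_mem hc₁ hc₂, fun x hx => ?_⟩
          rw [hcomm_mul' c₁ hc₁ c₂ hc₂ x hx]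
          exact W.mul_mem (h2 x hx) (h1 x hx)
        inv_mem' := by
          rintro c ⟨hc, h1⟩
          refine ⟨Q.inv_mem hc, fun x hx => ?_⟩
          have h2 := hcomm_mul' c hc c⁻¹ (Q.inv_mem hc) x hx
          have h3 : (c * c⁻¹) * x * (c * c⁻¹)⁻¹ * x⁻¹ = 1 := by group
          rw [h3] at h2
          have h4 : c⁻¹ * x * c⁻¹⁻¹ * x⁻¹ = (c * x * c⁻¹ * x⁻¹)⁻¹ :=
            eq_inv_of_mul_eq_one_left h2.symm
          rw [h4]
          exact W.inv_mem (h1 x hx) }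
    have hCmem : ∀ c, c ∈ C ↔ c ∈ Q ∧ ∀ x ∈ Q, c * x * c⁻¹ * x⁻¹ ∈ W := fun c => Iff.rfl
    have hCQ : C ≤ Q := fun c hc => hc.1
    have hy₀C : y₀ ∈ C := ⟨hy₀, fun x hx => ⟨x, hx, rfl⟩⟩
    have hCconj : ∀ z : G, (∀ x ∈ Q, z⁻¹ * x * z ∈ Q) → (∀ x ∈ Q, z * x * z⁻¹ ∈ Q) →
        (∀ d ∈ ⁅Q, Q⁆, z * d * z⁻¹ = d) → ∀ c ∈ C, z * c * z⁻¹ ∈ C := by
      intro z hz1 hz2 hz3 c hc
      obtain ⟨hcQ, h1⟩ := hc
      refine ⟨hz2 c hcQ, fun x hx => ?_⟩
      have hx' := hz1 x hx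
      have e : (z * c * z⁻¹) * x * (z * c * z⁻¹)⁻¹ * x⁻¹ =
          z * (c * (z⁻¹ * x * z) * c⁻¹ * (z⁻¹ * x * z)⁻¹) * z⁻¹ := by group
      rw [e, hz3 _ (hcomm_mem c hcQ _ hx')]
      exact h1 _ hx'
    have hCg : g ∈ Subgroup.normalizer (C : Set G) := by
      apply mem_normalizer_of_conj_mem
      · exact hCconj g (fun x hx => hM.conj_mem' hx) (fun x hx => hM.conj_mem hx) hD_g
      · intro c hc
        have := hCconj g⁻¹ (fun x hx => by simpa using hM.conj_mem hx)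
          (fun x hx => by simpa using hM.conj_mem' hx)
          (fun d hd => by simpa using hD_g' d hd) c hc
        simpa using this
    have hconjQ : ∀ w ∈ Q, ∀ x ∈ Q, w * x * w⁻¹ ∈ Q := fun w hw x hx =>
      Q.mul_mem (Q.mul_mem hw hx) (Q.inv_mem hw)
    have hCw : ∀ w ∈ Q, ∀ c ∈ C, w * c * w⁻¹ ∈ C := by
      intro w hw
      apply hCconj w (fun x hx => by simpa using hconjQ w⁻¹ (Q.inv_mem hw) x hx)
        (fun x hx => hconjQ w hw x hx)
      intro d hd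
      rw [← hD_c d hd w hw]; group
    have hCnorm : Q ≤ Subgroup.normalizer (C : Set G) := by
      intro w hw
      apply mem_normalizer_of_conj_mem (hCw w hw)
      intro c hc
      have := hCw w⁻¹ (Q.inv_mem hw) c hc
      simpa using this
    by_cases hCeq : C = Q
    · have hDW : ⁅Q, Q⁆ ≤ W := by
        rw [Subgroup.commutator_le]
        intro a ha b hb
        rw [commutatorElement_def]
        have haC : a ∈ C := by rw [hCeq]; exact ha
        exact haC.2 b hb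
      obtain ⟨x, hx, hxe⟩ := hDW (hsqD y₀ hy₀)
      have h1 : y₀ = x * y₀⁻¹ * x⁻¹ := by
        have : y₀ * y₀ = y₀ * (x * y₀⁻¹ * x⁻¹) := by rw [hxe]; group
        exact mul_left_cancel this
      have h2 : x * y₀ * x⁻¹ = y₀⁻¹ := by
        have : y₀⁻¹ = (x * y₀⁻¹ * x⁻¹)⁻¹ := by rw [← h1]
        rw [this]; group
      have h3 : IsConj y₀ y₀⁻¹ := isConj_iff.mpr ⟨x, h2⟩
      have h4 := h y₀ (hM.orderOf_eq hy₀) h3
      exact hyb ((Subgroup.mem_center_iff.mp h4 b₀).symm)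
    · exact hyb (hM.central_of_proper hCQ hCeq hCg hCnorm y₀ hy₀C b₀ hb₀)

/-- If every 2-element of the finite group G that is conjugate to its inverse lies in the centre of G, then G has a normal 2-complement. -/
theorem result {G : Type*} [Group G] [Finite G] (h : ∀ x : G, (∃ j : ℕ, orderOf x = 2 ^ j) → IsConj x x⁻¹ → x ∈ Subgroup.center G) : Cfsg.HasNormalPComplement 2 G := by
  haveI : Fact (Nat.Prime 2) := ⟨Nat.prime_two⟩
  suffices hF : FrobCond 2 G from (npc_of_frobCond _ G rfl hF).hasNormalPComplement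
  by_contra hF
  let Bad : Subgroup G × G → Prop := fun P => IsPGroup 2 P.1 ∧
    P.2 ∈ Subgroup.normalizer (P.1 : Set G) ∧ (orderOf P.2).Coprime 2 ∧
    P.2 ∉ Subgroup.centralizer (P.1 : Set G)
  have hne : {P : Subgroup G × G | Bad P}.Nonempty := by
    unfold FrobCond at hF
    push Not at hF
    obtain ⟨Q, hQ, g, hg, hc, hgc⟩ := hF
    exact ⟨(Q, g), hQ, hg, hc, hgc⟩
  obtain ⟨⟨Q, g⟩, hQg, hmin⟩ := Set.exists_min_image _
    (fun P : Subgroup G × G => Nat.card P.1) (Set.toFinite _) hne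
  obtain ⟨hQ, hgN, hodd, hgC⟩ := hQg
  have hM : Min Q g := by
    refine ⟨hQ, hgN, hodd, hgC, ?_⟩
    intro D hDQ hDne hgD
    by_contra hcon
    have hbad : Bad (D, g) := ⟨hQ.to_le hDQ, hgD, hodd, hcon⟩
    have h1 : Nat.card Q ≤ Nat.card D := hmin _ hbad
    exact hDne (Subgroup.eq_of_le_of_card_ge hDQ h1)
  exact no_min h hM

end Cfsg.Agent.S3862
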