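import Mathlib
import Cfsg.Statements.S3863

set_option autoImplicit false
open Cfsg

namespace Cfsg.Agent.S3863

variable {G : Type*} [Group G]

/-- odd powers of an inverting element invert. -/
theorem conj_pow_odd (g x : G) (h : g * x * g⁻¹ = x⁻¹) (m : ℕ) (hm : Odd m) :
    g ^ m * x * (g ^ m)⁻¹ = x⁻¹ := by
  have h' : g * x⁻¹ * g⁻¹ = x := by
    have : g * x⁻¹ * g⁻¹ = (g * x * g⁻¹)⁻¹ := by group
    rw [this, h, inv_inv]
  have h2 : ∀ j : ℕ, (g ^ (2 * j)) * x * (g ^ (2 * j))⁻¹ = x := by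
    intro j
    induction j with
    | zero => simp
    | succ j ih =>
      have e : g ^ (2 * (j + 1)) = g * g * g ^ (2 * j) := by
        rw [show 2 * (j + 1) = 2 + 2 * j by ring, pow_add, pow_two]
      rw [e]
      have : g * g * g ^ (2 * j) * x * (g * g * g ^ (2 * j))⁻¹
          = g * (g * (g ^ (2 * j) * x * (g ^ (2 * j))⁻¹) * g⁻¹) * g⁻¹ := by group
      rw [this, ih, h, h']
  obtain ⟨j, rfl⟩ := hm
  have e : g ^ (2 * j + 1) = g ^ (2 * j) * g := pow_succ g (2 * j)
  rw [e]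
  have : g ^ (2 * j) * g * x * (g ^ (2 * j) * g)⁻¹
      = g ^ (2 * j) * (g * x * g⁻¹) * (g ^ (2 * j))⁻¹ := by group
  rw [this, h]
  have := h2 j
  have e2 : g ^ (2 * j) * x⁻¹ * (g ^ (2 * j))⁻¹ = (g ^ (2 * j) * x * (g ^ (2 * j))⁻¹)⁻¹ := by group
  rw [e2, this]

/-- existence of a 2-element inverting a real element -/
theorem exists_two_elt [Finite G] (x : G) (hx : IsConj x x⁻¹) :
    ∃ t : G, (∃ j : ℕ, orderOf t = 2 ^ j) ∧ t * x * t⁻¹ = x⁻¹ := by
  obtain ⟨g, hg⟩ := isConj_iff.mp hx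
  have hpos : orderOf g ≠ 0 := (orderOf_pos g).ne'
  obtain ⟨k, m, hm, hkm⟩ := Nat.exists_eq_two_pow_mul_odd hpos
  refine ⟨g ^ m, ⟨k, ?_⟩, conj_pow_odd g x hg m hm⟩
  have hm0 : m ≠ 0 := by
    rintro rfl
    simp at hm
  rw [orderOf_pow' g hm0, hkm, Nat.gcd_mul_left_left, Nat.mul_div_left _ (Nat.pos_of_ne_zero hm0)]

/-- the extended centralizer -/
def cstar (x : G) : Subgroup G where
  carrier := {g | g * x * g⁻¹ = x ∨ g * x * g⁻¹ = x⁻¹}
  one_mem' := by left; simp
  mul_mem' := by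
    intro a b ha hb
    have e : a * b * x * (a * b)⁻¹ = a * (b * x * b⁻¹) * a⁻¹ := by group
    have inv_conj : ∀ c : G, c * x⁻¹ * c⁻¹ = (c * x * c⁻¹)⁻¹ := by intro c; group
    simp only [Set.mem_ofPred_eq] at ha hb ⊢
    rw [e]
    rcases hb with hb | hb <;> rcases ha with ha | ha
    · left; rw [hb, ha]
    · right; rw [hb, ha]
    · right; rw [hb, inv_conj, ha]
    · left; rw [hb, inv_conj, ha, inv_inv]
  inv_mem' := by
    intro a ha
    simp only [Set.mem_ofPred_eq] at ha ⊢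
    rcases ha with ha | ha
    · left
      calc a⁻¹ * x * a⁻¹⁻¹ = a⁻¹ * (a * x * a⁻¹) * a := by rw [ha]; simp
        _ = x := by group
    · right
      have hx : x = (a * x * a⁻¹)⁻¹ := by rw [ha, inv_inv]
      calc a⁻¹ * x * a⁻¹⁻¹ = a⁻¹ * (a * x * a⁻¹)⁻¹ * a := by rw [← hx]; simp
        _ = x⁻¹ := by group

theorem mem_cstar (x g : G) : g ∈ cstar x ↔ g * x * g⁻¹ = x ∨ g * x * g⁻¹ = x⁻¹ := Iff.rfl

theorem mem_centralizer_singleton (x g : G) :
    g ∈ Subgroup.centralizer ({x} : Set G) ↔ g * x * g⁻¹ = x := by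
  rw [Subgroup.mem_centralizer_iff]
  constructor
  · intro h
    have := h x (Set.mem_singleton x)
    rw [← this]; group
  · intro h y hy
    rw [Set.mem_singleton_iff] at hy
    subst hy
    calc y * g = (g * y * g⁻¹) * g := by rw [h]
      _ = g * y := by group

theorem even_index_of_ne [Finite G] (x t : G) (ht : t * x * t⁻¹ = x⁻¹) (hne : x⁻¹ ≠ x) :
    Even (Subgroup.centralizer ({x} : Set G)).index := by
  have hle : Subgroup.centralizer ({x} : Set G) ≤ cstar x := by
    intro g hg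
    rw [mem_centralizer_singleton] at hg
    exact Or.inl hg
  have htc : t ∈ cstar x := Or.inr ht
  have h2 : (Subgroup.centralizer ({x} : Set G)).relIndex (cstar x) = 2 := by
    rw [Subgroup.relIndex, Subgroup.index_eq_two_iff]
    refine ⟨⟨t, htc⟩, ?_⟩
    intro b
    have inv_conj : ∀ c : G, c * x⁻¹ * c⁻¹ = (c * x * c⁻¹)⁻¹ := by intro c; group
    have e : ∀ b : G, b * t * x * (b * t)⁻¹ = b * (t * x * t⁻¹) * b⁻¹ := by intro b; group
    simp only [Subgroup.mem_subgroupOf, Subgroup.coe_mul, mem_centralizer_singleton]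
    rcases b.2 with hb | hb
    · -- b centralizes x
      refine Or.inr ⟨hb, ?_⟩
      rw [e, ht, inv_conj, hb]
      exact hne
    · refine Or.inl ⟨?_, ?_⟩
      · rw [e, ht, inv_conj, hb, inv_inv]
      · rw [hb]; exact hne
  have := Subgroup.relIndex_mul_index hle
  rw [h2] at this
  rw [← this]
  exact even_two_mul _

theorem quot_eq_one_of_orderOf [Finite G] (N : Subgroup G) [N.Normal] (hodd : Odd N.index)
    (t : G) (j : ℕ) (ht : t ^ 2 ^ j = 1) : t ∈ N := by
  rw [← QuotientGroup.eq_one_iff]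
  have h1 : orderOf (t : G ⧸ N) ∣ 2 ^ j := by
    apply orderOf_dvd_of_pow_eq_one
    rw [← QuotientGroup.mk_pow, ht]
    rfl
  have h2 : orderOf (t : G ⧸ N) ∣ N.index := by
    rw [Subgroup.index_eq_card]
    exact orderOf_dvd_natCard _
  have hcop : Nat.Coprime (2 ^ j) N.index := by
    apply Nat.Coprime.pow_left
    exact (Nat.coprime_two_left).mpr hodd
  have := Nat.eq_one_of_dvd_coprimes hcop h1 h2
  exact orderOf_eq_one_iff.mp this

/-- Let x be an element of the finite group G that is conjugate to its inverse. Then some 2-element conjugates x to its inverse; if the conjugacy class of x has odd size then x ^ 2 = 1; and x lies in, and is conjugate to its inverse inside, every normal subgroup of odd index. -/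
theorem result {G : Type*} [Group G] [Finite G] (x : G) (hx : IsConj x x⁻¹) : (∃ t : G, (∃ j : ℕ, orderOf t = 2 ^ j) ∧ t * x * t⁻¹ = x⁻¹) ∧ (Odd (Subgroup.centralizer ({x} : Set G)).index → x ^ 2 = 1) ∧ ∀ (N : Subgroup G) [N.Normal], Odd N.index → ∃ hxN : x ∈ N, IsConj (⟨x, hxN⟩ : N) (⟨x, hxN⟩ : N)⁻¹ := by
  obtain ⟨t, ⟨j, hj⟩, ht⟩ := exists_two_elt x hx
  refine ⟨⟨t, ⟨j, hj⟩, ht⟩, ?_, ?_⟩
  · intro hodd
    by_contra hne
    have hne' : x⁻¹ ≠ x := by
      intro h
      apply hne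
      calc x ^ 2 = x * x := pow_two x
        _ = x⁻¹ * x := by rw [h]
        _ = 1 := by group
    have := even_index_of_ne x t ht hne'
    exact (Nat.not_even_iff_odd.mpr hodd) this
  · intro N _ hodd
    have htN : t ∈ N := quot_eq_one_of_orderOf N hodd t j (by rw [← hj]; exact pow_orderOf_eq_one t)
    have hx2 : x ^ 2 ^ 1 * 1 ∈ N := by
      -- x² = x * (t x⁻¹ t⁻¹)⁻¹ ... use normality: x * x = x * (t * x * t⁻¹)⁻¹
      have h1 : t * x⁻¹ * t⁻¹ = x := by
        have : t * x⁻¹ * t⁻¹ = (t * x * t⁻¹)⁻¹ := by group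
        rw [this, ht, inv_inv]
      -- x² = x * t x⁻¹ t⁻¹ ... gives x * x = (x * t * x⁻¹) * t⁻¹ ∈ N
      have h2 : x ^ 2 ^ 1 * 1 = (x * t * x⁻¹) * t⁻¹ := by
        rw [pow_one, mul_one, pow_two]
        calc x * x = x * (t * x⁻¹ * t⁻¹) := by rw [h1]
          _ = (x * t * x⁻¹) * t⁻¹ := by group
      rw [h2]
      exact N.mul_mem ((inferInstance : N.Normal).conj_mem t htN x) (N.inv_mem htN)
    have hxN : x ∈ N := by
      rw [← QuotientGroup.eq_one_iff]
      have h1 : orderOf (x : G ⧸ N) ∣ 2 ^ 1 := by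
        apply orderOf_dvd_of_pow_eq_one
        rw [← QuotientGroup.mk_pow]
        rw [mul_one] at hx2
        exact (QuotientGroup.eq_one_iff _).mpr hx2
      have h2 : orderOf (x : G ⧸ N) ∣ N.index := by
        rw [Subgroup.index_eq_card]
        exact orderOf_dvd_natCard _
      have hcop : Nat.Coprime (2 ^ 1) N.index := by
        apply Nat.Coprime.pow_left
        exact (Nat.coprime_two_left).mpr hodd
      have := Nat.eq_one_of_dvd_coprimes hcop h1 h2
      exact orderOf_eq_one_iff.mp this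
    refine ⟨hxN, ?_⟩
    rw [isConj_iff]
    refine ⟨⟨t, htN⟩, ?_⟩
    apply Subtype.ext
    simp only [Subgroup.coe_mul, Subgroup.coe_inv]
    exact ht

end Cfsg.Agent.S3863
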