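import Mathlib
import Cfsg.Statements.S3864
import Cfsg.Agent.Lib.Helper16.DihedralClasses2

set_option autoImplicit false
open Cfsg

namespace Cfsg.Agent.S3864

open Cfsg.Agent.Helper16 in
/-- Let G be a finite group whose Sylow 2-subgroups are dihedral of order 2 ^ n with n ≥ 3, and count the conjugacy classes of involutions of G. Then exactly one of the following holds: there is one class of involutions and no normal subgroup of index 2; there are two classes of involutions, a normal subgroup of index 2 and none of index 4; there are three classes of involutions and G has a normal 2-complement. -/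
theorem result {G : Type*} [Group G] [Finite G] (P : Sylow 2 G) (n : ℕ) (hn : 3 ≤ n) (hdih : Nonempty (↥(P : Subgroup G) ≃* DihedralGroup (2 ^ (n - 1)))) : (Nat.card {C : ConjClasses G // ∃ g : G, ConjClasses.mk g = C ∧ orderOf g = 2} = 1 ∧ ∀ N : Subgroup G, N.Normal → N.index ≠ 2) ∨ (Nat.card {C : ConjClasses G // ∃ g : G, ConjClasses.mk g = C ∧ orderOf g = 2} = 2 ∧ (∃ N : Subgroup G, N.Normal ∧ N.index = 2) ∧ ∀ N : Subgroup G, N.Normal → N.index ≠ 4) ∨ (Nat.card {C : ConjClasses G // ∃ g : G, ConjClasses.mk g = C ∧ orderOf g = 2} = 3 ∧ Cfsg.HasNormalPComplement 2 G) := by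
  have hF : Fact (Nat.Prime 2) := ⟨Nat.prime_two⟩
  obtain ⟨e⟩ := hdih
  obtain ⟨a, j, h, hnj⟩ := exists_isDihedralSub (P : Subgroup G) P.isPGroup' (2 ^ (n - 1)) e
  have hj : j = n - 1 := (Nat.pow_right_injective (le_refl 2) hnj).symm
  have hj2 : 2 ≤ j := by omega
  have hj1 : 1 ≤ j := by omega
  obtain ⟨x, hx, hxa⟩ := h.exists_out
  set z : G := a ^ 2 ^ (j - 1) with hz
  have hzo : orderOf z = 2 := h.z_orderOf hj1
  have hxo : orderOf x = 2 := h.out_orderOf hx hxa
  have haxo : orderOf (a * x) = 2 := h.out_orderOf (h.ax_mem hx) (h.ax_notMem hxa)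
  -- the set of classes of involutions
  have hset : {C : ConjClasses G | ∃ g : G, ConjClasses.mk g = C ∧ orderOf g = 2} =
      {ConjClasses.mk z, ConjClasses.mk x, ConjClasses.mk (a * x)} := by
    ext C
    simp only [Set.mem_ofPred_eq, Set.mem_insert_iff, Set.mem_singleton_iff]
    constructor
    · rintro ⟨g, rfl, hg⟩
      obtain ⟨c, hc⟩ := Cfsg.Agent.Helper9.exists_conj_mem_sylow P g ⟨1, by rw [hg, pow_one]⟩
      have hco : orderOf (c * g * c⁻¹) = 2 := by
        have : c * g * c⁻¹ = MulAut.conj c g := by rw [MulAut.conj_apply]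
        rw [this, MulEquiv.orderOf_eq, hg]
      have hgc : IsConj g (c * g * c⁻¹) := isConj_iff.2 ⟨c, rfl⟩
      rcases h.involution_cases hj1 hco with h1 | h1
      · obtain ⟨p, hp | hp⟩ := h.out_conj hx hxa hc h1
        · right; left
          rw [ConjClasses.mk_eq_mk_iff_isConj]
          exact hgc.trans (isConj_iff.2 ⟨p, hp⟩)
        · right; right
          rw [ConjClasses.mk_eq_mk_iff_isConj]
          exact hgc.trans (isConj_iff.2 ⟨p, hp⟩)
      · left
        rw [ConjClasses.mk_eq_mk_iff_isConj, hz, ← h1]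
        exact hgc
    · rintro (rfl | rfl | rfl)
      · exact ⟨z, rfl, hzo⟩
      · exact ⟨x, rfl, hxo⟩
      · exact ⟨a * x, rfl, haxo⟩
  have hcard : Nat.card {C : ConjClasses G // ∃ g : G, ConjClasses.mk g = C ∧ orderOf g = 2} =
      Set.ncard ({ConjClasses.mk z, ConjClasses.mk x, ConjClasses.mk (a * x)} :
        Set (ConjClasses G)) := by
    rw [← hset]
    exact Nat.card_coe_set_eq _
  rw [hcard]
  by_cases hNC : Cfsg.HasNormalPComplement 2 G
  · -- three classes
    right; right
    refine ⟨?_, hNC⟩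
    obtain ⟨K, hK, hKc⟩ := isComplement'_sylow_of_hasNormalPComplement hNC P
    obtain ⟨h1, h2, h3⟩ := h.not_conj_of_normal_complement P hj1 hK hKc hx hxa
    rw [Set.ncard_eq_three]
    refine ⟨_, _, _, ?_, ?_, ?_, rfl⟩
    · rw [Ne, ConjClasses.mk_eq_mk_iff_isConj]; exact h1
    · rw [Ne, ConjClasses.mk_eq_mk_iff_isConj]; exact h2
    · rw [Ne, ConjClasses.mk_eq_mk_iff_isConj]; exact h3
  · have hnc : ¬ ∃ N : Subgroup G, N.Normal ∧ N.IsComplement' (P : Subgroup G) := by
      rintro ⟨N, hN, hNc⟩
      exact hNC ⟨P, N, hN, hNc⟩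
    have hfuse := h.conj_z_of_no_complement P hj1 hnc hx hxa
    by_cases h2 : ∃ N : Subgroup G, N.Normal ∧ N.index = 2
    · -- two classes
      right; left
      obtain ⟨N, hN, hNi⟩ := h2
      have hnotall := h.not_all_conj_of_index_two P hj2 hN hNi hx hxa
      refine ⟨?_, ⟨N, hN, hNi⟩, ?_⟩
      · rcases hfuse with h1 | h1
        · have h3 : ¬ IsConj z (a * x) := fun h3 => hnotall ⟨h1, h3⟩
          have heq : ConjClasses.mk z = ConjClasses.mk x :=
            ConjClasses.mk_eq_mk_iff_isConj.2 h1
          rw [heq, Set.insert_eq_of_mem (Set.mem_insert _ _)]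
          apply Set.ncard_pair
          rw [Ne, ← heq, ConjClasses.mk_eq_mk_iff_isConj]
          exact h3
        · have h3 : ¬ IsConj z x := fun h3 => hnotall ⟨h3, h1⟩
          have heq : ConjClasses.mk z = ConjClasses.mk (a * x) :=
            ConjClasses.mk_eq_mk_iff_isConj.2 h1
          have hs : ({ConjClasses.mk z, ConjClasses.mk x, ConjClasses.mk (a * x)} :
              Set (ConjClasses G)) = {ConjClasses.mk z, ConjClasses.mk x} := by
            rw [← heq]
            ext C
            simp only [Set.mem_insert_iff, Set.mem_singleton_iff]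
            tauto
          rw [hs]
          apply Set.ncard_pair
          rw [Ne, ConjClasses.mk_eq_mk_iff_isConj]
          exact h3
      · intro M hM hMi
        obtain ⟨h3, h4⟩ := h.not_conj_of_index_four P hj2 hM hMi hx hxa
        rcases hfuse with h1 | h1
        · exact h3 h1
        · exact h4 h1
    · -- one class
      left
      push Not at h2
      refine ⟨?_, h2⟩
      obtain ⟨g₁, hg₁⟩ := involution_conj_of_cyclic_index_two P hj1 h.mem h.hao h.card h2 x hxo
      obtain ⟨g₂, hg₂⟩ := involution_conj_of_cyclic_index_two P hj1 h.mem h.hao h.card h2 (a * x)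
        haxo
      have e1 : ConjClasses.mk x = ConjClasses.mk z :=
        ConjClasses.mk_eq_mk_iff_isConj.2 (isConj_iff.2 ⟨g₁, hg₁⟩)
      have e2 : ConjClasses.mk (a * x) = ConjClasses.mk z :=
        ConjClasses.mk_eq_mk_iff_isConj.2 (isConj_iff.2 ⟨g₂, hg₂⟩)
      rw [e1, e2]
      simp

end Cfsg.Agent.S3864
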