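import Mathlib
import Cfsg.Statements.S3865
import Cfsg.Agent.Lib.MCQ.MCQDefs
import Cfsg.Agent.Lib.MCQ.MCQUOdd
import Cfsg.Agent.Lib.MCQ.MCQUTwo
import Cfsg.Agent.Lib.MCQ.MCQBig
import Cfsg.Agent.Lib.MCQ.MCQSmall
import Cfsg.Agent.Lib.MCQ.MCQQS

set_option autoImplicit false
open Cfsg

namespace Cfsg.Agent.S3865

open Cfsg.Agent.Helper18.MCQ Cfsg.Agent.Helper21.MC

/-- Let G be a finite group whose Sylow p-subgroup P has order p ^ n with n ≥ 2 and nilpotency class n - 1 (maximal class), whose largest normal subgroup of order prime to p is trivial, and which has no proper normal subgroup of index prime to p. Then either some x ∈ P has a centralizer in G whose order has p-part p ^ 2, or G is quasisimple with centre of order at most p. -/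
theorem result {G : Type*} [Group G] [Finite G] (p : ℕ) [Fact p.Prime] (P : Sylow p G) (n : ℕ) (hP : Nat.card P = p ^ n) (hn : 2 ≤ n) (hmax : Group.nilpotencyClass ↥(P : Subgroup G) = n - 1) (hcore : Cfsg.pPrimeCore p G = ⊥) (hres : ∀ N : Subgroup G, N.Normal → (N.index).Coprime p → N = ⊤) : (∃ x ∈ (P : Subgroup G), (Nat.card (Subgroup.centralizer ({x} : Set G))).factorization p = 2) ∨ (Cfsg.IsQuasisimple G ∧ Nat.card (Subgroup.center G) ≤ p) := by
  have hp : p.Prime := Fact.out
  by_cases hgood : ∃ x ∈ (P : Subgroup G),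
      (Nat.card (Subgroup.centralizer ({x} : Set G))).factorization p = 2
  · exact Or.inl hgood
  right
  have hNG : NoGood p P := by
    intro x hx h2
    exact hgood ⟨x, hx, h2⟩
  have hY : IsMC p n ↥(P : Subgroup G) := ⟨hP, hmax⟩
  -- n ≠ 2
  have hn3 : 3 ≤ n := by
    by_contra hlt
    have hn2 : n = 2 := by omega
    apply hgood
    refine ⟨1, Subgroup.one_mem _, ?_⟩
    have hc : Subgroup.centralizer ({1} : Set G) = ⊤ := by
      rw [eq_top_iff]
      intro g _
      rw [Subgroup.mem_centralizer_iff]
      intro h hh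
      rw [Set.mem_singleton_iff] at hh
      rw [hh, one_mul, mul_one]
    rw [hc, Subgroup.card_top]
    have h1 := P.card_eq_multiplicity
    rw [hP, hn2] at h1
    exact (Nat.pow_right_injective hp.two_le h1).symm
  have hP3 : p ^ 3 ≤ Nat.card (P : Subgroup G) := by
    have : Nat.card (P : Subgroup G) = p ^ n := hP
    rw [this]
    exact Nat.pow_le_pow_right hp.pos hn3
  have hna : ¬ ∀ a b : ↥(P : Subgroup G), a * b = b * a := by
    intro hab
    let _ : CommGroup ↥(P : Subgroup G) := { (inferInstance : Group ↥(P : Subgroup G)) with mul_comm := hab }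
    have h1 : Group.nilpotencyClass ↥(P : Subgroup G) ≤ 1 := CommGroup.nilpotencyClass_le_one
    omega
  have hD : NormDich p P := by
    rcases Nat.lt_or_ge n 4 with h4 | h4
    · have hn3' : n = 3 := by omega
      subst hn3'
      exact normDich_three P hY hcore hres hNG
    · by_cases hp2 : p = 2
      · subst hp2
        obtain ⟨H₁, H₂, hU⟩ := exists_unifHyp_two h4 hY
        exact normDich_big P h4 hY hU hcore hres hNG
      · obtain ⟨H₁, H₂, hU⟩ := exists_unifHyp_odd h4 hY hp2
        exact normDich_big P h4 hY hU hcore hres hNG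
  exact quasisimple_of_normDich P hP3 hna hD

end Cfsg.Agent.S3865
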