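import Mathlib
import Cfsg.Statements.S3866

set_option autoImplicit false
open Cfsg

namespace Cfsg.Agent.S3866

/-- Let A be a commutative normal subgroup of the finite group G with G generated by A and an element x. Then a ↦ x a x⁻¹ a⁻¹ is a surjective homomorphism from A onto the commutator subgroup of G whose kernel is the centralizer of x in A; in particular the commutator subgroup has order equal to the index in A of that centralizer. -/
theorem result {G : Type*} [Group G] [Finite G] (A : Subgroup G) [A.Normal] (hA : IsMulCommutative A) (x : G) (hgen : A ⊔ Subgroup.zpowers x = ⊤) : (∀ a ∈ A, x * a * x⁻¹ * a⁻¹ ∈ commutator G) ∧ (∀ c ∈ commutator G, ∃ a ∈ A, x * a * x⁻¹ * a⁻¹ = c) ∧ (∀ a ∈ A, ∀ b ∈ A, x * (a * b) * x⁻¹ * (a * b)⁻¹ = (x * a * x⁻¹ * a⁻¹) * (x * b * x⁻¹ * b⁻¹)) ∧ Nat.card (commutator G) * Nat.card ↥(A ⊓ Subgroup.centralizer ({x} : Set G)) = Nat.card A := by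
  classical
  have hcomm : ∀ a ∈ A, ∀ b ∈ A, a * b = b * a := by
    intro a ha b hb
    have := mul_comm' (⟨a, ha⟩ : A) ⟨b, hb⟩
    exact congrArg Subtype.val this
  have hconj : ∀ a ∈ A, x * a * x⁻¹ ∈ A := fun a ha => ‹A.Normal›.conj_mem a ha x
  have hconj' : ∀ a ∈ A, x⁻¹ * a * x ∈ A := fun a ha => by
    have := ‹A.Normal›.conj_mem a ha x⁻¹
    simpa using this
  have hmemA : ∀ a ∈ A, x * a * x⁻¹ * a⁻¹ ∈ A :=
    fun a ha => A.mul_mem (hconj a ha) (A.inv_mem ha)
  have hmul : ∀ a ∈ A, ∀ b ∈ A,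
      x * (a * b) * x⁻¹ * (a * b)⁻¹ = (x * a * x⁻¹ * a⁻¹) * (x * b * x⁻¹ * b⁻¹) := by
    intro a ha b hb
    have h1 := hcomm a⁻¹ (A.inv_mem ha) (x * b * x⁻¹ * b⁻¹) (hmemA b hb)
    calc x * (a * b) * x⁻¹ * (a * b)⁻¹
        = (x * a * x⁻¹) * ((x * b * x⁻¹ * b⁻¹) * a⁻¹) := by group
      _ = (x * a * x⁻¹) * (a⁻¹ * (x * b * x⁻¹ * b⁻¹)) := by rw [h1]
      _ = (x * a * x⁻¹ * a⁻¹) * (x * b * x⁻¹ * b⁻¹) := by group
  have h1c : ∀ a ∈ A, x * a * x⁻¹ * a⁻¹ ∈ commutator G := by
    intro a _
    rw [commutator_def]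
    exact Subgroup.commutator_mem_commutator (Subgroup.mem_top x) (Subgroup.mem_top a)
  -- the homomorphism
  let φ : A →* A :=
    { toFun := fun a => ⟨x * a * x⁻¹ * a⁻¹, hmemA a a.2⟩
      map_one' := by ext; simp
      map_mul' := fun a b => Subtype.ext (hmul a a.2 b b.2) }
  have hφ : ∀ a : A, (φ a : G) = x * a * x⁻¹ * (a : G)⁻¹ := fun a => rfl
  set K : Subgroup G := φ.range.map A.subtype with hK
  have hKmem : ∀ g : G, g ∈ K ↔ ∃ a ∈ A, x * a * x⁻¹ * a⁻¹ = g := by
    intro g
    rw [hK, Subgroup.mem_map]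
    constructor
    · rintro ⟨b, ⟨a, rfl⟩, rfl⟩
      exact ⟨a, a.2, rfl⟩
    · rintro ⟨a, ha, rfl⟩
      exact ⟨φ ⟨a, ha⟩, ⟨⟨a, ha⟩, rfl⟩, rfl⟩
  have hKA : K ≤ A := by
    intro g hg
    obtain ⟨a, ha, rfl⟩ := (hKmem g).mp hg
    exact hmemA a ha
  -- K is normal
  have hKx : ∀ k ∈ K, x * k * x⁻¹ ∈ K := by
    intro k hk
    obtain ⟨a, ha, rfl⟩ := (hKmem k).mp hk
    exact (hKmem _).mpr ⟨x * a * x⁻¹, hconj a ha, by group⟩
  have hKx' : ∀ k ∈ K, x⁻¹ * k * x ∈ K := by
    intro k hk
    obtain ⟨a, ha, rfl⟩ := (hKmem k).mp hk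
    exact (hKmem _).mpr ⟨x⁻¹ * a * x, hconj' a ha, by group⟩
  have hnorm : Subgroup.normalizer (K : Set G) = ⊤ := by
    rw [eq_top_iff, ← hgen, sup_le_iff]
    constructor
    · intro a ha
      rw [Subgroup.mem_normalizer_iff]
      intro h
      constructor
      · intro hh
        have : a * h * a⁻¹ = h := by
          rw [hcomm a ha h (hKA hh)]; group
        rw [this]; exact hh
      · intro hh
        have hA' : h ∈ A := by
          have := A.mul_mem (A.mul_mem (A.inv_mem ha) (hKA hh)) ha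
          simpa [mul_assoc] using this
        have : a * h * a⁻¹ = h := by
          rw [hcomm a ha h hA']; group
        rw [this] at hh; exact hh
    · rw [Subgroup.zpowers_le]
      rw [Subgroup.mem_normalizer_iff]
      intro h
      constructor
      · exact hKx h
      · intro hh
        have := hKx' _ hh
        simpa [mul_assoc] using this
  have : K.Normal := Subgroup.normalizer_eq_top_iff.mp hnorm
  -- the quotient is commutative
  let π := QuotientGroup.mk' K
  have hπsurj : Function.Surjective π := QuotientGroup.mk'_surjective K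
  let S : Set G := (A : Set G) ∪ {x}
  have hS : Subgroup.closure S = ⊤ := by
    rw [Subgroup.closure_union, Subgroup.closure_eq, ← Subgroup.zpowers_eq_closure, hgen]
  have hSc : ∀ s ∈ S, ∀ t ∈ S, π s * π t = π t * π s := by
    have hax : ∀ a ∈ A, π x * π a = π a * π x := by
      intro a ha
      rw [← map_mul, ← map_mul]
      change ((x * a : G) : G ⧸ K) = ((a * x : G) : G ⧸ K)
      rw [QuotientGroup.eq_iff_div_mem]
      have : x * a / (a * x) = x * a * x⁻¹ * a⁻¹ := by
        rw [div_eq_mul_inv, mul_inv_rev, mul_assoc, mul_assoc, mul_assoc]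
      rw [this]
      exact (hKmem _).mpr ⟨a, ha, rfl⟩
    intro s hs t ht
    rcases hs with hs | hs <;> rcases ht with ht | ht
    · rw [← map_mul, ← map_mul, hcomm s hs t ht]
    · rw [Set.mem_singleton_iff] at ht; subst ht
      exact (hax s hs).symm
    · rw [Set.mem_singleton_iff] at hs; subst hs
      exact hax t ht
    · rw [Set.mem_singleton_iff] at hs ht; subst hs; subst ht; rfl
  have hclos : Subgroup.closure (π '' S) = ⊤ := by
    rw [← MonoidHom.map_closure, hS, Subgroup.map_top_of_surjective π hπsurj]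
  have hcen : ∀ q : G ⧸ K, q ∈ Subgroup.centralizer (π '' S) := by
    intro q
    have h1 : Subgroup.closure (π '' S) ≤ Subgroup.centralizer (π '' S) := by
      rw [Subgroup.closure_le]
      rintro _ ⟨s, hs, rfl⟩
      rw [SetLike.mem_coe, Subgroup.mem_centralizer_iff]
      rintro _ ⟨t, ht, rfl⟩
      exact hSc t ht s hs
    exact h1 (hclos ▸ Subgroup.mem_top q)
  have hQcomm : ∀ q₁ q₂ : G ⧸ K, q₁ * q₂ = q₂ * q₁ := by
    intro q₁ q₂
    have h2 : q₁ ∈ Subgroup.centralizer ((Subgroup.closure (π '' S) : Subgroup (G ⧸ K)) : Set (G ⧸ K)) := by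
      rw [Subgroup.centralizer_closure]; exact hcen q₁
    rw [Subgroup.mem_centralizer_iff] at h2
    exact (h2 q₂ (hclos ▸ Subgroup.mem_top q₂)).symm
  let _ : CommGroup (G ⧸ K) := { (inferInstance : Group (G ⧸ K)) with mul_comm := hQcomm }
  have hcK : commutator G ≤ K := by
    have := Abelianization.commutator_subset_ker π
    rwa [QuotientGroup.ker_mk'] at this
  have hKc : K ≤ commutator G := by
    intro g hg
    obtain ⟨a, ha, rfl⟩ := (hKmem g).mp hg
    exact h1c a ha
  have hKeq : commutator G = K := le_antisymm hcK hKc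
  refine ⟨h1c, ?_, hmul, ?_⟩
  · intro c hc
    exact (hKmem c).mp (hcK hc)
  · -- counting
    have hcard1 : Nat.card (commutator G) = Nat.card φ.range := by
      rw [hKeq, hK]
      exact Nat.card_congr (Subgroup.equivMapOfInjective φ.range A.subtype A.subtype_injective).symm.toEquiv
    have hkeq : φ.ker.map A.subtype = A ⊓ Subgroup.centralizer ({x} : Set G) := by
      ext g
      rw [Subgroup.mem_map, Subgroup.mem_inf, Subgroup.mem_centralizer_iff]
      constructor
      · rintro ⟨a, ha, rfl⟩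
        refine ⟨a.2, ?_⟩
        intro y hy
        rw [Set.mem_singleton_iff] at hy; subst hy
        rw [MonoidHom.mem_ker] at ha
        have h3 : y * (a : G) * y⁻¹ * (a : G)⁻¹ = 1 := by
          have := congrArg Subtype.val ha
          rwa [hφ] at this
        have : y * (a : G) * y⁻¹ * (a : G)⁻¹ * ((a : G) * y) = 1 * ((a : G) * y) := by rw [h3]
        rw [one_mul] at this
        change y * (a : G) = (a : G) * y
        rw [← this]
        group
      · rintro ⟨hgA, hc⟩
        refine ⟨⟨g, hgA⟩, ?_, rfl⟩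
        rw [MonoidHom.mem_ker]
        apply Subtype.ext
        rw [hφ]
        have h3 : x * g = g * x := hc x (Set.mem_singleton x)
        simp only [Subgroup.coe_one]
        rw [h3]; group
    have hker : Nat.card ↥(A ⊓ Subgroup.centralizer ({x} : Set G)) = Nat.card φ.ker := by
      rw [← hkeq]
      exact Nat.card_congr (Subgroup.equivMapOfInjective φ.ker A.subtype A.subtype_injective).symm.toEquiv
    rw [hcard1, hker, ← Subgroup.index_ker, mul_comm]
    exact Subgroup.card_mul_index φ.ker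

end Cfsg.Agent.S3866
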