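import Mathlib
import Cfsg.Statements.S3867
import Cfsg.Agent.Lib.Helper21.SylowCount

set_option autoImplicit false
open Cfsg

namespace Cfsg.Agent.S3867

open Subgroup Cfsg.Agent.Helper21

/-- Let M and N be nontrivial normal subgroups of the finite group G with M ⊓ N trivial, and let p be a prime. Writing n(X) for the number of Sylow p-subgroups of a group X, one has n(G) · n(G/MN) = n(G/M) · n(G/N). -/
theorem result {G : Type*} [Group G] [Finite G] (p : ℕ) [Fact p.Prime] (M N : Subgroup G) [M.Normal] [N.Normal] (hM : M ≠ ⊥) (hN : N ≠ ⊥) (hMN : M ⊓ N = ⊥) : Nat.card (Sylow p G) * Nat.card (Sylow p (G ⧸ (M ⊔ N))) = Nat.card (Sylow p (G ⧸ M)) * Nat.card (Sylow p (G ⧸ N)) := by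
  obtain ⟨P⟩ : Nonempty (Sylow p G) := inferInstance
  set A := normalizer ((P : Subgroup G) : Set G) with hA
  have h0 : Nat.card (Sylow p G) = A.index := Sylow.card_eq_index_normalizer P
  have h1 : Nat.card (Sylow p (G ⧸ M)) = (M ⊔ A).index := card_sylow_quotient P M
  have h2 : Nat.card (Sylow p (G ⧸ N)) = (N ⊔ A).index := card_sylow_quotient P N
  have h3 : Nat.card (Sylow p (G ⧸ (M ⊔ N))) = ((M ⊔ N) ⊔ A).index := card_sylow_quotient P (M ⊔ N)
  rw [h0, h1, h2, h3]
  -- (P ⊔ M) ⊓ (P ⊔ N) = P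
  have hPMN : ((P : Subgroup G) ⊔ M) ⊓ ((P : Subgroup G) ⊔ N) = (P : Subgroup G) := by
    have hpg : IsPGroup p (((P : Subgroup G) ⊔ M) ⊓ ((P : Subgroup G) ⊔ N) : Subgroup G) := by
      obtain ⟨k, hk⟩ := P.2.exists_card_eq
      intro x
      refine ⟨k, ?_⟩
      have hx1 : (x : G) ∈ (P : Subgroup G) ⊔ M := x.2.1
      have hx2 : (x : G) ∈ (P : Subgroup G) ⊔ N := x.2.2
      have key : ∀ (L : Subgroup G) [L.Normal], (x : G) ∈ (P : Subgroup G) ⊔ L →
          (x : G) ^ p ^ k ∈ L := by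
        intro L _ hx
        rw [mem_sup_of_normal_right] at hx
        obtain ⟨y, hy, z, hz, hyz⟩ := hx
        rw [← QuotientGroup.eq_one_iff, QuotientGroup.mk_pow, ← hyz, QuotientGroup.mk_mul,
          (QuotientGroup.eq_one_iff z).mpr hz, mul_one, ← QuotientGroup.mk_pow]
        have : y ^ p ^ k = 1 := by
          have := pow_card_eq_one' (G := (P : Subgroup G)) (x := ⟨y, hy⟩)
          rw [hk] at this
          exact congrArg Subtype.val this
        rw [this]
        rfl
      have h12 : (x : G) ^ p ^ k ∈ M ⊓ N := ⟨key M hx1, key N hx2⟩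
      rw [hMN, mem_bot] at h12
      exact Subtype.ext (by simpa using h12)
    exact P.is_maximal' hpg (le_inf le_sup_left le_sup_left)
  -- key identity
  have hkey : A ⊓ M = (N ⊔ A) ⊓ M := by
    apply le_antisymm (inf_le_inf_right M le_sup_right)
    rintro x ⟨hx1, hx2⟩
    refine ⟨?_, hx2⟩
    replace hx1 : x ∈ N ⊔ A := hx1
    replace hx2 : x ∈ M := hx2
    rw [mem_sup_of_normal_left] at hx1
    obtain ⟨n, hn, a, ha, rfl⟩ := hx1
    apply mem_normalizer_fintype
    intro y hy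
    have hyP : y ∈ (P : Subgroup G) := hy
    have h1 : n * a * y * (n * a)⁻¹ ∈ (P : Subgroup G) ⊔ M := by
      apply mul_mem (mul_mem (mem_sup_right hx2) (mem_sup_left hyP))
      exact inv_mem (mem_sup_right hx2)
    have h2 : n * a * y * (n * a)⁻¹ ∈ (P : Subgroup G) ⊔ N := by
      have : n * a * y * (n * a)⁻¹ = n * (a * y * a⁻¹) * n⁻¹ := by group
      rw [this]
      apply mul_mem (mul_mem (mem_sup_right hn) (mem_sup_left _)) (inv_mem (mem_sup_right hn))
      exact (mem_normalizer_iff.mp ha y).mp hyP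
    have : n * a * y * (n * a)⁻¹ ∈ ((P : Subgroup G) ⊔ M) ⊓ ((P : Subgroup G) ⊔ N) := ⟨h1, h2⟩
    rw [hPMN] at this
    exact this
  have e1 : A.index = A.relIndex M * (M ⊔ A).index := by
    rw [← relIndex_sup_eq_of_normal A M, sup_comm]
    exact (relIndex_mul_index le_sup_right).symm
  have e2 : (N ⊔ A).index = A.relIndex M * ((M ⊔ N) ⊔ A).index := by
    have h5 : (M ⊔ N) ⊔ A = (N ⊔ A) ⊔ M := by
      rw [sup_comm M N, sup_assoc, sup_comm M A, ← sup_assoc]
    rw [h5, ← inf_relIndex_right A M, hkey, inf_relIndex_right,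
      ← relIndex_sup_eq_of_normal (N ⊔ A) M]
    exact (relIndex_mul_index le_sup_left).symm
  rw [e1, e2]
  ring

end Cfsg.Agent.S3867
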