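import Mathlib
import Cfsg.Statements.S3869
import Cfsg.Agent.Lib.Helper21.IrredPrimeAction

set_option autoImplicit false
set_option linter.style.haveILetI false
open Cfsg

namespace Cfsg.Agent.S3869

open Subgroup
open scoped IsMulCommutative

/-- Coset decomposition relative to a normal subgroup of prime index. -/
theorem exists_pow_mul {G : Type*} [Group G] [Finite G] {p : ℕ} [Fact p.Prime] (A : Subgroup G)
    [A.Normal] (hidx : A.index = p) {x : G} (hx : x ∉ A) (g : G) :
    ∃ (i : ℕ) (a : G), a ∈ A ∧ g = x ^ i * a := by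
  have hp : p.Prime := Fact.out
  have hcardQ : Nat.card (G ⧸ A) = p := by rw [← Subgroup.index_eq_card, hidx]
  haveI : Fact (Nat.card (G ⧸ A)).Prime := ⟨hcardQ ▸ hp⟩
  have hx1 : (x : G ⧸ A) ≠ 1 := by
    intro h
    exact hx ((QuotientGroup.eq_one_iff x).mp h)
  have htop := zpowers_eq_top_of_prime_card (G := G ⧸ A) (g := (x : G ⧸ A)) rfl hx1
  have hg : (g : G ⧸ A) ∈ zpowers (x : G ⧸ A) := htop ▸ mem_top _
  rw [← mem_powers_iff_mem_zpowers, Submonoid.mem_powers_iff] at hg
  obtain ⟨i, hi⟩ := hg
  refine ⟨i, (x ^ i)⁻¹ * g, ?_, by group⟩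
  rw [← QuotientGroup.eq, QuotientGroup.mk_pow, hi]

/-- If `G = ⟨x⟩ A` with `A` abelian and `x` centralizing `A`, then `G` is abelian. -/
theorem isMulCommutative_of_commute {G : Type*} [Group G] (A : Subgroup G)
    (hAcomm : ∀ a ∈ A, ∀ b ∈ A, a * b = b * a) (x : G)
    (hdecomp : ∀ g : G, ∃ (i : ℕ) (a : G), a ∈ A ∧ g = x ^ i * a)
    (hxa : ∀ a ∈ A, Commute x a) : IsMulCommutative G := by
  refine ⟨⟨fun g h => ?_⟩⟩
  obtain ⟨i, c, hc, rfl⟩ := hdecomp g
  obtain ⟨j, d, hd, rfl⟩ := hdecomp h
  have c1 : Commute (x ^ i) (x ^ j) := (Commute.refl x).pow_pow i j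
  have c2 : Commute (x ^ i) d := (hxa d hd).pow_left i
  have c3 : Commute c (x ^ j) := ((hxa c hc).pow_left j).symm
  have c4 : Commute c d := hAcomm c hc d hd
  exact (c1.mul_right c2).mul_left (c3.mul_right c4)

/-- The order of a minimal normal elementary abelian `q`-subgroup of prime index `p` in a
non-abelian group. -/
theorem card_of_minimal_normal {G : Type*} [Group G] [Finite G] {p q : ℕ} [Fact p.Prime]
    (hq : q.Prime) (hpq : q ≠ p)
    (hna : ¬ IsMulCommutative G) (A : Subgroup G) [A.Normal] (hA : Cfsg.IsElementaryAbelian q A)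
    (hidx : A.index = p)
    (hmin : ∀ B : Subgroup G, B.Normal → B ≤ A → B = ⊥ ∨ B = A) :
    Nat.card ↥A = q ^ orderOf (q : ZMod p) := by
  classical
  haveI : Fact q.Prime := ⟨hq⟩
  have hp : p.Prime := Fact.out
  haveI : IsMulCommutative A := hA.1
  have hcardQ : Nat.card (G ⧸ A) = p := by rw [← Subgroup.index_eq_card, hidx]
  obtain ⟨x, hx⟩ : ∃ x : G, x ∉ A := by
    by_contra h
    push Not at h
    have : A = ⊤ := eq_top_iff.mpr fun g _ => h g
    rw [this, Subgroup.index_top] at hidx
    exact hp.one_lt.ne hidx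
  have hdecomp : ∀ g : G, ∃ (i : ℕ) (a : G), a ∈ A ∧ g = x ^ i * a := by
    intro g
    haveI : Fact (Nat.card (G ⧸ A)).Prime := ⟨hcardQ ▸ hp⟩
    have hx1 : (x : G ⧸ A) ≠ 1 := by
      intro h
      exact hx ((QuotientGroup.eq_one_iff x).mp h)
    have htop := zpowers_eq_top_of_prime_card (G := G ⧸ A) (g := (x : G ⧸ A)) rfl hx1
    have hg : (g : G ⧸ A) ∈ zpowers (x : G ⧸ A) := htop ▸ mem_top _
    rw [← mem_powers_iff_mem_zpowers, Submonoid.mem_powers_iff] at hg
    obtain ⟨i, hi⟩ := hg
    refine ⟨i, (x ^ i)⁻¹ * g, ?_, by group⟩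
    rw [← QuotientGroup.eq, QuotientGroup.mk_pow, hi]
  have hxp : x ^ p ∈ A := by
    rw [← QuotientGroup.eq_one_iff, QuotientGroup.mk_pow, ← hcardQ]
    exact pow_card_eq_one'
  have hAcomm : ∀ a ∈ A, ∀ b ∈ A, a * b = b * a := fun a ha b hb =>
    Subgroup.mul_comm_of_mem_isMulCommutative A ha hb
  -- `A` is non-trivial
  have hAne : A ≠ ⊥ := by
    intro h0
    apply hna
    have hc : Nat.card G = p := by
      rw [← Subgroup.index_bot, ← h0, hidx]
    haveI : IsCyclic G := isCyclic_of_prime_card hc
    exact IsCyclic.commutative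
  -- the vector space
  haveI instM : Module (ZMod q) (Additive A) := AddCommGroup.zmodModule (n := q) (fun v => by
    have h1 : (Additive.toMul v) ^ q = 1 := by
      apply Subtype.ext
      rw [Subgroup.coe_pow]
      exact hA.2 _ (Additive.toMul v).2
    exact congrArg Additive.ofMul h1)
  haveI : Nontrivial (Additive A) := by
    obtain ⟨a, ha⟩ := (Subgroup.ne_bot_iff_exists_ne_one).mp hAne
    exact ⟨⟨Additive.ofMul a, 0, fun h => ha (congrArg Additive.toMul h)⟩⟩
  obtain ⟨T, hTapp⟩ : ∃ T : Additive A →ₗ[ZMod q] Additive A,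
      ∀ v : Additive A, T v = Additive.ofMul (MulAut.conjNormal x (Additive.toMul v)) :=
    ⟨(MonoidHom.toAdditive (MulAut.conjNormal x : MulAut A).toMonoidHom).toZModLinearMap q,
      fun v => rfl⟩
  have hiter : ∀ (i : ℕ) (v : Additive A),
      (T ^ i) v = Additive.ofMul (MulAut.conjNormal (x ^ i) (Additive.toMul v)) := by
    intro i
    induction i with
    | zero => intro v; simp
    | succ i ih =>
      intro v
      rw [pow_succ', Module.End.mul_apply, ih, hTapp, pow_succ', map_mul, MulAut.mul_apply]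
      rfl
  have hTp : T ^ p = 1 := by
    refine LinearMap.ext fun v => ?_
    rw [hiter, Module.End.one_apply]
    apply congrArg Additive.ofMul
    apply Subtype.ext
    rw [MulAut.conjNormal_apply]
    have := hAcomm _ hxp _ (Additive.toMul v).2
    rw [this, mul_inv_cancel_right]
    rfl
  have hT1 : T ≠ 1 := by
    intro h1
    apply hna
    have hxa : ∀ a ∈ A, Commute x a := by
      intro a ha
      have := congrArg (fun f => f (Additive.ofMul (⟨a, ha⟩ : A))) h1
      simp only [hTapp] at this
      have h2 : ((MulAut.conjNormal x (⟨a, ha⟩ : A) : A) : G) = a :=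
        congrArg (fun w => ((Additive.toMul w : A) : G)) this
      rw [MulAut.conjNormal_apply] at h2
      show x * a = a * x
      calc x * a = (x * a * x⁻¹) * x := by group
        _ = a * x := by
          have h3 : x * ((⟨a, ha⟩ : A) : G) * x⁻¹ = a := h2
          rw [h3]
    refine ⟨⟨fun g h => ?_⟩⟩
    obtain ⟨i, c, hc, rfl⟩ := hdecomp g
    obtain ⟨j, d, hd, rfl⟩ := hdecomp h
    have c1 : Commute (x ^ i) (x ^ j) := (Commute.refl x).pow_pow i j
    have c2 : Commute (x ^ i) d := (hxa d hd).pow_left i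
    have c3 : Commute c (x ^ j) := ((hxa c hc).pow_left j).symm
    have c4 : Commute c d := hAcomm c hc d hd
    exact (c1.mul_right c2).mul_left (c3.mul_right c4)
  have hirr : ∀ W : Submodule (ZMod q) (Additive A), (∀ v ∈ W, T v ∈ W) → W = ⊥ ∨ W = ⊤ := by
    intro W hW
    have hWi : ∀ (i : ℕ), ∀ v ∈ W, (T ^ i) v ∈ W := by
      intro i
      induction i with
      | zero => intro v hv; simpa using hv
      | succ i ih =>
        intro v hv
        rw [pow_succ', Module.End.mul_apply]
        exact hW _ (ih v hv)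
    let B' : Subgroup A :=
      { carrier := {a | Additive.ofMul a ∈ W}
        mul_mem' := fun {a b} ha hb => W.add_mem ha hb
        one_mem' := W.zero_mem
        inv_mem' := fun {a} ha => W.neg_mem ha }
    have hB'mem : ∀ a : A, a ∈ B' ↔ Additive.ofMul a ∈ W := fun a => Iff.rfl
    set B : Subgroup G := B'.map A.subtype with hB
    have hBA : B ≤ A := Subgroup.map_subtype_le _
    have hBn : B.Normal := by
      constructor
      intro b hb g
      obtain ⟨a, ha, rfl⟩ := hb
      obtain ⟨i, c, hc, rfl⟩ := hdecomp g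
      have h1 := hWi i _ ((hB'mem a).mp ha)
      rw [hiter] at h1
      refine ⟨MulAut.conjNormal (x ^ i) a, h1, ?_⟩
      rw [Subgroup.coe_subtype, MulAut.conjNormal_apply]
      have h2 : c * (a : G) * c⁻¹ = a := by
        rw [hAcomm c hc a a.2, mul_inv_cancel_right]
      calc x ^ i * (a : G) * (x ^ i)⁻¹ = x ^ i * (c * (a : G) * c⁻¹) * (x ^ i)⁻¹ := by rw [h2]
        _ = x ^ i * c * A.subtype a * (x ^ i * c)⁻¹ := by
          rw [Subgroup.coe_subtype]; group
    rcases hmin B hBn hBA with h | h
    · left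
      rw [eq_bot_iff]
      intro v hv
      have h1 : ((Additive.toMul v : A) : G) ∈ B := ⟨Additive.toMul v, hv, rfl⟩
      rw [h, Subgroup.mem_bot] at h1
      have h2 : (Additive.toMul v : A) = 1 := Subtype.ext h1
      rw [Submodule.mem_bot]
      exact congrArg Additive.ofMul h2
    · right
      rw [eq_top_iff]
      intro v _
      have h1 : ((Additive.toMul v : A) : G) ∈ B := by
        rw [h]; exact (Additive.toMul v).2
      obtain ⟨a, ha, hav⟩ := h1
      have h2 : a = Additive.toMul v := Subtype.ext hav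
      rw [h2] at ha
      exact ha
  have := Cfsg.Agent.Helper21.card_eq_of_irreducible_prime_order q p hpq T hTp hT1 hirr
  exact this

theorem isPClosed_of_isPGroup {H : Type*} [Group H] {p : ℕ} [Fact p.Prime] (h : IsPGroup p H) :
    Cfsg.IsPClosed p H := by
  intro Q
  have : (⊤ : Subgroup H) = Q := Q.is_maximal' (h.to_subgroup ⊤) le_top
  rw [← this]
  infer_instance

theorem isPClosed_of_not_dvd {H : Type*} [Group H] [Finite H] {p : ℕ} [Fact p.Prime]
    (h : ¬ p ∣ Nat.card H) : Cfsg.IsPClosed p H := by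
  intro Q
  have : (Q : Subgroup H) = ⊥ := by
    rw [← Subgroup.card_eq_one, Q.card_eq_multiplicity, Nat.factorization_eq_zero_of_not_dvd h,
      pow_zero]
  rw [this]
  infer_instance

theorem isPGroup_of_card_dvd_prime {H : Type*} [Group H] {p : ℕ} [Fact p.Prime]
    (h : Nat.card H ∣ p) : IsPGroup p H := by
  have hp : p.Prime := Fact.out
  rcases (Nat.dvd_prime hp).mp h with h1 | h1
  · exact IsPGroup.of_card (n := 0) (by rw [h1, pow_zero])
  · exact IsPGroup.of_card (n := 1) (by rw [h1, pow_one])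

/-- Let p and q be distinct primes and G a finite non-abelian group with a normal elementary abelian q-subgroup A that is a minimal normal subgroup of G and has index p. Then A has order q^e with e the multiplicative order of q modulo p, and G is minimal non-p-closed: its Sylow p-subgroups are not normal, while in every proper subgroup and in every proper quotient of G the Sylow p-subgroups are normal. -/
theorem result {G : Type*} [Group G] [Finite G] {p q : ℕ} [Fact p.Prime] (hq : q.Prime) (hpq : q ≠ p)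
    (hna : ¬ IsMulCommutative G) (A : Subgroup G) [A.Normal] (hA : Cfsg.IsElementaryAbelian q A) (hidx : A.index = p)
    (hmin : ∀ B : Subgroup G, B.Normal → B ≤ A → B = ⊥ ∨ B = A) :
    Nat.card ↥A = q ^ orderOf (q : ZMod p) ∧ ¬ Cfsg.IsPClosed p G ∧ (∀ H : Subgroup G, H ≠ ⊤ → Cfsg.IsPClosed p ↥H) ∧
      ∀ (N : Subgroup G) [N.Normal], N ≠ ⊥ → Cfsg.IsPClosed p (G ⧸ N) := by
  classical
  have hp : p.Prime := Fact.out
  haveI : Fact q.Prime := ⟨hq⟩
  have hAcomm : ∀ a ∈ A, ∀ b ∈ A, a * b = b * a := by
    haveI := hA.1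
    exact fun a ha b hb => Subgroup.mul_comm_of_mem_isMulCommutative A ha hb
  have hAq : IsPGroup q A := fun a => ⟨1, by
    rw [pow_one]
    exact Subtype.ext (by rw [Subgroup.coe_pow]; exact hA.2 _ a.2)⟩
  have hcard := card_of_minimal_normal hq hpq hna A hA hidx hmin
  have hkey : ∀ x : G, x ∉ A → ¬ (∀ a ∈ A, Commute x a) := fun x hx hc =>
    hna (isMulCommutative_of_commute A hAcomm x (exists_pow_mul A hidx hx) hc)
  refine ⟨hcard, ?_, ?_, ?_⟩
  · intro hcl
    obtain ⟨P⟩ : Nonempty (Sylow p G) := inferInstance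
    have hPn := hcl P
    have hdis : Disjoint (P : Subgroup G) A := IsPGroup.disjoint_of_ne p q hpq.symm _ _ P.2 hAq
    have hpG : p ∣ Nat.card G := hidx ▸ Subgroup.index_dvd_card A
    have hP1 : (P : Subgroup G) ≠ ⊥ := P.ne_bot_of_dvd_card hpG
    obtain ⟨x, hx1⟩ := (Subgroup.ne_bot_iff_exists_ne_one).mp hP1
    have hxA : (x : G) ∉ A := by
      intro hxa
      apply hx1
      have := hdis.le_bot ⟨x.2, hxa⟩
      rw [Subgroup.mem_bot] at this
      exact Subtype.ext this
    exact hkey x hxA (fun a ha =>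
      Subgroup.commute_of_normal_of_disjoint _ _ hPn inferInstance hdis x a x.2 ha)
  · intro H hH
    by_cases hHA : H ≤ A
    · apply isPClosed_of_not_dvd
      intro hdvd
      have hHq : IsPGroup q H := hAq.to_le hHA
      obtain ⟨k, hk⟩ := hHq.exists_card_eq
      rw [hk] at hdvd
      exact hpq ((Nat.prime_dvd_prime_iff_eq hp hq).mp (hp.dvd_of_dvd_pow hdvd)).symm
    · obtain ⟨x, hxH, hxA⟩ := SetLike.not_le_iff_exists.mp hHA
      have hn : (H ⊓ A).Normal := by
        constructor
        intro b hb g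
        obtain ⟨i, c, hc, rfl⟩ := exists_pow_mul A hidx hxA g
        have h2 : c * b * c⁻¹ = b := by rw [hAcomm c hc b hb.2, mul_inv_cancel_right]
        have h3 : x ^ i * c * b * (x ^ i * c)⁻¹ = x ^ i * b * (x ^ i)⁻¹ := by
          calc x ^ i * c * b * (x ^ i * c)⁻¹ = x ^ i * (c * b * c⁻¹) * (x ^ i)⁻¹ := by group
            _ = _ := by rw [h2]
        rw [h3]
        exact ⟨H.mul_mem (H.mul_mem (H.pow_mem hxH i) hb.1) (H.inv_mem (H.pow_mem hxH i)),
          Normal.conj_mem inferInstance b hb.2 _⟩
      rcases hmin (H ⊓ A) hn inf_le_right with h | h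
      · apply isPClosed_of_isPGroup
        apply isPGroup_of_card_dvd_prime
        have h1 : A.relIndex H ∣ A.index := relIndex_dvd_index_of_normal A H
        rw [← inf_relIndex_right, inf_comm, h, relIndex_bot_left, hidx] at h1
        exact h1
      · exfalso
        apply hH
        rw [eq_top_iff]
        intro g _
        obtain ⟨i, c, hc, rfl⟩ := exists_pow_mul A hidx hxA g
        exact H.mul_mem (H.pow_mem hxH i) ((inf_eq_right.mp h) hc)
  · intro N hN hN0
    have hn : (N ⊓ A).Normal := inferInstance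
    rcases hmin (N ⊓ A) hn inf_le_right with h | h
    · exfalso
      obtain ⟨x, hx1⟩ := (Subgroup.ne_bot_iff_exists_ne_one).mp hN0
      have hdis : Disjoint N A := disjoint_iff.mpr h
      have hxA : (x : G) ∉ A := by
        intro hxa
        apply hx1
        have := hdis.le_bot ⟨x.2, hxa⟩
        rw [Subgroup.mem_bot] at this
        exact Subtype.ext this
      exact hkey x hxA (fun a ha =>
        Subgroup.commute_of_normal_of_disjoint _ _ hN inferInstance hdis x a x.2 ha)
    · apply isPClosed_of_isPGroup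
      apply isPGroup_of_card_dvd_prime
      have hAN : A ≤ N := inf_eq_right.mp h
      have h1 : N.index ∣ A.index := Subgroup.index_dvd_of_le hAN
      rw [hidx, Subgroup.index_eq_card] at h1
      exact h1

end Cfsg.Agent.S3869
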