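import Mathlib
import Cfsg.Statements.S3868
import Cfsg.Agent.S3869
import Cfsg.Agent.S0023
import Cfsg.Agent.Lib.Helper21.SylowCount
import Cfsg.Agent.Lib.Helper21.FittingSubgroup
import Cfsg.Agent.Lib.Helper3.PrimSolv

set_option autoImplicit false
set_option linter.style.haveILetI false
open Cfsg

namespace Cfsg.Agent.S3868

open Subgroup Cfsg.Agent.Helper21

variable {G : Type*} [Group G] [Finite G] {p : ℕ} [Fact p.Prime]

/-- If `G/N` is `p`-closed then `PN` is normal. -/
theorem sup_normal (hquo : ∀ (N : Subgroup G) [N.Normal], N ≠ ⊥ → Cfsg.IsPClosed p (G ⧸ N))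
    (P : Sylow p G) (N : Subgroup G) [N.Normal] (hN : N ≠ ⊥) :
    ((P : Subgroup G) ⊔ N).Normal := by
  have h1 := hquo N hN (P.mapSurjective (QuotientGroup.mk'_surjective N))
  rw [Sylow.coe_mapSurjective] at h1
  have h2 := h1.comap (QuotientGroup.mk' N)
  rw [Subgroup.comap_map_eq, QuotientGroup.ker_mk'] at h2
  exact h2

/-- A Sylow subgroup inside a proper normal `p`-closed subgroup is normal. -/
theorem normal_of_le_normal (hsub : ∀ H : Subgroup G, H ≠ ⊤ → Cfsg.IsPClosed p ↥H)
    (P : Sylow p G) (K : Subgroup G) [hK : K.Normal] (hPK : (P : Subgroup G) ≤ K) (hK1 : K ≠ ⊤) :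
    (P : Subgroup G).Normal := by
  have hcl := hsub K hK1
  rw [← normalizer_eq_top_iff, eq_top_iff]
  intro g _
  apply Sylow.smul_eq_iff_mem_normalizer.mp
  have hgK : ((g • P : Sylow p G) : Subgroup G) ≤ K := by
    intro y hy
    rw [Sylow.smul_def, Sylow.pointwise_smul_def, Subgroup.mem_pointwise_smul_iff_inv_smul_mem] at hy
    have h1 := hPK hy
    rw [MulAut.smul_def, ← map_inv, MulAut.conj_apply, inv_inv] at h1
    have h2 := hK.conj_mem _ h1 g
    have h3 : g * (g⁻¹ * y * g) * g⁻¹ = y := by group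
    rw [h3] at h2
    exact h2
  have hn := hcl (P.subtype hPK)
  obtain ⟨k, hk⟩ := MulAction.exists_smul_eq K (P.subtype hPK) ((g • P).subtype hgK)
  haveI := hn
  rw [Sylow.smul_eq_of_normal] at hk
  exact (Sylow.subtype_injective hk).symm

/-- `P N = G` for every non-trivial normal subgroup `N`. -/
theorem sup_eq_top (hsub : ∀ H : Subgroup G, H ≠ ⊤ → Cfsg.IsPClosed p ↥H)
    (hquo : ∀ (N : Subgroup G) [N.Normal], N ≠ ⊥ → Cfsg.IsPClosed p (G ⧸ N))
    (P : Sylow p G) (hP : ¬ (P : Subgroup G).Normal) (N : Subgroup G) [N.Normal] (hN : N ≠ ⊥) :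
    (P : Subgroup G) ⊔ N = ⊤ := by
  by_contra h
  haveI := sup_normal hquo P N hN
  exact hP (normal_of_le_normal hsub P _ le_sup_left h)

/-- `O_p(G) = 1`. -/
theorem normalCore_eq_bot (hsub : ∀ H : Subgroup G, H ≠ ⊤ → Cfsg.IsPClosed p ↥H)
    (hquo : ∀ (N : Subgroup G) [N.Normal], N ≠ ⊥ → Cfsg.IsPClosed p (G ⧸ N))
    (P : Sylow p G) (hP : ¬ (P : Subgroup G).Normal) : (P : Subgroup G).normalCore = ⊥ := by
  by_contra h
  have h1 := sup_eq_top hsub hquo P hP _ h
  rw [sup_of_le_left (Subgroup.normalCore_le _)] at h1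
  apply hP
  rw [h1]
  infer_instance

/-- Proper normal subgroups are `p'`-groups. -/
theorem not_dvd_card_of_normal (hsub : ∀ H : Subgroup G, H ≠ ⊤ → Cfsg.IsPClosed p ↥H)
    (hquo : ∀ (N : Subgroup G) [N.Normal], N ≠ ⊥ → Cfsg.IsPClosed p (G ⧸ N))
    (P : Sylow p G) (hP : ¬ (P : Subgroup G).Normal) (N : Subgroup G) [N.Normal] (hN : N ≠ ⊤) :
    ¬ p ∣ Nat.card N := by
  intro hdvd
  obtain ⟨Q₀⟩ : Nonempty (Sylow p N) := inferInstance
  have hn := hsub N hN Q₀
  haveI : (Q₀ : Subgroup N).Characteristic := Sylow.characteristic_of_normal Q₀ hn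
  have hQn : ((Q₀ : Subgroup N).map N.subtype).Normal := inferInstance
  have hQp : IsPGroup p ((Q₀ : Subgroup N).map N.subtype) := Q₀.2.map _
  have hQP : (Q₀ : Subgroup N).map N.subtype ≤ P := by
    have h1 : IsPGroup p ((P : Subgroup G) ⊔ (Q₀ : Subgroup N).map N.subtype : Subgroup G) :=
      P.2.to_sup_of_normal_right hQp
    have h2 := P.is_maximal' h1 le_sup_left
    rw [← h2]
    exact le_sup_right
  have h3 : (Q₀ : Subgroup N).map N.subtype ≤ (P : Subgroup G).normalCore :=
    (Subgroup.normal_le_normalCore).mpr hQP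
  rw [normalCore_eq_bot hsub hquo P hP, le_bot_iff] at h3
  have h4 : (Q₀ : Subgroup N) = ⊥ := by
    rw [eq_bot_iff]
    intro y hy
    have : N.subtype y ∈ (Q₀ : Subgroup N).map N.subtype := Subgroup.mem_map_of_mem _ hy
    rw [h3, Subgroup.mem_bot] at this
    rw [Subgroup.mem_bot]
    exact Subtype.ext this
  exact Q₀.ne_bot_of_dvd_card hdvd h4

/-- If `A` is a normal `p'`-subgroup normalizing the `p`-subgroup `R`, then `R` centralizes `A`. -/
theorem le_centralizer_of_le_normalizer (R A : Subgroup G) [A.Normal] (hR : IsPGroup p R)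
    (hA : ¬ p ∣ Nat.card A) (h : A ≤ normalizer (R : Set G)) : R ≤ centralizer (A : Set G) := by
  have hp : p.Prime := Fact.out
  have hdis : R ⊓ A = ⊥ := by
    apply (Subgroup.disjoint_of_coprime_natCard _).eq_bot
    obtain ⟨k, hk⟩ := hR.exists_card_eq
    rw [hk]
    exact Nat.Coprime.pow_left k ((Nat.Prime.coprime_iff_not_dvd hp).mpr hA)
  intro y hy
  refine mem_centralizer_iff.mpr ?_
  intro a ha
  have h1 : a * y * a⁻¹ ∈ R := (mem_normalizer_iff.mp (h ha) y).mp hy
  have h2 : a * y * a⁻¹ * y⁻¹ ∈ R ⊓ A := by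
    refine ⟨R.mul_mem h1 (R.inv_mem hy), ?_⟩
    have h3 : y * a⁻¹ * y⁻¹ ∈ A := Normal.conj_mem inferInstance _ (A.inv_mem ha) y
    have h4 := A.mul_mem ha h3
    have h5 : a * (y * a⁻¹ * y⁻¹) = a * y * a⁻¹ * y⁻¹ := by group
    rw [h5] at h4
    exact h4
  rw [hdis, mem_bot] at h2
  have := congrArg (fun t => t * y * a) h2
  simpa [mul_assoc] using this

/-- If `A` centralizes... the normalizer of `P` contains `P ⊔ A` when `A ≤ C(P)`. -/
theorem normal_of_le_centralizer (P : Sylow p G) (A : Subgroup G)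
    (htop : (P : Subgroup G) ⊔ A = ⊤) (h : A ≤ centralizer ((P : Subgroup G) : Set G)) :
    (P : Subgroup G).Normal := by
  rw [← normalizer_eq_top_iff, eq_top_iff, ← htop]
  exact sup_le le_normalizer (h.trans (centralizer_le_normalizer _))

/-- A proper subgroup of `P` centralizes every proper normal subgroup. -/
theorem le_centralizer_of_lt (hsub : ∀ H : Subgroup G, H ≠ ⊤ → Cfsg.IsPClosed p ↥H)
    (hquo : ∀ (N : Subgroup G) [N.Normal], N ≠ ⊥ → Cfsg.IsPClosed p (G ⧸ N))
    (P : Sylow p G) (hP : ¬ (P : Subgroup G).Normal) (A : Subgroup G) [A.Normal] (hA : A ≠ ⊤)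
    (P₁ : Subgroup G) (hle : P₁ ≤ P) (hne : P₁ ≠ P) : P₁ ≤ centralizer (A : Set G) := by
  have hp : p.Prime := Fact.out
  have hpA := not_dvd_card_of_normal hsub hquo P hP A hA
  have hP₁ : IsPGroup p P₁ := P.2.to_le hle
  have hrel : ¬ p ∣ P₁.relIndex (P₁ ⊔ A) := by
    rw [relIndex_sup_eq_of_normal P₁ A]
    intro h
    exact hpA (h.trans (relIndex_dvd_card _ _))
  have hK : P₁ ⊔ A ≠ ⊤ := by
    intro htop
    rw [htop, relIndex_top_right] at hrel
    apply hrel
    rw [← relIndex_mul_index hle]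
    apply Dvd.dvd.mul_right
    -- `P₁.relIndex P` is a non-trivial power of `p`
    obtain ⟨k, hk⟩ := P.2.exists_card_eq
    have h1 : P₁.relIndex P ∣ p ^ k := hk ▸ relIndex_dvd_card _ _
    obtain ⟨j, -, hj⟩ := (Nat.dvd_prime_pow hp).mp h1
    rw [hj]
    have hj0 : j ≠ 0 := by
      rintro rfl
      rw [pow_zero, relIndex_eq_one] at hj
      exact hne (le_antisymm hle hj)
    exact dvd_pow_self p hj0
  have hcl := hsub _ hK
  have hidx : ¬ p ∣ (P₁.subgroupOf (P₁ ⊔ A)).index := hrel
  have hn := hcl ((hP₁.comap_subtype (K := P₁ ⊔ A)).toSylow hidx)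
  have hn' : (P₁.subgroupOf (P₁ ⊔ A)).Normal := hn
  rw [normal_subgroupOf_iff_le_normalizer le_sup_left] at hn'
  exact le_centralizer_of_le_normalizer P₁ A hP₁ hpA (le_sup_right.trans hn')

/-- The Sylow `p`-subgroups have order `p`. -/
theorem card_sylow_eq (hsub : ∀ H : Subgroup G, H ≠ ⊤ → Cfsg.IsPClosed p ↥H)
    (hquo : ∀ (N : Subgroup G) [N.Normal], N ≠ ⊥ → Cfsg.IsPClosed p (G ⧸ N))
    (P : Sylow p G) (hP : ¬ (P : Subgroup G).Normal) (A : Subgroup G) [A.Normal] (hA : A ≠ ⊤)
    (hA0 : A ≠ ⊥) : Nat.card (P : Subgroup G) = p := by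
  have hp : p.Prime := Fact.out
  have hP0 : (P : Subgroup G) ≠ ⊥ := by
    intro h
    apply hP
    rw [h]
    infer_instance
  have hpP : p ∣ Nat.card (P : Subgroup G) := by
    obtain ⟨k, hk⟩ := P.2.exists_card_eq
    rw [hk]
    have hk0 : k ≠ 0 := by
      rintro rfl
      rw [pow_zero] at hk
      exact hP0 (Subgroup.card_eq_one.mp hk)
    exact dvd_pow_self p hk0
  obtain ⟨x, hx⟩ := exists_prime_orderOf_dvd_card' p hpP
  have hxo : orderOf (x : G) = p := by rw [Subgroup.orderOf_coe, hx]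
  set P₁ : Subgroup G := zpowers (x : G) with hP₁
  have hle : P₁ ≤ P := by
    rw [hP₁, zpowers_le]
    exact x.2
  have hcard : Nat.card P₁ = p := by rw [hP₁, Nat.card_zpowers, hxo]
  by_cases hne : P₁ = P
  · rw [← hne, hcard]
  · exfalso
    have h1 := le_centralizer_of_lt hsub hquo P hP A hA P₁ hle hne
    -- the centralizer of `A` is a proper normal subgroup
    have hC : centralizer (A : Set G) ≠ ⊤ := by
      intro htop
      apply hP
      apply normal_of_le_centralizer P A (sup_eq_top hsub hquo P hP A hA0)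
      intro a ha
      refine mem_centralizer_iff.mpr ?_
      intro y _
      have : y ∈ centralizer (A : Set G) := htop ▸ mem_top y
      exact (mem_centralizer_iff.mp this a ha).symm
    have h2 := not_dvd_card_of_normal hsub hquo P hP (centralizer (A : Set G)) hC
    apply h2
    rw [← hcard]
    exact Subgroup.card_dvd_of_le h1

/-- Two subgroups normalizing each other and meeting trivially commute. -/
theorem le_centralizer_of_normalize (R A : Subgroup G) (hdis : R ⊓ A = ⊥)
    (h1 : A ≤ normalizer (R : Set G)) (h2 : R ≤ normalizer (A : Set G)) :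
    R ≤ centralizer (A : Set G) := by
  intro y hy
  refine mem_centralizer_iff.mpr ?_
  intro a ha
  have h3 : a * y * a⁻¹ ∈ R := (mem_normalizer_iff.mp (h1 ha) y).mp hy
  have h4 : a * y * a⁻¹ * y⁻¹ ∈ R ⊓ A := by
    refine ⟨R.mul_mem h3 (R.inv_mem hy), ?_⟩
    have h5 : y * a⁻¹ * y⁻¹ ∈ A := (mem_normalizer_iff.mp (h2 hy) a⁻¹).mp (A.inv_mem ha)
    have h6 := A.mul_mem ha h5
    have h7 : a * (y * a⁻¹ * y⁻¹) = a * y * a⁻¹ * y⁻¹ := by group
    rw [h7] at h6
    exact h6
  rw [hdis, mem_bot] at h4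
  have := congrArg (fun t => t * y * a) h4
  simpa [mul_assoc] using this

/-- Every proper non-trivial normal subgroup is a `q`-group for some prime `q`. -/
theorem exists_isPGroup_of_normal (hsub : ∀ H : Subgroup G, H ≠ ⊤ → Cfsg.IsPClosed p ↥H)
    (hquo : ∀ (N : Subgroup G) [N.Normal], N ≠ ⊥ → Cfsg.IsPClosed p (G ⧸ N))
    (P : Sylow p G) (hP : ¬ (P : Subgroup G).Normal) (A : Subgroup G) [A.Normal] (hA : A ≠ ⊤)
    (hA0 : A ≠ ⊥) : ∃ q : ℕ, q.Prime ∧ IsPGroup q A := by
  have hp : p.Prime := Fact.out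
  have hpA := not_dvd_card_of_normal hsub hquo P hP A hA
  have htop := sup_eq_top hsub hquo P hP A hA0
  have hcop : (Nat.card (P : Subgroup G)).Coprime (Nat.card A) := by
    obtain ⟨k, hk⟩ := P.2.exists_card_eq
    rw [hk]
    exact Nat.Coprime.pow_left k ((Nat.Prime.coprime_iff_not_dvd hp).mpr hpA)
  have hPA : (P : Subgroup G) ⊓ A = ⊥ := (Subgroup.disjoint_of_coprime_natCard hcop).eq_bot
  have hnc : ¬ A ≤ centralizer ((P : Subgroup G) : Set G) := fun h =>
    hP (normal_of_le_centralizer P A htop h)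
  set C : Subgroup G := centralizer ((P : Subgroup G) : Set G) with hC
  have hr1 : C.relIndex A ≠ 1 := fun h => hnc (relIndex_eq_one.mp h)
  set q := (C.relIndex A).minFac with hqdef
  have hq : q.Prime := Nat.minFac_prime hr1
  haveI : Fact q.Prime := ⟨hq⟩
  have hqr : q ∣ C.relIndex A := Nat.minFac_dvd _
  have hsolv : Group.IsSolvable (P : Subgroup G) := by
    haveI := P.2.isNilpotent
    infer_instance
  obtain ⟨Q, hQ⟩ := Cfsg.Agent.S0023.result (P : Subgroup G) A
    (by rw [normalizer_eq_top]; exact le_top) hcop (Or.inl hsolv) q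
  set Q' : Subgroup G := (Q : Subgroup A).map A.subtype with hQ'
  have hQ'A : Q' ≤ A := map_subtype_le _
  have hQ'q : IsPGroup q Q' := Q.2.map _
  have hQ'card : Nat.card Q' = q ^ (Nat.card A).factorization q := by
    rw [hQ', Subgroup.card_map_of_injective A.subtype_injective]
    exact Q.card_eq_multiplicity
  have hPQ' : (P : Subgroup G) ⊓ Q' = ⊥ := by
    rw [eq_bot_iff, ← hPA]
    exact inf_le_inf_left _ hQ'A
  have hK : (P : Subgroup G) ⊔ Q' = ⊤ := by
    by_contra hK
    have hcl := hsub _ hK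
    have hn := hcl (P.subtype le_sup_left)
    have hn' : ((P : Subgroup G).subgroupOf ((P : Subgroup G) ⊔ Q')).Normal := by
      rw [← Sylow.coe_subtype]
      exact hn
    rw [normal_subgroupOf_iff_le_normalizer le_sup_left] at hn'
    have h1 : (P : Subgroup G) ≤ centralizer (Q' : Set G) :=
      le_centralizer_of_normalize _ _ hPQ' (le_sup_right.trans hn') hQ
    have h2 : Q' ≤ C := Subgroup.le_centralizer_iff.mp h1
    have h3 : Q' ≤ C ⊓ A := le_inf h2 hQ'A
    have h4 : Nat.card (C ⊓ A : Subgroup G) * (C ⊓ A).relIndex A = Nat.card A := by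
      have := relIndex_mul_relIndex (⊥ : Subgroup G) (C ⊓ A) A bot_le inf_le_right
      rwa [relIndex_bot_left, relIndex_bot_left] at this
    rw [inf_relIndex_right] at h4
    have h5 : q ^ (Nat.card A).factorization q ∣ Nat.card (C ⊓ A : Subgroup G) :=
      hQ'card ▸ Subgroup.card_dvd_of_le h3
    have h6 : q ^ ((Nat.card A).factorization q + 1) ∣ Nat.card A := by
      rw [pow_succ]
      calc q ^ (Nat.card A).factorization q * q ∣ Nat.card (C ⊓ A : Subgroup G) * C.relIndex A :=
            Nat.mul_dvd_mul h5 hqr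
        _ = Nat.card A := h4
    exact Nat.pow_succ_factorization_not_dvd Nat.card_pos.ne' hq h6
  have h1 : (P : Subgroup G).relIndex ((P : Subgroup G) ⊔ A) = (P : Subgroup G).relIndex A :=
    relIndex_sup_eq_of_normal _ A
  have h2 : (P : Subgroup G).relIndex ((P : Subgroup G) ⊔ Q') = (P : Subgroup G).relIndex Q' :=
    relIndex_sup_eq_of_le_normalizer _ Q' hQ
  have h1' : (P : Subgroup G).relIndex A = Nat.card A := by
    rw [← inf_relIndex_right, hPA, relIndex_bot_left]
  have h2' : (P : Subgroup G).relIndex Q' = Nat.card Q' := by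
    rw [← inf_relIndex_right, hPQ', relIndex_bot_left]
  rw [htop, h1'] at h1
  rw [hK, h2'] at h2
  have h3 : Nat.card A ≤ Nat.card Q' := by rw [← h1, ← h2]
  have h4 : Q' = A := Subgroup.eq_of_le_of_card_ge hQ'A h3
  exact ⟨q, hq, h4 ▸ hQ'q⟩

/-- Structure of the non-simple minimal non-p-closed groups. Call a finite group p-closed when its Sylow p-subgroups are normal, and minimal non-p-closed when it is not p-closed but every proper subgroup and every proper quotient is. If such a group G is not simple, then there is a prime q ≠ p such that G has order p · q^e, where e is the multiplicative order of q modulo p, and G has a normal subgroup A of order q^e that is elementary abelian and is a minimal normal subgroup of G (so G is the semidirect product of A by a group of order p acting irreducibly). -/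
theorem result {G : Type*} [Group G] [Finite G] {p : ℕ} [Fact p.Prime]
    (hnc : ¬ Cfsg.IsPClosed p G) (hsub : ∀ H : Subgroup G, H ≠ ⊤ → Cfsg.IsPClosed p ↥H)
    (hquo : ∀ (N : Subgroup G) [N.Normal], N ≠ ⊥ → Cfsg.IsPClosed p (G ⧸ N)) (hns : ¬ IsSimpleGroup G) :
    ∃ q : ℕ, q.Prime ∧ q ≠ p ∧ Nat.card G = p * q ^ orderOf (q : ZMod p) ∧
      ∃ A : Subgroup G, A.Normal ∧ Nat.card ↥A = q ^ orderOf (q : ZMod p) ∧ Cfsg.IsElementaryAbelian q A ∧
        ∀ B : Subgroup G, B.Normal → B ≤ A → B = ⊥ ∨ B = A := by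
  classical
  have hp : p.Prime := Fact.out
  obtain ⟨P, hP⟩ : ∃ P : Sylow p G, ¬ (P : Subgroup G).Normal := by
    by_contra h
    push Not at h
    exact hnc h
  haveI : Nontrivial G := by
    by_contra h
    rw [not_nontrivial_iff_subsingleton] at h
    apply hP
    have : (P : Subgroup G) = ⊤ := Subsingleton.elim _ _
    rw [this]
    infer_instance
  obtain ⟨N, hNn, hN0, hN1⟩ : ∃ K : Subgroup G, K.Normal ∧ K ≠ ⊥ ∧ K ≠ ⊤ := by
    by_contra hcon
    push Not at hcon
    apply hns
    exact ⟨fun H hH => by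
      by_cases h0 : H = ⊥
      · exact Or.inl h0
      · exact Or.inr (hcon H hH h0)⟩
  obtain ⟨A, hAN, hAmin⟩ :=
    Finite.exists_le_minimal (p := fun K : Subgroup G => K.Normal ∧ K ≠ ⊥) ⟨hNn, hN0⟩
  have hAn : A.Normal := hAmin.prop.1
  have hA0 : A ≠ ⊥ := hAmin.prop.2
  have hA1 : A ≠ ⊤ := fun h => hN1 (top_le_iff.mp (h ▸ hAN))
  have hmin : ∀ B : Subgroup G, B.Normal → B ≤ A → B = ⊥ ∨ B = A := by
    intro B hBn hBA
    by_cases hB : B = ⊥
    · exact Or.inl hB
    · exact Or.inr (le_antisymm hBA (hAmin.le_of_le ⟨hBn, hB⟩ hBA))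
  haveI := hAn
  obtain ⟨q₀, hq₀, hAq₀⟩ := exists_isPGroup_of_normal hsub hquo P hP A hA1 hA0
  have hc : ∀ a ∈ A, ∀ b ∈ A, a * b = b * a := by
    have hle : ⁅A, A⁆ ≤ A := Subgroup.commutator_le_left A A
    rcases hmin ⁅A, A⁆ inferInstance hle with h | h
    · intro a ha b hb
      have h1 := (Subgroup.commutator_eq_bot_iff_le_centralizer.mp h) ha
      exact (Subgroup.mem_centralizer_iff.mp h1 b hb).symm
    · exfalso
      haveI : Fact q₀.Prime := ⟨hq₀⟩
      haveI : Group.IsNilpotent A := hAq₀.isNilpotent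
      haveI : Nontrivial A := (Subgroup.nontrivial_iff_ne_bot A).mpr hA0
      have h1 : _root_.commutator A < ⊤ := Group.IsSolvable.commutator_lt_top_of_nontrivial A
      have h2 : (_root_.commutator A).map A.subtype = ⁅A, A⁆ := Subgroup.map_subtype_commutator A
      rw [h] at h2
      have h3 : _root_.commutator A = ⊤ := by
        apply Subgroup.map_injective A.subtype_injective
        rw [h2, ← MonoidHom.range_eq_map, Subgroup.range_subtype]
      exact h1.ne h3
  obtain ⟨q, d, hq, hd, hAcard, hAexp⟩ :=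
    Cfsg.Agent.Helper3.card_eq_prime_pow_of_minimal_normal A hA0 hmin hc
  have hEA : Cfsg.IsElementaryAbelian q A :=
    ⟨⟨⟨fun a b => Subtype.ext (hc a a.2 b b.2)⟩⟩, hAexp⟩
  have hpA := not_dvd_card_of_normal hsub hquo P hP A hA1
  have hqp : q ≠ p := by
    rintro rfl
    apply hpA
    rw [hAcard]
    exact dvd_pow_self q hd.ne'
  have hPcard := card_sylow_eq hsub hquo P hP A hA1 hA0
  have htop := sup_eq_top hsub hquo P hP A hA0
  have hcop : (Nat.card (P : Subgroup G)).Coprime (Nat.card A) := by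
    rw [hPcard]
    exact (Nat.Prime.coprime_iff_not_dvd hp).mpr hpA
  have hPA : (P : Subgroup G) ⊓ A = ⊥ := (Subgroup.disjoint_of_coprime_natCard hcop).eq_bot
  have hPidx : (P : Subgroup G).index = Nat.card A := by
    have h1 : (P : Subgroup G).relIndex ((P : Subgroup G) ⊔ A) = (P : Subgroup G).relIndex A :=
      relIndex_sup_eq_of_normal _ A
    rw [htop, relIndex_top_right, ← inf_relIndex_right, hPA, relIndex_bot_left] at h1
    exact h1
  have hGcard : Nat.card G = p * Nat.card A := by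
    rw [← Subgroup.card_mul_index (P : Subgroup G), hPcard, hPidx]
  have hidx : A.index = p := by
    have h1 := Subgroup.card_mul_index A
    rw [hGcard, mul_comm p] at h1
    exact Nat.eq_of_mul_eq_mul_left Nat.card_pos h1
  have hna : ¬ IsMulCommutative G := by
    intro h
    exact hP inferInstance
  have hcardA := Cfsg.Agent.S3869.card_of_minimal_normal hq hqp hna A hEA hidx hmin
  refine ⟨q, hq, hqp, ?_, A, hAn, hcardA, hEA, hmin⟩
  rw [hGcard, hcardA]

end Cfsg.Agent.S3868
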