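import Mathlib
import Cfsg.Statements.S3870
import Cfsg.Agent.Lib.Helper12.PGroup

set_option autoImplicit false
open Cfsg

namespace Cfsg.Agent.S3870

open Cfsg.Agent.Helper12
open scoped Pointwise

theorem sylow_eq_of_le {G : Type*} [Group G] [Finite G] {p : ℕ} [Fact p.Prime] {P Q : Sylow p G}
    (h : (P : Subgroup G) ≤ Q) : P = Q := by
  apply Sylow.ext
  apply Subgroup.eq_of_le_of_card_ge h
  rw [Sylow.card_eq_multiplicity, Sylow.card_eq_multiplicity]

/-- Let G be a finite simple group whose Sylow p-subgroups are not normal but such that every proper subgroup of G has a normal Sylow p-subgroup. Then any two distinct Sylow p-subgroups of G intersect trivially, and for every Sylow p-subgroup P the normalizer of every non-identity subgroup of P lies in the normalizer of P. -/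
theorem result {G : Type*} [Group G] [Finite G] [IsSimpleGroup G] {p : ℕ} [Fact p.Prime]
    (hnc : ¬ Cfsg.IsPClosed p G) (hsub : ∀ H : Subgroup G, H ≠ ⊤ → Cfsg.IsPClosed p ↥H) :
    (∀ P Q : Sylow p G, P ≠ Q → (P : Subgroup G) ⊓ (Q : Subgroup G) = ⊥) ∧
      ∀ (P : Sylow p G) (R : Subgroup G), R ≤ P → R ≠ ⊥ →
        Subgroup.normalizer (R : Set G) ≤ Subgroup.normalizer ((P : Subgroup G) : Set G) := by
  classical
  have hTI : ∀ P Q : Sylow p G, P ≠ Q → (P : Subgroup G) ⊓ (Q : Subgroup G) = ⊥ := by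
    by_contra hcon
    push_neg at hcon
    obtain ⟨P0, Q0, hne0, hbad0⟩ := hcon
    let Bad := {PQ : Sylow p G × Sylow p G // PQ.1 ≠ PQ.2 ∧ (PQ.1 : Subgroup G) ⊓ PQ.2 ≠ ⊥}
    have : Nonempty Bad := ⟨⟨(P0, Q0), hne0, hbad0⟩⟩
    have : Finite Bad := Subtype.finite
    obtain ⟨⟨⟨P, Q⟩, hPQ, hD⟩, hmax⟩ := Finite.exists_max
      (fun b : Bad => Nat.card ((b.1.1 : Subgroup G) ⊓ b.1.2 : Subgroup G))
    simp only at hPQ hD hmax
    set D : Subgroup G := (P : Subgroup G) ⊓ Q with hDdef
    have hmaxP : ∀ R' : Sylow p G, R' ≠ P → (R' : Subgroup G) ⊓ P ≠ ⊥ →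
        Nat.card ((R' : Subgroup G) ⊓ P : Subgroup G) ≤ Nat.card D :=
      fun R' h1 h2 => hmax ⟨(R', P), h1, h2⟩
    have hmaxQ : ∀ R' : Sylow p G, R' ≠ Q → (R' : Subgroup G) ⊓ Q ≠ ⊥ →
        Nat.card ((R' : Subgroup G) ⊓ Q : Subgroup G) ≤ Nat.card D :=
      fun R' h1 h2 => hmax ⟨(R', Q), h1, h2⟩
    have hDP : D < P := by
      refine lt_of_le_of_ne inf_le_left (fun h => hPQ (sylow_eq_of_le ?_))
      rw [← h]; exact inf_le_right
    have hDQ : D < Q := by
      refine lt_of_le_of_ne inf_le_right (fun h => hPQ (sylow_eq_of_le ?_).symm)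
      rw [← h]; exact inf_le_left
    set N : Subgroup G := Subgroup.normalizer (D : Set G) with hNdef
    have hNtop : N ≠ ⊤ := by
      intro hN
      have hDn : D.Normal := Subgroup.normalizer_eq_top_iff.mp hN
      rcases IsSimpleGroup.eq_bot_or_eq_top_of_normal D hDn with h | h
      · exact hD h
      · rw [h] at hDP
        exact absurd hDP (not_lt_of_ge le_top)
    have hNcl : Cfsg.IsPClosed p ↥N := hsub N hNtop
    obtain ⟨S⟩ : Nonempty (Sylow p N) := inferInstance
    have hSn : (S : Subgroup N).Normal := hNcl S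
    have huniq : ∀ X : Subgroup N, IsPGroup p X → X ≤ S := by
      intro X hX
      obtain ⟨S', hS'⟩ := hX.exists_le_sylow
      have := Sylow.unique_of_normal S hSn
      have : S' = S := Subsingleton.elim _ _
      rw [← this]; exact hS'
    set T : Subgroup G := (S : Subgroup N).map N.subtype with hT
    have hTp : IsPGroup p T := S.2.map N.subtype
    obtain ⟨P', hP'⟩ := hTp.exists_le_sylow
    have hDN : D ≤ N := Subgroup.le_normalizer
    have key : ∀ R : Sylow p G, D < (R : Subgroup G) →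
        (∀ R' : Sylow p G, R' ≠ R → (R' : Subgroup G) ⊓ R ≠ ⊥ →
          Nat.card ((R' : Subgroup G) ⊓ R : Subgroup G) ≤ Nat.card D) → P' = R := by
      intro R hDR hmaxR
      by_contra hne
      obtain ⟨g, hgR, hgD, hgN⟩ := exists_mem_normalizer_not_mem (R : Subgroup G) R.2 D hDR
      have hRN : (R : Subgroup G) ⊓ N ≤ T := by
        intro y hy
        have hX : IsPGroup p (((R : Subgroup G) ⊓ N).subgroupOf N) :=
          (R.2.to_le inf_le_left).comap_subtype
        have := huniq _ hX (show (⟨y, hy.2⟩ : N) ∈ ((R : Subgroup G) ⊓ N).subgroupOf N from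
          Subgroup.mem_subgroupOf.mpr hy)
        exact ⟨⟨y, hy.2⟩, this, rfl⟩
      have hgP' : g ∈ (P' : Subgroup G) := hP' (hRN ⟨hgR, hgN⟩)
      have hDle : D ≤ (P' : Subgroup G) ⊓ R := by
        intro y hy
        exact ⟨hP' (hRN ⟨hDR.le hy, hDN hy⟩), hDR.le hy⟩
      have hlt : D < (P' : Subgroup G) ⊓ R := by
        refine lt_of_le_of_ne hDle (fun h => hgD ?_)
        rw [h]; exact ⟨hgP', hgR⟩
      have hne' : (P' : Subgroup G) ⊓ R ≠ ⊥ := by
        intro h
        rw [h] at hlt
        exact absurd hlt (not_lt_of_ge bot_le)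
      have h1 := hmaxR P' hne hne'
      have h2 := card_lt_card_of_lt hlt
      omega
    have e1 := key P hDP hmaxP
    have e2 := key Q hDQ hmaxQ
    exact hPQ (e1.symm.trans e2)
  refine ⟨hTI, ?_⟩
  intro P R hRP hR g hg
  refine Sylow.smul_eq_iff_mem_normalizer.mp ?_
  by_contra hne
  have h1 := hTI (g • P) P hne
  apply hR
  rw [eq_bot_iff, ← h1]
  intro r hr
  refine ⟨?_, hRP hr⟩
  change r ∈ MulAut.conj g • (P : Subgroup G)
  rw [Subgroup.mem_pointwise_smul_iff_inv_smul_mem]
  rw [Subgroup.mem_normalizer_iff''] at hg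
  have := (hg r).mp hr
  simp only [MulAut.smul_def, MulAut.conj_inv_apply]
  exact hRP this

end Cfsg.Agent.S3870
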