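import Mathlib
import Cfsg.Statements.S3872
import Cfsg.Agent.S4209
import Cfsg.Agent.S4225
import Cfsg.Agent.Lib.Helper16.UniqueOrderP

set_option autoImplicit false
open Cfsg
namespace Cfsg.Agent.S3872

open scoped commutatorElement

section aux

variable {G : Type*} [Group G] [Finite G] {p : ℕ} [hp : Fact p.Prime]

theorem lcs_lt (hG : IsPGroup p G) (i : ℕ) (hi : (⊤ : Subgroup G).lowerCentralSeries i ≠ ⊥) :
    (⊤ : Subgroup G).lowerCentralSeries (i + 1) < (⊤ : Subgroup G).lowerCentralSeries i := by
  refine lt_of_le_of_ne (Subgroup.lowerCentralSeries_antitone _ (Nat.le_succ i)) ?_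
  intro heq
  have hnil : Group.IsNilpotent G := hG.isNilpotent
  obtain ⟨n, hn⟩ := Subgroup.nilpotent_iff_lowerCentralSeries.1 hnil
  have h1 : ∀ m, (⊤ : Subgroup G).lowerCentralSeries (i + m) =
      (⊤ : Subgroup G).lowerCentralSeries i := by
    intro m
    induction m with
    | zero => rfl
    | succ m ih =>
      rw [← Nat.add_assoc, Subgroup.lowerCentralSeries_succ, ih,
        ← Subgroup.lowerCentralSeries_succ, heq]
  apply hi
  rw [← h1 n, ← le_bot_iff, ← hn]
  exact Subgroup.lowerCentralSeries_antitone _ (Nat.le_add_left _ _)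

theorem mul_card_le_of_lt (hG : IsPGroup p G) {H K : Subgroup G} (h : H < K) :
    p * Nat.card H ≤ Nat.card K := by
  obtain ⟨a, ha⟩ := (hG.to_subgroup H).exists_card_eq
  obtain ⟨b, hb⟩ := (hG.to_subgroup K).exists_card_eq
  have hlt : Nat.card H < Nat.card K := by
    rcases (Subgroup.card_le_of_le h.le).lt_or_eq with h1 | h1
    · exact h1
    · exact absurd (Subgroup.eq_of_le_of_card_ge h.le h1.symm.le) h.ne
  rw [ha, hb] at hlt ⊢
  have hab : a < b := (Nat.pow_lt_pow_iff_right hp.out.one_lt).1 hlt
  rw [← pow_succ']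
  exact Nat.pow_le_pow_right hp.out.pos hab

theorem card_ge_of_lcs_ne_bot (hG : IsPGroup p G) (k : ℕ) (hk : 1 ≤ k)
    (hne : (⊤ : Subgroup G).lowerCentralSeries k ≠ ⊥) : p ^ (k + 2) ≤ Nat.card G := by
  have hp1 := hp.out
  have hne' : ∀ i, i ≤ k → (⊤ : Subgroup G).lowerCentralSeries i ≠ ⊥ := by
    intro i hi h
    apply hne
    rw [← le_bot_iff, ← h]
    exact Subgroup.lowerCentralSeries_antitone _ hi
  have h1 : ∀ j, j ≤ k → p ^ (j + 1) ≤ Nat.card ((⊤ : Subgroup G).lowerCentralSeries (k - j)) := by
    intro j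
    induction j with
    | zero =>
      intro _
      obtain ⟨a, ha⟩ := (hG.to_subgroup ((⊤ : Subgroup G).lowerCentralSeries k)).exists_card_eq
      rw [Nat.sub_zero, ha]
      apply Nat.pow_le_pow_right hp1.pos
      rcases Nat.eq_zero_or_pos a with h0 | h0
      · exfalso
        rw [h0, pow_zero, Subgroup.card_eq_one] at ha
        exact hne ha
      · omega
    | succ j ih =>
      intro hj
      have h2 := lcs_lt hG (k - (j + 1)) (hne' _ (Nat.sub_le _ _))
      rw [show k - (j + 1) + 1 = k - j by omega] at h2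
      have h3 := mul_card_le_of_lt hG h2
      calc p ^ (j + 1 + 1) = p * p ^ (j + 1) := by rw [pow_succ']
        _ ≤ p * Nat.card ((⊤ : Subgroup G).lowerCentralSeries (k - j)) :=
          Nat.mul_le_mul_left _ (ih (by omega))
        _ ≤ _ := h3
  have h2 := h1 (k - 1) (Nat.sub_le _ _)
  rw [show k - (k - 1) = 1 by omega, show k - 1 + 1 = k by omega] at h2
  -- the index of the derived subgroup
  set D := (⊤ : Subgroup G).lowerCentralSeries 1 with hD
  have hDne : D ≠ ⊥ := hne' 1 hk
  obtain ⟨c, hc⟩ := hG.index D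
  have hc2 : 2 ≤ c := by
    by_contra hlt
    have hc01 : c = 0 ∨ c = 1 := by omega
    rcases hc01 with h0 | h0
    · rw [h0, pow_zero, Subgroup.index_eq_one] at hc
      have h3 := lcs_lt hG 0 (hne' 0 (Nat.zero_le _))
      rw [Nat.zero_add, ← hD, hc, Subgroup.lowerCentralSeries_zero] at h3
      exact lt_irrefl _ h3
    · rw [h0, pow_one] at hc
      have hDtop : D ≠ ⊤ := by
        intro h
        rw [h, Subgroup.index_top] at hc
        exact hp1.one_lt.ne hc
      obtain ⟨g, hg⟩ : ∃ g : G, g ∉ D := by
        by_contra hcon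
        push_neg at hcon
        exact hDtop (eq_top_iff.2 fun x _ => hcon x)
      set K := D ⊔ Subgroup.zpowers g with hK
      have hDK : D ≤ K := le_sup_left
      have hgK : g ∈ K := (le_sup_right : Subgroup.zpowers g ≤ K) (Subgroup.mem_zpowers g)
      have h3 := Subgroup.relIndex_mul_index hDK
      rw [hc] at h3
      have h4 : K.index = 1 := by
        have h5 : K.index ∣ p := Dvd.intro_left _ h3
        rcases (Nat.dvd_prime hp1).1 h5 with h6 | h6
        · exact h6
        · exfalso
          rw [h6] at h3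
          have h7 : D.relIndex K = 1 := by
            have := hp1.pos
            exact Nat.eq_of_mul_eq_mul_right this (by rw [h3, one_mul])
          rw [Subgroup.relIndex_eq_one] at h7
          exact hg (h7 hgK)
      rw [Subgroup.index_eq_one] at h4
      have h5 : ⁅(⊤ : Subgroup G), (⊤ : Subgroup G)⁆ ⊔ Subgroup.zpowers g = ⊤ := h4
      have h6 := Cfsg.Agent.Helper4.RegP.commutator_eq_bot_of_sup_zpowers hG ⊤ g
        (Subgroup.mem_top g) h5
      exact hDne h6
  have h3 := D.card_mul_index
  rw [← h3, hc, pow_add]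
  exact Nat.mul_le_mul h2 (Nat.pow_le_pow_right hp1.pos hc2)

end aux

/-- Say that a finite group is p-exponent closed when its elements of order dividing p form a subgroup. Let G be a finite p-group that is not p-exponent closed, but all of whose proper subgroups and proper quotients are. Then G is generated by two elements, has nilpotency class at least p, has exponent p², has cyclic center, and has order at least p^(p+1). -/
theorem result {G : Type*} [Group G] [Finite G] {p : ℕ} [Fact p.Prime] (hG : IsPGroup p G)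
    (hnc : ¬ (∃ H : Subgroup G, (H : Set G) = {g : G | g ^ p = 1})) (hsub : ∀ K : Subgroup G, K ≠ ⊤ → (∃ H : Subgroup ↥K, (H : Set ↥K) = {g : ↥K | g ^ p = 1}))
    (hquo : ∀ (N : Subgroup G) [N.Normal], N ≠ ⊥ → (∃ H : Subgroup (G ⧸ N), (H : Set (G ⧸ N)) = {g : (G ⧸ N) | g ^ p = 1})) :
    (∃ x y : G, Subgroup.closure ({x, y} : Set G) = ⊤) ∧ (⊤ : Subgroup G).lowerCentralSeries (p - 1) ≠ ⊥ ∧
      Monoid.exponent G = p ^ 2 ∧ IsCyclic ↥(Subgroup.center G) ∧ p ^ (p + 1) ≤ Nat.card G := by
  have hp : p.Prime := Fact.out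
  -- two elements of order dividing `p` whose product is not
  obtain ⟨a, b, ha, hb, hab⟩ : ∃ a b : G, a ^ p = 1 ∧ b ^ p = 1 ∧ (a * b) ^ p ≠ 1 := by
    by_contra hcon
    push_neg at hcon
    apply hnc
    exact ⟨{ carrier := {g : G | g ^ p = 1}
             mul_mem' := fun {x y} hx hy => hcon x y hx hy
             one_mem' := one_pow _
             inv_mem' := fun {x} hx => by
               simp only [Set.mem_setOf_eq] at hx ⊢
               rw [inv_pow, hx, inv_one] }, rfl⟩
  -- generation
  have hgen : Subgroup.closure ({a, b} : Set G) = ⊤ := by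
    by_contra hK
    obtain ⟨H, hH⟩ := hsub _ hK
    have haK : a ∈ Subgroup.closure ({a, b} : Set G) :=
      Subgroup.subset_closure (Set.mem_insert _ _)
    have hbK : b ∈ Subgroup.closure ({a, b} : Set G) :=
      Subgroup.subset_closure (Set.mem_insert_of_mem _ rfl)
    have h1 : (⟨a, haK⟩ : Subgroup.closure ({a, b} : Set G)) ∈ H := by
      rw [← SetLike.mem_coe, hH]
      exact Subtype.ext (by simpa using ha)
    have h2 : (⟨b, hbK⟩ : Subgroup.closure ({a, b} : Set G)) ∈ H := by
      rw [← SetLike.mem_coe, hH]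
      exact Subtype.ext (by simpa using hb)
    have h3 := H.mul_mem h1 h2
    rw [← SetLike.mem_coe, hH] at h3
    apply hab
    have := congrArg Subtype.val h3
    simpa using this
  -- quotients by nontrivial normal subgroups have exponent `p`
  have hquo' : ∀ (N : Subgroup G) [N.Normal], N ≠ ⊥ → ∀ g : G, g ^ p ∈ N := by
    intro N _ hN g
    obtain ⟨H, hH⟩ := hquo N hN
    have h1 : (QuotientGroup.mk' N a) ∈ H := by
      rw [← SetLike.mem_coe, hH]
      show (QuotientGroup.mk' N a) ^ p = 1
      rw [← map_pow, ha, map_one]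
    have h2 : (QuotientGroup.mk' N b) ∈ H := by
      rw [← SetLike.mem_coe, hH]
      show (QuotientGroup.mk' N b) ^ p = 1
      rw [← map_pow, hb, map_one]
    have h3 : (⊤ : Subgroup G) ≤ H.comap (QuotientGroup.mk' N) := by
      rw [← hgen, Subgroup.closure_le]
      intro x hx
      rcases hx with rfl | rfl
      · exact h1
      · exact h2
    have h4 : QuotientGroup.mk' N g ∈ H := h3 (Subgroup.mem_top g)
    rw [← SetLike.mem_coe, hH] at h4
    have h5 : (QuotientGroup.mk' N g) ^ p = 1 := h4
    rw [← map_pow] at h5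
    exact (QuotientGroup.eq_one_iff _).1 h5
  have hclass : (⊤ : Subgroup G).lowerCentralSeries (p - 1) ≠ ⊥ := by
    intro hcl
    have hreg := Cfsg.Agent.S4209.result hG hcl
    obtain ⟨H, _, hH⟩ := Cfsg.Agent.S4225.result hreg 1
    apply hnc
    refine ⟨H, ?_⟩
    rw [hH]
    simp
  have hGnt : Nontrivial G := by
    by_contra h
    rw [not_nontrivial_iff_subsingleton] at h
    exact hab (Subsingleton.elim _ _)
  refine ⟨⟨a, b, hgen⟩, hclass, ?_, ?_, ?_⟩
  · -- exponent
    have hZnt : Nontrivial (Subgroup.center G) := hG.center_nontrivial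
    have hpd : p ∣ Nat.card (Subgroup.center G) := by
      obtain ⟨n, hn⟩ := (hG.to_subgroup (Subgroup.center G)).exists_card_eq
      rw [hn]
      apply dvd_pow_self
      intro h0
      rw [h0, pow_zero] at hn
      have := Finite.one_lt_card (α := Subgroup.center G)
      omega
    obtain ⟨z, hz⟩ := exists_prime_orderOf_dvd_card' p hpd
    set N := Subgroup.zpowers (z : G) with hN
    have hNle : N ≤ Subgroup.center G := Subgroup.zpowers_le.2 z.2
    have hNn : N.Normal := ⟨fun x hx g => by
      have := Subgroup.mem_center_iff.1 (hNle hx) g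
      rw [this, mul_inv_cancel_right]
      exact hx⟩
    have hzo : orderOf (z : G) = p := by rw [Subgroup.orderOf_coe, hz]
    have hNne : N ≠ ⊥ := by
      intro h
      have h1 : (z : G) ∈ N := Subgroup.mem_zpowers _
      rw [h, Subgroup.mem_bot] at h1
      rw [h1, orderOf_one] at hzo
      exact hp.one_lt.ne hzo
    have h1 : ∀ g : G, g ^ (p ^ 2) = 1 := by
      intro g
      have h2 := hquo' N hNne g
      obtain ⟨k, hk⟩ := Subgroup.mem_zpowers_iff.1 h2
      rw [pow_two, pow_mul, ← hk, ← zpow_natCast, ← zpow_mul, mul_comm, zpow_mul, zpow_natCast,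
        ← hzo, pow_orderOf_eq_one, one_zpow]
    have h2 : Monoid.exponent G ∣ p ^ 2 := Monoid.exponent_dvd_of_forall_pow_eq_one h1
    obtain ⟨i, hi, hie⟩ := (Nat.dvd_prime_pow hp).1 h2
    have hi2 : i = 2 := by
      by_contra hne
      have hi1 : i ≤ 1 := by omega
      apply hab
      have h3 : Monoid.exponent G ∣ p := by
        rw [hie]
        calc p ^ i ∣ p ^ 1 := pow_dvd_pow p hi1
          _ = p := pow_one p
      obtain ⟨m, hm⟩ := h3
      rw [hm, pow_mul, Monoid.pow_exponent_eq_one, one_pow]
    rw [hie, hi2]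
  · -- cyclic center
    apply Cfsg.Agent.Helper16.isCyclic_of_comm_of_uniqueOrderP (p := p)
      (hG.to_subgroup (Subgroup.center G))
      (fun x y => Subtype.ext (by have := Subgroup.mem_center_iff.1 y.2 x; simpa using this))
    intro x y hx hy
    have key : ∀ w : Subgroup.center G, orderOf w = p →
        Subgroup.zpowers ((a * b) ^ p) = Subgroup.zpowers (w : G) := by
      intro w hw
      set N := Subgroup.zpowers (w : G) with hN
      have hNle : N ≤ Subgroup.center G := Subgroup.zpowers_le.2 w.2
      have hNn : N.Normal := ⟨fun x hx g => by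
        have := Subgroup.mem_center_iff.1 (hNle hx) g
        rw [this, mul_inv_cancel_right]
        exact hx⟩
      have hwo : orderOf (w : G) = p := by rw [Subgroup.orderOf_coe, hw]
      have hNne : N ≠ ⊥ := by
        intro h
        have h1 : (w : G) ∈ N := Subgroup.mem_zpowers _
        rw [h, Subgroup.mem_bot] at h1
        rw [h1, orderOf_one] at hwo
        exact hp.one_lt.ne hwo
      have h2 := hquo' N hNne (a * b)
      have hle : Subgroup.zpowers ((a * b) ^ p) ≤ N := Subgroup.zpowers_le.2 h2
      apply Subgroup.eq_of_le_of_card_ge hle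
      have hcN : Nat.card N = p := by rw [hN, Nat.card_zpowers, hwo]
      have h3 : Nat.card (Subgroup.zpowers ((a * b) ^ p)) ∣ Nat.card N :=
        Subgroup.card_dvd_of_le hle
      rw [hcN] at h3 ⊢
      rcases (Nat.dvd_prime hp).1 h3 with h4 | h4
      · exfalso
        rw [Subgroup.card_eq_one, Subgroup.zpowers_eq_bot] at h4
        exact hab h4
      · exact h4.ge
    have h1 := key x hx
    have h2 := key y hy
    have h3 : (y : G) ∈ Subgroup.zpowers (x : G) := by
      rw [← h1, h2]
      exact Subgroup.mem_zpowers _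
    obtain ⟨k, hk⟩ := Subgroup.mem_zpowers_iff.1 h3
    rw [Subgroup.mem_zpowers_iff]
    exact ⟨k, Subtype.ext (by simpa using hk)⟩
  · -- order
    have h1 := card_ge_of_lcs_ne_bot hG (p - 1) (by have := hp.two_le; omega) hclass
    rwa [show p - 1 + 2 = p + 1 by have := hp.two_le; omega] at h1

end Cfsg.Agent.S3872
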