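import Mathlib
import Cfsg.Statements.S3873
import Cfsg.Agent.S3868

set_option autoImplicit false
set_option linter.style.haveILetI false
open Cfsg

namespace Cfsg.Agent.S3873

open Subgroup

theorem isPGroup_of_forall_pow_eq_one {G : Type*} [Group G] {p : ℕ} (H : Subgroup G)
    (h : ∀ x ∈ H, x ^ p = 1) : IsPGroup p H := fun y => ⟨1, by
  rw [pow_one]
  exact Subtype.ext (by rw [Subgroup.coe_pow]; exact h _ y.2)⟩

theorem conj_pow_eq_one {G : Type*} [Group G] {p : ℕ} {x : G} (hx : x ^ p = 1) (g : G) :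
    (g * x * g⁻¹) ^ p = 1 := by
  rw [conj_pow, hx, mul_one, mul_inv_cancel]

/-- Say that a finite group is p-exponent closed when its elements of order dividing p form a subgroup. Let G be a finite group that is not p-exponent closed, but all of whose proper subgroups and proper quotients are, and suppose G is neither simple nor a p-group. Then there is a prime q ≠ p such that G has order p · q^e, where e is the multiplicative order of q modulo p, and G has a normal elementary abelian subgroup of order q^e that is a minimal normal subgroup of G. -/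
theorem result {G : Type*} [Group G] [Finite G] {p : ℕ} [Fact p.Prime]
    (hnc : ¬ (∃ H : Subgroup G, (H : Set G) = {g : G | g ^ p = 1})) (hsub : ∀ K : Subgroup G, K ≠ ⊤ → (∃ H : Subgroup ↥K, (H : Set ↥K) = {g : ↥K | g ^ p = 1}))
    (hquo : ∀ (N : Subgroup G) [N.Normal], N ≠ ⊥ → (∃ H : Subgroup (G ⧸ N), (H : Set (G ⧸ N)) = {g : (G ⧸ N) | g ^ p = 1}))
    (hns : ¬ IsSimpleGroup G) (hnp : ¬ IsPGroup p G) :
    ∃ q : ℕ, q.Prime ∧ q ≠ p ∧ Nat.card G = p * q ^ orderOf (q : ZMod p) ∧
      ∃ A : Subgroup G, A.Normal ∧ Nat.card ↥A = q ^ orderOf (q : ZMod p) ∧ Cfsg.IsElementaryAbelian q A ∧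
        ∀ B : Subgroup G, B.Normal → B ≤ A → B = ⊥ ∨ B = A := by
  classical
  have hp : p.Prime := Fact.out
  obtain ⟨a, b, ha, hb, hab⟩ : ∃ a b : G, a ^ p = 1 ∧ b ^ p = 1 ∧ (a * b) ^ p ≠ 1 := by
    by_contra hcon
    push Not at hcon
    apply hnc
    exact ⟨{ carrier := {g | g ^ p = 1}
             mul_mem' := fun {x y} hx hy => hcon x y hx hy
             one_mem' := one_pow p
             inv_mem' := fun {x} hx => by
               show (x⁻¹) ^ p = 1
               rw [inv_pow, hx, inv_one] }, rfl⟩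
  have hgen : Subgroup.closure ({a, b} : Set G) = ⊤ := by
    by_contra hK
    obtain ⟨H, hH⟩ := hsub _ hK
    have haK : a ∈ closure ({a, b} : Set G) := subset_closure (by simp)
    have hbK : b ∈ closure ({a, b} : Set G) := subset_closure (by simp)
    have h1 : (⟨a, haK⟩ : closure ({a, b} : Set G)) ∈ H := by
      have : (⟨a, haK⟩ : closure ({a, b} : Set G)) ∈ (H : Set _) := by
        rw [hH]
        exact Subtype.ext (by simpa using ha)
      exact this
    have h2 : (⟨b, hbK⟩ : closure ({a, b} : Set G)) ∈ H := by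
      have : (⟨b, hbK⟩ : closure ({a, b} : Set G)) ∈ (H : Set _) := by
        rw [hH]
        exact Subtype.ext (by simpa using hb)
      exact this
    have h3 : (⟨a, haK⟩ * ⟨b, hbK⟩ : closure ({a, b} : Set G)) ∈ (H : Set _) := H.mul_mem h1 h2
    rw [hH] at h3
    have h4 : ((⟨a, haK⟩ * ⟨b, hbK⟩ : closure ({a, b} : Set G)) ^ p : closure ({a, b} : Set G)) = 1 :=
      h3
    exact hab (by simpa using congrArg Subtype.val h4)
  have hexp : ∀ (N : Subgroup G) [N.Normal], N ≠ ⊥ → ∀ g : G ⧸ N, g ^ p = 1 := by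
    intro N _ hN g
    obtain ⟨H, hH⟩ := hquo N hN
    have h1 : ∀ x : G, x ^ p = 1 → (x : G ⧸ N) ∈ H := fun x hx => by
      have : ((x : G ⧸ N)) ∈ (H : Set (G ⧸ N)) := by
        rw [hH]
        show (x : G ⧸ N) ^ p = 1
        rw [← QuotientGroup.mk_pow, hx, QuotientGroup.mk_one]
      exact this
    have h2 : closure ({a, b} : Set G) ≤ H.comap (QuotientGroup.mk' N) := by
      rw [closure_le]
      rintro x (rfl | rfl)
      · exact h1 _ ha
      · exact h1 _ hb
    rw [hgen] at h2
    obtain ⟨g, rfl⟩ := QuotientGroup.mk_surjective g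
    have h3 : (g : G ⧸ N) ∈ (H : Set (G ⧸ N)) := h2 (mem_top g)
    rw [hH] at h3
    exact h3
  haveI : Nontrivial G := by
    by_contra h
    rw [not_nontrivial_iff_subsingleton] at h
    exact hnp (IsPGroup.of_card (n := 0) (by rw [pow_zero, Nat.card_eq_one_iff_unique]; exact ⟨h, ⟨1⟩⟩))
  obtain ⟨N, hNn, hN0, hN1⟩ : ∃ K : Subgroup G, K.Normal ∧ K ≠ ⊥ ∧ K ≠ ⊤ := by
    by_contra hcon
    push Not at hcon
    apply hns
    exact ⟨fun H hH => by
      by_cases h0 : H = ⊥
      · exact Or.inl h0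
      · exact Or.inr (hcon H hH h0)⟩
  obtain ⟨A, hAN, hAmin⟩ :=
    Finite.exists_le_minimal (p := fun K : Subgroup G => K.Normal ∧ K ≠ ⊥) ⟨hNn, hN0⟩
  have hAn : A.Normal := hAmin.prop.1
  have hA0 : A ≠ ⊥ := hAmin.prop.2
  have hA1 : A ≠ ⊤ := fun h => hN1 (top_le_iff.mp (h ▸ hAN))
  haveI := hAn
  have hmin : ∀ B : Subgroup G, B.Normal → B ≤ A → B = ⊥ ∨ B = A := by
    intro B hBn hBA
    by_cases hB : B = ⊥
    · exact Or.inl hB
    · exact Or.inr (le_antisymm hBA (hAmin.le_of_le ⟨hBn, hB⟩ hBA))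
  have hpowA : ∀ g : G, g ^ p ∈ A := by
    intro g
    have := hexp A hA0 (g : G ⧸ A)
    rw [← QuotientGroup.mk_pow, QuotientGroup.eq_one_iff] at this
    exact this
  -- the elements of order dividing `p` in `A`
  obtain ⟨H, hH⟩ := hsub A hA1
  have hHmem : ∀ y : A, y ∈ H ↔ y ^ p = 1 := by
    intro y
    have : y ∈ (H : Set A) ↔ y ∈ {g : A | g ^ p = 1} := by rw [hH]
    exact this
  have hBn : (H.map A.subtype).Normal := by
    constructor
    rintro x ⟨y, hy, rfl⟩ g
    refine ⟨⟨g * y * g⁻¹, hAn.conj_mem _ y.2 g⟩, ?_, rfl⟩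
    have hy := (hHmem y).mp hy
    refine (hHmem _).mpr ?_
    apply Subtype.ext
    rw [Subgroup.coe_pow]
    have h1 : (y : G) ^ p = 1 := by
      have := congrArg Subtype.val hy
      simpa using this
    exact conj_pow_eq_one h1 g
  have hA_free : ∀ x ∈ A, x ^ p = 1 → x = 1 := by
    rcases hmin _ hBn (map_subtype_le _) with h | h
    · intro x hx hxp
      have h1 : (⟨x, hx⟩ : A) ∈ H := by
        rw [hHmem]
        exact Subtype.ext (by simpa using hxp)
      have h2 : x ∈ H.map A.subtype := ⟨⟨x, hx⟩, h1, rfl⟩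
      rw [h, mem_bot] at h2
      exact h2
    · exfalso
      apply hnp
      intro g
      refine ⟨2, ?_⟩
      have h1 : g ^ p ∈ H.map A.subtype := by
        rw [h]
        exact hpowA g
      obtain ⟨y, hy, hyg⟩ := h1
      have hy := (hHmem y).mp hy
      have h2 : (g ^ p) ^ p = 1 := by
        rw [← hyg]
        have := congrArg Subtype.val hy
        simpa using this
      rw [pow_two, pow_mul]
      exact h2
  have hpA : ¬ p ∣ Nat.card A := by
    intro hdvd
    obtain ⟨x, hx⟩ := exists_prime_orderOf_dvd_card' p hdvd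
    have h1 : (x : G) ^ p = 1 := by
      have : x ^ p = 1 := by rw [← hx]; exact pow_orderOf_eq_one x
      have := congrArg Subtype.val this
      simpa using this
    have h2 := hA_free x x.2 h1
    have h3 : x = 1 := Subtype.ext h2
    rw [h3, orderOf_one] at hx
    exact hp.one_lt.ne hx
  have hkey : ∀ x : G, (∃ k : ℕ, x ^ (p ^ k) = 1) → x ^ p = 1 := by
    rintro x ⟨k, hk⟩
    have h1 : orderOf (x ^ p) ∣ p ^ k := by
      apply orderOf_dvd_of_pow_eq_one
      rw [← pow_mul, mul_comm, pow_mul, hk, one_pow]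
    have h2 : orderOf (x ^ p) ∣ Nat.card A := by
      have := orderOf_dvd_natCard (⟨x ^ p, hpowA x⟩ : A)
      rwa [← Subgroup.orderOf_coe] at this
    have h3 : orderOf (x ^ p) ∣ Nat.gcd (p ^ k) (Nat.card A) := Nat.dvd_gcd h1 h2
    have h4 : Nat.gcd (p ^ k) (Nat.card A) = 1 :=
      Nat.Coprime.pow_left k ((Nat.Prime.coprime_iff_not_dvd hp).mpr hpA)
    rw [h4, Nat.dvd_one, orderOf_eq_one_iff] at h3
    exact h3
  -- now verify the hypotheses of the theorem on minimal non-`p`-closed groups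
  have hncl : ¬ Cfsg.IsPClosed p G := by
    intro hcl
    obtain ⟨P⟩ : Nonempty (Sylow p G) := inferInstance
    haveI hPn := hcl P
    apply hnc
    refine ⟨P, ?_⟩
    ext g
    constructor
    · intro hg
      obtain ⟨k, hk⟩ := P.2 ⟨g, hg⟩
      apply hkey g ⟨k, ?_⟩
      have := congrArg Subtype.val hk
      simpa using this
    · intro hg
      have hg' : g ^ p = 1 := hg
      have hz : IsPGroup p (zpowers g) := by
        apply isPGroup_of_forall_pow_eq_one
        intro x hx
        obtain ⟨n, rfl⟩ := mem_zpowers_iff.mp hx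
        rw [← zpow_natCast, ← zpow_mul, mul_comm, zpow_mul, zpow_natCast, hg', one_zpow]
      obtain ⟨Q, hQ⟩ := hz.exists_le_sylow
      obtain ⟨h, hh⟩ := MulAction.exists_smul_eq G P Q
      rw [Sylow.smul_eq_of_normal] at hh
      rw [hh]
      exact hQ (mem_zpowers g)
  have hsub' : ∀ K : Subgroup G, K ≠ ⊤ → Cfsg.IsPClosed p ↥K := by
    intro K hK Q
    obtain ⟨Ω, hΩ⟩ := hsub K hK
    have hΩmem : ∀ y : K, y ∈ Ω ↔ y ^ p = 1 := by
      intro y
      have : y ∈ (Ω : Set K) ↔ y ∈ {g : K | g ^ p = 1} := by rw [hΩ]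
      exact this
    have hΩp : IsPGroup p Ω := isPGroup_of_forall_pow_eq_one Ω (fun x hx => (hΩmem x).mp hx)
    have hQΩ : (Q : Subgroup K) ≤ Ω := by
      intro y hy
      rw [hΩmem]
      obtain ⟨k, hk⟩ := Q.2 ⟨y, hy⟩
      have h1 : (y : G) ^ (p ^ k) = 1 := by
        have := congrArg (fun z : Q => ((z : K) : G)) hk
        simpa using this
      have h2 := hkey (y : G) ⟨k, h1⟩
      exact Subtype.ext (by simpa using h2)
    have heq : Ω = Q := Q.is_maximal' hΩp hQΩ
    rw [← heq]
    constructor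
    intro y hy h
    rw [hΩmem] at hy ⊢
    exact conj_pow_eq_one hy h
  have hquo' : ∀ (N : Subgroup G) [N.Normal], N ≠ ⊥ → Cfsg.IsPClosed p (G ⧸ N) := by
    intro N _ hN
    apply Cfsg.Agent.S3869.isPClosed_of_isPGroup
    intro g
    exact ⟨1, by rw [pow_one]; exact hexp N hN g⟩
  exact Cfsg.Agent.S3868.result hncl hsub' hquo' hns

end Cfsg.Agent.S3873
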