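import Mathlib
import Cfsg.Statements.S3881
import Cfsg.Agent.Lib.Helper21.Metacyclic

set_option autoImplicit false
open Cfsg

namespace Cfsg.Agent.S3881

open Cfsg.Agent.Helper21
open scoped commutatorElement

/-- Let p be an odd prime and G a finite metacyclic p-group (G has a cyclic normal subgroup with cyclic quotient). Suppose G is non-abelian with |G'| = p^n. Then for 1 ≤ i ≤ n the number of elements of G whose conjugacy class has exactly p^i elements is |Z(G)| · (p^(2i) − p^(2i−2)). -/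
theorem result {G : Type*} [Group G] [Finite G] {p : ℕ} [Fact p.Prime] (hp : p ≠ 2) (hG : IsPGroup p G) (hmc : Cfsg.IsMetacyclic G) (n : ℕ) (hn : n ≠ 0) (hGn : Nat.card ↥(commutator G) = p ^ n) (i : ℕ) (hi : 1 ≤ i) (hin : i ≤ n) :
    Nat.card {g : G // (Subgroup.centralizer ({g} : Set G)).index = p ^ i} =
      Nat.card ↥(Subgroup.center G) * (p ^ (2 * i) - p ^ (2 * i - 2)) := by
  have hpp : p.Prime := Fact.out
  obtain ⟨N, hNn, hNc, hQc⟩ := hmc
  obtain ⟨D⟩ := Cfsg.Agent.Helper21.exists_mcGen N hNc hQc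
  have hq : orderOf ⁅D.b, D.a⁆ = p ^ n := by rw [← D.card_commutator hG, hGn]
  have hset : {g : G | (Subgroup.centralizer ({g} : Set G)).index = p ^ i} =
      (D.W (p ^ i) : Set G) \ (D.W (p ^ (i - 1)) : Set G) := by
    ext g
    rw [Set.mem_diff, SetLike.mem_coe, SetLike.mem_coe, D.mem_W_pow_iff hp hG,
      D.mem_W_pow_iff hp hG, Set.mem_setOf_eq]
    obtain ⟨N', hN'⟩ := IsPGroup.iff_card.mp hG
    have hdvd : (Subgroup.centralizer ({g} : Set G)).index ∣ p ^ N' := by
      rw [← hN']; exact Subgroup.index_dvd_card _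
    obtain ⟨e, -, he⟩ := (Nat.dvd_prime_pow hpp).mp hdvd
    rw [he]
    constructor
    · intro h
      have hei : e = i := Nat.pow_right_injective hpp.two_le h
      subst hei
      refine ⟨le_rfl, ?_⟩
      rw [not_le]
      exact Nat.pow_lt_pow_right hpp.one_lt (by omega)
    · rintro ⟨h1, h2⟩
      have h1' := (Nat.pow_le_pow_iff_right hpp.one_lt).mp h1
      rw [not_le] at h2
      have h2' := (Nat.pow_lt_pow_iff_right hpp.one_lt).mp h2
      congr 1
      omega
  have hsub : (D.W (p ^ (i - 1)) : Set G) ⊆ (D.W (p ^ i) : Set G) := by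
    intro g hg
    rw [SetLike.mem_coe, D.mem_W_pow_iff hp hG] at hg ⊢
    exact hg.trans (Nat.pow_le_pow_right hpp.pos (Nat.sub_le i 1))
  have h1 : Nat.card {g : G // (Subgroup.centralizer ({g} : Set G)).index = p ^ i} =
      Set.ncard {g : G | (Subgroup.centralizer ({g} : Set G)).index = p ^ i} :=
    Nat.card_coe_set_eq _
  rw [h1, hset, Set.ncard_sdiff hsub (Set.toFinite _), ← Nat.card_coe_set_eq,
    ← Nat.card_coe_set_eq]
  have hc1 : Nat.card ((D.W (p ^ i) : Set G)) = Nat.card (Subgroup.center G) * p ^ (2 * i) :=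
    D.card_W hp hG n hq i hin
  have hc2 : Nat.card ((D.W (p ^ (i - 1)) : Set G)) =
      Nat.card (Subgroup.center G) * p ^ (2 * (i - 1)) :=
    D.card_W hp hG n hq (i - 1) (by omega)
  rw [hc1, hc2, show 2 * (i - 1) = 2 * i - 2 by omega, Nat.mul_sub]

end Cfsg.Agent.S3881
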