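import Mathlib
import Cfsg.Statements.S3882
import Cfsg.Agent.Lib.Helper21.Metacyclic

set_option autoImplicit false
open Cfsg

namespace Cfsg.Agent.S3882

open Cfsg.Agent.Helper21
open scoped commutatorElement

variable {G : Type*} [Group G] [Finite G] {p : ℕ} [hp : Fact p.Prime]

theorem pow_dvd_of_div_gcd_le {n s j : ℕ} (hs : s ≤ n)
    (h : p ^ n / Nat.gcd (p ^ n) j ≤ p ^ (n - s)) : p ^ s ∣ j := by
  obtain ⟨m, hm, hgm⟩ := (Nat.dvd_prime_pow hp.out).mp (Nat.gcd_dvd_left (p ^ n) j)
  rw [hgm, Nat.pow_div hm hp.out.pos] at h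
  have h1 : n - m ≤ n - s := (Nat.pow_le_pow_iff_right hp.out.one_lt).mp h
  have h2 : s ≤ m := by omega
  exact (pow_dvd_pow p h2).trans (hgm ▸ Nat.gcd_dvd_right (p ^ n) j)

theorem pow_div_gcd_dvd {n s e : ℕ} (he : e ≤ n) (hs : s ≤ n) :
    p ^ e / Nat.gcd (p ^ e) (p ^ s) ∣ p ^ (n - s) := by
  rcases le_total e s with h | h
  · rw [Nat.gcd_eq_left (pow_dvd_pow p h), Nat.div_self (pow_pos hp.out.pos e)]
    exact one_dvd _
  · rw [Nat.gcd_eq_right (pow_dvd_pow p h), Nat.pow_div h hp.out.pos]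
    exact pow_dvd_pow p (by omega)

/-- the subgroup generated by the `p^s`-th powers is the set of elements of class size at most
`p^(n-s)` -/
theorem agemo_eq_W (D : MCGen G) (hodd : p ≠ 2) (hG : IsPGroup p G) (n : ℕ)
    (hGn : Nat.card ↥(commutator G) = p ^ n) (s : ℕ) (hs : s ≤ n) :
    Subgroup.closure {x : G | ∃ y : G, y ^ p ^ s = x} = D.W (p ^ (n - s)) := by
  have hq : orderOf ⁅D.b, D.a⁆ = p ^ n := by rw [← D.card_commutator hG, hGn]
  apply le_antisymm
  · rw [Subgroup.closure_le]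
    rintro _ ⟨y, rfl⟩
    rw [SetLike.mem_coe, D.mem_W_iff hG]
    intro z
    rw [← orderOf_dvd_iff_pow_eq_one, D.orderOf_commutator_pow_right hodd hG]
    have hdvd : orderOf ⁅z, y⁆ ∣ p ^ n := by
      rw [← hq]
      exact orderOf_dvd_of_mem_zpowers (D.commutator_mem hG z y)
    obtain ⟨e, he, hoe⟩ := (Nat.dvd_prime_pow hp.out).mp hdvd
    rw [hoe]
    exact pow_div_gcd_dvd he hs
  · intro g hg
    rw [D.mem_W_pow_iff hodd hG] at hg
    obtain ⟨j, i, rfl⟩ := D.gen g
    rw [D.index_centralizer_gen hodd hG, hq] at hg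
    have hj := pow_dvd_of_div_gcd_le hs ((le_max_left _ _).trans hg)
    have hi := pow_dvd_of_div_gcd_le hs ((le_max_right _ _).trans hg)
    obtain ⟨j', rfl⟩ := hj
    obtain ⟨i', rfl⟩ := hi
    apply Subgroup.mul_mem
    · apply Subgroup.subset_closure
      exact ⟨D.b ^ j', by rw [← pow_mul, mul_comm]⟩
    · apply Subgroup.subset_closure
      exact ⟨D.a ^ i', by rw [← pow_mul, mul_comm]⟩

/-- Let p be an odd prime and G a finite metacyclic p-group (G has a cyclic normal subgroup with cyclic quotient). Suppose |G'| = p^n and 0 ≤ s ≤ n. Then an element g lies in the subgroup generated by the p^s-th powers if and only if its conjugacy class has at most p^(n−s) elements; in particular the subgroup generated by the p^n-th powers is the center of G. -/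
theorem result {G : Type*} [Group G] [Finite G] {p : ℕ} [Fact p.Prime] (hp : p ≠ 2) (hG : IsPGroup p G) (hmc : Cfsg.IsMetacyclic G) (n : ℕ) (hGn : Nat.card ↥(commutator G) = p ^ n) (s : ℕ) (hs : s ≤ n) (g : G) :
    (g ∈ Subgroup.closure {x : G | ∃ y : G, y ^ p ^ s = x} ↔ (Subgroup.centralizer ({g} : Set G)).index ≤ p ^ (n - s)) ∧
      Subgroup.closure {x : G | ∃ y : G, y ^ p ^ n = x} = Subgroup.center G := by
  obtain ⟨N, hNn, hNc, hQc⟩ := hmc
  obtain ⟨D⟩ := Cfsg.Agent.Helper21.exists_mcGen N hNc hQc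
  constructor
  · rw [agemo_eq_W D hp hG n hGn s hs, D.mem_W_pow_iff hp hG]
  · rw [agemo_eq_W D hp hG n hGn n le_rfl, Nat.sub_self, pow_zero]
    ext g
    rw [D.mem_W_iff hG, Subgroup.mem_center_iff]
    constructor
    · intro h y
      have := h y
      rw [pow_one, commutatorElement_eq_one_iff_commute] at this
      exact this.eq
    · intro h y
      rw [pow_one, commutatorElement_eq_one_iff_commute]
      exact h y

end Cfsg.Agent.S3882
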