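import Mathlib
import Cfsg.Statements.S3883
import Cfsg.Agent.Lib.Helper21.MetacyclicAbelian
import Cfsg.Agent.Lib.Helper21.PGroupFrattini
import Cfsg.Agent.Lib.Helper9.FrattiniElem
import Cfsg.Agent.S3882

set_option autoImplicit false
open Cfsg

namespace Cfsg.Agent.S3883

open Cfsg.Agent.Helper21
open scoped commutatorElement

variable {G : Type*} [Group G] [Finite G] {p : ℕ} [hp : Fact p.Prime]

theorem W_normal (D : MCGen G) (hG : IsPGroup p G) (t : ℕ) : (D.W t).Normal := by
  constructor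
  intro g hg x
  rw [D.mem_W_iff hG] at hg ⊢
  intro y
  have hid : ⁅y, x * g * x⁻¹⁆ = x * ⁅x⁻¹ * y * x, g⁆ * x⁻¹ := by
    simp only [commutatorElement_def]
    group
  rw [hid, conj_pow, hg]
  group

/-- `[b, a]` is a `p`-th power -/
theorem exists_pow_eq_commutator (D : MCGen G) (hG : IsPGroup p G) :
    ∃ z : G, z ^ p = ⁅D.b, D.a⁆ := by
  obtain ⟨u, hu1, hu⟩ := D.exists_conj hG D.b
  have h1 : ⁅D.b, D.a⁆ = D.a ^ u * D.a⁻¹ := by
    rw [commutatorElement_def, hu D.a (Subgroup.mem_zpowers _)]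
  have hu0 : 1 ≤ u := by
    by_contra h
    have h0 : u = 0 := by omega
    subst h0
    have h2 := hu1
    unfold Nat.ModEq at h2
    rw [Nat.zero_mod, Nat.one_mod_eq_one.mpr hp.out.one_lt.ne'] at h2
    omega
  have h2 : p ∣ u - 1 := (Nat.modEq_iff_dvd' hu0).mp hu1.symm
  obtain ⟨k, hk⟩ := h2
  refine ⟨D.a ^ k, ?_⟩
  rw [h1, ← pow_mul, mul_comm k p, ← hk]
  have : u = (u - 1) + 1 := by omega
  conv_rhs => rw [this, pow_succ]
  group

theorem frattini_eq_W (D : MCGen G) (hodd : p ≠ 2) (hG : IsPGroup p G) (n : ℕ) (hn : 1 ≤ n)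
    (hGn : Nat.card ↥(commutator G) = p ^ n) : frattini G = D.W (p ^ (n - 1)) := by
  have hag := Cfsg.Agent.S3882.agemo_eq_W D hodd hG n hGn 1 hn
  rw [pow_one] at hag
  have hpowmem : ∀ y : G, y ^ p ∈ D.W (p ^ (n - 1)) := by
    intro y
    rw [← hag]
    exact Subgroup.subset_closure ⟨y, rfl⟩
  apply le_antisymm
  · haveI := W_normal D hG (p ^ (n - 1))
    have hc0 : ⁅D.b, D.a⁆ ∈ D.W (p ^ (n - 1)) := by
      obtain ⟨z, hz⟩ := exists_pow_eq_commutator D hG
      rw [← hz]
      exact hpowmem z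
    have hcomm : ∀ a b : G ⧸ D.W (p ^ (n - 1)), a * b = b * a := by
      intro a b
      obtain ⟨g, rfl⟩ := QuotientGroup.mk_surjective a
      obtain ⟨h, rfl⟩ := QuotientGroup.mk_surjective b
      rw [← QuotientGroup.mk_mul, ← QuotientGroup.mk_mul, eq_comm, QuotientGroup.eq]
      have hid : (h * g)⁻¹ * (g * h) = ⁅g⁻¹, h⁻¹⁆ := by
        rw [commutatorElement_def]
        group
      rw [hid]
      exact (Subgroup.zpowers_le.mpr hc0) (D.commutator_mem hG g⁻¹ h⁻¹)
    have hexp : ∀ a : G ⧸ D.W (p ^ (n - 1)), a ^ p = 1 := by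
      intro a
      obtain ⟨g, rfl⟩ := QuotientGroup.mk_surjective a
      rw [← QuotientGroup.mk_pow, QuotientGroup.eq_one_iff]
      exact hpowmem g
    have := Cfsg.Agent.Helper9.frattini_le_ker_of_elementary (p := p)
      (QuotientGroup.mk' (D.W (p ^ (n - 1)))) hcomm hexp
    rwa [QuotientGroup.ker_mk'] at this
  · rw [← hag, Subgroup.closure_le]
    rintro _ ⟨y, rfl⟩
    exact pow_mem_frattini_of_isPGroup hG y

/-- Let p be an odd prime and G a finite metacyclic p-group (G has a cyclic normal subgroup with cyclic quotient). Suppose G is non-abelian. Then an element g of G lies outside the Frattini subgroup if and only if its centralizer C_G(g) is abelian. -/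
theorem result {G : Type*} [Group G] [Finite G] {p : ℕ} [Fact p.Prime] (hp : p ≠ 2) (hG : IsPGroup p G) (hmc : Cfsg.IsMetacyclic G) (hna : ¬ IsMulCommutative G) (g : G) :
    g ∉ frattini G ↔ IsMulCommutative ↥(Subgroup.centralizer ({g} : Set G)) := by
  have hpp : p.Prime := Fact.out
  obtain ⟨N, hNn, hNc, hQc⟩ := hmc
  obtain ⟨D⟩ := Cfsg.Agent.Helper21.exists_mcGen N hNc hQc
  obtain ⟨n, hGn⟩ := IsPGroup.iff_card.mp (hG.to_subgroup (commutator G))
  have hn : 1 ≤ n := by
    by_contra h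
    have h0 : n = 0 := by omega
    subst h0
    rw [pow_zero, Subgroup.card_eq_one] at hGn
    apply hna
    refine ⟨⟨fun a b => ?_⟩⟩
    have h1 : ⁅a, b⁆ ∈ commutator G := by
      rw [commutator_def]
      exact Subgroup.commutator_mem_commutator (Subgroup.mem_top _) (Subgroup.mem_top _)
    rw [hGn, Subgroup.mem_bot, commutatorElement_eq_one_iff_mul_comm] at h1
    exact h1
  have hq : orderOf ⁅D.b, D.a⁆ = p ^ n := by rw [← D.card_commutator hG, hGn]
  rw [frattini_eq_W D hp hG n hn hGn, D.mem_W_pow_iff hp hG, D.isMulCommutative_iff_card_le hp hG, hq]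
  have h1 := Subgroup.card_mul_index (Subgroup.centralizer ({g} : Set G))
  rw [← h1, Nat.mul_le_mul_left_iff Nat.card_pos]
  obtain ⟨M, hM⟩ := IsPGroup.iff_card.mp hG
  have hdvd : (Subgroup.centralizer ({g} : Set G)).index ∣ p ^ M := by
    rw [← hM]; exact Subgroup.index_dvd_card _
  obtain ⟨e, -, he⟩ := (Nat.dvd_prime_pow hpp).mp hdvd
  rw [he, Nat.pow_le_pow_iff_right hpp.one_lt, Nat.pow_le_pow_iff_right hpp.one_lt]
  omega

end Cfsg.Agent.S3883
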