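import Mathlib
import Cfsg.Statements.S3884
import Cfsg.Agent.Lib.Helper21.MetacyclicAbelian

set_option autoImplicit false
open Cfsg

namespace Cfsg.Agent.S3884

open Cfsg.Agent.Helper21
open scoped commutatorElement

theorem mul_pow_of_conj {G : Type*} [Group G] (c x : G) (v : ℕ) (hx : x * c * x⁻¹ = c ^ v)
    (r : ℕ) : (c * x) ^ r = c ^ gs v r * x ^ r := by
  induction r with
  | zero => simp
  | succ r ih =>
    have h1 : x * c ^ gs v r * x⁻¹ = c ^ (v * gs v r) := by
      rw [← conj_pow, hx, ← pow_mul]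
    have h2 : c * x * (c ^ gs v r * x ^ r) = c * (x * c ^ gs v r * x⁻¹) * (x * x ^ r) := by
      group
    rw [pow_succ', ih, gs_succ, h2, h1, pow_succ' x r, ← pow_succ']

theorem exists_pow_eq_of_mem_zpowers {G : Type*} [Group G] [Finite G] {y z : G}
    (h : z ∈ Subgroup.zpowers y) : ∃ k : ℕ, y ^ k = z := by
  rw [← (isOfFinOrder_of_finite _).mem_powers_iff_mem_zpowers, Submonoid.mem_powers_iff] at h
  exact h

/-- Let p be an odd prime and G a finite metacyclic p-group (G has a cyclic normal subgroup with cyclic quotient). Then G is the product of two cyclic subgroups with trivial intersection: there are cyclic subgroups A and B with A ∩ B = 1 and |A| · |B| = |G|. -/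
theorem result {G : Type*} [Group G] [Finite G] {p : ℕ} [Fact p.Prime] (hp : p ≠ 2) (hG : IsPGroup p G) (hmc : Cfsg.IsMetacyclic G) : ∃ A B : Subgroup G, IsCyclic ↥A ∧ IsCyclic ↥B ∧ A ⊓ B = ⊥ ∧ Nat.card ↥A * Nat.card ↥B = Nat.card G := by
  have hpp : p.Prime := Fact.out
  obtain ⟨N₀, hNn, hNc, hQc⟩ := hmc
  obtain ⟨D⟩ := Cfsg.Agent.Helper21.exists_mcGen N₀ hNc hQc
  set N := Subgroup.zpowers D.a with hN
  obtain ⟨α, hα⟩ := (IsPGroup.iff_orderOf.mp hG) D.a
  obtain ⟨β, hβ⟩ := (IsPGroup.iff_orderOf.mp (hG.to_quotient (Subgroup.zpowers D.a))) D.bq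
  have hbN : D.b ^ p ^ β ∈ N := by
    rw [← hβ]; exact D.bq_pow_orderOf_mem
  obtain ⟨ρ, hρ⟩ := (IsPGroup.iff_orderOf.mp hG) (D.b ^ p ^ β)
  have hρα : ρ ≤ α := by
    have := orderOf_dvd_of_mem_zpowers hbN
    rw [hρ, hα] at this
    exact (Nat.pow_dvd_pow_iff_le_right hpp.one_lt).mp this
  have hcardG : Nat.card G = p ^ α * p ^ β := by
    rw [D.card_eq_orderOf_mul, hα, hβ]
  have hbj : ∀ j : ℕ, D.b ^ j ∈ N → p ^ β ∣ j := by
    intro j hj
    rw [← hβ]
    apply orderOf_dvd_of_pow_eq_one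
    rw [MCGen.bq, ← QuotientGroup.mk_pow, QuotientGroup.eq_one_iff]
    exact hj
  by_cases hcase : ρ ≤ α - β
  · -- the split case
    obtain ⟨u, hu1, hu⟩ := D.exists_conj hG D.b
    set g := gs u (p ^ β) with hg
    have hord : orderOf (D.a ^ g) = p ^ (α - β) := by
      rw [orderOf_pow, hα, gcd_pow_gs hpp hp hu1, pow_div_gcd_pow hpp.pos]
    have hmem : (D.b ^ p ^ β)⁻¹ ∈ Subgroup.zpowers (D.a ^ g) :=
      D.mem_zpowers_of_orderOf_dvd (N.inv_mem hbN) (Subgroup.npow_mem_zpowers _ _) (by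
        rw [orderOf_inv, hρ, hord]; exact pow_dvd_pow p hcase)
    obtain ⟨k, hk⟩ := exists_pow_eq_of_mem_zpowers hmem
    set b' := D.a ^ k * D.b with hb'
    have hconj : D.b * D.a ^ k * D.b⁻¹ = (D.a ^ k) ^ u := hu _ (Subgroup.npow_mem_zpowers _ _)
    have hb'pow : b' ^ p ^ β = 1 := by
      rw [hb', mul_pow_of_conj (D.a ^ k) D.b u hconj (p ^ β), ← pow_mul, mul_comm k, pow_mul, hk]
      group
    have hb'j : ∀ j : ℕ, b' ^ j ∈ N → p ^ β ∣ j := by
      intro j hj
      rw [hb', mul_pow_of_conj (D.a ^ k) D.b u hconj j] at hj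
      have h1 : (D.a ^ k) ^ gs u j ∈ N := N.pow_mem (Subgroup.npow_mem_zpowers _ _) _
      have h2 : D.b ^ j ∈ N := by
        have := N.mul_mem (N.inv_mem h1) hj
        simpa using this
      exact hbj j h2
    have hordb' : orderOf b' = p ^ β := by
      apply Nat.dvd_antisymm (orderOf_dvd_of_pow_eq_one hb'pow)
      apply hb'j
      rw [pow_orderOf_eq_one]
      exact N.one_mem
    refine ⟨Subgroup.zpowers b', N, inferInstance, inferInstance, ?_, ?_⟩
    · rw [eq_bot_iff]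
      rintro z ⟨hz1, hz2⟩
      obtain ⟨j, rfl⟩ := exists_pow_eq_of_mem_zpowers hz1
      obtain ⟨m, rfl⟩ := hb'j j hz2
      rw [Subgroup.mem_bot, pow_mul, hb'pow, one_pow]
    · rw [Nat.card_zpowers, Nat.card_zpowers, hordb', hα, hcardG, mul_comm]
  · -- the non-split case
    rw [not_le] at hcase
    set τ := α - ρ with hτ
    have hτβ : τ < β := by omega
    have hτα : τ + ρ = α := by omega
    set x := D.b ^ p ^ (β - τ) with hx
    have hxpow : x ^ p ^ τ = D.b ^ p ^ β := by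
      rw [hx, ← pow_mul, ← pow_add]
      congr 2; omega
    obtain ⟨v, hv1, hv⟩ := D.exists_conj hG x
    set g := gs v (p ^ τ) with hg
    have hord : orderOf (D.a ^ g) = p ^ ρ := by
      rw [orderOf_pow, hα, gcd_pow_gs hpp hp hv1, pow_div_gcd_pow hpp.pos]
      congr 1; omega
    have hmem : (D.b ^ p ^ β)⁻¹ ∈ Subgroup.zpowers (D.a ^ g) :=
      D.mem_zpowers_of_orderOf_dvd (N.inv_mem hbN) (Subgroup.npow_mem_zpowers _ _) (by
        rw [orderOf_inv, hρ, hord])
    obtain ⟨k, hk⟩ := exists_pow_eq_of_mem_zpowers hmem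
    have hpk : ¬ p ∣ k := by
      intro hdvd
      have h1 : orderOf ((D.a ^ g) ^ k) = p ^ ρ / Nat.gcd (p ^ ρ) k := by
        rw [orderOf_pow, hord]
      rw [hk, orderOf_inv, hρ] at h1
      have hρ1 : ρ ≠ 0 := by omega
      have hpg : p ∣ Nat.gcd (p ^ ρ) k := Nat.dvd_gcd (dvd_pow_self p hρ1) hdvd
      have hgd : Nat.gcd (p ^ ρ) k ∣ p ^ ρ := Nat.gcd_dvd_left _ _
      have h2 := Nat.div_mul_cancel hgd
      rw [← h1] at h2
      have hg1 : Nat.gcd (p ^ ρ) k = 1 :=
        Nat.eq_of_mul_eq_mul_left (pow_pos hpp.pos ρ) (h2.trans (mul_one _).symm)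
      rw [hg1] at hpg
      exact hpp.one_lt.ne' (Nat.dvd_one.mp hpg)
    set c := D.a ^ k with hc
    have hcN : c ∈ N := Subgroup.npow_mem_zpowers _ _
    have hcord : orderOf c = p ^ α := by
      have hcop : Nat.Coprime (p ^ α) k :=
        Nat.Coprime.pow_left _ ((Nat.Prime.coprime_iff_not_dvd hpp).mpr hpk)
      rw [hc, orderOf_pow, hα, hcop.gcd_eq_one, Nat.div_one]
    set a' := c * x with ha'
    have hconj : x * c * x⁻¹ = c ^ v := hv c hcN
    have ha'pow : a' ^ p ^ τ = 1 := by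
      rw [ha', mul_pow_of_conj c x v hconj (p ^ τ), hxpow, ← hg, hc, ← pow_mul, mul_comm k,
        pow_mul, hk]
      group
    have ha'j : ∀ j : ℕ, a' ^ j ∈ Subgroup.zpowers D.b → p ^ τ ∣ j := by
      intro j hj
      rw [ha', mul_pow_of_conj c x v hconj j] at hj
      have hxj : x ^ j ∈ Subgroup.zpowers D.b :=
        Subgroup.pow_mem _ (Subgroup.npow_mem_zpowers _ _) _
      have h1 : c ^ gs v j ∈ Subgroup.zpowers D.b := by
        have := (Subgroup.zpowers D.b).mul_mem hj ((Subgroup.zpowers D.b).inv_mem hxj)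
        simpa using this
      obtain ⟨i, hi⟩ := exists_pow_eq_of_mem_zpowers h1
      have h2 : D.b ^ i ∈ N := by
        rw [hi]; exact N.pow_mem hcN _
      obtain ⟨i', rfl⟩ := hbj i h2
      have h3 : orderOf (c ^ gs v j) ∣ p ^ ρ := by
        rw [← hi, pow_mul, ← hρ]
        exact orderOf_pow_dvd _
      rw [orderOf_pow, hcord, gcd_pow_gs hpp hp hv1] at h3
      obtain ⟨m, hm, hgm⟩ := (Nat.dvd_prime_pow hpp).mp (Nat.gcd_dvd_left (p ^ α) j)
      rw [hgm, Nat.pow_div hm hpp.pos, Nat.pow_dvd_pow_iff_le_right hpp.one_lt] at h3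
      have hτm : τ ≤ m := by omega
      exact (pow_dvd_pow p hτm).trans (hgm ▸ Nat.gcd_dvd_right _ _)
    have horda' : orderOf a' = p ^ τ := by
      apply Nat.dvd_antisymm (orderOf_dvd_of_pow_eq_one ha'pow)
      apply ha'j
      rw [pow_orderOf_eq_one]
      exact Subgroup.one_mem _
    have hordb : orderOf D.b = p ^ β * p ^ ρ := by
      have h1 : p ^ β ∣ orderOf D.b := hbj _ (by rw [pow_orderOf_eq_one]; exact N.one_mem)
      have h2 := orderOf_pow_of_dvd (pow_ne_zero β hpp.ne_zero) h1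
      rw [hρ] at h2
      rw [h2, Nat.mul_div_cancel' h1]
    refine ⟨Subgroup.zpowers a', Subgroup.zpowers D.b, inferInstance, inferInstance, ?_, ?_⟩
    · rw [eq_bot_iff]
      rintro z ⟨hz1, hz2⟩
      obtain ⟨j, rfl⟩ := exists_pow_eq_of_mem_zpowers hz1
      obtain ⟨m, rfl⟩ := ha'j j hz2
      rw [Subgroup.mem_bot, pow_mul, ha'pow, one_pow]
    · rw [Nat.card_zpowers, Nat.card_zpowers, horda', hordb, hcardG, ← hτα]
      ring

end Cfsg.Agent.S3884
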