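import Mathlib
import Cfsg.Statements.S3885
import Cfsg.Agent.Lib.Helper21.MetacyclicCD

set_option autoImplicit false
open Cfsg

namespace Cfsg.Agent.S3885

open Cfsg.Agent.Helper21

/-- Let p be an odd prime and G a finite metacyclic p-group (G has a cyclic normal subgroup with cyclic quotient). Then every abelian subgroup K of G containing the center of G is the center of its own centralizer: K = Z(C_G(K)). -/
theorem result {G : Type*} [Group G] [Finite G] {p : ℕ} [Fact p.Prime] (hp : p ≠ 2) (hG : IsPGroup p G) (hmc : Cfsg.IsMetacyclic G) (K : Subgroup G) (hK : IsMulCommutative ↥K) (hZ : Subgroup.center G ≤ K) :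
    K = Subgroup.centralizer (K : Set G) ⊓ Subgroup.centralizer (Subgroup.centralizer (K : Set G) : Set G) := by
  have hKC : K ≤ Subgroup.centralizer (K : Set G) := by
    intro x hx
    rw [Subgroup.mem_centralizer_iff]
    intro y hy
    have := hK.is_comm.comm (⟨y, hy⟩ : K) ⟨x, hx⟩
    exact congrArg Subtype.val this
  have hKCC : K ≤ Subgroup.centralizer (Subgroup.centralizer (K : Set G) : Set G) := by
    intro x hx
    rw [Subgroup.mem_centralizer_iff]
    intro y hy
    exact ((Subgroup.mem_centralizer_iff.mp hy) x hx).symm
  have h1 := card_mul_card_centralizer_eq hp hG hmc K hZ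
  have h2 := card_mul_card_centralizer_le hp hG hmc (Subgroup.centralizer (K : Set G))
  rw [← h1, mul_comm] at h2
  have hpos : 0 < Nat.card (Subgroup.centralizer (K : Set G)) := Nat.card_pos
  have h3 : Nat.card (Subgroup.centralizer (Subgroup.centralizer (K : Set G) : Set G)) ≤
      Nat.card K := Nat.le_of_mul_le_mul_right h2 hpos
  have h4 : K = Subgroup.centralizer (Subgroup.centralizer (K : Set G) : Set G) :=
    Subgroup.eq_of_le_of_card_ge hKCC h3
  apply le_antisymm (le_inf hKC hKCC)
  rw [← h4]
  exact inf_le_right

end Cfsg.Agent.S3885
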