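import Mathlib
import Cfsg.Statements.S3887
import Cfsg.Agent.Lib.Helper21.MetacyclicCD

set_option autoImplicit false
open Cfsg

namespace Cfsg.Agent.S3887

open Cfsg.Agent.Helper21

/-- Let p be an odd prime and G a finite metacyclic p-group (G has a cyclic normal subgroup with cyclic quotient). Then a subgroup R of G maximizes |R| · |C_G(R)| over all subgroups of G if and only if R contains the center of G. -/
theorem result {G : Type*} [Group G] [Finite G] {p : ℕ} [Fact p.Prime] (hp : p ≠ 2) (hG : IsPGroup p G) (hmc : Cfsg.IsMetacyclic G) (R : Subgroup G) : Cfsg.IsCentralizerLarge R ↔ Subgroup.center G ≤ R := by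
  have hmax : Cfsg.maxCentralizerProduct G = Nat.card G * Nat.card (Subgroup.center G) := by
    unfold Cfsg.maxCentralizerProduct
    apply IsGreatest.csSup_eq
    constructor
    · exact ⟨Subgroup.center G,
        card_mul_card_centralizer_eq hp hG hmc (Subgroup.center G) le_rfl⟩
    · rintro k ⟨S, rfl⟩
      exact card_mul_card_centralizer_le hp hG hmc S
  unfold Cfsg.IsCentralizerLarge
  rw [hmax]
  constructor
  · intro h
    set R₁ := R ⊔ Subgroup.center G with hR₁
    have hC : Subgroup.centralizer (R₁ : Set G) = Subgroup.centralizer (R : Set G) := by
      apply le_antisymm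
      · exact Subgroup.centralizer_le (le_sup_left : R ≤ R₁)
      · intro y hy
        have hle : R₁ ≤ Subgroup.centralizer ({y} : Set G) := by
          apply sup_le
          · intro r hr
            rw [Subgroup.mem_centralizer_iff]
            intro h' hh
            rw [Set.mem_singleton_iff] at hh
            rw [hh]
            exact ((Subgroup.mem_centralizer_iff.mp hy) r hr).symm
          · intro z hz
            rw [Subgroup.mem_centralizer_iff]
            intro h' hh
            rw [Set.mem_singleton_iff] at hh
            rw [hh]
            exact (Subgroup.mem_center_iff.mp hz y)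
        rw [Subgroup.mem_centralizer_iff]
        intro h' hh
        have := hle hh
        rw [Subgroup.mem_centralizer_iff] at this
        exact (this y rfl).symm
    have h1 := card_mul_card_centralizer_le hp hG hmc R₁
    rw [hC, ← h] at h1
    have hpos : 0 < Nat.card (Subgroup.centralizer (R : Set G)) := Nat.card_pos
    have h2 : Nat.card R₁ ≤ Nat.card R := Nat.le_of_mul_le_mul_right h1 hpos
    have h3 : R = R₁ := Subgroup.eq_of_le_of_card_ge le_sup_left h2
    rw [h3]
    exact le_sup_right
  · intro h
    exact card_mul_card_centralizer_eq hp hG hmc R h

end Cfsg.Agent.S3887
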