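import Mathlib
import Cfsg.Statements.S3889

set_option autoImplicit false
open Cfsg

namespace Cfsg.Agent.S3889

theorem not_lt_of_partition {G : Type*} [CommGroup G] [Finite G] (𝓑 : Set (Subgroup G))
    (hcov : ∀ g : G, ∃ B ∈ 𝓑, g ∈ B) (hdisj : ∀ B ∈ 𝓑, ∀ C ∈ 𝓑, B ≠ C → B ⊓ C = ⊥)
    (B₁ B₂ : Subgroup G) (h1 : B₁ ∈ 𝓑) (h2 : B₂ ∈ 𝓑) (hne : B₁ ≠ B₂) (x y : G) (hx : x ∈ B₁)
    (hy : y ∈ B₂) (hx1 : x ≠ 1) : ¬ orderOf x < orderOf y := by
  intro hlt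
  obtain ⟨B₃, h3, hxy⟩ := hcov (x * y)
  have hpos : 0 < orderOf x := orderOf_pos x
  have hpow : (x * y) ^ orderOf x = y ^ orderOf x := by
    rw [mul_pow, pow_orderOf_eq_one, one_mul]
  have hne1 : y ^ orderOf x ≠ 1 := by
    intro h
    have := orderOf_dvd_of_pow_eq_one h
    exact absurd (Nat.le_of_dvd hpos this) (not_le.mpr hlt)
  have hmem3 : y ^ orderOf x ∈ B₃ := hpow ▸ B₃.pow_mem hxy _
  have hmem2 : y ^ orderOf x ∈ B₂ := B₂.pow_mem hy _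
  have h32 : B₃ = B₂ := by
    by_contra hne32
    have := hdisj B₃ h3 B₂ h2 hne32
    have hm : y ^ orderOf x ∈ B₃ ⊓ B₂ := ⟨hmem3, hmem2⟩
    rw [this, Subgroup.mem_bot] at hm
    exact hne1 hm
  have hx2 : x ∈ B₂ := by
    have : x = (x * y) * y⁻¹ := by group
    rw [this]
    exact B₂.mul_mem (h32 ▸ hxy) (B₂.inv_mem hy)
  have hm : x ∈ B₁ ⊓ B₂ := ⟨hx, hx2⟩
  rw [hdisj B₁ h1 B₂ h2 hne, Subgroup.mem_bot] at hm
  exact hx1 hm

theorem orderOf_eq_of_partition {G : Type*} [CommGroup G] [Finite G] (𝓑 : Set (Subgroup G))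
    (hcov : ∀ g : G, ∃ B ∈ 𝓑, g ∈ B) (hdisj : ∀ B ∈ 𝓑, ∀ C ∈ 𝓑, B ≠ C → B ⊓ C = ⊥)
    (B₁ B₂ : Subgroup G) (h1 : B₁ ∈ 𝓑) (h2 : B₂ ∈ 𝓑) (hne : B₁ ≠ B₂) (x y : G) (hx : x ∈ B₁)
    (hy : y ∈ B₂) (hx1 : x ≠ 1) (hy1 : y ≠ 1) : orderOf x = orderOf y := by
  have a := not_lt_of_partition 𝓑 hcov hdisj B₁ B₂ h1 h2 hne x y hx hy hx1
  have b := not_lt_of_partition 𝓑 hcov hdisj B₂ B₁ h2 h1 hne.symm y x hy hx hy1
  omega

/-- A finite abelian group that is the union of a family of proper subgroups any two of which intersect trivially is elementary abelian: its exponent is a prime. -/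
theorem result {G : Type*} [CommGroup G] [Finite G] (𝓑 : Set (Subgroup G)) (hprop : ∀ B ∈ 𝓑, B ≠ ⊤)
    (hcov : ∀ g : G, ∃ B ∈ 𝓑, g ∈ B) (hdisj : ∀ B ∈ 𝓑, ∀ C ∈ 𝓑, B ≠ C → B ⊓ C = ⊥) :
    (Monoid.exponent G).Prime := by
  -- an element outside a given proper member
  have hout : ∀ B ∈ 𝓑, ∃ z : G, z ∉ B := by
    intro B hB
    by_contra h
    push Not at h
    exact hprop B hB (eq_top_iff.mpr fun z _ => h z)
  obtain ⟨B₀, hB₀, -⟩ := hcov 1
  obtain ⟨y, hyB₀⟩ := hout B₀ hB₀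
  have hy1 : y ≠ 1 := fun h => hyB₀ (h ▸ B₀.one_mem)
  obtain ⟨B₂, hB₂, hy2⟩ := hcov y
  -- all nonidentity elements have order `orderOf y`
  have hall : ∀ x : G, x ≠ 1 → orderOf x = orderOf y := by
    intro x hx1
    obtain ⟨B₁, hB₁, hx⟩ := hcov x
    by_cases h12 : B₁ = B₂
    · obtain ⟨z, hz⟩ := hout B₂ hB₂
      have hz1 : z ≠ 1 := fun h => hz (h ▸ B₂.one_mem)
      obtain ⟨B₃, hB₃, hz3⟩ := hcov z
      have h32 : B₃ ≠ B₂ := fun h => hz (h ▸ hz3)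
      have e1 := orderOf_eq_of_partition 𝓑 hcov hdisj B₃ B₂ hB₃ hB₂ h32 z y hz3 hy2 hz1 hy1
      have e2 := orderOf_eq_of_partition 𝓑 hcov hdisj B₃ B₂ hB₃ hB₂ h32 z x hz3 (h12 ▸ hx) hz1 hx1
      rw [← e2, e1]
    · exact orderOf_eq_of_partition 𝓑 hcov hdisj B₁ B₂ hB₁ hB₂ h12 x y hx hy2 hx1 hy1
  -- the common order is prime
  set n := orderOf y with hn
  have hn1 : n ≠ 1 := by
    intro h
    exact hy1 (orderOf_eq_one_iff.mp h)
  have hnpos : 0 < n := orderOf_pos y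
  have hprime : n.Prime := by
    set p := n.minFac with hp
    have hpp : p.Prime := Nat.minFac_prime hn1
    have hpd : p ∣ n := Nat.minFac_dvd n
    obtain ⟨m, hm⟩ := hpd
    have hmpos : 0 < m := by
      rcases Nat.eq_zero_or_pos m with h | h
      · rw [h, mul_zero] at hm; omega
      · exact h
    have hord : orderOf (y ^ m) = p := by
      rw [orderOf_pow' y hmpos.ne', ← hn, hm, Nat.gcd_mul_left_left, Nat.mul_div_left _ hmpos]
    have hne1 : y ^ m ≠ 1 := by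
      intro h
      rw [h, orderOf_one] at hord
      exact hpp.one_lt.ne hord
    have := hall _ hne1
    rw [hord] at this
    rw [← this]
    exact hpp
  have hexp : Monoid.exponent G = n := by
    apply Nat.dvd_antisymm
    · apply Monoid.exponent_dvd_of_forall_pow_eq_one
      intro g
      by_cases hg : g = 1
      · rw [hg, one_pow]
      · rw [← hall g hg, pow_orderOf_eq_one]
    · exact Monoid.order_dvd_exponent y
  rw [hexp]
  exact hprime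

end Cfsg.Agent.S3889
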