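import Mathlib
import Cfsg.Statements.S3891
import Cfsg.Agent.Lib.Helper12.NilCover

set_option autoImplicit false
open Cfsg

namespace Cfsg.Agent.S3891

open Cfsg.Agent.Helper12.NilCover

/-- A cover of a group is a finite set of proper subgroups whose union is the whole group; it is minimal when no cover has fewer members, and nilpotent when all its members are nilpotent. Let G be a finite group with trivial center admitting a nilpotent minimal cover, and let P be a non-normal Sylow p-subgroup of G that is cyclic, or abelian but not elementary abelian. Then the centralizer of P is nilpotent and the normalizer of P is the unique maximal subgroup of G containing the centralizer of P. -/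
theorem result {G : Type*} [Group G] [Finite G] (hZ : Subgroup.center G = ⊥) (𝓐 : Finset (Subgroup G))
    (h𝓐 : ((∀ A ∈ 𝓐, A ≠ ⊤) ∧ (∀ g : G, ∃ A ∈ 𝓐, g ∈ A)) ∧ (∀ 𝓑 : Finset (Subgroup G), (∀ A ∈ 𝓑, A ≠ ⊤) ∧ (∀ g : G, ∃ A ∈ 𝓑, g ∈ A) → 𝓐.card ≤ 𝓑.card) ∧ (∀ A ∈ 𝓐, Group.IsNilpotent ↥A)) {p : ℕ} [Fact p.Prime] (P : Sylow p G)
    (hP : IsCyclic ↥(P : Subgroup G) ∨ (IsMulCommutative ↥(P : Subgroup G) ∧ ¬ Cfsg.IsElementaryAbelian p (P : Subgroup G)))
    (hnn : ¬ (P : Subgroup G).Normal) :
    Group.IsNilpotent ↥(Subgroup.centralizer ((P : Subgroup G) : Set G)) ∧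
      IsCoatom (Subgroup.normalizer ((P : Subgroup G) : Set G)) ∧
      ∀ M : Subgroup G, IsCoatom M → Subgroup.centralizer ((P : Subgroup G) : Set G) ≤ M →
        M = Subgroup.normalizer ((P : Subgroup G) : Set G) := by
  have h := NMC.of_hyp h𝓐
  have hbot : (P : Subgroup G) ≠ ⊥ := by
    intro hb
    apply hnn
    rw [hb]
    infer_instance
  have hgood : Good P := by
    rcases hP with hcyc | ⟨hab, hnel⟩
    · refine ⟨?_, hbot, ?_⟩
      · rw [isMulCommutative_iff]
        obtain ⟨g, hg⟩ := hcyc.exists_generator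
        intro a b
        obtain ⟨i, rfl⟩ := Subgroup.mem_zpowers_iff.1 (hg a)
        obtain ⟨j, rfl⟩ := Subgroup.mem_zpowers_iff.1 (hg b)
        rw [← zpow_add, ← zpow_add, add_comm]
      · rintro ⟨⟨-, hel⟩, hlt⟩
        obtain ⟨g, hg⟩ := hcyc.exists_generator
        have h1 : Nat.card ↥(P : Subgroup G) = orderOf g := by
          rw [← Nat.card_zpowers]
          have : Subgroup.zpowers g = ⊤ := by
            rw [eq_top_iff]; intro x _; exact hg x
          rw [this, Subgroup.card_top]
        have h2 : g ^ p = 1 := Subtype.ext (by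
          have := hel g.1 g.2
          simpa using this)
        have h3 : orderOf g ≤ p := Nat.le_of_dvd (Fact.out : p.Prime).pos
          (orderOf_dvd_of_pow_eq_one h2)
        omega
    · exact ⟨hab, hbot, fun hh => hnel hh.1⟩
  obtain ⟨A, hA, hPA, hCA⟩ := h.exists_member hZ P hgood
  have hco := h.isCoatom_normalizer hZ P hgood hnn
  refine ⟨?_, hco, ?_⟩
  · rw [hCA]; exact h.nil A hA
  · intro M hM hCM
    have hle := h.le_normalizer hZ P hgood hM.1 hCM
    rcases eq_or_lt_of_le hle with heq | hlt
    · exact heq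
    · exact absurd (hM.2 _ hlt) hco.1

end Cfsg.Agent.S3891
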