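import Mathlib
import Cfsg.Statements.S3892
import Cfsg.Agent.Lib.Helper12.NilCoverSym2

set_option autoImplicit false
open Cfsg

namespace Cfsg.Agent.S3892

open Cfsg.Agent.Helper12.NilCover Cfsg.Agent.Helper12.NilCoverSym

/-- A cover of a group is a finite set of proper subgroups whose union is the whole group; it is minimal when no cover has fewer members, and nilpotent when all its members are nilpotent. The alternating groups of degree at least 5 and the symmetric groups of degree at least 4 have no nilpotent minimal cover. -/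
theorem result (n : ℕ) :
    (5 ≤ n → ¬ ∃ 𝓐 : Finset (Subgroup ↥(alternatingGroup (Fin n))), ((∀ A ∈ 𝓐, A ≠ ⊤) ∧ (∀ g : ↥(alternatingGroup (Fin n)), ∃ A ∈ 𝓐, g ∈ A)) ∧ (∀ 𝓑 : Finset (Subgroup ↥(alternatingGroup (Fin n))), (∀ A ∈ 𝓑, A ≠ ⊤) ∧ (∀ g : ↥(alternatingGroup (Fin n)), ∃ A ∈ 𝓑, g ∈ A) → 𝓐.card ≤ 𝓑.card) ∧ (∀ A ∈ 𝓐, Group.IsNilpotent ↥A)) ∧
    (4 ≤ n → ¬ ∃ 𝓐 : Finset (Subgroup (Equiv.Perm (Fin n))), ((∀ A ∈ 𝓐, A ≠ ⊤) ∧ (∀ g : (Equiv.Perm (Fin n)), ∃ A ∈ 𝓐, g ∈ A)) ∧ (∀ 𝓑 : Finset (Subgroup (Equiv.Perm (Fin n))), (∀ A ∈ 𝓑, A ≠ ⊤) ∧ (∀ g : (Equiv.Perm (Fin n)), ∃ A ∈ 𝓑, g ∈ A) → 𝓐.card ≤ 𝓑.card) ∧ (∀ A ∈ 𝓐, Group.IsNilpotent ↥A)) := by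
  constructor
  · rintro hn ⟨𝓐, h𝓐⟩
    have h := NMC.of_hyp h𝓐
    rcases Nat.even_or_odd n with he | ho
    · have h6 : 6 ≤ n := by
        obtain ⟨k, hk⟩ := he
        omega
      exact alt_even h6 he h
    · exact alt_odd hn ho h
  · rintro hn ⟨𝓐, h𝓐⟩
    have h := NMC.of_hyp h𝓐
    rcases Nat.even_or_odd n with he | ho
    · exact sym_even hn he h
    · have h5 : 5 ≤ n := by
        obtain ⟨k, hk⟩ := ho
        omega
      exact sym_odd h5 ho h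

end Cfsg.Agent.S3892
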