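import Mathlib
import Cfsg.Statements.S3898
import Cfsg.Agent.S3895
import Cfsg.Agent.S3899

set_option autoImplicit false
open Cfsg

namespace Cfsg.Agent.S3898

universe u

open Cfsg.Agent.S3897 (KP)
open Cfsg.Agent.S3899 (KS piPart)

/-- the conjugates of `y` by the first `s` powers of `m` are distinct, if `m` does not commute
with `y` and every positive number below `s` is prime to the order of `m` -/
theorem orbit_injective {G : Type*} [Group G] [Finite G] (m y : G) (s : ℕ)
    (hne : m * y ≠ y * m) (hcop : ∀ j : ℕ, 0 < j → j < s → Nat.Coprime j (orderOf m)) :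
    Function.Injective (fun i : Fin s => m ^ (i : ℕ) * y * (m ^ (i : ℕ))⁻¹) := by
  have key : ∀ i j : ℕ, i ≤ j → j < s → m ^ i * y * (m ^ i)⁻¹ = m ^ j * y * (m ^ j)⁻¹ → i = j := by
    intro i j hij hj h
    by_contra hne'
    have hd : 0 < j - i := by omega
    have hc := hcop (j - i) hd (by omega)
    -- m ^ (j - i) commutes with y
    have h1 : m ^ (j - i) * y = y * m ^ (j - i) := by
      have hj' : m ^ j = m ^ i * m ^ (j - i) := by rw [← pow_add]; congr 1; omega
      rw [hj'] at h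
      calc m ^ (j - i) * y = (m ^ i)⁻¹ * (m ^ i * m ^ (j - i) * y * (m ^ i * m ^ (j - i))⁻¹) * m ^ i
              * m ^ (j - i) := by group
        _ = (m ^ i)⁻¹ * (m ^ i * y * (m ^ i)⁻¹) * m ^ i * m ^ (j - i) := by rw [h]
        _ = y * m ^ (j - i) := by group
    obtain ⟨e, he⟩ := exists_pow_eq_self_of_coprime hc
    apply hne
    have h2 : Commute (m ^ (j - i)) y := h1
    have h3 : Commute ((m ^ (j - i)) ^ e) y := h2.pow_left e
    rw [he] at h3
    exact h3
  intro a b hab
  simp only at hab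
  apply Fin.ext
  rcases le_total (a : ℕ) (b : ℕ) with h | h
  · exact key a b h b.2 hab
  · exact (key b a h a.2 hab.symm).symm

/-- the general orbit-counting bound -/
theorem card_KP_orbit_le {G : Type*} [Group G] [Finite G] {p : ℕ} [Fact p.Prime]
    (P : Sylow p G) (F : Subgroup G) (s : ℕ)
    (hF : ∀ y ∈ (P : Subgroup G), y ∉ F → ∃ f : Fin s → G, Function.Injective f ∧
      ∀ i, f i ∈ (P : Subgroup G) ∧ f i ∉ F ∧ IsConj y (f i)) :
    s * Nat.card (KP G p) ≤ Nat.card ↥(P : Subgroup G) + (s - 1) * Nat.card ↥F := by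
  classical
  choose sct hsct using S3897.exists_rep (G := G) (p := p) P
  have hsinj : Function.Injective sct := by
    intro c d hcd
    apply Subtype.ext
    rw [← hsct c, ← hsct d, hcd]
  -- split
  have hsplit : Nat.card (KP G p) = Nat.card {c : KP G p // (sct c : G) ∈ F} +
      Nat.card {c : KP G p // ¬ (sct c : G) ∈ F} := by
    rw [← Nat.card_sum]
    exact Nat.card_congr (Equiv.sumCompl (fun c : KP G p => (sct c : G) ∈ F)).symm
  have hKF : Nat.card {c : KP G p // (sct c : G) ∈ F} ≤ Nat.card ↥F := by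
    apply Nat.card_le_card_of_injective (fun c => (⟨(sct c.1 : G), c.2⟩ : ↥F))
    intro c d hcd
    have h1 : (sct c.1 : G) = (sct d.1 : G) := by
      have := congrArg Subtype.val hcd
      exact this
    exact Subtype.ext (hsinj (Subtype.ext h1))
  -- choose the orbits
  have hF' : ∀ c : {c : KP G p // ¬ (sct c : G) ∈ F}, ∃ f : Fin s → G, Function.Injective f ∧
      ∀ i, f i ∈ (P : Subgroup G) ∧ f i ∉ F ∧ IsConj (sct c.1 : G) (f i) :=
    fun c => hF _ (sct c.1).2 c.2
  choose f hfinj hf using hF'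
  let Ψ : ({c : KP G p // ¬ (sct c : G) ∈ F} × Fin s) ⊕ {c : KP G p // (sct c : G) ∈ F} →
      ↥(P : Subgroup G) := fun z =>
    match z with
    | Sum.inl ci => ⟨f ci.1 ci.2, (hf ci.1 ci.2).1⟩
    | Sum.inr c => sct c.1
  have hΨ : Function.Injective Ψ := by
    rintro (⟨c, i⟩ | c) (⟨d, j⟩ | d) hcd
    · simp only [Ψ, Subtype.mk.injEq] at hcd
      have h1 : c = d := by
        apply Subtype.ext
        apply Subtype.ext
        rw [← hsct c.1, ← hsct d.1, ConjClasses.mk_eq_mk_iff_isConj]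
        have h2 := (hf c i).2.2
        have h3 := (hf d j).2.2
        rw [hcd] at h2
        exact h2.trans h3.symm
      subst h1
      rw [hfinj c hcd]
    · exfalso
      simp only [Ψ] at hcd
      apply (hf c i).2.1
      have h1 : f c i = (sct d.1 : G) := congrArg Subtype.val hcd
      rw [h1]
      exact d.2
    · exfalso
      simp only [Ψ] at hcd
      apply (hf d j).2.1
      have h1 : (sct c.1 : G) = f d j := congrArg Subtype.val hcd
      rw [← h1]
      exact c.2
    · simp only [Ψ] at hcd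
      rw [Subtype.ext (hsinj hcd)]
  have hcard := Nat.card_le_card_of_injective Ψ hΨ
  rw [Nat.card_sum, Nat.card_prod, Nat.card_fin] at hcard
  set a := Nat.card {c : KP G p // (sct c : G) ∈ F}
  set b := Nat.card {c : KP G p // ¬ (sct c : G) ∈ F}
  rw [hsplit]
  rcases Nat.eq_zero_or_pos s with hs | hs
  · subst hs; simp
  · obtain ⟨t, rfl⟩ : ∃ t, s = t + 1 := ⟨s - 1, by omega⟩
    have h1 : t * a ≤ t * Nat.card ↥F := Nat.mul_le_mul_left _ hKF
    rw [Nat.add_sub_cancel]
    nlinarith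


theorem mem_sylow_of_normalizer {G : Type*} [Group G] [Finite G] {p : ℕ} [Fact p.Prime]
    (P : Sylow p G) (a : G) (ha : a ∈ Subgroup.normalizer ((P : Subgroup G) : Set G)) (k : ℕ)
    (hk : orderOf a = p ^ k) : a ∈ (P : Subgroup G) := by
  have hZ : IsPGroup p ↥(Subgroup.zpowers a) :=
    IsPGroup.of_card (n := k) (by rw [Nat.card_zpowers, hk])
  have hle : Subgroup.zpowers a ≤ Subgroup.normalizer ((P : Subgroup G) : Set G) := by
    rw [Subgroup.zpowers_le]; exact ha
  have hsup := IsPGroup.to_sup_of_normal_right' hZ P.isPGroup' hle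
  have := P.is_maximal' hsup le_sup_right
  rw [← this]; exact (le_sup_left : Subgroup.zpowers a ≤ _) (Subgroup.mem_zpowers a)

theorem mul_card_le_of_ne {G : Type*} [Group G] [Finite G] {p : ℕ} [Fact p.Prime]
    (P : Sylow p G) (F : Subgroup G) (hFP : F ≤ (P : Subgroup G)) (hFne : F ≠ (P : Subgroup G)) :
    p * Nat.card F ≤ Nat.card ↥(P : Subgroup G) := by
  obtain ⟨k, hk⟩ := IsPGroup.iff_card.mp P.isPGroup'
  have hdvd : Nat.card F ∣ Nat.card ↥(P : Subgroup G) := Subgroup.card_dvd_of_le hFP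
  rw [hk] at hdvd ⊢
  obtain ⟨j, hj, hjc⟩ := (Nat.dvd_prime_pow (Fact.out : p.Prime)).mp hdvd
  have hjk : j ≠ k := by
    intro hjk
    apply hFne
    apply Subgroup.eq_of_le_of_card_ge hFP
    rw [hk, hjc, hjk]
  have hlt : j + 1 ≤ k := by omega
  rw [hjc, ← pow_succ']
  exact Nat.pow_le_pow_right (Fact.out : p.Prime).pos hlt

/-- decomposition into `r`-part and `r'`-part, inside the cyclic group generated -/
theorem exists_parts_zpowers {G : Type*} [Group G] [Finite G] (r : ℕ) (hr : r.Prime) (g : G) :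
    ∃ x y : G, x ∈ Subgroup.zpowers g ∧ y ∈ Subgroup.zpowers g ∧ g = x * y ∧
      (∃ k : ℕ, orderOf x = r ^ k) ∧ ¬ r ∣ orderOf y := by
  have hn : orderOf g ≠ 0 := (orderOf_pos g).ne'
  obtain ⟨a, m, hm, hnm⟩ := Nat.exists_eq_pow_mul_and_not_dvd hn r hr.ne_one
  have hcop : Nat.Coprime (r ^ a) m :=
    Nat.Coprime.pow_left a ((Nat.Prime.coprime_iff_not_dvd hr).mpr hm)
  have hbez := Nat.gcd_eq_gcd_ab (r ^ a) m
  rw [hcop.gcd_eq_one] at hbez
  set A := Nat.gcdA (r ^ a) m
  set B := Nat.gcdB (r ^ a) m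
  refine ⟨g ^ ((m : ℤ) * B), g ^ (((r ^ a : ℕ) : ℤ) * A), ⟨_, rfl⟩, ⟨_, rfl⟩, ?_, ?_, ?_⟩
  · rw [← zpow_add]
    have : (m : ℤ) * B + ((r ^ a : ℕ) : ℤ) * A = 1 := by
      have h1 : ((1 : ℕ) : ℤ) = 1 := Nat.cast_one
      rw [h1] at hbez
      rw [hbez]; ring
    rw [this, zpow_one]
  · have h1 : (g ^ ((m : ℤ) * B)) ^ (r ^ a) = 1 := by
      rw [← zpow_natCast, ← zpow_mul]
      have : (m : ℤ) * B * ((r ^ a : ℕ) : ℤ) = ((orderOf g : ℕ) : ℤ) * B := by
        rw [hnm]; push_cast; ring
      rw [this, zpow_mul, zpow_natCast, pow_orderOf_eq_one, one_zpow]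
    obtain ⟨k, -, hk⟩ := (Nat.dvd_prime_pow hr).mp (orderOf_dvd_of_pow_eq_one h1)
    exact ⟨k, hk⟩
  · have h1 : (g ^ (((r ^ a : ℕ) : ℤ) * A)) ^ m = 1 := by
      rw [← zpow_natCast, ← zpow_mul]
      have : ((r ^ a : ℕ) : ℤ) * A * (m : ℤ) = ((orderOf g : ℕ) : ℤ) * A := by
        rw [hnm]; push_cast; ring
      rw [this, zpow_mul, zpow_natCast, pow_orderOf_eq_one, one_zpow]
    intro h
    exact hm (h.trans (orderOf_dvd_of_pow_eq_one h1))

/-- in a nonabelian `p`-group the centre has index at least `p ^ 2` -/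
theorem sq_mul_card_center_le {R : Type*} [Group R] [Finite R] {p : ℕ} [Fact p.Prime]
    (hR : IsPGroup p R) (hnc : ∃ a b : R, a * b ≠ b * a) :
    p ^ 2 * Nat.card ↥(Subgroup.center R) ≤ Nat.card R := by
  have hp : p.Prime := Fact.out
  have h1 : Nat.card R = Nat.card (R ⧸ Subgroup.center R) * Nat.card ↥(Subgroup.center R) :=
    Subgroup.card_eq_card_quotient_mul_card_subgroup _
  obtain ⟨j, hj⟩ := IsPGroup.iff_card.mp (hR.to_quotient (Subgroup.center R))
  have hj2 : 2 ≤ j := by
    by_contra hlt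
    obtain ⟨a, b, hab⟩ := hnc
    apply hab
    have hj' : j = 0 ∨ j = 1 := by omega
    rcases hj' with rfl | rfl
    · rw [pow_zero] at hj
      have hsub : Subsingleton (R ⧸ Subgroup.center R) := (Nat.card_eq_one_iff_unique.mp hj).1
      have hb : b ∈ Subgroup.center R := by
        rw [← QuotientGroup.eq_one_iff]
        exact Subsingleton.elim _ _
      exact (Subgroup.mem_center_iff.mp hb a)
    · rw [pow_one] at hj
      have hcyc : IsCyclic (R ⧸ Subgroup.center R) := isCyclic_of_prime_card hj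
      exact (MonoidHom.isMulCommutative_of_isCyclic_of_ker_le_center
        (QuotientGroup.mk' (Subgroup.center R)) (by rw [QuotientGroup.ker_mk'])).is_comm.comm a b
  rw [h1, hj]
  exact Nat.mul_le_mul_right _ (Nat.pow_le_pow_right hp.pos hj2)


/-- conjugating by powers of an element of the normalizer -/
theorem pow_conj_mem {G : Type*} [Group G] (R : Subgroup G) (m : G)
    (hm : m ∈ Subgroup.normalizer (R : Set G)) (y : G) (hy : y ∈ R) (i : ℕ) :
    m ^ i * y * (m ^ i)⁻¹ ∈ R :=
  (Subgroup.mem_normalizer_iff.mp ((Subgroup.normalizer (R : Set G)).pow_mem hm i) y).mp hy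

theorem conj_eq_self_of_comm {G : Type*} [Group G] (w y : G)
    (h : w * (w * y * w⁻¹) = (w * y * w⁻¹) * w) : w * y * w⁻¹ = y := by
  have h1 : w * y * w⁻¹ = w⁻¹ * (w * (w * y * w⁻¹)) := by group
  rw [h1, h]
  group

theorem comm_of_conj_comm {G : Type*} [Group G] (w y z : G) (hwz : w * z = z * w)
    (h : z * (w * y * w⁻¹) = (w * y * w⁻¹) * z) : z * y = y * z := by
  have hc : Commute z w := hwz.symm
  have h' : Commute z (w * y * w⁻¹) := h
  have h2 : Commute z (w⁻¹ * (w * y * w⁻¹) * w) := (hc.inv_right.mul_right h').mul_right hc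
  have h3 : w⁻¹ * (w * y * w⁻¹) * w = y := by group
  rw [h3] at h2
  exact h2

/-- Lemma Y: in a group of odd order, if some element normalizes but does not centralize a Sylow
`r`-subgroup `R`, then `2 k_r ≤ |R|`. -/
theorem two_mul_card_KP_le {X : Type*} [Group X] [Finite X] (hodd : Odd (Nat.card X))
    {r : ℕ} [Fact r.Prime] (hr2 : r ≠ 2) (R : Sylow r X) (n : X)
    (hn : n ∈ Subgroup.normalizer ((R : Subgroup X) : Set X))
    (hnc : n ∉ Subgroup.centralizer ((R : Subgroup X) : Set X)) :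
    2 * Nat.card (KP X r) ≤ Nat.card ↥(R : Subgroup X) := by
  classical
  have hr : r.Prime := Fact.out
  have hr3 : 3 ≤ r := by
    have := hr.two_le
    omega
  have hoddord : ∀ x : X, Odd (orderOf x) := fun x =>
    Odd.of_dvd_nat hodd (orderOf_dvd_natCard x)
  have hRpos : 0 < Nat.card ↥(R : Subgroup X) := Nat.card_pos
  obtain ⟨a, b, haz, hbz, hab, ⟨k, hk⟩, hbr⟩ := exists_parts_zpowers r hr n
  have hzn : Subgroup.zpowers n ≤ Subgroup.normalizer ((R : Subgroup X) : Set X) := by
    rw [Subgroup.zpowers_le]; exact hn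
  have haN := hzn haz
  have hbN := hzn hbz
  by_cases hbc : b ∈ Subgroup.centralizer ((R : Subgroup X) : Set X)
  · -- the `r`-part does not centralize
    have hac : a ∉ Subgroup.centralizer ((R : Subgroup X) : Set X) := by
      intro hac
      apply hnc
      rw [hab]
      exact Subgroup.mul_mem _ hac hbc
    have haR : a ∈ (R : Subgroup X) := mem_sylow_of_normalizer R a haN k hk
    have hnonab : ∃ u v : ↥(R : Subgroup X), u * v ≠ v * u := by
      by_contra hcon
      push Not at hcon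
      apply hac
      rw [Subgroup.mem_centralizer_iff]
      intro y hy
      have := hcon ⟨y, hy⟩ ⟨a, haR⟩
      exact congrArg Subtype.val this
    have hZ := sq_mul_card_center_le (R := ↥(R : Subgroup X)) R.isPGroup' hnonab
    set F : Subgroup X := (Subgroup.center ↥(R : Subgroup X)).map (R : Subgroup X).subtype with hF
    have hFcard : Nat.card ↥F = Nat.card ↥(Subgroup.center ↥(R : Subgroup X)) :=
      Subgroup.card_map_of_injective (Subgroup.subtype_injective _)
    have hmemF : ∀ y : X, y ∈ F ↔ y ∈ (R : Subgroup X) ∧ ∀ z ∈ (R : Subgroup X), z * y = y * z := by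
      intro y
      rw [hF, Subgroup.mem_map]
      constructor
      · rintro ⟨y', hy', rfl⟩
        refine ⟨y'.2, fun z hz => ?_⟩
        have := Subgroup.mem_center_iff.mp hy' ⟨z, hz⟩
        exact congrArg Subtype.val this
      · rintro ⟨hy, hyz⟩
        refine ⟨⟨y, hy⟩, ?_, rfl⟩
        rw [Subgroup.mem_center_iff]
        intro z
        exact Subtype.ext (hyz z z.2)
    have hbound := card_KP_orbit_le R F 3 (by
      intro y hy hyF
      have h1 : ∃ z ∈ (R : Subgroup X), z * y ≠ y * z := by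
        by_contra hcon
        push Not at hcon
        exact hyF ((hmemF y).mpr ⟨hy, hcon⟩)
      obtain ⟨m, hm, hmy⟩ := h1
      have hmN : m ∈ Subgroup.normalizer ((R : Subgroup X) : Set X) := Subgroup.le_normalizer hm
      refine ⟨fun i : Fin 3 => m ^ (i : ℕ) * y * (m ^ (i : ℕ))⁻¹, ?_, ?_⟩
      · apply orbit_injective m y 3 hmy
        intro j hj0 hj3
        have hj : j = 1 ∨ j = 2 := by omega
        rcases hj with rfl | rfl
        · exact Nat.coprime_one_left _
        · exact (Nat.coprime_primes Nat.prime_two hr).mpr (Ne.symm hr2) |>.symm |> fun _ =>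
            (Nat.Prime.coprime_iff_not_dvd Nat.prime_two).mpr (by
              intro h2
              have := hoddord m
              rw [← Nat.not_even_iff_odd] at this
              exact this (even_iff_two_dvd.mpr h2))
      · intro i
        refine ⟨pow_conj_mem _ m hmN y hy i, ?_, isConj_iff.mpr ⟨m ^ (i : ℕ), rfl⟩⟩
        intro hmem
        apply hyF
        obtain ⟨-, hcen⟩ := (hmemF _).mp hmem
        have hmi : m ^ (i : ℕ) ∈ (R : Subgroup X) := Subgroup.pow_mem _ hm _
        have h2 := hcen _ hmi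
        have h3 : m ^ (i : ℕ) * y * (m ^ (i : ℕ))⁻¹ = y := conj_eq_self_of_comm _ _ h2
        rw [← h3]
        exact hmem)
    rw [hFcard] at hbound
    have h9 : 9 * Nat.card ↥(Subgroup.center ↥(R : Subgroup X)) ≤ Nat.card ↥(R : Subgroup X) := by
      refine le_trans (Nat.mul_le_mul_right _ ?_) hZ
      nlinarith
    omega
  · -- the `r'`-part does not centralize
    set F : Subgroup X := (R : Subgroup X) ⊓ Subgroup.centralizer ({b} : Set X) with hF
    have hFP : F ≤ (R : Subgroup X) := inf_le_left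
    have hFne : F ≠ (R : Subgroup X) := by
      intro h
      apply hbc
      rw [Subgroup.mem_centralizer_iff]
      intro x hx
      have hxF : x ∈ F := by rw [h]; exact hx
      have := (Subgroup.mem_inf.mp hxF).2
      rw [Subgroup.mem_centralizer_iff] at this
      exact (this b (Set.mem_singleton b)).symm
    have hcardF := mul_card_le_of_ne R F hFP hFne
    have hmemF : ∀ y : X, y ∈ F ↔ y ∈ (R : Subgroup X) ∧ b * y = y * b := by
      intro y
      rw [hF, Subgroup.mem_inf, Subgroup.mem_centralizer_iff]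
      constructor
      · rintro ⟨h1, h2⟩
        exact ⟨h1, h2 b (Set.mem_singleton b)⟩
      · rintro ⟨h1, h2⟩
        refine ⟨h1, fun z hz => ?_⟩
        rw [Set.mem_singleton_iff] at hz
        subst hz
        exact h2
    -- the general bound with parameter `s`
    have hgen : ∀ s : ℕ, (∀ j : ℕ, 0 < j → j < s → Nat.Coprime j (orderOf b)) →
        s * Nat.card (KP X r) ≤ Nat.card ↥(R : Subgroup X) + (s - 1) * Nat.card ↥F := by
      intro s hs
      apply card_KP_orbit_le R F s
      intro y hy hyF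
      have hby : b * y ≠ y * b := fun h => hyF ((hmemF y).mpr ⟨hy, h⟩)
      refine ⟨fun i : Fin s => b ^ (i : ℕ) * y * (b ^ (i : ℕ))⁻¹, orbit_injective b y s hby hs, ?_⟩
      intro i
      refine ⟨pow_conj_mem _ b hbN y hy i, ?_, isConj_iff.mpr ⟨b ^ (i : ℕ), rfl⟩⟩
      intro hmem
      apply hby
      obtain ⟨-, hcom⟩ := (hmemF _).mp hmem
      have hbi : b ^ (i : ℕ) * b = b * b ^ (i : ℕ) := by
        rw [← pow_succ, ← pow_succ']
      exact comm_of_conj_comm _ y b hbi hcom
    -- all prime divisors of the order of `b` are odd and different from `r`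
    have hprime : ∀ q : ℕ, q.Prime → q ∣ orderOf b → q ≠ 2 ∧ q ≠ r := by
      intro q hq hqb
      refine ⟨?_, ?_⟩
      · rintro rfl
        have := hoddord b
        rw [← Nat.not_even_iff_odd] at this
        exact this (even_iff_two_dvd.mpr hqb)
      · rintro rfl
        exact hbr hqb
    by_cases hr3' : r = 3
    · have h5 := hgen 5 (by
        intro j hj0 hj5
        by_contra hnc'
        obtain ⟨q, hq, hqj, hqb⟩ := Nat.Prime.not_coprime_iff_dvd.mp hnc'
        obtain ⟨hq2, hqr⟩ := hprime q hq hqb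
        have hqle : q ≤ j := Nat.le_of_dvd hj0 hqj
        have hq5 : q < 5 := by omega
        have hq2' := hq.two_le
        interval_cases q
        · exact hq2 rfl
        · exact hqr hr3'.symm
        · exact absurd hq (by decide))
      have h3F : 3 * Nat.card ↥F ≤ Nat.card ↥(R : Subgroup X) :=
        le_trans (Nat.mul_le_mul_right _ hr3) hcardF
      omega
    · have h3 := hgen 3 (by
        intro j hj0 hj3
        by_contra hnc'
        obtain ⟨q, hq, hqj, hqb⟩ := Nat.Prime.not_coprime_iff_dvd.mp hnc'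
        obtain ⟨hq2, hqr⟩ := hprime q hq hqb
        have hqle : q ≤ j := Nat.le_of_dvd hj0 hqj
        have hq2' := hq.two_le
        omega)
      have hr5 : 5 ≤ r := by
        by_contra hlt
        have : r = 4 := by omega
        rw [this] at hr
        exact absurd hr (by decide)
      have h5F : 5 * Nat.card ↥F ≤ Nat.card ↥(R : Subgroup X) :=
        le_trans (Nat.mul_le_mul_right _ hr5) hcardF
      omega


/-- Lemma Z: if Sylow normalizers centralize for all primes of `σ` then there is a normal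
`σ`-complement with abelian complement. -/
theorem exists_pi_complement {X : Type u} [Group X] [Finite X] (σ : Finset ℕ)
    (hσ : ∀ r ∈ σ, r.Prime)
    (hNC : ∀ r ∈ σ, ∀ (_ : Fact r.Prime) (R : Sylow r X),
      Subgroup.normalizer ((R : Subgroup X) : Set X) ≤
        Subgroup.centralizer ((R : Subgroup X) : Set X)) :
    ∃ N : Subgroup X, N.Normal ∧ (∀ q : ℕ, q.Prime → q ∣ Nat.card ↥N → q ∉ σ) ∧
      (∀ q : ℕ, q.Prime → q ∣ N.index → q ∈ σ) ∧
      (∀ g : X, (∀ r ∈ σ, (orderOf g).Coprime r) → g ∈ N) ∧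
      ∃ H : Subgroup X, Subgroup.IsComplement' N H ∧ IsMulCommutative ↥H := by
  classical
  have hex : ∀ r : {r // r ∈ σ}, ∃ K : Subgroup X, K.Normal ∧
      (∀ a b : X, a * b * a⁻¹ * b⁻¹ ∈ K) ∧
      ¬ r.1 ∣ Nat.card K ∧ ∀ g : X, (orderOf g).Coprime r.1 → g ∈ K := by
    intro r
    have : Fact r.1.Prime := ⟨hσ r.1 r.2⟩
    exact S3899.exists_complement r.1 (fun R => hNC r.1 r.2 inferInstance R)
  choose Kr hKn hKc hKd hKm using hex
  set K : Subgroup X := ⨅ r : {r // r ∈ σ}, Kr r with hK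
  have hKnormal : K.Normal := Subgroup.normal_iInf_normal hKn
  have hKcard : ∀ q : ℕ, q.Prime → q ∣ Nat.card ↥K → q ∉ σ := by
    intro q hq hqd hqπ
    have h1 : K ≤ Kr ⟨q, hqπ⟩ := iInf_le _ _
    exact hKd ⟨q, hqπ⟩ (hqd.trans (Subgroup.card_dvd_of_le h1))
  have hKmem : ∀ g : X, (∀ r ∈ σ, (orderOf g).Coprime r) → g ∈ K := by
    intro g hg
    rw [hK, Subgroup.mem_iInf]
    intro r
    exact hKm r g (hg r.1 r.2)
  have hKindex : ∀ q : ℕ, q.Prime → q ∣ K.index → q ∈ σ := by
    intro q hq hqd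
    by_contra hqπ
    have : Fact q.Prime := ⟨hq⟩
    have Q : Sylow q X := default
    have hQK : (Q : Subgroup X) ≤ K := by
      intro g hg
      apply hKmem
      intro r hr
      obtain ⟨k, hk⟩ := (IsPGroup.iff_orderOf.mp Q.isPGroup') ⟨g, hg⟩
      rw [Subgroup.orderOf_mk] at hk
      rw [hk]
      apply Nat.Coprime.pow_left
      rw [Nat.coprime_primes hq (hσ r hr)]
      intro h
      apply hqπ
      rw [h]; exact hr
    have h1 : K.index ∣ (Q : Subgroup X).index := Subgroup.index_dvd_of_le hQK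
    exact Q.not_dvd_index (hqd.trans h1)
  refine ⟨K, hKnormal, hKcard, hKindex, hKmem, ?_⟩
  have hcop : Nat.Coprime (Nat.card ↥K) K.index := by
    by_contra hnc
    obtain ⟨q, hq, h1, h2⟩ := Nat.Prime.not_coprime_iff_dvd.mp hnc
    exact hKcard q hq h1 (hKindex q hq h2)
  obtain ⟨H, hH⟩ := Subgroup.exists_right_complement'_of_coprime hcop
  refine ⟨H, hH, ⟨⟨fun a b => ?_⟩⟩⟩
  apply Subtype.ext
  have h1 : (a : X) * b * (a : X)⁻¹ * (b : X)⁻¹ ∈ K := by
    rw [hK, Subgroup.mem_iInf]
    intro r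
    exact hKc r _ _
  have h2 : (a : X) * b * (a : X)⁻¹ * (b : X)⁻¹ ∈ H :=
    H.mul_mem (H.mul_mem (H.mul_mem a.2 b.2) (H.inv_mem a.2)) (H.inv_mem b.2)
  have hd := hH.disjoint
  rw [Subgroup.disjoint_def] at hd
  have h3 := hd h1 h2
  show (a : X) * b = b * a
  calc (a : X) * b = ((a : X) * b * (a : X)⁻¹ * (b : X)⁻¹) * (b * a) := by group
    _ = b * a := by rw [h3, one_mul]

/-- classes of `r`-elements of `G` inject into those of a normal subgroup containing all
`r`-elements -/
theorem card_KP_le_subgroup {G : Type*} [Group G] [Finite G] (r : ℕ) (K : Subgroup G)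
    (hK : ∀ g : G, (∃ k : ℕ, orderOf g = r ^ k) → g ∈ K) :
    Nat.card (KP G r) ≤ Nat.card (KP ↥K r) := by
  have hmem : ∀ c : KP G r, S3899.rep c.1 ∈ K := fun c => hK _ (c.2 _ (S3899.rep_mem c.1))
  have hord : ∀ c : KP G r, ∀ x ∈ (ConjClasses.mk (⟨S3899.rep c.1, hmem c⟩ : ↥K)).carrier,
      ∃ k : ℕ, orderOf x = r ^ k := by
    intro c x hx
    rw [ConjClasses.mem_carrier_iff_mk_eq, ConjClasses.mk_eq_mk_iff_isConj, isConj_iff] at hx
    obtain ⟨u, hu⟩ := hx
    obtain ⟨k, hk⟩ := c.2 _ (S3899.rep_mem c.1)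
    refine ⟨k, ?_⟩
    rw [← hk, ← Subgroup.orderOf_mk (S3899.rep c.1) (hmem c), ← hu, S3899.orderOf_conj_eq]
  apply Nat.card_le_card_of_injective
    (fun c : KP G r => (⟨ConjClasses.mk (⟨S3899.rep c.1, hmem c⟩ : ↥K), hord c⟩ : KP ↥K r))
  intro c d hcd
  have h1 : ConjClasses.mk (⟨S3899.rep c.1, hmem c⟩ : ↥K) =
      ConjClasses.mk (⟨S3899.rep d.1, hmem d⟩ : ↥K) := congrArg Subtype.val hcd
  rw [ConjClasses.mk_eq_mk_iff_isConj, isConj_iff] at h1
  obtain ⟨u, hu⟩ := h1
  apply Subtype.ext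
  rw [← S3899.mk_rep c.1, ← S3899.mk_rep d.1, ConjClasses.mk_eq_mk_iff_isConj, isConj_iff]
  refine ⟨(u : G), ?_⟩
  have := congrArg Subtype.val hu
  simpa using this


theorem result {G : Type*} [Group G] [Finite G] (π : Finset ℕ) (hπ : ∀ r ∈ π, r.Prime) (h2 : 2 ∈ π)
    (hk : π.prod (fun r => r ^ (Nat.card G).factorization r) < 2 * Nat.card {c : ConjClasses G // ∀ x ∈ c.carrier, ∀ r : ℕ, r.Prime → r ∣ orderOf x → r ∈ π}) :
    (∃ N : Subgroup G, N.Normal ∧ (∀ r : ℕ, r.Prime → r ∣ Nat.card ↥N → r ∉ π) ∧ ∀ r : ℕ, r.Prime → r ∣ N.index → r ∈ π) ∧ ∃ H : Subgroup G, Cfsg.IsPiHall ((↑π : Set ℕ) \ {2}) H ∧ IsMulCommutative ↥H := by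
  classical
  have hfact2 : Fact (Nat.Prime 2) := ⟨Nat.prime_two⟩
  set T := π.prod (fun r => r ^ (Nat.card G).factorization r) with hT
  have hGpos : Nat.card G ≠ 0 := Nat.card_pos.ne'
  -- for each `r ∈ π`: `r ^ v_r < 2 k_r(G)`
  have hkr : ∀ r ∈ π, ∀ (_ : Fact r.Prime),
      r ^ (Nat.card G).factorization r < 2 * Nat.card (KP G r) := by
    intro r hr _
    have h2' := S3899.card_KS_le_mul (G := G) π hπ r hr
    have h3 : T = r ^ (Nat.card G).factorization r * piPart (π.erase r) (Nat.card G) := by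
      rw [hT, piPart, Finset.mul_prod_erase π (fun r => r ^ (Nat.card G).factorization r) hr]
    set M := piPart (π.erase r) (Nat.card G)
    have hk' : T < 2 * Nat.card (KS G π) := hk
    have h4 : r ^ (Nat.card G).factorization r * M < (2 * Nat.card (KP G r)) * M := by
      calc r ^ (Nat.card G).factorization r * M = T := h3.symm
        _ < 2 * Nat.card (KS G π) := hk'
        _ ≤ 2 * (Nat.card (KP G r) * M) := Nat.mul_le_mul_left _ h2'
        _ = (2 * Nat.card (KP G r)) * M := by ring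
    exact Nat.lt_of_mul_lt_mul_right h4
  -- Step A: the normal 2-complement
  have P : Sylow 2 G := default
  have hP : Nat.card ↥(P : Subgroup G) = 2 ^ (Nat.card G).factorization 2 :=
    Sylow.card_eq_multiplicity P
  obtain ⟨K2, hK2n, hK2i⟩ := S3895.main_aux _ G rfl P (by rw [hP]; exact hkr 2 h2 hfact2)
  have hmul : Nat.card K2 * 2 ^ (Nat.card G).factorization 2 = Nat.card G := by
    rw [← hP, ← hK2i]; exact Subgroup.card_mul_index K2
  have hK2odd : Odd (Nat.card K2) := by
    rw [← Nat.not_even_iff_odd]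
    rintro ⟨m, hm⟩
    have h1 : 2 ^ ((Nat.card G).factorization 2 + 1) ∣ Nat.card G := by
      refine ⟨m, ?_⟩
      calc Nat.card G = Nat.card K2 * 2 ^ (Nat.card G).factorization 2 := hmul.symm
        _ = (m + m) * 2 ^ (Nat.card G).factorization 2 := by rw [hm]
        _ = 2 ^ ((Nat.card G).factorization 2 + 1) * m := by rw [pow_succ]; ring
    exact Nat.pow_succ_factorization_not_dvd hGpos Nat.prime_two h1
  -- elements of odd order lie in K2
  have hK2mem : ∀ g : G, Odd (orderOf g) → g ∈ K2 := by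
    intro g hg
    have h1 : g ^ K2.index ∈ K2 := Subgroup.pow_index_mem K2 g
    rw [hK2i, hP] at h1
    have hc : Nat.Coprime (2 ^ (Nat.card G).factorization 2) (orderOf g) := by
      apply Nat.Coprime.pow_left
      rw [Nat.Prime.coprime_iff_not_dvd Nat.prime_two]
      intro h
      rw [← Nat.not_even_iff_odd] at hg
      exact hg (even_iff_two_dvd.mpr h)
    obtain ⟨e, he⟩ := exists_pow_eq_self_of_coprime hc
    rw [← he]
    exact K2.pow_mem h1 e
  set σ : Finset ℕ := π.erase 2 with hσdef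
  have hσ : ∀ r ∈ σ, r.Prime := fun r hr => hπ r (Finset.mem_of_mem_erase hr)
  -- Step B/C/D: Sylow normalizers of K2 centralize
  have hNC : ∀ r ∈ σ, ∀ (_ : Fact r.Prime) (R : Sylow r ↥K2),
      Subgroup.normalizer ((R : Subgroup ↥K2) : Set ↥K2) ≤
        Subgroup.centralizer ((R : Subgroup ↥K2) : Set ↥K2) := by
    intro r hr _ R n hn
    by_contra hnc
    have hrπ : r ∈ π := Finset.mem_of_mem_erase hr
    have hr2 : r ≠ 2 := Finset.ne_of_mem_erase hr
    have hrp : r.Prime := hπ r hrπ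
    have h1 := two_mul_card_KP_le hK2odd hr2 R n hn hnc
    have h3 : Nat.card (KP G r) ≤ Nat.card (KP ↥K2 r) := by
      apply card_KP_le_subgroup
      rintro g ⟨k, hk⟩
      apply hK2mem
      rw [hk]
      apply Odd.pow
      exact hrp.odd_of_ne_two hr2
    have h4 : (Nat.card ↥K2).factorization r = (Nat.card G).factorization r := by
      rw [← hmul, Nat.factorization_mul Nat.card_pos.ne' (pow_pos (by norm_num) _).ne',
        Finsupp.add_apply]
      have : (2 ^ (Nat.card G).factorization 2).factorization r = 0 := by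
        apply Nat.factorization_eq_zero_of_not_dvd
        intro h
        have := (Nat.prime_dvd_prime_iff_eq hrp Nat.prime_two).mp (hrp.dvd_of_dvd_pow h)
        exact hr2 this
      rw [this, add_zero]
    have h5 : Nat.card ↥(R : Subgroup ↥K2) = r ^ (Nat.card G).factorization r := by
      rw [Sylow.card_eq_multiplicity, h4]
    have h6 := hkr r hrπ inferInstance
    omega
  obtain ⟨N', hN'n, hN'card, hN'index, hN'mem, H', hH', hH'comm⟩ :=
    exists_pi_complement (X := ↥K2) σ hσ hNC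
  have hordK2 : ∀ y : ↥K2, Odd (orderOf y) := fun y =>
    Odd.of_dvd_nat hK2odd (orderOf_dvd_natCard y)
  -- N' is invariant under conjugation by G
  have hN'char : ∀ (g : G) (y : ↥K2), y ∈ N' →
      (⟨g * (y : G) * g⁻¹, hK2n.conj_mem _ y.2 g⟩ : ↥K2) ∈ N' := by
    intro g y hy
    apply hN'mem
    intro r hr
    have hrp := hσ r hr
    rw [Subgroup.orderOf_mk, S3899.orderOf_conj_eq, Subgroup.orderOf_coe,
      Nat.coprime_comm, Nat.Prime.coprime_iff_not_dvd hrp]
    intro hdvd
    apply hN'card r hrp _ hr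
    have h1 : orderOf (⟨y, hy⟩ : ↥N') = orderOf y := Subgroup.orderOf_mk y hy
    rw [← h1] at hdvd
    exact hdvd.trans (orderOf_dvd_natCard _)
  have hcardmap : ∀ S : Subgroup ↥K2, Nat.card ↥(S.map K2.subtype) = Nat.card ↥S := fun S =>
    Subgroup.card_map_of_injective (Subgroup.subtype_injective _)
  have hindexmap : ∀ S : Subgroup ↥K2, (S.map K2.subtype).index = S.index * K2.index := fun S =>
    Subgroup.index_map_subtype S
  have hdvd2 : ∀ q : ℕ, q.Prime → q ∣ K2.index → q = 2 := by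
    intro q hq hqd
    rw [hK2i, hP] at hqd
    exact (Nat.prime_dvd_prime_iff_eq hq Nat.prime_two).mp (hq.dvd_of_dvd_pow hqd)
  have hnot2 : ∀ S : Subgroup ↥K2, ¬ 2 ∣ Nat.card ↥S := by
    intro S h
    have h1 : 2 ∣ Nat.card ↥K2 := h.trans (Subgroup.card_subgroup_dvd_card S)
    rw [← Nat.not_even_iff_odd] at hK2odd
    exact hK2odd (even_iff_two_dvd.mpr h1)
  refine ⟨⟨N'.map K2.subtype, ⟨?_⟩, ?_, ?_⟩, H'.map K2.subtype, ⟨?_, ?_⟩, ?_⟩
  · -- normal
    rintro _ ⟨y, hy, rfl⟩ g
    exact ⟨_, hN'char g y hy, rfl⟩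
  · intro q hq hqd hqπ
    rw [hcardmap] at hqd
    by_cases hq2 : q = 2
    · subst hq2
      exact hnot2 N' hqd
    · exact hN'card q hq hqd (Finset.mem_erase.mpr ⟨hq2, hqπ⟩)
  · intro q hq hqd
    rw [hindexmap] at hqd
    rcases (Nat.Prime.dvd_mul hq).mp hqd with h | h
    · exact Finset.mem_of_mem_erase (hN'index q hq h)
    · rw [hdvd2 q hq h]; exact h2
  · intro q hq hqd
    rw [hcardmap, ← hH'.symm.index_eq_card] at hqd
    have h1 := hN'index q hq hqd
    rw [hσdef, Finset.mem_erase] at h1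
    exact ⟨Finset.mem_coe.mpr h1.2, fun h => h1.1 (Set.mem_singleton_iff.mp h)⟩
  · rintro q hq ⟨hqπ, hq2⟩ hqd
    have hq2' : q ≠ 2 := fun h => hq2 (Set.mem_singleton_iff.mpr h)
    rw [hindexmap] at hqd
    rcases (Nat.Prime.dvd_mul hq).mp hqd with h | h
    · rw [hH'.index_eq_card] at h
      exact hN'card q hq h (Finset.mem_erase.mpr ⟨hq2', Finset.mem_coe.mp hqπ⟩)
    · exact hq2' (hdvd2 q hq h)
  · refine ⟨⟨?_⟩⟩
    rintro ⟨_, a, ha, rfl⟩ ⟨_, b, hb, rfl⟩
    apply Subtype.ext
    have h1 := hH'comm.is_comm.comm ⟨a, ha⟩ ⟨b, hb⟩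
    have h2 : a * b = b * a := congrArg Subtype.val h1
    show (a : G) * (b : G) = (b : G) * (a : G)
    exact_mod_cast congrArg Subtype.val h2

end Cfsg.Agent.S3898
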