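import Mathlib
import Cfsg.Statements.S3904
import Cfsg.Agent.Lib.Helper21.MaxCent

set_option autoImplicit false
open Cfsg

namespace Cfsg.Agent.S3904

open Cfsg.Agent.Helper21.MaxCent

/-- Let G be a non-abelian finite group in which the centralizer of every non-central element is a maximal subgroup. Then G/Z(G) is either an elementary abelian p-group for some prime p, or a minimal non-abelian group (non-abelian with all proper subgroups abelian) of order p^a · q for distinct primes p, q with a normal Sylow p-subgroup. -/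
theorem result {G : Type*} [Group G] [Finite G] (hna : ¬ IsMulCommutative G)
    (h : ∀ x : G, x ∉ Subgroup.center G → IsCoatom (Subgroup.centralizer ({x} : Set G))) :
    (∃ p : ℕ, p.Prime ∧ Cfsg.IsElementaryAbelian p (⊤ : Subgroup (G ⧸ Subgroup.center G))) ∨
    (¬ IsMulCommutative (G ⧸ Subgroup.center G) ∧ (∀ H : Subgroup (G ⧸ Subgroup.center G), H ≠ ⊤ → IsMulCommutative ↥H) ∧
      ∃ p q a : ℕ, p.Prime ∧ q.Prime ∧ p ≠ q ∧ Nat.card (G ⧸ Subgroup.center G) = p ^ a * q ∧
        ∀ P : Subgroup (G ⧸ Subgroup.center G), Nat.card ↥P = p ^ a → P.Normal) := by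
  by_cases hab : ∀ a b : G ⧸ Subgroup.center G, a * b = b * a
  · left
    obtain ⟨x₀, hx₀⟩ : ∃ x₀ : G, x₀ ∉ Subgroup.center G := by
      by_contra hcon
      push_neg at hcon
      apply hna
      exact ⟨⟨fun a b => ((Subgroup.mem_center_iff.mp (hcon b)) a)⟩⟩
    obtain ⟨p, hp, hx₀p⟩ := alpha h hab hx₀
    haveI : Fact p.Prime := ⟨hp⟩
    have hpow : ∀ (y : G) (n : ℕ), y ^ n ∈ Subgroup.center G →
        (y : G ⧸ Subgroup.center G) ^ n = 1 := by
      intro y n hy
      rw [← QuotientGroup.mk_pow]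
      exact (QuotientGroup.eq_one_iff _).mpr hy
    have hne1 : ∀ y : G, y ∉ Subgroup.center G → (y : G ⧸ Subgroup.center G) ≠ 1 :=
      fun y hy h1 => hy ((QuotientGroup.eq_one_iff y).mp h1)
    refine ⟨p, hp, ⟨⟨fun a b => Subtype.ext (hab a b)⟩⟩, ?_⟩
    intro q _
    obtain ⟨y, rfl⟩ := QuotientGroup.mk_surjective q
    by_cases hy : y ∈ Subgroup.center G
    · rw [(QuotientGroup.eq_one_iff y).mpr hy, one_pow]
    obtain ⟨p', hp', hyp'⟩ := alpha h hab hy
    haveI : Fact p'.Prime := ⟨hp'⟩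
    by_cases hpp : p' = p
    · subst hpp; exact hpow y _ hyp'
    by_cases hxy : x₀ * y ∈ Subgroup.center G
    · have h1 : (x₀ : G ⧸ Subgroup.center G) * (y : G ⧸ Subgroup.center G) = 1 := by
        rw [← QuotientGroup.mk_mul]; exact (QuotientGroup.eq_one_iff _).mpr hxy
      rw [eq_inv_of_mul_eq_one_right h1, inv_pow, hpow x₀ p hx₀p, inv_one]
    exfalso
    obtain ⟨p'', hp'', hxyp''⟩ := alpha h hab hxy
    have ho1 : orderOf (x₀ : G ⧸ Subgroup.center G) = p :=
      orderOf_eq_prime (hpow x₀ p hx₀p) (hne1 x₀ hx₀)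
    have ho2 : orderOf (y : G ⧸ Subgroup.center G) = p' :=
      orderOf_eq_prime (hpow y p' hyp') (hne1 y hy)
    have hcop : Nat.Coprime (orderOf (x₀ : G ⧸ Subgroup.center G))
        (orderOf (y : G ⧸ Subgroup.center G)) := by
      rw [ho1, ho2]; exact (Nat.coprime_primes hp hp').mpr (fun e => hpp e.symm)
    have ho3 := Commute.orderOf_mul_eq_mul_orderOf_of_coprime
      (show Commute (x₀ : G ⧸ Subgroup.center G) (y : G ⧸ Subgroup.center G) from hab _ _) hcop
    have h3 : ((x₀ : G ⧸ Subgroup.center G) * (y : G ⧸ Subgroup.center G)) ^ p'' = 1 := by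
      rw [← QuotientGroup.mk_mul]; exact hpow _ _ hxyp''
    have hd := orderOf_dvd_of_pow_eq_one h3
    rw [ho3, ho1, ho2] at hd
    have e1 := (Nat.prime_dvd_prime_iff_eq hp hp'').mp (Dvd.dvd.trans (dvd_mul_right p p') hd)
    have e2 := (Nat.prime_dvd_prime_iff_eq hp' hp'').mp (Dvd.dvd.trans (dvd_mul_left p' p) hd)
    exact hpp (e2.trans e1.symm)
  · right
    push_neg at hab
    have hCM := cm_quotient h hab
    obtain ⟨a, b, hab'⟩ := hab
    have ha1 : a ≠ 1 := by
      rintro rfl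
      simp at hab'
    obtain ⟨h₀, hh₀, hn⟩ := exists_normal_cent hCM ha1
    obtain ⟨hprop, r, p, e, hr, hp, hne, hcard, hS⟩ := case1 hCM hh₀ hn
    refine ⟨?_, ?_, r, p, e, hr, hp, hne, hcard, ?_⟩
    · intro hc
      exact hab' (hc.is_comm.comm a b)
    · intro X hX
      exact ⟨⟨fun a b => Subtype.ext (hprop X hX a a.2 b b.2)⟩⟩
    · intro S hS'
      rw [hS S hS']
      exact hn

end Cfsg.Agent.S3904
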