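import Mathlib
import Cfsg.Statements.S3905
import Cfsg.Agent.Lib.Helper19.MaxCentE
import Cfsg.Agent.Lib.Helper19.MaxCentF

set_option autoImplicit false
open Cfsg

namespace Cfsg.Agent.S3905

open Cfsg.Agent.Helper19.ClassSize Cfsg.Agent.Helper19.MaxCent

variable {G : Type*} [Group G]

theorem mem_center_iff_mem_ZN {N : Subgroup G} (n : ↥N) :
    n ∈ Subgroup.center ↥N ↔ (n : G) ∈ ZN N := by
  rw [Subgroup.mem_center_iff, mem_ZN]
  constructor
  · intro h
    exact ⟨n.2, fun m hm => congrArg Subtype.val (h ⟨m, hm⟩)⟩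
  · rintro ⟨_, h⟩ g
    exact Subtype.ext (h g g.2)

/-- the first alternative, from Step A -/
theorem first_alt [Finite G] {N : Subgroup G} [N.Normal] (hN : MaxC N) {p : ℕ} (hp : p.Prime)
    (hpg : ∀ n ∈ N, ∃ k : ℕ, n ^ p ^ k ∈ ZN N) :
    Cfsg.IsElementaryAbelian p (⊤ : Subgroup (↥N ⧸ Subgroup.center ↥N)) := by
  obtain ⟨hcomm, hpow⟩ := stepA hN hp hpg
  have hc : ∀ a b : ↥N ⧸ Subgroup.center ↥N, a * b = b * a := by
    intro a b
    induction a using QuotientGroup.induction_on with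
    | H n =>
      induction b using QuotientGroup.induction_on with
      | H m =>
        rw [← QuotientGroup.mk_mul, ← QuotientGroup.mk_mul, QuotientGroup.eq,
          mem_center_iff_mem_ZN]
        have := hcomm _ (N.inv_mem m.2) _ (N.inv_mem n.2)
        have e : ((((n * m)⁻¹ * (m * n) : ↥N)) : G) =
            (m : G)⁻¹ * (n : G)⁻¹ * (m : G)⁻¹⁻¹ * (n : G)⁻¹⁻¹ := by
          push_cast
          group
        rw [e]; exact this
  refine ⟨⟨⟨fun a b => Subtype.ext (hc a.1 b.1)⟩⟩, ?_⟩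
  intro a _
  induction a using QuotientGroup.induction_on with
  | H n =>
    rw [← QuotientGroup.mk_pow, QuotientGroup.eq_one_iff, mem_center_iff_mem_ZN]
    have := hpow n n.2
    simpa using this

/-- the comparison map `N / Z(N) → G / Z(N)` -/
noncomputable def phi (N : Subgroup G) [N.Normal] :
    (↥N ⧸ Subgroup.center ↥N) →* (G ⧸ ZN N) :=
  QuotientGroup.lift (Subgroup.center ↥N) ((QuotientGroup.mk' (ZN N)).comp N.subtype) (by
    intro z hz
    rw [MonoidHom.mem_ker]
    show QuotientGroup.mk' (ZN N) (z : G) = 1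
    exact (QuotientGroup.eq_one_iff _).mpr ((mem_center_iff_mem_ZN z).mp hz))

theorem phi_mk (N : Subgroup G) [N.Normal] (n : ↥N) :
    phi N (QuotientGroup.mk n) = QuotientGroup.mk' (ZN N) (n : G) := rfl

theorem phi_injective (N : Subgroup G) [N.Normal] : Function.Injective (phi N) := by
  rw [injective_iff_map_eq_one]
  intro a ha
  induction a using QuotientGroup.induction_on with
  | H n =>
    rw [phi_mk] at ha
    rw [QuotientGroup.eq_one_iff, mem_center_iff_mem_ZN]
    exact (QuotientGroup.eq_one_iff _).mp ha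

theorem phi_mem (N : Subgroup G) [N.Normal] (a : ↥N ⧸ Subgroup.center ↥N) :
    phi N a ∈ N.map (QuotientGroup.mk' (ZN N)) := by
  induction a using QuotientGroup.induction_on with
  | H n =>
    rw [phi_mk]
    exact Subgroup.mem_map_of_mem _ n.2

theorem exists_phi_eq (N : Subgroup G) [N.Normal] {u : G ⧸ ZN N}
    (hu : u ∈ N.map (QuotientGroup.mk' (ZN N))) : ∃ a, phi N a = u := by
  obtain ⟨n, hn, rfl⟩ := Subgroup.mem_map.mp hu
  exact ⟨QuotientGroup.mk ⟨n, hn⟩, rfl⟩

/-- the second alternative, from the centreless structure theorem applied to `G / Z(N)` -/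
theorem second_alt [Finite G] {N : Subgroup G} [N.Normal] (hN : MaxC N)
    (hW : Zover N (ZN N) ≤ ZN N) (hne : ¬ N ≤ ZN N) :
    ∃ (Q K : Subgroup (↥N ⧸ Subgroup.center ↥N)) (p : ℕ), p.Prime ∧
      Cfsg.IsFrobeniusComplement Q ∧ (Nat.card ↥Q).Prime ∧ K.Normal ∧
      (K : Set (↥N ⧸ Subgroup.center ↥N)) = Cfsg.frobeniusKernel Q ∧
      Cfsg.IsElementaryAbelian p K := by
  obtain ⟨hNb, hZb, hNb1⟩ := quotient_data hN hW hne
  have hNbn : (N.map (QuotientGroup.mk' (ZN N))).Normal :=
    Subgroup.Normal.map inferInstance _ (QuotientGroup.mk'_surjective _)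
  obtain ⟨Xb, hXbn, hXbN, hXb1, hXbab, p, hp, hXbp, yb, hybN, hyb, hfpfb, hdecb⟩ :=
    centreless_structure hNb hZb hNb1
  have hinj := phi_injective N
  obtain ⟨y', hy'⟩ := exists_phi_eq N hybN
  let K : Subgroup (↥N ⧸ Subgroup.center ↥N) := Xb.comap (phi N)
  have hKn : K.Normal := Subgroup.Normal.comap hXbn (phi N)
  have hK1 : K ≠ ⊥ := by
    have hnt : Nontrivial ↥Xb := (Subgroup.nontrivial_iff_ne_bot Xb).mpr hXb1
    obtain ⟨xb, hxb, hxb1⟩ := (Subgroup.nontrivial_iff_exists_ne_one Xb).mp hnt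
    obtain ⟨a, ha⟩ := exists_phi_eq N (hXbN hxb)
    intro h
    have haK : a ∈ K := by
      show phi N a ∈ Xb
      rw [ha]; exact hxb
    rw [h, Subgroup.mem_bot] at haK
    apply hxb1
    rw [← ha, haK, map_one]
  have hyo : (orderOf y').Prime := by
    rw [← orderOf_injective (phi N) hinj y', hy']; exact hyb
  have hfpf : ∀ x ∈ K, x ≠ 1 → y' * x ≠ x * y' := by
    intro a ha ha1 hc
    have ha1' : phi N a ≠ 1 := by
      intro h
      apply ha1
      apply hinj
      rw [h, map_one]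
    apply hfpfb (phi N a) ha ha1'
    rw [← hy', ← map_mul, hc, map_mul]
  have hdec : ∀ h : ↥N ⧸ Subgroup.center ↥N, ∃ x ∈ K, ∃ u ∈ Subgroup.zpowers y',
      h = x * u := by
    intro h
    obtain ⟨xb, hxb, ub, hub, hh⟩ := hdecb _ (phi_mem N h)
    obtain ⟨k, rfl⟩ := Subgroup.mem_zpowers_iff.mp hub
    obtain ⟨a, ha⟩ := exists_phi_eq N (hXbN hxb)
    refine ⟨a, ?_, y' ^ k, Subgroup.zpow_mem _ (Subgroup.mem_zpowers y') k, ?_⟩
    · show phi N a ∈ Xb
      rw [ha]; exact hxb
    · apply hinj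
      rw [hh, map_mul, map_zpow, ha, hy']
  obtain ⟨hFC, hcard, hker⟩ := frob_of_semidirect K hK1 y' hyo hfpf hdec
  refine ⟨Subgroup.zpowers y', K, p, hp, hFC, hcard, hKn, hker, ?_, ?_⟩
  · refine ⟨⟨fun a b => Subtype.ext ?_⟩⟩
    apply hinj
    show phi N ((a : ↥N ⧸ Subgroup.center ↥N) * b) = phi N (b * a)
    rw [map_mul, map_mul]
    exact hXbab _ a.2 _ b.2
  · intro a ha
    apply hinj
    rw [map_pow, map_one]
    exact hXbp _ ha

/-- Let N be a normal subgroup of the finite group G such that for every element x of N outside the center of N the centralizer C_G(x) is a maximal subgroup of G. Then N/Z(N) is either an elementary abelian p-group for some prime p, or a Frobenius group whose kernel is an elementary abelian normal subgroup and whose complement has prime order. -/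
theorem result {G : Type*} [Group G] [Finite G] (N : Subgroup G) [N.Normal]
    (h : ∀ x : G, x ∈ N → x ∉ Subgroup.centralizer (N : Set G) → IsCoatom (Subgroup.centralizer ({x} : Set G))) :
    (∃ p : ℕ, p.Prime ∧ Cfsg.IsElementaryAbelian p (⊤ : Subgroup (↥N ⧸ Subgroup.center ↥N))) ∨
    (∃ (Q K : Subgroup (↥N ⧸ Subgroup.center ↥N)) (p : ℕ), p.Prime ∧ Cfsg.IsFrobeniusComplement Q ∧ (Nat.card ↥Q).Prime ∧
      K.Normal ∧ (K : Set (↥N ⧸ Subgroup.center ↥N)) = Cfsg.frobeniusKernel Q ∧ Cfsg.IsElementaryAbelian p K) := by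
  have hN : MaxC N := by
    intro x hx hxZ
    apply h x hx
    intro hc
    exact hxZ (Subgroup.mem_inf.mpr ⟨hx, hc⟩)
  by_cases hne : N ≤ ZN N
  · left
    refine ⟨2, Nat.prime_two, first_alt hN Nat.prime_two ?_⟩
    intro n hn
    exact ⟨0, by rw [pow_zero, pow_one]; exact hne hn⟩
  · by_cases hW : Zover N (ZN N) ≤ ZN N
    · right
      exact second_alt hN hW hne
    · left
      obtain ⟨x0, hx0, hx0Z⟩ := SetLike.not_le_iff_exists.mp hW
      obtain ⟨p, hp, hpg⟩ := stepB hN hx0 hx0Z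
      exact ⟨p, hp, first_alt hN hp hpg⟩

end Cfsg.Agent.S3905
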