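import Mathlib
import Cfsg.Statements.S3908
import Cfsg.Agent.S0016
import Cfsg.Agent.Lib.Helper21.SylowCount

set_option autoImplicit false
set_option linter.style.haveILetI false
open Cfsg

namespace Cfsg.Agent.S3908

open Subgroup Cfsg.Agent.Helper21

/-- In a group whose abelian subgroups of equal order are conjugate, a non-cyclic abelian subgroup
of order `p²` and an element of order `p²` cannot coexist. -/
theorem no_mix {G : Type*} [Group G] [Finite G]
    (hB : ∀ A B : Subgroup G, IsMulCommutative ↥A → IsMulCommutative ↥B → Nat.card ↥A = Nat.card ↥B →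
      ∃ g : G, B = A.map (MulAut.conj g).toMonoidHom)
    (p : ℕ) [Fact p.Prime] (a b y : G) (hab : a * b = b * a) (ha : orderOf a = p)
    (hb : b ^ p = 1) (hb1 : b ∉ zpowers a) (hy : orderOf y = p ^ 2) : False := by
  have hp : p.Prime := Fact.out
  set E := closure ({a, b} : Set G) with hE
  haveI hEc : IsMulCommutative E := isMulCommutative_closure (by
    rintro x (rfl | rfl) z (rfl | rfl)
    · rfl
    · exact hab
    · exact hab.symm
    · rfl)
  have hEexp : ∀ e ∈ E, e ^ p = 1 := by
    intro e he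
    induction he using closure_induction with
    | mem x hx =>
      rcases hx with rfl | rfl
      · rw [← ha]; exact pow_orderOf_eq_one _
      · exact hb
    | one => exact one_pow _
    | mul x z hx hz ihx ihz =>
      rw [(show Commute x z from mul_comm_of_mem_isMulCommutative E hx hz).mul_pow, ihx, ihz, one_mul]
    | inv x hx ihx => rw [inv_pow, ihx, inv_one]
  have hEeq : E = zpowers b ⊔ zpowers a := by
    rw [hE, zpowers_eq_closure, zpowers_eq_closure, ← Subgroup.closure_union]
    congr 1
    ext t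
    simp only [Set.mem_insert_iff, Set.mem_singleton_iff, Set.mem_union]
    tauto
  have hbo : orderOf b = p := by
    have h1 : orderOf b ∣ p := orderOf_dvd_of_pow_eq_one hb
    rcases (Nat.dvd_prime hp).mp h1 with h | h
    · exfalso
      rw [orderOf_eq_one_iff] at h
      exact hb1 (h ▸ one_mem _)
    · exact h
  have hca : Nat.card (zpowers a) = p := by rw [Nat.card_zpowers, ha]
  have hcb : Nat.card (zpowers b) = p := by rw [Nat.card_zpowers, hbo]
  have hinf : zpowers b ⊓ zpowers a = ⊥ := by
    have h1 : Nat.card (zpowers b ⊓ zpowers a : Subgroup G) ∣ p :=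
      hca ▸ Subgroup.card_dvd_of_le inf_le_right
    rcases (Nat.dvd_prime hp).mp h1 with h | h
    · exact Subgroup.card_eq_one.mp h
    · exfalso
      have h2 : zpowers b ⊓ zpowers a = zpowers a :=
        Subgroup.eq_of_le_of_card_ge inf_le_right (by rw [h, hca])
      have h3 : zpowers a ≤ zpowers b := inf_eq_right.mp h2
      have h4 : zpowers a = zpowers b := Subgroup.eq_of_le_of_card_ge h3 (by rw [hca, hcb])
      exact hb1 (h4 ▸ mem_zpowers b)
  have hnorm : zpowers b ≤ normalizer ((zpowers a : Subgroup G) : Set G) := by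
    rw [zpowers_le]
    apply centralizer_le_normalizer
    refine mem_centralizer_iff.mpr ?_
    intro t ht
    obtain ⟨n, rfl⟩ := mem_zpowers_iff.mp ht
    exact ((Commute.zpow_left (show Commute a b from hab) n)).eq
  have hEcard : Nat.card E = p ^ 2 := by
    have h1 : (zpowers b).relIndex (zpowers b ⊔ zpowers a) = (zpowers b).relIndex (zpowers a) :=
      relIndex_sup_eq_of_le_normalizer _ _ hnorm
    have h1' : (zpowers b).relIndex (zpowers a) = p := by
      rw [← inf_relIndex_right, hinf, relIndex_bot_left, hca]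
    rw [h1'] at h1
    have h2 := relIndex_mul_relIndex (⊥ : Subgroup G) (zpowers b) (zpowers b ⊔ zpowers a) bot_le
      le_sup_left
    rw [relIndex_bot_left, relIndex_bot_left, h1, hcb] at h2
    rw [hEeq, ← h2, pow_two]
  have hCcard : Nat.card (zpowers y) = p ^ 2 := by rw [Nat.card_zpowers, hy]
  obtain ⟨g, hg⟩ := hB (zpowers y) E inferInstance hEc (by rw [hCcard, hEcard])
  have h1 : g * y * g⁻¹ ∈ E := by
    rw [hg]
    exact ⟨y, mem_zpowers y, rfl⟩
  have h2 := hEexp _ h1
  rw [conj_pow] at h2
  have h3 : y ^ p = 1 := by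
    have := congrArg (fun t => g⁻¹ * t * g) h2
    simpa [mul_assoc] using this
  have h4 : p ^ 2 ∣ p := hy ▸ orderOf_dvd_of_pow_eq_one h3
  have h5 : p ^ 2 ≤ p := Nat.le_of_dvd hp.pos h4
  have h6 : p < p ^ 2 := by
    have := hp.one_lt
    nlinarith
  omega

/-- Dichotomy for the Sylow subgroups. -/
theorem core {G : Type*} [Group G] [Finite G]
    (hB : ∀ A B : Subgroup G, IsMulCommutative ↥A → IsMulCommutative ↥B → Nat.card ↥A = Nat.card ↥B →
      ∃ g : G, B = A.map (MulAut.conj g).toMonoidHom)
    (p : ℕ) [Fact p.Prime] (P : Sylow p G) :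
    (∀ x ∈ (P : Subgroup G), x ^ p = 1) ∨
    (∀ H K : Subgroup ↥(P : Subgroup G), Nat.card H = p → Nat.card K = p → H = K) := by
  by_contra hcon
  push Not at hcon
  obtain ⟨⟨x, hxP, hxp⟩, H, K, hH, hK, hHK⟩ := hcon
  have hp : p.Prime := Fact.out
  obtain ⟨y, hy⟩ : ∃ y : G, orderOf y = p ^ 2 := by
    obtain ⟨k, hk⟩ := (IsPGroup.iff_orderOf.mp P.2) ⟨x, hxP⟩
    rw [Subgroup.orderOf_mk] at hk
    have hk2 : 2 ≤ k := by
      by_contra h
      push Not at h
      apply hxp
      have : orderOf x ∣ p := by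
        rw [hk]
        interval_cases k
        · simp
        · simp
      exact orderOf_dvd_iff_pow_eq_one.mp this
    refine ⟨x ^ p ^ (k - 2), ?_⟩
    rw [orderOf_pow_of_dvd (pow_ne_zero _ hp.ne_zero) (hk ▸ pow_dvd_pow p (Nat.sub_le k 2)), hk,
      Nat.pow_div (Nat.sub_le k 2) hp.pos]
    congr 1
    omega
  haveI : Nontrivial (P : Subgroup G) := ⟨⟨⟨x, hxP⟩, 1, fun h => hxp (by
    have := congrArg Subtype.val h
    simp only [Subgroup.coe_one] at this
    rw [this, one_pow])⟩⟩
  haveI hcn : Nontrivial (center (P : Subgroup G)) := P.2.center_nontrivial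
  have hcp : IsPGroup p (center (P : Subgroup G)) := P.2.to_subgroup _
  have hpc : p ∣ Nat.card (center (P : Subgroup G)) := by
    obtain ⟨n, hn⟩ := hcp.exists_card_eq
    rw [hn]
    have : n ≠ 0 := by
      rintro rfl
      rw [pow_zero] at hn
      have h1 := (Finite.one_lt_card_iff_nontrivial (α := center (P : Subgroup G))).mpr hcn
      omega
    exact dvd_pow_self p this
  obtain ⟨z, hz⟩ := exists_prime_orderOf_dvd_card' p hpc
  set z₀ : (P : Subgroup G) := (z : (P : Subgroup G)) with hz₀
  have hz₀o : orderOf z₀ = p := by rw [hz₀, Subgroup.orderOf_coe, hz]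
  have hz₀c : ∀ t : (P : Subgroup G), t * z₀ = z₀ * t := fun t =>
    Subgroup.mem_center_iff.mp z.2 t
  obtain ⟨H', hH', hH'ne⟩ : ∃ H' : Subgroup (P : Subgroup G), Nat.card H' = p ∧ H' ≠ zpowers z₀ := by
    by_cases h : H = zpowers z₀
    · exact ⟨K, hK, fun h' => hHK (h.trans h'.symm)⟩
    · exact ⟨H, hH, h⟩
  have hH'1 : H' ≠ ⊥ := by
    rw [← Subgroup.one_lt_card_iff_ne_bot, hH']
    exact hp.one_lt
  obtain ⟨h, hh1⟩ := (Subgroup.ne_bot_iff_exists_ne_one).mp hH'1
  set b₀ : (P : Subgroup G) := (h : (P : Subgroup G)) with hb₀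
  have hb₀p : b₀ ^ p = 1 := by
    have : h ^ p = 1 := by
      have h0 : h ^ Nat.card H' = 1 := pow_card_eq_one'
      rwa [hH'] at h0
    have := congrArg Subtype.val this
    simpa using this
  have hb₀1 : b₀ ≠ 1 := fun h0 => hh1 (Subtype.ext h0)
  have hb₀o : orderOf b₀ = p := by
    have h1 : orderOf b₀ ∣ p := orderOf_dvd_of_pow_eq_one hb₀p
    rcases (Nat.dvd_prime hp).mp h1 with h2 | h2
    · exact absurd (orderOf_eq_one_iff.mp h2) hb₀1
    · exact h2
  have hb₀z : b₀ ∉ zpowers z₀ := by
    intro hmem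
    apply hH'ne
    have h1 : zpowers b₀ ≤ zpowers z₀ := by rw [zpowers_le]; exact hmem
    have h2 : zpowers b₀ = zpowers z₀ :=
      Subgroup.eq_of_le_of_card_ge h1 (by rw [Nat.card_zpowers, Nat.card_zpowers, hb₀o, hz₀o])
    have h3 : zpowers b₀ ≤ H' := by rw [zpowers_le]; exact h.2
    have h4 : zpowers b₀ = H' :=
      Subgroup.eq_of_le_of_card_ge h3 (by rw [Nat.card_zpowers, hb₀o, hH'])
    rw [← h4, h2]
  apply no_mix hB p (z₀ : G) (b₀ : G) y
  · have := hz₀c b₀
    have := congrArg Subtype.val this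
    simpa using this.symm
  · rw [Subgroup.orderOf_coe, hz₀o]
  · have := congrArg Subtype.val hb₀p
    simpa using this
  · intro hmem
    apply hb₀z
    obtain ⟨n, hn⟩ := mem_zpowers_iff.mp hmem
    refine mem_zpowers_iff.mpr ⟨n, ?_⟩
    apply Subtype.ext
    rw [Subgroup.coe_zpow]
    exact hn
  · exact hy

/-- Let G be a finite group in which any two abelian subgroups of the same order are conjugate. Then a Sylow 2-subgroup of G is cyclic, elementary abelian or generalized quaternion, and for an odd prime p a Sylow p-subgroup of G is cyclic or has exponent dividing p. -/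
theorem result {G : Type*} [Group G] [Finite G] (hB : ∀ A B : Subgroup G, IsMulCommutative ↥A → IsMulCommutative ↥B → Nat.card ↥A = Nat.card ↥B → ∃ g : G, B = A.map (MulAut.conj g).toMonoidHom) :
    (∀ P : Sylow 2 G, IsCyclic ↥(P : Subgroup G) ∨ Cfsg.IsElementaryAbelian 2 (P : Subgroup G) ∨ ∃ k : ℕ, Nonempty (↥(P : Subgroup G) ≃* QuaternionGroup (2 ^ k))) ∧
    ∀ (p : ℕ) [Fact p.Prime], p ≠ 2 → ∀ P : Sylow p G, IsCyclic ↥(P : Subgroup G) ∨ ∀ x ∈ (P : Subgroup G), x ^ p = 1 := by
  constructor
  · intro P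
    rcases core hB 2 P with h | h
    · right; left
      refine ⟨⟨⟨fun a b => ?_⟩⟩, h⟩
      apply Subtype.ext
      have ha : (a : G) * a = 1 := by rw [← pow_two]; exact h _ a.2
      have hb : (b : G) * b = 1 := by rw [← pow_two]; exact h _ b.2
      have hab : ((a : G) * b) * ((a : G) * b) = 1 := by
        rw [← pow_two]; exact h _ ((P : Subgroup G).mul_mem a.2 b.2)
      have h2 : ((a : G) * b) * ((b : G) * a) = 1 := by
        calc ((a : G) * b) * ((b : G) * a) = (a : G) * ((b : G) * b) * a := by group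
          _ = 1 := by rw [hb, mul_one, ha]
      show (a : G) * b = (b : G) * a
      exact mul_left_cancel (hab.trans h2.symm)
    · rcases Cfsg.Agent.S0016.result (G := ↥(P : Subgroup G)) 2 P.2 h with h1 | ⟨-, h1⟩
      · left; exact h1
      · right; right; exact h1
  · intro p _ hp2 P
    rcases core hB p P with h | h
    · right; exact h
    · rcases Cfsg.Agent.S0016.result (G := ↥(P : Subgroup G)) p P.2 h with h1 | ⟨h1, -⟩
      · left; exact h1
      · exact absurd h1 hp2

end Cfsg.Agent.S3908
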