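import Mathlib
import Cfsg.Statements.S3909
import Cfsg.Agent.Lib.Helper12.PGroup

set_option autoImplicit false
open Cfsg

namespace Cfsg.Agent.S3909

open Cfsg.Agent.Helper12

theorem map_conj_le_of_normal {G : Type*} [Group G] (M : Subgroup G) [M.Normal] (A : Subgroup G)
    (hA : A ≤ M) (g : G) : A.map (MulAut.conj g).toMonoidHom ≤ M := by
  rintro _ ⟨a, ha, rfl⟩
  exact ‹M.Normal›.conj_mem a (hA ha) g

/-- Let G be a finite group in which any two abelian subgroups of the same order are conjugate. Let M be a normal subgroup of G. If M contains an element of the same order as a ∈ G, then a ∈ M; and if M is elementary abelian of order p^t with p prime and t ≥ 2, then M is the unique Sylow p-subgroup of G. -/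
theorem result {G : Type*} [Group G] [Finite G] (hB : ∀ A B : Subgroup G, IsMulCommutative ↥A → IsMulCommutative ↥B → Nat.card ↥A = Nat.card ↥B → ∃ g : G, B = A.map (MulAut.conj g).toMonoidHom) (M : Subgroup G) [M.Normal] :
    (∀ a : G, (∃ m ∈ M, orderOf m = orderOf a) → a ∈ M) ∧
    ∀ (p t : ℕ) [Fact p.Prime], 2 ≤ t → Nat.card ↥M = p ^ t → Cfsg.IsElementaryAbelian p M → ∀ P : Sylow p G, (P : Subgroup G) = M := by
  classical
  have hi : ∀ a : G, (∃ m ∈ M, orderOf m = orderOf a) → a ∈ M := by
    rintro a ⟨m, hm, hord⟩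
    obtain ⟨g, hg⟩ := hB (Subgroup.zpowers m) (Subgroup.zpowers a) inferInstance inferInstance
      (by rw [Nat.card_zpowers, Nat.card_zpowers, hord])
    have h1 : Subgroup.zpowers a ≤ M := by
      rw [hg]
      exact map_conj_le_of_normal M _ (by rwa [Subgroup.zpowers_le]) g
    exact h1 (Subgroup.mem_zpowers a)
  refine ⟨hi, ?_⟩
  intro p t _ ht hcard hel P
  have hp : p.Prime := Fact.out
  have hMp : IsPGroup p M := IsPGroup.of_card hcard
  have hMP : M ≤ P := normal_pgroup_le_sylow M hMp P
  by_contra hne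
  have hlt : M < P := lt_of_le_of_ne hMP (Ne.symm hne)
  obtain ⟨x, hxP, hxM⟩ := SetLike.exists_of_lt hlt
  -- some p-power of x lies in M
  have hex : ∃ j : ℕ, x ^ (p ^ j) ∈ M := by
    obtain ⟨k, hk⟩ := P.2 ⟨x, hxP⟩
    refine ⟨k, ?_⟩
    have : x ^ (p ^ k) = 1 := by
      have := congrArg Subtype.val hk
      simpa using this
    rw [this]; exact M.one_mem
  have hj0 : Nat.find hex ≠ 0 := by
    intro h0
    have := Nat.find_spec hex
    rw [h0] at this
    simp at this
    exact hxM this
  obtain ⟨j, hj⟩ := Nat.exists_eq_succ_of_ne_zero hj0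
  set y := x ^ (p ^ j) with hy
  have hyM : y ∉ M := by
    intro h
    have := Nat.find_min hex (m := j) (by omega)
    exact this h
  have hypM : y ^ p ∈ M := by
    have := Nat.find_spec hex
    rw [hj, Nat.succ_eq_add_one, pow_succ, pow_mul] at this
    exact this
  have hyp2 : y ^ (p ^ 2) = 1 := by
    rw [pow_two, pow_mul]
    exact hel.2 _ hypM
  have hord : orderOf y ∣ p ^ 2 := orderOf_dvd_of_pow_eq_one hyp2
  obtain ⟨i, hi2, hio⟩ := (Nat.dvd_prime_pow hp).mp hord
  have hdvdM : p ∣ Nat.card M := by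
    rw [hcard]; exact dvd_pow_self p (by omega)
  interval_cases i
  · -- order 1
    rw [pow_zero, orderOf_eq_one_iff] at hio
    exact hyM (hio ▸ M.one_mem)
  · -- order p
    have := Fintype.ofFinite M
    obtain ⟨m, hm⟩ := exists_prime_orderOf_dvd_card (G := M) p (by rwa [← Nat.card_eq_fintype_card])
    apply hyM
    apply hi
    refine ⟨m.1, m.2, ?_⟩
    rw [Subgroup.orderOf_coe, hm, hio, pow_one]
  · -- order p^2
    have hdvd2 : p ^ 2 ∣ Nat.card M := by
      rw [hcard]; exact pow_dvd_pow p ht
    obtain ⟨K, hK⟩ := Sylow.exists_subgroup_card_pow_prime p hdvd2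
    have hMc : IsMulCommutative M := hel.1
    have hcardB : Nat.card (K.map M.subtype) = p ^ 2 := by
      rw [← hK]
      exact Nat.card_congr (Subgroup.equivMapOfInjective K M.subtype M.subtype_injective).symm.toEquiv
    obtain ⟨g, hg⟩ := hB (K.map M.subtype) (Subgroup.zpowers y) inferInstance inferInstance
      (by rw [hcardB, Nat.card_zpowers, hio])
    have h1 : Subgroup.zpowers y ≤ M := by
      rw [hg]
      refine map_conj_le_of_normal M _ ?_ g
      rintro _ ⟨k, _, rfl⟩
      exact k.2
    exact hyM (h1 (Subgroup.mem_zpowers y))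

end Cfsg.Agent.S3909
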