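import Mathlib
import Cfsg.Statements.S3910

set_option autoImplicit false
open Cfsg

namespace Cfsg.Agent.S3910

/-- a nontrivial normal subgroup of a nilpotent group meets the centre -/
lemma normal_inf_center_ne_bot {Q : Type*} [Group Q] [Group.IsNilpotent Q] (N : Subgroup Q)
    [hNn : N.Normal] (hN : N ≠ ⊥) : N ⊓ Subgroup.center Q ≠ ⊥ := by
  obtain ⟨n, hn⟩ := Group.IsNilpotent.nilpotent Q
  have key : ∀ i : ℕ, N ⊓ Subgroup.upperCentralSeries Q i ≠ ⊥ → N ⊓ Subgroup.center Q ≠ ⊥ := by
    intro i
    induction i with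
    | zero =>
      intro h
      exfalso
      apply h
      rw [Subgroup.upperCentralSeries_zero, inf_bot_eq]
    | succ i ih =>
      intro h
      by_cases h' : N ⊓ Subgroup.upperCentralSeries Q i = ⊥
      · obtain ⟨x, hx1⟩ := (Subgroup.ne_bot_iff_exists_ne_one).mp h
        obtain ⟨x, hxm⟩ := x
        obtain ⟨hxN, hxZ⟩ := Subgroup.mem_inf.mp hxm
        have hx1' : x ≠ 1 := fun h => hx1 (Subtype.ext h)
        intro hbot
        have : x ∈ N ⊓ Subgroup.center Q := by
          refine Subgroup.mem_inf.mpr ⟨hxN, ?_⟩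
          rw [Subgroup.mem_center_iff]
          intro y
          have h1 : x * y * x⁻¹ * y⁻¹ ∈ Subgroup.upperCentralSeries Q i :=
            (Subgroup.mem_upperCentralSeries_succ_iff).mp hxZ y
          have h2 : x * y * x⁻¹ * y⁻¹ ∈ N := by
            have : y * x⁻¹ * y⁻¹ ∈ N := hNn.conj_mem _ (N.inv_mem hxN) y
            have := N.mul_mem hxN this
            simpa [mul_assoc] using this
          have h3 : x * y * x⁻¹ * y⁻¹ ∈ N ⊓ Subgroup.upperCentralSeries Q i :=
            Subgroup.mem_inf.mpr ⟨h2, h1⟩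
          rw [h', Subgroup.mem_bot] at h3
          have : x * y = y * x := by
            have := congrArg (fun t => t * y * x) h3
            simpa [mul_assoc] using this
          exact this.symm
        rw [hbot, Subgroup.mem_bot] at this
        exact hx1' this
      · exact ih h'
  apply key n
  rw [hn, inf_top_eq]
  exact hN

/-- a central element of order `p` in a nilpotent group of order divisible by `p` -/
lemma exists_central_orderOf_eq_prime {Q : Type*} [Group Q] [Finite Q] [Group.IsNilpotent Q]
    {p : ℕ} [hp : Fact p.Prime] (hdvd : p ∣ Nat.card Q) :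
    ∃ z ∈ Subgroup.center Q, orderOf z = p := by
  let P : Sylow p Q := default
  have hP : (P : Subgroup Q) ≠ ⊥ := P.ne_bot_of_dvd_card hdvd
  have hne := normal_inf_center_ne_bot (P : Subgroup Q) hP
  have hpg : IsPGroup p ↥((P : Subgroup Q) ⊓ Subgroup.center Q) := P.2.to_le inf_le_left
  have hnt : Nontrivial ↥((P : Subgroup Q) ⊓ Subgroup.center Q) :=
    (Subgroup.nontrivial_iff_ne_bot _).mpr hne
  have hcard : p ∣ Nat.card ↥((P : Subgroup Q) ⊓ Subgroup.center Q) := by
    rcases hpg.card_eq_or_dvd with h | h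
    · exfalso
      have := Finite.one_lt_card_iff_nontrivial.mpr hnt
      omega
    · exact h
  obtain ⟨x, hx⟩ := exists_prime_orderOf_dvd_card' p hcard
  exact ⟨x, (Subgroup.mem_inf.mp x.2).2, (Subgroup.orderOf_coe x).trans hx⟩

variable {G : Type*} [Group G] [Finite G]

/-- step (a): a subgroup of order `p^(j+1)` is cyclic if `N` is the only subgroup of order `p^j` -/
lemma cyclic_of_unique_sub {p : ℕ} [hp : Fact p.Prime] {j : ℕ} (N : Subgroup G)
    (hNc : Nat.card N = p ^ j) (hN : ∀ K : Subgroup G, Nat.card K = p ^ j → K = N)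
    (H : Subgroup G) (hH : Nat.card H = p ^ (j + 1)) : IsCyclic H := by
  have hex : ∃ x ∈ H, x ∉ N := by
    by_contra hcon
    push Not at hcon
    have hle : H ≤ N := hcon
    have := Subgroup.card_le_of_le hle
    rw [hH, hNc] at this
    have := Nat.pow_lt_pow_right hp.out.one_lt (by omega : j < j + 1)
    omega
  obtain ⟨x, hxH, hxN⟩ := hex
  have hKH : Subgroup.zpowers x ≤ H := (Subgroup.zpowers_le).mpr hxH
  have hdvd : Nat.card (Subgroup.zpowers x) ∣ p ^ (j + 1) := by
    rw [← hH]; exact Subgroup.card_dvd_of_le hKH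
  obtain ⟨i, hi, hKi⟩ := (Nat.dvd_prime_pow hp.out).mp hdvd
  have hij : i = j + 1 := by
    by_contra hne
    have hij : i ≤ j := by omega
    have hdG : p ^ j ∣ Nat.card G := by rw [← hNc]; exact Subgroup.card_subgroup_dvd_card N
    obtain ⟨K', hK'c, hK'⟩ := Sylow.exists_subgroup_card_pow_prime_le p hdG _ hKi hij
    rw [hN K' hK'c] at hK'
    exact hxN (hK' (Subgroup.mem_zpowers x))
  have hEq : Subgroup.zpowers x = H := by
    apply Subgroup.eq_of_le_of_card_ge hKH
    rw [hKi, hH, hij]
  rw [← hEq]
  infer_instance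

omit [Finite G] in
lemma map_conj_of_normal (N : Subgroup G) [N.Normal] (g : G) :
    N.map (MulAut.conj g).toMonoidHom = N := by
  have := Subgroup.Normal.conj_smul_eq_self g N
  rwa [Subgroup.pointwise_smul_def] at this

/-- the inductive statement: a unique subgroup of order `p^j` -/
lemma unique_sub
    (hB : ∀ A B : Subgroup G, IsMulCommutative ↥A → IsMulCommutative ↥B → Nat.card ↥A = Nat.card ↥B →
      ∃ g : G, B = A.map (MulAut.conj g).toMonoidHom)
    [hnil : Group.IsNilpotent G] (p : ℕ) [hp : Fact p.Prime] :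
    ∀ j : ℕ, p ^ j ∣ Nat.card G →
      ∃ N : Subgroup G, Nat.card N = p ^ j ∧ ∀ K : Subgroup G, Nat.card K = p ^ j → K = N := by
  intro j
  induction j with
  | zero =>
    intro _
    refine ⟨⊥, by simp, fun K hK => ?_⟩
    rw [pow_zero] at hK
    exact Subgroup.card_eq_one.mp hK
  | succ j ih =>
    intro hdvd
    have hdvd' : p ^ j ∣ Nat.card G := dvd_trans (pow_dvd_pow p (Nat.le_succ j)) hdvd
    obtain ⟨N, hNc, hN⟩ := ih hdvd'
    -- `N` is normal
    haveI hNn : N.Normal := by
      constructor
      intro n hn g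
      have h1 : Nat.card (N.map (MulAut.conj g).toMonoidHom) = p ^ j := by
        rw [← hNc]
        exact Subgroup.card_map_of_injective (MulAut.conj g).injective
      have h2 := hN _ h1
      rw [← h2]
      exact ⟨n, hn, rfl⟩
    -- `p` divides the order of the quotient
    have hq : p ∣ Nat.card (G ⧸ N) := by
      have h1 := Subgroup.card_eq_card_quotient_mul_card_subgroup N
      rw [hNc] at h1
      rw [h1, pow_succ] at hdvd
      have hpos : 0 < p ^ j := pow_pos hp.out.pos j
      rw [mul_comm (Nat.card (G ⧸ N))] at hdvd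
      exact (Nat.mul_dvd_mul_iff_left hpos).mp hdvd
    obtain ⟨z, hz, hzo⟩ := exists_central_orderOf_eq_prime (Q := G ⧸ N) hq
    haveI hzn : (Subgroup.zpowers z).Normal := by
      constructor
      intro n hn g
      have : g * n * g⁻¹ = n := by
        obtain ⟨k, rfl⟩ := hn
        have hc : z ^ k ∈ Subgroup.center (G ⧸ N) := Subgroup.zpow_mem _ hz k
        rw [Subgroup.mem_center_iff] at hc
        rw [hc g, mul_assoc, mul_inv_cancel, mul_one]
      rw [this]; exact hn
    let H₀ : Subgroup G := (Subgroup.zpowers z).comap (QuotientGroup.mk' N)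
    haveI hH₀n : H₀.Normal := Subgroup.Normal.comap hzn _
    have hH₀c : Nat.card H₀ = p ^ (j + 1) := by
      have hidx : H₀.index = (Subgroup.zpowers z).index :=
        Subgroup.index_comap_of_surjective _ (QuotientGroup.mk'_surjective N)
      have h1 := Subgroup.card_mul_index H₀
      have h2 := Subgroup.card_mul_index (Subgroup.zpowers z)
      have h3 := Subgroup.card_eq_card_quotient_mul_card_subgroup N
      rw [Nat.card_zpowers, hzo] at h2
      rw [hidx] at h1
      rw [hNc] at h3
      have hpos : 0 < (Subgroup.zpowers z).index := Nat.pos_of_ne_zero Subgroup.index_ne_zero_of_finite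
      have : Nat.card H₀ * (Subgroup.zpowers z).index
          = (p ^ (j + 1)) * (Subgroup.zpowers z).index := by
        rw [h1, h3, ← h2, pow_succ]; ring
      exact Nat.eq_of_mul_eq_mul_right hpos this
    refine ⟨H₀, hH₀c, fun K hK => ?_⟩
    haveI hKc : IsCyclic K := cyclic_of_unique_sub N hNc hN K hK
    haveI hH₀cyc : IsCyclic H₀ := cyclic_of_unique_sub N hNc hN H₀ hH₀c
    have hKm : IsMulCommutative ↥K := ⟨⟨fun a b => (IsCyclic.commGroup (α := ↥K)).mul_comm a b⟩⟩
    have hHm : IsMulCommutative ↥H₀ := ⟨⟨fun a b => (IsCyclic.commGroup (α := ↥H₀)).mul_comm a b⟩⟩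
    obtain ⟨g, hg⟩ := hB H₀ K hHm hKm (by rw [hH₀c, hK])
    rw [hg, map_conj_of_normal]

/-- A finite nilpotent group in which any two abelian subgroups of the same order are conjugate is cyclic. -/
theorem result {G : Type*} [Group G] [Finite G] (hB : ∀ A B : Subgroup G, IsMulCommutative ↥A → IsMulCommutative ↥B → Nat.card ↥A = Nat.card ↥B → ∃ g : G, B = A.map (MulAut.conj g).toMonoidHom) (hnil : Group.IsNilpotent G) : IsCyclic G := by
  haveI := hnil
  haveI : IsZGroup G := by
    constructor
    intro p hp' P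
    haveI hp : Fact p.Prime := ⟨hp'⟩
    have hc := P.card_eq_multiplicity
    have hdvd : p ^ (Nat.card G).factorization p ∣ Nat.card G := Nat.ordProj_dvd _ _
    rcases Nat.eq_zero_or_eq_succ_pred ((Nat.card G).factorization p) with h0 | hs
    · rw [h0, pow_zero] at hc
      have : Subsingleton ↥(P : Subgroup G) := by
        rw [← Finite.card_le_one_iff_subsingleton]
        exact hc.le
      exact isCyclic_of_subsingleton
    · rw [hs] at hc hdvd
      have hdvd' : p ^ ((Nat.card G).factorization p).pred ∣ Nat.card G :=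
        dvd_trans (pow_dvd_pow p (Nat.le_succ _)) hdvd
      obtain ⟨N, hNc, hN⟩ := unique_sub hB p _ hdvd'
      exact cyclic_of_unique_sub N hNc hN P hc
  infer_instance

end Cfsg.Agent.S3910
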