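import Mathlib
import Cfsg.Statements.S3911
import Cfsg.Agent.S3908
import Cfsg.Agent.S3909
import Cfsg.Agent.Lib.Helper19.MinSuppB
-- import your own Cfsg.Agent.* helpers here

set_option autoImplicit false
open Cfsg

namespace Cfsg.Agent.S3911

/-- Let G be a finite group in which any two abelian subgroups of the same order are conjugate. If M is a normal subgroup of G of odd order, then any two abelian subgroups of G/M of the same order are conjugate in G/M. -/
theorem result {G : Type*} [Group G] [Finite G] (hB : ∀ A B : Subgroup G, IsMulCommutative ↥A → IsMulCommutative ↥B → Nat.card ↥A = Nat.card ↥B → ∃ g : G, B = A.map (MulAut.conj g).toMonoidHom) (M : Subgroup G) [M.Normal] (hM : Odd (Nat.card ↥M)) :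
    ∀ A B : Subgroup (G ⧸ M), IsMulCommutative ↥A → IsMulCommutative ↥B → Nat.card ↥A = Nat.card ↥B →
      ∃ g : G ⧸ M, B = A.map (MulAut.conj g).toMonoidHom := by
  intro A B hAc hBc hAB
  have hOrd := (Cfsg.Agent.S3909.result hB M).1
  have hSyl : ∀ (q : ℕ) [Fact q.Prime], q ∣ Nat.card M → ∀ P : Sylow q G,
      IsCyclic ↥(P : Subgroup G) ∨ ∀ x ∈ (P : Subgroup G), x ^ q = 1 := by
    intro q _ hq P
    have hq2 : q ≠ 2 := by
      rintro rfl
      exact (Nat.not_even_iff_odd.mpr hM) (even_iff_two_dvd.mpr hq)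
    exact (Cfsg.Agent.S3908.result hB).2 q hq2 P
  have hA' : ∀ x ∈ A, ∀ y ∈ A, x * y = y * x := fun x hx y hy =>
    setLike_mul_comm hx hy
  have hB' : ∀ x ∈ B, ∀ y ∈ B, x * y = y * x := fun x hx y hy =>
    setLike_mul_comm hx hy
  obtain ⟨H, K, hH, hK, hHc, hKc, hHK⟩ :=
    Cfsg.Agent.Helper19.MinSupp.exists_comm_lifts M hOrd hSyl A B hA' hB' hAB
  have hHi : IsMulCommutative ↥H := ⟨⟨fun x y => Subtype.ext (hHc _ x.2 _ y.2)⟩⟩
  have hKi : IsMulCommutative ↥K := ⟨⟨fun x y => Subtype.ext (hKc _ x.2 _ y.2)⟩⟩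
  obtain ⟨g, hg⟩ := hB H K hHi hKi hHK
  refine ⟨QuotientGroup.mk g, ?_⟩
  rw [← hK, ← hH, hg, Subgroup.map_map, Subgroup.map_map]
  congr 1

end Cfsg.Agent.S3911
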