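import Mathlib
import Cfsg.Statements.S3912
import Cfsg.Agent.S3908
import Cfsg.Agent.S3909
import Cfsg.Agent.Lib.Helper19.BStarQuot2
-- import your own Cfsg.Agent.* helpers here

set_option autoImplicit false
open Cfsg

namespace Cfsg.Agent.S3912

/-- Let G be a finite solvable group in which any two abelian subgroups of the same order are conjugate. Then every quotient of G has the same property: any two abelian subgroups of the quotient of the same order are conjugate. -/
theorem result {G : Type*} [Group G] [Finite G] (hB : ∀ A B : Subgroup G, IsMulCommutative ↥A → IsMulCommutative ↥B → Nat.card ↥A = Nat.card ↥B → ∃ g : G, B = A.map (MulAut.conj g).toMonoidHom) (hsol : Group.IsSolvable G) (M : Subgroup G) [M.Normal] :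
    ∀ A B : Subgroup (G ⧸ M), IsMulCommutative ↥A → IsMulCommutative ↥B → Nat.card ↥A = Nat.card ↥B →
      ∃ g : G ⧸ M, B = A.map (MulAut.conj g).toMonoidHom := by
  intro A B hAc hBc hAB
  have hOrd := (Cfsg.Agent.S3909.result hB M).1
  have hSylOdd : ∀ (q : ℕ) [Fact q.Prime], q ≠ 2 → ∀ P : Sylow q G,
      IsCyclic ↥(P : Subgroup G) ∨ ∀ x ∈ (P : Subgroup G), x ^ q = 1 :=
    fun q _ hq2 P => (Cfsg.Agent.S3908.result hB).2 q hq2 P
  have hSyl2 : ∀ P : Sylow 2 G, IsCyclic ↥(P : Subgroup G) ∨
      (∀ x ∈ (P : Subgroup G), x ^ 2 = 1) ∨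
      ∃ k : ℕ, Nonempty (↥(P : Subgroup G) ≃* QuaternionGroup (2 ^ k)) := by
    intro P
    rcases (Cfsg.Agent.S3908.result hB).1 P with h | h | h
    · left; exact h
    · right; left; exact h.2
    · right; right; exact h
  have hA' : ∀ x ∈ A, ∀ y ∈ A, x * y = y * x := fun x hx y hy =>
    setLike_mul_comm hx hy
  have hB' : ∀ x ∈ B, ∀ y ∈ B, x * y = y * x := fun x hx y hy =>
    setLike_mul_comm hx hy
  have := hsol
  exact Cfsg.Agent.Helper19.BStarQuot.quotient_bstar hB M hOrd hSylOdd hSyl2 A B hA' hB' hAB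

end Cfsg.Agent.S3912
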