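import Mathlib
import Cfsg.Statements.S3917
import Cfsg.Agent.Lib.Helper8.Dual

set_option autoImplicit false
open Cfsg

namespace Cfsg.Agent.S3917

open Cfsg.Agent.Helper8

/-- a non-cyclic finite abelian `p`-group contains two "independent" elements of order `p` -/
lemma exists_two_of_order_p {G : Type*} [CommGroup G] [Finite G] {p : ℕ} [hp : Fact p.Prime]
    (hG : IsPGroup p G) (hnc : ¬ IsCyclic G) :
    ∃ a b : G, orderOf a = p ∧ b ^ p = 1 ∧ b ∉ Subgroup.zpowers a := by
  obtain ⟨x, hx⟩ := Monoid.exists_orderOf_eq_exponent (Monoid.ExponentExists.of_finite (G := G))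
  obtain ⟨e, he⟩ := (IsPGroup.iff_orderOf.mp hG) x
  have hall : ∀ g : G, g ^ (p ^ e) = 1 := by
    intro g
    rw [← he, hx]
    exact Monoid.pow_exponent_eq_one g
  have hxtop : Subgroup.zpowers x ≠ ⊤ := by
    intro h
    exact hnc (isCyclic_iff_exists_zpowers_eq_top.mpr ⟨x, h⟩)
  have he1 : 1 ≤ e := by
    by_contra h
    have h0 : e = 0 := by omega
    rw [h0, pow_zero, orderOf_eq_one_iff] at he
    apply hnc
    have : ∀ g : G, g = 1 := fun g => by
      have := hall g
      rwa [h0, pow_zero, pow_one] at this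
    haveI : Subsingleton G := ⟨fun a b => by rw [this a, this b]⟩
    exact isCyclic_of_subsingleton
  -- an element of order `p` in the quotient by `⟨x⟩`
  have hQnt : Nontrivial (G ⧸ Subgroup.zpowers x) := by
    rw [QuotientGroup.nontrivial_iff]
    exact hxtop
  have hQp : IsPGroup p (G ⧸ Subgroup.zpowers x) := hG.to_quotient _
  have hQdvd : p ∣ Nat.card (G ⧸ Subgroup.zpowers x) := by
    rcases hQp.card_eq_or_dvd with h | h
    · exfalso
      have := Finite.one_lt_card_iff_nontrivial.mpr hQnt
      omega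
    · exact h
  obtain ⟨q, hq⟩ := exists_prime_orderOf_dvd_card' p hQdvd
  obtain ⟨g, rfl⟩ := QuotientGroup.mk_surjective q
  have hgp : g ^ p ∈ Subgroup.zpowers x := by
    rw [← QuotientGroup.eq_one_iff, QuotientGroup.mk_pow, ← hq]
    exact pow_orderOf_eq_one _
  have hgx : g ∉ Subgroup.zpowers x := by
    intro h
    rw [← QuotientGroup.eq_one_iff] at h
    rw [h, orderOf_one] at hq
    exact hp.out.one_lt.ne hq
  obtain ⟨k, hk⟩ := (mem_powers_iff_mem_zpowers).mpr hgp
  have hk' : x ^ k = g ^ p := hk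
  have hdvd : p ∣ k := by
    have h1 : x ^ (k * p ^ (e - 1)) = 1 := by
      rw [pow_mul, hk', ← pow_mul, ← pow_succ', Nat.sub_add_cancel he1]
      exact hall g
    have h2 := orderOf_dvd_of_pow_eq_one h1
    rw [he] at h2
    have h3 : p ^ e = p * p ^ (e - 1) := by
      rw [← pow_succ', Nat.sub_add_cancel he1]
    rw [h3] at h2
    exact (Nat.mul_dvd_mul_iff_right (pow_pos hp.out.pos _)).mp h2
  obtain ⟨k', rfl⟩ := hdvd
  refine ⟨x ^ (p ^ (e - 1)), g * (x ^ k')⁻¹, ?_, ?_, ?_⟩
  · rw [orderOf_pow' x (pow_ne_zero _ hp.out.ne_zero), he, Nat.gcd_eq_right (pow_dvd_pow p (Nat.sub_le e 1))]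
    have h3 : p ^ e = p * p ^ (e - 1) := by
      rw [← pow_succ', Nat.sub_add_cancel he1]
    rw [h3, Nat.mul_div_cancel _ (pow_pos hp.out.pos _)]
  · rw [mul_pow, inv_pow, ← pow_mul, mul_comm k' p, hk', mul_inv_cancel]
  · intro h
    have h1 : g * (x ^ k')⁻¹ ∈ Subgroup.zpowers x :=
      (Subgroup.zpowers_le.mpr (Subgroup.pow_mem _ (Subgroup.mem_zpowers x) _)) h
    have h2 : x ^ k' ∈ Subgroup.zpowers x := Subgroup.pow_mem _ (Subgroup.mem_zpowers x) _
    have := Subgroup.mul_mem _ h1 h2
    rw [inv_mul_cancel_right] at this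
    exact hgx this

/-- Say that a group has self-centralizing non-cyclic subgroups when every non-cyclic subgroup H satisfies C_G(H) ≤ H. A finite abelian group with self-centralizing non-cyclic subgroups is cyclic or elementary abelian of order p² for a prime p. -/
theorem result {G : Type*} [CommGroup G] [Finite G] (hX : (∀ H : Subgroup G, ¬ IsCyclic ↥H → Subgroup.centralizer (H : Set G) ≤ H)) :
    IsCyclic G ∨ ∃ p : ℕ, p.Prime ∧ Nat.card G = p ^ 2 ∧ Monoid.exponent G = p := by
  have hX' : ∀ H : Subgroup G, ¬ IsCyclic ↥H → H = ⊤ := by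
    intro H hH
    rw [eq_top_iff]
    refine le_trans ?_ (hX H hH)
    intro g _
    rw [Subgroup.mem_centralizer_iff]
    intro h _
    exact mul_comm h g
  by_cases hc : IsCyclic G
  · exact Or.inl hc
  right
  -- some Sylow subgroup is not cyclic
  have hsyl : ∃ (p : ℕ) (_ : p.Prime) (P : Sylow p G), ¬ IsCyclic ↥(P : Subgroup G) := by
    by_contra hcon
    push Not at hcon
    apply hc
    haveI : IsZGroup G := ⟨fun p hp P => hcon p hp P⟩
    infer_instance
  obtain ⟨p, hp, P, hP⟩ := hsyl
  haveI : Fact p.Prime := ⟨hp⟩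
  have hPtop := hX' _ hP
  have hG : IsPGroup p G := by
    have := P.2
    rw [hPtop] at this
    exact IsPGroup.of_equiv this Subgroup.topEquiv
  obtain ⟨a, b, ha, hb, hab⟩ := exists_two_of_order_p hG hc
  have ha1 : a ^ p = 1 := by rw [← ha]; exact pow_orderOf_eq_one a
  -- everything in `⟨a⟩ ⊔ ⟨b⟩` is killed by `p`
  have hker : Subgroup.zpowers a ⊔ Subgroup.zpowers b ≤ (powMonoidHom p : G →* G).ker := by
    rw [sup_le_iff]
    constructor
    · rw [Subgroup.zpowers_le, MonoidHom.mem_ker]
      exact ha1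
    · rw [Subgroup.zpowers_le, MonoidHom.mem_ker]
      exact hb
  have hnc : ¬ IsCyclic ↥(Subgroup.zpowers a ⊔ Subgroup.zpowers b) := by
    intro hcyc
    have h1 : Monoid.exponent ↥(Subgroup.zpowers a ⊔ Subgroup.zpowers b) ∣ p := by
      apply Monoid.exponent_dvd_of_forall_pow_eq_one
      intro h
      apply Subtype.ext
      have := hker h.2
      rw [MonoidHom.mem_ker] at this
      simpa using this
    rw [IsCyclic.exponent_eq_card] at h1
    have h2 : Nat.card ↥(Subgroup.zpowers a ⊔ Subgroup.zpowers b) ≤ p := Nat.le_of_dvd hp.pos h1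
    have h3 : Subgroup.zpowers a < Subgroup.zpowers a ⊔ Subgroup.zpowers b := by
      refine lt_of_le_of_ne le_sup_left ?_
      intro h
      apply hab
      rw [h]
      exact Subgroup.mem_sup_right (Subgroup.mem_zpowers b)
    have h4 : Nat.card ↥(Subgroup.zpowers a)
        < Nat.card ↥(Subgroup.zpowers a ⊔ Subgroup.zpowers b) := by
      apply lt_of_le_of_ne (Subgroup.card_le_of_le h3.le)
      intro heq
      exact h3.ne (Subgroup.eq_of_le_of_card_ge h3.le heq.ge)
    rw [Nat.card_zpowers, ha] at h4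
    omega
  have htop := hX' _ hnc
  have hb1 : b ≠ 1 := by
    intro h
    apply hab
    rw [h]
    exact Subgroup.one_mem _
  have hbo : orderOf b = p := by
    have := orderOf_dvd_of_pow_eq_one hb
    rcases (Nat.dvd_prime hp).mp this with h | h
    · exact absurd (orderOf_eq_one_iff.mp h) hb1
    · exact h
  have hinf : Subgroup.zpowers a ⊓ Subgroup.zpowers b = ⊥ := by
    by_contra hne
    -- the intersection is a nontrivial subgroup of `⟨b⟩` of prime order, hence all of it
    have hle : Subgroup.zpowers a ⊓ Subgroup.zpowers b ≤ Subgroup.zpowers b := inf_le_right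
    have hcard := Subgroup.card_dvd_of_le hle
    rw [Nat.card_zpowers, hbo] at hcard
    rcases (Nat.dvd_prime hp).mp hcard with h | h
    · exact hne (Subgroup.card_eq_one.mp h)
    · have : Subgroup.zpowers a ⊓ Subgroup.zpowers b = Subgroup.zpowers b := by
        apply Subgroup.eq_of_le_of_card_ge hle
        rw [h, Nat.card_zpowers, hbo]
      apply hab
      have hb' : b ∈ Subgroup.zpowers a ⊓ Subgroup.zpowers b := by
        rw [this]; exact Subgroup.mem_zpowers b
      exact (Subgroup.mem_inf.mp hb').1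
  refine ⟨p, hp, ?_, ?_⟩
  · have := (isComplement'_of_comm (fun x y => mul_comm x y) _ _ hinf htop).card_mul_card
    rw [Nat.card_zpowers, Nat.card_zpowers, ha, hbo] at this
    rw [← this, sq]
  · have h1 : Monoid.exponent G ∣ p := by
      apply Monoid.exponent_dvd_of_forall_pow_eq_one
      intro g
      have : g ∈ (powMonoidHom p : G →* G).ker := hker (by rw [htop]; trivial)
      rwa [MonoidHom.mem_ker] at this
    rcases (Nat.dvd_prime hp).mp h1 with h | h
    · exfalso
      have := Monoid.pow_exponent_eq_one a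
      rw [h, pow_one] at this
      rw [this, orderOf_one] at ha
      exact hp.one_lt.ne ha
    · exact h

end Cfsg.Agent.S3917
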