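import Mathlib
import Cfsg.Agent.Lib.Helper22.OddCyclicMax
import Cfsg.Agent.Lib.Helper22.MaxClass
import Cfsg.Statements.S3918
-- import your own Cfsg.Agent.* helpers here

set_option autoImplicit false
open Cfsg

namespace Cfsg.Agent.S3918

open Subgroup Cfsg.Agent.Helper22

universe u

theorem backward {G : Type u} [Group G] [Finite G] {p : ℕ} [hp : Fact p.Prime]
    (hna : ¬ IsMulCommutative G) (hcard : Nat.card G = p ^ 3) (H : Subgroup G)
    (hH : ¬ IsCyclic H) : centralizer (H : Set G) ≤ H := by
  have hpp : p.Prime := hp.out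
  have hG : IsPGroup p G := IsPGroup.of_card hcard
  obtain ⟨j, hj⟩ := (hG.to_subgroup H).exists_card_eq
  have hj3 : j ≤ 3 := by
    have : p ^ j ∣ p ^ 3 := by rw [← hj, ← hcard]; exact card_subgroup_dvd_card _
    exact (Nat.pow_dvd_pow_iff_le_right hpp.one_lt).mp this
  have hj2 : 2 ≤ j := by
    by_contra h
    apply hH
    rcases (by omega : j = 0 ∨ j = 1) with h0 | h0
    · rw [h0, pow_zero] at hj
      haveI : Subsingleton H := (Nat.card_eq_one_iff_unique.mp hj).1
      exact isCyclic_of_subsingleton
    · rw [h0, pow_one] at hj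
      exact isCyclic_of_prime_card hj
  rcases (by omega : j = 2 ∨ j = 3) with h2 | h3
  · rw [h2] at hj
    have hHc : IsMulCommutative H := IsPGroup.isMulCommutative_of_card_eq_prime_sq hj
    have hle : H ≤ centralizer (H : Set G) := by
      intro x hx
      rw [mem_centralizer_iff]
      intro y hy
      have := hHc.is_comm.comm ⟨y, hy⟩ ⟨x, hx⟩
      exact congrArg Subtype.val this
    obtain ⟨i, hi⟩ := (hG.to_subgroup (centralizer (H : Set G))).exists_card_eq
    have hi3 : i ≤ 3 := by
      have : p ^ i ∣ p ^ 3 := by rw [← hi, ← hcard]; exact card_subgroup_dvd_card _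
      exact (Nat.pow_dvd_pow_iff_le_right hpp.one_lt).mp this
    have hi2 : i ≠ 3 := by
      intro h3
      have htop : centralizer (H : Set G) = ⊤ := by
        apply eq_top_of_card_eq
        rw [hi, h3, hcard]
      have hHZ : H ≤ center G := by
        intro x hx
        rw [mem_center_iff]
        intro g
        have hg : g ∈ centralizer (H : Set G) := by rw [htop]; trivial
        exact (mem_centralizer_iff.mp hg x hx).symm
      have h4 := card_le_of_le hHZ
      rw [hj, card_center_of_card_cube p hcard hna] at h4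
      have : p < p ^ 2 := by nlinarith [hpp.one_lt]
      omega
    have hge : Nat.card (centralizer (H : Set G)) ≤ Nat.card H := by
      rw [hi, hj]
      exact Nat.pow_le_pow_right hpp.pos (by omega)
    exact (eq_of_le_of_card_ge hle hge).symm.le
  · have : H = ⊤ := by
      apply eq_top_of_card_eq
      rw [hj, h3, hcard]
    rw [this]
    exact le_top

theorem forward {G : Type u} [Group G] [Finite G] {p : ℕ} [hp : Fact p.Prime] (hodd : p ≠ 2)
    (hG : IsPGroup p G) (hna : ¬ IsMulCommutative G)
    (hyp : ∀ H : Subgroup G, ¬ IsCyclic ↥H → centralizer (H : Set G) ≤ H) :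
    Nat.card G = p ^ 3 := by
  classical
  have hpp : p.Prime := hp.out
  obtain ⟨n, hn⟩ := hG.exists_card_eq
  have hn3 : 3 ≤ n := by
    by_contra h
    push Not at h
    apply hna
    rcases (by omega : n = 0 ∨ n = 1 ∨ n = 2) with h0 | h0 | h0
    · rw [h0, pow_zero] at hn
      haveI : Subsingleton G := (Nat.card_eq_one_iff_unique.mp hn).1
      exact ⟨⟨fun a b => Subsingleton.elim _ _⟩⟩
    · rw [h0, pow_one] at hn
      haveI : IsCyclic G := isCyclic_of_prime_card hn
      exact IsCyclic.isMulCommutative
    · rw [h0] at hn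
      exact IsPGroup.isMulCommutative_of_card_eq_prime_sq hn
  have htopnc : ¬ IsCyclic (⊤ : Subgroup G) := by
    intro h
    apply hna
    haveI := h
    have hc : IsMulCommutative (⊤ : Subgroup G) := IsCyclic.isMulCommutative
    refine ⟨⟨fun a b => ?_⟩⟩
    have := hc.is_comm.comm ⟨a, mem_top a⟩ ⟨b, mem_top b⟩
    exact congrArg Subtype.val this
  obtain ⟨A, -, hAn, ⟨hAc, hAexp⟩, hAcard⟩ :=
    exists_normal_elementary_sq hodd hG (⊤ : Subgroup G) htopnc
  haveI := hAn
  have hAnc : ¬ IsCyclic A := by
    intro h
    haveI := h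
    obtain ⟨g, hg⟩ := h.exists_generator
    have h1 : orderOf g = p ^ 2 := by
      rw [orderOf_eq_card_of_forall_mem_zpowers hg, hAcard]
    have h2 : (g : G) ^ p = 1 := hAexp g g.2
    have h3 : g ^ p = 1 := by
      ext
      simpa using h2
    have h4 := orderOf_dvd_of_pow_eq_one h3
    rw [h1] at h4
    have h5 := Nat.le_of_dvd hpp.pos h4
    have : p < p ^ 2 := by nlinarith [hpp.one_lt]
    omega
  have hCA : centralizer (A : Set G) ≤ A := hyp A hAnc
  have hZA : center G ≤ A := (center_le_centralizer _).trans hCA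
  -- the centre has order `p`
  have hAZ : ¬ A ≤ center G := by
    intro h
    apply hna
    have h1 : centralizer (A : Set G) = ⊤ := by
      rw [centralizer_eq_top_iff_subset]; exact h
    have h2 : A = ⊤ := by rw [h1] at hCA; exact top_le_iff.mp hCA
    refine ⟨⟨fun a b => ?_⟩⟩
    have ha : a ∈ A := by rw [h2]; trivial
    have hb : b ∈ A := by rw [h2]; trivial
    have := hAc.is_comm.comm ⟨a, ha⟩ ⟨b, hb⟩
    exact congrArg Subtype.val this
  obtain ⟨a, haA, haZ⟩ := SetLike.not_le_iff_exists.mp hAZ
  obtain ⟨k, hk0, hk⟩ := IsPGroup.card_center_eq_prime_pow hn (by omega)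
  have hZcard : Nat.card (center G) = p := by
    have h1 : Nat.card (center G) < Nat.card A := by
      by_contra hcon
      push Not at hcon
      have := eq_of_le_of_card_ge hZA hcon
      rw [← this] at haA
      exact haZ haA
    rw [hk, hAcard] at h1
    have h3 : k < 2 := (Nat.pow_lt_pow_iff_right hpp.one_lt).mp h1
    have h4 : k = 1 := by omega
    rw [hk, h4, pow_one]
  -- `C_G(a) = A`
  have hsupA : zpowers a ⊔ center G ≤ A := sup_le (zpowers_le.mpr haA) hZA
  have hsup : zpowers a ⊔ center G = A := by
    apply eq_of_le_of_card_ge hsupA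
    have hlt : Nat.card (center G) < Nat.card ↥(zpowers a ⊔ center G) := by
      by_contra hcon
      push Not at hcon
      have := eq_of_le_of_card_ge (le_sup_right : center G ≤ zpowers a ⊔ center G) hcon
      apply haZ
      rw [this]
      exact mem_sup_left (mem_zpowers a)
    obtain ⟨j, hj⟩ := (hG.to_subgroup (zpowers a ⊔ center G)).exists_card_eq
    rw [hj, hZcard] at hlt
    have h1 : 1 < j := by
      by_contra h
      have hj1 : j ≤ 1 := by omega
      have : p ^ j ≤ p ^ 1 := Nat.pow_le_pow_right hpp.pos hj1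
      rw [pow_one] at this
      omega
    have h2 : p ^ 2 ≤ p ^ j := Nat.pow_le_pow_right hpp.pos (by omega)
    rw [hj, hAcard]; exact h2
  have hCa : Nat.card (centralizer {a}) ≤ p ^ 2 := by
    rw [← hAcard]
    apply card_le_of_le
    intro x hx
    apply hCA
    rw [mem_centralizer_iff]
    intro y hy
    have h1 : zpowers a ⊔ center G ≤ centralizer {x} := by
      apply sup_le
      · rw [zpowers_le, mem_centralizer_singleton_iff]
        exact (mem_centralizer_singleton_iff.mp hx).symm
      · exact center_le_centralizer _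
    rw [← hsup] at hy
    exact mem_centralizer_singleton_iff.mp (h1 hy)
  -- the image of `A` modulo the centre is central
  have hcstar : cstar a = ⊤ := by
    rw [eq_top_iff]
    intro g _
    rw [mem_cstar_iff]
    -- `A / Z` is a normal subgroup of order `p` in `G / Z`
    set Ab : Subgroup (G ⧸ center G) := A.map (QuotientGroup.mk' (center G)) with hAb
    haveI hAbn : Ab.Normal := hAn.map _ (QuotientGroup.mk'_surjective _)
    have hQ : IsPGroup p (G ⧸ center G) := hG.to_quotient _
    have hcomap : Ab.comap (QuotientGroup.mk' (center G)) = A := by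
      rw [hAb, comap_map_eq, QuotientGroup.ker_mk']
      exact sup_eq_left.mpr hZA
    have hAbcard : Nat.card Ab = p := by
      have h1 := card_comap_mk' (center G) Ab
      rw [hcomap, hAcard, hZcard, pow_two] at h1
      exact (Nat.eq_of_mul_eq_mul_right hpp.pos h1).symm
    have hAbne : Ab ≠ ⊥ := by
      intro h
      rw [h, card_bot] at hAbcard
      exact hpp.one_lt.ne hAbcard
    have h1 := Cfsg.Agent.Helper19.normal_inf_center_ne_bot hQ Ab hAbne
    have hAbZ : Ab ≤ center (G ⧸ center G) := by
      have h2 : Ab ⊓ center (G ⧸ center G) = Ab := by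
        apply eq_of_le_of_card_ge inf_le_left
        rw [hAbcard]
        have h3 : Nat.card ↥(Ab ⊓ center (G ⧸ center G)) ≠ 1 := by
          intro h
          exact h1 ((Ab ⊓ center (G ⧸ center G)).card_eq_one.mp h)
        have h4 : Nat.card ↥(Ab ⊓ center (G ⧸ center G)) ∣ p := by
          rw [← hAbcard]
          exact card_dvd_of_le inf_le_left
        rcases (Nat.dvd_prime hpp).mp h4 with h5 | h5
        · exact absurd h5 h3
        · omega
      rw [← h2]; exact inf_le_right
    have h3 : (QuotientGroup.mk' (center G)) a ∈ center (G ⧸ center G) :=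
      hAbZ (mem_map_of_mem _ haA)
    have h4 := mem_center_iff.mp h3 ((QuotientGroup.mk' (center G)) g)
    rw [← map_mul, ← map_mul] at h4
    have h5 : (g * a)⁻¹ * (a * g) ∈ center G := QuotientGroup.eq.mp h4
    have h6 : g * a * g⁻¹ * a⁻¹ = (g * a) * ((g * a)⁻¹ * (a * g))⁻¹ * (g * a)⁻¹ := by group
    rw [h6]
    exact (inferInstance : (center G).Normal).conj_mem _ (inv_mem h5) _
  have h1 := card_inf_cstar_le (⊤ : Subgroup G) a
  rw [top_inf_eq, top_inf_eq, hcstar, card_top, hn, hZcard] at h1
  have h2 : p ^ n ≤ p ^ 3 := by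
    calc p ^ n ≤ p * Nat.card (centralizer {a}) := h1
      _ ≤ p * p ^ 2 := Nat.mul_le_mul_left _ hCa
      _ = p ^ 3 := by ring
  have h3 : n ≤ 3 := (Nat.pow_le_pow_iff_right hpp.one_lt).mp h2
  have : n = 3 := by omega
  rw [hn, this]

/-- Say that a group has self-centralizing non-cyclic subgroups when every non-cyclic subgroup H satisfies C_G(H) ≤ H. For an odd prime p, a finite non-abelian p-group has self-centralizing non-cyclic subgroups if and only if it has order p³. -/
theorem result {G : Type*} [Group G] [Finite G] {p : ℕ} [Fact p.Prime] (hp : p ≠ 2) (hG : IsPGroup p G) (hna : ¬ IsMulCommutative G) :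
    (∀ H : Subgroup G, ¬ IsCyclic ↥H → Subgroup.centralizer (H : Set G) ≤ H) ↔ Nat.card G = p ^ 3 := by
  constructor
  · intro hyp
    exact forward hp hG hna hyp
  · intro hcard H hH
    exact backward hna hcard H hH

end Cfsg.Agent.S3918
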