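import Mathlib
import Cfsg.Statements.S3920

set_option autoImplicit false
open Cfsg

namespace Cfsg.Agent.S3920

open DihedralGroup

/-- for odd `n`, `x + x = 0` in `ZMod n` forces `x = 0` -/
lemma eq_zero_of_add_self_odd {n : ℕ} (hodd : Odd n) (x : ZMod n) (h : x + x = 0) : x = 0 := by
  have h2 : IsUnit ((2 : ℕ) : ZMod n) := by
    rw [ZMod.isUnit_iff_coprime]
    exact Nat.coprime_two_left.mpr hodd
  have : ((2 : ℕ) : ZMod n) * x = 0 := by
    rw [Nat.cast_ofNat, two_mul]; exact h
  exact (h2.mul_right_eq_zero).mp this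

/-- for `n = 2 * h`, the only nonzero solution of `x + x = 0` in `ZMod n` is `h` -/
lemma eq_half_of_add_self {n h : ℕ} [NeZero n] (hn : n = 2 * h) (x : ZMod n) (hx : x + x = 0)
    (hx0 : x ≠ 0) : x = (h : ZMod n) := by
  have h1 : ((x.val + x.val : ℕ) : ZMod n) = 0 := by
    rw [Nat.cast_add, ZMod.natCast_zmod_val]; exact hx
  rw [ZMod.natCast_eq_zero_iff] at h1
  have h2 : x.val < n := ZMod.val_lt x
  have h3 : 0 < x.val := by
    rw [Nat.pos_iff_ne_zero, Ne, ZMod.val_eq_zero]; exact hx0
  obtain ⟨c, hc⟩ := h1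
  have hc1 : c = 1 := by
    have : c < 2 := by
      by_contra hge
      have : 2 ≤ c := by omega
      have : n * 2 ≤ n * c := Nat.mul_le_mul_left n this
      omega
    have : c ≠ 0 := by
      intro h0
      rw [h0, mul_zero] at hc
      omega
    omega
  rw [hc1, mul_one] at hc
  have : x.val = h := by omega
  rw [← this, ZMod.natCast_zmod_val]

lemma r_mem_zpowers {n : ℕ} [NeZero n] (j : ZMod n) :
    (r j : DihedralGroup n) ∈ Subgroup.zpowers (r 1 : DihedralGroup n) := by
  refine ⟨(j.val : ℤ), ?_⟩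
  simp

/-- a subgroup without reflections is cyclic -/
lemma cyclic_of_no_sr {n : ℕ} [NeZero n] (H : Subgroup (DihedralGroup n))
    (h : ∀ i, (sr i : DihedralGroup n) ∉ H) : IsCyclic H := by
  have hle : H ≤ Subgroup.zpowers (r 1 : DihedralGroup n) := by
    intro g hg
    cases g with
    | r j => exact r_mem_zpowers j
    | sr j => exact absurd hg (h j)
  exact Subgroup.isCyclic_of_le hle

/-- a subgroup without nontrivial rotations is cyclic -/
lemma cyclic_of_no_r {n : ℕ} (H : Subgroup (DihedralGroup n))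
    (h : ∀ d, d ≠ 0 → (r d : DihedralGroup n) ∉ H) : IsCyclic H := by
  by_cases hs : ∃ i, (sr i : DihedralGroup n) ∈ H
  · obtain ⟨i, hi⟩ := hs
    have hle : H ≤ Subgroup.zpowers (sr i : DihedralGroup n) := by
      intro g hg
      cases g with
      | r j =>
        by_cases hj : j = 0
        · rw [hj]; exact Subgroup.one_mem _
        · exact absurd hg (h j hj)
      | sr j =>
        have : (sr i : DihedralGroup n) * sr j ∈ H := H.mul_mem hi hg
        rw [sr_mul_sr] at this
        by_cases hji : j - i = 0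
        · rw [sub_eq_zero] at hji
          rw [hji]; exact Subgroup.mem_zpowers _
        · exact absurd this (h _ hji)
    exact Subgroup.isCyclic_of_le hle
  · push Not at hs
    have hle : H ≤ ⊥ := by
      intro g hg
      cases g with
      | r j =>
        by_cases hj : j = 0
        · rw [hj]; exact Subgroup.one_mem _
        · exact absurd hg (h j hj)
      | sr j => exact absurd hg (hs j)
    exact Subgroup.isCyclic_of_le hle

/-- in `D_{2^k}`, a subgroup containing a nontrivial rotation contains the central involution -/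
lemma half_mem {k : ℕ} (H : Subgroup (DihedralGroup (2 ^ (k + 1)))) (d : ZMod (2 ^ (k + 1)))
    (hd : d ≠ 0) (hdH : (r d : DihedralGroup (2 ^ (k + 1))) ∈ H) :
    (r ((2 ^ k : ℕ) : ZMod (2 ^ (k + 1))) : DihedralGroup (2 ^ (k + 1))) ∈ H := by
  haveI : NeZero (2 ^ (k + 1)) := ⟨pow_ne_zero _ two_ne_zero⟩
  have hcard : Nat.card (DihedralGroup (2 ^ (k + 1))) = 2 ^ (k + 2) := by
    rw [DihedralGroup.nat_card]; ring
  have hdvd : orderOf (r d : DihedralGroup (2 ^ (k + 1))) ∣ 2 ^ (k + 2) := by
    rw [← hcard]; exact orderOf_dvd_natCard _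
  obtain ⟨b, hb, hbo⟩ := (Nat.dvd_prime_pow Nat.prime_two).mp hdvd
  have hb1 : 1 ≤ b := by
    by_contra h0
    have : b = 0 := by omega
    rw [this, pow_zero, orderOf_eq_one_iff] at hbo
    rw [← r_zero, r.injEq] at hbo
    exact hd hbo
  have hmem : (r d : DihedralGroup (2 ^ (k + 1))) ^ (2 ^ (b - 1)) ∈ H := H.pow_mem hdH _
  rw [r_pow] at hmem
  have hne : d * ((2 ^ (b - 1) : ℕ) : ZMod (2 ^ (k + 1))) ≠ 0 := by
    intro h0
    have : (r d : DihedralGroup (2 ^ (k + 1))) ^ (2 ^ (b - 1)) = 1 := by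
      rw [r_pow, h0, r_zero]
    have := orderOf_dvd_of_pow_eq_one this
    rw [hbo] at this
    have h2 := Nat.le_of_dvd (pow_pos two_pos _) this
    have : 2 ^ (b - 1) < 2 ^ b := Nat.pow_lt_pow_right (by norm_num) (by omega)
    omega
  have hsq : d * ((2 ^ (b - 1) : ℕ) : ZMod (2 ^ (k + 1)))
      + d * ((2 ^ (b - 1) : ℕ) : ZMod (2 ^ (k + 1))) = 0 := by
    have : (r d : DihedralGroup (2 ^ (k + 1))) ^ (2 ^ b) = 1 := by
      rw [← hbo]; exact pow_orderOf_eq_one _
    rw [r_pow, ← r_zero, r.injEq] at this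
    rw [← this, ← mul_add, ← Nat.cast_add, ← two_mul, ← pow_succ', Nat.sub_add_cancel hb1]
  have := eq_half_of_add_self (n := 2 ^ (k + 1)) (h := 2 ^ k) (by rw [pow_succ]; ring) _ hsq hne
  rwa [this] at hmem

theorem backward (n : ℕ) (hn : 3 ≤ n) (hcase : Odd n ∨ ∃ k : ℕ, n = 2 ^ k)
    (H : Subgroup (DihedralGroup n)) (hH : ¬ IsCyclic ↥H) :
    Subgroup.centralizer (H : Set (DihedralGroup n)) ≤ H := by
  haveI : NeZero n := ⟨by omega⟩
  have hs : ∃ i, (sr i : DihedralGroup n) ∈ H := by
    by_contra hcon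
    push Not at hcon
    exact hH (cyclic_of_no_sr H hcon)
  have hr : ∃ d, d ≠ 0 ∧ (r d : DihedralGroup n) ∈ H := by
    by_contra hcon
    push Not at hcon
    exact hH (cyclic_of_no_r H hcon)
  obtain ⟨i, hi⟩ := hs
  obtain ⟨d, hd0, hd⟩ := hr
  intro g hg
  rw [Subgroup.mem_centralizer_iff] at hg
  have c1 := hg _ hi
  have c2 := hg _ hd
  rcases hcase with hodd | ⟨k, rfl⟩
  · -- `n` odd
    cases g with
    | r j =>
      rw [sr_mul_r, r_mul_sr, sr.injEq] at c1
      have : j + j = 0 := by linear_combination c1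
      rw [eq_zero_of_add_self_odd hodd j this]
      exact H.one_mem
    | sr j =>
      exfalso
      rw [r_mul_sr, sr_mul_r, sr.injEq] at c2
      have : d + d = 0 := by linear_combination (-1 : ZMod n) * c2
      exact hd0 (eq_zero_of_add_self_odd hodd d this)
  · -- `n = 2 ^ k`
    obtain ⟨k, rfl⟩ : ∃ k', k = k' + 1 := by
      rcases k with _ | k'
      · norm_num at hn
      · exact ⟨k', rfl⟩
    have hhalf := half_mem H d hd0 hd
    have hn2 : 2 ^ (k + 1) = 2 * 2 ^ k := by rw [pow_succ]; ring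
    cases g with
    | r j =>
      rw [sr_mul_r, r_mul_sr, sr.injEq] at c1
      have hjj : j + j = 0 := by linear_combination c1
      by_cases hj : j = 0
      · rw [hj]; exact H.one_mem
      · rw [eq_half_of_add_self hn2 j hjj hj]
        exact hhalf
    | sr j =>
      have c3 := c1
      rw [sr_mul_sr, sr_mul_sr, r.injEq] at c3
      have hjj : (j - i) + (j - i) = 0 := by linear_combination c3
      by_cases hj : j - i = 0
      · rw [sub_eq_zero] at hj
        rw [hj]; exact hi
      · have := eq_half_of_add_self hn2 _ hjj hj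
        have hj' : j = i + ((2 ^ k : ℕ) : ZMod (2 ^ (k + 1))) := by
          rw [← this]; ring
        rw [hj', ← sr_mul_r]
        exact H.mul_mem hi hhalf


/-- the index of an element of the dihedral group -/
def idx {n : ℕ} : DihedralGroup n → ZMod n
  | r i => i
  | sr i => i

/-- the subgroup of `D_n` of the elements whose index vanishes modulo `q` (for `q ∣ n`) -/
def levelSubgroup {n q : ℕ} (hq : q ∣ n) : Subgroup (DihedralGroup n) where
  carrier := {g | ZMod.castHom hq (ZMod q) (idx g) = 0}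
  one_mem' := by
    change ZMod.castHom hq (ZMod q) (idx (r 0 : DihedralGroup n)) = 0
    simp [idx]
  mul_mem' := by
    intro a b ha hb
    simp only [Set.mem_setOf_eq] at ha hb ⊢
    cases a with
    | r i =>
      cases b with
      | r j => simp only [r_mul_r, idx, map_add] at ha hb ⊢; rw [ha, hb, add_zero]
      | sr j => simp only [r_mul_sr, idx, map_sub] at ha hb ⊢; rw [ha, hb, sub_zero]
    | sr i =>
      cases b with
      | r j => simp only [sr_mul_r, idx, map_add] at ha hb ⊢; rw [ha, hb, add_zero]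
      | sr j => simp only [sr_mul_sr, idx, map_sub] at ha hb ⊢; rw [ha, hb, sub_zero]
  inv_mem' := by
    intro a ha
    simp only [Set.mem_setOf_eq] at ha ⊢
    cases a with
    | r i => simp only [inv_r, idx, map_neg] at ha ⊢; rw [ha, neg_zero]
    | sr i => simpa only [inv_sr] using ha

lemma mem_levelSubgroup {n q : ℕ} (hq : q ∣ n) (g : DihedralGroup n) :
    g ∈ levelSubgroup hq ↔ ZMod.castHom hq (ZMod q) (idx g) = 0 := Iff.rfl

theorem forward (n : ℕ) (hn : 3 ≤ n)
    (hall : ∀ H : Subgroup (DihedralGroup n), ¬ IsCyclic ↥H →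
      Subgroup.centralizer (H : Set (DihedralGroup n)) ≤ H) :
    Odd n ∨ ∃ k : ℕ, n = 2 ^ k := by
  by_contra hcon
  push Not at hcon
  obtain ⟨hodd, hpow⟩ := hcon
  haveI : NeZero n := ⟨by omega⟩
  obtain ⟨a, m, hm, hnam⟩ := Nat.exists_eq_two_pow_mul_odd (n := n) (by omega)
  have ha1 : 1 ≤ a := by
    by_contra h0
    have : a = 0 := by omega
    rw [this, pow_zero, one_mul] at hnam
    rw [hnam] at hodd
    exact hodd hm
  have hm1 : m ≠ 1 := by
    intro h1
    rw [h1, mul_one] at hnam
    exact hpow a hnam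
  have hm3 : 3 ≤ m := by
    obtain ⟨t, ht⟩ := hm
    omega
  have hq : 2 ^ a ∣ n := ⟨m, hnam⟩
  -- the central involution
  have hhalf : n / 2 + n / 2 = n := by
    have : 2 ∣ n := by
      rw [hnam]
      exact dvd_mul_of_dvd_left (dvd_pow_self 2 (by omega)) m
    omega
  have hz : (r ((n / 2 : ℕ) : ZMod n) : DihedralGroup n) ∈
      Subgroup.centralizer ((levelSubgroup hq : Subgroup (DihedralGroup n)) : Set (DihedralGroup n)) := by
    rw [Subgroup.mem_centralizer_iff]
    intro h _
    have hcc : ((n / 2 : ℕ) : ZMod n) + ((n / 2 : ℕ) : ZMod n) = 0 := by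
      rw [← Nat.cast_add, hhalf, ZMod.natCast_self]
    cases h with
    | r j => rw [r_mul_r, r_mul_r, add_comm]
    | sr j =>
      rw [sr_mul_r, r_mul_sr, sr.injEq]
      linear_combination hcc
  have hznot : (r ((n / 2 : ℕ) : ZMod n) : DihedralGroup n) ∉ levelSubgroup hq := by
    rw [mem_levelSubgroup]
    simp only [idx, map_natCast]
    rw [ZMod.natCast_eq_zero_iff]
    intro hdvd
    have h2 : n / 2 = 2 ^ (a - 1) * m := by
      have : n = 2 * (2 ^ (a - 1) * m) := by
        rw [hnam, ← mul_assoc, ← pow_succ', Nat.sub_add_cancel ha1]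
      omega
    rw [h2] at hdvd
    have h3 : 2 ^ a = 2 ^ (a - 1) * 2 := by
      rw [← pow_succ, Nat.sub_add_cancel ha1]
    rw [h3] at hdvd
    have h4 : 2 ∣ m := (Nat.mul_dvd_mul_iff_left (pow_pos two_pos _)).mp hdvd
    obtain ⟨t, ht⟩ := hm
    omega
  have hnc : ¬ IsCyclic ↥(levelSubgroup hq : Subgroup (DihedralGroup n)) := by
    intro hcyc
    have h1 : (r ((2 ^ a : ℕ) : ZMod n) : DihedralGroup n) ∈ levelSubgroup hq := by
      rw [mem_levelSubgroup]
      simp only [idx, map_natCast]
      exact ZMod.natCast_self _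
    have h2 : (sr 0 : DihedralGroup n) ∈ levelSubgroup hq := by
      rw [mem_levelSubgroup]
      simp [idx]
    have hcomm := (IsCyclic.commGroup (α := ↥(levelSubgroup hq : Subgroup (DihedralGroup n)))).mul_comm
      ⟨_, h1⟩ ⟨_, h2⟩
    have hcomm' := congrArg Subtype.val hcomm
    simp only [Subgroup.coe_mul, r_mul_sr, sr_mul_r, sr.injEq] at hcomm'
    have h3 : (((2 ^ a + 2 ^ a : ℕ)) : ZMod n) = 0 := by
      rw [Nat.cast_add]
      linear_combination (-1 : ZMod n) * hcomm'
    rw [ZMod.natCast_eq_zero_iff, hnam] at h3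
    have h4 : 2 ^ a + 2 ^ a = 2 ^ a * 2 := by ring
    rw [h4] at h3
    have h5 : m ∣ 2 := (Nat.mul_dvd_mul_iff_left (pow_pos two_pos _)).mp h3
    have := Nat.le_of_dvd two_pos h5
    omega
  exact hznot (hall _ hnc hz)

/-- Say that a group has self-centralizing non-cyclic subgroups when every non-cyclic subgroup H satisfies C_G(H) ≤ H. For n ≥ 3, the dihedral group of order 2n has self-centralizing non-cyclic subgroups if and only if n is odd or a power of 2. -/
theorem result (n : ℕ) (hn : 3 ≤ n) : (∀ H : Subgroup (DihedralGroup n), ¬ IsCyclic ↥H → Subgroup.centralizer (H : Set (DihedralGroup n)) ≤ H) ↔ (Odd n ∨ ∃ k : ℕ, n = 2 ^ k) :=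
  ⟨forward n hn, fun h H hH => backward n hn h H hH⟩

end Cfsg.Agent.S3920
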