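import Mathlib
import Cfsg.Statements.S3927
import Cfsg.Agent.Lib.Helper19.FZEngel

set_option autoImplicit false
open Cfsg

namespace Cfsg.Agent.S3927

open SemidirectProduct
open scoped Pointwise
open Cfsg.Agent.Helper19.FZ

variable {G : Type*} [Group G]

/-- the ambient group `G ⋊ ⟨α⟩` -/
abbrev Gam (α : MulAut G) : Type _ :=
  G ⋊[(Subgroup.zpowers α).subtype] (Subgroup.zpowers α)

/-- the element of `G ⋊ ⟨α⟩` inducing `α` -/
def aa (α : MulAut G) : Gam α := inr ⟨α, Subgroup.mem_zpowers α⟩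

instance instFiniteGam [Finite G] (α : MulAut G) : Finite (Gam α) :=
  Finite.of_equiv (G × (Subgroup.zpowers α)) SemidirectProduct.equivProd.symm

theorem conj_inl (α : MulAut G) (c : G) :
    (inl c : Gam α) * aa α * (inl c)⁻¹ = inl (c * (α c)⁻¹) * aa α := by
  have h1 := SemidirectProduct.inl_aut (φ := (Subgroup.zpowers α).subtype)
    (⟨α, Subgroup.mem_zpowers α⟩ : Subgroup.zpowers α) (c⁻¹)
  have h2 : (aa α) * (inl c⁻¹ : Gam α) = inl (α c⁻¹) * aa α := by
    have h3 : (inl (α c⁻¹) : Gam α) = aa α * inl c⁻¹ * (aa α)⁻¹ := by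
      simpa [aa] using h1
    rw [h3]
    group
  calc (inl c : Gam α) * aa α * (inl c)⁻¹ = inl c * (aa α * inl c⁻¹) := by
        rw [map_inv]; group
    _ = inl c * (inl (α c⁻¹) * aa α) := by rw [h2]
    _ = inl (c * (α c)⁻¹) * aa α := by
        rw [← mul_assoc, ← map_mul, map_inv]

theorem conj_inr (α : MulAut G) (z : Subgroup.zpowers α) :
    (inr z : Gam α) * aa α * (inr z)⁻¹ = aa α := by
  have hcomm : z * ⟨α, Subgroup.mem_zpowers α⟩ = ⟨α, Subgroup.mem_zpowers α⟩ * z := by
    obtain ⟨k, hk⟩ := Subgroup.mem_zpowers_iff.mp z.2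
    apply Subtype.ext
    show (z : MulAut G) * α = α * (z : MulAut G)
    rw [← hk]
    exact (Commute.zpow_left (Commute.refl α) k).eq
  unfold aa
  rw [← map_mul, ← map_inv, ← map_mul, hcomm, mul_inv_cancel_right]

theorem conj_any (α : MulAut G) (γ : Gam α) :
    γ * aa α * γ⁻¹ = inl (γ.left * (α γ.left)⁻¹) * aa α := by
  have h1 : γ = inl γ.left * inr γ.right := (SemidirectProduct.inl_left_mul_inr_right γ).symm
  have h2 : γ * aa α * γ⁻¹ = inl γ.left * (inr γ.right * aa α * (inr γ.right)⁻¹) * (inl γ.left)⁻¹ := by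
    conv_lhs => rw [h1]
    group
  rw [h2, conj_inr, conj_inl]

theorem Kset_sub (α : MulAut G) : ∀ j : ℕ,
    Kset (aa α) j ⊆ {y | ∃ c : G, y = inl ((fun c : G => c * (α c)⁻¹)^[j + 1] c) * aa α}
  | 0 => by
    rintro y ⟨h, rfl⟩
    exact ⟨h.left, by rw [conj_any]; rfl⟩
  | (j + 1) => by
    rintro y ⟨z, hz, rfl⟩
    obtain ⟨c, rfl⟩ := Kset_sub α j hz
    refine ⟨c, ?_⟩
    have h1 : (inl ((fun c : G => c * (α c)⁻¹)^[j + 1] c) * aa α) * aa α *
        (inl ((fun c : G => c * (α c)⁻¹)^[j + 1] c) * aa α)⁻¹ =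
        inl ((fun c : G => c * (α c)⁻¹)^[j + 1] c) * aa α *
          (inl ((fun c : G => c * (α c)⁻¹)^[j + 1] c))⁻¹ := by
      group
    rw [h1, conj_inl, Function.iterate_succ_apply' (fun c : G => c * (α c)⁻¹) (j + 1) c]

theorem normalClosure_aa (α : MulAut G)
    (hG : Subgroup.closure (Set.range (fun c : G => c * (α c)⁻¹)) = ⊤) :
    Subgroup.normalClosure ((Subgroup.zpowers (aa α) : Subgroup (Gam α)) : Set (Gam α)) = ⊤ := by
  set N := Subgroup.normalClosure ((Subgroup.zpowers (aa α) : Subgroup (Gam α)) : Set (Gam α)) with hN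
  have hNn : N.Normal := Subgroup.normalClosure_normal
  have haN : aa α ∈ N := Subgroup.subset_normalClosure (Subgroup.mem_zpowers (aa α))
  have h1 : ∀ c : G, (inl (c * (α c)⁻¹) : Gam α) ∈ N := by
    intro c
    have h2 := hNn.conj_mem _ haN (inl c)
    rw [conj_inl] at h2
    have h3 := N.mul_mem h2 (N.inv_mem haN)
    rwa [mul_inv_cancel_right] at h3
  have h2 : (⊤ : Subgroup G).map (inl : G →* Gam α) ≤ N := by
    rw [← hG, MonoidHom.map_closure, Subgroup.closure_le]
    rintro _ ⟨_, ⟨c, rfl⟩, rfl⟩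
    exact h1 c
  have h3 : ∀ z : Subgroup.zpowers α, (inr z : Gam α) ∈ N := by
    intro z
    obtain ⟨k, hk⟩ := Subgroup.mem_zpowers_iff.mp z.2
    have h4 : z = (⟨α, Subgroup.mem_zpowers α⟩ : Subgroup.zpowers α) ^ k := by
      apply Subtype.ext
      rw [Subgroup.coe_zpow]
      exact hk.symm
    rw [h4, map_zpow]
    exact N.zpow_mem haN k
  rw [eq_top_iff]
  intro γ _
  rw [← SemidirectProduct.inl_left_mul_inr_right γ]
  exact N.mul_mem (h2 ⟨γ.left, Subgroup.mem_top _, rfl⟩) (h3 γ.right)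

/-- Let G be a finite group and α an automorphism of G with [G, α] = G, that is, the elements g·α(g)⁻¹ generate G. Then for every k ≥ 1 the iterated commutators [g, α, …, α] with k entries α — the values of the k-th iterate of the map c ↦ c·α(c)⁻¹ — also generate G. -/
theorem result {G : Type*} [Group G] [Finite G] (α : MulAut G) (hG : Subgroup.closure (Set.range (fun c : G => c * (α c)⁻¹)) = ⊤) (k : ℕ) (hk : 1 ≤ k) :
    Subgroup.closure (Set.range ((fun c : G => c * (α c)⁻¹)^[k])) = ⊤ := by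
  obtain ⟨j, rfl⟩ : ∃ j, k = j + 1 := ⟨k - 1, by omega⟩
  set Gk : Subgroup G := Subgroup.closure (Set.range ((fun c : G => c * (α c)⁻¹)^[j + 1])) with hGk
  -- `Gk` is invariant under `α`
  have hcomm : ∀ (i : ℕ) (c : G), α ((fun c : G => c * (α c)⁻¹)^[i] c) =
      (fun c : G => c * (α c)⁻¹)^[i] (α c) := by
    intro i
    induction i with
    | zero => intro c; rfl
    | succ i ih =>
      intro c
      rw [Function.iterate_succ_apply, Function.iterate_succ_apply, ih]
      congr 1
      simp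
  have hα : α • Gk = Gk := by
    have hle : α • Gk ≤ Gk := by
      rw [hGk, Subgroup.smul_closure]
      apply Subgroup.closure_mono
      rintro _ ⟨_, ⟨c, rfl⟩, rfl⟩
      exact ⟨α c, (hcomm (j + 1) c).symm⟩
    apply Subgroup.eq_of_le_of_card_ge hle
    rw [← Nat.card_congr (Subgroup.equivSMul α Gk).toEquiv]
  have hstab : ∀ z : Subgroup.zpowers α, ∀ x ∈ Gk, (z : MulAut G) x ∈ Gk := by
    intro z x hx
    have h1 : Subgroup.zpowers α ≤ MulAction.stabilizer (MulAut G) Gk := by
      rw [Subgroup.zpowers_le, MulAction.mem_stabilizer_iff]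
      exact hα
    have h2 : (z : MulAut G) • Gk = Gk := MulAction.mem_stabilizer_iff.mp (h1 z.2)
    rw [← h2]
    exact Subgroup.smul_mem_pointwise_smul x (z : MulAut G) Gk hx
  -- the subgroup of `Gam α` of elements with left component in `Gk`
  let Γ' : Subgroup (Gam α) :=
    { carrier := {γ | γ.left ∈ Gk}
      one_mem' := by
        show (1 : Gam α).left ∈ Gk
        rw [SemidirectProduct.one_left]; exact Gk.one_mem
      mul_mem' := by
        intro γ₁ γ₂ h1 h2
        show (γ₁ * γ₂).left ∈ Gk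
        rw [SemidirectProduct.mul_left]
        exact Gk.mul_mem h1 (hstab γ₁.right _ h2)
      inv_mem' := by
        intro γ h1
        show (γ⁻¹).left ∈ Gk
        rw [SemidirectProduct.inv_left]
        exact hstab γ.right⁻¹ _ (Gk.inv_mem h1) }
  have hcl := closure_Kset (aa α) (normalClosure_aa α hG) j
  have hle : Subgroup.closure (Kset (aa α) j) ≤ Γ' := by
    rw [Subgroup.closure_le]
    intro y hy
    obtain ⟨c, rfl⟩ := Kset_sub α j hy
    show (inl ((fun c : G => c * (α c)⁻¹)^[j + 1] c) * aa α).left ∈ Gk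
    rw [SemidirectProduct.mul_left]
    simp only [aa, SemidirectProduct.left_inl, SemidirectProduct.left_inr, map_one, mul_one]
    exact Subgroup.subset_closure ⟨c, rfl⟩
  rw [hcl] at hle
  rw [eq_top_iff]
  intro g _
  have h1 : (inl g : Gam α) ∈ Γ' := hle (Subgroup.mem_top _)
  exact h1

end Cfsg.Agent.S3927
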