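import Mathlib
import Cfsg.Statements.S3937
import Cfsg.Agent.Lib.Helper1.RelSubnormal
import Cfsg.Agent.Lib.Helper7.Fitting2

set_option autoImplicit false
open Cfsg
namespace Cfsg.Agent.S3937

open Subgroup
open scoped Pointwise

universe u

variable {G : Type u} [Group G]

/-- the Engel sequence `x, [x,g], [x,g,g], ...` -/
def engel (g : G) : ℕ → G → G
  | 0, x => x
  | n + 1, x => engel g n (x * g * x⁻¹ * g⁻¹)

theorem foldl_eq_engel (g : G) (n : ℕ) (x : G) :
    (List.replicate n g).foldl (fun a b => a * b * a⁻¹ * b⁻¹) x = engel g n x := by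
  induction n generalizing x with
  | zero => rfl
  | succ n ih =>
    rw [List.replicate_succ, List.foldl_cons, ih]
    rfl

theorem engel_one (g : G) (n : ℕ) : engel g n 1 = 1 := by
  induction n with
  | zero => rfl
  | succ n ih =>
    show engel g n (1 * g * 1⁻¹ * g⁻¹) = 1
    have : (1 : G) * g * 1⁻¹ * g⁻¹ = 1 := by group
    rw [this, ih]

theorem engel_add (g : G) (m n : ℕ) (x : G) : engel g (m + n) x = engel g n (engel g m x) := by
  induction m generalizing x with
  | zero => simp [engel]
  | succ m ih =>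
    have : m + 1 + n = (m + n) + 1 := by omega
    rw [this]
    show engel g (m + n) _ = engel g n (engel g m _)
    rw [ih]

/-- Engel sequences inside a nilpotent normal subgroup descend along its lower central series. -/
theorem engel_mem_lcs (F : Subgroup G) {g : G} (hg : g ∈ F) (n : ℕ) :
    ∀ (i : ℕ) (y : G), y ∈ F.lowerCentralSeries i →
      engel g n y ∈ F.lowerCentralSeries (i + n) := by
  induction n with
  | zero => intro i y hy; simpa [engel] using hy
  | succ n ih =>
    intro i y hy
    have h1 : y * g * y⁻¹ * g⁻¹ ∈ F.lowerCentralSeries (i + 1) := by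
      rw [Subgroup.lowerCentralSeries_succ]
      have := Subgroup.commutator_mem_commutator hy hg
      rwa [commutatorElement_def] at this
    have h2 := ih (i + 1) _ h1
    have : i + (n + 1) = i + 1 + n := by omega
    rw [this]
    exact h2

theorem engel_of_mem_fitting [Finite G] {g : G} (hg : g ∈ Cfsg.fittingSubgroup G) (x : G) :
    ∃ n : ℕ, engel g n x = 1 := by
  have hFn : (Cfsg.fittingSubgroup G).Normal := Cfsg.Agent.Helper7.fittingSubgroup_normal'
  have hFnil : Group.IsNilpotent ↥(Cfsg.fittingSubgroup G) :=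
    Cfsg.Agent.Helper7.fittingSubgroup_isNilpotent
  obtain ⟨c, hc⟩ := (Subgroup.isNilpotent_iff_lowerCentralSeries (Cfsg.fittingSubgroup G)).mp hFnil
  have h1 : x * g * x⁻¹ * g⁻¹ ∈ (Cfsg.fittingSubgroup G).lowerCentralSeries 0 := by
    rw [Subgroup.lowerCentralSeries_zero]
    exact (Cfsg.fittingSubgroup G).mul_mem (hFn.conj_mem g hg x)
      ((Cfsg.fittingSubgroup G).inv_mem hg)
  have h2 := engel_mem_lcs (Cfsg.fittingSubgroup G) hg c 0 _ h1
  rw [zero_add, hc, Subgroup.mem_bot] at h2
  exact ⟨c + 1, h2⟩

theorem conj_smul_lt {A B : Subgroup G} (y : G) (h : A < B) :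
    MulAut.conj y • A < MulAut.conj y • B := by
  refine lt_of_le_not_ge (Subgroup.pointwise_smul_le_pointwise_smul_iff.mpr h.le) ?_
  intro h2
  exact absurd (Subgroup.pointwise_smul_le_pointwise_smul_iff.mp h2) (not_le_of_gt h)

theorem engel_mem {H : Subgroup G} {g : G} (hg : g ∈ H) :
    ∀ (n : ℕ) (x : G), x ∈ H → engel g n x ∈ H := by
  intro n
  induction n with
  | zero => intro x hx; exact hx
  | succ n ih =>
    intro x hx
    exact ih _ (H.mul_mem (H.mul_mem (H.mul_mem hx hg) (H.inv_mem hx)) (H.inv_mem hg))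

theorem sn_of_engel [Finite G] (g : G) (hE : ∀ x : G, ∃ n : ℕ, engel g n x = 1) :
    ∀ (n : ℕ) (H : Subgroup G), Nat.card H = n → zpowers g ≤ H →
      ((zpowers g).subgroupOf H).IsSubnormal := by
  intro n
  induction n using Nat.strong_induction_on with
  | _ n ih =>
    intro H hn hAH
    by_contra hnot
    have hyp : ∀ L : Subgroup G, zpowers g ≤ L → L < H →
        ((zpowers g).subgroupOf L).IsSubnormal := fun L hAL hLH =>
      ih (Nat.card L) (by rw [← hn]; exact Cfsg.Agent.Helper1.card_lt_of_lt hLH) L rfl hAL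
    obtain ⟨M, hAM, hM, huniq⟩ := Cfsg.Agent.Helper1.zipper H _ (zpowers g) hAH rfl hyp hnot
    have hgM : g ∈ M := hAM (mem_zpowers g)
    have hgH : g ∈ H := hAH (mem_zpowers g)
    have hMnn : ¬ H ≤ normalizer (M : Set G) := by
      intro hHN
      apply hnot
      exact Cfsg.Agent.Helper1.sn_trans hAM hM.1.le (hyp M hAM hM.1)
        (Cfsg.Agent.Helper1.sn_of_le_normalizer hM.1.le hHN)
    have hNM : ∀ y ∈ H, y ∈ normalizer (M : Set G) → y ∈ M := by
      intro y hyH hyN
      by_contra hyM
      have hL : M < H ⊓ normalizer (M : Set G) := by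
        refine lt_of_le_of_ne (le_inf hM.1.le le_normalizer) ?_
        intro heq
        apply hyM
        rw [heq]
        exact ⟨hyH, hyN⟩
      have h1 := hM.2 _ hL inf_le_left
      apply hMnn
      rw [← h1]
      exact inf_le_right
    have key : ∀ y ∈ H, y * g * y⁻¹ * g⁻¹ ∈ M → y ∈ M := by
      intro y hyH hy
      have h1 : y * g * y⁻¹ ∈ M := by
        have := M.mul_mem hy hgM
        simpa using this
      have hyH' : y⁻¹ ∈ H := H.inv_mem hyH
      have hAK : zpowers g ≤ MulAut.conj y⁻¹ • M := by
        rw [zpowers_le, Cfsg.Agent.Helper1.mem_conj_smul_iff]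
        simpa using h1
      have hK : Cfsg.Agent.Helper1.IsMaxIn (MulAut.conj y⁻¹ • M) H := by
        constructor
        · have h2 : MulAut.conj y⁻¹ • M < MulAut.conj y⁻¹ • H :=
            conj_smul_lt _ hM.1
          rwa [Subgroup.conj_smul_eq_self_of_mem hyH'] at h2
        · intro L hKL hLH
          have h2 : MulAut.conj y • (MulAut.conj y⁻¹ • M) < MulAut.conj y • L :=
            conj_smul_lt _ hKL
          rw [smul_smul, ← map_mul, mul_inv_cancel, map_one, one_smul] at h2
          have h3 : MulAut.conj y • L ≤ MulAut.conj y • H :=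
            Subgroup.pointwise_smul_le_pointwise_smul_iff.mpr hLH
          rw [Subgroup.conj_smul_eq_self_of_mem hyH] at h3
          have h4 := hM.2 _ h2 h3
          have h5 : MulAut.conj y⁻¹ • (MulAut.conj y • L) = MulAut.conj y⁻¹ • H := by rw [h4]
          rw [smul_smul, ← map_mul, inv_mul_cancel, map_one, one_smul,
            Subgroup.conj_smul_eq_self_of_mem hyH'] at h5
          exact h5
      have hKM := huniq _ hAK hK
      have h2 : y⁻¹ ∈ normalizer (M : Set G) :=
        Cfsg.Agent.Helper1.conj_smul_eq_self_iff.mp hKM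
      have h3 : y ∈ normalizer (M : Set G) := by
        have := (normalizer (M : Set G)).inv_mem h2
        simpa using this
      exact hNM y hyH h3
    have hall : ∀ (k : ℕ) (x : G), x ∈ H → engel g k x = 1 → x ∈ M := by
      intro k
      induction k with
      | zero =>
        intro x _ hx
        have : x = 1 := hx
        rw [this]
        exact M.one_mem
      | succ k ihk =>
        intro x hxH hx
        have h1 : x * g * x⁻¹ * g⁻¹ ∈ H :=
          H.mul_mem (H.mul_mem (H.mul_mem hxH hgH) (H.inv_mem hxH)) (H.inv_mem hgH)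
        exact key x hxH (ihk _ h1 hx)
    have hHM : H ≤ M := by
      intro x hx
      obtain ⟨k, hk⟩ := hE x
      exact hall k x hx hk
    exact absurd (lt_of_lt_of_le hM.1 hHM) (lt_irrefl _)

theorem mem_fitting_of_engel {G : Type u} [Group G] [Finite G] (g : G)
    (hE : ∀ x : G, ∃ n : ℕ, engel g n x = 1) : g ∈ Cfsg.fittingSubgroup G := by
  have h1 := sn_of_engel g hE _ ⊤ rfl le_top
  have h2 : (zpowers g).IsSubnormal := Cfsg.Agent.Helper1.sn_top h1
  have h3 : Group.IsNilpotent ↥(zpowers g) := by
    haveI : IsCyclic ↥(zpowers g) := inferInstance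
    letI : CommGroup ↥(zpowers g) := IsCyclic.commGroup
    exact CommGroup.isNilpotent
  exact Cfsg.Agent.Helper7.subnormal_nilpotent_le_fittingSubgroup _ h2 h3 (mem_zpowers g)

/-- Baer's characterization of the Fitting subgroup: in a finite group G, an element g lies in the Fitting subgroup if and only if g is a left Engel element, that is, for every x there is n with [x, g, g, …, g] = 1 (n entries g, [a, b] = aba⁻¹b⁻¹). -/
theorem result {G : Type*} [Group G] [Finite G] (g : G) :
    g ∈ Cfsg.fittingSubgroup G ↔ ∀ x : G, ∃ n : ℕ, (List.replicate n g).foldl (fun a b => a * b * a⁻¹ * b⁻¹) x = 1 := by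
  constructor
  · intro hg x
    obtain ⟨n, hn⟩ := engel_of_mem_fitting hg x
    exact ⟨n, by rw [foldl_eq_engel]; exact hn⟩
  · intro h
    apply mem_fitting_of_engel
    intro x
    obtain ⟨n, hn⟩ := h x
    exact ⟨n, by rw [← foldl_eq_engel]; exact hn⟩
end Cfsg.Agent.S3937
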