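import Mathlib
import Cfsg.Statements.S3939
import Cfsg.Agent.Lib.Helper21.BaerSuzuki
import Cfsg.Agent.Lib.Helper3.NilpotentCoprime
import Cfsg.Agent.Lib.Helper20.PrimaryParts
import Cfsg.Agent.Lib.Helper20.SylowBasic

set_option autoImplicit false
open Cfsg
namespace Cfsg.Agent.S3939

open scoped commutatorElement

universe u

variable {G : Type u} [Group G]

/-- upper central series of the ambient group restricts into that of a subgroup -/
theorem ucs_subgroup_le (K : Subgroup G) : ∀ (i : ℕ) (k : K),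
    (k : G) ∈ Subgroup.upperCentralSeries G i → k ∈ Subgroup.upperCentralSeries K i := by
  intro i
  induction i with
  | zero =>
    intro k hk
    rw [Subgroup.upperCentralSeries_zero, Subgroup.mem_bot] at hk ⊢
    exact Subtype.ext hk
  | succ i ih =>
    intro k hk
    rw [Subgroup.mem_upperCentralSeries_succ_iff] at hk ⊢
    intro y
    apply ih
    have := hk (y : G)
    simpa [commutatorElement_def] using this

theorem isNilpotent_closure_pair {x g : G} {n : ℕ} (hg : g ∈ Subgroup.upperCentralSeries G n) :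
    Group.IsNilpotent ↥(Subgroup.closure ({x, g} : Set G)) := by
  set K := Subgroup.closure ({x, g} : Set G) with hK
  have hxK : x ∈ K := Subgroup.subset_closure (by simp)
  have hgK : g ∈ K := Subgroup.subset_closure (by simp)
  set Z := Subgroup.upperCentralSeries ↥K n with hZ
  have hgZ : (⟨g, hgK⟩ : K) ∈ Z := ucs_subgroup_le K n _ hg
  have hle : K ≤ (Subgroup.zpowers (⟨x, hxK⟩ : K) ⊔ Z).map K.subtype := by
    show Subgroup.closure ({x, g} : Set G) ≤ _
    rw [Subgroup.closure_le]
    rintro y (rfl | rfl)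
    · exact ⟨⟨y, hxK⟩, Subgroup.mem_sup_left (Subgroup.mem_zpowers _), rfl⟩
    · exact ⟨⟨y, hgK⟩, Subgroup.mem_sup_right hgZ, rfl⟩
  have hall : ∀ k : K, ∃ j : ℤ, (QuotientGroup.mk k : K ⧸ Z) = (QuotientGroup.mk (⟨x, hxK⟩ : K)) ^ j := by
    intro k
    obtain ⟨k', hk', hkk⟩ := hle k.2
    have hkk' : k' = k := Subtype.ext hkk
    rw [hkk', SetLike.mem_coe, Subgroup.mem_sup_of_normal_right] at hk'
    obtain ⟨a, ha, z, hz, rfl⟩ := hk'
    obtain ⟨j, rfl⟩ := Subgroup.mem_zpowers_iff.mp ha
    refine ⟨j, ?_⟩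
    rw [QuotientGroup.mk_mul, (QuotientGroup.eq_one_iff z).mpr hz, mul_one, QuotientGroup.mk_zpow]
  refine ⟨⟨n + 1, ?_⟩⟩
  rw [eq_top_iff]
  intro k _
  rw [Subgroup.mem_upperCentralSeries_succ_iff]
  intro y
  show ⁅k, y⁆ ∈ Z
  rw [← QuotientGroup.eq_one_iff, commutatorElement_def]
  obtain ⟨a, ha⟩ := hall k
  obtain ⟨b, hb⟩ := hall y
  rw [QuotientGroup.mk_mul, QuotientGroup.mk_mul, QuotientGroup.mk_mul, QuotientGroup.mk_inv,
    QuotientGroup.mk_inv, ha, hb, ← zpow_add, ← zpow_neg, ← zpow_add, ← zpow_neg, ← zpow_add]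
  have : a + b + -a + -b = 0 := by ring
  rw [this, zpow_zero]

theorem isNilpotent_of_le {H K : Subgroup G} (hHK : H ≤ K) (hK : Group.IsNilpotent ↥K) :
    Group.IsNilpotent ↥H := by
  haveI := hK
  exact Group.nilpotent_of_mulEquiv (Subgroup.subgroupOfEquivOfLe hHK)

/-- The subgroup generated by the `p'`-elements. -/
def pRes (p : ℕ) (G : Type u) [Group G] : Subgroup G :=
  Subgroup.closure {v : G | (orderOf v).Coprime p}

theorem pRes_normal (p : ℕ) : (pRes p G).Normal := by
  constructor
  intro r hr y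
  have h1 : (pRes p G).map (MulAut.conj y).toMonoidHom ≤ pRes p G := by
    unfold pRes
    rw [MonoidHom.map_closure]
    apply Subgroup.closure_mono
    rintro _ ⟨v, hv, rfl⟩
    show (orderOf (MulAut.conj y v)).Coprime p
    rw [MulAut.conj_apply, Cfsg.Agent.Helper20.orderOf_conj]
    exact hv
  exact h1 ⟨r, hr, by simp [MulAut.conj_apply]⟩

theorem isPGroup_quotient_pRes [Finite G] (p : ℕ) [Fact p.Prime] :
    haveI := pRes_normal (G := G) p
    IsPGroup p (G ⧸ pRes p G) := by
  haveI := pRes_normal (G := G) p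
  intro q
  induction q using QuotientGroup.induction_on with
  | H y =>
    obtain ⟨u, v, hy, -, ⟨k, hk⟩, hv, -, -⟩ :=
      Cfsg.Agent.Helper20.exists_pPart_decomp p y (orderOf_pos y)
    refine ⟨k, ?_⟩
    have hvR : v ∈ pRes p G := Subgroup.subset_closure hv
    rw [hy, QuotientGroup.mk_mul, (QuotientGroup.eq_one_iff v).mpr hvR, mul_one,
      ← QuotientGroup.mk_pow, ← hk, pow_orderOf_eq_one]
    rfl

theorem sylow_sup_pRes [Finite G] (p : ℕ) [Fact p.Prime] (P : Sylow p G) :
    (P : Subgroup G) ⊔ pRes p G = ⊤ := by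
  haveI := pRes_normal (G := G) p
  have hp : p.Prime := Fact.out
  rw [← Subgroup.index_eq_one]
  have h1 : ((P : Subgroup G) ⊔ pRes p G).index ∣ (P : Subgroup G).index :=
    Subgroup.index_dvd_of_le le_sup_left
  have h2 : ((P : Subgroup G) ⊔ pRes p G).index ∣ (pRes p G).index :=
    Subgroup.index_dvd_of_le le_sup_right
  obtain ⟨j, hj⟩ := (IsPGroup.iff_card.mp (isPGroup_quotient_pRes (G := G) p))
  rw [← Subgroup.index_eq_card] at hj
  rw [hj] at h2
  obtain ⟨i, -, hi⟩ := (Nat.dvd_prime_pow hp).mp h2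
  rcases Nat.eq_zero_or_pos i with rfl | hipos
  · simpa using hi
  · exfalso
    apply P.not_dvd_index
    refine dvd_trans ?_ h1
    rw [hi]
    exact dvd_pow_self p hipos.ne'

theorem mem_ucs_of_pElement [Finite G] {p : ℕ} [Fact p.Prime] {g : G} {k : ℕ}
    (hgo : orderOf g = p ^ k)
    (h : ∀ x : G, Group.IsNilpotent ↥(Subgroup.closure ({x, g} : Set G))) :
    ∃ n : ℕ, g ∈ Subgroup.upperCentralSeries G n := by
  have hp : p.Prime := Fact.out
  haveI := pRes_normal (G := G) p
  -- (a) g commutes with p'-elements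
  have hcomm : ∀ v : G, (orderOf v).Coprime p → v * g = g * v := by
    intro v hv
    apply Cfsg.Agent.Helper3.mul_comm_of_mem_isNilpotent_of_coprime (h v)
      (Subgroup.subset_closure (by simp)) (Subgroup.subset_closure (by simp))
    rw [hgo]
    exact Nat.Coprime.pow_right k hv
  have hcommR : ∀ v ∈ pRes p G, v * g = g * v := by
    intro v hv
    have h1 : pRes p G ≤ Subgroup.centralizer {g} := by
      unfold pRes
      rw [Subgroup.closure_le]
      intro w hw
      rw [SetLike.mem_coe, Subgroup.mem_centralizer_iff]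
      intro z hz
      rw [Set.mem_singleton_iff] at hz
      rw [hz]
      exact (hcomm w hw).symm
    have := h1 hv
    rw [Subgroup.mem_centralizer_iff] at this
    exact (this g rfl).symm
  -- (b) Baer-Suzuki
  obtain ⟨N, hNn, hNp, hgN⟩ : ∃ N : Subgroup G, N.Normal ∧ IsPGroup p N ∧ Subgroup.zpowers g ≤ N := by
    apply Cfsg.Agent.Helper21.baer_suzuki
    intro x
    set K := Subgroup.closure ({x, g} : Set G) with hK
    have hxK : x ∈ K := Subgroup.subset_closure (by simp)
    have hgK : g ∈ K := Subgroup.subset_closure (by simp)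
    haveI : Group.IsNilpotent ↥K := h x
    obtain ⟨S⟩ : Nonempty (Sylow p K) := inferInstance
    haveI : (S : Subgroup K).Normal := inferInstance
    have h1 : (⟨g, hgK⟩ : K) ∈ (S : Subgroup K) :=
      Cfsg.Agent.Helper20.mem_sylow_of_normal_of_orderOf S (k := k)
        (by rw [Subgroup.orderOf_mk, hgo])
    have hxg : x * g * x⁻¹ ∈ K := K.mul_mem (K.mul_mem hxK hgK) (K.inv_mem hxK)
    have h2 : (⟨x * g * x⁻¹, hxg⟩ : K) ∈ (S : Subgroup K) :=
      Cfsg.Agent.Helper20.mem_sylow_of_normal_of_orderOf S (k := k)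
        (by rw [Subgroup.orderOf_mk, Cfsg.Agent.Helper20.orderOf_conj, hgo])
    have h3 : IsPGroup p ((S : Subgroup K).map K.subtype) := S.isPGroup'.map _
    apply h3.to_le
    rw [sup_le_iff]
    constructor
    · rw [Subgroup.zpowers_le]
      exact ⟨_, h1, rfl⟩
    · rw [MonoidHom.map_zpowers, Subgroup.zpowers_le]
      exact ⟨_, h2, rfl⟩
  have hgN' : g ∈ N := hgN (Subgroup.mem_zpowers g)
  -- (c) Sylow
  obtain ⟨P⟩ : Nonempty (Sylow p G) := inferInstance
  have hNP : N ≤ (P : Subgroup G) := by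
    have h1 : IsPGroup p (N ⊔ (P : Subgroup G) : Subgroup G) :=
      IsPGroup.to_sup_of_normal_left hNp P.isPGroup'
    have h2 := P.is_maximal' h1 le_sup_right
    rw [← h2]
    exact le_sup_left
  have htop := sylow_sup_pRes p P
  -- (d) induction
  have claim : ∀ (i : ℕ) (n : (P : Subgroup G)), n ∈ Subgroup.upperCentralSeries ↥(P : Subgroup G) i →
      (n : G) ∈ N → (∀ v ∈ pRes p G, v * (n : G) = (n : G) * v) →
      (n : G) ∈ Subgroup.upperCentralSeries G i := by
    intro i
    induction i with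
    | zero =>
      intro n hn _ _
      rw [Subgroup.upperCentralSeries_zero, Subgroup.mem_bot] at hn ⊢
      rw [hn]
      rfl
    | succ i ih =>
      intro n hn hnN hnR
      rw [Subgroup.mem_upperCentralSeries_succ_iff] at hn ⊢
      intro y
      have hy : y ∈ (P : Subgroup G) ⊔ pRes p G := by rw [htop]; exact Subgroup.mem_top y
      rw [Subgroup.mem_sup_of_normal_right] at hy
      obtain ⟨u, hu, v, hv, rfl⟩ := hy
      have hm := hn ⟨u, hu⟩
      have hvn : v * (n : G)⁻¹ = (n : G)⁻¹ * v := by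
        have := hnR v hv
        calc v * (n : G)⁻¹ = (n : G)⁻¹ * ((n : G) * v) * (n : G)⁻¹ := by group
          _ = (n : G)⁻¹ * (v * (n : G)) * (n : G)⁻¹ := by rw [this]
          _ = (n : G)⁻¹ * v := by group
      have heq : ⁅(n : G), u * v⁆ = ((⁅n, (⟨u, hu⟩ : (P : Subgroup G))⁆ : (P : Subgroup G)) : G) := by
        rw [commutatorElement_def, commutatorElement_def]
        push_cast
        calc (n : G) * (u * v) * (n : G)⁻¹ * (u * v)⁻¹
            = (n : G) * u * (v * (n : G)⁻¹) * v⁻¹ * u⁻¹ := by group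
          _ = (n : G) * u * ((n : G)⁻¹ * v) * v⁻¹ * u⁻¹ := by rw [hvn]
          _ = (n : G) * u * (n : G)⁻¹ * u⁻¹ := by group
      rw [heq]
      apply ih _ hm
      · rw [commutatorElement_def]
        push_cast
        have h1 : u * (n : G)⁻¹ * u⁻¹ ∈ N := hNn.conj_mem _ (N.inv_mem hnN) u
        have : (n : G) * u * (n : G)⁻¹ * u⁻¹ = (n : G) * (u * (n : G)⁻¹ * u⁻¹) := by group
        rw [this]
        exact N.mul_mem hnN h1
      · intro v' hv'
        rw [commutatorElement_def]
        push_cast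
        have hw : u⁻¹ * v' * u ∈ pRes p G := by
          have := (pRes_normal (G := G) p).conj_mem v' hv' u⁻¹
          simpa using this
        have h1 := hnR v' hv'
        have h2 := hnR _ hw
        have h3 : (u⁻¹ * v' * u) * (n : G)⁻¹ = (n : G)⁻¹ * (u⁻¹ * v' * u) := by
          calc (u⁻¹ * v' * u) * (n : G)⁻¹
              = (n : G)⁻¹ * ((n : G) * (u⁻¹ * v' * u)) * (n : G)⁻¹ := by group
            _ = (n : G)⁻¹ * ((u⁻¹ * v' * u) * (n : G)) * (n : G)⁻¹ := by rw [h2]
            _ = (n : G)⁻¹ * (u⁻¹ * v' * u) := by group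
        calc v' * ((n : G) * u * (n : G)⁻¹ * u⁻¹)
            = (v' * (n : G)) * u * (n : G)⁻¹ * u⁻¹ := by group
          _ = ((n : G) * v') * u * (n : G)⁻¹ * u⁻¹ := by rw [h1]
          _ = (n : G) * u * ((u⁻¹ * v' * u) * (n : G)⁻¹) * u⁻¹ := by group
          _ = (n : G) * u * ((n : G)⁻¹ * (u⁻¹ * v' * u)) * u⁻¹ := by rw [h3]
          _ = (n : G) * u * (n : G)⁻¹ * u⁻¹ * v' := by group
  -- (e)
  haveI : Group.IsNilpotent ↥(P : Subgroup G) := P.isPGroup'.isNilpotent
  obtain ⟨c, hc⟩ := Group.IsNilpotent.nilpotent' (G := ↥(P : Subgroup G))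
  refine ⟨c, ?_⟩
  have := claim c ⟨g, hNP hgN'⟩ (by rw [hc]; exact Subgroup.mem_top _) hgN' hcommR
  exact this

theorem mem_ucs_aux [Finite G] : ∀ (m : ℕ) (g : G), orderOf g = m →
    (∀ x : G, Group.IsNilpotent ↥(Subgroup.closure ({x, g} : Set G))) →
    ∃ n : ℕ, g ∈ Subgroup.upperCentralSeries G n := by
  intro m
  induction m using Nat.strong_induction_on with
  | _ m ih =>
    intro g hgm h
    by_cases hm1 : m = 1
    · rw [hm1, orderOf_eq_one_iff] at hgm
      exact ⟨0, by rw [hgm]; exact one_mem _⟩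
    · obtain ⟨p, hp, hpm⟩ := Nat.exists_prime_and_dvd hm1
      haveI : Fact p.Prime := ⟨hp⟩
      obtain ⟨u, v, hg, -, ⟨k, hk⟩, hv, hu', hv'⟩ :=
        Cfsg.Agent.Helper20.exists_pPart_decomp p g (orderOf_pos g)
      have hsub : ∀ (w : G), w ∈ Subgroup.zpowers g → ∀ x : G,
          Group.IsNilpotent ↥(Subgroup.closure ({x, w} : Set G)) := by
        intro w hw x
        refine isNilpotent_of_le ?_ (h x)
        rw [Subgroup.closure_le]
        rintro y (rfl | rfl)
        · exact Subgroup.subset_closure (by simp)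
        · have h1 : Subgroup.zpowers g ≤ Subgroup.closure ({x, y} : Set G) → True := fun _ => trivial
          have h2 : Subgroup.zpowers g ≤ Subgroup.closure ({x, g} : Set G) := by
            rw [Subgroup.zpowers_le]
            exact Subgroup.subset_closure (by simp)
          exact h2 hw
      obtain ⟨a, ha⟩ := mem_ucs_of_pElement hk (hsub u hu')
      have hvm : orderOf v < m := by
        have h1 : orderOf v ∣ m := by
          rw [← hgm]
          exact orderOf_dvd_of_mem_zpowers hv'
        have hm0 : 0 < m := by rw [← hgm]; exact orderOf_pos g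
        have h2 : orderOf v ≠ m := by
          intro heq
          rw [heq] at hv
          exact hp.one_lt.ne' (Nat.Coprime.eq_one_of_dvd hv.symm hpm)
        exact lt_of_le_of_ne (Nat.le_of_dvd hm0 h1) h2
      obtain ⟨b, hb⟩ := ih _ hvm v rfl (hsub v hv')
      refine ⟨max a b, ?_⟩
      rw [hg]
      exact (Subgroup.upperCentralSeries G (max a b)).mul_mem
        (Subgroup.upperCentralSeries_mono G (le_max_left a b) ha)
        (Subgroup.upperCentralSeries_mono G (le_max_right a b) hb)

/-- In a finite group G the set of elements g such that the subgroup generated by g and x is nilpotent for every x ∈ G is exactly the hypercenter of G (the last term of the upper central series). -/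
theorem result {G : Type*} [Group G] [Finite G] (g : G) :
    (∀ x : G, Group.IsNilpotent ↥(Subgroup.closure ({x, g} : Set G))) ↔ g ∈ ⨆ n : ℕ, Subgroup.upperCentralSeries G n := by
  constructor
  · intro h
    obtain ⟨n, hn⟩ := mem_ucs_aux _ g rfl h
    exact Subgroup.mem_iSup_of_mem n hn
  · intro h x
    rw [Subgroup.mem_iSup_of_directed (Monotone.directed_le (Subgroup.upperCentralSeries_mono G))] at h
    obtain ⟨n, hn⟩ := h
    exact isNilpotent_closure_pair hn
end Cfsg.Agent.S3939
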