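import Mathlib
import Cfsg.Statements.S3941
import Cfsg.Agent.Lib.Helper20.SylowBasic

set_option autoImplicit false
open Cfsg

namespace Cfsg.Agent.S3941

open Equiv Equiv.Perm

/-- in a group whose proper subgroups of order divisible by `p` are `p`-closed, the product of two
`p`-elements of a proper subgroup is a `p`-element -/
theorem core {A : Type*} [Group A] [Finite A] (p : ℕ) [Fact p.Prime]
    (h : ∀ H : Subgroup A, H ≠ ⊤ → p ∣ Nat.card ↥H → Cfsg.IsPClosed p ↥H)
    (H : Subgroup A) (hH : H ≠ ⊤) (a b : A) (ha : a ∈ H) (hb : b ∈ H)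
    (hao : orderOf a = p) (hbo : orderOf b = p) : ∃ k : ℕ, orderOf (a * b) = p ^ k := by
  have hdvd : p ∣ Nat.card ↥H := by
    rw [← hao]; exact Subgroup.orderOf_dvd_natCard H ha
  have hcl := h H hH hdvd
  obtain ⟨P⟩ : Nonempty (Sylow p ↥H) := inferInstance
  have hPn : (P : Subgroup ↥H).Normal := hcl P
  have ha' : (⟨a, ha⟩ : ↥H) ∈ (P : Subgroup ↥H) :=
    Helper20.mem_sylow_of_normal_of_orderOf P (k := 1) (by rw [Subgroup.orderOf_mk, hao, pow_one])
  have hb' : (⟨b, hb⟩ : ↥H) ∈ (P : Subgroup ↥H) :=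
    Helper20.mem_sylow_of_normal_of_orderOf P (k := 1) (by rw [Subgroup.orderOf_mk, hbo, pow_one])
  have hab : (⟨a, ha⟩ * ⟨b, hb⟩ : ↥H) ∈ (P : Subgroup ↥H) := Subgroup.mul_mem _ ha' hb'
  obtain ⟨k, hk⟩ := Helper20.exists_orderOf_eq_of_mem_isPGroup P.isPGroup' hab
  refine ⟨k, ?_⟩
  rw [← hk]
  exact Subgroup.orderOf_coe (⟨a, ha⟩ * ⟨b, hb⟩ : ↥H)

/-- permutation-level version for the alternating group and a point stabilizer -/
theorem corePerm (n p : ℕ) [Fact p.Prime]
    (h : ∀ H : Subgroup ↥(alternatingGroup (Fin n)), H ≠ ⊤ → p ∣ Nat.card ↥H → Cfsg.IsPClosed p ↥H)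
    (L : Fin n) (w : Perm (Fin n)) (hw : w ∈ alternatingGroup (Fin n)) (hwL : w L ≠ L)
    (a b : Perm (Fin n)) (ha : a ∈ alternatingGroup (Fin n)) (hb : b ∈ alternatingGroup (Fin n))
    (haL : a L = L) (hbL : b L = L) (hao : orderOf a = p) (hbo : orderOf b = p) :
    ∃ k : ℕ, orderOf (a * b) = p ^ k := by
  set H : Subgroup ↥(alternatingGroup (Fin n)) :=
    MulAction.stabilizer ↥(alternatingGroup (Fin n)) L with hHdef
  have hmem : ∀ g : ↥(alternatingGroup (Fin n)), g ∈ H ↔ (g : Perm (Fin n)) L = L := by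
    intro g
    rw [hHdef, MulAction.mem_stabilizer_iff]
    rfl
  have hH : H ≠ ⊤ := by
    intro htop
    have : (⟨w, hw⟩ : ↥(alternatingGroup (Fin n))) ∈ H := by rw [htop]; exact Subgroup.mem_top _
    rw [hmem] at this
    exact hwL this
  obtain ⟨k, hk⟩ := core p h H hH ⟨a, ha⟩ ⟨b, hb⟩ ((hmem _).mpr haL) ((hmem _).mpr hbL)
    (by rw [Subgroup.orderOf_mk, hao]) (by rw [Subgroup.orderOf_mk, hbo])
  refine ⟨k, ?_⟩
  rw [← hk]
  exact Subgroup.orderOf_coe (⟨a, ha⟩ * ⟨b, hb⟩ : ↥(alternatingGroup (Fin n)))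

/-- Let n ≥ 5 and p an odd prime with p ≤ n, and suppose that every proper subgroup of the alternating group of degree n whose order is divisible by p has a normal Sylow p-subgroup. Then n = p. -/
theorem result (n p : ℕ) (hn : 5 ≤ n) [Fact p.Prime] (hp : p ≠ 2) (hpn : p ≤ n)
    (h : ∀ H : Subgroup ↥(alternatingGroup (Fin n)), H ≠ ⊤ → p ∣ Nat.card ↥H → Cfsg.IsPClosed p ↥H) : n = p := by
  have hpp : p.Prime := Fact.out
  by_contra hne
  have hlt : p < n := lt_of_le_of_ne hpn (Ne.symm hne)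
  obtain ⟨m, rfl⟩ : ∃ m, n = m + 5 := ⟨n - 5, by omega⟩
  -- points
  set x0 : Fin (m + 5) := ⟨0, by omega⟩ with hx0
  set x1 : Fin (m + 5) := ⟨1, by omega⟩ with hx1
  set x2 : Fin (m + 5) := ⟨2, by omega⟩ with hx2
  set x3 : Fin (m + 5) := ⟨3, by omega⟩ with hx3
  set L : Fin (m + 5) := ⟨m + 4, by omega⟩ with hL
  have h01 : x0 ≠ x1 := by simp [hx0, hx1]
  have h02 : x0 ≠ x2 := by simp [hx0, hx2]
  have h03 : x0 ≠ x3 := by simp [hx0, hx3]
  have h12 : x1 ≠ x2 := by simp [hx1, hx2]
  have h13 : x1 ≠ x3 := by simp [hx1, hx3]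
  have h23 : x2 ≠ x3 := by simp [hx2, hx3]
  have h0L : x0 ≠ L := by simp [hx0, hL]
  have h1L : x1 ≠ L := by simp [hx1, hL]
  have h2L : x2 ≠ L := by simp [hx2, hL]
  have h3L : x3 ≠ L := by simp [hx3, hL]
  -- an even permutation moving L
  set w : Perm (Fin (m + 5)) := swap L x0 * swap L x1 with hw
  have hwA : w ∈ alternatingGroup (Fin (m + 5)) :=
    (isThreeCycle_swap_mul_swap_same (Ne.symm h0L) (Ne.symm h1L) h01).mem_alternatingGroup
  have hwL : w L ≠ L := by
    rw [hw, Perm.mul_apply, swap_apply_left, swap_apply_of_ne_of_ne h1L h01.symm]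
    exact h1L
  by_cases hp3 : p = 3
  · -- p = 3
    subst hp3
    set a : Perm (Fin (m + 5)) := swap x0 x1 * swap x0 x2 with ha
    set b : Perm (Fin (m + 5)) := swap x2 x0 * swap x2 x3 with hb
    have ha3 : IsThreeCycle a := isThreeCycle_swap_mul_swap_same h01 h02 h12
    have hb3 : IsThreeCycle b := isThreeCycle_swap_mul_swap_same h02.symm h23 h03
    have haL : a L = L := by
      rw [ha, Perm.mul_apply, swap_apply_of_ne_of_ne h0L.symm h2L.symm,
        swap_apply_of_ne_of_ne h0L.symm h1L.symm]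
    have hbL : b L = L := by
      rw [hb, Perm.mul_apply, swap_apply_of_ne_of_ne h2L.symm h3L.symm,
        swap_apply_of_ne_of_ne h2L.symm h0L.symm]
    obtain ⟨k, hk⟩ := corePerm (m + 5) 3 h L w hwA hwL a b ha3.mem_alternatingGroup
      hb3.mem_alternatingGroup haL hbL ha3.orderOf hb3.orderOf
    have hab : a * b = swap x0 x1 * swap x2 x3 := by
      rw [ha, hb, swap_comm x2 x0]
      calc swap x0 x1 * swap x0 x2 * (swap x0 x2 * swap x2 x3)
          = swap x0 x1 * (swap x0 x2 * swap x0 x2) * swap x2 x3 := by group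
        _ = swap x0 x1 * swap x2 x3 := by rw [swap_mul_self, mul_one]
    have hdisj : Perm.Disjoint (swap x0 x1) (swap x2 x3) :=
      disjoint_swap_swap (by simp [h01, h02, h03, h12, h13, h23])
    have hsq : (a * b) ^ 2 = 1 := by
      rw [hab, hdisj.commute.mul_pow, pow_two, pow_two, swap_mul_self, swap_mul_self, one_mul]
    have hne1 : a * b ≠ 1 := by
      intro h1
      have := congrArg (fun σ : Perm (Fin (m + 5)) => σ x0) h1
      simp only [hab, Perm.mul_apply, Perm.one_apply] at this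
      rw [swap_apply_of_ne_of_ne h02 h03, swap_apply_left] at this
      exact h01 this.symm
    have ho : orderOf (a * b) = 2 := orderOf_eq_prime hsq hne1
    rw [ho] at hk
    have : (2 : ℕ) ∣ 3 := by
      rcases Nat.eq_zero_or_pos k with rfl | hkpos
      · simp at hk
      · have h3 : 3 ∣ 3 ^ k := dvd_pow_self 3 hkpos.ne'
        rw [← hk] at h3
        omega
    omega
  · -- p ≥ 5
    have hp5 : 5 ≤ p := by
      have h2 := hpp.two_le
      rcases Nat.lt_or_ge p 5 with h5 | h5
      · interval_cases p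
        · exact absurd rfl hp
        · exact absurd rfl hp3
        · exact absurd hpp (by decide)
      · exact h5
    set i : Fin (m + 5) := ⟨p - 1, by omega⟩ with hi
    have hi0 : i ≠ 0 := by
      intro h0
      have := congrArg Fin.val h0
      simp [hi] at this
      omega
    set a : Perm (Fin (m + 5)) := Fin.cycleRange i with ha
    have hao : orderOf a = p := by
      rw [← lcm_cycleType, ha, Fin.cycleType_cycleRange hi0, Multiset.lcm_singleton, normalize_eq]
      simp only [hi]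
      omega
    have haA : a ∈ alternatingGroup (Fin (m + 5)) := by
      rw [mem_alternatingGroup, ha, Fin.sign_cycleRange]
      have hodd : Odd p := hpp.odd_of_ne_two hp
      obtain ⟨c, hc⟩ := hodd
      have : ((i : Fin (m + 5)) : ℕ) = 2 * c := by simp only [hi]; omega
      rw [this, pow_mul]
      simp
    have haL : a L = L := by
      rw [ha]
      apply Fin.cycleRange_of_gt
      rw [Fin.lt_def]
      simp only [hi, hL]
      omega
    have ha0 : a x0 = x1 := by
      apply Fin.ext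
      rw [ha, Fin.coe_cycleRange_of_lt (by rw [Fin.lt_def]; simp only [hi, hx0]; omega)]
    have ha1 : a x1 = x2 := by
      apply Fin.ext
      rw [ha, Fin.coe_cycleRange_of_lt (by rw [Fin.lt_def]; simp only [hi, hx1]; omega)]
    have ha2 : a x2 = x3 := by
      apply Fin.ext
      rw [ha, Fin.coe_cycleRange_of_lt (by rw [Fin.lt_def]; simp only [hi, hx2]; omega)]
    set t : Perm (Fin (m + 5)) := swap x0 x1 * swap x1 x2 with ht
    have htA : t ∈ alternatingGroup (Fin (m + 5)) := by
      rw [mem_alternatingGroup, ht, map_mul, sign_swap h01, sign_swap h12]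
      simp
    have htL : t L = L := by
      rw [ht, Perm.mul_apply, swap_apply_of_ne_of_ne h1L.symm h2L.symm,
        swap_apply_of_ne_of_ne h0L.symm h1L.symm]
    have htinv : t⁻¹ = swap x1 x2 * swap x0 x1 := by
      rw [ht, mul_inv_rev, swap_inv, swap_inv]
    set b : Perm (Fin (m + 5)) := t * a⁻¹ * t⁻¹ with hb
    have hbA : b ∈ alternatingGroup (Fin (m + 5)) :=
      Subgroup.mul_mem _ (Subgroup.mul_mem _ htA (Subgroup.inv_mem _ haA)) (Subgroup.inv_mem _ htA)
    have hbo : orderOf b = p := by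
      rw [hb, ← hao]
      have := MulEquiv.orderOf_eq (MulAut.conj t) a⁻¹
      rw [MulAut.conj_apply, orderOf_inv] at this
      exact this
    have hbL : b L = L := by
      have htL' : t⁻¹ L = L := by rw [Perm.inv_eq_iff_eq, htL]
      have haL' : a⁻¹ L = L := by rw [Perm.inv_eq_iff_eq, haL]
      rw [hb, Perm.mul_apply, Perm.mul_apply, htL', haL', htL]
    obtain ⟨k, hk⟩ := corePerm (m + 5) p h L w hwA hwL a b haA hbA haL hbL hao hbo
    have hab : a * b = swap x1 x3 * swap x1 x0 := by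
      have e1 : a * b = (a * swap x0 x1 * a⁻¹) * (a * swap x1 x2 * a⁻¹) * t⁻¹ := by
        rw [hb, ht]; group
      rw [e1, ← swap_apply_apply, ← swap_apply_apply, ha0, ha1, ha2, htinv]
      have e2 : swap x1 x2 * swap x2 x3 * (swap x1 x2 * swap x0 x1)
          = (swap x1 x2 * swap x2 x3 * (swap x1 x2)⁻¹) * swap x0 x1 := by
        rw [swap_inv]; group
      rw [e2, ← swap_apply_apply, swap_apply_right, swap_apply_of_ne_of_ne h13.symm h23.symm,
        swap_comm x0 x1]
    have h3c : IsThreeCycle (a * b) := by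
      rw [hab]
      exact isThreeCycle_swap_mul_swap_same h13 h01.symm h03.symm
    rw [h3c.orderOf] at hk
    have : p ∣ 3 := by
      rcases Nat.eq_zero_or_pos k with rfl | hkpos
      · simp at hk
      · have h3 : p ∣ p ^ k := dvd_pow_self p hkpos.ne'
        rwa [← hk] at h3
    have := Nat.le_of_dvd (by norm_num) this
    omega

end Cfsg.Agent.S3941
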