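import Mathlib
import Cfsg.Statements.S3946
import Cfsg.Agent.Lib.Helper20.SplitAut6

set_option autoImplicit false
open Cfsg

namespace Cfsg.Agent.S3946

open Cfsg.Agent.Helper20

section Semidirect

variable {N A : Type*} [Group N] [Group A] {φ : A →* MulAut N}

/-- Powers in a semidirect product. -/
theorem pow_left_right (x : N ⋊[φ] A) (k : ℕ) :
    (x ^ k).left = ((List.range k).map (fun i : ℕ => φ (x.right ^ i) x.left)).prod ∧
      (x ^ k).right = x.right ^ k := by
  induction k with
  | zero => simp
  | succ k ih =>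
    obtain ⟨ih1, ih2⟩ := ih
    constructor
    · rw [pow_succ, SemidirectProduct.mul_left, ih1, ih2, List.range_succ, List.map_append,
        List.prod_append]
      simp
    · rw [pow_succ, SemidirectProduct.mul_right, ih2, pow_succ]

end Semidirect

/-- A finite group admitting a splitting automorphism of prime order is nilpotent. -/
theorem result {G : Type*} [Group G] [Finite G] (α : MulAut G) (hp : (orderOf α).Prime)
    (hsplit : ∀ x : G, (((List.range (orderOf α)).map (fun i : ℕ => (α ^ i) x)).prod = 1)) : Group.IsNilpotent G := by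
  obtain ⟨p, hpdef⟩ : ∃ p, p = orderOf α := ⟨_, rfl⟩
  rw [← hpdef] at hp hsplit
  haveI : Fact p.Prime := ⟨hp⟩
  obtain ⟨A, hA⟩ : ∃ A : Subgroup (MulAut G), A = Subgroup.zpowers α := ⟨_, rfl⟩
  have hAcard : Nat.card A = p := by rw [hA, Nat.card_zpowers, hpdef]
  haveI : Finite A := Nat.finite_of_card_ne_zero (by rw [hAcard]; exact hp.ne_zero)
  have hαA : α ∈ A := by rw [hA]; exact Subgroup.mem_zpowers α
  obtain ⟨φ, hφ⟩ : ∃ φ : A →* MulAut G, φ = A.subtype := ⟨_, rfl⟩
  have hφapp : ∀ b : A, φ b = (b : MulAut G) := fun b => by rw [hφ]; rfl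
  haveI : Finite (G ⋊[φ] A) := Finite.of_equiv (G × A) SemidirectProduct.equivProd.symm
  have hα1 : (⟨α, hαA⟩ : A) ≠ 1 := by
    intro h1
    have h2 : α = 1 := congrArg Subtype.val h1
    rw [h2, orderOf_one] at hpdef
    rw [hpdef] at hp
    exact Nat.not_prime_one hp
  have hαp : α ^ p = 1 := by rw [hpdef]; exact pow_orderOf_eq_one α
  -- elements with right component `α` have order dividing `p`
  have hkey : ∀ y : G ⋊[φ] A, y.right = ⟨α, hαA⟩ → y ^ p = 1 := by
    intro y hy
    obtain ⟨h1, h2⟩ := pow_left_right y p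
    apply SemidirectProduct.ext
    · rw [h1, SemidirectProduct.one_left, hy]
      have : ∀ i : ℕ, φ ((⟨α, hαA⟩ : A) ^ i) y.left = (α ^ i) y.left := by
        intro i; rw [hφapp, Subgroup.coe_pow]
      simp only [this]
      exact hsplit y.left
    · rw [h2, SemidirectProduct.one_right, hy]
      exact Subtype.ext hαp
  have hHT : HT p (G ⋊[φ] A) (SemidirectProduct.rightHom (φ := φ)).ker := by
    refine ⟨inferInstance, ?_, ?_⟩
    · rw [Subgroup.index_ker, MonoidHom.range_eq_top.2 SemidirectProduct.rightHom_surjective,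
        Subgroup.card_top, hAcard]
    · intro x hx
      rw [MonoidHom.mem_ker] at hx
      change x.right ≠ 1 at hx
      have hb : Subgroup.zpowers x.right = ⊤ := zpowers_eq_top_of_prime_card hAcard hx
      have hmem : (⟨α, hαA⟩ : A) ∈ Submonoid.powers x.right := by
        rw [mem_powers_iff_mem_zpowers, hb]; exact Subgroup.mem_top _
      obtain ⟨j, hj⟩ := (Submonoid.mem_powers_iff _ _).1 hmem
      have hbp : x.right ^ p = 1 := by rw [← hAcard]; exact pow_card_eq_one'
      have h1 : (x ^ j) ^ p = 1 := hkey _ (by rw [(pow_left_right x j).2]; exact hj)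
      have h2 : (x ^ (j + p)) ^ p = 1 :=
        hkey _ (by rw [(pow_left_right x (j + p)).2, pow_add, hj, hbp, mul_one])
      rw [← pow_mul] at h1 h2
      have h3 : x ^ (p * p) = 1 := by
        rw [add_mul, pow_add, h1, one_mul] at h2
        exact h2
      have hpj : ¬ p ∣ j := by
        rintro ⟨c, rfl⟩
        rw [pow_mul, hbp, one_pow] at hj
        exact hα1 hj.symm
      have hd1 : orderOf x ∣ j * p := orderOf_dvd_of_pow_eq_one h1
      have hd2 : orderOf x ∣ p * p := orderOf_dvd_of_pow_eq_one h3
      have hd3 : orderOf x ∣ Nat.gcd (j * p) (p * p) := Nat.dvd_gcd hd1 hd2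
      rw [Nat.gcd_mul_right, ((Nat.Prime.coprime_iff_not_dvd hp).2 hpj).symm.gcd_eq_one,
        one_mul] at hd3
      exact orderOf_dvd_iff_pow_eq_one.1 hd3
  have hnil := hHT.isNilpotent
  rw [← SemidirectProduct.range_inl_eq_ker_rightHom] at hnil
  haveI := hnil
  exact Group.nilpotent_of_mulEquiv
    (MonoidHom.ofInjective (SemidirectProduct.inl_injective (φ := φ))).symm

end Cfsg.Agent.S3946
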