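import Mathlib
import Cfsg.Statements.S3949

set_option autoImplicit false
open Cfsg

namespace Cfsg.Agent.S3949

/-- Let G be a finite group and α an automorphism of G of order 2 such that the elements g·α(g)⁻¹ generate G. Let j be a positive integer such that 2^j divides the order of no element inverted by α. Then the set of values of the j-th iterate of the map c ↦ c·α(c)⁻¹ is exactly the set of elements of odd order inverted by α. -/
theorem result {G : Type*} [Group G] [Finite G] (α : MulAut G) (hα : orderOf α = 2) (hG : Subgroup.closure (Set.range (fun c : G => c * (α c)⁻¹)) = ⊤)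
    (j : ℕ) (hj : ∀ g : G, α g = g⁻¹ → ¬ 2 ^ j ∣ orderOf g) :
    Set.range ((fun c : G => c * (α c)⁻¹)^[j]) = {g : G | Odd (orderOf g) ∧ α g = g⁻¹} := by
  have hα2 : ∀ c : G, α (α c) = c := by
    intro c
    have h : α ^ 2 = 1 := by rw [← hα]; exact pow_orderOf_eq_one α
    have := congrArg (fun β : MulAut G => β c) h
    simpa [pow_two] using this
  set f : G → G := fun c : G => c * (α c)⁻¹ with hf
  -- f maps into inverted elements
  have hfK : ∀ c : G, α (f c) = (f c)⁻¹ := by
    intro c
    simp only [hf, map_mul, map_inv, hα2, mul_inv_rev, inv_inv]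
  -- on inverted elements f is squaring
  have hfsq : ∀ k : G, α k = k⁻¹ → f k = k ^ 2 := by
    intro k hk
    simp only [hf, hk, inv_inv, pow_two]
  have hKpow : ∀ (k : G) (n : ℕ), α k = k⁻¹ → α (k ^ n) = (k ^ n)⁻¹ := by
    intro k n hk
    rw [map_pow, hk, inv_pow]
  have hiter : ∀ (i : ℕ) (k : G), α k = k⁻¹ → f^[i] k = k ^ (2 ^ i) := by
    intro i
    induction i with
    | zero => intro k _; simp
    | succ i ih =>
      intro k hk
      rw [Function.iterate_succ_apply, hfsq k hk, ih (k ^ 2) (hKpow k 2 hk), ← pow_mul, pow_succ,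
        mul_comm]
  -- j ≥ 1
  have hj1 : 1 ≤ j := by
    by_contra h
    have hj0 : j = 0 := by omega
    have := hj 1 (by simp)
    rw [hj0] at this
    simp at this
  ext x
  constructor
  · rintro ⟨c, rfl⟩
    obtain ⟨i, rfl⟩ : ∃ i, j = i + 1 := ⟨j - 1, by omega⟩
    rw [Function.iterate_succ_apply]
    change Odd (orderOf (f^[i] (f c))) ∧ α (f^[i] (f c)) = (f^[i] (f c))⁻¹
    set k := f c with hk
    have hkK : α k = k⁻¹ := hfK c
    rw [hiter i k hkK]
    refine ⟨?_, hKpow k _ hkK⟩
    obtain ⟨a, m, hm, ho⟩ := Nat.exists_eq_two_pow_mul_odd (orderOf_pos k).ne'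
    have ha : a < i + 1 := by
      by_contra hge
      apply hj k hkK
      rw [ho]
      exact (pow_dvd_pow 2 (by omega : i + 1 ≤ a)).trans (dvd_mul_right _ _)
    have hxm : (k ^ 2 ^ i) ^ m = 1 := by
      obtain ⟨d, hd⟩ : ∃ d, i = a + d := ⟨i - a, by omega⟩
      rw [← pow_mul, hd, pow_add]
      have : 2 ^ a * 2 ^ d * m = orderOf k * 2 ^ d := by rw [ho]; ring
      rw [this, pow_mul, pow_orderOf_eq_one, one_pow]
    exact Odd.of_dvd_nat hm (orderOf_dvd_of_pow_eq_one hxm)
  · rintro ⟨hodd, hxK⟩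
    -- find h inverted of odd order with h ^ (2^j) = x
    have key : ∀ (i : ℕ) (g : G), Odd (orderOf g) → α g = g⁻¹ →
        ∃ h : G, α h = h⁻¹ ∧ h ^ (2 ^ i) = g := by
      intro i
      induction i with
      | zero => intro g _ hg; exact ⟨g, hg, by simp⟩
      | succ i ih =>
        intro g hgo hgK
        obtain ⟨m, hm⟩ := hgo
        -- h' = g ^ (m+1), h'^2 = g
        have h2 : (g ^ (m + 1)) ^ 2 = g := by
          rw [← pow_mul]
          have : (m + 1) * 2 = orderOf g + 1 := by omega
          rw [this, pow_succ, pow_orderOf_eq_one, one_mul]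
        have hodd' : Odd (orderOf (g ^ (m + 1))) :=
          Odd.of_dvd_nat ⟨m, hm⟩ (orderOf_pow_dvd (m + 1))
        obtain ⟨h, hhK, hh⟩ := ih (g ^ (m + 1)) hodd' (hKpow g _ hgK)
        refine ⟨h, hhK, ?_⟩
        rw [pow_succ, pow_mul, hh, h2]
    obtain ⟨h, hhK, hh⟩ := key j x hodd hxK
    exact ⟨h, by rw [hiter j h hhK, hh]⟩

end Cfsg.Agent.S3949
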