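import Mathlib
import Cfsg.Statements.S3951
import Cfsg.Agent.Lib.Helper20.BiExt
import Cfsg.Agent.Lib.Helper20.StemAbelian2
import Cfsg.Agent.Lib.Helper20.ZModHom

set_option autoImplicit false
open Cfsg

namespace Cfsg.Agent.S3951

/-- the bimultiplicative pairing `((a, b), (a', b')) ↦ a * b'` -/
noncomputable def pairing (m n : ℕ) (hnm : n ∣ m) :
    Multiplicative (ZMod m × ZMod n) →* Multiplicative (ZMod m × ZMod n) →*
      Multiplicative (ZMod n) :=
  MonoidHom.mk' (fun g => MonoidHom.mk' (fun h => Multiplicative.ofAdd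
      (ZMod.castHom hnm (ZMod n) (Multiplicative.toAdd g).1 * (Multiplicative.toAdd h).2))
    (by
      intro a b
      simp only [toAdd_mul, Prod.snd_add, mul_add, ofAdd_add]))
    (by
      intro a b
      apply MonoidHom.ext
      intro h
      rw [MonoidHom.mul_apply]
      simp only [MonoidHom.mk'_apply, toAdd_mul, Prod.fst_add, map_add, add_mul, ofAdd_add])

theorem pairing_apply (m n : ℕ) (hnm : n ∣ m) (g h : Multiplicative (ZMod m × ZMod n)) :
    pairing m n hnm g h = Multiplicative.ofAdd
      (ZMod.castHom hnm (ZMod n) (Multiplicative.toAdd g).1 * (Multiplicative.toAdd h).2) := rfl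

/-- For positive integers `m` and `n` with `n` dividing `m`, the Schur multiplier of the abelian group `ZMod m × ZMod n` (written multiplicatively) is cyclic of order `n`. In particular the elementary abelian group of order `p ^ 2` has multiplier of order `p`. -/
theorem result (m n : ℕ) [NeZero m] [NeZero n] (hnm : n ∣ m) : Cfsg.HasCyclicSchurMultiplier (Multiplicative (ZMod m × ZMod n)) n := by
  set β := pairing m n hnm with hβ
  let g₀ : Multiplicative (ZMod m × ZMod n) := Multiplicative.ofAdd ((1, 0) : ZMod m × ZMod n)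
  let h₀ : Multiplicative (ZMod m × ZMod n) := Multiplicative.ofAdd ((0, 1) : ZMod m × ZMod n)
  refine ⟨⟨Helper20.BiExt β, inferInstance, inferInstance, Helper20.BiExt.proj β,
    ⟨Helper20.BiExt.proj_surjective β, Helper20.BiExt.ker_proj_le_center β, ?_⟩,
    ⟨Helper20.BiExt.kerEquiv β⟩⟩, ?_⟩
  · intro x hx
    rw [← Helper20.BiExt.range_incl] at hx
    obtain ⟨a, rfl⟩ := hx
    have h1 : β g₀ h₀ = Multiplicative.ofAdd (1 : ZMod n) := by
      rw [hβ, pairing_apply]
      simp only [g₀, h₀, toAdd_ofAdd, map_one, mul_one]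
    have h2 : β h₀ g₀ = 1 := by
      rw [hβ, pairing_apply]
      simp only [g₀, h₀, toAdd_ofAdd, map_zero, mul_zero, ofAdd_zero]
    have hc : Helper20.BiExt.incl β (Multiplicative.ofAdd (1 : ZMod n)) ∈
        commutator (Helper20.BiExt β) := by
      have := Helper20.BiExt.commutator_lift β (fun g h => mul_comm g h) g₀ h₀
      rw [h1, h2, inv_one, mul_one] at this
      rw [← this, commutator_def]
      exact Subgroup.commutator_mem_commutator (Subgroup.mem_top _) (Subgroup.mem_top _)
    have ha : a = (Multiplicative.ofAdd (1 : ZMod n)) ^ (Multiplicative.toAdd a).val := by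
      rw [← ofAdd_nsmul, nsmul_one, ZMod.natCast_zmod_val]
      rfl
    rw [ha, map_pow]
    exact Subgroup.pow_mem _ hc _
  · intro Γ _ _ σ hσ
    obtain ⟨s, hs⟩ := hσ.1 h₀
    obtain ⟨x₀, hx₀⟩ := hσ.1 g₀
    have hgen : ∀ x : Multiplicative (ZMod m × ZMod n), ∃ i j : ℤ, x = h₀ ^ i * g₀ ^ j := by
      intro x
      refine ⟨((Multiplicative.toAdd x).2.val : ℤ), ((Multiplicative.toAdd x).1.val : ℤ), ?_⟩
      apply Multiplicative.toAdd.injective
      rw [toAdd_mul, toAdd_zpow, toAdd_zpow]
      apply Prod.ext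
      · simp [g₀, h₀]
      · simp [g₀, h₀]
    obtain ⟨hck, hall⟩ := Helper20.stem_ker_le_zpowers_comm σ hσ g₀ h₀ hgen s x₀ hs hx₀
    have hsn : s ^ n ∈ Subgroup.center Γ := by
      apply hσ.2.1
      rw [MonoidHom.mem_ker, map_pow, hs]
      apply Multiplicative.toAdd.injective
      rw [toAdd_pow]
      apply Prod.ext
      · simp [h₀]
      · simp [h₀]
    have hcn := Helper20.comm_pow_eq_one_of_central s x₀ (hσ.2.1 hck) n hsn
    apply Helper20.exists_surjective_zmod_hom n (⟨_, hck⟩ : σ.ker)
    · apply Subtype.ext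
      rw [Subgroup.coe_pow]
      exact hcn
    · intro x
      obtain ⟨j, hj⟩ := Subgroup.mem_zpowers_iff.mp (hall x.1 x.2)
      rw [Subgroup.mem_zpowers_iff]
      refine ⟨j, ?_⟩
      apply Subtype.ext
      rw [Subgroup.coe_zpow]
      exact hj

end Cfsg.Agent.S3951
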