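import Mathlib
import Cfsg.Statements.S3955
import Cfsg.Agent.Lib.Helper20.ProjLift2

set_option autoImplicit false
open Cfsg

namespace Cfsg.Agent.S3955

open Cfsg.Agent.Helper20

/-- Let `Q` be a finite group with Schur multiplier `A`, and let `σ : Γ →* Q` be a finite stem extension whose kernel is isomorphic to `A` (a Schur covering group of `Q`). Then every homomorphism `γ` from `Q` to the quotient of `GL n ℂ` by its centre lifts along `σ`: there is a homomorphism `ρ : Γ →* GL n ℂ` which, followed by the quotient map, equals `γ ∘ σ`. -/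
theorem result {Q : Type*} [Group Q] [Finite Q] {A : Type*} [CommGroup A] (hA : Cfsg.HasSchurMultiplier Q A) {Γ : Type*} [Group Γ] [Finite Γ] (σ : Γ →* Q) (hσ : Cfsg.IsStemExtension σ) (hk : Nonempty (σ.ker ≃* A)) (n : ℕ) (γ : Q →* (GL (Fin n) ℂ ⧸ Subgroup.center (GL (Fin n) ℂ))) : ∃ ρ : Γ →* GL (Fin n) ℂ, (QuotientGroup.mk' (Subgroup.center (GL (Fin n) ℂ))).comp ρ = γ.comp σ := by
  obtain ⟨eA⟩ := nonempty_equiv_schurM hA
  obtain ⟨ek⟩ := hk
  obtain ⟨ηΓ, hηΓ⟩ := exists_uce_lift Q σ hσ.1 hσ.2.1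
  have hηΓs := uce_lift_surjective σ hσ ηΓ hηΓ
  have hker : ηΓ.ker ≤ (uceMap Q).ker := by
    intro s hs
    rw [MonoidHom.mem_ker] at hs ⊢
    rw [← hηΓ, MonoidHom.comp_apply, hs, map_one]
  have hdisj : ηΓ.ker ⊓ commutator (UCE Q) = ⊥ := by
    rw [eq_bot_iff]
    rintro s ⟨hs1, hs2⟩
    have hsM : s ∈ schurM Q := ⟨hker hs1, hs2⟩
    have hinj : Function.Injective (schurMToKer σ ηΓ hηΓ) := by
      have hsurj := schurMToKer_surjective σ hσ ηΓ hηΓ
      have hcard : Nat.card (schurM Q) = Nat.card σ.ker :=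
        Nat.card_congr (eA.trans ek.symm).toEquiv
      exact ((Nat.bijective_iff_surjective_and_card _).mpr ⟨hsurj, hcard⟩).1
    have h1 : schurMToKer σ ηΓ hηΓ ⟨s, hsM⟩ = schurMToKer σ ηΓ hηΓ 1 := by
      apply Subtype.ext
      rw [schurMToKer_coe, map_one]
      exact hs1
    have h2 := hinj h1
    rw [Subgroup.mem_bot]
    exact congrArg Subtype.val h2
  obtain ⟨ρ₁, hρ₁k, hρ₁⟩ := exists_lift_killing n γ ηΓ.ker hker hdisj
  refine ⟨MonoidHom.liftOfSurjective ηΓ hηΓs ⟨ρ₁, hρ₁k⟩, ?_⟩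
  apply MonoidHom.ext
  intro g
  obtain ⟨e, rfl⟩ := hηΓs g
  rw [MonoidHom.comp_apply, MonoidHom.comp_apply]
  have h3 : (MonoidHom.liftOfSurjective ηΓ hηΓs ⟨ρ₁, hρ₁k⟩) (ηΓ e) = ρ₁ e :=
    MonoidHom.liftOfRightInverse_comp_apply ηΓ _ _ ⟨ρ₁, hρ₁k⟩ e
  rw [h3, ← MonoidHom.comp_apply σ, hηΓ]
  exact DFunLike.congr_fun hρ₁ e

end Cfsg.Agent.S3955
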