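import Mathlib
import Cfsg.Statements.S3956
import Cfsg.Agent.Lib.Helper20.ProjRep
import Cfsg.Agent.Lib.Helper20.SchurCover4

set_option autoImplicit false
universe u v
open Cfsg

namespace Cfsg.Agent.S3956

open Cfsg.Agent.Helper20

/-- Let `σ : Γ →* Q` be a finite stem extension of the finite group `Q` such that every homomorphism from `Q` to the quotient of `GL n ℂ` by its centre, for every `n`, lifts along `σ` to a homomorphism `Γ →* GL n ℂ`. Then `σ` is a Schur covering group of `Q`: for every finite stem extension `τ : Δ →* Q` with `Δ` in the same universe as `Q`, the kernel of `τ` is a homomorphic image of the kernel of `σ`. -/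
theorem result {Q : Type u} [Group Q] [Finite Q] {Γ : Type v} [Group Γ] [Finite Γ] (σ : Γ →* Q) (hσ : Cfsg.IsStemExtension σ) (hlift : ∀ (n : ℕ) (γ : Q →* (GL (Fin n) ℂ ⧸ Subgroup.center (GL (Fin n) ℂ))), ∃ ρ : Γ →* GL (Fin n) ℂ, (QuotientGroup.mk' (Subgroup.center (GL (Fin n) ℂ))).comp ρ = γ.comp σ) (Δ : Type u) [Group Δ] [Finite Δ] (τ : Δ →* Q) (hτ : Cfsg.IsStemExtension τ) : ∃ π : σ.ker →* τ.ker, Function.Surjective π := by
  obtain ⟨ησ, hησ⟩ := exists_uce_lift Q σ hσ.1 hσ.2.1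
  obtain ⟨ητ, hητ⟩ := exists_uce_lift Q τ hτ.1 hτ.2.1
  have key : ∀ m ∈ schurM Q, ησ m = 1 → ητ m = 1 := by
    intro m hm h1
    by_contra hne
    have ha : ητ m ∈ τ.ker := uce_lift_mem_ker τ ητ hητ (schurM_le_ker Q hm)
    obtain ⟨n, γ, ρΔ, hρΔ, hρΔa⟩ := exists_projective_rep τ hτ.1 hτ.2.1 (ητ m) ha hne
    obtain ⟨ρ, hρ⟩ := hlift n γ
    have hcomp : (QuotientGroup.mk' (Subgroup.center (GL (Fin n) ℂ))).comp (ρΔ.comp ητ) =
        (QuotientGroup.mk' (Subgroup.center (GL (Fin n) ℂ))).comp (ρ.comp ησ) := by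
      rw [← MonoidHom.comp_assoc, ← MonoidHom.comp_assoc, hρΔ, hρ, MonoidHom.comp_assoc,
        MonoidHom.comp_assoc, hητ, hησ]
    have h2 := hom_eq_on_commutator_of_eq_mod_center (ρΔ.comp ητ) (ρ.comp ησ)
      (mul_inv_mem_center_of_comp_eq _ _ hcomp) m (schurM_le_commutator Q hm)
    rw [MonoidHom.comp_apply, MonoidHom.comp_apply, h1, map_one] at h2
    exact hρΔa h2
  let fσ := schurMToKer σ ησ hησ
  let fτ := schurMToKer τ ητ hητ
  have hfσ : Function.Surjective fσ := schurMToKer_surjective σ hσ ησ hησ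
  have hfτ : Function.Surjective fτ := schurMToKer_surjective τ hτ ητ hητ
  have hker : fσ.ker ≤ fτ.ker := by
    intro m hm
    rw [MonoidHom.mem_ker] at hm ⊢
    have h1 : ησ m = 1 := congrArg Subtype.val hm
    apply Subtype.ext
    exact key m m.2 h1
  refine ⟨MonoidHom.liftOfSurjective fσ hfσ ⟨fτ, hker⟩, ?_⟩
  intro k
  obtain ⟨m, rfl⟩ := hfτ k
  refine ⟨fσ m, ?_⟩
  exact MonoidHom.liftOfRightInverse_comp_apply fσ _ _ ⟨fτ, hker⟩ m

end Cfsg.Agent.S3956
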