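import Mathlib
import Cfsg.Statements.S3957
import Cfsg.Agent.Lib.Helper20.SchurCover3

set_option autoImplicit false
universe u v
open Cfsg

namespace Cfsg.Agent.S3957

open Cfsg.Agent.Helper20

/-- Let `Q` be a finite group with Schur multiplier `A` and let `τ : Δ →* Q` be a finite stem extension, `Δ` in the universe of `Q`. Then there is a finite stem extension `σ : Γ →* Q` with kernel isomorphic to `A` (a Schur covering group) and a surjective homomorphism `β : Γ →* Δ` with `τ ∘ β = σ`. -/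
theorem result {Q : Type u} [Group Q] [Finite Q] {A : Type v} [CommGroup A] (hA : Cfsg.HasSchurMultiplier Q A) {Δ : Type u} [Group Δ] [Finite Δ] (τ : Δ →* Q) (hτ : Cfsg.IsStemExtension τ) : ∃ (Γ : Type u) (_ : Group Γ) (_ : Finite Γ) (σ : Γ →* Q), Cfsg.IsStemExtension σ ∧ Nonempty (σ.ker ≃* A) ∧ ∃ β : Γ →* Δ, Function.Surjective β ∧ τ.comp β = σ := by
  obtain ⟨η, hη⟩ := exists_uce_lift Q τ hτ.1 hτ.2.1
  have hηs := uce_lift_surjective τ hτ η hη
  obtain ⟨S, hS1, hS2, hS3⟩ :=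
    exists_complement_in_ker Q ((uceMap Q).ker ⊓ η.ker) inf_le_left
  have hS : IsSchurCompl Q S := by
    refine ⟨le_trans hS1 inf_le_left, hS2, ?_⟩
    intro x hx
    obtain ⟨m, hm, hmx⟩ := exists_schurM_of_mem_ker τ hτ η hη (uce_lift_mem_ker τ η hη hx)
    have h1 : x * m⁻¹ ∈ (uceMap Q).ker ⊓ η.ker := by
      refine ⟨Subgroup.mul_mem _ hx (Subgroup.inv_mem _ (schurM_le_ker Q hm)), ?_⟩
      change x * m⁻¹ ∈ η.ker
      rw [MonoidHom.mem_ker, map_mul, map_inv, hmx, mul_inv_cancel]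
    obtain ⟨s, hs, k, hk, hxsk⟩ := hS3 _ h1
    refine ⟨s, hs, k * m, ?_, ?_⟩
    · exact Subgroup.mul_mem _ ⟨hk.1.1, hk.2⟩ hm
    · rw [← mul_assoc, ← hxsk]
      group
  have := hS.normal
  have hSker : S ≤ η.ker := le_trans hS1 inf_le_right
  obtain ⟨e₁⟩ := nonempty_ker_coverMap_equiv hS
  obtain ⟨e₂⟩ := nonempty_equiv_schurM hA
  refine ⟨UCE Q ⧸ S, inferInstance, finite_cover hS, coverMap S hS.le, coverMap_isStem hS,
    ⟨e₁.trans e₂⟩, QuotientGroup.lift S η hSker, ?_, ?_⟩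
  · intro d
    obtain ⟨e, rfl⟩ := hηs d
    exact ⟨(e : UCE Q ⧸ S), rfl⟩
  · apply MonoidHom.ext
    intro x
    obtain ⟨e, rfl⟩ := QuotientGroup.mk_surjective x
    rw [MonoidHom.comp_apply, QuotientGroup.lift_mk, coverMap_mk, ← hη, MonoidHom.comp_apply]

end Cfsg.Agent.S3957
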