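import Mathlib
import Cfsg.Statements.S3958
import Cfsg.Agent.Lib.Helper20.SchurCover4

set_option autoImplicit false
universe u v
open Cfsg

namespace Cfsg.Agent.S3958

open Cfsg.Agent.Helper20

/-- Let `σ : Γ →* Q` be a finite stem extension of the finite group `Q` with `Γ` of trivial Schur multiplier. Then `σ` is a Schur covering group of `Q`: for every finite stem extension `τ : Δ →* Q` with `Δ` in the same universe as `Q`, the kernel of `τ` is a homomorphic image of the kernel of `σ`. -/
theorem result {Q : Type u} [Group Q] [Finite Q] {Γ : Type v} [Group Γ] [Finite Γ] (σ : Γ →* Q) (hσ : Cfsg.IsStemExtension σ) (hΓ : Cfsg.HasCyclicSchurMultiplier Γ 1) (Δ : Type u) [Group Δ] [Finite Δ] (τ : Δ →* Q) (hτ : Cfsg.IsStemExtension τ) : ∃ π : σ.ker →* τ.ker, Function.Surjective π := by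
  obtain ⟨ησ, hησ⟩ := exists_uce_lift Q σ hσ.1 hσ.2.1
  obtain ⟨ητ, hητ⟩ := exists_uce_lift Q τ hτ.1 hτ.2.1
  -- the fibre product and the induced map
  have hcomm : σ.comp ησ = τ.comp ητ := by rw [hησ, hητ]
  let ζ : UCE Q →* fiberProd σ τ := fiberProdLift σ τ ησ ητ hcomm
  have hbot := ker_inf_commutator_eq_bot_of_trivial hΓ (fiberProdFst σ τ)
    (fiberProdFst_surjective σ τ hτ.1) (fiberProdFst_ker_le_center σ τ hτ.2.1)
  -- key: elements of the multiplier killed by `ησ` are killed by `ητ`
  have key : ∀ m ∈ schurM Q, ησ m = 1 → ητ m = 1 := by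
    intro m hm h1
    have h2 : ζ m ∈ (fiberProdFst σ τ).ker ⊓ commutator (fiberProd σ τ) := by
      constructor
      · change ζ m ∈ (fiberProdFst σ τ).ker
        rw [MonoidHom.mem_ker]
        exact h1
      · have h3 : (commutator (UCE Q)).map ζ ≤ commutator (fiberProd σ τ) := by
          rw [commutator_def, Subgroup.map_commutator, commutator_def]
          exact Subgroup.commutator_mono le_top le_top
        exact h3 ⟨m, schurM_le_commutator Q hm, rfl⟩
    rw [hbot, Subgroup.mem_bot] at h2
    have h4 : fiberProdSnd σ τ (ζ m) = 1 := by rw [h2, map_one]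
    exact h4
  let fσ := schurMToKer σ ησ hησ
  let fτ := schurMToKer τ ητ hητ
  have hfσ : Function.Surjective fσ := schurMToKer_surjective σ hσ ησ hησ
  have hfτ : Function.Surjective fτ := schurMToKer_surjective τ hτ ητ hητ
  have hker : fσ.ker ≤ fτ.ker := by
    intro m hm
    rw [MonoidHom.mem_ker] at hm ⊢
    have h1 : ησ m = 1 := congrArg Subtype.val hm
    apply Subtype.ext
    exact key m m.2 h1
  refine ⟨MonoidHom.liftOfSurjective fσ hfσ ⟨fτ, hker⟩, ?_⟩
  intro k
  obtain ⟨m, rfl⟩ := hfτ k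
  refine ⟨fσ m, ?_⟩
  exact MonoidHom.liftOfRightInverse_comp_apply fσ _ _ ⟨fτ, hker⟩ m

end Cfsg.Agent.S3958
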