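import Mathlib
import Cfsg.Statements.S3959
import Cfsg.Agent.Lib.Helper20.ProdPairing

set_option autoImplicit false
universe u v w
open Cfsg

namespace Cfsg.Agent.S3959

open Cfsg.Agent.Helper20

/-- Let `Q₁` and `Q₂` be finite groups with Schur multipliers `A` and `B`. Then the Schur multiplier of `Q₁ × Q₂` is isomorphic to `A × B × (Q₁ᵃᵇ ⊗ Q₂ᵃᵇ)`, the last factor being the tensor product over the integers of the commutator quotients, written multiplicatively. -/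
theorem result {Q₁ : Type u} {Q₂ : Type v} [Group Q₁] [Group Q₂] [Finite Q₁] [Finite Q₂] {A B : Type w} [CommGroup A] [CommGroup B] (hA : Cfsg.HasSchurMultiplier Q₁ A) (hB : Cfsg.HasSchurMultiplier Q₂ B) : Cfsg.HasSchurMultiplier (Q₁ × Q₂) (A × B × Multiplicative (TensorProduct ℤ (Additive (Abelianization Q₁)) (Additive (Abelianization Q₂)))) := by
  obtain ⟨f₁⟩ := nonempty_equiv_schurM hA
  obtain ⟨f₂⟩ := nonempty_equiv_schurM hB
  constructor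
  · obtain ⟨⟨Γ₁, _, _, σ₁, hσ₁, ⟨e₁⟩⟩, _⟩ := hA
    obtain ⟨⟨Γ₂, _, _, σ₂, hσ₂, ⟨e₂⟩⟩, _⟩ := hB
    exact ⟨ProdCover σ₁ σ₂, inferInstance, inferInstance, prodCoverMap σ₁ σ₂,
      prodCoverMap_isStem σ₁ σ₂ hσ₁ hσ₂,
      ⟨(prodCoverKerEquiv σ₁ σ₂).trans
        (MulEquiv.prodCongr e₁ (MulEquiv.prodCongr e₂ (MulEquiv.refl _)))⟩⟩
  · intro Δ _ _ τ hτ
    obtain ⟨η₁, hη₁⟩ := exists_uce_lift Q₁ (prodLeftMap τ) (prodLeftMap_surjective τ hτ.1)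
      (prodLeftMap_ker_le_center τ hτ.2.1)
    obtain ⟨η₂, hη₂⟩ := exists_uce_lift Q₂ (prodRightMap τ) (prodRightMap_surjective τ hτ.1)
      (prodRightMap_ker_le_center τ hτ.2.1)
    obtain ⟨gT, hgT1, hgT2⟩ := exists_tensor_hom_commutator τ hτ.1 hτ.2.1
    let _ : CommGroup τ.ker := kerCommGroup τ hτ.2.1
    let gT' : Multiplicative (AbT Q₁ Q₂) →* τ.ker :=
      gT.codRestrict τ.ker (fun t => hgT1 ⟨t, rfl⟩)
    let g : schurM Q₁ × schurM Q₂ × Multiplicative (AbT Q₁ Q₂) →* τ.ker :=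
      MonoidHom.coprod (schurMLeft τ η₁ hη₁) (MonoidHom.coprod (schurMRight τ η₂ hη₂) gT')
    have hg : Function.Surjective g := by
      rintro ⟨k, hk⟩
      obtain ⟨d₁, hd₁, c, hc, d₂, hd₂, hkd⟩ := exists_decomp_of_mem_ker τ hτ hk
      obtain ⟨t, ht⟩ := hgT2 hc
      obtain ⟨m₁, hm₁, hmd₁⟩ := exists_schurM_left τ hτ.2.1 η₁ hη₁ hd₁
      obtain ⟨m₂, hm₂, hmd₂⟩ := exists_schurM_right τ hτ.2.1 η₂ hη₂ hd₂
      refine ⟨(⟨m₁, hm₁⟩, ⟨m₂, hm₂⟩, t), ?_⟩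
      apply Subtype.ext
      rw [MonoidHom.coprod_apply, MonoidHom.coprod_apply]
      change ((schurMLeft τ η₁ hη₁ ⟨m₁, hm₁⟩ : τ.ker) : Δ) *
        (((schurMRight τ η₂ hη₂ ⟨m₂, hm₂⟩ : τ.ker) : Δ) * gT t) = k
      rw [schurMLeft_coe, schurMRight_coe, hmd₁, hmd₂, hkd, ht]
      have hcz := Subgroup.mem_center_iff.mp
        (hτ.2.1 (commutator_prodLeft_prodRight_le_ker τ hc)) d₂
      rw [hcz, mul_assoc]
    refine ⟨g.comp (MulEquiv.prodCongr f₁.symm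
      (MulEquiv.prodCongr f₂.symm (MulEquiv.refl _))).toMonoidHom, ?_⟩
    intro k
    obtain ⟨x, hx⟩ := hg k
    refine ⟨(f₁ x.1, f₂ x.2.1, x.2.2), ?_⟩
    rw [MonoidHom.comp_apply]
    rw [← hx]
    congr 1
    refine Prod.ext ?_ (Prod.ext ?_ ?_)
    · exact f₁.symm_apply_apply _
    · exact f₂.symm_apply_apply _
    · rfl

end Cfsg.Agent.S3959
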