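import Mathlib
import Cfsg.Statements.S3960
import Cfsg.Agent.Lib.Helper20.UCE
import Cfsg.Agent.Lib.Helper20.PerfectCover

set_option autoImplicit false
open Cfsg

universe u

namespace Cfsg.Agent.S3960

/-- A finite perfect group `Q` has a universal central extension: a finite perfect group `G` in the universe of `Q` and a surjective homomorphism `π : G →* Q` with central kernel such that for every group `X` in that universe and every surjective homomorphism `ξ : X →* Q` with central kernel there is exactly one homomorphism `η : G →* X` with `ξ ∘ η = π`. -/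
theorem result {Q : Type u} [Group Q] [Finite Q] (hQ : Group.IsPerfect Q) : ∃ (G : Type u) (_ : Group G) (_ : Finite G) (π : G →* Q), Group.IsPerfect G ∧ Function.Surjective π ∧ π.ker ≤ Subgroup.center G ∧ ∀ (X : Type u) [Group X] (ξ : X →* Q), Function.Surjective ξ → ξ.ker ≤ Subgroup.center X → ∃! η : G →* X, ξ.comp η = π := by
  have hperf : Group.IsPerfect (commutator (Helper20.UCE Q)) :=
    Helper20.isPerfect_commutator_of_central (Helper20.uceMap Q) (Helper20.uceMap_surjective Q)
      (Helper20.uceMap_ker_le_center Q)
  refine ⟨↥(commutator (Helper20.UCE Q)), inferInstance, Helper20.uce_finite_commutator Q,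
    (Helper20.uceMap Q).comp (commutator (Helper20.UCE Q)).subtype, hperf, ?_, ?_, ?_⟩
  · intro q
    obtain ⟨x, hx, hxq⟩ := Helper20.commutator_map_surjective (Helper20.uceMap Q)
      (Helper20.uceMap_surjective Q) q
    exact ⟨⟨x, hx⟩, hxq⟩
  · intro x hx
    rw [MonoidHom.mem_ker, MonoidHom.comp_apply] at hx
    have hx' : (x : Helper20.UCE Q) ∈ (Helper20.uceMap Q).ker := hx
    have hc := Subgroup.mem_center_iff.mp (Helper20.uceMap_ker_le_center Q hx')
    rw [Subgroup.mem_center_iff]
    intro y
    exact Subtype.ext (hc (y : Helper20.UCE Q))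
  · intro X _ ξ hξ hc
    obtain ⟨η, hη⟩ := Helper20.exists_uce_lift Q ξ hξ hc
    refine ⟨η.comp (commutator (Helper20.UCE Q)).subtype, ?_, ?_⟩
    · change ξ.comp (η.comp (commutator (Helper20.UCE Q)).subtype) = _
      rw [← MonoidHom.comp_assoc, hη]
    · intro η' hη'
      apply Helper20.hom_eq_of_perfect_of_central ξ hc
      rw [hη']
      rw [← MonoidHom.comp_assoc, hη]

end Cfsg.Agent.S3960
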