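import Mathlib
import Cfsg.Statements.S3961
import Cfsg.Agent.Lib.Helper20.Schur
import Cfsg.Agent.Lib.Helper20.UCE
import Cfsg.Agent.Lib.Helper20.PerfectCover
import Cfsg.Agent.Lib.Helper20.PerfectCover2

set_option autoImplicit false
universe u v
open Cfsg

namespace Cfsg.Agent.S3961

/-- Let `π : G →* Q` be a surjective homomorphism with central kernel from a finite perfect group `G` (a perfect cover of `Q`). Then `π` is universal, in the sense that every surjective homomorphism `ξ : X →* Q` with central kernel from a group `X` in the universe of `G` admits a homomorphism `η : G →* X` with `ξ ∘ η = π`, if and only if `G` has trivial Schur multiplier. -/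
theorem result {G : Type u} {Q : Type v} [Group G] [Group Q] [Finite G] (hG : Group.IsPerfect G) (π : G →* Q) (hπ : Function.Surjective π) (hker : π.ker ≤ Subgroup.center G) : (∀ (X : Type u) [Group X] (ξ : X →* Q), Function.Surjective ξ → ξ.ker ≤ Subgroup.center X → ∃ η : G →* X, ξ.comp η = π) ↔ Cfsg.HasCyclicSchurMultiplier G 1 := by
  constructor
  · intro huniv
    apply Helper20.hasCyclicSchurMultiplier_one_of_forall_ker_eq_bot
    intro Γ _ _ τ hτ
    obtain ⟨hτs, hτc, hτd⟩ := hτ
    have hΓ : Group.IsPerfect Γ := Helper20.isPerfect_of_stem τ hτs hτd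
    have hcc : (π.comp τ).ker ≤ Subgroup.center Γ :=
      Helper20.ker_comp_le_center_of_perfect τ π hτc hker
    obtain ⟨η, hη⟩ := huniv Γ (π.comp τ) (hπ.comp hτs) hcc
    have hid : τ.comp η = MonoidHom.id G := by
      apply Helper20.hom_eq_of_perfect_of_central π hker
      rw [← MonoidHom.comp_assoc, hη, MonoidHom.comp_id]
    have hid' : ∀ g : G, τ (η g) = g := fun g => by
      rw [← MonoidHom.comp_apply, hid, MonoidHom.id_apply]
    have hle : commutator Γ ≤ ⁅η.range, η.range⁆ := by
      apply Helper20.commutator_le_of_central_supplement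
      intro x
      refine ⟨η (τ x), ⟨τ x, rfl⟩, (η (τ x))⁻¹ * x, ?_, by group⟩
      apply hτc
      rw [MonoidHom.mem_ker, map_mul, map_inv, hid', inv_mul_cancel]
    rw [eq_bot_iff]
    intro k hk
    have hrr : ⁅η.range, η.range⁆ ≤ η.range := by
      rw [Subgroup.commutator_le]
      intro a ha b hb
      rw [commutatorElement_def]
      exact η.range.mul_mem (η.range.mul_mem (η.range.mul_mem ha hb) (η.range.inv_mem ha))
        (η.range.inv_mem hb)
    have h1 : k ∈ η.range := hrr (hle (hτd hk))
    obtain ⟨g, rfl⟩ := h1
    rw [MonoidHom.mem_ker, hid'] at hk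
    rw [hk, map_one]
    exact Subgroup.one_mem _
  · intro hM X _ ξ hξ hc
    -- the pullback
    let P := Helper20.pullback π ξ
    let p₁ : P →* G := Helper20.pullbackFst π ξ
    have hp₁s : Function.Surjective p₁ := Helper20.pullbackFst_surjective π ξ hξ
    have hp₁c : p₁.ker ≤ Subgroup.center P := Helper20.pullbackFst_ker_le_center π ξ hc
    have hfi : p₁.ker.FiniteIndex := by
      constructor
      rw [Subgroup.index_ker, MonoidHom.range_eq_top_of_surjective _ hp₁s]
      have : Nat.card (⊤ : Subgroup G) = Nat.card G := Subgroup.card_top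
      rw [this]
      exact Nat.card_pos.ne'
    have hfin : Finite (commutator P) :=
      Helper20.finite_commutator_of_central_finiteIndex P p₁.ker hp₁c
    have hperf : Group.IsPerfect (commutator P) :=
      Helper20.isPerfect_commutator_of_central p₁ hp₁s hp₁c
    let σ : commutator P →* G := p₁.comp (commutator P).subtype
    have hσs : Function.Surjective σ := by
      intro g
      obtain ⟨x, hx, hxg⟩ := Helper20.commutator_map_surjective p₁ hp₁s g
      exact ⟨⟨x, hx⟩, hxg⟩
    have hσstem : Cfsg.IsStemExtension σ := by
      refine ⟨hσs, ?_, ?_⟩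
      · intro x hx
        have hx' : (x : P) ∈ p₁.ker := hx
        have hz := Subgroup.mem_center_iff.mp (hp₁c hx')
        rw [Subgroup.mem_center_iff]
        intro y
        exact Subtype.ext (hz (y : P))
      · rw [hperf.commutator_eq_top]
        exact le_top
    obtain ⟨π', hπ'⟩ := hM.2 (commutator P) σ hσstem
    have hσinj : Function.Injective σ := by
      rw [← MonoidHom.ker_eq_bot_iff, eq_bot_iff]
      intro k hk
      obtain ⟨a, ha⟩ := hπ' ⟨k, hk⟩
      have ha1 : a = 1 := by
        have : Subsingleton (Multiplicative (ZMod 1)) := by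
          have : Subsingleton (ZMod 1) := by
            change Subsingleton (Fin 1)
            infer_instance
          exact inferInstanceAs (Subsingleton (ZMod 1))
        exact Subsingleton.elim _ _
      rw [ha1, map_one] at ha
      have : k = 1 := (congrArg Subtype.val ha).symm
      rw [this]
      exact Subgroup.one_mem _
    let e : commutator P ≃* G := MulEquiv.ofBijective σ ⟨hσinj, hσs⟩
    refine ⟨((Helper20.pullbackSnd π ξ).comp (commutator P).subtype).comp e.symm.toMonoidHom, ?_⟩
    apply MonoidHom.ext
    intro g
    change ξ (Helper20.pullbackSnd π ξ ((e.symm g : commutator P) : P)) = π g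
    rw [← Helper20.pullback_comm]
    have : σ (e.symm g) = g := e.apply_symm_apply g
    change π (σ (e.symm g)) = π g
    rw [this]

end Cfsg.Agent.S3961
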