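import Mathlib
import Cfsg.Statements.S3962

set_option autoImplicit false
open Cfsg

namespace Cfsg.Agent.S3962

/-- Let `G` be a perfect group and `π : G →* Q` a surjective homomorphism whose kernel is central. Then `π` maps the centre of `G` onto the centre of `Q`. Taking `π` to be the map to `G ⧸ Z(G)` shows that the central quotient of a perfect group has trivial centre. -/
theorem result {G Q : Type*} [Group G] [Group Q] (hG : Group.IsPerfect G) (π : G →* Q) (hπ : Function.Surjective π) (hker : π.ker ≤ Subgroup.center G) : (Subgroup.center G).map π = Subgroup.center Q := by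
  apply le_antisymm
  · rintro _ ⟨z, hz, rfl⟩
    rw [Subgroup.mem_center_iff]
    intro q
    obtain ⟨g, rfl⟩ := hπ q
    rw [← map_mul, ← map_mul, (Subgroup.mem_center_iff.mp hz g)]
  · intro c hc
    obtain ⟨z, rfl⟩ := hπ c
    refine ⟨z, ?_, rfl⟩
    -- the map g ↦ z g z⁻¹ g⁻¹ is a homomorphism to the (commutative) centre
    have hcomm : ∀ g : G, z * g * z⁻¹ * g⁻¹ ∈ Subgroup.center G := by
      intro g
      apply hker
      rw [MonoidHom.mem_ker]
      have := Subgroup.mem_center_iff.mp hc (π g)
      simp only [map_mul, map_inv]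
      rw [← this]
      group
    let φ : G →* Subgroup.center G :=
      { toFun := fun g => ⟨z * g * z⁻¹ * g⁻¹, hcomm g⟩
        map_one' := by ext; simp
        map_mul' := by
          intro g h
          ext
          simp only [Subgroup.coe_mul]
          have h1 := Subgroup.mem_center_iff.mp (hcomm h) g⁻¹
          -- z g h z⁻¹ h⁻¹ g⁻¹ = (z g z⁻¹ g⁻¹) (z h z⁻¹ h⁻¹)
          calc z * (g * h) * z⁻¹ * (g * h)⁻¹
              = z * g * z⁻¹ * ((z * h * z⁻¹ * h⁻¹) * g⁻¹) := by group
            _ = z * g * z⁻¹ * (g⁻¹ * (z * h * z⁻¹ * h⁻¹)) := by rw [h1]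
            _ = z * g * z⁻¹ * g⁻¹ * (z * h * z⁻¹ * h⁻¹) := by group }
    have hφ : ∀ g : G, φ g = 1 := by
      intro g
      have hker' : commutator G ≤ φ.ker := by
        rw [commutator_def, Subgroup.commutator_le]
        intro a _ b _
        rw [MonoidHom.mem_ker, map_commutatorElement, commutatorElement_def]
        have hab : φ a * φ b = φ b * φ a :=
          Subtype.ext (Subgroup.mem_center_iff.mp (φ b).2 (φ a).1)
        rw [hab]
        group
      have : g ∈ commutator G := by
        rw [hG.commutator_eq_top]; trivial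
      exact hker' this
    show z ∈ Subgroup.center G
    rw [Subgroup.mem_center_iff]
    intro g
    have := congrArg Subtype.val (hφ g)
    simp only [φ, MonoidHom.coe_mk, OneHom.coe_mk, Subgroup.coe_one] at this
    -- z g z⁻¹ g⁻¹ = 1 → g z = z g
    have h2 : z * g = g * z := by
      calc z * g = (z * g * z⁻¹ * g⁻¹) * (g * z) := by group
        _ = g * z := by rw [this, one_mul]
    exact h2.symm

end Cfsg.Agent.S3962
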