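import Mathlib
import Cfsg.Statements.S3963
import Cfsg.Agent.Lib.Helper20.Schur
import Cfsg.Agent.Lib.Helper20.StemCyclic
import Cfsg.Agent.Lib.Helper20.StemBasic
import Cfsg.Agent.Lib.Helper20.QuaternionRot

set_option autoImplicit false
open Cfsg

namespace Cfsg.Agent.S3963

open QuaternionGroup

/-- For every `n ≥ 1` the dicyclic (generalized quaternion) group of order `4 n` has trivial Schur multiplier. -/
theorem result (n : ℕ) [NeZero n] : Cfsg.HasCyclicSchurMultiplier (QuaternionGroup n) 1 := by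
  apply Helper20.hasCyclicSchurMultiplier_one_of_forall_ker_eq_bot
  intro Γ _ _ σ hσ
  obtain ⟨s, hs⟩ := hσ.1 (xa 0)
  rw [eq_bot_iff]
  intro k hk
  obtain ⟨r₀, hr₀C, hkr, hcomm⟩ := Helper20.stem_ker_eq_comm σ hσ (Helper20.quatRot n) (xa 0)
    (Helper20.exists_zpow_mul_mem_quatRot n) s hs k hk
  obtain ⟨i, hi⟩ := (Helper20.mem_quatRot_iff n _).mp hr₀C
  rw [hi] at hcomm
  have h2 := Helper20.quat_two_mul_eq_zero_of_commute n i hcomm
  rw [Subgroup.mem_bot, hkr]
  by_cases hi0 : i = 0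
  · rw [hi0, a_zero] at hi
    exact Helper20.comm_eq_one_of_map_eq_one σ hσ.2.1 s r₀ hi
  · have hin : i = ((n : ℕ) : ZMod (2 * n)) :=
      Helper20.zmod_eq_of_two_mul_eq_zero (2 * n) i _ h2 (Helper20.quat_two_mul_natCast n) hi0
        (Helper20.quat_natCast_ne_zero n)
    have hss : σ (s * s) = a ((n : ℕ) : ZMod (2 * n)) := by
      rw [map_mul, hs, xa_mul_xa, add_zero, sub_zero]
    have h3 : σ r₀ = σ (s * s) := by rw [hi, hin, hss]
    rw [Helper20.comm_eq_of_map_eq σ hσ.2.1 s r₀ (s * s) h3]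
    group

end Cfsg.Agent.S3963
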