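import Mathlib
import Cfsg.Statements.S3964
import Cfsg.Agent.Lib.Helper20.Schur
import Cfsg.Agent.Lib.Helper20.StemCyclic
import Cfsg.Agent.Lib.Helper20.DihedralRot

set_option autoImplicit false
open Cfsg

namespace Cfsg.Agent.S3964

open DihedralGroup

/-- For odd `n` the dihedral group of order `2 n` has trivial Schur multiplier. -/
theorem result (n : ℕ) (hn : Odd n) : Cfsg.HasCyclicSchurMultiplier (DihedralGroup n) 1 := by
  have hn0 : NeZero n := ⟨by rintro rfl; exact absurd hn (by decide)⟩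
  apply Helper20.hasCyclicSchurMultiplier_one_of_forall_ker_eq_bot
  intro Γ _ _ σ hσ
  obtain ⟨s, hs⟩ := hσ.1 (sr 0)
  rw [eq_bot_iff]
  intro k hk
  obtain ⟨r₀, hr₀C, hkr, hcomm⟩ := Helper20.stem_ker_eq_comm σ hσ (Helper20.rotSubgroup n) (sr 0)
    (Helper20.exists_zpow_mul_mem_rotSubgroup n) s hs k hk
  obtain ⟨i, hi⟩ := (Helper20.mem_rotSubgroup_iff n _).mp hr₀C
  rw [hi] at hcomm
  have h2 := Helper20.two_mul_eq_zero_of_commute n i hcomm
  -- i = 0 since n is odd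
  have hi0 : i = 0 := by
    obtain ⟨m, hm⟩ := hn
    have h3 : ((m + 1 : ℕ) : ZMod n) * 2 = 1 := by
      have : ((m + 1 : ℕ) : ZMod n) * 2 = ((n + 1 : ℕ) : ZMod n) := by
        rw [hm]; push_cast; ring
      rw [this]
      push_cast
      rw [ZMod.natCast_self, zero_add]
    calc i = 1 * i := (one_mul i).symm
      _ = ((m + 1 : ℕ) : ZMod n) * 2 * i := by rw [h3]
      _ = ((m + 1 : ℕ) : ZMod n) * (2 * i) := by ring
      _ = 0 := by rw [h2, mul_zero]
  rw [hi0, r_zero] at hi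
  have hr₀ker : r₀ ∈ σ.ker := MonoidHom.mem_ker.mpr hi
  have hr₀c : r₀ ∈ Subgroup.center Γ := hσ.2.1 hr₀ker
  rw [Subgroup.mem_bot, hkr]
  rw [Subgroup.mem_center_iff] at hr₀c
  rw [hr₀c s, mul_assoc r₀ s, mul_inv_cancel, mul_one, mul_inv_cancel]

end Cfsg.Agent.S3964
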