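import Mathlib
import Cfsg.Statements.S3966

set_option autoImplicit false
open Cfsg

namespace Cfsg.Agent.S3966

open QuaternionGroup DihedralGroup
open scoped commutatorElement

/-- reduction mod `n` -/
def c (n : ℕ) : ZMod (2 * n) →+* ZMod n := ZMod.castHom (Dvd.intro_left 2 rfl : n ∣ 2 * n) (ZMod n)

theorem c_n (n : ℕ) : c n (n : ZMod (2 * n)) = 0 := by
  rw [map_natCast, ZMod.natCast_self]

/-- the underlying map -/
def σfun (n : ℕ) : QuaternionGroup n → DihedralGroup n
  | a i => r (c n i)
  | xa i => sr (c n i)

/-- the covering homomorphism -/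
def σ (n : ℕ) : QuaternionGroup n →* DihedralGroup n :=
  MonoidHom.mk' (σfun n) (by
    rintro (i | i) (j | j) <;> simp [σfun])

theorem σ_surj (n : ℕ) : Function.Surjective (σ n) := by
  rintro (i | i)
  · obtain ⟨j, rfl⟩ := ZMod.castHom_surjective (Dvd.intro_left 2 rfl : n ∣ 2 * n) i
    exact ⟨a j, rfl⟩
  · obtain ⟨j, rfl⟩ := ZMod.castHom_surjective (Dvd.intro_left 2 rfl : n ∣ 2 * n) i
    exact ⟨xa j, rfl⟩

theorem c_eq_zero (n : ℕ) [NeZero n] (i : ZMod (2 * n)) (h : c n i = 0) :
    i = 0 ∨ i = (n : ZMod (2 * n)) := by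
  have h1 : c n i = ((i.val : ℕ) : ZMod n) := by
    rw [c, ZMod.castHom_apply, ZMod.natCast_val]
  rw [h1, ZMod.natCast_eq_zero_iff] at h
  have h2 : i.val < 2 * n := ZMod.val_lt i
  obtain ⟨k, hk⟩ := h
  have h3 : i = ((i.val : ℕ) : ZMod (2 * n)) := (ZMod.natCast_zmod_val i).symm
  have hn : 0 < n := Nat.pos_of_ne_zero (NeZero.ne n)
  have hk2 : k < 2 := by
    by_contra hcon
    have hcon' : 2 ≤ k := by omega
    have : n * 2 ≤ n * k := Nat.mul_le_mul_left n hcon'
    omega
  interval_cases k
  · left
    rw [h3, hk]; simp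
  · right
    rw [h3, hk]; simp

theorem two_n (n : ℕ) : (n : ZMod (2 * n)) + n = 0 := by
  have : ((2 * n : ℕ) : ZMod (2 * n)) = 0 := ZMod.natCast_self _
  rw [← this]; push_cast; ring

theorem mem_ker (n : ℕ) [NeZero n] (x : QuaternionGroup n) (hx : x ∈ (σ n).ker) :
    x = 1 ∨ x = a (n : ZMod (2 * n)) := by
  rw [MonoidHom.mem_ker] at hx
  rcases x with i | i
  · have : r (c n i) = (1 : DihedralGroup n) := hx
    rw [DihedralGroup.one_def] at this
    injection this with h
    rcases c_eq_zero n i h with rfl | rfl
    · left; rfl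
    · right; rfl
  · have : sr (c n i) = (1 : DihedralGroup n) := hx
    rw [DihedralGroup.one_def] at this
    cases this

/-- For even `n ≥ 2` the dicyclic group of order `4 n` is a stem extension of the dihedral group of order `2 n` with kernel of order `2`: there is a surjective homomorphism `QuaternionGroup n →* DihedralGroup n` whose kernel is central, lies in the commutator subgroup and has two elements. Together with the order of the multiplier this exhibits the dicyclic group as a Schur covering group of the dihedral group. -/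
theorem result (n : ℕ) [NeZero n] (hn : Even n) : ∃ σ : QuaternionGroup n →* DihedralGroup n, Cfsg.IsStemExtension σ ∧ Nat.card σ.ker = 2 := by
  refine ⟨σ n, ⟨σ_surj n, ?_, ?_⟩, ?_⟩
  · -- central
    intro x hx
    rw [Subgroup.mem_center_iff]
    rcases mem_ker n x hx with rfl | rfl
    · intro g; simp
    · rintro (j | j)
      · simp [add_comm]
      · simp only [xa_mul_a, a_mul_xa]
        congr 1
        have := two_n n
        linear_combination this
  · -- in the commutator subgroup
    intro x hx
    rcases mem_ker n x hx with rfl | rfl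
    · exact Subgroup.one_mem _
    · obtain ⟨m, hm⟩ := hn
      have hcomm : ⁅(a (m : ZMod (2 * n)) : QuaternionGroup n), xa 0⁆ ∈ commutator (QuaternionGroup n) :=
        Subgroup.commutator_mem_commutator (Subgroup.mem_top _) (Subgroup.mem_top _)
      have hval : ⁅(a (m : ZMod (2 * n)) : QuaternionGroup n), xa 0⁆ = a (n : ZMod (2 * n)) := by
        have h1 : (a (m : ZMod (2 * n)) : QuaternionGroup n)⁻¹ = a (-(m : ZMod (2 * n))) := rfl
        have h2 : (xa 0 : QuaternionGroup n)⁻¹ = xa ((n : ZMod (2 * n)) + 0) := rfl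
        rw [commutatorElement_def, h1, h2]
        simp only [a_mul_xa, xa_mul_a, xa_mul_xa]
        congr 1
        have h3 := two_n n
        have h4 : (n : ZMod (2 * n)) = (m : ZMod (2 * n)) + m := by rw [hm]; push_cast; ring
        linear_combination h3 - h4
      rw [← hval]
      exact hcomm
  · -- the kernel has two elements
    have h1 : Nat.card (QuaternionGroup n) = 4 * n := by
      rw [Nat.card_eq_fintype_card, QuaternionGroup.card]
    have h2 : Nat.card (DihedralGroup n) = 2 * n := DihedralGroup.nat_card
    have h3 : Nat.card (QuaternionGroup n) =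
        Nat.card (QuaternionGroup n ⧸ (σ n).ker) * Nat.card (σ n).ker :=
      Subgroup.card_eq_card_quotient_mul_card_subgroup _
    have h4 : Nat.card (QuaternionGroup n ⧸ (σ n).ker) = Nat.card (DihedralGroup n) :=
      Nat.card_congr (QuotientGroup.quotientKerEquivOfSurjective (σ n) (σ_surj n)).toEquiv
    rw [h4, h1, h2] at h3
    have hn0 : 0 < n := Nat.pos_of_ne_zero (NeZero.ne n)
    have : 2 * n * 2 = 2 * n * Nat.card (σ n).ker := by rw [← h3]; ring
    exact (Nat.eq_of_mul_eq_mul_left (by omega) this).symm

end Cfsg.Agent.S3966
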