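import Mathlib
import Cfsg.Statements.S3967
import Cfsg.Agent.Lib.Helper21.SchurMetaMain

set_option autoImplicit false
open Cfsg

namespace Cfsg.Agent.S3967

/-- Let `m, n ≥ 1`, `r ≥ 1` with `r ^ n ≡ 1 (mod m)`, and `l` a natural number; put `d = gcd(m, r - 1)`, `t = m l / d` and `h = d · gcd(m, 1 + r + ⋯ + r^(n-1)) / m`. The group presented by generators `a, b` and relations `a ^ m = 1`, `b ^ n = a ^ t`, `b a b⁻¹ = a ^ r` (a metacyclic group of order `m n`) has Schur multiplier cyclic of order `gcd(l, h)`. -/
theorem result (m n r l : ℕ) (hm : 0 < m) (hn : 0 < n) (hr : 0 < r) (hrn : r ^ n ≡ 1 [MOD m]) : Cfsg.HasCyclicSchurMultiplier (PresentedGroup ({FreeGroup.of true ^ m, (FreeGroup.of false) ^ n * (FreeGroup.of true ^ (m * l / Nat.gcd m (r - 1)))⁻¹, FreeGroup.of false * FreeGroup.of true * (FreeGroup.of false)⁻¹ * (FreeGroup.of true ^ r)⁻¹} : Set (FreeGroup Bool))) (Nat.gcd l (Nat.gcd m (r - 1) * Nat.gcd m (∑ i ∈ Finset.range n, r ^ i) / m)) := by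
  set t := m * l / Nat.gcd m (r - 1) with ht
  set rels : Set (FreeGroup Bool) := {FreeGroup.of true ^ m,
    (FreeGroup.of false) ^ n * (FreeGroup.of true ^ t)⁻¹,
    FreeGroup.of false * FreeGroup.of true * (FreeGroup.of false)⁻¹ * (FreeGroup.of true ^ r)⁻¹}
    with hrels
  have h1 : (PresentedGroup.of true : PresentedGroup rels) ^ m = 1 := by
    have : (FreeGroup.of true ^ m : FreeGroup Bool) ∈ rels := by
      rw [hrels]; exact Set.mem_insert _ _
    have := PresentedGroup.one_of_mem this
    simpa [PresentedGroup.of] using this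
  have h2 : (PresentedGroup.of false : PresentedGroup rels) ^ n =
      (PresentedGroup.of true : PresentedGroup rels) ^ t := by
    have : ((FreeGroup.of false) ^ n * (FreeGroup.of true ^ t)⁻¹ : FreeGroup Bool) ∈ rels := by
      rw [hrels]; exact Set.mem_insert_of_mem _ (Set.mem_insert _ _)
    have := PresentedGroup.one_of_mem this
    rw [map_mul, map_inv, map_pow, map_pow, mul_inv_eq_one] at this
    exact this
  have h3 : (PresentedGroup.of false : PresentedGroup rels) * PresentedGroup.of true *
      (PresentedGroup.of false)⁻¹ = (PresentedGroup.of true : PresentedGroup rels) ^ r := by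
    have : (FreeGroup.of false * FreeGroup.of true * (FreeGroup.of false)⁻¹ *
        (FreeGroup.of true ^ r)⁻¹ : FreeGroup Bool) ∈ rels := by
      rw [hrels]
      exact Set.mem_insert_of_mem _ (Set.mem_insert_of_mem _ (Set.mem_singleton _))
    have := PresentedGroup.one_of_mem this
    rw [map_mul, map_inv, map_pow, mul_inv_eq_one, map_mul, map_mul, map_inv] at this
    exact this
  have hgen : Subgroup.closure ({PresentedGroup.of true, PresentedGroup.of false} :
      Set (PresentedGroup rels)) = ⊤ := by
    rw [← PresentedGroup.closure_range_of rels]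
    congr 1
    ext x
    constructor
    · rintro (rfl | rfl)
      · exact ⟨true, rfl⟩
      · exact ⟨false, rfl⟩
    · rintro ⟨b, rfl⟩
      cases b
      · exact Or.inr rfl
      · exact Or.inl rfl
  refine Cfsg.Agent.Helper21.SchurMeta.main m n r l hm hn hr hrn
    (PresentedGroup.of true) (PresentedGroup.of false) h1 h2 h3 hgen ?_
  intro X _ x y hx hy hxy
  let f : Bool → X := fun c => if c then x else y
  have hf : ∀ w ∈ rels, FreeGroup.lift f w = 1 := by
    intro w hw
    rw [hrels] at hw
    rcases hw with rfl | rfl | rfl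
    · simp [f, hx]
    · simp [f, hy, ht]
    · simp only [map_mul, map_inv, map_pow, FreeGroup.lift_apply_of, f]
      simp [hxy]
  exact ⟨PresentedGroup.toGroup hf, by simp [f], by simp [f]⟩

end Cfsg.Agent.S3967
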