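import Mathlib
import Cfsg.Statements.S3968
import Cfsg.Agent.S0142
import Cfsg.Agent.Lib.Helper16.CharScalar
import Cfsg.Agent.Lib.Helper24.CharCentral
import Cfsg.Agent.Lib.Helper24.CharAlgebra
import Cfsg.Agent.Lib.Helper24.CharHom
import Cfsg.Agent.Lib.Helper24.CharIntegral

set_option autoImplicit false
set_option linter.style.haveILetI false
open Cfsg

namespace Cfsg.Agent.S3968

open Cfsg.Agent.Helper24
open scoped ComplexConjugate

universe u

/-- An irreducible character does not vanish on central elements. -/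
theorem irr_ne_zero_of_central {P : Type u} [Group P] [Fintype P] {ψ : P → ℂ}
    (hψ : IsIrrCharacter P ψ) {z : P} (hz : z ∈ Subgroup.center P) : ψ z ≠ 0 := by
  intro h0
  have h := sum_char_mul_conj hψ z⁻¹ z
  have hconj : ∀ y : P, z⁻¹ * (y * z * y⁻¹) = 1 := by
    intro y
    have : y * z = z * y := (Subgroup.mem_center_iff.mp hz y)
    rw [this, mul_assoc, mul_inv_cancel, mul_one, inv_mul_cancel]
  simp only [hconj] at h
  rw [h0, mul_zero, zero_div, Finset.sum_const, Finset.card_univ, nsmul_eq_mul] at h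
  have h1 : ψ 1 ≠ 0 := by
    rw [irr_one_eq_charDegree hψ]
    exact_mod_cast (charDegree_pos hψ).ne'
  have h2 : (Fintype.card P : ℂ) ≠ 0 := by
    exact_mod_cast Fintype.card_ne_zero
  exact (mul_ne_zero h2 h1) h

/-- A faithful irreducible representation: an element acting with a character value of maximal
absolute value is central. -/
theorem mem_center_of_norm_eq {G : Type u} [Group G] [Finite G] {n : ℕ}
    (ρ : Representation ℂ G (Fin n → ℂ))
    (hfaith : ∀ g : G, ρ.character g = ρ.character 1 → g = 1) {g : G}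
    (hg : ‖ρ.character g‖ = n) : g ∈ Subgroup.center G := by
  have hfin : Module.finrank ℂ (Fin n → ℂ) = n := by simp
  obtain ⟨c, hc⟩ := Helper16.exists_scalar_of_norm_char_eq ρ g (by rw [hfin]; exact hg)
  rw [Subgroup.mem_center_iff]
  intro h
  have h1 : ρ (h * g * h⁻¹ * g⁻¹) = 1 := by
    have e1 : ρ g * ρ g⁻¹ = 1 := by rw [← map_mul, mul_inv_cancel, map_one]
    have e2 : ρ h * ρ h⁻¹ = 1 := by rw [← map_mul, mul_inv_cancel, map_one]
    calc ρ (h * g * h⁻¹ * g⁻¹) = ρ h * ρ g * ρ h⁻¹ * ρ g⁻¹ := by simp only [map_mul]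
      _ = ρ h * (c • (1 : Module.End ℂ (Fin n → ℂ))) * ρ h⁻¹ * ρ g⁻¹ := by rw [hc]
      _ = (ρ h * ρ h⁻¹) * ((c • (1 : Module.End ℂ (Fin n → ℂ))) * ρ g⁻¹) := by
          simp only [mul_smul_comm, smul_mul_assoc, mul_one, one_mul, mul_assoc]
      _ = 1 := by rw [e2, one_mul, ← hc, e1]
  have h2 : ρ.character (h * g * h⁻¹ * g⁻¹) = ρ.character 1 := by
    show LinearMap.trace ℂ _ (ρ (h * g * h⁻¹ * g⁻¹)) = LinearMap.trace ℂ _ (ρ 1)
    have e : ρ 1 = 1 := map_one ρ
    rw [h1, e]
  have h3 := hfaith _ h2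
  calc h * g = (h * g * h⁻¹ * g⁻¹) * (g * h) := by group
    _ = g * h := by rw [h3, one_mul]

/-- Let `p` be a prime and `G` a finite group with a faithful irreducible complex character of degree `p` (so `G` is an irreducible linear group in `p` variables). If `p ^ 2` divides the order of `G`, then the centre of `G` is nontrivial. -/
theorem result {G : Type*} [Group G] [Finite G] (p : ℕ) (hp : p.Prime) (χ : Cfsg.IrrCharacter G) (hdeg : χ.1 1 = p) (hfaith : ∀ g : G, χ.1 g = χ.1 1 → g = 1) (hdiv : p ^ 2 ∣ Nat.card G) : Subgroup.center G ≠ ⊥ := by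
  classical
  intro hZ
  haveI : Fact p.Prime := ⟨hp⟩
  letI : Fintype G := Fintype.ofFinite G
  obtain ⟨n, ρ, hρ, hchar⟩ := χ.2
  have hfin : Module.finrank ℂ (Fin n → ℂ) = n := by simp
  have hn : n = p := by
    have h1 : ρ.character 1 = (n : ℂ) := by rw [Representation.char_one, hfin]
    rw [hchar, hdeg] at h1
    exact_mod_cast h1.symm
  subst hn
  have hfaith' : ∀ g : G, ρ.character g = ρ.character 1 → g = 1 := by
    intro g hg
    rw [hchar] at hg
    exact hfaith g hg
  -- a Sylow subgroup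
  obtain ⟨P⟩ : Nonempty (Sylow n G) := inferInstance
  letI : Fintype ↥(P : Subgroup G) := Fintype.ofFinite _
  letI : Fintype (IrrCharacter ↥(P : Subgroup G)) := irrFintype
  have hPcard : n ^ 2 ∣ Nat.card ↥(P : Subgroup G) := P.pow_dvd_card_of_pow_dvd_card hdiv
  -- Step 1: `χ` vanishes on the nonidentity central elements of `P`
  have hvanish : ∀ x : G, x ∈ (P : Subgroup G) → (∀ y ∈ (P : Subgroup G), y * x = x * y) →
      x ≠ 1 → χ.1 x = 0 := by
    intro x hx hcent hx1
    have hle : (P : Subgroup G) ≤ Subgroup.centralizer ({x} : Set G) := by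
      intro y hy
      rw [Subgroup.mem_centralizer_singleton_iff]
      exact hcent y hy
    have hndvd : ¬ n ∣ (Subgroup.centralizer ({x} : Set G)).index := by
      intro hd
      exact P.not_dvd_index (hd.trans (Subgroup.index_dvd_of_le hle))
    have hcop : Nat.Coprime (Module.finrank ℂ (Fin n → ℂ))
        (Subgroup.centralizer ({x} : Set G)).index := by
      rw [hfin]
      exact (Nat.Prime.coprime_iff_not_dvd hp).mpr hndvd
    haveI := hρ
    rcases Cfsg.Agent.S0142.result ρ x hcop with h0 | h0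
    · rw [← hchar]; exact h0
    · exfalso
      rw [hfin] at h0
      have hc := mem_center_of_norm_eq ρ hfaith' h0
      rw [hZ, Subgroup.mem_bot] at hc
      exact hx1 hc
  -- Step 2: restrict to `P` and decompose
  set χP : ↥(P : Subgroup G) → ℂ := fun k => χ.1 (k : G) with hχP
  have hχPc : IsCharacter ↥(P : Subgroup G) χP :=
    isCharacter_restrict (P : Subgroup G) (isCharacter_of_isIrrCharacter χ.2)
  obtain ⟨hm, hdec⟩ := isCharacter_decomp hχPc
  choose m hm' using hm
  have hval : ∀ k : ↥(P : Subgroup G), χP k =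
      ∑ ψ : IrrCharacter ↥(P : Subgroup G), (m ψ : ℂ) * (ψ : ↥(P : Subgroup G) → ℂ) k := by
    intro k
    have := congrFun hdec k
    rw [Finset.sum_apply] at this
    rw [this]
    apply Finset.sum_congr rfl
    intro ψ _
    rw [Pi.smul_apply, smul_eq_mul, hm']
  -- degrees
  have hdegsum : ∑ ψ : IrrCharacter ↥(P : Subgroup G),
      m ψ * charDegree (ψ : ↥(P : Subgroup G) → ℂ) = n := by
    have h1 := hval 1
    have h2 : χP 1 = (n : ℂ) := by rw [hχP]; exact hdeg
    rw [h2] at h1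
    have h3 : ((∑ ψ : IrrCharacter ↥(P : Subgroup G),
        m ψ * charDegree (ψ : ↥(P : Subgroup G) → ℂ) : ℕ) : ℂ) = (n : ℂ) := by
      rw [h1]
      push_cast
      apply Finset.sum_congr rfl
      intro ψ _
      rw [irr_one_eq_charDegree ψ.2]
    exact_mod_cast h3
  obtain ⟨kP, hkP⟩ := IsPGroup.iff_card.mp P.isPGroup'
  have hdegpow : ∀ ψ : IrrCharacter ↥(P : Subgroup G),
      charDegree (ψ : ↥(P : Subgroup G) → ℂ) = 1 ∨ n ∣ charDegree (ψ : ↥(P : Subgroup G) → ℂ) := by
    intro ψ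
    have hdvd : charDegree (ψ : ↥(P : Subgroup G) → ℂ) ∣ n ^ kP := by
      rw [← hkP]
      exact charDegree_dvd_card ψ.2
    obtain ⟨j, -, hj⟩ := (Nat.dvd_prime_pow hp).mp hdvd
    rcases Nat.eq_zero_or_pos j with rfl | hjpos
    · left; rw [hj, pow_zero]
    · right; rw [hj]; exact dvd_pow_self n hjpos.ne'
  -- a nonidentity central element of `P`
  have hPnt : Nontrivial ↥(P : Subgroup G) := by
    rw [← Finite.one_lt_card_iff_nontrivial]
    have h1 : 0 < Nat.card ↥(P : Subgroup G) := Nat.card_pos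
    have h2 := Nat.le_of_dvd h1 hPcard
    have h3 : 2 ≤ n := hp.two_le
    nlinarith
  obtain ⟨z, hzc, hz1⟩ : ∃ z : ↥(P : Subgroup G), z ∈ Subgroup.center ↥(P : Subgroup G) ∧
      z ≠ 1 := by
    have := P.isPGroup'.center_nontrivial
    obtain ⟨⟨z, hz⟩, hne⟩ := exists_ne (1 : Subgroup.center ↥(P : Subgroup G))
    exact ⟨z, hz, fun h => hne (Subtype.ext h)⟩
  have hχz : χP z = 0 := by
    apply hvanish (z : G) z.2
    · intro y hy
      have := Subgroup.mem_center_iff.mp hzc ⟨y, hy⟩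
      exact congrArg Subtype.val this
    · intro h
      exact hz1 (Subtype.ext h)
  by_cases hbig : ∃ ψ₀ : IrrCharacter ↥(P : Subgroup G), m ψ₀ ≠ 0 ∧
      n ∣ charDegree (ψ₀ : ↥(P : Subgroup G) → ℂ)
  · -- the restriction is irreducible
    obtain ⟨ψ₀, hm0, hd0⟩ := hbig
    have hterm : m ψ₀ * charDegree (ψ₀ : ↥(P : Subgroup G) → ℂ) ≤ n :=
      le_of_le_of_eq (Finset.single_le_sum (f := fun ψ : IrrCharacter ↥(P : Subgroup G) =>
        m ψ * charDegree (ψ : ↥(P : Subgroup G) → ℂ)) (fun _ _ => Nat.zero_le _)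
        (Finset.mem_univ ψ₀)) hdegsum
    have hdpos := charDegree_pos ψ₀.2
    have hdge : n ≤ charDegree (ψ₀ : ↥(P : Subgroup G) → ℂ) := Nat.le_of_dvd hdpos hd0
    have hmpos : 1 ≤ m ψ₀ := Nat.one_le_iff_ne_zero.mpr hm0
    have hm1 : m ψ₀ = 1 := by nlinarith
    have hd1 : charDegree (ψ₀ : ↥(P : Subgroup G) → ℂ) = n := by nlinarith
    have hothers : ∀ ψ : IrrCharacter ↥(P : Subgroup G), ψ ≠ ψ₀ → m ψ = 0 := by
      intro ψ hne
      by_contra hmne
      have h2 : m ψ₀ * charDegree (ψ₀ : ↥(P : Subgroup G) → ℂ) +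
          m ψ * charDegree (ψ : ↥(P : Subgroup G) → ℂ) ≤ n := by
        have hsub : ({ψ₀, ψ} : Finset (IrrCharacter ↥(P : Subgroup G))) ⊆ Finset.univ :=
          Finset.subset_univ _
        have := Finset.sum_le_sum_of_subset (f := fun ψ : IrrCharacter ↥(P : Subgroup G) =>
          m ψ * charDegree (ψ : ↥(P : Subgroup G) → ℂ)) hsub
        rw [Finset.sum_pair (Ne.symm hne)] at this
        exact le_of_le_of_eq this hdegsum
      have h3 : 0 < m ψ * charDegree (ψ : ↥(P : Subgroup G) → ℂ) :=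
        Nat.mul_pos (Nat.pos_of_ne_zero hmne) (charDegree_pos ψ.2)
      rw [hm1, hd1] at h2
      omega
    have hz0 := hval z
    rw [hχz, Finset.sum_eq_single ψ₀ (fun ψ _ hne => by rw [hothers ψ hne]; simp)
      (fun h => absurd (Finset.mem_univ _) h), hm1] at hz0
    have := irr_ne_zero_of_central ψ₀.2 hzc
    apply this
    simpa using hz0.symm
  · -- all constituents are linear, so `P` is abelian
    push Not at hbig
    have hlin : ∀ ψ : IrrCharacter ↥(P : Subgroup G), m ψ ≠ 0 →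
        (ψ : ↥(P : Subgroup G) → ℂ) 1 = 1 := by
      intro ψ hmne
      rcases hdegpow ψ with h1 | h1
      · rw [irr_one_eq_charDegree ψ.2, h1]; simp
      · exact absurd h1 (hbig ψ hmne)
    have hcomm : ∀ a b : ↥(P : Subgroup G), a * b = b * a := by
      intro a b
      have hval2 := hval (a * b * a⁻¹ * b⁻¹)
      have hterm : ∀ ψ : IrrCharacter ↥(P : Subgroup G),
          (m ψ : ℂ) * (ψ : ↥(P : Subgroup G) → ℂ) (a * b * a⁻¹ * b⁻¹) =
          (m ψ : ℂ) * (ψ : ↥(P : Subgroup G) → ℂ) 1 := by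
        intro ψ
        by_cases hmz : m ψ = 0
        · rw [hmz]; simp
        · have h1 := hlin ψ hmz
          have hc := isCharacter_of_isIrrCharacter ψ.2
          have hmul := char_mul_of_degree_one hc h1
          have ha : (ψ : ↥(P : Subgroup G) → ℂ) a * (ψ : ↥(P : Subgroup G) → ℂ) a⁻¹ = 1 := by
            rw [← hmul, mul_inv_cancel, h1]
          have hb : (ψ : ↥(P : Subgroup G) → ℂ) b * (ψ : ↥(P : Subgroup G) → ℂ) b⁻¹ = 1 := by
            rw [← hmul, mul_inv_cancel, h1]
          rw [hmul, hmul, hmul, h1]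
          congr 1
          calc (ψ : ↥(P : Subgroup G) → ℂ) a * (ψ : ↥(P : Subgroup G) → ℂ) b *
                (ψ : ↥(P : Subgroup G) → ℂ) a⁻¹ * (ψ : ↥(P : Subgroup G) → ℂ) b⁻¹
              = ((ψ : ↥(P : Subgroup G) → ℂ) a * (ψ : ↥(P : Subgroup G) → ℂ) a⁻¹) *
                ((ψ : ↥(P : Subgroup G) → ℂ) b * (ψ : ↥(P : Subgroup G) → ℂ) b⁻¹) := by ring
            _ = 1 := by rw [ha, hb, one_mul]
      rw [Finset.sum_congr rfl (fun ψ _ => hterm ψ), ← hval 1] at hval2
      have h3 : ((a * b * a⁻¹ * b⁻¹ : ↥(P : Subgroup G)) : G) = 1 := hfaith _ hval2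
      have h4 : a * b * a⁻¹ * b⁻¹ = 1 := Subtype.ext h3
      calc a * b = (a * b * a⁻¹ * b⁻¹) * (b * a) := by group
        _ = b * a := by rw [h4, one_mul]
    -- `χ` vanishes on `P` off the identity
    have hvan2 : ∀ k : ↥(P : Subgroup G), k ≠ 1 → χP k = 0 := by
      intro k hk
      apply hvanish (k : G) k.2
      · intro y hy
        exact congrArg Subtype.val (hcomm ⟨y, hy⟩ k)
      · intro h
        exact hk (Subtype.ext h)
    obtain ⟨t, ht⟩ := classInner_char_nat hχPc (isCharacter_one (G := ↥(P : Subgroup G)))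
    unfold classInner at ht
    rw [Finset.sum_eq_single (1 : ↥(P : Subgroup G))
      (fun k _ hk => by rw [hvan2 k hk, zero_mul])
      (fun h => absurd (Finset.mem_univ _) h)] at ht
    have h5 : χP 1 = (n : ℂ) := by rw [hχP]; exact hdeg
    rw [h5, map_one, mul_one] at ht
    have hcardne : (Nat.card ↥(P : Subgroup G) : ℂ) ≠ 0 := by
      exact_mod_cast Nat.card_pos.ne'
    have h6 : (n : ℂ) = (t : ℂ) * (Nat.card ↥(P : Subgroup G) : ℂ) := by
      rw [← ht]; field_simp
    have h7 : n = t * Nat.card ↥(P : Subgroup G) := by exact_mod_cast h6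
    have h8 : n ^ 2 ∣ n := by
      rw [h7]
      exact Dvd.dvd.mul_left (h7 ▸ hPcard) t
    have h9 := Nat.le_of_dvd hp.pos h8
    have h10 : 2 ≤ n := hp.two_le
    nlinarith

end Cfsg.Agent.S3968
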