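import Mathlib
import Cfsg.Statements.S3969
import Cfsg.Agent.Lib.Helper20.AbelianSylowNC

set_option autoImplicit false
open Cfsg

namespace Cfsg.Agent.S3969

open Cfsg.Agent.Helper20

theorem prod_Icc_eq_prod_range (f : ℕ → ℕ) (d : ℕ) :
    ∏ i ∈ Finset.Icc 1 d, f i = ∏ j ∈ Finset.range d, f (j + 1) := by
  induction d with
  | zero => simp
  | succ d ih =>
    rw [Finset.prod_Icc_succ_top (by omega), ih, Finset.prod_range_succ]

/-- Let `P` be an abelian Sylow `p`-subgroup of the finite group `G`, generated by `d` elements (`d` its minimal number of generators). If the order of `G` is coprime to `(p - 1)(p ^ 2 - 1) ⋯ (p ^ d - 1)`, then `G` has a normal `p`-complement. (The classical statement needs only the largest number of cyclic factors of `P` of equal order in place of `d`; the form here follows from it.) -/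
theorem result {G : Type*} [Group G] [Finite G] (p : ℕ) [Fact p.Prime] (P : Sylow p G) (hab : IsMulCommutative (P : Subgroup G)) (hcop : Nat.Coprime (Nat.card G) (∏ i ∈ Finset.Icc 1 (Group.rank (P : Subgroup G)), (p ^ i - 1))) : Cfsg.HasNormalPComplement p G := by
  obtain ⟨S, hS1, hS2⟩ := Group.rank_spec (G := (P : Subgroup G))
  rw [prod_Icc_eq_prod_range] at hcop
  have hNC := normalizer_le_centralizer_of_coprime p P hab S hS2 _ hS1.le hcop
  exact ⟨P, (MonoidHom.transferSylow P hNC).ker, MonoidHom.normal_ker _,
    MonoidHom.ker_transferSylow_isComplement' P hNC⟩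

end Cfsg.Agent.S3969
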