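import Mathlib
import Cfsg.Statements.S3970
import Cfsg.Agent.S3969

set_option autoImplicit false
open Cfsg

namespace Cfsg.Agent.S3970

universe u

theorem coprime_pow_sub_one (n p : ℕ) (hp : p = n.minFac) (hn : 1 < n) (h23 : p ≠ 2 ∨ ¬ 3 ∣ n) :
    Nat.Coprime n (p - 1) ∧ Nat.Coprime n (p ^ 2 - 1) := by
  have hpp : p.Prime := hp ▸ Nat.minFac_prime hn.ne'
  have h1 : Nat.Coprime n (p - 1) :=
    Nat.coprime_of_lt_minFac (by have := hpp.two_le; omega) (by rw [← hp]; have := hpp.two_le; omega)
  refine ⟨h1, ?_⟩
  have h2 : p ^ 2 - 1 = (p + 1) * (p - 1) := by
    have := Nat.sq_sub_sq p 1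
    rw [one_pow] at this
    exact this
  rw [h2]
  refine Nat.Coprime.mul_right ?_ h1
  rcases hpp.eq_two_or_odd' with h2' | hodd
  · subst h2'
    rcases h23 with h | h
    · exact absurd rfl h
    · exact ((Nat.Prime.coprime_iff_not_dvd Nat.prime_three).mpr h).symm
  · obtain ⟨k, hk⟩ := hodd
    have hk1 : 1 ≤ k := by
      have := hpp.two_le
      omega
    have h3 : p + 1 = 2 * (k + 1) := by omega
    rw [h3]
    apply Nat.Coprime.mul_right
    · exact Nat.coprime_of_lt_minFac (by norm_num) (by rw [← hp]; omega)
    · exact Nat.coprime_of_lt_minFac (by omega) (by rw [← hp]; omega)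

theorem aux : ∀ (n : ℕ) (G : Type u) [Group G] [Finite G], Nat.card G = n →
    (∀ p : ℕ, p.Prime → p ∣ Nat.card G → (∃ q : ℕ, q.Prime ∧ q ∣ Nat.card G ∧ p < q) →
      ∀ P : Sylow p G, IsMulCommutative (P : Subgroup G) ∧ Group.rank (P : Subgroup G) ≤ 2) →
    ¬ 12 ∣ Nat.card G → Group.IsSolvable G := by
  intro n
  induction n using Nat.strong_induction_on with
  | _ n ih =>
    intro G _ _ hcard h h12
    rcases Nat.lt_or_ge 1 n with hn | hn
    swap
    · have : Subsingleton G := by
        rw [← Finite.card_le_one_iff_subsingleton, hcard]
        exact hn
      infer_instance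
    set p := n.minFac with hp
    have hpp : p.Prime := Nat.minFac_prime hn.ne'
    haveI : Fact p.Prime := ⟨hpp⟩
    have hpn : p ∣ n := Nat.minFac_dvd n
    by_cases hq : ∃ q : ℕ, q.Prime ∧ q ∣ Nat.card G ∧ p < q
    swap
    · -- `G` is a `p`-group
      have h1 : n = p ^ n.primeFactorsList.length := by
        apply Nat.eq_prime_pow_of_unique_prime_dvd (by omega)
        intro d hd hdn
        by_contra hne
        have hle : p ≤ d := Nat.minFac_le_of_dvd hd.two_le hdn
        exact hq ⟨d, hd, hcard ▸ hdn, lt_of_le_of_ne hle (Ne.symm hne)⟩
      have hG : IsPGroup p G := IsPGroup.of_card (hcard.trans h1)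
      haveI := hG.isNilpotent
      infer_instance
    · -- normal `p`-complement
      let P : Sylow p G := default
      obtain ⟨hab, hrank⟩ := h p hpp (hcard ▸ hpn) hq P
      have hcop : Nat.Coprime (Nat.card G)
          (∏ i ∈ Finset.Icc 1 (Group.rank (P : Subgroup G)), (p ^ i - 1)) := by
        rw [hcard]
        by_cases h23 : p ≠ 2 ∨ ¬ 3 ∣ n
        · obtain ⟨c1, c2⟩ := coprime_pow_sub_one n p hp hn h23
          have hr : Group.rank (P : Subgroup G) = 0 ∨ Group.rank (P : Subgroup G) = 1 ∨
              Group.rank (P : Subgroup G) = 2 := by omega
          rcases hr with hr | hr | hr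
          · rw [hr]; simp
          · rw [hr]; simpa using c1
          · rw [hr]
            have : Finset.Icc 1 2 = {1, 2} := by decide
            rw [this, Finset.prod_insert (by decide), Finset.prod_singleton, pow_one]
            exact Nat.Coprime.mul_right c1 c2
        · -- `p = 2` and `3 ∣ n`: the Sylow subgroup has order two
          have h23' : p = 2 ∧ 3 ∣ n := by
            constructor
            · by_contra hne; exact h23 (Or.inl hne)
            · by_contra hne; exact h23 (Or.inr hne)
          obtain ⟨hp2, h3n⟩ := h23'
          have h4 : ¬ 4 ∣ n := by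
            intro h4
            apply h12
            rw [hcard]
            have : Nat.Coprime 4 3 := by decide
            exact this.mul_dvd_of_dvd_of_dvd h4 h3n
          have hPcard : Nat.card (P : Subgroup G) = 2 := by
            rw [P.card_eq_multiplicity, hcard, hp2]
            have hf1 : 1 ≤ n.factorization 2 :=
              (Nat.Prime.dvd_iff_one_le_factorization Nat.prime_two (by omega)).mp (hp2 ▸ hpn)
            have hf2 : ¬ 2 ≤ n.factorization 2 := by
              intro h2
              apply h4
              have := (Nat.Prime.pow_dvd_iff_le_factorization Nat.prime_two (by omega)).mpr h2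
              exact this
            have : n.factorization 2 = 1 := by omega
            rw [this, pow_one]
          have hrank1 : Group.rank (P : Subgroup G) ≤ 1 := by
            haveI : Fact (Nat.Prime 2) := ⟨Nat.prime_two⟩
            haveI : IsCyclic (P : Subgroup G) := isCyclic_of_prime_card hPcard
            obtain ⟨g, hg⟩ := IsCyclic.exists_generator (α := (P : Subgroup G))
            have hcl : Subgroup.closure (({g} : Finset (P : Subgroup G)) : Set (P : Subgroup G)) = ⊤ := by
              rw [Finset.coe_singleton, ← Subgroup.zpowers_eq_closure, eq_top_iff]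
              intro x _
              exact hg x
            exact le_trans (Group.rank_le hcl) (by simp)
          have hr : Group.rank (P : Subgroup G) = 0 ∨ Group.rank (P : Subgroup G) = 1 := by omega
          rcases hr with hr | hr
          · rw [hr]; simp
          · rw [hr, hp2]; simp
      obtain ⟨P', N, hN, hc⟩ := Cfsg.Agent.S3969.result p P hab hcop
      haveI := hN
      -- orders
      have hmul : Nat.card N * Nat.card (P' : Subgroup G) = Nat.card G := hc.card_mul_card
      have hP'card : Nat.card (P' : Subgroup G) = p ^ (Nat.card G).factorization p :=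
        P'.card_eq_multiplicity
      have hfpos : 1 ≤ (Nat.card G).factorization p :=
        (Nat.Prime.dvd_iff_one_le_factorization hpp Nat.card_pos.ne').mp (hcard ▸ hpn)
      have hNlt : Nat.card N < n := by
        rw [← hcard, ← hmul]
        have h1 : 1 < Nat.card (P' : Subgroup G) := by
          rw [hP'card]
          exact Nat.one_lt_pow (by omega) hpp.one_lt
        have : 0 < Nat.card N := Nat.card_pos
        nlinarith
      have hNdvd : Nat.card N ∣ Nat.card G := Dvd.intro _ hmul
      have hNp : ¬ p ∣ Nat.card N := by
        intro hd
        have h1 : p ^ ((Nat.card G).factorization p + 1) ∣ Nat.card G := by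
          have e1 : p ^ ((Nat.card G).factorization p + 1) = Nat.card (P' : Subgroup G) * p := by
            rw [hP'card, pow_succ]
          have e2 : Nat.card (P' : Subgroup G) * Nat.card N = Nat.card G := by
            rw [mul_comm]; exact hmul
          rw [e1, ← e2]
          exact Nat.mul_dvd_mul (dvd_refl _) hd
        exact Nat.pow_succ_factorization_not_dvd Nat.card_pos.ne' hpp h1
      -- the quotient is a `p`-group
      have hquot : Group.IsSolvable (G ⧸ N) := by
        have h1 : Nat.card (G ⧸ N) = p ^ (Nat.card G).factorization p := by
          have h2 := N.card_mul_index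
          rw [← hmul] at h2
          have h3 := Nat.eq_of_mul_eq_mul_left Nat.card_pos h2
          rw [← hP'card, ← h3]
          rfl
        have hG : IsPGroup p (G ⧸ N) := IsPGroup.of_card h1
        haveI := hG.isNilpotent
        infer_instance
      -- the complement satisfies the hypotheses
      have hNsolv : Group.IsSolvable N := by
        apply ih (Nat.card N) hNlt N rfl
        · intro r hr hrN hq' R
          obtain ⟨q', hq'1, hq'2, hq'3⟩ := hq'
          haveI : Fact r.Prime := ⟨hr⟩
          have hrp : r ≠ p := fun e => hNp (e ▸ hrN)
          have hfac : (Nat.card G).factorization r = (Nat.card N).factorization r := by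
            rw [← hmul, Nat.factorization_mul Nat.card_pos.ne' Nat.card_pos.ne', hP'card,
              Nat.factorization_pow, Finsupp.add_apply, Finsupp.smul_apply,
              Nat.factorization_eq_zero_of_not_dvd
                (fun hd => hrp ((Nat.prime_dvd_prime_iff_eq hr hpp).mp hd)), smul_zero,
              add_zero]
          let R' : Subgroup G := (R : Subgroup N).map N.subtype
          have hR'card : Nat.card R' = r ^ (Nat.card G).factorization r := by
            rw [hfac, ← R.card_eq_multiplicity]
            exact (Nat.card_congr
              ((R : Subgroup N).equivMapOfInjective N.subtype N.subtype_injective).toEquiv).symm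
          obtain ⟨hab', hrank'⟩ := h r hr (dvd_trans hrN hNdvd)
            ⟨q', hq'1, dvd_trans hq'2 hNdvd, hq'3⟩ (Sylow.ofCard R' hR'card)
          rw [Sylow.coe_ofCard] at hab' hrank'
          let e := (R : Subgroup N).equivMapOfInjective N.subtype N.subtype_injective
          constructor
          · constructor
            constructor
            intro a b
            apply e.injective
            rw [map_mul, map_mul]
            exact hab'.is_comm.comm (e a) (e b)
          · rw [Group.rank_congr e]
            exact hrank'
        · exact fun hd => h12 (dvd_trans hd hNdvd)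
      exact (Group.isSolvable_iff_subgroup_quotient N).mpr ⟨hNsolv, hquot⟩

/-- Let `G` be a finite group such that for every prime `p` dividing its order, other than the largest such prime, the Sylow `p`-subgroups are abelian and generated by at most two elements, and suppose `12` does not divide the order of `G`. Then `G` is solvable. In particular a group of cube-free order not divisible by `12` is solvable. -/
theorem result {G : Type*} [Group G] [Finite G] (h : ∀ p : ℕ, p.Prime → p ∣ Nat.card G → (∃ q : ℕ, q.Prime ∧ q ∣ Nat.card G ∧ p < q) → ∀ P : Sylow p G, IsMulCommutative (P : Subgroup G) ∧ Group.rank (P : Subgroup G) ≤ 2) (h12 : ¬ 12 ∣ Nat.card G) : Group.IsSolvable G := by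
  exact aux (Nat.card G) G rfl h h12

end Cfsg.Agent.S3970
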