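import Mathlib
import Cfsg.Statements.S3971
import Cfsg.Agent.Lib.Helper10.Frobenius3
import Cfsg.Agent.Lib.Helper20.AutCoprime
import Cfsg.Agent.Lib.Helper20.TwoGen

set_option autoImplicit false
open Cfsg

namespace Cfsg.Agent.S3971

open Cfsg.Agent.Helper20 Cfsg.Agent.Helper10

/-- Let `G` be a finite group of order `2 ^ a * n` with `n` odd and not divisible by `3`, and suppose `G` has an element of order `2 ^ (a - 1)` (so a Sylow `2`-subgroup has a cyclic subgroup of index at most `2`). Then `G` has a normal subgroup of order `n`. -/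
theorem result {G : Type*} [Group G] [Finite G] (a n : ℕ) (hG : Nat.card G = 2 ^ a * n) (hn : Odd n) (h3 : ¬ 3 ∣ n) (hx : ∃ x : G, orderOf x = 2 ^ (a - 1)) : ∃ N : Subgroup G, N.Normal ∧ Nat.card N = n := by
  haveI : Fact (Nat.Prime 2) := ⟨Nat.prime_two⟩
  obtain ⟨x, hx⟩ := hx
  have hn2 : Nat.Coprime n 2 := Nat.coprime_two_right.mpr hn
  have hn0 : n ≠ 0 := hn.pos.ne'
  -- the cyclic subgroup and a Sylow subgroup containing it
  have hCcard : Nat.card (Subgroup.zpowers x) = 2 ^ (a - 1) := by rw [Nat.card_zpowers, hx]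
  have hC : IsPGroup 2 (Subgroup.zpowers x) := IsPGroup.of_card hCcard
  obtain ⟨P, hCP⟩ := hC.exists_le_sylow
  have hPcard : Nat.card (P : Subgroup G) = 2 ^ a := by
    have hnd : ¬ 2 ∣ n := fun h => by
      have := Nat.Coprime.eq_one_of_dvd hn2.symm h
      omega
    rw [P.card_eq_multiplicity, hG, Nat.factorization_mul (pow_ne_zero a two_ne_zero) hn0,
      Nat.factorization_pow, Finsupp.add_apply, Finsupp.smul_apply,
      Nat.Prime.factorization_self Nat.prime_two, Nat.factorization_eq_zero_of_not_dvd hnd,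
      smul_eq_mul, mul_one, add_zero]
  have hrelP : (Subgroup.zpowers x).relIndex (P : Subgroup G) ≤ 2 := by
    have h1 := Subgroup.relIndex_mul_relIndex ⊥ (Subgroup.zpowers x) (P : Subgroup G) bot_le hCP
    rw [Subgroup.relIndex_bot_left, Subgroup.relIndex_bot_left, hCcard, hPcard] at h1
    rcases Nat.eq_zero_or_pos a with ha | ha
    · subst ha
      simp only [zero_tsub, pow_zero, one_mul] at h1
      omega
    · have h2 : 2 ^ a = 2 ^ (a - 1) * 2 := by
        rw [← pow_succ]
        congr 1
        omega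
      rw [h2] at h1
      have := Nat.eq_of_mul_eq_mul_left (pow_pos two_pos (a - 1)) h1
      omega
  have hrelP0 : (Subgroup.zpowers x).relIndex (P : Subgroup G) ≠ 0 := by
    intro h0
    have h1 := Subgroup.relIndex_mul_relIndex ⊥ (Subgroup.zpowers x) (P : Subgroup G) bot_le hCP
    rw [h0, mul_zero, Subgroup.relIndex_bot_left, hPcard] at h1
    exact (pow_ne_zero a two_ne_zero) h1.symm
  -- Frobenius' condition
  have hF : FrobCond 2 G := by
    apply frobCond_of_sylow P
    intro Q hQP g hg hcop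
    have hD0 : ((Subgroup.zpowers x).subgroupOf Q).index ≠ 0 :=
      Subgroup.FiniteIndex.index_ne_zero
    have hD2 : ((Subgroup.zpowers x).subgroupOf Q).index ≤ 2 :=
      le_trans (Subgroup.relIndex_le_of_le_right hQP hrelP0) hrelP
    haveI : IsCyclic ((Subgroup.zpowers x).subgroupOf Q) := by
      apply isCyclic_of_injective (Q.subtype.subgroupComap (Subgroup.zpowers x))
      intro u v huv
      have h1 : ((u : Q) : G) = ((v : Q) : G) :=
        congrArg (fun z : Subgroup.zpowers x => (z : G)) huv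
      exact Subtype.ext (Subtype.ext h1)
    obtain ⟨S, hS2, hS⟩ := exists_generators_of_cyclic_index_le_two
      ((Subgroup.zpowers x).subgroupOf Q) hD0 hD2
    have hgn : orderOf g ∣ n := by
      have h1 : orderOf g ∣ 2 ^ a * n := hG ▸ orderOf_dvd_natCard g
      exact (Nat.Coprime.pow_right a hcop).dvd_of_dvd_mul_left h1
    have hg3 : Nat.Coprime (orderOf g) (∏ j ∈ Finset.range 2, (2 ^ (j + 1) - 1)) := by
      have : ∏ j ∈ Finset.range 2, (2 ^ (j + 1) - 1) = 3 := by decide
      rw [this]
      apply Nat.Coprime.symm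
      rw [Nat.Prime.coprime_iff_not_dvd Nat.prime_three]
      exact fun h => h3 (dvd_trans h hgn)
    exact mem_centralizer_of_coprime 2 Q (P.isPGroup'.to_le hQP) S hS 2 hS2 g hg hcop hg3
  obtain ⟨N, hN, hNcop, k, hk⟩ := npc_of_frobCond (p := 2) (Nat.card G) G rfl hF
  refine ⟨N, hN, ?_⟩
  have h1 : Nat.card N * 2 ^ k = 2 ^ a * n := by
    rw [← hk, ← hG]
    exact N.card_mul_index
  apply Nat.dvd_antisymm
  · have : Nat.card N ∣ 2 ^ a * n := Dvd.intro _ h1
    exact (Nat.Coprime.pow_right a hNcop).dvd_of_dvd_mul_left this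
  · have : n ∣ Nat.card N * 2 ^ k := Dvd.intro_left _ h1.symm
    exact (Nat.Coprime.pow_right k hn2).dvd_of_dvd_mul_right this

end Cfsg.Agent.S3971
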