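import Mathlib
import Cfsg.Statements.S3972
import Cfsg.Agent.Lib.Helper19.SchurRing

set_option autoImplicit false
open Cfsg

namespace Cfsg.Agent.S3972

open Cfsg.Agent.Helper19.SchurRing

/-- a permutation of order `p ^ m` on `p ^ m` points has a point with trivial stabiliser in the
cyclic group it generates -/
theorem exists_regular_point {Ω : Type*} [Fintype Ω] [DecidableEq Ω] (p m : ℕ) (hp : p.Prime)
    (hm : 2 ≤ m) (σ : Equiv.Perm Ω) (hσ : orderOf σ = p ^ m) :
    ∃ ω0 : Ω, ∀ n : ℕ, (σ ^ n) ω0 = ω0 → p ^ m ∣ n := by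
  by_contra hcon
  push Not at hcon
  have h1 : σ ^ (p ^ (m - 1)) = 1 := by
    ext ω
    obtain ⟨n, hn, hnd⟩ := hcon ω
    set d := Function.minimalPeriod (⇑σ) ω with hd
    have hd1 : d ∣ p ^ m := by
      apply Function.IsPeriodicPt.minimalPeriod_dvd
      show (⇑σ)^[p ^ m] ω = ω
      rw [Equiv.Perm.iterate_eq_pow, ← hσ, pow_orderOf_eq_one]
      rfl
    have hd2 : d ∣ n := by
      apply Function.IsPeriodicPt.minimalPeriod_dvd
      show (⇑σ)^[n] ω = ω
      rw [Equiv.Perm.iterate_eq_pow]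
      exact hn
    obtain ⟨k, hk, hdk⟩ := (Nat.dvd_prime_pow hp).1 hd1
    have hkm : k ≠ m := by
      rintro rfl
      exact hnd (hdk ▸ hd2)
    have hd3 : d ∣ p ^ (m - 1) := by
      rw [hdk]
      exact pow_dvd_pow p (by omega)
    have hper : Function.IsPeriodicPt (⇑σ) (p ^ (m - 1)) ω :=
      (Function.isPeriodicPt_minimalPeriod (⇑σ) ω).trans_dvd hd3
    have : (⇑σ)^[p ^ (m - 1)] ω = ω := hper
    rw [Equiv.Perm.iterate_eq_pow] at this
    simpa using this
  have h2 := orderOf_dvd_of_pow_eq_one h1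
  rw [hσ] at h2
  have h3 : p ^ m ≤ p ^ (m - 1) := Nat.le_of_dvd (pow_pos hp.pos _) h2
  have h4 : p ^ (m - 1) < p ^ m := Nat.pow_lt_pow_right hp.one_lt (by omega)
  omega

/-- Let `p` be a prime, `m ≥ 2`, and `G` a transitive but not doubly transitive permutation group on `p ^ m` points containing a permutation of order `p ^ m` (necessarily a full cycle). Then `G` is imprimitive, and the normal closure in `G` of the `p ^ (m - 1)`-th power of that permutation is an intransitive normal subgroup. -/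
theorem result {Ω : Type*} [Fintype Ω] [DecidableEq Ω] (p m : ℕ) (hp : p.Prime) (hm : 2 ≤ m) (hΩ : Fintype.card Ω = p ^ m) (G : Subgroup (Equiv.Perm Ω)) (htr : MulAction.IsPretransitive G Ω) (h2 : ¬ MulAction.IsMultiplyPretransitive G Ω 2) (g : G) (hg : orderOf g = p ^ m) : ¬ MulAction.IsPreprimitive G Ω ∧ ¬ MulAction.IsPretransitive (Subgroup.normalClosure ({g ^ (p ^ (m - 1))} : Set G)) Ω := by
  classical
  have hpf : Fact p.Prime := ⟨hp⟩
  have hσ : orderOf (g : Equiv.Perm Ω) = p ^ m := by rw [Subgroup.orderOf_coe, hg]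
  obtain ⟨ω0, hω0⟩ := exists_regular_point p m hp hm (g : Equiv.Perm Ω) hσ
  let _ : CommGroup (Subgroup.zpowers g) := IsCyclic.commGroup
  have hcard : Nat.card (Subgroup.zpowers g) = p ^ m := by rw [Nat.card_zpowers, hg]
  have hinj : Function.Injective fun h : Subgroup.zpowers g => (Subgroup.zpowers g).subtype h • ω0 := by
    intro a b hab
    simp only [Subgroup.subtype_apply] at hab
    -- a⁻¹ b fixes ω0
    have hfix : ((a : G)⁻¹ * (b : G)) • ω0 = ω0 := by
      rw [mul_smul, ← hab, inv_smul_smul]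
    have hmem : (a : G)⁻¹ * (b : G) ∈ Subgroup.zpowers g :=
      mul_mem (inv_mem a.2) b.2
    have hfin : IsOfFinOrder g := by
      rw [← orderOf_pos_iff, hg]; exact pow_pos hp.pos _
    rw [← hfin.mem_powers_iff_mem_zpowers] at hmem
    obtain ⟨n, hn⟩ := hmem
    simp only at hn
    have hn' : ((g : Equiv.Perm Ω) ^ n) ω0 = ω0 := by
      have : ((g ^ n : G) : Equiv.Perm Ω) ω0 = ω0 := by
        rw [hn]; exact hfix
      simpa using this
    have hdvd := hω0 n hn'
    have : g ^ n = 1 := by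
      rw [← hg] at hdvd
      exact orderOf_dvd_iff_pow_eq_one.1 hdvd
    rw [this] at hn
    have : (a : G) = b := by
      have := hn.symm
      rwa [inv_mul_eq_one] at this
    exact Subtype.ext this
  have hreg : Function.Bijective fun h : Subgroup.zpowers g => (Subgroup.zpowers g).subtype h • ω0 := by
    rw [Fintype.bijective_iff_injective_and_card]
    refine ⟨hinj, ?_⟩
    rw [← Nat.card_eq_fintype_card, hcard, hΩ]
  set z : Subgroup.zpowers g := ⟨g, Subgroup.mem_zpowers g⟩ ^ (p ^ (m - 1)) with hz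
  have hzp : z ^ p = 1 := by
    rw [hz, ← pow_mul, ← pow_succ, show m - 1 + 1 = m by omega]
    apply Subtype.ext
    rw [Subgroup.coe_pow, Subgroup.coe_one]
    show g ^ (p ^ m) = 1
    rw [← hg, pow_orderOf_eq_one]
  have key := schur (Subgroup.zpowers g).subtype ω0 hreg hm hcard h2 z hzp
  have hzz : (Subgroup.zpowers g).subtype z = g ^ (p ^ (m - 1)) := by
    rw [hz, map_pow]; rfl
  rw [hzz] at key
  exact key

end Cfsg.Agent.S3972
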