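import Mathlib
import Cfsg.Statements.S3974
import Cfsg.Agent.Lib.Helper20.CoverNonUnique2

set_option autoImplicit false
universe u v
open Cfsg

namespace Cfsg.Agent.S3974

open Cfsg.Agent.Helper20

/-- Let `Q` be a finite group with Schur multiplier `A`. Any two Schur covering groups of `Q` (finite stem extensions `σ₁ : Γ₁ →* Q`, `σ₂ : Γ₂ →* Q` with kernels isomorphic to `A`, `Γ₁, Γ₂` in the universe of `Q`) are isomorphic over `Q` — there is a group isomorphism `e : Γ₁ ≃* Γ₂` with `σ₂ ∘ e = σ₁` — if and only if the order of the commutator quotient of `Q` is coprime to the order of `A`. In particular a finite perfect group has a unique Schur covering group up to isomorphism over it. -/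
theorem result {Q : Type u} [Group Q] [Finite Q] {A : Type v} [CommGroup A] (hA : Cfsg.HasSchurMultiplier Q A) : (∀ (Γ₁ Γ₂ : Type u) [Group Γ₁] [Finite Γ₁] [Group Γ₂] [Finite Γ₂] (σ₁ : Γ₁ →* Q) (σ₂ : Γ₂ →* Q), Cfsg.IsStemExtension σ₁ → Cfsg.IsStemExtension σ₂ → Nonempty (σ₁.ker ≃* A) → Nonempty (σ₂.ker ≃* A) → ∃ e : Γ₁ ≃* Γ₂, σ₂.comp e.toMonoidHom = σ₁) ↔ Nat.Coprime (Nat.card (Abelianization Q)) (Nat.card A) := by
  obtain ⟨eA⟩ := nonempty_equiv_schurM hA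
  have hcardA : Nat.card A = Nat.card (schurM Q) := (Nat.card_congr eA.toEquiv).symm
  constructor
  · intro h
    by_contra hncop
    obtain ⟨p, hp, hpd, hpm⟩ := Nat.Prime.not_coprime_iff_dvd.mp hncop
    have : Fact p.Prime := ⟨hp⟩
    rw [hcardA] at hpm
    obtain ⟨S₁, S₂, hn₁, hn₂, h₁, h₂, hne⟩ := exists_not_iso_over p hpd hpm
    obtain ⟨k₁⟩ := nonempty_ker_coverMap_equiv h₁
    obtain ⟨k₂⟩ := nonempty_ker_coverMap_equiv h₂
    have := finite_cover h₁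
    have := finite_cover h₂
    exact hne (h (UCE Q ⧸ S₁) (UCE Q ⧸ S₂) (coverMap S₁ h₁.le) (coverMap S₂ h₂.le)
      (coverMap_isStem h₁) (coverMap_isStem h₂) ⟨k₁.trans eA⟩ ⟨k₂.trans eA⟩)
  · intro hcop Γ₁ Γ₂ _ _ _ _ σ₁ σ₂ hσ₁ hσ₂ ⟨e₁⟩ ⟨e₂⟩
    rw [hcardA] at hcop
    have hc₁ : Nat.card σ₁.ker = Nat.card (schurM Q) :=
      Nat.card_congr (e₁.trans eA.symm).toEquiv
    have hc₂ : Nat.card σ₂.ker = Nat.card (schurM Q) :=
      Nat.card_congr (e₂.trans eA.symm).toEquiv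
    exact exists_iso_over_of_coprime σ₁ σ₂ hσ₁ hσ₂ hc₁ hc₂ hcop

end Cfsg.Agent.S3974
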