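import Mathlib
import Cfsg.Statements.S3977
import Cfsg.Agent.Lib.Helper20.MinNoncyclic

set_option autoImplicit false
open Cfsg

namespace Cfsg.Agent.S3977

universe u

/-- uniqueness of subgroups of a given order passes to subgroups -/
theorem uniq_subgroup {G : Type u} [Group G] (n : ℕ)
    (huniq : ∀ H K : Subgroup G, Nat.card H = n → Nat.card K = n → H = K) (L : Subgroup G) :
    ∀ A B : Subgroup L, Nat.card A = n → Nat.card B = n → A = B := by
  intro A B hA hB
  apply Subgroup.map_injective L.subtype_injective
  apply huniq
  · rw [Subgroup.card_map_of_injective L.subtype_injective, hA]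
  · rw [Subgroup.card_map_of_injective L.subtype_injective, hB]

theorem main (p : ℕ) [hp : Fact p.Prime] : ∀ m : ℕ, ∀ (G : Type u) [Group G] [Finite G],
    Nat.card G = p ^ m → ∀ s : ℕ, 1 ≤ s → s < m → (p ≠ 2 ∨ 2 ≤ s) →
    (∀ H K : Subgroup G, Nat.card H = p ^ s → Nat.card K = p ^ s → H = K) → IsCyclic G := by
  intro m
  induction m using Nat.strong_induction_on with
  | _ m ih =>
    intro G _ _ hG s hs hsm h2 huniq
    -- subgroups of order p^(s+1) are cyclic
    have hstep1 : ∀ K : Subgroup G, Nat.card K = p ^ (s + 1) → IsCyclic K := by
      intro K hK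
      exact Helper20.isCyclic_of_unique_maximal p s hK (uniq_subgroup _ huniq K)
    by_cases hm : m = s + 1
    · subst hm
      exact Helper20.isCyclic_of_unique_maximal p s hG huniq
    · have hm' : s + 2 ≤ m := by omega
      apply Helper20.isCyclic_of_forall_proper_isCyclic p m hG (by omega)
      · intro hp2
        rcases h2 with h | h
        · exact absurd hp2 h
        · omega
      · intro L hL
        have hLdvd : Nat.card L ∣ p ^ m := by rw [← hG]; exact Subgroup.card_subgroup_dvd_card L
        obtain ⟨j, hjm, hj⟩ := (Nat.dvd_prime_pow hp.out).mp hLdvd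
        have hjm' : j < m := by
          rcases Nat.lt_or_ge j m with h | h
          · exact h
          · exfalso
            have : j = m := le_antisymm hjm h
            apply hL
            rw [← Subgroup.card_eq_iff_eq_top, hj, this, hG]
        by_cases hjs : j ≤ s + 1
        · have hdvd : p ^ (s + 1) ∣ Nat.card G := by rw [hG]; exact pow_dvd_pow p (by omega)
          obtain ⟨K, hK, hLK⟩ := Sylow.exists_subgroup_card_pow_prime_le p hdvd L hj hjs
          have := hstep1 K hK
          exact Subgroup.isCyclic_of_le hLK
        · exact ih j hjm' L hj s hs (by omega) h2 (uniq_subgroup _ huniq L)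

/-- Let `p` be a prime and `G` a group of order `p ^ m` which has exactly one subgroup of order `p ^ s`, where `1 ≤ s < m`, and where `s ≥ 2` if `p = 2`. Then `G` is cyclic. (For `p = 2` and `s = 1` the generalized quaternion groups also occur; that case is the classical criterion for a unique involution.) -/
theorem result {G : Type*} [Group G] [Finite G] (p m s : ℕ) (hp : p.Prime) (hG : Nat.card G = p ^ m) (hs : 1 ≤ s) (hsm : s < m) (h2 : p ≠ 2 ∨ 2 ≤ s) (huniq : ∀ H K : Subgroup G, Nat.card H = p ^ s → Nat.card K = p ^ s → H = K) : IsCyclic G := by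
  have : Fact p.Prime := ⟨hp⟩
  exact main p m G hG s hs hsm h2 huniq

end Cfsg.Agent.S3977
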