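import Mathlib
import Cfsg.Statements.S3978
import Cfsg.Agent.S3955
import Cfsg.Agent.Lib.Helper20.ProjRep
import Cfsg.Agent.Lib.Helper20.Schur

set_option autoImplicit false
open Cfsg

namespace Cfsg.Agent.S3978

open Cfsg.Agent.Helper20

/-- A finite group `Q` has trivial Schur multiplier if and only if, for every `n`, every homomorphism from `Q` to the projective general linear group (the quotient of `GL n ℂ` by its centre) lifts to a homomorphism into `GL n ℂ`. -/
theorem result {Q : Type*} [Group Q] [Finite Q] : Cfsg.HasCyclicSchurMultiplier Q 1 ↔ ∀ (n : ℕ) (γ : Q →* (GL (Fin n) ℂ ⧸ Subgroup.center (GL (Fin n) ℂ))), ∃ ρ : Q →* GL (Fin n) ℂ, (QuotientGroup.mk' (Subgroup.center (GL (Fin n) ℂ))).comp ρ = γ := by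
  constructor
  · intro hQ n γ
    have e : (MonoidHom.id Q).ker ≃* Multiplicative (ZMod 1) :=
      { toFun := fun _ => 1
        invFun := fun _ => 1
        left_inv := fun x => by
          apply Subtype.ext
          have h1 : (x : Q) ∈ (MonoidHom.id Q).ker := x.2
          rw [MonoidHom.mem_ker, MonoidHom.id_apply] at h1
          rw [h1]
          rfl
        right_inv := fun y => Subsingleton.elim _ _
        map_mul' := fun _ _ => Subsingleton.elim _ _ }
    obtain ⟨ρ, hρ⟩ := Cfsg.Agent.S3955.result hQ (MonoidHom.id Q) (isStemExtension_id Q) ⟨e⟩ n γ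
    exact ⟨ρ, by rw [hρ, MonoidHom.comp_id]⟩
  · intro h
    apply hasCyclicSchurMultiplier_one_of_forall_ker_eq_bot
    intro Γ _ _ σ hσ
    rw [eq_bot_iff]
    intro a ha
    rw [Subgroup.mem_bot]
    by_contra hne
    obtain ⟨n, γ, ρΓ, hρΓ, hρΓa⟩ := exists_projective_rep σ hσ.1 hσ.2.1 a ha hne
    obtain ⟨ρ', hρ'⟩ := h n γ
    have hcomp : (QuotientGroup.mk' (Subgroup.center (GL (Fin n) ℂ))).comp ρΓ =
        (QuotientGroup.mk' (Subgroup.center (GL (Fin n) ℂ))).comp (ρ'.comp σ) := by
      rw [← MonoidHom.comp_assoc, hρ', hρΓ]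
    have h2 := hom_eq_on_commutator_of_eq_mod_center ρΓ (ρ'.comp σ)
      (mul_inv_mem_center_of_comp_eq _ _ hcomp) a (hσ.2.2 ha)
    rw [MonoidHom.comp_apply, (ha : σ a = 1), map_one] at h2
    exact hρΓa h2

end Cfsg.Agent.S3978
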