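import Mathlib
import Cfsg.Statements.S3980
import Cfsg.Agent.Lib.Helper20.ProdStem3

set_option autoImplicit false
universe u v w
open Cfsg

namespace Cfsg.Agent.S3980

open Cfsg.Agent.Helper20

/-- Let `Q₁` and `Q₂` be finite groups whose commutator quotients have coprime orders, with Schur multipliers `A` and `B`. Then the Schur multiplier of `Q₁ × Q₂` is isomorphic to `A × B`. -/
theorem result {Q₁ : Type u} {Q₂ : Type v} [Group Q₁] [Group Q₂] [Finite Q₁] [Finite Q₂] {A B : Type w} [CommGroup A] [CommGroup B] (hA : Cfsg.HasSchurMultiplier Q₁ A) (hB : Cfsg.HasSchurMultiplier Q₂ B) (hcop : Nat.Coprime (Nat.card (Abelianization Q₁)) (Nat.card (Abelianization Q₂))) : Cfsg.HasSchurMultiplier (Q₁ × Q₂) (A × B) := by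
  obtain ⟨f₁⟩ := nonempty_equiv_schurM hA
  obtain ⟨f₂⟩ := nonempty_equiv_schurM hB
  constructor
  · obtain ⟨⟨Γ₁, _, _, σ₁, hσ₁, ⟨e₁⟩⟩, _⟩ := hA
    obtain ⟨⟨Γ₂, _, _, σ₂, hσ₂, ⟨e₂⟩⟩, _⟩ := hB
    exact ⟨Γ₁ × Γ₂, inferInstance, inferInstance, σ₁.prodMap σ₂,
      isStemExtension_prodMap σ₁ σ₂ hσ₁ hσ₂,
      ⟨(kerProdMapEquiv σ₁ σ₂).trans (MulEquiv.prodCongr e₁ e₂)⟩⟩
  · intro Δ _ _ τ hτ
    obtain ⟨η₁, hη₁⟩ := exists_uce_lift Q₁ (prodLeftMap τ) (prodLeftMap_surjective τ hτ.1)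
      (prodLeftMap_ker_le_center τ hτ.2.1)
    obtain ⟨η₂, hη₂⟩ := exists_uce_lift Q₂ (prodRightMap τ) (prodRightMap_surjective τ hτ.1)
      (prodRightMap_ker_le_center τ hτ.2.1)
    let _ : CommGroup τ.ker := kerCommGroup τ hτ.2.1
    let g : schurM Q₁ × schurM Q₂ →* τ.ker :=
      MonoidHom.coprod (schurMLeft τ η₁ hη₁) (schurMRight τ η₂ hη₂)
    refine ⟨g.comp (MulEquiv.prodCongr f₁.symm f₂.symm).toMonoidHom, ?_⟩
    have hg : Function.Surjective g := ?_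
    · intro k
      obtain ⟨x, hx⟩ := hg k
      refine ⟨MulEquiv.prodCongr f₁ f₂ x, ?_⟩
      rw [MonoidHom.comp_apply]
      change g ((MulEquiv.prodCongr f₁.symm f₂.symm) ((MulEquiv.prodCongr f₁ f₂) x)) = k
      rw [← hx]
      congr 1
      apply Prod.ext
      · exact f₁.symm_apply_apply _
      · exact f₂.symm_apply_apply _
    rintro ⟨k, hk⟩
    obtain ⟨d₁, hd₁, c, hc, d₂, hd₂, hkd⟩ := exists_decomp_of_mem_ker τ hτ hk
    rw [commutator_prodLeft_prodRight_eq_bot τ hτ.1 hτ.2.1 hcop, Subgroup.mem_bot] at hc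
    obtain ⟨m₁, hm₁, hmd₁⟩ := exists_schurM_left τ hτ.2.1 η₁ hη₁ hd₁
    obtain ⟨m₂, hm₂, hmd₂⟩ := exists_schurM_right τ hτ.2.1 η₂ hη₂ hd₂
    refine ⟨(⟨m₁, hm₁⟩, ⟨m₂, hm₂⟩), ?_⟩
    apply Subtype.ext
    rw [MonoidHom.coprod_apply]
    change ((schurMLeft τ η₁ hη₁ ⟨m₁, hm₁⟩ : τ.ker) : Δ) *
      ((schurMRight τ η₂ hη₂ ⟨m₂, hm₂⟩ : τ.ker) : Δ) = k
    rw [schurMLeft_coe, schurMRight_coe, hmd₁, hmd₂, hkd, hc, mul_one]

end Cfsg.Agent.S3980
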