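import Mathlib
import Cfsg.Statements.S3981
import Cfsg.Agent.Lib.Helper20.InvolutionQuotient
import Cfsg.Agent.Lib.Helper20.SylowBasic

set_option autoImplicit false
open Cfsg

namespace Cfsg.Agent.S3981

/-- Let p be an odd prime, Q a p-subgroup of the finite group G and y an involution normalizing Q. Then Q is maximal among the p-subgroups of G normalized by y if and only if the image of y in N_G(Q) ⧸ Q neither inverts nor centralizes any element of order p there; the latter is phrased inside N_G(Q): for every x in N_G(Q) outside Q with x ^ p ∈ Q, neither y x y⁻¹ x nor y x y⁻¹ x⁻¹ lies in Q. -/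
theorem result {G : Type*} [Group G] [Finite G] (p : ℕ) [Fact p.Prime] (hp2 : p ≠ 2) (Q : Subgroup G) (hQ : IsPGroup p ↥Q) (y : G) (hy : orderOf y = 2) (hyQ : y ∈ Subgroup.normalizer (Q : Set G)) : (∀ R : Subgroup G, IsPGroup p ↥R → Q ≤ R → y ∈ Subgroup.normalizer (R : Set G) → R = Q) ↔ ∀ x : G, x ∈ Subgroup.normalizer (Q : Set G) → x ∉ Q → x ^ p ∈ Q → (y * x * y⁻¹ * x ∉ Q ∧ y * x * y⁻¹ * x⁻¹ ∉ Q) := by
  have hp : p.Prime := Fact.out
  have hy2 : y ^ 2 = 1 := by rw [← hy]; exact pow_orderOf_eq_one y
  have hyinv : y⁻¹ = y := by rw [inv_eq_iff_mul_eq_one, ← pow_two, hy2]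
  -- a subgroup mapped into itself by conjugation with y is normalized by y
  have hnorm : ∀ R : Subgroup G, (∀ h ∈ R, y * h * y⁻¹ ∈ R) →
      y ∈ Subgroup.normalizer (R : Set G) := by
    intro R hR
    rw [Subgroup.mem_set_normalizer_iff]
    intro h
    constructor
    · exact hR h
    · intro hh
      have := hR _ hh
      rw [hyinv] at this
      have e : y * (y * h * y) * y = y ^ 2 * h * y ^ 2 := by rw [pow_two]; group
      rw [e, hy2] at this
      simpa using this
  constructor
  · intro hmax x hxN hxQ hxp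
    have hxo : ∃ k : ℕ, orderOf x = p ^ k := by
      obtain ⟨j, hj⟩ := Helper20.exists_orderOf_eq_of_mem_isPGroup hQ hxp
      have h1 : x ^ (p ^ (j + 1)) = 1 := by
        rw [pow_succ', pow_mul, ← hj, pow_orderOf_eq_one]
      obtain ⟨k, -, hk⟩ := (Nat.dvd_prime_pow hp).mp (orderOf_dvd_of_pow_eq_one h1)
      exact ⟨k, hk⟩
    obtain ⟨k, hk⟩ := hxo
    have hZ : IsPGroup p (Subgroup.zpowers x) := Helper20.isPGroup_zpowers_of_orderOf hk
    set R : Subgroup G := Subgroup.zpowers x ⊔ Q with hRdef
    have hRp : IsPGroup p R :=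
      IsPGroup.to_sup_of_normal_right' hZ hQ (Subgroup.zpowers_le.mpr hxN)
    have hQR : Q ≤ R := le_sup_right
    have hxR : x ∈ R := Subgroup.mem_sup_left (Subgroup.mem_zpowers x)
    have key : y * x * y⁻¹ ∈ R → False := by
      intro hc
      have hyR : y ∈ Subgroup.normalizer (R : Set G) := by
        apply hnorm
        have hmap : R.map (MulAut.conj y).toMonoidHom ≤ R := by
          rw [hRdef, Subgroup.map_sup, sup_le_iff]
          constructor
          · rw [MonoidHom.map_zpowers, Subgroup.zpowers_le]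
            exact hc
          · rintro _ ⟨q, hq, rfl⟩
            exact hQR ((Subgroup.mem_set_normalizer_iff.mp hyQ q).mp hq)
        intro h hh
        exact hmap ⟨h, hh, rfl⟩
      have := hmax R hRp hQR hyR
      rw [this] at hxR
      exact hxQ hxR
    constructor
    · intro hc
      apply key
      have e : y * x * y⁻¹ = (y * x * y⁻¹ * x) * x⁻¹ := by group
      rw [e]
      exact R.mul_mem (hQR hc) (R.inv_mem hxR)
    · intro hc
      apply key
      have e : y * x * y⁻¹ = (y * x * y⁻¹ * x⁻¹) * x := by group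
      rw [e]
      exact R.mul_mem (hQR hc) hxR
  · intro hcond R hRp hQR hyR
    by_contra hne
    have hlt : Q < R := lt_of_le_of_ne hQR (Ne.symm hne)
    set M : Subgroup G := R ⊓ Subgroup.normalizer (Q : Set G) with hMdef
    have hQM : Q ≤ M := le_inf hQR Subgroup.le_normalizer
    have hMN : M ≤ Subgroup.normalizer (Q : Set G) := inf_le_right
    have hn : (Q.subgroupOf M).Normal := (Subgroup.normal_subgroupOf_iff_le_normalizer hQM).mpr hMN
    have hMp : IsPGroup p M := hRp.to_le inf_le_left
    have hquot : IsPGroup p (↥M ⧸ Q.subgroupOf M) := hMp.to_quotient _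
    have hneT : Q.subgroupOf M ≠ ⊤ := by
      intro htop
      obtain ⟨x, hxR, hxN, hxQ⟩ := Helper20.exists_mem_normalizer_not_mem_of_lt hRp hlt
      have hxM : x ∈ M := ⟨hxR, hxN⟩
      have : (⟨x, hxM⟩ : ↥M) ∈ Q.subgroupOf M := by rw [htop]; exact Subgroup.mem_top _
      exact hxQ (Subgroup.mem_subgroupOf.mp this)
    have hyM : ∀ m ∈ M, y * m * y⁻¹ ∈ M := by
      intro m hm
      refine ⟨(Subgroup.mem_set_normalizer_iff.mp hyR m).mp hm.1, ?_⟩
      exact Subgroup.mul_mem _ (Subgroup.mul_mem _ hyQ hm.2) (Subgroup.inv_mem _ hyQ)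
    let τ : ↥M →* ↥M :=
      { toFun := fun m => ⟨y * m * y⁻¹, hyM m m.2⟩
        map_one' := Subtype.ext (by simp)
        map_mul' := fun a b => Subtype.ext (by simp) }
    have hτ2 : ∀ m, τ (τ m) = m := by
      intro m
      apply Subtype.ext
      change y * (y * (m : G) * y⁻¹) * y⁻¹ = m
      rw [hyinv]
      have e : y * (y * (m : G) * y) * y = y ^ 2 * m * y ^ 2 := by rw [pow_two]; group
      rw [e, hy2]; simp
    have hτQ : ∀ q ∈ Q.subgroupOf M, τ q ∈ Q.subgroupOf M := by
      intro q hq
      rw [Subgroup.mem_subgroupOf] at hq ⊢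
      exact (Subgroup.mem_set_normalizer_iff.mp hyQ q).mp hq
    obtain ⟨x, hxQ, hxp, hx⟩ :=
      Helper20.exists_fixed_or_inverted_mod p (Q.subgroupOf M) hquot hneT τ hτ2 hτQ
    have h1 := hcond (x : G) (hMN x.2) (fun h => hxQ (Subgroup.mem_subgroupOf.mpr h))
      (by
        have := Subgroup.mem_subgroupOf.mp hxp
        simpa using this)
    rcases hx with hx | hx
    · apply h1.2
      have := Subgroup.mem_subgroupOf.mp hx
      simpa [τ] using this
    · apply h1.1
      have := Subgroup.mem_subgroupOf.mp hx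
      simpa [τ] using this

end Cfsg.Agent.S3981
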