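import Mathlib
import Cfsg.Statements.S3982
import Cfsg.Agent.Lib.Helper20.InvolutionAction
import Cfsg.Agent.Lib.Helper20.SylowBasic

set_option autoImplicit false
open Cfsg

namespace Cfsg.Agent.S3982

/-- one step: a non-Sylow `p`-subgroup with even normalizer lies below a bigger one -/
theorem step {G : Type*} [Group G] [Finite G] (p : ℕ) [Fact p.Prime]
    (hC : ∀ g : G, g ≠ 1 → (∃ k : ℕ, orderOf g = p ^ k) →
      Odd (Nat.card ↥(Subgroup.centralizer ({g} : Set G))))
    (Q : Subgroup G) (n : ℕ) (hQcard : Nat.card Q = p ^ n) (hQ1 : Q ≠ ⊥)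
    (hev : Even (Nat.card ↥(Subgroup.normalizer (Q : Set G))))
    (hdvd : p ^ (n + 1) ∣ Nat.card G) :
    ∃ Q' : Subgroup G, IsPGroup p Q' ∧ Nat.card Q < Nat.card Q' ∧
      Even (Nat.card ↥(Subgroup.normalizer (Q' : Set G))) := by
  have hp : p.Prime := Fact.out
  have : Fact (Nat.Prime 2) := ⟨Nat.prime_two⟩
  have hQp : IsPGroup p Q := IsPGroup.of_card hQcard
  -- an involution t in N(Q)
  obtain ⟨t', ht'⟩ := exists_prime_orderOf_dvd_card' (G := Subgroup.normalizer (Q : Set G)) 2
    (even_iff_two_dvd.mp hev)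
  set t : G := (t' : G) with ht
  have htN : t ∈ Subgroup.normalizer (Q : Set G) := t'.2
  have hto : orderOf t = 2 := by rw [ht, Subgroup.orderOf_coe]; exact ht'
  have ht2 : t ^ 2 = 1 := by rw [← hto]; exact pow_orderOf_eq_one t
  have htQ : ∀ x ∈ Q, t * x * t⁻¹ ∈ Q := fun x hx =>
    (Subgroup.mem_set_normalizer_iff.mp htN x).mp hx
  -- fixed-point-free
  have hfpf : ∀ x ∈ Q, t * x * t⁻¹ = x → x = 1 := by
    intro x hx hfix
    by_contra hx1
    obtain ⟨k, hk⟩ := Helper20.exists_orderOf_eq_of_mem_isPGroup hQp hx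
    have hodd := hC x hx1 ⟨k, hk⟩
    have htc : t ∈ Subgroup.centralizer ({x} : Set G) := by
      rw [Subgroup.mem_centralizer_singleton_iff]
      calc t * x = t * x * t⁻¹ * t := by group
        _ = x * t := by rw [hfix]
    have hd : 2 ∣ Nat.card ↥(Subgroup.centralizer ({x} : Set G)) := by
      rw [← hto]; exact Subgroup.orderOf_dvd_natCard _ htc
    exact (Nat.not_even_iff_odd.mpr hodd) (even_iff_two_dvd.mpr hd)
  have hinv := Helper20.inverts_of_fixedPointFree_involution Q t ht2 htQ hfpf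
  -- the overgroup R
  obtain ⟨R, hRcard, hQR, hRN⟩ := Helper20.exists_normal_overgroup_pow_succ hdvd hQcard
  have hRp : IsPGroup p R := IsPGroup.of_card hRcard
  obtain ⟨y, hyQ, hy1, hyR⟩ := Helper20.exists_fixed_in_normal_pSubgroup hRp hQR hRN hQ1
  obtain ⟨k, hk⟩ := Helper20.exists_orderOf_eq_of_mem_isPGroup hQp hyQ
  -- H = C(y)
  set H := Subgroup.centralizer ({y} : Set G) with hH
  have hHodd : Odd (Nat.card H) := hC y hy1 ⟨k, hk⟩
  have hRH : R ≤ H := by
    intro r hr
    rw [hH, Subgroup.mem_centralizer_singleton_iff]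
    exact hyR r hr
  have hty : t * y * t⁻¹ = y⁻¹ := hinv y hyQ
  have htinv : t⁻¹ = t := by
    rw [inv_eq_iff_mul_eq_one, ← pow_two, ht2]
  have htH : t ∈ Subgroup.normalizer (H : Set G) := by
    have hsub : ∀ h ∈ H, t * h * t⁻¹ ∈ H := by
      intro h hh
      rw [hH, Subgroup.mem_centralizer_singleton_iff] at hh ⊢
      -- h y = y h
      have h1 : h * y⁻¹ = y⁻¹ * h := by
        calc h * y⁻¹ = y⁻¹ * (y * h) * y⁻¹ := by group
          _ = y⁻¹ * (h * y) * y⁻¹ := by rw [hh]
          _ = y⁻¹ * h := by group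
      have h2 : y = t * y⁻¹ * t⁻¹ := by
        calc y = (y⁻¹)⁻¹ := (inv_inv y).symm
          _ = (t * y * t⁻¹)⁻¹ := by rw [hty]
          _ = t * y⁻¹ * t⁻¹ := by group
      calc t * h * t⁻¹ * y = t * h * t⁻¹ * (t * y⁻¹ * t⁻¹) := by rw [← h2]
        _ = t * (h * y⁻¹) * t⁻¹ := by group
        _ = t * (y⁻¹ * h) * t⁻¹ := by rw [h1]
        _ = (t * y⁻¹ * t⁻¹) * (t * h * t⁻¹) := by group
        _ = y * (t * h * t⁻¹) := by rw [← h2]
    rw [Subgroup.mem_set_normalizer_iff]
    intro h
    constructor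
    · exact hsub h
    · intro hh
      have := hsub _ hh
      rw [htinv] at this
      have e : t * (t * h * t) * t = t ^ 2 * h * t ^ 2 := by rw [pow_two]; group
      rw [e, ht2] at this
      simpa using this
  obtain ⟨S, hSH, hSp, hScard, hSt⟩ := Helper20.exists_invariant_sylow_of_odd p H hHodd t ht2 htH
  refine ⟨S, hSp, ?_, ?_⟩
  · rw [hScard, hQcard]
    have hdvdH : p ^ (n + 1) ∣ Nat.card H := by
      rw [← hRcard]; exact Subgroup.card_dvd_of_le hRH
    have hle : n + 1 ≤ (Nat.card H).factorization p :=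
      (hp.pow_dvd_iff_le_factorization Nat.card_pos.ne').mp hdvdH
    exact Nat.pow_lt_pow_right hp.one_lt (by omega)
  · have htS : t ∈ Subgroup.normalizer (S : Set G) := by
      rw [Subgroup.mem_set_normalizer_iff]
      intro h
      constructor
      · exact hSt h
      · intro hh
        have := hSt _ hh
        rw [htinv] at this
        have e : t * (t * h * t) * t = t ^ 2 * h * t ^ 2 := by rw [pow_two]; group
        rw [e, ht2] at this
        simpa using this
    rw [even_iff_two_dvd, ← hto]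
    exact Subgroup.orderOf_dvd_natCard _ htS

theorem key {G : Type*} [Group G] [Finite G] (p : ℕ) [Fact p.Prime]
    (hC : ∀ g : G, g ≠ 1 → (∃ k : ℕ, orderOf g = p ^ k) →
      Odd (Nat.card ↥(Subgroup.centralizer ({g} : Set G)))) (d : ℕ) :
    ∀ Q : Subgroup G, IsPGroup p Q → Q ≠ ⊥ →
      Even (Nat.card ↥(Subgroup.normalizer (Q : Set G))) → Nat.card G - Nat.card Q = d →
      ∃ P0 : Sylow p G, Even (Nat.card ↥(Subgroup.normalizer ((P0 : Subgroup G) : Set G))) := by
  have hp : p.Prime := Fact.out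
  induction d using Nat.strong_induction_on with
  | _ d ih =>
    intro Q hQp hQ1 hev hd
    obtain ⟨n, hn⟩ := IsPGroup.iff_card.mp hQp
    by_cases hdvd : p ^ (n + 1) ∣ Nat.card G
    · obtain ⟨Q', hQ'p, hlt, hev'⟩ := step p hC Q n hn hQ1 hev hdvd
      have hQ'1 : Q' ≠ ⊥ := by
        rintro rfl
        rw [Subgroup.card_bot] at hlt
        have : 0 < Nat.card Q := Nat.card_pos
        omega
      have hle : Nat.card Q' ≤ Nat.card G := Subgroup.card_le_card_group Q'
      exact ih (Nat.card G - Nat.card Q') (by omega) Q' hQ'p hQ'1 hev' rfl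
    · have hdvd0 : p ^ n ∣ Nat.card G := by rw [← hn]; exact Subgroup.card_subgroup_dvd_card Q
      have h1 : n ≤ (Nat.card G).factorization p :=
        (hp.pow_dvd_iff_le_factorization Nat.card_pos.ne').mp hdvd0
      have h2 : ¬ n + 1 ≤ (Nat.card G).factorization p := fun h =>
        hdvd ((hp.pow_dvd_iff_le_factorization Nat.card_pos.ne').mpr h)
      have h3 : (Nat.card G).factorization p = n := by omega
      refine ⟨Sylow.ofCard Q (by rw [hn, h3]), ?_⟩
      rw [Sylow.coe_ofCard]
      exact hev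

/-- Let p be an odd prime and G a finite group of even order divisible by p in which the centralizer of every non-identity p-element has odd order. If some nontrivial p-subgroup of G has a normalizer of even order, then the normalizer of every Sylow p-subgroup of G has even order. -/
theorem result {G : Type*} [Group G] [Finite G] (p : ℕ) [Fact p.Prime] (hp2 : p ≠ 2) (hpG : p ∣ Nat.card G) (h2G : 2 ∣ Nat.card G) (hC : ∀ g : G, g ≠ 1 → (∃ k : ℕ, orderOf g = p ^ k) → Odd (Nat.card ↥(Subgroup.centralizer ({g} : Set G)))) (Q : Subgroup G) (hQ : IsPGroup p ↥Q) (hQ1 : Q ≠ ⊥) (hev : Even (Nat.card ↥(Subgroup.normalizer (Q : Set G)))) (P : Sylow p G) : Even (Nat.card ↥(Subgroup.normalizer ((P : Subgroup G) : Set G))) := by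
  obtain ⟨P0, hP0⟩ := key p hC _ Q hQ hQ1 hev rfl
  have h1 : Nat.card (Sylow p G) = (Subgroup.normalizer ((P : Subgroup G) : Set G)).index :=
    P.card_eq_index_normalizer
  have h2 : Nat.card (Sylow p G) = (Subgroup.normalizer ((P0 : Subgroup G) : Set G)).index :=
    P0.card_eq_index_normalizer
  have h3 := (Subgroup.normalizer ((P : Subgroup G) : Set G)).card_mul_index
  have h4 := (Subgroup.normalizer ((P0 : Subgroup G) : Set G)).card_mul_index
  rw [← h1] at h3
  rw [← h2, ← h3] at h4
  have hpos : 0 < Nat.card (Sylow p G) := Nat.card_pos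
  have := Nat.eq_of_mul_eq_mul_right hpos h4
  rw [← this]
  exact hP0

end Cfsg.Agent.S3982
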