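import Mathlib
import Cfsg.Statements.S3983
import Cfsg.Agent.Lib.Helper20.TISylow

set_option autoImplicit false
open scoped Pointwise
open Cfsg

namespace Cfsg.Agent.S3983

/-- Let P be a Sylow p-subgroup of the finite group G that meets each conjugate g P g⁻¹ with g outside N_G(P) trivially, and let U be a subgroup of G of order divisible by p. Then a Sylow p-subgroup Q of U has the same property inside U: Q meets each conjugate u Q u⁻¹ with u ∈ U outside N_U(Q) trivially. -/
theorem result {G : Type*} [Group G] [Finite G] (p : ℕ) [Fact p.Prime] (P : Sylow p G) (hTI : ∀ g : G, g ∉ Subgroup.normalizer ((P : Subgroup G) : Set G) → (P : Subgroup G) ⊓ (MulAut.conj g • (P : Subgroup G)) = ⊥) (U : Subgroup G) (hU : p ∣ Nat.card ↥U) (Q : Sylow p ↥U) : ∀ u : ↥U, u ∉ Subgroup.normalizer ((Q : Subgroup ↥U) : Set ↥U) → (Q : Subgroup ↥U) ⊓ (MulAut.conj u • (Q : Subgroup ↥U)) = ⊥ := by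
  -- a Sylow subgroup of G containing the image of Q
  have hQ' : IsPGroup p ((Q : Subgroup ↥U).map U.subtype) := Q.isPGroup'.map _
  obtain ⟨P', hP'⟩ := hQ'.exists_le_sylow
  -- Q is the set of elements of U lying in P'
  have hQeq : ∀ w : ↥U, w ∈ (Q : Subgroup ↥U) ↔ (w : G) ∈ (P' : Subgroup G) := by
    have hR : IsPGroup p ((P' : Subgroup G).subgroupOf U) := P'.isPGroup'.comap_subtype
    have hle : (Q : Subgroup ↥U) ≤ (P' : Subgroup G).subgroupOf U := by
      intro w hw
      rw [Subgroup.mem_subgroupOf]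
      exact hP' (Subgroup.mem_map_of_mem _ hw)
    have := Q.is_maximal' hR hle
    intro w
    rw [← this, Subgroup.mem_subgroupOf]
  intro u hu
  rw [Helper20.inf_conj_smul_eq_bot_iff]
  intro y hy hy'
  by_cases hN : (u : G) ∈ Subgroup.normalizer ((P' : Subgroup G) : Set G)
  · exfalso
    apply hu
    rw [Subgroup.mem_set_normalizer_iff]
    intro n
    rw [SetLike.mem_coe, SetLike.mem_coe, hQeq, hQeq]
    exact Subgroup.mem_set_normalizer_iff.mp hN (n : G)
  · have := Helper20.ti_sylow_all P hTI P' (u : G) hN (y : G) ((hQeq y).mp hy) ((hQeq _).mp hy')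
    exact Subtype.ext this

end Cfsg.Agent.S3983
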