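import Mathlib
import Cfsg.Statements.S3984
import Cfsg.Agent.Lib.Helper20.TISylow
import Cfsg.Agent.Lib.Helper20.SylowConj2

set_option autoImplicit false
open scoped Pointwise
open Cfsg

namespace Cfsg.Agent.S3984

/-- Let P be a Sylow p-subgroup of the finite group G that meets each conjugate g P g⁻¹ with g outside N_G(P) trivially, and let N be a normal subgroup of G of order prime to p. Then every Sylow p-subgroup Q of G ⧸ N meets each conjugate x Q x⁻¹ with x outside its normalizer trivially. -/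
theorem result {G : Type*} [Group G] [Finite G] (p : ℕ) [Fact p.Prime] (P : Sylow p G) (hTI : ∀ g : G, g ∉ Subgroup.normalizer ((P : Subgroup G) : Set G) → (P : Subgroup G) ⊓ (MulAut.conj g • (P : Subgroup G)) = ⊥) (N : Subgroup G) [N.Normal] (hN : (Nat.card ↥N).Coprime p) (Q : Sylow p (G ⧸ N)) : ∀ x : G ⧸ N, x ∉ Subgroup.normalizer ((Q : Subgroup (G ⧸ N)) : Set (G ⧸ N)) → (Q : Subgroup (G ⧸ N)) ⊓ (MulAut.conj x • (Q : Subgroup (G ⧸ N))) = ⊥ := by
  have hsurj := QuotientGroup.mk'_surjective N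
  obtain ⟨P', hP'⟩ := Sylow.mapSurjective_surjective hsurj p Q
  have hQ : (Q : Subgroup (G ⧸ N)) = (P' : Subgroup G).map (QuotientGroup.mk' N) := by
    rw [← hP']; rfl
  intro x hx
  rw [Helper20.inf_conj_smul_eq_bot_iff]
  intro y hy hy'
  obtain ⟨g, rfl⟩ := hsurj x
  rw [hQ] at hy hy'
  obtain ⟨a, haP, rfl⟩ := hy
  obtain ⟨b, hbP, hb⟩ := hy'
  have hb' : QuotientGroup.mk' N b = QuotientGroup.mk' N (g⁻¹ * a * g) := by
    rw [hb]; simp
  have hn : b⁻¹ * (g⁻¹ * a * g) ∈ N := by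
    rw [QuotientGroup.mk'_apply, QuotientGroup.mk'_apply] at hb'
    exact QuotientGroup.eq.mp hb'
  have hcK : g⁻¹ * a * g ∈ (P' : Subgroup G) ⊔ N := by
    have e : g⁻¹ * a * g = b * (b⁻¹ * (g⁻¹ * a * g)) := by group
    rw [e]; exact Subgroup.mul_mem_sup hbP hn
  have hord : ∃ k : ℕ, orderOf (g⁻¹ * a * g) = p ^ k := by
    obtain ⟨k, hk⟩ := Helper20.exists_orderOf_eq_of_mem_isPGroup P'.isPGroup' haP
    refine ⟨k, ?_⟩
    have := Helper20.orderOf_conj g⁻¹ a
    rw [inv_inv] at this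
    rw [this, hk]
  obtain ⟨k, hkK, hk⟩ := Helper20.exists_conj_mem_sylow_of_le P' le_sup_left hcK hord
  have h1 : (g * k)⁻¹ * a * (g * k) ∈ (P' : Subgroup G) := by
    have e : (g * k)⁻¹ * a * (g * k) = k⁻¹ * (g⁻¹ * a * g) * k := by group
    rw [e]; exact hk
  by_cases hgk : g * k ∈ Subgroup.normalizer ((P' : Subgroup G) : Set G)
  · exfalso
    apply hx
    have h2 : QuotientGroup.mk' N (g * k) ∈
        Subgroup.normalizer ((Q : Subgroup (G ⧸ N)) : Set (G ⧸ N)) := by
      rw [hQ]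
      exact Subgroup.le_normalizer_map _ (Subgroup.mem_map_of_mem _ hgk)
    have h3 : QuotientGroup.mk' N k ∈ (Q : Subgroup (G ⧸ N)) := by
      have : QuotientGroup.mk' N k ∈ ((P' : Subgroup G) ⊔ N).map (QuotientGroup.mk' N) :=
        Subgroup.mem_map_of_mem _ hkK
      rw [Subgroup.map_sup, QuotientGroup.map_mk'_self, sup_bot_eq] at this
      rw [hQ]; exact this
    have h4 : QuotientGroup.mk' N k ∈
        Subgroup.normalizer ((Q : Subgroup (G ⧸ N)) : Set (G ⧸ N)) := Subgroup.le_normalizer h3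
    have e : QuotientGroup.mk' N g = QuotientGroup.mk' N (g * k) * (QuotientGroup.mk' N k)⁻¹ := by
      rw [map_mul]; group
    rw [e]
    exact Subgroup.mul_mem _ h2 (Subgroup.inv_mem _ h4)
  · have := Helper20.ti_sylow_all P hTI P' (g * k) hgk a haP h1
    rw [this]; simp

end Cfsg.Agent.S3984
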