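import Mathlib
import Cfsg.Statements.S3985
import Cfsg.Agent.Lib.Helper20.CyclicSylowAut
import Cfsg.Agent.Lib.Helper20.TISylow

set_option autoImplicit false
open Cfsg

namespace Cfsg.Agent.S3985

open scoped Pointwise

/-- Let P be a cyclic Sylow p-subgroup of the finite group G. Then P meets each conjugate g P g⁻¹ with g outside N_G(P) trivially if and only if P is weakly self-centralizing: C_G(x) = C_G(P) for every non-identity x ∈ P. -/
theorem result {G : Type*} [Group G] [Finite G] (p : ℕ) [Fact p.Prime] (P : Sylow p G) (hcyc : IsCyclic ↥(P : Subgroup G)) : (∀ g : G, g ∉ Subgroup.normalizer ((P : Subgroup G) : Set G) → (P : Subgroup G) ⊓ (MulAut.conj g • (P : Subgroup G)) = ⊥) ↔ ∀ x : G, x ∈ (P : Subgroup G) → x ≠ 1 → Subgroup.centralizer ({x} : Set G) = Subgroup.centralizer ((P : Subgroup G) : Set G) := by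
  -- P is abelian
  have hab : ∀ a ∈ (P : Subgroup G), ∀ b ∈ (P : Subgroup G), a * b = b * a := by
    intro a ha b hb
    have hcomm : IsMulCommutative ↥(P : Subgroup G) := IsCyclic.isMulCommutative
    have := hcomm.is_comm.comm (⟨a, ha⟩ : ↥(P : Subgroup G)) ⟨b, hb⟩
    exact congrArg Subtype.val this
  constructor
  · intro hTI x hx hx1
    ext c
    rw [Subgroup.mem_centralizer_singleton_iff, Subgroup.mem_centralizer_iff]
    constructor
    · intro hcx
      have hcN : c ∈ Subgroup.normalizer ((P : Subgroup G) : Set G) := by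
        by_contra hcN
        have h1 := hTI c hcN
        rw [Helper20.inf_conj_smul_eq_bot_iff] at h1
        apply hx1
        apply h1 x hx
        have : c⁻¹ * x * c = x := by
          rw [mul_assoc, ← hcx, ← mul_assoc, inv_mul_cancel, one_mul]
        rw [this]; exact hx
      intro z hz
      exact (Helper20.commute_of_normalizes_cyclic_sylow P hcyc hcN hx hx1 hcx z hz).symm
    · intro h
      exact (h x hx).symm
  · intro hwsc g hg
    by_contra hne
    apply hg
    rw [Helper20.inf_conj_smul_eq_bot_iff] at hne
    simp only [not_forall] at hne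
    obtain ⟨x, hx, hx', hx1⟩ := hne
    have hC := hwsc x hx hx1
    -- conj g • P ≤ P
    have hle : ((g • P : Sylow p G) : Subgroup G) ≤ (P : Subgroup G) := by
      intro z hz
      rw [Sylow.coe_subgroup_smul, Helper20.mem_conj_smul_iff] at hz
      -- z commutes with x
      have hzx : z * x = x * z := by
        have h1 := hab (g⁻¹ * z * g) hz (g⁻¹ * x * g) hx'
        calc z * x = g * ((g⁻¹ * z * g) * (g⁻¹ * x * g)) * g⁻¹ := by group
          _ = g * ((g⁻¹ * x * g) * (g⁻¹ * z * g)) * g⁻¹ := by rw [h1]
          _ = x * z := by group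
      have hzC : z ∈ Subgroup.centralizer ((P : Subgroup G) : Set G) := by
        rw [← hC, Subgroup.mem_centralizer_singleton_iff]
        exact hzx
      have hzN : z ∈ Subgroup.normalizer ((P : Subgroup G) : Set G) :=
        Subgroup.centralizer_le_normalizer _ hzC
      obtain ⟨k, hk⟩ := Helper20.exists_orderOf_eq_of_mem_isPGroup P.isPGroup' hz
      have hzo : orderOf z = p ^ k := by
        rw [← hk]
        have := MulEquiv.orderOf_eq (MulAut.conj g⁻¹) z
        rw [MulAut.conj_apply, inv_inv] at this
        exact this.symm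
      exact Helper20.mem_sylow_of_mem_normalizer_of_orderOf_csa P hzN ⟨k, hzo⟩
    have heq : (P : Subgroup G) = ((g • P : Sylow p G) : Subgroup G) :=
      (g • P).is_maximal' P.isPGroup' hle
    have : g • P = P := Sylow.ext heq.symm
    exact Sylow.smul_eq_iff_mem_normalizer.mp this

end Cfsg.Agent.S3985
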