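import Mathlib
import Cfsg.Statements.S3987
import Cfsg.Agent.Lib.Helper20.SylowDirectFactor
import Cfsg.Agent.Lib.Helper20.Basic

set_option autoImplicit false
open Cfsg

namespace Cfsg.Agent.S3987

/-- multiplicativity of the class sizes forces `x` and `y` to commute -/
theorem commute_of_index_mul {G : Type*} [Group G] [Finite G] (x y : G)
    (h : (Subgroup.centralizer ({x * y} : Set G)).index =
      (Subgroup.centralizer ({x} : Set G)).index * (Subgroup.centralizer ({y} : Set G)).index) :
    x * y = y * x := by
  -- the product map on classes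
  let f : {u : G // IsConj x u} × {v : G // IsConj y v} → G := fun w => w.1.1 * w.2.1
  have hcard : Nat.card ({u : G // IsConj x u} × {v : G // IsConj y v}) =
      Nat.card {w : G // IsConj (x * y) w} := by
    rw [Nat.card_prod, Helper20.card_isConj_eq_index, Helper20.card_isConj_eq_index,
      Helper20.card_isConj_eq_index, h]
  -- the class of xy is contained in the range of f
  have hsub : {w : G | IsConj (x * y) w} ⊆ Set.range f := by
    intro w hw
    obtain ⟨g, hg⟩ := isConj_iff.mp hw
    refine ⟨(⟨g * x * g⁻¹, isConj_iff.mpr ⟨g, rfl⟩⟩, ⟨g * y * g⁻¹, isConj_iff.mpr ⟨g, rfl⟩⟩), ?_⟩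
    simp only [f]
    rw [← hg]; group
  have hinj : Function.Injective f := by
    have hfin : Finite ({u : G // IsConj x u} × {v : G // IsConj y v}) := inferInstance
    have h1 : Nat.card ({u : G // IsConj x u} × {v : G // IsConj y v}) ≤ Nat.card (Set.range f) := by
      rw [hcard]
      exact Nat.card_mono (Set.toFinite _) hsub
    -- a surjection onto a set at least as large is injective
    have hsurj : Function.Surjective (Set.rangeFactorization f) := Set.rangeFactorization_surjective
    have hbij : Function.Bijective (Set.rangeFactorization f) := by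
      rw [Nat.bijective_iff_surjective_and_card]
      refine ⟨hsurj, le_antisymm h1 ?_⟩
      exact Nat.card_le_card_of_surjective _ hsurj
    intro a b hab
    apply hbij.1
    exact Subtype.ext hab
  have e1 : f (⟨y * x * y⁻¹, isConj_iff.mpr ⟨y, rfl⟩⟩, ⟨y, IsConj.refl y⟩) = y * x := by
    simp only [f]; group
  have e2 : f (⟨x, IsConj.refl x⟩, ⟨x⁻¹ * y * x, isConj_iff.mpr ⟨x⁻¹, by group⟩⟩) = y * x := by
    simp only [f]; group
  have := hinj (e1.trans e2.symm)
  have h3 : y * x * y⁻¹ = x := congrArg (fun w => w.1.1) this
  calc x * y = (y * x * y⁻¹) * y := by rw [h3]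
    _ = y * x := by group

/-- Let p be a prime and G a finite group. Then some Sylow p-subgroup of G is a direct factor of G (normal with a normal complement) if and only if for every element x of p-power order and every element y whose order is a power of a prime other than p, the conjugacy class of x y has as many elements as the product of the sizes of the classes of x and of y. -/
theorem result {G : Type*} [Group G] [Finite G] (p : ℕ) [Fact p.Prime] : (∃ (P : Sylow p G) (K : Subgroup G), (P : Subgroup G).Normal ∧ K.Normal ∧ (P : Subgroup G) ⊓ K = ⊥ ∧ (P : Subgroup G) ⊔ K = ⊤) ↔ ∀ x y : G, (∃ a : ℕ, orderOf x = p ^ a) → (∃ q b : ℕ, q.Prime ∧ q ≠ p ∧ orderOf y = q ^ b) → (Subgroup.centralizer ({x * y} : Set G)).index = (Subgroup.centralizer ({x} : Set G)).index * (Subgroup.centralizer ({y} : Set G)).index := by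
  constructor
  · rintro ⟨P, K, hPn, hKn, hinf, hsup⟩ x y hx hy
    obtain ⟨a, ha⟩ := hx
    obtain ⟨q, b, hq, hqp, hb⟩ := hy
    have hxP : x ∈ (P : Subgroup G) := Helper20.mem_sylow_of_normal_of_orderOf P ha
    have hyK : y ∈ K := Helper20.df_mem_right hPn hKn hinf hsup hq hqp hb
    -- centralizer of xy is the intersection
    have hcent : Subgroup.centralizer ({x * y} : Set G) =
        Subgroup.centralizer ({x} : Set G) ⊓ Subgroup.centralizer ({y} : Set G) := by
      ext g
      rw [Subgroup.mem_inf, Subgroup.mem_centralizer_singleton_iff,
        Subgroup.mem_centralizer_singleton_iff, Subgroup.mem_centralizer_singleton_iff]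
      constructor
      · intro hg
        have h1 : (g * x * g⁻¹) * (g * y * g⁻¹) = x * y := by
          calc (g * x * g⁻¹) * (g * y * g⁻¹) = g * (x * y) * g⁻¹ := by group
            _ = (x * y) * g * g⁻¹ := by rw [hg]
            _ = x * y := by group
        obtain ⟨h2, h3⟩ := Helper20.df_unique hinf (hPn.conj_mem x hxP g) hxP
          (hKn.conj_mem y hyK g) hyK h1
        constructor
        · calc g * x = (g * x * g⁻¹) * g := by group
            _ = x * g := by rw [h2]
        · calc g * y = (g * y * g⁻¹) * g := by group
            _ = y * g := by rw [h3]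
      · rintro ⟨h1, h2⟩
        calc g * (x * y) = (g * x) * y := by group
          _ = x * (g * y) := by rw [h1]; group
          _ = x * y * g := by rw [h2]; group
    rw [hcent]
    apply Helper20.index_inf_of_mul
    intro g
    obtain ⟨u, hu, k, hk, rfl⟩ := Helper20.df_decomp hKn hsup g
    refine ⟨u, ?_, k, ?_, rfl⟩
    · rw [Subgroup.mem_centralizer_singleton_iff]
      exact Helper20.df_commute hPn hKn hinf hu hyK
    · rw [Subgroup.mem_centralizer_singleton_iff]
      exact (Helper20.df_commute hPn hKn hinf hxP hk).symm
  · intro h
    apply Helper20.directFactor_of_commute p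
    intro x y hx hy
    exact commute_of_index_mul x y (h x y hx hy)

end Cfsg.Agent.S3987
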