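import Mathlib
import Cfsg.Statements.S3992
import Cfsg.Agent.Lib.Helper20.CPBasic
import Cfsg.Agent.Lib.Helper20.CPNorm
import Cfsg.Agent.Lib.Helper20.CPSolv
import Cfsg.Agent.Lib.Helper20.CPMin

set_option autoImplicit false
open Cfsg
open Cfsg.Agent.Helper20

namespace Cfsg.Agent.S3992

/-- Let G be a finite non-solvable group in which every element has prime-power order, and let R be its largest solvable normal subgroup. Then R is a p-group for some prime p; G/R has a non-abelian simple normal subgroup contained in every nontrivial normal subgroup of G/R (its unique minimal normal subgroup); and the order of every solvable subgroup of G has at most two prime divisors. -/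
theorem result {G : Type*} [Group G] [Finite G] (hns : ¬ Group.IsSolvable G) (hpp : ∀ g : G, g ≠ 1 → IsPrimePow (orderOf g))
    (R : Subgroup G) [R.Normal] (hRs : Group.IsSolvable ↥R) (hRmax : ∀ N : Subgroup G, N.Normal → Group.IsSolvable ↥N → N ≤ R) :
    (∃ p : ℕ, p.Prime ∧ IsPGroup p ↥R) ∧
      (∃ M : Subgroup (G ⧸ R), M.Normal ∧ IsSimpleGroup ↥M ∧ ¬ IsMulCommutative ↥M ∧
        ∀ N : Subgroup (G ⧸ R), N.Normal → N ≠ ⊥ → M ≤ N) ∧
      ∀ H : Subgroup G, Group.IsSolvable ↥H → (Nat.card ↥H).primeFactors.card ≤ 2 := by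
  have hcp : CP G := hpp
  refine ⟨hcp.radical_isPGroup hns R hRs, ?_, ?_⟩
  · haveI : Nontrivial (G ⧸ R) := by
      rw [← not_subsingleton_iff_nontrivial]
      intro hsub
      have hRtop : R = ⊤ := QuotientGroup.subgroup_eq_top_of_subsingleton R hsub
      apply hns
      exact isSolvable_of_sup_eq_top R R hRs hRs (by rw [hRtop]; simp)
    apply (hcp.quotient R).exists_min_normal
    intro Nb hNbn hNbs
    haveI := hNbn
    haveI := hNbs
    haveI := hRs
    set N : Subgroup G := Nb.comap (QuotientGroup.mk' R) with hN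
    have hNn : N.Normal := hNbn.comap _
    have hRN : R ≤ N := by
      intro x hx
      rw [hN, Subgroup.mem_comap]
      have : (QuotientGroup.mk' R) x = 1 := by
        rw [QuotientGroup.mk'_apply, QuotientGroup.eq_one_iff]; exact hx
      rw [this]; exact one_mem _
    have hNs : Group.IsSolvable N := by
      let ψ : N →* Nb := (QuotientGroup.mk' R).subgroupComap Nb
      apply Group.isSolvable_of_ker_le_range (Subgroup.inclusion hRN) ψ
      intro n hn
      rw [MonoidHom.mem_ker] at hn
      have h1 : ((ψ n : Nb) : G ⧸ R) = 1 := by rw [hn]; rfl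
      have h2 : ((n : G) : G ⧸ R) = 1 := h1
      rw [QuotientGroup.eq_one_iff] at h2
      exact ⟨⟨(n : G), h2⟩, Subtype.ext rfl⟩
    have hle := hRmax N hNn hNs
    rw [eq_bot_iff]
    intro x hx
    obtain ⟨g, rfl⟩ := QuotientGroup.mk_surjective x
    have hg : g ∈ N := by rw [hN, Subgroup.mem_comap]; exact hx
    rw [Subgroup.mem_bot, QuotientGroup.eq_one_iff]
    exact hle hg
  · intro H hHs
    exact (hcp.subgroup H).card_primeFactors_le_two hHs

end Cfsg.Agent.S3992
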