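import Mathlib
import Cfsg.Statements.S3994
import Cfsg.Agent.Lib.Helper20.Frobenius
import Cfsg.Agent.Lib.Helper20.FrobDecomp2

set_option autoImplicit false
open Cfsg

namespace Cfsg.Agent.S3994

open Finset

/-- Let G be a finite group and n a positive integer. The number of elements of G whose order is divisible by n is either 0 or divisible by the largest divisor of the order of G that is coprime to n. -/
theorem result {G : Type*} [Group G] [Finite G] (n : ℕ) (hn : 0 < n) :
    Nat.card {g : G // n ∣ orderOf g} = 0 ∨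
      (Nat.card G / Nat.gcd (Nat.card G) (n ^ Nat.card G)) ∣ Nat.card {g : G // n ∣ orderOf g} := by
  right
  classical
  have : Fintype G := Fintype.ofFinite G
  set N := Nat.card G with hN
  have hNpos : 0 < N := Nat.card_pos
  set a := Nat.gcd N (n ^ N) with ha
  set m := N / a with hm
  have ham : a * m = N := Nat.mul_div_cancel' (Nat.gcd_dvd_left N (n ^ N))
  have hmpos : 0 < m := by
    rcases Nat.eq_zero_or_pos m with h | h
    · rw [h, mul_zero] at ham; omega
    · exact h
  have hcop_mn : Nat.Coprime m n := Helper20.coprime_div_gcd_pow N n hNpos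
  have hcop_am : Nat.Coprime a m :=
    Nat.Coprime.coprime_dvd_left (Nat.gcd_dvd_right N (n ^ N))
      (Nat.Coprime.pow_left N hcop_mn.symm)
  obtain ⟨e, f, he1, he0, hf0, hf1, hef⟩ := Helper20.exists_crt_idempotents a m hcop_am
  have hpowN : ∀ g : G, g ^ (a * m) = 1 := by
    intro g
    rw [ham, hN]
    exact pow_card_eq_one'
  rw [Nat.card_eq_fintype_card, Fintype.card_subtype]
  set X : Finset G := univ.filter (fun g : G => n ∣ orderOf g) with hX
  set U : Finset G := univ.filter (fun u : G => u ^ a = 1 ∧ n ∣ orderOf u) with hU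
  have hmaps : Set.MapsTo (fun g : G => g ^ e) (X : Set G) (U : Set G) := by
    intro g hg
    rw [Finset.mem_coe, hX, Finset.mem_filter] at hg
    rw [Finset.mem_coe, hU, Finset.mem_filter]
    refine ⟨Finset.mem_univ _, ?_, ?_⟩
    · obtain ⟨k, hk⟩ := he0
      rw [← pow_mul, hk]
      have : m * k * a = (a * m) * k := by ring
      rw [this, pow_mul, hpowN, one_pow]
    · have h1 : g ^ (e + f) = g ^ 1 := by
        rw [pow_eq_pow_iff_modEq]
        exact hef.of_dvd (orderOf_dvd_of_pow_eq_one (hpowN g))
      rw [pow_one, pow_add] at h1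
      have hcomm : Commute (g ^ e) (g ^ f) := Commute.pow_pow (Commute.refl g) e f
      have h2 : orderOf g ∣ orderOf (g ^ e) * orderOf (g ^ f) := by
        conv_lhs => rw [← h1]
        exact dvd_trans hcomm.orderOf_mul_dvd_lcm (Nat.lcm_dvd_mul _ _)
      have h3 : orderOf (g ^ f) ∣ m := by
        apply orderOf_dvd_of_pow_eq_one
        obtain ⟨k, hk⟩ := hf0
        rw [← pow_mul, hk]
        have : a * k * m = (a * m) * k := by ring
        rw [this, pow_mul, hpowN, one_pow]
      have h4 : Nat.Coprime n (orderOf (g ^ f)) :=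
        Nat.Coprime.coprime_dvd_right h3 hcop_mn.symm
      exact h4.dvd_of_dvd_mul_right (dvd_trans hg.2 h2)
  rw [Finset.card_eq_sum_card_fiberwise hmaps]
  have hfib : ∀ u ∈ U, (X.filter (fun g => g ^ e = u)).card = Helper20.centCount m u := by
    intro u hu
    rw [hU, Finset.mem_filter] at hu
    unfold Helper20.centCount
    rw [← Helper20.card_fiber_eq' a m e f he1 he0 hf0 hf1 hef u hu.2.1]
    congr 1
    ext g
    simp only [hX, Finset.mem_filter, Finset.mem_univ, true_and]
    constructor
    · rintro ⟨-, h3⟩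
      exact ⟨hpowN g, h3⟩
    · rintro ⟨-, h3⟩
      refine ⟨?_, h3⟩
      have : orderOf u ∣ orderOf g := by rw [← h3]; exact orderOf_pow_dvd e
      exact dvd_trans hu.2.2 this
  rw [Finset.sum_congr rfl hfib]
  apply Helper20.dvd_sum_of_conj_invariant U (Helper20.centCount m) m
  · intro u hu g
    rw [hU, Finset.mem_filter] at hu ⊢
    refine ⟨Finset.mem_univ _, ?_, ?_⟩
    · rw [conj_pow, hu.2.1]
      group
    · rw [Helper20.orderOf_conj]
      exact hu.2.2
  · intro u g
    exact Helper20.centCount_conj m u g
  · intro u _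
    set C : Subgroup G := Subgroup.centralizer ({u} : Set G) with hC
    rw [Helper20.centCount_eq_card]
    have h1 := Helper20.frobenius_main (Nat.card C) C rfl (Nat.gcd m (Nat.card C))
      (Nat.gcd_dvd_right _ _)
    rw [Helper20.card_pow_gcd_eq] at h1
    apply Helper20.dvd_mul_of_gcd_dvd m (Nat.card C) C.index _ hmpos _ h1
    rw [Subgroup.card_mul_index]
    exact Dvd.intro_left _ ham

end Cfsg.Agent.S3994
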