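import Mathlib
import Cfsg.Statements.S3995
import Cfsg.Agent.Lib.Helper20.OrderCount
import Cfsg.Agent.Lib.Helper20.UniqueInvolution

set_option autoImplicit false
open Cfsg

namespace Cfsg.Agent.S3995

open Cfsg.Agent.Helper20

/-- The hypothesis of the statement, unpacked. -/
structure Hyp (G : Type*) [Group G] (n : ℕ) : Prop where
  one_or : ∀ g : G, ordCnt G (orderOf g) = 1 ∨ ordCnt G (orderOf g) = n
  ex : ∃ g : G, ordCnt G (orderOf g) = n
  ne_one : n ≠ 1

variable {G : Type*} [Group G] [Finite G] {n : ℕ}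

theorem Hyp.pos (H : Hyp G n) : 0 < n := by
  obtain ⟨g, hg⟩ := H.ex
  rw [← hg, ordCnt_pos_iff]
  exact ⟨g, rfl⟩

theorem Hyp.cnt_of_three_le (H : Hyp G n) (g : G) (h3 : 3 ≤ orderOf g) :
    ordCnt G (orderOf g) = n := by
  rcases H.one_or g with h1 | h1
  · exfalso
    have hd := totient_dvd_ordCnt (G := G) (orderOf g)
    rw [h1, Nat.dvd_one] at hd
    have := Nat.totient_even (n := orderOf g) (by omega)
    rw [hd] at this
    exact absurd this (by decide)
  · exact h1

theorem Hyp.cnt_of_three_le' (H : Hyp G n) {e : ℕ} (g : G) (hg : orderOf g = e) (h3 : 3 ≤ e) :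
    ordCnt G e = n := by
  rw [← hg]; exact H.cnt_of_three_le g (by omega)

theorem Hyp.odd_prime (H : Hyp G n) {p : ℕ} (hp : p.Prime) (hp2 : p ≠ 2)
    (hpN : p ∣ Nat.card G) : ordCnt G p = n ∧ p ∣ n + 1 := by
  haveI : Fact p.Prime := ⟨hp⟩
  obtain ⟨g, hg⟩ := exists_prime_orderOf_dvd_card' p hpN
  have h3 : 3 ≤ p := by have := hp.two_le; omega
  have hc : ordCnt G p = n := H.cnt_of_three_le' g hg h3
  refine ⟨hc, ?_⟩
  have := frobenius_dvd_sum (G := G) p hpN
  rw [Nat.Prime.divisors hp, Finset.sum_pair hp.one_lt.ne, ordCnt_one, hc] at this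
  rwa [add_comm]

theorem Hyp.no_sq (H : Hyp G n) {p : ℕ} (hp : p.Prime) (hp2 : p ≠ 2) (g : G) :
    orderOf g ≠ p ^ 2 := by
  intro hg
  have hpN : p ∣ Nat.card G := by
    have := orderOf_dvd_natCard g
    rw [hg] at this
    exact dvd_trans (dvd_pow_self p (by norm_num)) this
  obtain ⟨_, h1⟩ := H.odd_prime hp hp2 hpN
  have h3 : 3 ≤ p ^ 2 := by
    have := hp.two_le
    nlinarith
  have hc : ordCnt G (p ^ 2) = n := H.cnt_of_three_le' g hg h3
  have hd := totient_dvd_ordCnt (G := G) (p ^ 2)
  rw [hc, Nat.totient_prime_pow hp (by norm_num)] at hd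
  have hpn : p ∣ n := by
    rw [show 2 - 1 = 1 by norm_num, pow_one] at hd
    exact dvd_trans (Dvd.intro _ rfl) hd
  have : p ∣ 1 := by
    have := Nat.dvd_sub h1 hpn
    simpa using this
  exact hp.one_lt.ne' (Nat.dvd_one.1 this)

omit [Finite G] in
theorem pow_prime_pow_eq_one_iff {p b : ℕ} (hp : p.Prime) (hb : 1 ≤ b)
    (hno : ∀ g : G, orderOf g ≠ p ^ 2) (g : G) : g ^ (p ^ b) = 1 ↔ g ^ p = 1 := by
  constructor
  · intro h
    obtain ⟨i, hi, hgi⟩ := (Nat.dvd_prime_pow hp).1 (orderOf_dvd_of_pow_eq_one h)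
    by_cases hi2 : 2 ≤ i
    · exfalso
      apply hno (g ^ (p ^ (i - 2)))
      rw [orderOf_pow_of_dvd (pow_pos hp.pos _).ne', hgi]
      · rw [Nat.pow_div (by omega) hp.pos]
        congr 1
        omega
      · rw [hgi]; exact pow_dvd_pow p (by omega)
    · rw [← orderOf_dvd_iff_pow_eq_one, hgi]
      have : i ≤ 1 := by omega
      calc p ^ i ∣ p ^ 1 := pow_dvd_pow p this
        _ = p := pow_one p
  · intro h
    obtain ⟨c, rfl⟩ : ∃ c, b = c + 1 := ⟨b - 1, by omega⟩
    rw [pow_succ', pow_mul, h, one_pow]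

theorem Hyp.prime_pow_dvd (H : Hyp G n) {p b : ℕ} (hp : p.Prime) (hp2 : p ≠ 2)
    (hb : p ^ b ∣ Nat.card G) : p ^ b ∣ n + 1 := by
  rcases Nat.eq_zero_or_pos b with h0 | h0
  · rw [h0, pow_zero]; exact one_dvd _
  have hpN : p ∣ Nat.card G := dvd_trans (dvd_pow_self p (by omega)) hb
  obtain ⟨hc, _⟩ := H.odd_prime hp hp2 hpN
  have h1 := frobenius_dvd (G := G) (p ^ b) hb
  have h2 : Nat.card {g : G // g ^ (p ^ b) = 1} = Nat.card {g : G // g ^ p = 1} :=
    Nat.card_congr (Equiv.subtypeEquivRight
      (pow_prime_pow_eq_one_iff hp h0 (fun g => H.no_sq hp hp2 g)))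
  rw [h2, natCard_pow_eq_one_eq_sum p hp.ne_zero, Nat.Prime.divisors hp,
    Finset.sum_pair hp.one_lt.ne, ordCnt_one, hc, add_comm] at h1
  exact h1

theorem Hyp.oddpart_dvd (H : Hyp G n) {a m : ℕ} (hN : Nat.card G = 2 ^ a * m) (hm : Odd m) :
    m ∣ n + 1 := by
  rw [Nat.dvd_iff_prime_pow_dvd_dvd]
  intro q k hq hqk
  rcases Nat.eq_zero_or_pos k with h0 | h0
  · rw [h0, pow_zero]; exact one_dvd _
  have hq2 : q ≠ 2 := by
    rintro rfl
    have : 2 ∣ m := dvd_trans (dvd_pow_self 2 (by omega)) hqk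
    rw [Nat.odd_iff] at hm
    omega
  apply H.prime_pow_dvd hq hq2
  rw [hN]
  exact dvd_trans hqk (Dvd.intro_left _ rfl)

/-- If the odd part `m` of the group order is not `1`, all elements of odd order have order `1`
or a fixed odd prime `p`. -/
theorem Hyp.unique_odd_order (H : Hyp G n) {a m : ℕ} (hN : Nat.card G = 2 ^ a * m) (hm : Odd m)
    (hm1 : 1 < m) :
    ∃ p : ℕ, p.Prime ∧ p ≠ 2 ∧ (∃ g : G, orderOf g = p) ∧
      ∀ g : G, Odd (orderOf g) → orderOf g = 1 ∨ orderOf g = p := by
  classical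
  have hmN : m ∣ Nat.card G := by rw [hN]; exact Dvd.intro_left _ rfl
  have hm2 : ¬ 2 ∣ m := by rw [Nat.odd_iff] at hm; omega
  have hm0 : m ≠ 0 := by omega
  have hmn : m ∣ n + 1 := H.oddpart_dvd hN hm
  have hcnt : ∀ e ∈ m.divisors.erase 1,
      ordCnt G e = if (∃ g : G, orderOf g = e) then n else 0 := by
    intro e he
    rw [Finset.mem_erase, Nat.mem_divisors] at he
    split_ifs with hex
    · obtain ⟨g, hg⟩ := hex
      apply H.cnt_of_three_le' g hg
      have h2 : e ≠ 2 := by rintro rfl; exact hm2 he.2.1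
      have h0 : e ≠ 0 := by
        rintro rfl
        exact hm0 (zero_dvd_iff.1 he.2.1)
      have := he.1
      omega
    · exact ordCnt_eq_zero e hex
  obtain ⟨R, hR⟩ : ∃ R : Finset ℕ,
      R = (m.divisors.erase 1).filter (fun e => ∃ g : G, orderOf g = e) := ⟨_, rfl⟩
  have hsum : ∑ e ∈ m.divisors, ordCnt G e = 1 + n * R.card := by
    rw [← Finset.add_sum_erase _ _ (Nat.one_mem_divisors.2 hm0), ordCnt_one]
    congr 1
    rw [Finset.sum_congr rfl hcnt, ← Finset.sum_filter, ← hR, Finset.sum_const, smul_eq_mul,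
      mul_comm]
  have hfrob : m ∣ 1 + n * R.card := by rw [← hsum]; exact frobenius_dvd_sum m hmN
  -- membership in R
  have hmemR : ∀ g : G, Odd (orderOf g) → orderOf g ≠ 1 → orderOf g ∈ R := by
    intro g hg hg1
    rw [hR, Finset.mem_filter, Finset.mem_erase, Nat.mem_divisors]
    refine ⟨⟨hg1, ?_, hm0⟩, g, rfl⟩
    have h1 := orderOf_dvd_natCard g
    rw [hN] at h1
    have hco : Nat.Coprime (orderOf g) (2 ^ a) := by
      apply Nat.Coprime.pow_right
      rw [Nat.coprime_two_right]
      exact hg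
    exact hco.dvd_of_dvd_mul_left h1
  -- R is nonempty
  obtain ⟨q, hq, hqm⟩ := Nat.exists_prime_and_dvd (by omega : m ≠ 1)
  haveI : Fact q.Prime := ⟨hq⟩
  obtain ⟨y, hy⟩ := exists_prime_orderOf_dvd_card' (G := G) q (dvd_trans hqm hmN)
  have hq2 : q ≠ 2 := by rintro rfl; exact hm2 hqm
  have hqodd : Odd q := hq.odd_of_ne_two hq2
  have hqR : q ∈ R := by
    have := hmemR y (by rw [hy]; exact hqodd) (by rw [hy]; exact hq.one_lt.ne')
    rwa [hy] at this
  have hRpos : 1 ≤ R.card := Finset.card_pos.2 ⟨q, hqR⟩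
  have hRle : R.card ≤ m - 1 := by
    have h1 : R.card ≤ (m.divisors.erase 1).card := by
      rw [hR]; exact Finset.card_filter_le _ _
    have h2 : (m.divisors.erase 1).card = m.divisors.card - 1 :=
      Finset.card_erase_of_mem (Nat.one_mem_divisors.2 hm0)
    have h3 := Nat.card_divisors_le_self m
    omega
  have hdvd : m ∣ n * (R.card - 1) := by
    have h1 := Nat.dvd_sub hfrob hmn
    have h2 : 1 + n * R.card - (n + 1) = n * (R.card - 1) := by
      obtain ⟨c, hc⟩ : ∃ c, R.card = c + 1 := ⟨R.card - 1, by omega⟩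
      rw [hc, Nat.add_sub_cancel, mul_add, mul_one]
      omega
    rwa [h2] at h1
  have hcop : Nat.Coprime m n := by
    have h1 : Nat.Coprime (n + 1) n := by simp
    exact Nat.Coprime.coprime_dvd_left hmn h1
  have hdvd' : m ∣ R.card - 1 := hcop.dvd_of_dvd_mul_left hdvd
  have hR1 : R.card = 1 := by
    have := Nat.eq_zero_of_dvd_of_lt hdvd' (by omega)
    omega
  obtain ⟨r, hr⟩ := Finset.card_eq_one.1 hR1
  have hqr : q = r := by rw [hr, Finset.mem_singleton] at hqR; exact hqR
  refine ⟨q, hq, hq2, ⟨y, hy⟩, ?_⟩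
  intro g hg
  by_cases hg1 : orderOf g = 1
  · left; exact hg1
  · right
    have := hmemR g hg hg1
    rw [hr, Finset.mem_singleton] at this
    rw [this, hqr]

/-- If there is an element of order `4`, the involution is unique and there is no element of
order `8`. -/
theorem Hyp.two_part (H : Hyp G n) (g4 : G) (hg4 : orderOf g4 = 4) :
    ordCnt G 2 = 1 ∧ ∀ g : G, orderOf g ≠ 8 := by
  have h4N : 4 ∣ Nat.card G := hg4 ▸ orderOf_dvd_natCard g4
  have hc4 : ordCnt G 4 = n := H.cnt_of_three_le' g4 hg4 (by omega)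
  have h2n : 2 ∣ n := by
    rw [← hc4]
    have := totient_dvd_ordCnt (G := G) 4
    rwa [show Nat.totient 4 = 2 by decide] at this
  have ht : orderOf (g4 ^ 2) = 2 := by
    rw [orderOf_pow_of_dvd (by norm_num) (by rw [hg4]; norm_num), hg4]
  have hS2 : 2 ∣ ordCnt G 1 + ordCnt G 2 := by
    have := frobenius_dvd_sum (G := G) 2 (dvd_trans (by norm_num) h4N)
    rwa [Nat.Prime.divisors Nat.prime_two, Finset.sum_pair (by norm_num)] at this
  have hc2 : ordCnt G 2 = 1 := by
    have := H.one_or (g4 ^ 2)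
    rw [ht] at this
    rcases this with h | h
    · exact h
    · exfalso
      rw [ordCnt_one, h] at hS2
      omega
  refine ⟨hc2, ?_⟩
  intro g hg
  have hc8 : ordCnt G 8 = n := H.cnt_of_three_le' g hg (by omega)
  have h4n : 4 ∣ n := by
    rw [← hc8]
    have := totient_dvd_ordCnt (G := G) 8
    rwa [show Nat.totient 8 = 4 by decide] at this
  have hS4 : 4 ∣ ordCnt G 1 + (ordCnt G 2 + ordCnt G 4) := by
    have := frobenius_dvd_sum (G := G) 4 h4N
    rwa [show Nat.divisors 4 = {1, 2, 4} by decide, Finset.sum_insert (by decide),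
      Finset.sum_pair (by norm_num)] at this
  rw [ordCnt_one, hc2, hc4] at hS4
  omega


theorem exp_prime_of_forall {H : Type*} [Group H] {p : ℕ} (hp : p.Prime)
    (hall : ∀ g : H, g ^ p = 1) (hnt : Nontrivial H) :
    IsPGroup p H ∧ Monoid.exponent H = p := by
  constructor
  · intro g; exact ⟨1, by rw [pow_one]; exact hall g⟩
  · have h1 : Monoid.exponent H ∣ p := Monoid.exponent_dvd_of_forall_pow_eq_one hall
    rcases (Nat.dvd_prime hp).1 h1 with h | h
    · exfalso
      rw [Monoid.exp_eq_one_iff] at h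
      exact not_subsingleton H h
    · exact h

/-- A group with a unique involution `z`, no element of order `4` and all odd-order elements of
order `1` or `p` is `C₂ × P` with `P` of exponent `p`. -/
theorem iso_two_prod {p : ℕ} (hp : p.Prime) (hp2 : p ≠ 2) (z : G) (hz : orderOf z = 2)
    (hzc : ∀ g : G, g * z = z * g) (huniq : ∀ t : G, t ^ 2 = 1 → t = 1 ∨ t = z)
    (hno4 : ∀ g : G, orderOf g ≠ 4) (y : G) (hy : orderOf y = p)
    (hodd : ∀ g : G, Odd (orderOf g) → orderOf g = 1 ∨ orderOf g = p) :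
    ∃ (P : Type) (_ : Group P) (_ : Finite P), IsPGroup p P ∧ Monoid.exponent P = p ∧
        Nonempty (G ≃* Multiplicative (ZMod 2) × P) := by
  haveI : Fact (Nat.Prime 2) := ⟨Nat.prime_two⟩
  have hz2 : z ^ 2 = 1 := by rw [← hz]; exact pow_orderOf_eq_one z
  have hz1 : z ≠ 1 := by
    intro h1; rw [h1, orderOf_one] at hz; omega
  have hzp : IsPGroup 2 (Subgroup.zpowers z) := by
    apply IsPGroup.of_card (n := 1)
    rw [Nat.card_zpowers, hz, pow_one]
  obtain ⟨S, hS⟩ := hzp.exists_le_sylow
  have hSel : ∀ s ∈ (S : Subgroup G), s ^ 2 = 1 := by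
    intro s hs
    obtain ⟨k, hk⟩ := S.isPGroup' ⟨s, hs⟩
    have hk' : s ^ 2 ^ k = 1 := by simpa using congrArg Subtype.val hk
    rcases Nat.eq_zero_or_pos k with h0 | h0
    · rw [h0, pow_zero, pow_one] at hk'; rw [hk', one_pow]
    · exact (pow_prime_pow_eq_one_iff Nat.prime_two h0
        (fun g => by norm_num; exact hno4 g) s).1 hk'
  have hSeq : (S : Subgroup G) = Subgroup.zpowers z := by
    refine le_antisymm ?_ hS
    intro s hs
    rcases huniq s (hSel s hs) with h1 | h1
    · rw [h1]; exact one_mem _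
    · rw [h1]; exact Subgroup.mem_zpowers z
  have hSN : Subgroup.normalizer ((S : Subgroup G) : Set G) ≤
      Subgroup.centralizer ((S : Subgroup G) : Set G) := by
    intro g _
    rw [Subgroup.mem_centralizer_iff]
    intro s hs
    rcases huniq s (hSel s hs) with h1 | h1
    · rw [h1]; simp
    · rw [h1]; exact (hzc g).symm
  obtain ⟨K, hK⟩ : ∃ K : Subgroup G, K = (MonoidHom.transferSylow S hSN).ker := ⟨_, rfl⟩
  have hcompl : Subgroup.IsComplement' K (S : Subgroup G) := by
    rw [hK]; exact MonoidHom.ker_transferSylow_isComplement' S hSN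
  have hKodd : ¬ 2 ∣ Nat.card K := by
    rw [hK]; exact MonoidHom.not_dvd_card_ker_transferSylow S hSN
  have hcardS : Nat.card (S : Subgroup G) = 2 := by
    rw [hSeq, Nat.card_zpowers, hz]
  have hcardG : Nat.card K * 2 = Nat.card G := by
    rw [← hcardS]; exact hcompl.card_mul_card
  have hKel : ∀ k : K, k ^ p = 1 := by
    intro k
    have h1 : orderOf (k : G) ∣ Nat.card K := Subgroup.orderOf_dvd_natCard K k.2
    have hoddk : Odd (orderOf (k : G)) := by
      rw [← Nat.not_even_iff_odd]
      intro he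
      exact hKodd (dvd_trans he.two_dvd h1)
    apply Subtype.ext
    rw [Subgroup.coe_pow, Subgroup.coe_one]
    rcases hodd _ hoddk with h | h
    · rw [orderOf_eq_one_iff] at h; rw [h, one_pow]
    · rw [← h]; exact pow_orderOf_eq_one _
  have hpK : p ∣ Nat.card K := by
    have h1 : p ∣ Nat.card K * 2 := by rw [hcardG, ← hy]; exact orderOf_dvd_natCard y
    rcases (Nat.Prime.dvd_mul hp).1 h1 with h | h
    · exact h
    · exfalso
      have := (Nat.prime_dvd_prime_iff_eq hp Nat.prime_two).1 h
      exact hp2 this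
  haveI hKnt : Nontrivial K := by
    rw [← Finite.one_lt_card_iff_nontrivial]
    have := Nat.le_of_dvd Nat.card_pos hpK
    have := hp.two_le
    omega
  -- the type `P`
  let e : Shrink.{0} K ≃* K := Shrink.mulEquiv
  have hPel : ∀ g : Shrink.{0} K, g ^ p = 1 := by
    intro g
    apply e.injective
    rw [map_pow, map_one]
    exact hKel (e g)
  haveI : Nontrivial (Shrink.{0} K) := e.toEquiv.nontrivial
  haveI : Finite (Shrink.{0} K) := Finite.of_equiv K e.symm.toEquiv
  obtain ⟨hP1, hP2⟩ := exp_prime_of_forall hp hPel inferInstance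
  refine ⟨Shrink.{0} K, inferInstance, inferInstance, hP1, hP2, ?_⟩
  -- the isomorphism
  have hcomm : ∀ (s : (S : Subgroup G)) (k : K),
      Commute ((S : Subgroup G).subtype s) (K.subtype k) := by
    intro s k
    rcases huniq s (hSel s s.2) with h1 | h1
    · simp only [Subgroup.coe_subtype]; rw [h1]; exact Commute.one_left _
    · simp only [Subgroup.coe_subtype]; rw [h1]; exact (hzc _).symm
  let φ : ↥(S : Subgroup G) × ↥K →* G :=
    MonoidHom.noncommCoprod (S : Subgroup G).subtype K.subtype hcomm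
  have hφ : Function.Bijective φ := by
    have h1 : Subgroup.IsComplement' (S : Subgroup G) K := hcompl.symm
    exact h1
  let ψ : ↥(S : Subgroup G) × ↥K ≃* G := MulEquiv.ofBijective φ hφ
  haveI hScyc : IsCyclic (S : Subgroup G) := by
    rw [hSeq]; infer_instance
  have e2 := zmodCyclicMulEquiv hScyc
  rw [hcardS] at e2
  exact ⟨ψ.symm.trans (MulEquiv.prodCongr e2.symm e.symm)⟩


theorem Hyp.unique_involution (_H : Hyp G n) (z : G) (hz : orderOf z = 2)
    (hc2 : ordCnt G 2 = 1) : ∀ t : G, t ^ 2 = 1 → t = 1 ∨ t = z := by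
  intro t ht
  by_cases ht1 : t = 1
  · left; exact ht1
  right
  have hto : orderOf t = 2 := orderOf_eq_prime ht ht1
  have : Subsingleton {g : G // orderOf g = 2} := by
    rw [← Finite.card_le_one_iff_subsingleton]
    rw [ordCnt_def] at hc2
    omega
  exact congrArg Subtype.val
    (Subsingleton.elim (⟨t, hto⟩ : {g : G // orderOf g = 2}) ⟨z, hz⟩)

omit [Finite G] in
theorem central_of_unique_involution (z : G) (hz2 : z ^ 2 = 1) (hz1 : z ≠ 1)
    (huniq : ∀ t : G, t ^ 2 = 1 → t = 1 ∨ t = z) : ∀ g : G, g * z = z * g := by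
  intro g
  have h1 : (g * z * g⁻¹) ^ 2 = 1 := by rw [conj_pow, hz2]; group
  rcases huniq _ h1 with h | h
  · exfalso; apply hz1
    calc z = g⁻¹ * (g * z * g⁻¹) * g := by group
      _ = 1 := by rw [h]; group
  · calc g * z = (g * z * g⁻¹) * g := by group
      _ = z * g := by rw [h]

/-- The case with an element of order `4` and an odd prime divisor is impossible. -/
theorem Hyp.no_four (H : Hyp G n) {p : ℕ} (hp : p.Prime) (hp2 : p ≠ 2) (y : G) (hy : orderOf y = p)
    (hoddp : ∀ g : G, Odd (orderOf g) → orderOf g = 1 ∨ orderOf g = p)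
    (g4 : G) (hg4 : orderOf g4 = 4) : False := by
  classical
  have hp3 : 3 ≤ p := by have := hp.two_le; omega
  have hpodd : Odd p := hp.odd_of_ne_two hp2
  have hpmod : p % 2 = 1 := Nat.odd_iff.1 hpodd
  have hpN : p ∣ Nat.card G := hy ▸ orderOf_dvd_natCard y
  obtain ⟨hcp, hpn1⟩ := H.odd_prime hp hp2 hpN
  obtain ⟨hc2, hno8⟩ := H.two_part g4 hg4
  have hc4 : ordCnt G 4 = n := H.cnt_of_three_le' g4 hg4 (by omega)
  have hz : orderOf (g4 ^ 2) = 2 := by
    rw [orderOf_pow_of_dvd (by norm_num) (by rw [hg4]; norm_num), hg4]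
  have hz2 : (g4 ^ 2) ^ 2 = 1 := by
    have := pow_orderOf_eq_one (g4 ^ 2)
    rwa [hz] at this
  have hz1 : g4 ^ 2 ≠ 1 := by
    intro h1; rw [h1, orderOf_one] at hz; omega
  have huniq := H.unique_involution (g4 ^ 2) hz hc2
  have hzc := central_of_unique_involution (g4 ^ 2) hz2 hz1 huniq
  -- an element of order 2p
  have h2p : orderOf (y * g4 ^ 2) = p * 2 := by
    have hco : Commute y (g4 ^ 2) := hzc y
    have := hco.orderOf_mul_eq_mul_orderOf_of_coprime
      (by rw [hy, hz]; exact (Nat.coprime_two_right).2 hpodd)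
    rw [this, hy, hz]
  have hc2p : ordCnt G (2 * p) = n := H.cnt_of_three_le' _ (by rw [h2p, mul_comm]) (by omega)
  -- all orders lie in T
  have hT : ∀ g : G, orderOf g ∈ ({1, 2, 4, p, 2 * p, 4 * p} : Finset ℕ) := by
    intro g
    obtain ⟨i, e, he, hoe⟩ := Nat.exists_eq_two_pow_mul_odd (orderOf_pos g).ne'
    have he0 : e ≠ 0 := by rintro rfl; simp at he
    have h1 : orderOf (g ^ (2 ^ i)) = e := by
      rw [orderOf_pow_of_dvd (by positivity) (by rw [hoe]; exact Dvd.intro _ rfl), hoe]
      exact Nat.mul_div_cancel_left e (by positivity)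
    have h2 : orderOf (g ^ e) = 2 ^ i := by
      rw [orderOf_pow_of_dvd he0 (by rw [hoe]; exact Dvd.intro_left _ rfl), hoe]
      exact Nat.mul_div_cancel (2 ^ i) (Nat.pos_of_ne_zero he0)
    have hi : i ≤ 2 := by
      by_contra hi
      apply hno8 ((g ^ e) ^ (2 ^ (i - 3)))
      rw [orderOf_pow_of_dvd (by positivity) (by rw [h2]; exact pow_dvd_pow 2 (by omega)), h2,
        Nat.pow_div (by omega) (by norm_num)]
      have : i - (i - 3) = 3 := by omega
      rw [this]
    have he' : e = 1 ∨ e = p := by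
      have := hoddp (g ^ (2 ^ i)) (by rw [h1]; exact he)
      rwa [h1] at this
    rw [hoe]
    interval_cases i <;> rcases he' with h | h <;> rw [h] <;> simp
  have hN := natCard_eq_sum_ordCnt (G := G) _ hT
  rw [Finset.sum_insert (by simp; omega), Finset.sum_insert (by simp; omega),
    Finset.sum_insert (by simp; omega), Finset.sum_insert (by simp; omega),
    Finset.sum_pair (by omega), ordCnt_one, hc2, hc4, hcp, hc2p] at hN
  by_cases h4p : ∃ g : G, orderOf g = 4 * p
  · obtain ⟨g, hg⟩ := h4p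
    have hc4p : ordCnt G (4 * p) = n := H.cnt_of_three_le' g hg (by omega)
    rw [hc4p] at hN
    have h := Nat.dvd_sub (dvd_mul_of_dvd_right hpn1 4) hpN
    have h2 : 4 * (n + 1) - Nat.card G = 2 := by omega
    rw [h2] at h
    have := Nat.le_of_dvd (by norm_num) h
    omega
  · rw [ordCnt_eq_zero _ h4p] at hN
    have h := Nat.dvd_sub (dvd_mul_of_dvd_right hpn1 3) hpN
    have h2 : 3 * (n + 1) - Nat.card G = 1 := by omega
    rw [h2] at h
    have := Nat.le_of_dvd (by norm_num) h
    omega


theorem result {G : Type*} [Group G] [Finite G] (n : ℕ) (hn : n ≠ 1) (h : ((fun m : ℕ => Nat.card {g : G // orderOf g = m}) '' Set.range (orderOf : G → ℕ)) = {1, n}) :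
    (∃ p : ℕ, p.Prime ∧ IsPGroup p G ∧ 3 ≤ Nat.card G ∧ Monoid.exponent G = p) ∨
      Nonempty (G ≃* QuaternionGroup 2) ∨ (IsCyclic G ∧ Nat.card G = 4) ∨
      (∃ (p : ℕ) (P : Type) (_ : Group P) (_ : Finite P), p.Prime ∧ p ≠ 2 ∧ IsPGroup p P ∧ Monoid.exponent P = p ∧
        Nonempty (G ≃* Multiplicative (ZMod 2) × P)) := by
  classical
  have H : Hyp G n := by
    refine ⟨?_, ?_, hn⟩
    · intro g
      have : ordCnt G (orderOf g) ∈ ((fun m : ℕ => Nat.card {g : G // orderOf g = m}) ''
          Set.range (orderOf : G → ℕ)) := ⟨orderOf g, ⟨g, rfl⟩, rfl⟩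
      rw [h] at this
      simpa using this
    · have : n ∈ ((fun m : ℕ => Nat.card {g : G // orderOf g = m}) ''
          Set.range (orderOf : G → ℕ)) := by rw [h]; simp
      obtain ⟨m, ⟨g, rfl⟩, hm⟩ := this
      exact ⟨g, hm⟩
  have hnpos := H.pos
  obtain ⟨a, m, hm, hN⟩ := Nat.exists_eq_two_pow_mul_odd (Nat.card_pos (α := G)).ne'
  have hnt : Nontrivial G := by
    by_contra hnt
    rw [not_nontrivial_iff_subsingleton] at hnt
    obtain ⟨g, hg⟩ := H.ex
    have : orderOf g = 1 := by rw [orderOf_eq_one_iff]; exact Subsingleton.elim _ _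
    rw [this, ordCnt_one] at hg
    exact hn hg.symm
  by_cases hm1 : m = 1
  · -- `G` is a 2-group
    subst hm1
    rw [mul_one] at hN
    have h2pow : ∀ g : G, g ^ (2 ^ a) = 1 := by
      intro g; rw [← hN]; exact pow_card_eq_one'
    by_cases h4 : ∃ g : G, orderOf g = 4
    · obtain ⟨g4, hg4⟩ := h4
      obtain ⟨hc2, hno8⟩ := H.two_part g4 hg4
      have hall4 : ∀ x : G, x ^ 4 = 1 := by
        intro x
        obtain ⟨i, hi, hxi⟩ := (Nat.dvd_prime_pow Nat.prime_two).1
          (orderOf_dvd_of_pow_eq_one (h2pow x))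
        by_cases hi3 : 3 ≤ i
        · exfalso
          apply hno8 (x ^ (2 ^ (i - 3)))
          rw [orderOf_pow_of_dvd (by positivity) (by rw [hxi]; exact pow_dvd_pow 2 (by omega)),
            hxi, Nat.pow_div (by omega) (by norm_num)]
          have : i - (i - 3) = 3 := by omega
          rw [this]
        · rw [← orderOf_dvd_iff_pow_eq_one, hxi]
          calc 2 ^ i ∣ 2 ^ 2 := pow_dvd_pow 2 (by omega)
            _ = 4 := by norm_num
      have hz : orderOf (g4 ^ 2) = 2 := by
        rw [orderOf_pow_of_dvd (by norm_num) (by rw [hg4]; norm_num), hg4]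
      have hz2 : (g4 ^ 2) ^ 2 = 1 := by
        have := pow_orderOf_eq_one (g4 ^ 2)
        rwa [hz] at this
      have hz1 : g4 ^ 2 ≠ 1 := by
        intro h1; rw [h1, orderOf_one] at hz; omega
      have huniq := H.unique_involution (g4 ^ 2) hz hc2
      by_cases hcard : Nat.card G = 4
      · right; right; left
        exact ⟨isCyclic_of_orderOf_eq_card g4 (by rw [hg4, hcard]), hcard⟩
      · right; left
        have h4N : 4 ∣ Nat.card G := hg4 ▸ orderOf_dvd_natCard g4
        have : 4 < Nat.card G := by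
          have := Nat.le_of_dvd Nat.card_pos h4N
          omega
        exact nonempty_mulEquiv_quaternion_of_unique_involution (g4 ^ 2) hz1 hz2 huniq hall4 this
    · left
      have hall : ∀ g : G, g ^ 2 = 1 := by
        intro g
        rcases Nat.eq_zero_or_pos a with h0 | h0
        · have := h2pow g
          rw [h0, pow_zero, pow_one] at this
          rw [this, one_pow]
        · exact (pow_prime_pow_eq_one_iff Nat.prime_two h0
            (fun g hg => h4 ⟨g, by rw [hg]; norm_num⟩) g).1 (h2pow g)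
      obtain ⟨h1, h2⟩ := exp_prime_of_forall Nat.prime_two hall hnt
      refine ⟨2, Nat.prime_two, h1, ?_, h2⟩
      by_contra hlt
      have hT : ∀ g : G, orderOf g ∈ ({1, 2} : Finset ℕ) := by
        intro g
        have := (Nat.dvd_prime Nat.prime_two).1 (orderOf_dvd_of_pow_eq_one (hall g))
        simpa using this
      have hsum := natCard_eq_sum_ordCnt (G := G) _ hT
      rw [Finset.sum_pair (by norm_num), ordCnt_one] at hsum
      obtain ⟨g, hg⟩ := H.ex
      have := hT g
      simp only [Finset.mem_insert, Finset.mem_singleton] at this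
      rcases this with h' | h'
      · rw [h', ordCnt_one] at hg; exact hn hg.symm
      · rw [h'] at hg
        have : 1 < Nat.card G := Finite.one_lt_card
        omega
  · have hm1' : 1 < m := by
      have := hm.pos
      omega
    obtain ⟨p, hp, hp2, ⟨y, hy⟩, hoddp⟩ := H.unique_odd_order hN hm hm1'
    have hp3 : 3 ≤ p := by have := hp.two_le; omega
    have hpN : p ∣ Nat.card G := hy ▸ orderOf_dvd_natCard y
    obtain ⟨hcp, hpn1⟩ := H.odd_prime hp hp2 hpN
    by_cases h2N : 2 ∣ Nat.card G
    · haveI : Fact (Nat.Prime 2) := ⟨Nat.prime_two⟩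
      obtain ⟨z, hz⟩ := exists_prime_orderOf_dvd_card' (G := G) 2 h2N
      by_cases h4 : ∃ g : G, orderOf g = 4
      · exfalso
        obtain ⟨g4, hg4⟩ := h4
        exact H.no_four hp hp2 y hy hoddp g4 hg4
      have hc2 : ordCnt G 2 = 1 := by
        have := H.one_or z
        rw [hz] at this
        rcases this with h' | h'
        · exact h'
        exfalso
        have ha : 1 ≤ a := by
          by_contra ha
          have ha0 : a = 0 := by omega
          rw [ha0, pow_zero, one_mul] at hN
          rw [hN] at h2N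
          rw [Nat.odd_iff] at hm
          omega
        have h2a : 2 ^ a ∣ n + 1 := by
          have h1 := frobenius_dvd (G := G) (2 ^ a) (by rw [hN]; exact Dvd.intro _ rfl)
          have h2 : Nat.card {g : G // g ^ (2 ^ a) = 1} = Nat.card {g : G // g ^ 2 = 1} :=
            Nat.card_congr (Equiv.subtypeEquivRight (pow_prime_pow_eq_one_iff Nat.prime_two ha
              (fun g hg => h4 ⟨g, by rw [hg]; norm_num⟩)))
          rw [h2, natCard_pow_eq_one_eq_sum 2 (by norm_num), Nat.Prime.divisors Nat.prime_two,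
            Finset.sum_pair (by norm_num), ordCnt_one, h', add_comm] at h1
          exact h1
        have hmn := H.oddpart_dvd hN hm
        have hco : Nat.Coprime (2 ^ a) m := by
          apply Nat.Coprime.pow_left
          rw [Nat.coprime_two_left]
          exact hm
        have hNn : Nat.card G ∣ n + 1 := by
          rw [hN]; exact Nat.Coprime.mul_dvd_of_dvd_of_dvd hco h2a hmn
        have hle : Nat.card G ≤ n + 1 := Nat.le_of_dvd (by omega) hNn
        have hge : 1 + 2 * n ≤ Nat.card G := by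
          have hsum := natCard_eq_sum_ordCnt (G := G) (Nat.card G).divisors
            (fun g => Nat.mem_divisors.2 ⟨orderOf_dvd_natCard g, Nat.card_pos.ne'⟩)
          have hsub : ({1, 2, p} : Finset ℕ) ⊆ (Nat.card G).divisors := by
            intro e he
            simp only [Finset.mem_insert, Finset.mem_singleton] at he
            rw [Nat.mem_divisors]
            refine ⟨?_, Nat.card_pos.ne'⟩
            rcases he with rfl | rfl | rfl
            · exact one_dvd _
            · exact h2N
            · exact hpN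
          calc 1 + 2 * n = ∑ e ∈ ({1, 2, p} : Finset ℕ), ordCnt G e := by
                rw [Finset.sum_insert (by simp; omega), Finset.sum_pair (by omega), ordCnt_one,
                  h', hcp]
                ring
            _ ≤ ∑ e ∈ (Nat.card G).divisors, ordCnt G e :=
                Finset.sum_le_sum_of_subset hsub
            _ = Nat.card G := hsum.symm
        omega
      have hz2 : z ^ 2 = 1 := by rw [← hz]; exact pow_orderOf_eq_one z
      have hz1 : z ≠ 1 := by
        intro h1; rw [h1, orderOf_one] at hz; omega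
      have huniq := H.unique_involution z hz hc2
      have hzc := central_of_unique_involution z hz2 hz1 huniq
      right; right; right
      obtain ⟨P, i1, i2, h1, h2, h3⟩ :=
        iso_two_prod hp hp2 z hz hzc huniq (fun g hg => h4 ⟨g, hg⟩) y hy hoddp
      exact ⟨p, P, i1, i2, hp, hp2, h1, h2, h3⟩
    · left
      have hall : ∀ g : G, g ^ p = 1 := by
        intro g
        have hoddg : Odd (orderOf g) := by
          rw [← Nat.not_even_iff_odd]
          intro he
          exact h2N (dvd_trans he.two_dvd (orderOf_dvd_natCard g))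
        rcases hoddp g hoddg with h' | h'
        · rw [orderOf_eq_one_iff] at h'; rw [h', one_pow]
        · rw [← h']; exact pow_orderOf_eq_one g
      obtain ⟨h1, h2⟩ := exp_prime_of_forall hp hall hnt
      refine ⟨p, hp, h1, ?_, h2⟩
      have := Nat.le_of_dvd Nat.card_pos hpN
      omega


end Cfsg.Agent.S3995
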