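import Mathlib
import Cfsg.Statements.S3997
import Cfsg.Agent.Lib.Helper20.SylowBasic

set_option autoImplicit false
open Cfsg

namespace Cfsg.Agent.S3997

/-- A bijection preserving element orders, from equality of the order statistics. -/
theorem exists_order_preserving_equiv {G H : Type*} [Group G] [Finite G] [Group H] [Finite H]
    (hT : ∀ m : ℕ, Nat.card {g : G // orderOf g = m} = Nat.card {h : H // orderOf h = m}) :
    ∃ e : G ≃ H, ∀ g : G, orderOf (e g) = orderOf g := by
  have hE : ∀ m : ℕ, Nonempty ({g : G // orderOf g = m} ≃ {h : H // orderOf h = m}) :=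
    fun m => Finite.card_eq.mp (hT m)
  have E : ∀ m : ℕ, {g : G // orderOf g = m} ≃ {h : H // orderOf h = m} := fun m => (hE m).some
  refine ⟨(Equiv.sigmaFiberEquiv (orderOf : G → ℕ)).symm.trans
    ((Equiv.sigmaCongrRight E).trans (Equiv.sigmaFiberEquiv (orderOf : H → ℕ))), ?_⟩
  intro g
  simp only [Equiv.trans_apply, Equiv.sigmaFiberEquiv, Equiv.coe_fn_symm_mk, Equiv.coe_fn_mk,
    Equiv.sigmaCongrRight_apply]
  exact (E (orderOf g) ⟨g, rfl⟩).2

/-- Let G and H be finite groups with the same order type: for every m they have the same number of elements of order m. If G is nilpotent then so is H. -/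
theorem result {G H : Type*} [Group G] [Finite G] [Group H] [Finite H] (hT : (∀ m : ℕ, Nat.card {g : G // orderOf g = m} = Nat.card {h : H // orderOf h = m})) (hG : Group.IsNilpotent G) :
    Group.IsNilpotent H := by
  obtain ⟨e, he⟩ := exists_order_preserving_equiv hT
  have hcard : Nat.card G = Nat.card H := Nat.card_congr e
  apply (Group.isNilpotent_of_finite_tfae.out 0 3 rfl rfl).mpr
  intro p hp Q
  have := hp
  apply Helper20.sylow_normal_of_card_le
  -- a Sylow p-subgroup of G
  let P : Sylow p G := default
  have hPn : (P : Subgroup G).Normal := inferInstance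
  have h1 : Nat.card {h : H // ∃ k : ℕ, orderOf h = p ^ k}
      = Nat.card {g : G // ∃ k : ℕ, orderOf g = p ^ k} := by
    apply Nat.card_congr
    exact (e.subtypeEquiv (fun g => by rw [he g])).symm
  have h2 : Nat.card {g : G // ∃ k : ℕ, orderOf g = p ^ k} = Nat.card (P : Subgroup G) := by
    have := Helper20.setOf_orderOf_pow_eq_of_normal P
    apply Nat.card_congr
    apply Equiv.subtypeEquivRight
    intro g
    exact Set.ext_iff.mp this g
  rw [h1, h2, Sylow.card_eq_multiplicity, Sylow.card_eq_multiplicity, hcard]

end Cfsg.Agent.S3997
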