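import Mathlib
import Cfsg.Statements.S4001
import Cfsg.Agent.S0035
import Cfsg.Agent.S0039
import Cfsg.Agent.S0042
import Cfsg.Agent.S0666
import Cfsg.Agent.Lib.Helper1.FpfAction
import Cfsg.Agent.Lib.Helper1.SolvableBasic
import Cfsg.Agent.Lib.Helper1.QuotientCard
import Cfsg.Agent.Lib.Helper1.Complement
import Cfsg.Agent.Lib.Helper1.CyclicCriterion
import Cfsg.Agent.Lib.Helper23.InvolutionInvert
import Cfsg.Agent.Lib.Helper3.NilpotentCoprime

set_option autoImplicit false
open Cfsg
open scoped commutatorElement Pointwise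

namespace Cfsg.Agent.S4001

theorem orderOf_conj' {X : Type*} [Group X] (g z : X) : orderOf (g * z * g⁻¹) = orderOf z := by
  have := orderOf_injective (MulAut.conj g).toMonoidHom (MulAut.conj g).injective z
  simpa using this

/-- orders lift along quotient maps -/
theorem exists_orderOf_lift {G : Type*} [Group G] [Finite G] (N : Subgroup G) [N.Normal] {m : ℕ}
    (x : G ⧸ N) (hx : orderOf x = m) : ∃ g : G, orderOf g = m := by
  induction x using QuotientGroup.induction_on with
  | H g =>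
    have hd : m ∣ orderOf g := by
      rw [← hx]
      apply orderOf_dvd_of_pow_eq_one
      rw [← QuotientGroup.mk_pow, pow_orderOf_eq_one]; rfl
    exact ⟨_, orderOf_pow_orderOf_div (orderOf_pos g).ne' hd⟩

/-- commuting elements of distinct prime orders give an element of product order -/
theorem exists_orderOf_mul {G : Type*} [Group G] {x y : G} {p q : ℕ} (hp : p.Prime)
    (hq : q.Prime) (hpq : p ≠ q) (hxy : Commute x y) (hx : orderOf x = p) (hy : orderOf y = q) :
    ∃ g : G, orderOf g = p * q := by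
  refine ⟨x * y, ?_⟩
  have h := hxy.orderOf_mul_eq_mul_orderOf_of_coprime
    (by rw [hx, hy]; exact (Nat.coprime_primes hp hq).mpr hpq)
  rw [h, hx, hy]

/-- commuting elements, one of order divisible by `p`, the other by `q` -/
theorem exists_orderOf_mul' {G : Type*} [Group G] [Finite G] {x y : G} {p q : ℕ} (hp : p.Prime)
    (hq : q.Prime) (hpq : p ≠ q) (hxy : Commute x y) (hx : p ∣ orderOf x) (hy : q ∣ orderOf y) :
    ∃ g : G, orderOf g = p * q :=
  exists_orderOf_mul hp hq hpq (hxy.pow_pow _ _)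
    (orderOf_pow_orderOf_div (orderOf_pos x).ne' hx)
    (orderOf_pow_orderOf_div (orderOf_pos y).ne' hy)

/-- basic facts about a Frobenius group with complement `C` whose kernel is the normal
subgroup `N` -/
theorem frob_facts {X : Type*} [Group X] [Finite X] (N C : Subgroup X) [hNn : N.Normal]
    (hC : Cfsg.IsFrobeniusComplement C) (hker : Cfsg.frobeniusKernel C = (N : Set X)) :
    Subgroup.IsComplement' N C ∧ N ≠ ⊥ ∧ C ≠ ⊥ ∧
      (∀ h ∈ C, h ≠ 1 → N ⊓ Subgroup.centralizer {h} = ⊥) ∧ Group.IsNilpotent N ∧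
      (Nat.card N).Coprime (Nat.card C) := by
  obtain ⟨N', h1, -, h3⟩ := Cfsg.Agent.S0035.result C hC
  have hNN' : N' = N := SetLike.coe_injective (h1.trans hker)
  subst hNN'
  obtain ⟨N'', h1', -, hnil⟩ := Cfsg.Agent.S0042.result C hC
  have hNN'' : N'' = N' := SetLike.coe_injective (h1'.trans hker)
  subst hNN''
  have hC1 : C ≠ ⊥ := hC.1
  have hN1 : N'' ≠ ⊥ := by
    intro h
    rw [h, Subgroup.isComplement'_bot_left] at h3
    exact hC.2.1 h3
  have hfpf := (Cfsg.Agent.S0039.result N'' C h3 hN1 hC1).mp hC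
  refine ⟨h3, hN1, hC1, hfpf, hnil, ?_⟩
  apply Nat.coprime_of_dvd
  intro k hk hkN hkC
  have : Fact k.Prime := ⟨hk⟩
  obtain ⟨z, hz⟩ := exists_prime_orderOf_dvd_card' k hkC
  have hz' : orderOf (z : X) = k := by rw [Subgroup.orderOf_coe]; exact hz
  have hz1 : (z : X) ≠ 1 := by
    intro h
    rw [h, orderOf_one] at hz'
    exact hk.one_lt.ne hz'
  have hcop := Cfsg.Agent.Helper1.coprime_card_of_fpf hz' (hfpf z z.2 hz1)
  have h2 : k ∣ Nat.gcd (Nat.card N'') k := Nat.dvd_gcd hkN dvd_rfl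
  rw [hcop] at h2
  exact hk.one_lt.ne' (Nat.dvd_one.mp h2)

/-- in a Frobenius group, an element of the kernel commuting with an element outside the
kernel is trivial -/
theorem frob_centralizer {X : Type*} [Group X] [Finite X] (N C : Subgroup X) [hNn : N.Normal]
    (hC : Cfsg.IsFrobeniusComplement C) (hker : Cfsg.frobeniusKernel C = (N : Set X))
    {n x : X} (hn : n ∈ N) (hx : x ∉ N) (hnx : Commute n x) : n = 1 := by
  obtain ⟨-, -, -, hfpf, -, -⟩ := frob_facts N C hC hker
  have hx' : x ∉ Cfsg.frobeniusKernel C := by rw [hker]; exact hx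
  have hx2 : ¬ (x = 1 ∨ ∀ g : X, x ∉ MulAut.conj g • C) := hx'
  push Not at hx2
  obtain ⟨hx1, g, hg⟩ := hx2
  rw [Cfsg.Agent.Helper1.mem_conj_smul_iff] at hg
  have hh1 : g⁻¹ * x * g ≠ 1 := by
    intro h
    apply hx1
    calc x = g * (g⁻¹ * x * g) * g⁻¹ := by group
      _ = 1 := by rw [h]; group
  have hn' : g⁻¹ * n * g ∈ N := by
    have := hNn.conj_mem n hn g⁻¹
    simpa using this
  have hmem : g⁻¹ * n * g ∈ N ⊓ Subgroup.centralizer {g⁻¹ * x * g} := by
    refine Subgroup.mem_inf.mpr ⟨hn', ?_⟩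
    rw [Subgroup.mem_centralizer_iff]
    intro y hy
    rw [Set.mem_singleton_iff] at hy
    subst hy
    have e : n * x = x * n := hnx
    calc g⁻¹ * x * g * (g⁻¹ * n * g) = g⁻¹ * (x * n) * g := by group
      _ = g⁻¹ * (n * x) * g := by rw [e]
      _ = g⁻¹ * n * g * (g⁻¹ * x * g) := by group
  rw [hfpf _ hg hh1, Subgroup.mem_bot] at hmem
  calc n = g * (g⁻¹ * n * g) * g⁻¹ := by group
    _ = 1 := by rw [hmem]; group

universe u

/-- a finite nilpotent group of order divisible by a prime `p` has a central element of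
order `p` -/
theorem exists_central_prime (M : Type u) [Group M] [Group.IsNilpotent M] :
    Finite M → ∀ p : ℕ, p.Prime → p ∣ Nat.card M → ∃ z ∈ Subgroup.center M, orderOf z = p := by
  refine Group.nilpotent_center_quotient_ind
    (P := fun M _ _ => Finite M → ∀ p : ℕ, p.Prime → p ∣ Nat.card M →
      ∃ z ∈ Subgroup.center M, orderOf z = p) M ?_ ?_
  · intro M _ _ _ p hp hd
    rw [Nat.card_unique] at hd
    exact absurd (Nat.dvd_one.mp hd) hp.one_lt.ne'
  · intro M _ _ ih hfin p hp hd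
    have : Fact p.Prime := ⟨hp⟩
    by_cases hpZ : p ∣ Nat.card (Subgroup.center M)
    · obtain ⟨z, hz⟩ := exists_prime_orderOf_dvd_card' p hpZ
      exact ⟨(z : M), z.2, by rw [Subgroup.orderOf_coe]; exact hz⟩
    · exfalso
      have hcard := (Subgroup.center M).card_mul_index
      have hpq : p ∣ Nat.card (M ⧸ Subgroup.center M) := by
        have h1 : p ∣ Nat.card (Subgroup.center M) * (Subgroup.center M).index := by
          rw [hcard]; exact hd
        exact (hp.dvd_mul.mp h1).resolve_left hpZ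
      obtain ⟨zb, hzb, hzbo⟩ := ih inferInstance p hp hpq
      obtain ⟨x, rfl⟩ := QuotientGroup.mk_surjective zb
      -- the order of the centre
      obtain ⟨m, hm⟩ : ∃ m : ℕ, m = Nat.card (Subgroup.center M) := ⟨_, rfl⟩
      have hpm : ¬ p ∣ m := by rw [hm]; exact hpZ
      have hZm : ∀ w ∈ Subgroup.center M, w ^ m = 1 := by
        intro w hw
        have h1 : (⟨w, hw⟩ : Subgroup.center M) ^ m = 1 := by rw [hm]; exact pow_card_eq_one'
        exact congrArg Subtype.val h1
      have hxp : x ^ p ∈ Subgroup.center M := by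
        rw [← QuotientGroup.eq_one_iff, QuotientGroup.mk_pow, ← hzbo]
        exact pow_orderOf_eq_one _
      have hyp : (x ^ m) ^ p = 1 := by
        rw [← pow_mul, mul_comm, pow_mul]
        exact hZm _ hxp
      have hyZ : x ^ m ∉ Subgroup.center M := by
        intro h
        rw [← QuotientGroup.eq_one_iff, QuotientGroup.mk_pow] at h
        have h1 := orderOf_dvd_of_pow_eq_one h
        rw [hzbo] at h1
        exact hpm h1
      have hcz : ∀ h : M, ⁅x ^ m, h⁆ ∈ Subgroup.center M := by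
        intro h
        rw [← QuotientGroup.eq_one_iff]
        have h1 : ((⁅x ^ m, h⁆ : M) : M ⧸ Subgroup.center M) =
            ⁅((x : M ⧸ Subgroup.center M)) ^ m, (h : M ⧸ Subgroup.center M)⁆ := by
          simp [commutatorElement_def]
        rw [h1, commutatorElement_eq_one_iff_commute]
        have hc0 : Commute (x : M ⧸ Subgroup.center M) (h : M ⧸ Subgroup.center M) :=
          (Subgroup.mem_center_iff.mp hzb (h : M ⧸ Subgroup.center M)).symm
        exact hc0.pow_left m
      apply hyZ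
      rw [Subgroup.mem_center_iff]
      intro h
      -- w = ⁅y, h⁆ is central with w ^ p = 1
      have hw := hcz h
      have hconj : ∀ k : ℕ, (x ^ m) ^ k * h * ((x ^ m) ^ k)⁻¹ = ⁅x ^ m, h⁆ ^ k * h := by
        intro k
        induction k with
        | zero => simp
        | succ k ih =>
          have e1 : (x ^ m) ^ (k + 1) * h * ((x ^ m) ^ (k + 1))⁻¹ =
              (x ^ m) * ((x ^ m) ^ k * h * ((x ^ m) ^ k)⁻¹) * (x ^ m)⁻¹ := by
            rw [pow_succ']; group
          rw [e1, ih]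
          have hwk : ⁅x ^ m, h⁆ ^ k ∈ Subgroup.center M := Subgroup.pow_mem _ hw k
          have e2 : (x ^ m) * (⁅x ^ m, h⁆ ^ k * h) * (x ^ m)⁻¹ =
              ⁅x ^ m, h⁆ ^ k * ((x ^ m) * h * (x ^ m)⁻¹) := by
            have := Subgroup.mem_center_iff.mp hwk (x ^ m)
            calc (x ^ m) * (⁅x ^ m, h⁆ ^ k * h) * (x ^ m)⁻¹
                = ((x ^ m) * ⁅x ^ m, h⁆ ^ k) * h * (x ^ m)⁻¹ := by group
              _ = (⁅x ^ m, h⁆ ^ k * (x ^ m)) * h * (x ^ m)⁻¹ := by rw [this]
              _ = _ := by group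
          rw [e2]
          have e3 : (x ^ m) * h * (x ^ m)⁻¹ = ⁅x ^ m, h⁆ * h := by
            rw [commutatorElement_def]; group
          rw [e3, pow_succ]; group
      have hwp : ⁅x ^ m, h⁆ ^ p = 1 := by
        have := hconj p
        rw [hyp] at this
        simpa using this.symm
      have hwm : ⁅x ^ m, h⁆ ^ m = 1 := hZm _ hw
      have h1 : orderOf ⁅x ^ m, h⁆ ∣ Nat.gcd p m :=
        Nat.dvd_gcd (orderOf_dvd_of_pow_eq_one hwp) (orderOf_dvd_of_pow_eq_one hwm)
      rw [(Nat.Prime.coprime_iff_not_dvd hp).mpr hpm] at h1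
      have h2 : ⁅x ^ m, h⁆ = 1 := orderOf_eq_one_iff.mp (Nat.dvd_one.mp h1)
      rw [commutatorElement_eq_one_iff_mul_comm] at h2
      exact h2.symm

/-- the complement `C` of `H` in `K` maps isomorphically onto `K / H` -/
theorem exists_iso {G : Type*} [Group G] (H K : Subgroup G) [H.Normal] (C : Subgroup ↥K)
    (hc : Subgroup.IsComplement' (H.subgroupOf K) C) :
    ∃ ψ : ↥C →* G ⧸ H, Function.Injective ψ ∧
      (∀ c : ↥C, ψ c = QuotientGroup.mk' H ((c : ↥K) : G)) ∧
      ∀ y ∈ K.map (QuotientGroup.mk' H), ∃ c : ↥C, ψ c = y := by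
  refine ⟨((QuotientGroup.mk' H).comp K.subtype).comp C.subtype, ?_, fun c => rfl, ?_⟩
  · rw [injective_iff_map_eq_one]
    intro c hc1
    have h0 : QuotientGroup.mk' H ((c : ↥K) : G) = 1 := hc1
    have h1 : ((c : ↥K) : G) ∈ H := (QuotientGroup.eq_one_iff _).mp h0
    have h2 : (c : ↥K) ∈ H.subgroupOf K ⊓ C :=
      Subgroup.mem_inf.mpr ⟨Subgroup.mem_subgroupOf.mpr h1, c.2⟩
    rw [disjoint_iff.mp (Subgroup.IsComplement'.disjoint hc), Subgroup.mem_bot] at h2
    exact Subtype.ext h2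
  · rintro _ ⟨g, hgK, rfl⟩
    obtain ⟨n, hn, c, hcC, hnc⟩ := Cfsg.Agent.Helper1.IsComplement'.exists_mul hc (⟨g, hgK⟩ : ↥K)
    refine ⟨⟨c, hcC⟩, ?_⟩
    show QuotientGroup.mk' H ((c : ↥K) : G) = QuotientGroup.mk' H g
    have h1 : g = (n : G) * (c : G) := by
      have := congrArg Subtype.val hnc
      simpa using this
    have h2 : (QuotientGroup.mk' H) (n : G) = 1 :=
      (QuotientGroup.eq_one_iff _).mpr (Subgroup.mem_subgroupOf.mp hn)
    rw [h1, map_mul, h2, one_mul]

/-- commuting elements of prime order of `K / H` generate the same subgroup -/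
theorem p2 {G : Type*} [Group G] [Finite G] (H K : Subgroup G) [hHn : H.Normal]
    (C : Subgroup ↥K)
    (hc : Subgroup.IsComplement' (H.subgroupOf K) C) (hN1 : H.subgroupOf K ≠ ⊥)
    (hfpf : ∀ h ∈ C, h ≠ 1 → H.subgroupOf K ⊓ Subgroup.centralizer {h} = ⊥) :
    ∀ z w : G ⧸ H, z ∈ K.map (QuotientGroup.mk' H) → w ∈ K.map (QuotientGroup.mk' H) →
      ∀ p : ℕ, p.Prime → orderOf z = p → orderOf w = p → Commute z w →
        w ∈ Subgroup.zpowers z := by
  obtain ⟨ψ, hψinj, -, hψsurj⟩ := exists_iso H K C hc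
  have hNn : (H.subgroupOf K).Normal := hHn.subgroupOf K
  intro z w hz hw p hp hzo hwo hzw
  obtain ⟨cz, rfl⟩ := hψsurj z hz
  obtain ⟨cw, rfl⟩ := hψsurj w hw
  have : Fact p.Prime := ⟨hp⟩
  have hoz : orderOf (cz : ↥K) = p := by
    rw [Subgroup.orderOf_coe, ← orderOf_injective ψ hψinj cz]; exact hzo
  have how : orderOf (cw : ↥K) = p := by
    rw [Subgroup.orderOf_coe, ← orderOf_injective ψ hψinj cw]; exact hwo
  have hcomm : (cz : ↥K) * (cw : ↥K) = (cw : ↥K) * (cz : ↥K) := by
    have h1 : ψ (cz * cw) = ψ (cw * cz) := by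
      rw [map_mul, map_mul]; exact hzw
    have h2 := hψinj h1
    exact congrArg Subtype.val h2
  have hmem := Cfsg.Agent.Helper1.mem_zpowers_of_fpf_of_commute (G := ↥K)
    (K := H.subgroupOf K) (H := C)
    (by rw [Subgroup.normalizer_eq_top]; exact le_top) hN1 hfpf cz.2 cw.2 hoz how hcomm
  obtain ⟨k, hk⟩ := Subgroup.mem_zpowers_iff.mp hmem
  rw [Subgroup.mem_zpowers_iff]
  refine ⟨k, ?_⟩
  have h3 : cz ^ k = cw := by
    apply Subtype.ext
    rw [Subgroup.coe_zpow]; exact hk
  rw [← map_zpow, h3]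

/-- a solvable normal subgroup with unique subgroups of prime order contains a nontrivial element
of prime order centralized by the commutator subgroup -/
theorem exists_normal_prime {X : Type*} [Group X] [Finite X] (K : Subgroup X) [hKn : K.Normal]
    (hK1 : K ≠ ⊥) [hsol : Group.IsSolvable K]
    (hP2 : ∀ z w : X, z ∈ K → w ∈ K → ∀ p : ℕ, p.Prime → orderOf z = p → orderOf w = p →
      Commute z w → w ∈ Subgroup.zpowers z) :
    ∃ z ∈ K, z ≠ 1 ∧ ∀ g ∈ commutator X, Commute g z := by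
  classical
  have : Nontrivial K := (Subgroup.nontrivial_iff_ne_bot K).mpr hK1
  obtain ⟨Z, hZchar, hZne, hZc⟩ := Cfsg.Agent.Helper1.exists_normal_abelian_of_solvable K
  have := hZchar
  have hZxn : (Z.map K.subtype).Normal := inferInstance
  have hZxK : Z.map K.subtype ≤ K := Subgroup.map_subtype_le Z
  have hZcard : Nat.card (Z.map K.subtype) = Nat.card Z :=
    Subgroup.card_map_of_injective K.subtype_injective
  have hZcard1 : Nat.card (Z.map K.subtype) ≠ 1 := by
    rw [hZcard]; intro h; exact hZne (Subgroup.card_eq_one.mp h)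
  obtain ⟨p, hp, hpd⟩ := Nat.exists_prime_and_dvd hZcard1
  have : Fact p.Prime := ⟨hp⟩
  obtain ⟨zz, hzz⟩ := exists_prime_orderOf_dvd_card' p hpd
  have hzo : orderOf (zz : X) = p := by rw [Subgroup.orderOf_coe]; exact hzz
  have hzZ : (zz : X) ∈ Z.map K.subtype := zz.2
  have hz1 : (zz : X) ≠ 1 := by
    intro h
    rw [h, orderOf_one] at hzo
    exact hp.one_lt.ne hzo
  have hcomm : ∀ u v : X, u ∈ Z.map K.subtype → v ∈ Z.map K.subtype → Commute u v := by
    rintro _ _ ⟨u, hu, rfl⟩ ⟨v, hv, rfl⟩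
    have h1 := hZc.is_comm.comm (⟨u, hu⟩ : Z) ⟨v, hv⟩
    have h2 : u * v = v * u := congrArg Subtype.val h1
    show K.subtype u * K.subtype v = K.subtype v * K.subtype u
    rw [← map_mul, ← map_mul, h2]
  have hN1 : ∀ g : X, g * (zz : X) * g⁻¹ ∈ Subgroup.zpowers (zz : X) := by
    intro g
    have h1 : g * (zz : X) * g⁻¹ ∈ Z.map K.subtype := hZxn.conj_mem _ hzZ g
    exact hP2 _ _ (hZxK hzZ) (hZxK h1) p hp hzo (by rw [orderOf_conj', hzo]) (hcomm _ _ hzZ h1)
  have hZpn : (Subgroup.zpowers (zz : X)).Normal := by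
    constructor
    intro n hn g
    obtain ⟨k, rfl⟩ := Subgroup.mem_zpowers_iff.mp hn
    rw [← conj_zpow]
    exact Subgroup.zpow_mem _ (hN1 g) k
  obtain ⟨f, hf⟩ : ∃ f : X →* (ZMod (Nat.card (Subgroup.zpowers (zz : X))))ˣ,
      ∀ g, f g = 1 → g * (zz : X) * g⁻¹ = zz := by
    refine ⟨(IsCyclic.mulAutMulEquiv (Subgroup.zpowers (zz : X))).toMonoidHom.comp
      MulAut.conjNormal, ?_⟩
    intro g hg
    have h1 : (MulAut.conjNormal g : MulAut (Subgroup.zpowers (zz : X))) = 1 := by
      apply (IsCyclic.mulAutMulEquiv (Subgroup.zpowers (zz : X))).injective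
      rw [map_one]; exact hg
    have h2 := congrArg (fun φ : MulAut (Subgroup.zpowers (zz : X)) =>
      ((φ ⟨(zz : X), Subgroup.mem_zpowers _⟩ : Subgroup.zpowers (zz : X)) : X)) h1
    simpa using h2
  refine ⟨(zz : X), hZxK hzZ, hz1, ?_⟩
  intro g hg
  have hgk : f g = 1 := MonoidHom.mem_ker.mp (Abelianization.commutator_subset_ker f hg)
  have hdz := hf g hgk
  show g * (zz : X) = (zz : X) * g
  calc g * (zz : X) = (g * (zz : X) * g⁻¹) * g := by group
    _ = (zz : X) * g := by rw [hdz]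

/-- a group acting fixed-point-freely has at most one involution -/
theorem unique_involution {X : Type*} [Group X] [Finite X] (N C : Subgroup X) [hNn : N.Normal]
    (hN1 : N ≠ ⊥) (hfpf : ∀ h ∈ C, h ≠ 1 → N ⊓ Subgroup.centralizer {h} = ⊥) {t w : X}
    (ht : t ∈ C) (hw : w ∈ C) (hto : orderOf t = 2) (hwo : orderOf w = 2) : t = w := by
  have hne : ∀ s : X, orderOf s = 2 → s ≠ 1 := by
    intro s hs h
    rw [h, orderOf_one] at hs
    exact absurd hs (by norm_num)
  have hsq : ∀ s : X, orderOf s = 2 → s * s = 1 := by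
    intro s hs
    rw [← pow_two, ← hs]; exact pow_orderOf_eq_one s
  have hinv : ∀ s ∈ C, orderOf s = 2 → ∀ u ∈ N, s * u * s⁻¹ = u⁻¹ := by
    intro s hsC hs
    apply Cfsg.Agent.Helper23.inverts_of_fixed_point_free s (hsq s hs) N
    · intro u hu; exact hNn.conj_mem u hu s
    · intro u hu hfix
      have hmem : u ∈ N ⊓ Subgroup.centralizer {s} := by
        refine Subgroup.mem_inf.mpr ⟨hu, ?_⟩
        rw [Subgroup.mem_centralizer_iff]
        intro y hy
        rw [Set.mem_singleton_iff] at hy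
        subst hy
        calc y * u = (y * u * y⁻¹) * y := by group
          _ = u * y := by rw [hfix]
      rw [hfpf s hsC (hne s hs), Subgroup.mem_bot] at hmem
      exact hmem
  have h1 := hinv t ht hto
  have h2 := hinv w hw hwo
  by_contra htw
  have htw1 : t * w ≠ 1 := by
    intro h
    apply htw
    have : w = t⁻¹ := (eq_inv_of_mul_eq_one_right h)
    rw [this]
    exact (inv_eq_of_mul_eq_one_right (hsq t hto)).symm
  have h3 := hfpf (t * w) (C.mul_mem ht hw) htw1
  have h4 : N ≤ N ⊓ Subgroup.centralizer {t * w} := by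
    intro u hu
    refine Subgroup.mem_inf.mpr ⟨hu, ?_⟩
    rw [Subgroup.mem_centralizer_iff]
    intro y hy
    rw [Set.mem_singleton_iff] at hy
    subst hy
    have e1 : t * w * u * (t * w)⁻¹ = u := by
      calc t * w * u * (t * w)⁻¹ = t * (w * u * w⁻¹) * t⁻¹ := by group
        _ = t * u⁻¹ * t⁻¹ := by rw [h2 u hu]
        _ = (u⁻¹)⁻¹ := h1 u⁻¹ (N.inv_mem hu)
        _ = u := inv_inv u
    calc t * w * u = (t * w * u * (t * w)⁻¹) * (t * w) := by group
      _ = u * (t * w) := by rw [e1]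
  rw [h3] at h4
  exact hN1 (le_bot_iff.mp h4)

/-- the kernel of a Frobenius group has odd order if it has at most one involution -/
theorem kernel_odd {X : Type*} [Group X] [Finite X] (N C : Subgroup X) [hNn : N.Normal]
    (hC : Cfsg.IsFrobeniusComplement C) (hker : Cfsg.frobeniusKernel C = (N : Set X))
    (hinv : ∀ t w : X, t ∈ N → w ∈ N → orderOf t = 2 → orderOf w = 2 → t = w) :
    Odd (Nat.card N) := by
  obtain ⟨-, -, hC1, hfpf, -, -⟩ := frob_facts N C hC hker
  by_contra hodd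
  rw [Nat.not_odd_iff_even, even_iff_two_dvd] at hodd
  have : Fact (Nat.Prime 2) := ⟨Nat.prime_two⟩
  obtain ⟨t, ht⟩ := exists_prime_orderOf_dvd_card' 2 hodd
  have hto : orderOf (t : X) = 2 := by rw [Subgroup.orderOf_coe]; exact ht
  have ht1 : (t : X) ≠ 1 := by
    intro h
    rw [h, orderOf_one] at hto
    exact absurd hto (by norm_num)
  obtain ⟨c, hcC, hc1⟩ : ∃ c ∈ C, c ≠ 1 := by
    by_contra hcon
    push Not at hcon
    exact hC1 (eq_bot_iff.mpr (fun c hc => by rw [Subgroup.mem_bot]; exact hcon c hc))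
  have h1 : c * (t : X) * c⁻¹ = t :=
    hinv _ _ (hNn.conj_mem _ t.2 c) t.2 (by rw [orderOf_conj', hto]) hto
  have hmem : (t : X) ∈ N ⊓ Subgroup.centralizer {c} := by
    refine Subgroup.mem_inf.mpr ⟨t.2, ?_⟩
    rw [Subgroup.mem_centralizer_iff]
    intro y hy
    rw [Set.mem_singleton_iff] at hy
    subst hy
    calc y * (t : X) = (y * (t : X) * y⁻¹) * y := by group
      _ = (t : X) * y := by rw [h1]
  rw [hfpf c hcC hc1, Subgroup.mem_bot] at hmem
  exact ht1 hmem

/-- the complement of a Frobenius group whose kernel has unique subgroups of prime order is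
cyclic -/
theorem complement_cyclic {X : Type*} [Group X] [Finite X] (N C : Subgroup X) [hNn : N.Normal]
    (hC : Cfsg.IsFrobeniusComplement C) (hker : Cfsg.frobeniusKernel C = (N : Set X))
    (hP2 : ∀ z w : X, z ∈ N → w ∈ N → ∀ p : ℕ, p.Prime → orderOf z = p → orderOf w = p →
      Commute z w → w ∈ Subgroup.zpowers z) : IsCyclic C := by
  obtain ⟨-, hN1, -, hfpf, hnil, -⟩ := frob_facts N C hC hker
  have hsol : Group.IsSolvable N := inferInstance
  obtain ⟨z, hzN, hz1, hz⟩ := exists_normal_prime N hN1 hP2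
  have hcomm : ∀ a b : C, a * b = b * a := by
    intro a b
    have h1 : ⁅(a : X), (b : X)⁆ ∈ commutator X := by
      rw [commutator_def]
      exact Subgroup.commutator_mem_commutator (Subgroup.mem_top _) (Subgroup.mem_top _)
    have h2 := hz _ h1
    have h3 : ⁅(a : X), (b : X)⁆ ∈ C := by
      rw [commutatorElement_def]
      exact C.mul_mem (C.mul_mem (C.mul_mem a.2 b.2) (C.inv_mem a.2)) (C.inv_mem b.2)
    by_contra hne
    have h4 : ⁅(a : X), (b : X)⁆ ≠ 1 := by
      intro h
      apply hne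
      exact Subtype.ext (commutatorElement_eq_one_iff_mul_comm.mp h)
    have h6 : z ∈ N ⊓ Subgroup.centralizer {⁅(a : X), (b : X)⁆} := by
      refine Subgroup.mem_inf.mpr ⟨hzN, ?_⟩
      rw [Subgroup.mem_centralizer_iff]
      intro y hy
      rw [Set.mem_singleton_iff] at hy
      subst hy
      exact h2
    rw [hfpf _ h3 h4, Subgroup.mem_bot] at h6
    exact hz1 h6
  apply Cfsg.Agent.Helper1.isCyclic_of_comm_of_unique hcomm
  intro r hr x y hx hy
  have : Fact r.Prime := ⟨hr⟩
  have hx' : orderOf (x : X) = r := by rw [Subgroup.orderOf_coe]; exact hx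
  have hy' : orderOf (y : X) = r := by rw [Subgroup.orderOf_coe]; exact hy
  have hmem := Cfsg.Agent.Helper1.mem_zpowers_of_fpf_of_commute (G := X) (K := N) (H := C)
    (p := r) (by rw [Subgroup.normalizer_eq_top]; exact le_top) hN1 hfpf x.2 y.2 hx' hy'
    (congrArg Subtype.val (hcomm x y))
  obtain ⟨k, hk⟩ := Subgroup.mem_zpowers_iff.mp hmem
  rw [Subgroup.mem_zpowers_iff]
  exact ⟨k, Subtype.ext (by rw [Subgroup.coe_zpow]; exact hk)⟩

/-- the elements of order dividing `p` of the image in `G` of the centre of `H` -/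
def centralOmega {G : Type*} [Group G] (H : Subgroup G) (p : ℕ) : Subgroup G where
  carrier := {z | z ∈ (Subgroup.center ↥H).map H.subtype ∧ z ^ p = 1}
  one_mem' := ⟨Subgroup.one_mem _, one_pow p⟩
  mul_mem' := by
    rintro a b ⟨⟨a', ha', rfl⟩, hap⟩ ⟨⟨b', hb', rfl⟩, hbp⟩
    refine ⟨Subgroup.mul_mem _ ⟨a', ha', rfl⟩ ⟨b', hb', rfl⟩, ?_⟩
    have hc : Commute (H.subtype a') (H.subtype b') := by
      have := Subgroup.mem_center_iff.mp ha' b'
      show H.subtype a' * H.subtype b' = H.subtype b' * H.subtype a'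
      rw [← map_mul, ← map_mul, this]
    rw [hc.mul_pow, hap, hbp, one_mul]
  inv_mem' := by
    rintro a ⟨ha, hap⟩
    exact ⟨Subgroup.inv_mem _ ha, by rw [inv_pow, hap, inv_one]⟩

theorem mem_centralOmega {G : Type*} [Group G] (H : Subgroup G) (p : ℕ) {z : G} :
    z ∈ centralOmega H p ↔ z ∈ (Subgroup.center ↥H).map H.subtype ∧ z ^ p = 1 := Iff.rfl

theorem centralOmega_le {G : Type*} [Group G] (H : Subgroup G) (p : ℕ) : centralOmega H p ≤ H := by
  rintro z ⟨⟨z', -, rfl⟩, -⟩
  exact z'.2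

theorem centralOmega_comm {G : Type*} [Group G] (H : Subgroup G) (p : ℕ) {z h : G}
    (hz : z ∈ centralOmega H p) (hh : h ∈ H) : h * z = z * h := by
  obtain ⟨⟨z', hz', rfl⟩, -⟩ := hz
  have := Subgroup.mem_center_iff.mp hz' ⟨h, hh⟩
  exact congrArg Subtype.val this

theorem centralOmega_normal {G : Type*} [Group G] (H : Subgroup G) [H.Normal] (p : ℕ) :
    (centralOmega H p).Normal := by
  have hn : ((Subgroup.center ↥H).map H.subtype).Normal := inferInstance
  constructor
  rintro z ⟨hz, hzp⟩ g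
  exact ⟨hn.conj_mem z hz g, by rw [conj_pow, hzp]; group⟩

/-- the edge between a prime dividing `#H` and a prime dividing the order of a complement of
the Frobenius group `G / H` -/
theorem edge_HC {G : Type u} [Group G] [Finite G] (H : Subgroup G) [hHn : H.Normal]
    (hHnil : Group.IsNilpotent H) (Kb Cb : Subgroup (G ⧸ H)) [hKbn : Kb.Normal]
    (hCb : Cfsg.IsFrobeniusComplement Cb)
    (hker : Cfsg.frobeniusKernel Cb = (Kb : Set (G ⧸ H)))
    (hK0 : ∃ g₀ : G, QuotientGroup.mk' H g₀ ∈ Kb ∧ ∀ v ∈ H, g₀ * v * g₀⁻¹ = v → v = 1)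
    (hcop : (Nat.card H).Coprime (Nat.card Kb))
    {p q : ℕ} (hp : p.Prime) (hq : q.Prime) (hpq : p ≠ q) (hpH : p ∣ Nat.card H)
    (hqC : q ∣ Nat.card Cb) : ∃ g : G, orderOf g = p * q := by
  classical
  by_contra hno
  have : Fact p.Prime := ⟨hp⟩
  obtain ⟨hc, -, -, -, -, -⟩ := frob_facts Kb Cb hCb hker
  obtain ⟨z₀, hz₀c, hz₀o⟩ := exists_central_prime ↥H inferInstance p hp hpH
  have hVn : (centralOmega H p).Normal := centralOmega_normal H p
  have hz₀V : (z₀ : G) ∈ centralOmega H p := by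
    refine ⟨⟨z₀, hz₀c, rfl⟩, ?_⟩
    have : z₀ ^ p = 1 := by rw [← hz₀o]; exact pow_orderOf_eq_one z₀
    have h2 := congrArg Subtype.val this
    simpa using h2
  have hz₀1 : (z₀ : G) ≠ 1 := by
    intro h
    have : z₀ = 1 := Subtype.ext h
    rw [this, orderOf_one] at hz₀o
    exact hp.one_lt.ne hz₀o
  let _ : CommGroup ↥(centralOmega H p) :=
    { (inferInstance : Group ↥(centralOmega H p)) with
      mul_comm := fun a b => Subtype.ext
        (centralOmega_comm H p b.2 (centralOmega_le H p a.2)) }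
  -- the action of `G / H`
  have hkerρ : H ≤ (MulAut.conjNormal : G →* MulAut ↥(centralOmega H p)).ker := by
    intro h hh
    rw [MonoidHom.mem_ker]
    apply MulEquiv.ext
    intro v
    apply Subtype.ext
    rw [MulAut.conjNormal_apply]
    have := centralOmega_comm H p v.2 hh
    show h * (v : G) * h⁻¹ = v
    rw [this]; group
  obtain ⟨ρ, hρ⟩ : ∃ ρ : G ⧸ H →* MulAut ↥(centralOmega H p),
      ∀ (g : G) (v : ↥(centralOmega H p)), ((ρ (QuotientGroup.mk' H g) v : ↥(centralOmega H p)) : G)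
        = g * v * g⁻¹ :=
    ⟨QuotientGroup.lift H MulAut.conjNormal hkerρ, fun g v => rfl⟩
  have hkey : ∀ v : ↥(centralOmega H p), v ^ Nat.card Kb = 1 := by
    intro v
    refine Cfsg.Agent.S0666.key Cb Kb hCb hker.symm hKbn hc (fun x => (ρ x).toMonoidHom)
      ?_ ?_ ?_ ?_ v
    · intro v; simp
    · intro f g v; simp
    · intro w hw
      obtain ⟨g₀, hg₀, hfix⟩ := hK0
      have h1 := hw _ hg₀
      have h2 : g₀ * (w : G) * g₀⁻¹ = w := by
        rw [← hρ g₀ w]
        exact congrArg Subtype.val h1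
      exact Subtype.ext (hfix _ (centralOmega_le H p w.2) h2)
    · intro w hw
      by_contra hw1
      apply hno
      have : Fact q.Prime := ⟨hq⟩
      obtain ⟨c₀, hc₀⟩ := exists_prime_orderOf_dvd_card' q hqC
      obtain ⟨g, hg⟩ := QuotientGroup.mk'_surjective H (c₀ : G ⧸ H)
      have h1 := hw _ c₀.2
      have h2 : g * (w : G) * g⁻¹ = w := by
        rw [← hρ g w, hg]
        exact congrArg Subtype.val h1
      have hcomm : Commute (w : G) g := by
        show (w : G) * g = g * (w : G)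
        calc (w : G) * g = (g * (w : G) * g⁻¹) * g := by rw [h2]
          _ = g * (w : G) := by group
      have hwo : orderOf (w : G) = p := by
        apply orderOf_eq_prime
        · exact w.2.2
        · intro h; exact hw1 (Subtype.ext h)
      have hgo : q ∣ orderOf g := by
        have h3 : orderOf (QuotientGroup.mk' H g) = q := by
          rw [hg, Subgroup.orderOf_coe]; exact hc₀
        rw [← h3]
        exact orderOf_map_dvd _ g
      exact exists_orderOf_mul' hp hq hpq hcomm (by rw [hwo]) hgo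
  have h1 := hkey ⟨(z₀ : G), hz₀V⟩
  have h2 : (z₀ : G) ^ Nat.card Kb = 1 := by
    have := congrArg Subtype.val h1
    simpa using this
  have h3 : orderOf (z₀ : G) ∣ Nat.card Kb := orderOf_dvd_of_pow_eq_one h2
  rw [Subgroup.orderOf_coe, hz₀o] at h3
  have h4 : p ∣ Nat.gcd (Nat.card H) (Nat.card Kb) := Nat.dvd_gcd hpH h3
  rw [hcop] at h4
  exact hp.one_lt.ne' (Nat.dvd_one.mp h4)

/-- no element of order `p * q` with `p` dividing `#(K/H)` and `q` not -/
theorem no_cross {G : Type*} [Group G] [Finite G] (H K : Subgroup G) [hHn : H.Normal]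
    [hKn : K.Normal] (hHK : H ≤ K) (C : Subgroup ↥K) (hC : Cfsg.IsFrobeniusComplement C)
    (hCker : Cfsg.frobeniusKernel C = (H.subgroupOf K : Set ↥K))
    (Cb : Subgroup (G ⧸ H)) (hCb : Cfsg.IsFrobeniusComplement Cb)
    (hCbker : Cfsg.frobeniusKernel Cb = (K.map (QuotientGroup.mk' H) : Set (G ⧸ H)))
    (b : ℕ) (hb : Nat.card (↥K ⧸ H.subgroupOf K) = b)
    (hbH : b.Coprime (Nat.card H)) (hbC : b.Coprime (Nat.card (G ⧸ K)))
    {p q : ℕ} (hp : p.Prime) (hq : q.Prime) (hpb : p ∣ b) (hqb : ¬ q ∣ b) (g : G)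
    (hg : orderOf g = p * q) : False := by
  have hNn : (H.subgroupOf K).Normal := hHn.subgroupOf K
  have hKbn : (K.map (QuotientGroup.mk' H)).Normal :=
    Subgroup.Normal.map hKn _ (QuotientGroup.mk'_surjective H)
  have hxo : orderOf (g ^ (orderOf g / p)) = p :=
    orderOf_pow_orderOf_div (orderOf_pos g).ne' (by rw [hg]; exact dvd_mul_right p q)
  have hyo : orderOf (g ^ (orderOf g / q)) = q :=
    orderOf_pow_orderOf_div (orderOf_pos g).ne' (by rw [hg]; exact dvd_mul_left q p)
  obtain ⟨x, hx⟩ : ∃ x : G, x = g ^ (orderOf g / p) := ⟨_, rfl⟩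
  obtain ⟨y, hy⟩ : ∃ y : G, y = g ^ (orderOf g / q) := ⟨_, rfl⟩
  rw [← hx] at hxo
  rw [← hy] at hyo
  have hxy : Commute x y := by rw [hx, hy]; exact (Commute.refl g).pow_pow _ _
  have hx1 : x ≠ 1 := by
    intro h; rw [h, orderOf_one] at hxo; exact hp.one_lt.ne hxo
  have hy1 : y ≠ 1 := by
    intro h; rw [h, orderOf_one] at hyo; exact hq.one_lt.ne hyo
  have hpH : ¬ p ∣ Nat.card H := by
    intro h
    have h2 : p ∣ Nat.gcd b (Nat.card H) := Nat.dvd_gcd hpb h
    rw [hbH] at h2
    exact hp.one_lt.ne' (Nat.dvd_one.mp h2)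
  have hpC : ¬ p ∣ Nat.card (G ⧸ K) := by
    intro h
    have h2 : p ∣ Nat.gcd b (Nat.card (G ⧸ K)) := Nat.dvd_gcd hpb h
    rw [hbC] at h2
    exact hp.one_lt.ne' (Nat.dvd_one.mp h2)
  -- Step A
  have hxK : x ∈ K := by
    have h1 : orderOf (QuotientGroup.mk' K x) ∣ p := by
      rw [← hxo]; exact orderOf_map_dvd _ x
    have h2 : orderOf (QuotientGroup.mk' K x) ∣ Nat.card (G ⧸ K) := orderOf_dvd_natCard _
    have h3 : orderOf (QuotientGroup.mk' K x) = 1 := by
      rcases (Nat.dvd_prime hp).mp h1 with h | h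
      · exact h
      · rw [h] at h2; exact absurd h2 hpC
    exact (QuotientGroup.eq_one_iff x).mp (orderOf_eq_one_iff.mp h3)
  -- Step B
  have hxH : x ∉ H := by
    intro h
    have h1 : orderOf (⟨x, h⟩ : H) ∣ Nat.card H := orderOf_dvd_natCard _
    rw [Subgroup.orderOf_mk, hxo] at h1
    exact hpH h1
  -- Step C, D
  have hxb : QuotientGroup.mk' H x ∈ K.map (QuotientGroup.mk' H) := ⟨x, hxK, rfl⟩
  have hxb1 : QuotientGroup.mk' H x ≠ 1 := by
    intro h; exact hxH ((QuotientGroup.eq_one_iff x).mp h)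
  have hyK : y ∈ K := by
    by_contra hyK
    have hyb : QuotientGroup.mk' H y ∉ K.map (QuotientGroup.mk' H) := by
      rintro ⟨k, hk, hky⟩
      apply hyK
      have h1 : k⁻¹ * y ∈ H := by
        rw [← QuotientGroup.eq_one_iff]
        show QuotientGroup.mk' H (k⁻¹ * y) = 1
        rw [map_mul, map_inv, hky, inv_mul_cancel]
      have h2 : y = k * (k⁻¹ * y) := by group
      rw [h2]
      exact K.mul_mem hk (hHK h1)
    have hcomm : Commute (QuotientGroup.mk' H x) (QuotientGroup.mk' H y) := by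
      show QuotientGroup.mk' H x * QuotientGroup.mk' H y = QuotientGroup.mk' H y * QuotientGroup.mk' H x
      rw [← map_mul, ← map_mul, hxy.eq]
    exact hxb1 (frob_centralizer _ Cb hCb hCbker hxb hyb hcomm)
  -- Step E
  have hyH : y ∈ H := by
    have h1 : orderOf (QuotientGroup.mk' (H.subgroupOf K) (⟨y, hyK⟩ : ↥K)) ∣ q := by
      have := orderOf_map_dvd (QuotientGroup.mk' (H.subgroupOf K)) (⟨y, hyK⟩ : ↥K)
      rwa [Subgroup.orderOf_mk, hyo] at this
    have h2 : orderOf (QuotientGroup.mk' (H.subgroupOf K) (⟨y, hyK⟩ : ↥K)) ∣ b := by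
      rw [← hb]; exact orderOf_dvd_natCard _
    have h3 : orderOf (QuotientGroup.mk' (H.subgroupOf K) (⟨y, hyK⟩ : ↥K)) = 1 := by
      rcases (Nat.dvd_prime hq).mp h1 with h | h
      · exact h
      · rw [h] at h2; exact absurd h2 hqb
    have h4 := (QuotientGroup.eq_one_iff (⟨y, hyK⟩ : ↥K)).mp (orderOf_eq_one_iff.mp h3)
    exact Subgroup.mem_subgroupOf.mp h4
  -- Step F
  have hyN : (⟨y, hyK⟩ : ↥K) ∈ H.subgroupOf K := Subgroup.mem_subgroupOf.mpr hyH
  have hxN : (⟨x, hxK⟩ : ↥K) ∉ H.subgroupOf K := fun h => hxH (Subgroup.mem_subgroupOf.mp h)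
  have hcomm : Commute (⟨y, hyK⟩ : ↥K) (⟨x, hxK⟩ : ↥K) := Subtype.ext hxy.symm.eq
  have := frob_centralizer _ C hC hCker hyN hxN hcomm
  exact hy1 (congrArg Subtype.val this)

/-- In a 2-Frobenius group G = ABC (A = H and AB = K normal; K Frobenius with kernel H and G/H Frobenius with kernel K/H): G is solvable, B = K/H is a Hall subgroup of odd order, C = G/K is cyclic, and the prime graph consists of the two cliques π(B) and π(A) ∪ π(C) with no edge between them. -/
theorem result {G : Type*} [Group G] [Finite G] (H K : Subgroup G) [H.Normal] [K.Normal] (hlt : H < K)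
    (hK : ∃ C : Subgroup ↥K, Cfsg.IsFrobeniusComplement C ∧ Cfsg.frobeniusKernel C = (H.subgroupOf K : Set ↥K))
    (hGH : ∃ C : Subgroup (G ⧸ H), Cfsg.IsFrobeniusComplement C ∧ Cfsg.frobeniusKernel C = (K.map (QuotientGroup.mk' H) : Set (G ⧸ H))) :
    Group.IsSolvable G ∧ Odd (Nat.card (↥K ⧸ H.subgroupOf K)) ∧
      Nat.Coprime (Nat.card (↥K ⧸ H.subgroupOf K)) (Nat.card ↥H * Nat.card (G ⧸ K)) ∧ IsCyclic (G ⧸ K) ∧
      ∀ p q : ℕ, p.Prime → q.Prime → p ≠ q → p ∣ Nat.card G → q ∣ Nat.card G →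
        ((∃ g : G, orderOf g = p * q) ↔ (p ∣ Nat.card (↥K ⧸ H.subgroupOf K) ↔ q ∣ Nat.card (↥K ⧸ H.subgroupOf K))) := by
  obtain ⟨C, hC, hCker⟩ := hK
  obtain ⟨Cb, hCb, hCbker⟩ := hGH
  have hHn : H.Normal := inferInstance
  have hKn : K.Normal := inferInstance
  have hHK : H ≤ K := hlt.le
  have hNn : (H.subgroupOf K).Normal := hHn.subgroupOf K
  have hKbn : (K.map (QuotientGroup.mk' H)).Normal :=
    Subgroup.Normal.map hKn _ (QuotientGroup.mk'_surjective H)
  obtain ⟨hc, hN1, hC1, hfpf, hNnil, hcopNC⟩ := frob_facts (H.subgroupOf K) C hC hCker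
  obtain ⟨hcb, hKb1, hCb1, hfpfb, hKbnil, hcopb⟩ :=
    frob_facts (K.map (QuotientGroup.mk' H)) Cb hCb hCbker
  have hP2 := p2 H K C hc hN1 hfpf
  obtain ⟨ψ, hψinj, hψ, hψsurj⟩ := exists_iso H K C hc
  -- cardinalities
  have hcardN : Nat.card (H.subgroupOf K) = Nat.card H :=
    Nat.card_congr (Subgroup.subgroupOfEquivOfLe hHK).toEquiv
  have hb1 : Nat.card (↥K ⧸ H.subgroupOf K) = Nat.card C := hc.symm.index_eq_card
  have hKcard : Nat.card K = Nat.card H * Nat.card C := by
    rw [← hcardN]; exact hc.card_mul_card.symm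
  have hb2 : Nat.card (K.map (QuotientGroup.mk' H)) = Nat.card C := by
    have h1 := Cfsg.Agent.Helper1.card_map_mk'_of_le H hHK
    rw [hKcard] at h1
    exact Nat.eq_of_mul_eq_mul_left Nat.card_pos h1
  have hGcard : Nat.card G = Nat.card H * Nat.card C * Nat.card Cb := by
    have h2 := H.card_mul_index
    have h3 := hcb.card_mul_card
    have h4 : H.index = Nat.card (G ⧸ H) := rfl
    rw [← h2, h4, ← h3, hb2, mul_assoc]
  have hc1 : Nat.card (G ⧸ K) = Nat.card Cb := by
    have h1 := K.card_mul_index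
    have h4 : K.index = Nat.card (G ⧸ K) := rfl
    rw [h4, hGcard, hKcard] at h1
    exact Nat.eq_of_mul_eq_mul_left (Nat.mul_pos Nat.card_pos Nat.card_pos) h1
  have hcopHC : (Nat.card H).Coprime (Nat.card C) := by rw [← hcardN]; exact hcopNC
  have hcopCCb : (Nat.card C).Coprime (Nat.card Cb) := by rw [← hb2]; exact hcopb
  -- nilpotency of `H`
  have hHnil : Group.IsNilpotent H := by
    have := hNnil
    exact Group.nilpotent_of_mulEquiv (Subgroup.subgroupOfEquivOfLe hHK)
  -- cyclic quotient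
  have hCbcyc : IsCyclic Cb := complement_cyclic _ Cb hCb hCbker hP2
  obtain ⟨π, hπ⟩ : ∃ π : G ⧸ H →* G ⧸ K, ∀ g : G,
      π (QuotientGroup.mk' H g) = QuotientGroup.mk' K g :=
    ⟨QuotientGroup.map H K (MonoidHom.id G) (fun x hx => hHK hx), fun g => rfl⟩
  have hπker : ∀ x : G ⧸ H, π x = 1 ↔ x ∈ K.map (QuotientGroup.mk' H) := by
    intro x
    obtain ⟨g, rfl⟩ := QuotientGroup.mk'_surjective H x
    rw [hπ]
    constructor
    · intro h
      exact ⟨g, (QuotientGroup.eq_one_iff g).mp h, rfl⟩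
    · rintro ⟨k, hk, hkg⟩
      have h1 : k⁻¹ * g ∈ H := by
        rw [← QuotientGroup.eq_one_iff]
        show QuotientGroup.mk' H (k⁻¹ * g) = 1
        rw [map_mul, map_inv, hkg, inv_mul_cancel]
      have h2 : g = k * (k⁻¹ * g) := by group
      rw [h2]
      exact (QuotientGroup.eq_one_iff _).mpr (K.mul_mem hk (hHK h1))
  have hθ : Function.Surjective (π.comp Cb.subtype) := by
    intro y
    obtain ⟨g, rfl⟩ := QuotientGroup.mk'_surjective K y
    obtain ⟨k, hk, c, hcC, hkc⟩ :=
      Cfsg.Agent.Helper1.IsComplement'.exists_mul hcb (QuotientGroup.mk' H g)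
    refine ⟨⟨c, hcC⟩, ?_⟩
    show π c = QuotientGroup.mk' K g
    rw [← hπ g, hkc, map_mul, (hπker k).mpr hk, one_mul]
  have hcyc : IsCyclic (G ⧸ K) := isCyclic_of_surjective _ hθ
  -- solvability
  have hsolK : Group.IsSolvable (G ⧸ K) := by
    have := hcyc
    exact Group.isSolvable_of_comm (fun a b => (IsCyclic.commGroup (α := G ⧸ K)).mul_comm a b)
  have hsolGH : Group.IsSolvable (G ⧸ H) := by
    have h1 : Group.IsSolvable (K.map (QuotientGroup.mk' H)) := by
      have := hKbnil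
      infer_instance
    refine Group.isSolvable_of_ker_le_range (K.map (QuotientGroup.mk' H)).subtype π ?_
    intro x hx
    rw [MonoidHom.mem_ker, hπker] at hx
    rw [Subgroup.range_subtype]
    exact hx
  have hsolH : Group.IsSolvable H := by
    have := hHnil
    infer_instance
  have hsol : Group.IsSolvable G := by
    refine Group.isSolvable_of_ker_le_range H.subtype (QuotientGroup.mk' H) ?_
    rw [QuotientGroup.ker_mk', Subgroup.range_subtype]
  -- oddness
  have hodd : Odd (Nat.card C) := by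
    rw [← hb2]
    apply kernel_odd _ Cb hCb hCbker
    intro t w ht hw hto hwo
    obtain ⟨ct, rfl⟩ := hψsurj t ht
    obtain ⟨cw, rfl⟩ := hψsurj w hw
    have h1 : orderOf (ct : ↥K) = 2 := by
      rw [Subgroup.orderOf_coe, ← orderOf_injective ψ hψinj ct]; exact hto
    have h2 : orderOf (cw : ↥K) = 2 := by
      rw [Subgroup.orderOf_coe, ← orderOf_injective ψ hψinj cw]; exact hwo
    have h3 := unique_involution (H.subgroupOf K) C hN1 hfpf ct.2 cw.2 h1 h2
    rw [Subtype.ext h3]
  -- an element of `K` acting without fixed points on `H`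
  have hK0 : ∃ g₀ : G, QuotientGroup.mk' H g₀ ∈ K.map (QuotientGroup.mk' H) ∧
      ∀ v ∈ H, g₀ * v * g₀⁻¹ = v → v = 1 := by
    obtain ⟨h, hhC, hh1⟩ : ∃ h ∈ C, h ≠ 1 := by
      by_contra hcon
      push Not at hcon
      exact hC1 (eq_bot_iff.mpr (fun c hc => by rw [Subgroup.mem_bot]; exact hcon c hc))
    refine ⟨(h : G), ⟨(h : G), h.2, rfl⟩, ?_⟩
    intro v hv hfix
    have hmem : (⟨v, hHK hv⟩ : ↥K) ∈ H.subgroupOf K ⊓ Subgroup.centralizer {h} := by
      refine Subgroup.mem_inf.mpr ⟨Subgroup.mem_subgroupOf.mpr hv, ?_⟩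
      rw [Subgroup.mem_centralizer_iff]
      intro y hy
      rw [Set.mem_singleton_iff] at hy
      subst hy
      apply Subtype.ext
      show (y : G) * v = v * (y : G)
      calc (y : G) * v = ((y : G) * v * (y : G)⁻¹) * y := by group
        _ = v * (y : G) := by rw [hfix]
    rw [hfpf h hhC hh1, Subgroup.mem_bot] at hmem
    exact congrArg Subtype.val hmem
  -- the edges
  have hEdgeB : ∀ p q : ℕ, p.Prime → q.Prime → p ≠ q → p ∣ Nat.card C → q ∣ Nat.card C →
      ∃ g : G, orderOf g = p * q := by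
    intro p q hp hq hpq hpC hqC
    have : Fact p.Prime := ⟨hp⟩
    have : Fact q.Prime := ⟨hq⟩
    rw [← hb2] at hpC hqC
    obtain ⟨x, hx⟩ := exists_prime_orderOf_dvd_card' p hpC
    obtain ⟨y, hy⟩ := exists_prime_orderOf_dvd_card' q hqC
    have hx' : orderOf (x : G ⧸ H) = p := by rw [Subgroup.orderOf_coe]; exact hx
    have hy' : orderOf (y : G ⧸ H) = q := by rw [Subgroup.orderOf_coe]; exact hy
    have hcomm := Cfsg.Agent.Helper3.mul_comm_of_mem_isNilpotent_of_coprime hKbnil x.2 y.2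
      (by rw [hx', hy']; exact (Nat.coprime_primes hp hq).mpr hpq)
    obtain ⟨gb, hgb⟩ := exists_orderOf_mul hp hq hpq hcomm hx' hy'
    exact exists_orderOf_lift H gb hgb
  have hEdgeH : ∀ p q : ℕ, p.Prime → q.Prime → p ≠ q → p ∣ Nat.card H → q ∣ Nat.card H →
      ∃ g : G, orderOf g = p * q := by
    intro p q hp hq hpq hpH hqH
    have : Fact p.Prime := ⟨hp⟩
    have : Fact q.Prime := ⟨hq⟩
    obtain ⟨x, hx⟩ := exists_prime_orderOf_dvd_card' p hpH
    obtain ⟨y, hy⟩ := exists_prime_orderOf_dvd_card' q hqH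
    have hx' : orderOf (x : G) = p := by rw [Subgroup.orderOf_coe]; exact hx
    have hy' : orderOf (y : G) = q := by rw [Subgroup.orderOf_coe]; exact hy
    have hcomm := Cfsg.Agent.Helper3.mul_comm_of_mem_isNilpotent_of_coprime hHnil x.2 y.2
      (by rw [hx', hy']; exact (Nat.coprime_primes hp hq).mpr hpq)
    exact exists_orderOf_mul hp hq hpq hcomm hx' hy'
  have hEdgeC : ∀ p q : ℕ, p.Prime → q.Prime → p ≠ q → p ∣ Nat.card Cb → q ∣ Nat.card Cb →
      ∃ g : G, orderOf g = p * q := by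
    intro p q hp hq hpq hpC hqC
    rw [← hc1] at hpC hqC
    have := hcyc
    obtain ⟨g₀, hg₀⟩ := IsCyclic.exists_ofOrder_eq_natCard (α := G ⧸ K)
    have hd : p * q ∣ orderOf g₀ := by
      rw [hg₀]
      exact Nat.Coprime.mul_dvd_of_dvd_of_dvd ((Nat.coprime_primes hp hq).mpr hpq) hpC hqC
    exact exists_orderOf_lift K _ (orderOf_pow_orderOf_div (orderOf_pos g₀).ne' hd)
  have hEdgeHC : ∀ p q : ℕ, p.Prime → q.Prime → p ≠ q → p ∣ Nat.card H → q ∣ Nat.card Cb →
      ∃ g : G, orderOf g = p * q := by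
    intro p q hp hq hpq hpH hqC
    exact edge_HC H hHnil _ Cb hCb hCbker hK0 (by rw [hb2]; exact hcopHC) hp hq hpq hpH hqC
  have hNoCross : ∀ p q : ℕ, p.Prime → q.Prime → p ∣ Nat.card C → ¬ q ∣ Nat.card C →
      ∀ g : G, orderOf g = p * q → False := by
    intro p q hp hq hpC hqC g hg
    exact no_cross H K hHK C hC hCker Cb hCb hCbker (Nat.card C) hb1 hcopHC.symm
      (by rw [hc1]; exact hcopCCb) hp hq hpC hqC g hg
  refine ⟨hsol, by rw [hb1]; exact hodd, ?_, hcyc, ?_⟩
  · rw [hb1, hc1]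
    exact Nat.Coprime.mul_right hcopHC.symm hcopCCb
  · intro p q hp hq hpq hpG hqG
    rw [hb1]
    constructor
    · rintro ⟨g, hg⟩
      constructor
      · intro hpb
        by_contra hqb
        exact hNoCross p q hp hq hpb hqb g hg
      · intro hqb
        by_contra hpb
        exact hNoCross q p hq hp hqb hpb g (by rw [hg, mul_comm])
    · intro hiff
      by_cases hpb : p ∣ Nat.card C
      · exact hEdgeB p q hp hq hpq hpb (hiff.mp hpb)
      · have hqb : ¬ q ∣ Nat.card C := fun h => hpb (hiff.mpr h)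
        have hsplit : ∀ r : ℕ, r.Prime → r ∣ Nat.card G → ¬ r ∣ Nat.card C →
            r ∣ Nat.card H ∨ r ∣ Nat.card Cb := by
          intro r hr hrG hrC
          rw [hGcard] at hrG
          rcases (hr.dvd_mul.mp hrG) with h | h
          · rcases (hr.dvd_mul.mp h) with h' | h'
            · exact Or.inl h'
            · exact absurd h' hrC
          · exact Or.inr h
        rcases hsplit p hp hpG hpb with h1 | h1 <;> rcases hsplit q hq hqG hqb with h2 | h2
        · exact hEdgeH p q hp hq hpq h1 h2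
        · exact hEdgeHC p q hp hq hpq h1 h2
        · obtain ⟨g, hg⟩ := hEdgeHC q p hq hp hpq.symm h2 h1
          exact ⟨g, by rw [hg, mul_comm]⟩
        · exact hEdgeC p q hp hq hpq h1 h2

end Cfsg.Agent.S4001
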