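import Mathlib
import Cfsg.Statements.S4002
import Cfsg.Agent.S3633

set_option autoImplicit false
open Cfsg

namespace Cfsg.Agent.S4002

/-- three primes up to `n` whose pairwise products exceed `n` -/
theorem exists_three_primes (n : ℕ) (hn : 7 ≤ n) :
    ∃ p q r : ℕ, p.Prime ∧ q.Prime ∧ r.Prime ∧ p < q ∧ q < r ∧ r ≤ n ∧ n < p * q := by
  by_cases h1 : n < 15
  · exact ⟨3, 5, 7, by norm_num, by norm_num, by norm_num, by norm_num, by norm_num, hn, by omega⟩
  by_cases h2 : n < 35
  · exact ⟨5, 7, 11, by norm_num, by norm_num, by norm_num, by norm_num, by norm_num, by omega,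
      by omega⟩
  by_cases h3 : n < 40
  · exact ⟨7, 11, 13, by norm_num, by norm_num, by norm_num, by norm_num, by norm_num, by omega,
      by omega⟩
  set a := n / 8 with ha
  have ha5 : 5 ≤ a := by omega
  have han : 8 * a ≤ n := by omega
  have hna : n ≤ 8 * a + 7 := by omega
  obtain ⟨p, hp, hp1, hp2⟩ := Nat.exists_prime_lt_and_le_two_mul a (by omega)
  obtain ⟨q, hq, hq1, hq2⟩ := Nat.exists_prime_lt_and_le_two_mul (2 * a) (by omega)
  obtain ⟨r, hr, hr1, hr2⟩ := Nat.exists_prime_lt_and_le_two_mul (4 * a) (by omega)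
  refine ⟨p, q, r, hp, hq, hr, by omega, by omega, by omega, ?_⟩
  have h4 : (a + 1) * (2 * a + 1) ≤ p * q := Nat.mul_le_mul (by omega) (by omega)
  have h5 : 8 * a + 7 < (a + 1) * (2 * a + 1) := by nlinarith
  omega

/-- If the set of element orders of a finite group G is {1, 2, …, n} with n ≥ 7, then G is not solvable. -/
theorem result {G : Type*} [Group G] [Finite G] (n : ℕ) (hn : 7 ≤ n) (h : Set.range (orderOf : G → ℕ) = {k : ℕ | 1 ≤ k ∧ k ≤ n}) : ¬ Group.IsSolvable G := by
  obtain ⟨p, q, r, hp, hq, hr, hpq, hqr, hrn, hnpq⟩ := exists_three_primes n hn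
  have hmem : ∀ k : ℕ, 1 ≤ k → k ≤ n → ∃ x : G, orderOf x = k := by
    intro k h1 h2
    have : k ∈ Set.range (orderOf : G → ℕ) := by
      rw [h]
      exact ⟨h1, h2⟩
    exact this
  have hnot : ∀ k : ℕ, n < k → ¬ ∃ x : G, orderOf x = k := by
    rintro k hk ⟨x, hx⟩
    have : k ∈ Set.range (orderOf : G → ℕ) := ⟨x, hx⟩
    rw [h] at this
    exact absurd this.2 (by omega)
  have hdvd : ∀ k : ℕ, 1 ≤ k → k ≤ n → k ∣ Nat.card G := by
    intro k h1 h2
    obtain ⟨x, hx⟩ := hmem k h1 h2
    rw [← hx]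
    exact orderOf_dvd_natCard x
  have hρ : 3 ≤ ({p, q, r} : Finset ℕ).card := by
    rw [Finset.card_insert_of_notMem, Finset.card_insert_of_notMem, Finset.card_singleton]
    · simp only [Finset.mem_singleton]
      omega
    · simp only [Finset.mem_insert, Finset.mem_singleton]
      omega
  have hpq2 : n < p * r := lt_of_lt_of_le hnpq (Nat.mul_le_mul_left p hqr.le)
  have hpq3 : n < q * r := lt_of_lt_of_le hnpq (Nat.mul_le_mul hpq.le hqr.le)
  have hc : (∀ s ∈ ({p, q, r} : Finset ℕ), s.Prime ∧ s ∣ Nat.card G) ∧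
      (∀ s ∈ ({p, q, r} : Finset ℕ), ∀ t ∈ ({p, q, r} : Finset ℕ), s ≠ t →
        ¬ ∃ x : G, orderOf x = s * t) := by
    constructor
    · intro s hs
      simp only [Finset.mem_insert, Finset.mem_singleton] at hs
      rcases hs with rfl | rfl | rfl
      · exact ⟨hp, hdvd _ hp.one_lt.le (by omega)⟩
      · exact ⟨hq, hdvd _ hq.one_lt.le (by omega)⟩
      · exact ⟨hr, hdvd _ hr.one_lt.le hrn⟩
    · intro s hs t ht hst
      simp only [Finset.mem_insert, Finset.mem_singleton] at hs ht
      apply hnot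
      rcases hs with rfl | rfl | rfl <;> rcases ht with rfl | rfl | rfl
      · exact absurd rfl hst
      · exact hnpq
      · exact hpq2
      · rw [mul_comm]; exact hnpq
      · exact absurd rfl hst
      · exact hpq3
      · rw [mul_comm]; exact hpq2
      · rw [mul_comm]; exact hpq3
      · exact absurd rfl hst
  exact (Cfsg.Agent.S3633.result ({p, q, r} : Finset ℕ) hρ hc (⊥ : Subgroup G) inferInstance).2

end Cfsg.Agent.S4002
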