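import Mathlib
import Cfsg.Statements.S4003
import Cfsg.Agent.Lib.Helper20.SylowBasic
import Cfsg.Agent.Lib.Helper20.OrderCount
import Cfsg.Agent.Lib.Helper20.KulC
import Cfsg.Agent.Lib.Helper20.KulD

set_option autoImplicit false
open Cfsg
open Cfsg.Agent.Helper20

namespace Cfsg.Agent.S4003

theorem card_commute_eq {G : Type*} [Group G] (y : G) (d : ℕ) :
    Nat.card {x : G // Commute x y ∧ orderOf x = d}
      = Nat.card {x : Subgroup.centralizer ({y} : Set G) // orderOf x = d} := by
  apply Nat.card_congr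
  refine ⟨fun x => ⟨⟨(x : G), ?_⟩, ?_⟩, fun x => ⟨((x : Subgroup.centralizer ({y} : Set G)) : G), ?_, ?_⟩,
    ?_, ?_⟩
  · rw [Subgroup.mem_centralizer_iff]
    intro z hz
    rw [Set.mem_singleton_iff] at hz
    subst hz
    exact x.2.1.eq.symm
  · rw [← Subgroup.orderOf_coe]
    exact x.2.2
  · have := (x : Subgroup.centralizer ({y} : Set G)).2
    rw [Subgroup.mem_centralizer_iff] at this
    exact (this y rfl).symm
  · rw [Subgroup.orderOf_coe]
    exact x.2
  · intro x; rfl
  · intro x; rfl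

/-- Let G be a finite group, p an odd prime dividing the order of G whose Sylow p-subgroups are not cyclic, and n = p^s·m with s > 1 and m coprime to p. Then the number of elements of G of order n is a multiple of p^s. -/
theorem result {G : Type*} [Group G] [Finite G] (p : ℕ) [Fact p.Prime] (hodd : p ≠ 2) (hpG : p ∣ Nat.card G)
    (P : Sylow p G) (hP : ¬ IsCyclic ↥(P : Subgroup G)) (s m : ℕ) (hs : 1 < s) (hm : Nat.Coprime p m) :
    p ^ s ∣ Nat.card {g : G // orderOf g = p ^ s * m} := by
  classical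
  have hp : p.Prime := Fact.out
  rcases Nat.eq_zero_or_pos m with hm0 | hmpos
  · exfalso
    rw [hm0, Nat.coprime_zero_right] at hm
    exact hp.one_lt.ne' hm
  haveI : Fintype {y : G // orderOf y = m} := Fintype.ofFinite _
  rw [card_orderOf_mul_eq_sum (p ^ s) m (Nat.Coprime.pow_left s hm) (pow_pos hp.pos s) hmpos]
  letI := conjOrderAction (P : Subgroup G) m
  apply pow_dvd_sum_of_pgroup_action P.isPGroup'
    (fun y : {y : G // orderOf y = m} => Nat.card {x : G // Commute x (y : G) ∧ orderOf x = p ^ s})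
    s (by omega)
  · -- invariance
    intro γ y
    show Nat.card {x : G // Commute x ((γ : G) * (y : G) * (γ : G)⁻¹) ∧ orderOf x = p ^ s}
      = Nat.card {x : G // Commute x (y : G) ∧ orderOf x = p ^ s}
    apply Nat.card_congr
    refine ⟨fun x => ⟨(γ : G)⁻¹ * (x : G) * (γ : G), ?_, ?_⟩,
      fun x => ⟨(γ : G) * (x : G) * (γ : G)⁻¹, ?_, ?_⟩, ?_, ?_⟩
    · have h := x.2.1.eq
      show (γ : G)⁻¹ * (x : G) * (γ : G) * (y : G) = (y : G) * ((γ : G)⁻¹ * (x : G) * (γ : G))
      calc (γ : G)⁻¹ * (x : G) * (γ : G) * (y : G)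
          = (γ : G)⁻¹ * ((x : G) * ((γ : G) * (y : G) * (γ : G)⁻¹)) * (γ : G) := by group
        _ = (γ : G)⁻¹ * (((γ : G) * (y : G) * (γ : G)⁻¹) * (x : G)) * (γ : G) := by rw [h]
        _ = (y : G) * ((γ : G)⁻¹ * (x : G) * (γ : G)) := by group
    · have := orderOf_conj (γ : G)⁻¹ (x : G)
      rw [inv_inv] at this
      rw [this]; exact x.2.2
    · have h := x.2.1.eq
      show (γ : G) * (x : G) * (γ : G)⁻¹ * ((γ : G) * (y : G) * (γ : G)⁻¹)
        = (γ : G) * (y : G) * (γ : G)⁻¹ * ((γ : G) * (x : G) * (γ : G)⁻¹)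
      calc (γ : G) * (x : G) * (γ : G)⁻¹ * ((γ : G) * (y : G) * (γ : G)⁻¹)
          = (γ : G) * ((x : G) * (y : G)) * (γ : G)⁻¹ := by group
        _ = (γ : G) * ((y : G) * (x : G)) * (γ : G)⁻¹ := by rw [h]
        _ = (γ : G) * (y : G) * (γ : G)⁻¹ * ((γ : G) * (x : G) * (γ : G)⁻¹) := by group
    · rw [orderOf_conj]; exact x.2.2
    · intro x; apply Subtype.ext; show (γ : G) * ((γ : G)⁻¹ * (x : G) * (γ : G)) * (γ : G)⁻¹ = x; group
    · intro x; apply Subtype.ext; show (γ : G)⁻¹ * ((γ : G) * (x : G) * (γ : G)⁻¹) * (γ : G) = x; group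
  · -- divisibility by p^(s-1)
    intro y
    show p ^ (s - 1) ∣ Nat.card {x : G // Commute x (y : G) ∧ orderOf x = p ^ s}
    rw [card_commute_eq]
    have h1 := totient_dvd_ordCnt (G := Subgroup.centralizer ({(y : G)} : Set G)) (p ^ s)
    rw [ordCnt_def, Nat.totient_prime_pow hp (by omega)] at h1
    exact dvd_trans (dvd_mul_right _ _) h1
  · -- fixed points
    intro y hy
    show p ^ s ∣ Nat.card {x : G // Commute x (y : G) ∧ orderOf x = p ^ s}
    rw [card_commute_eq]
    have hle : (P : Subgroup G) ≤ Subgroup.centralizer ({(y : G)} : Set G) := by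
      intro γ hγ
      rw [Subgroup.mem_centralizer_iff]
      intro z hz
      rw [Set.mem_singleton_iff] at hz
      subst hz
      have h1 := congrArg Subtype.val (hy ⟨γ, hγ⟩)
      have h2 : γ * (y : G) * γ⁻¹ = (y : G) := h1
      calc (y : G) * γ = (γ * (y : G) * γ⁻¹) * γ := by rw [h2]
        _ = γ * (y : G) := by group
    set P' : Sylow p (Subgroup.centralizer ({(y : G)} : Set G)) := P.subtype hle with hP'
    have hnc : ¬ IsCyclic (P' : Subgroup (Subgroup.centralizer ({(y : G)} : Set G))) := by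
      intro hc
      apply hP
      have e := Subgroup.subgroupOfEquivOfLe hle
      rw [hP', Sylow.coe_subtype] at hc
      exact isCyclic_of_surjective e.toMonoidHom e.surjective
    exact pow_dvd_card_orderOf hodd P' hnc s (by omega)

end Cfsg.Agent.S4003
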