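import Mathlib
import Cfsg.Statements.S4005
import Cfsg.Agent.Lib.Helper1.FpfAction
import Cfsg.Agent.Lib.Helper20.InvolutionAction

set_option autoImplicit false
open Cfsg

namespace Cfsg.Agent.S4005

variable {G : Type*} [Group G]

theorem inv_eq_self_of_sq {a : G} (ha : a ^ 2 = 1) : a⁻¹ = a := by
  rw [inv_eq_iff_mul_eq_one, ← pow_two, ha]

theorem braid_of_cube {a c : G} (ha : a ^ 2 = 1) (hc : c ^ 2 = 1) (hac : (a * c) ^ 3 = 1) :
    a * c * a = c * a * c := by
  have ai := inv_eq_self_of_sq ha
  have ci := inv_eq_self_of_sq hc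
  have h1 : (a * c * a) * (c * a * c) = 1 := by
    rw [← hac, pow_three]; group
  rw [mul_eq_one_iff_eq_inv] at h1
  rw [h1]
  simp only [mul_inv_rev, ai, ci, mul_assoc]

theorem commute_of_sq {a c : G} (ha : a ^ 2 = 1) (hc : c ^ 2 = 1) (hac : (a * c) ^ 2 = 1) :
    a * c = c * a := by
  have ai := inv_eq_self_of_sq ha
  have ci := inv_eq_self_of_sq hc
  have h1 : (a * c) * (a * c) = 1 := by rw [← pow_two, hac]
  rw [mul_eq_one_iff_eq_inv] at h1
  rw [h1]
  simp only [mul_inv_rev, ai, ci]

theorem coxeter_sq {a b c : G} (ha : a ^ 2 = 1) (hb : b ^ 2 = 1) (hc : c ^ 2 = 1)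
    (hab : a * b = b * a) (hac : (a * c) ^ 3 = 1) (hbc : (b * c) ^ 3 = 1) :
    (a * c * b) ^ 2 = c * (a * b) * c := by
  have h1 := braid_of_cube ha hc hac
  have h2 := braid_of_cube hb hc hbc
  have hcc : c * c = 1 := by rw [← pow_two, hc]
  calc (a * c * b) ^ 2 = a * c * (b * a) * c * b := by rw [pow_two]; group
    _ = a * c * (a * b) * c * b := by rw [hab]
    _ = (a * c * a) * (b * c * b) := by group
    _ = (c * a * c) * (c * b * c) := by rw [h1, h2]
    _ = c * a * (c * c) * b * c := by group
    _ = c * (a * b) * c := by rw [hcc]; group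

/-- In a group where every element squares or cubes to one, an involution commutes with one of
any two distinct commuting involutions. -/
theorem commute_or (hsq : ∀ g : G, g ^ 2 = 1 ∨ g ^ 3 = 1) {a b c : G} (ha : a ^ 2 = 1)
    (hb : b ^ 2 = 1) (hc : c ^ 2 = 1) (hab : a * b = b * a) (hne : a ≠ b) :
    a * c = c * a ∨ b * c = c * b := by
  by_contra hcon
  rw [not_or] at hcon
  obtain ⟨hna, hnb⟩ := hcon
  have hac : (a * c) ^ 3 = 1 := by
    rcases hsq (a * c) with h | h
    · exact absurd (commute_of_sq ha hc h) hna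
    · exact h
  have hbc : (b * c) ^ 3 = 1 := by
    rcases hsq (b * c) with h | h
    · exact absurd (commute_of_sq hb hc h) hnb
    · exact h
  have hkey := coxeter_sq ha hb hc hab hac hbc
  have ai := inv_eq_self_of_sq ha
  have bi := inv_eq_self_of_sq hb
  have ci := inv_eq_self_of_sq hc
  have hcc : c * c = 1 := by rw [← pow_two, hc]
  have habsq : (a * b) * (a * b) = 1 := by
    calc (a * b) * (a * b) = a * (b * a) * b := by group
      _ = a * (a * b) * b := by rw [hab]
      _ = (a * a) * (b * b) := by group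
      _ = 1 := by rw [← pow_two, ← pow_two, ha, hb, one_mul]
  rcases hsq (a * c * b) with h | h
  · rw [hkey] at h
    have : a * b = 1 := by
      calc a * b = c * (c * (a * b) * c) * c := by
            rw [show c * (c * (a * b) * c) * c = (c * c) * (a * b) * (c * c) by group, hcc]
            group
        _ = 1 := by rw [h, mul_one, hcc]
    apply hne
    rw [mul_eq_one_iff_eq_inv, bi] at this
    exact this
  · have h4 : (a * c * b) ^ 4 = 1 := by
      calc (a * c * b) ^ 4 = ((a * c * b) ^ 2) ^ 2 := by rw [← pow_mul]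
        _ = (c * (a * b) * c) ^ 2 := by rw [hkey]
        _ = c * ((a * b) * (c * c) * (a * b)) * c := by rw [pow_two]; group
        _ = 1 := by rw [hcc, mul_one, habsq, mul_one, hcc]
    have h1 : a * c * b = 1 := by
      calc a * c * b = (a * c * b) ^ 4 * ((a * c * b) ^ 3)⁻¹ := by group
        _ = 1 := by rw [h4, h, inv_one, mul_one]
    have hc' : c = a * b := by
      calc c = a⁻¹ * (a * c * b) * b⁻¹ := by group
        _ = a * b := by rw [h1, ai, bi, mul_one]
    apply hna
    rw [hc']
    calc a * (a * b) = a * (b * a) := by rw [hab]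
      _ = a * b * a := by group

theorem result {G : Type*} [Group G] [Finite G] (h : Set.range (orderOf : G → ℕ) = {k : ℕ | 1 ≤ k ∧ k ≤ 3}) :
    (∃ N : Subgroup G, N.Normal ∧ Cfsg.IsElementaryAbelian 3 N ∧ N.index = 2) ∨
      (∃ N : Subgroup G, N.Normal ∧ Cfsg.IsElementaryAbelian 2 N ∧ N.index = 3) := by
  classical
  have hord : ∀ g : G, orderOf g = 1 ∨ orderOf g = 2 ∨ orderOf g = 3 := by
    intro g
    have : orderOf g ∈ Set.range (orderOf : G → ℕ) := ⟨g, rfl⟩
    rw [h] at this
    obtain ⟨h1, h2⟩ := this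
    omega
  obtain ⟨c, hc⟩ : ∃ c : G, orderOf c = 2 := by
    have : (2 : ℕ) ∈ Set.range (orderOf : G → ℕ) := by
      rw [h]; exact ⟨by norm_num, by norm_num⟩
    exact this
  obtain ⟨x, hx⟩ : ∃ x : G, orderOf x = 3 := by
    have : (3 : ℕ) ∈ Set.range (orderOf : G → ℕ) := by
      rw [h]; exact ⟨by norm_num, by norm_num⟩
    exact this
  have hsq : ∀ g : G, g ^ 2 = 1 ∨ g ^ 3 = 1 := by
    intro g
    rcases hord g with h1 | h2 | h3
    · left; rw [orderOf_eq_one_iff] at h1; simp [h1]
    · left; rw [← h2]; exact pow_orderOf_eq_one g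
    · right; rw [← h3]; exact pow_orderOf_eq_one g
  have hcent : ∀ t : G, orderOf t = 2 → ∀ y : G, t * y = y * t → y ^ 2 = 1 := by
    intro t ht y hty
    rcases hord y with h1 | h2 | h3
    · rw [orderOf_eq_one_iff] at h1; simp [h1]
    · rw [← h2]; exact pow_orderOf_eq_one y
    · exfalso
      have hco : Commute t y := hty
      have := hco.orderOf_mul_eq_mul_orderOf_of_coprime (by rw [ht, h3]; norm_num)
      rw [ht, h3] at this
      rcases hord (t * y) with h | h | h <;> omega
  have hc2 : c ^ 2 = 1 := by rw [← hc]; exact pow_orderOf_eq_one c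
  have hc1 : c ≠ 1 := by
    intro h1; rw [h1, orderOf_one] at hc; omega
  have hx3 : x ^ 3 = 1 := by rw [← hx]; exact pow_orderOf_eq_one x
  have hxsq : x ^ 2 ≠ 1 := by
    intro h2
    have := orderOf_dvd_of_pow_eq_one h2
    rw [hx] at this; omega
  have hboth : ∀ g : G, g ^ 2 = 1 → g ^ 3 = 1 → g = 1 := by
    intro g h2 h3
    calc g = g ^ 3 * (g ^ 2)⁻¹ := by group
      _ = 1 := by rw [h2, h3]; simp
  have hord2 : ∀ g : G, g ^ 2 = 1 → g ≠ 1 → orderOf g = 2 := by
    intro g h2 h1
    exact orderOf_eq_prime h2 h1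
  by_cases hbig : ∃ a : G, c * a = a * c ∧ a ≠ 1 ∧ a ≠ c
  · -- the centralizer of `c` is the set of all involutions
    right
    obtain ⟨a, hac, ha1, hane⟩ := hbig
    have ha2 : a ^ 2 = 1 := hcent c hc a hac
    have hao : orderOf a = 2 := hord2 a ha2 ha1
    have hall : ∀ d : G, d ^ 2 = 1 → c * d = d * c := by
      intro d hd
      rcases commute_or hsq ha2 hc2 hd hac.symm hane with h1 | h1
      · -- `d` and `c` both commute with `a`
        have hdc : a * (d * c) = (d * c) * a := by
          calc a * (d * c) = (a * d) * c := by group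
            _ = (d * a) * c := by rw [h1]
            _ = d * (a * c) := by group
            _ = d * (c * a) := by rw [hac]
            _ = (d * c) * a := by group
        have := hcent a hao (d * c) hdc
        exact (commute_of_sq hd hc2 this).symm
      · exact h1
    have hmemN : ∀ g : G, g ∈ Subgroup.centralizer ({c} : Set G) ↔ g ^ 2 = 1 := by
      intro g
      rw [Subgroup.mem_centralizer_singleton_iff]
      constructor
      · intro hg; exact hcent c hc g hg.symm
      · intro hg; exact (hall g hg).symm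
    obtain ⟨N, hN⟩ : ∃ N : Subgroup G, N = Subgroup.centralizer ({c} : Set G) := ⟨_, rfl⟩
    have hmem : ∀ g : G, g ∈ N ↔ g ^ 2 = 1 := by rw [hN]; exact hmemN
    have hNn : N.Normal := by
      constructor
      intro n hn g
      rw [hmem] at hn ⊢
      rw [conj_pow, hn]; simp
    have hNcomm : ∀ u ∈ N, ∀ v ∈ N, u * v = v * u := by
      intro u hu v hv
      have huv := N.mul_mem hu hv
      rw [hmem] at hu hv huv
      exact commute_of_sq hu hv huv
    have hNel : Cfsg.IsElementaryAbelian 2 N := by
      refine ⟨⟨⟨fun u v => Subtype.ext (hNcomm u u.2 v v.2)⟩⟩, fun u hu => (hmem u).1 hu⟩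
    refine ⟨N, hNn, hNel, ?_⟩
    haveI := hNn
    haveI h3 : Fact (Nat.Prime 3) := ⟨by norm_num⟩
    -- the quotient is a 3-group
    have hQ3 : IsPGroup 3 (G ⧸ N) := by
      intro q
      obtain ⟨g, rfl⟩ := QuotientGroup.mk_surjective q
      refine ⟨1, ?_⟩
      rw [pow_one, ← QuotientGroup.mk_pow, QuotientGroup.eq_one_iff]
      rcases hsq g with h2 | h3'
      · rw [hmem]
        calc (g ^ 3) ^ 2 = (g ^ 2) ^ 3 := by rw [← pow_mul, ← pow_mul]
          _ = 1 := by rw [h2, one_pow]
      · rw [h3']; exact N.one_mem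
    obtain ⟨m, hm⟩ := (IsPGroup.iff_card.1 hQ3)
    have hidx : N.index = 3 ^ m := by rw [← hm]; rfl
    have hm1 : 1 ≤ m := by
      rcases Nat.eq_zero_or_pos m with h0 | h0
      · exfalso
        rw [h0, pow_zero, Subgroup.index_eq_one] at hidx
        have : x ∈ N := by rw [hidx]; exact Subgroup.mem_top x
        rw [hmem] at this
        exact hxsq this
      · exact h0
    -- a Sylow 3-subgroup has order 3
    obtain ⟨P⟩ : Nonempty (Sylow 3 G) := inferInstance
    have hPel : ∀ w ∈ (P : Subgroup G), w ^ 3 = 1 := by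
      intro w hw
      rcases hsq w with h2 | h3'
      · obtain ⟨k, hk⟩ := P.isPGroup' ⟨w, hw⟩
        have hk' : w ^ 3 ^ k = 1 := by simpa using congrArg Subtype.val hk
        have hd1 := orderOf_dvd_of_pow_eq_one h2
        have hd2 := orderOf_dvd_of_pow_eq_one hk'
        have hcop : Nat.Coprime 2 (3 ^ k) := by apply Nat.Coprime.pow_right; norm_num
        have : orderOf w = 1 := (Nat.Coprime.coprime_dvd_left hd1 hcop).eq_one_of_dvd hd2
        rw [orderOf_eq_one_iff] at this; rw [this, one_pow]
      · exact h3'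
    have h3G : 3 ∣ Nat.card G := by rw [← hx]; exact orderOf_dvd_natCard x
    have h3P : 3 ∣ Nat.card (P : Subgroup G) := P.dvd_card_of_dvd_card h3G
    haveI : Nontrivial (P : Subgroup G) := by
      rw [← Finite.one_lt_card_iff_nontrivial]
      have := Nat.le_of_dvd Nat.card_pos h3P
      omega
    haveI := IsPGroup.center_nontrivial P.isPGroup'
    obtain ⟨z, hz1⟩ := exists_ne (1 : Subgroup.center (P : Subgroup G))
    have hzP : ((z : (P : Subgroup G)) : G) ∈ (P : Subgroup G) := (z : (P : Subgroup G)).2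
    have hz1' : ((z : (P : Subgroup G)) : G) ≠ 1 := by
      intro h1; apply hz1; apply Subtype.ext; apply Subtype.ext; exact h1
    have hzo : orderOf ((z : (P : Subgroup G)) : G) = 3 := orderOf_eq_prime (hPel _ hzP) hz1'
    have hzc : ∀ q ∈ (P : Subgroup G), ((z : (P : Subgroup G)) : G) * q = q * ((z : (P : Subgroup G)) : G) := by
      intro q hq
      have := Subgroup.mem_center_iff.1 z.2 ⟨q, hq⟩
      exact (congrArg Subtype.val this).symm
    have hNbot : N ≠ ⊥ := by
      intro hb
      have : c ∈ N := by rw [hmem]; exact hc2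
      rw [hb, Subgroup.mem_bot] at this
      exact hc1 this
    have hfpf : ∀ g ∈ (P : Subgroup G), g ≠ 1 → N ⊓ Subgroup.centralizer {g} = ⊥ := by
      intro g hg hg1
      rw [eq_bot_iff]
      intro t ht
      rw [Subgroup.mem_bot]
      obtain ⟨htN, htc⟩ := Subgroup.mem_inf.1 ht
      rw [Subgroup.mem_centralizer_singleton_iff] at htc
      by_contra ht1
      have hto : orderOf t = 2 := hord2 t ((hmem t).1 htN) ht1
      have := hcent t hto g htc
      exact hg1 (hboth g this (hPel g hg))
    have hPle : (P : Subgroup G) ≤ Subgroup.zpowers ((z : (P : Subgroup G)) : G) := by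
      intro w hw
      by_cases hw1 : w = 1
      · rw [hw1]; exact one_mem _
      · have hwo : orderOf w = 3 := orderOf_eq_prime (hPel w hw) hw1
        exact Cfsg.Agent.Helper1.mem_zpowers_of_fpf hNbot hfpf (P : Subgroup G) le_rfl P.isPGroup'
          hzP hzo hzc hw hwo
    have hPcard : Nat.card (P : Subgroup G) = 3 := by
      have h1 := Subgroup.card_le_of_le hPle
      rw [Nat.card_zpowers, hzo] at h1
      have h2 := Nat.le_of_dvd Nat.card_pos h3P
      omega
    have hdvd : 3 ^ m ∣ Nat.card G := by rw [← hidx]; exact Subgroup.index_dvd_card N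
    have hle : m ≤ (Nat.card G).factorization 3 :=
      (Nat.Prime.pow_dvd_iff_le_factorization (by norm_num) Nat.card_pos.ne').1 hdvd
    have hPc := P.card_eq_multiplicity
    rw [hPcard] at hPc
    have hf1 : (Nat.card G).factorization 3 = 1 := by
      have : (3 : ℕ) ^ 1 = 3 ^ (Nat.card G).factorization 3 := by rw [pow_one]; exact hPc
      exact (Nat.pow_right_injective (by norm_num : 2 ≤ 3) this).symm
    have : m = 1 := by omega
    rw [hidx, this, pow_one]
  · left
    have hC : ∀ a : G, c * a = a * c → a = 1 ∨ a = c := by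
      intro a ha
      by_contra hcon
      rw [not_or] at hcon
      exact hbig ⟨a, ha, hcon.1, hcon.2⟩
    haveI h2 : Fact (Nat.Prime 2) := ⟨Nat.prime_two⟩
    have hzp : IsPGroup 2 (Subgroup.zpowers c) := by
      apply IsPGroup.of_card (n := 1)
      rw [Nat.card_zpowers, hc, pow_one]
    obtain ⟨S, hS⟩ := hzp.exists_le_sylow
    have hcS : c ∈ (S : Subgroup G) := hS (Subgroup.mem_zpowers c)
    have hSel : ∀ s ∈ (S : Subgroup G), s ^ 2 = 1 := by
      intro w hw
      rcases hsq w with h2' | h3'
      · exact h2'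
      · obtain ⟨k, hk⟩ := S.isPGroup' ⟨w, hw⟩
        have hk' : w ^ 2 ^ k = 1 := by simpa using congrArg Subtype.val hk
        have hd1 := orderOf_dvd_of_pow_eq_one h3'
        have hd2 := orderOf_dvd_of_pow_eq_one hk'
        have hcop : Nat.Coprime 3 (2 ^ k) := by apply Nat.Coprime.pow_right; norm_num
        have : orderOf w = 1 := (Nat.Coprime.coprime_dvd_left hd1 hcop).eq_one_of_dvd hd2
        rw [orderOf_eq_one_iff] at this; rw [this, one_pow]
    have hSc : ∀ s ∈ (S : Subgroup G), s = 1 ∨ s = c := by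
      intro s hs
      apply hC
      exact commute_of_sq hc2 (hSel s hs) (hSel _ ((S : Subgroup G).mul_mem hcS hs))
    have hSN : Subgroup.normalizer ((S : Subgroup G) : Set G) ≤
        Subgroup.centralizer ((S : Subgroup G) : Set G) := by
      intro g hg
      rw [Subgroup.mem_centralizer_iff]
      intro s hs
      rcases hSc s hs with h1 | h1
      · rw [h1]; simp
      · rw [h1]
        have := (Subgroup.mem_normalizer_iff.1 hg c).1 hcS
        rcases hSc _ this with h1' | h1'
        · exfalso; apply hc1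
          calc c = g⁻¹ * (g * c * g⁻¹) * g := by group
            _ = 1 := by rw [h1']; group
        · calc c * g = (g * c * g⁻¹) * g := by rw [h1']
            _ = g * c := by group
    obtain ⟨K, hK⟩ : ∃ K : Subgroup G, K = (MonoidHom.transferSylow S hSN).ker := ⟨_, rfl⟩
    have hcompl : Subgroup.IsComplement' K (S : Subgroup G) := by
      rw [hK]; exact MonoidHom.ker_transferSylow_isComplement' S hSN
    have hKn : K.Normal := by rw [hK]; infer_instance
    have hKodd : ¬ 2 ∣ Nat.card K := by
      rw [hK]; exact MonoidHom.not_dvd_card_ker_transferSylow S hSN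
    have hSeq : (S : Subgroup G) = Subgroup.zpowers c := by
      refine le_antisymm ?_ hS
      intro s hs
      rcases hSc s hs with h1 | h1
      · rw [h1]; exact one_mem _
      · rw [h1]; exact Subgroup.mem_zpowers c
    have hcardS : Nat.card (S : Subgroup G) = 2 := by
      rw [hSeq, Nat.card_zpowers, hc]
    have hidx : K.index = 2 := by rw [← hcardS]; exact hcompl.symm.index_eq_card
    have hKno2 : ∀ k ∈ K, k ^ 2 = 1 → k = 1 := by
      intro k hk hk2
      by_contra hk1
      apply hKodd
      rw [← hord2 k hk2 hk1]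
      exact Subgroup.orderOf_dvd_natCard K hk
    have hKel : ∀ k ∈ K, k ^ 3 = 1 := by
      intro k hk
      rcases hsq k with h2' | h3'
      · rw [hKno2 k hk h2', one_pow]
      · exact h3'
    have hcK : c ∉ K := fun hcK => hc1 (hKno2 c hcK hc2)
    haveI := hKn
    have htK : ∀ k ∈ K, c * k * c⁻¹ ∈ K := fun k hk => hKn.conj_mem k hk c
    have hfpf : ∀ k ∈ K, c * k * c⁻¹ = k → k = 1 := by
      intro k hk hck
      have hcomm : c * k = k * c := by
        calc c * k = (c * k * c⁻¹) * c := by group
          _ = k * c := by rw [hck]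
      rcases hC k hcomm with h1 | h1
      · exact h1
      · exfalso; apply hcK; rw [← h1]; exact hk
    have hinv := Cfsg.Agent.Helper20.inverts_of_fixedPointFree_involution K c hc2 htK hfpf
    have hKcomm : ∀ u ∈ K, ∀ v ∈ K, u * v = v * u := by
      intro u hu v hv
      apply inv_injective
      calc (u * v)⁻¹ = c * (u * v) * c⁻¹ := (hinv _ (K.mul_mem hu hv)).symm
        _ = (c * u * c⁻¹) * (c * v * c⁻¹) := by group
        _ = u⁻¹ * v⁻¹ := by rw [hinv u hu, hinv v hv]
        _ = (v * u)⁻¹ := by rw [mul_inv_rev]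
    refine ⟨K, hKn, ⟨⟨⟨fun u v => Subtype.ext (hKcomm u u.2 v v.2)⟩⟩, hKel⟩, hidx⟩

end Cfsg.Agent.S4005
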