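import Mathlib
import Cfsg.Statements.S4006
import Cfsg.Agent.Lib.Helper1.SolvableBasic
import Cfsg.Agent.Lib.Helper20.Ord4Basic
import Cfsg.Agent.Lib.Helper20.Ord4A
import Cfsg.Agent.Lib.Helper20.Ord4Main
import Cfsg.Agent.Lib.Helper20.Ord4Main3

set_option autoImplicit false
open Cfsg

namespace Cfsg.Agent.S4006

open Cfsg.Agent.Helper20

/-- A finite group whose set of element orders is exactly {1, 2, 3, 4} has a normal subgroup N such that either N is a 2-group of exponent 4 and nilpotency class at most 2 with G/N of order 3, or N is an elementary abelian 2-group with G/N isomorphic to the symmetric group of degree 3, or N is an elementary abelian 3-group with G/N cyclic of order 4 or quaternion of order 8. -/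
theorem result {G : Type*} [Group G] [Finite G] (h : Set.range (orderOf : G → ℕ) = {k : ℕ | 1 ≤ k ∧ k ≤ 4}) :
    ∃ (N : Subgroup G) (_ : N.Normal),
      (IsPGroup 2 ↥N ∧ Monoid.exponent ↥N = 4 ∧ Group.nilpotencyClass ↥N ≤ 2 ∧ N.index = 3) ∨
      (Cfsg.IsElementaryAbelian 2 N ∧ Nonempty (G ⧸ N ≃* Equiv.Perm (Fin 3))) ∨
      (Cfsg.IsElementaryAbelian 3 N ∧ ((IsCyclic (G ⧸ N) ∧ N.index = 4) ∨ Nonempty (G ⧸ N ≃* QuaternionGroup 2))) := by
  have h4 : Ord4 G := by
    intro g
    have hg : orderOf g ∈ Set.range (orderOf : G → ℕ) := ⟨g, rfl⟩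
    rw [h] at hg
    obtain ⟨h1, h2⟩ := hg
    omega
  have hex : ∀ k : ℕ, 1 ≤ k → k ≤ 4 → ∃ g : G, orderOf g = k := by
    intro k hk1 hk4
    have : k ∈ Set.range (orderOf : G → ℕ) := by rw [h]; exact ⟨hk1, hk4⟩
    exact this
  obtain ⟨z, hz⟩ := hex 2 (by norm_num) (by norm_num)
  obtain ⟨x3, hx3⟩ := hex 3 (by norm_num) (by norm_num)
  obtain ⟨g4, hg4⟩ := hex 4 (by norm_num) (by norm_num)
  haveI hsol : Group.IsSolvable G := h4.isSolvable
  haveI : Nontrivial G := by
    refine ⟨⟨z, 1, ?_⟩⟩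
    intro hh
    rw [hh, orderOf_one] at hz
    omega
  obtain ⟨p, hp, P, hPn, hPb, hPp⟩ := Cfsg.Agent.Helper1.exists_normal_pSubgroup_of_solvable G
  haveI := hPn
  haveI : Fact p.Prime := ⟨hp⟩
  have hpd : p ∣ Nat.card G := by
    obtain ⟨n, hn⟩ := hPp.exists_card_eq
    have hn0 : n ≠ 0 := by
      intro h0
      rw [h0, pow_zero] at hn
      exact hPb (Subgroup.card_eq_one.mp hn)
    have h1 : p ∣ Nat.card P := by
      rw [hn]; exact dvd_pow_self p hn0
    exact h1.trans (Subgroup.card_subgroup_dvd_card P)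
  rcases h4.prime_dvd_card hp hpd with h2 | h3
  · subst h2
    obtain ⟨N, hN, hcase⟩ := h4.caseB P hPp hPb hx3 hg4
    refine ⟨N, hN, ?_⟩
    rcases hcase with hc | hc
    · exact Or.inl hc
    · exact Or.inr (Or.inl hc)
  · subst h3
    obtain ⟨N, hN, hcase⟩ := h4.caseA P hPp hPb hz hg4
    exact ⟨N, hN, Or.inr (Or.inr hcase)⟩

end Cfsg.Agent.S4006
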