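import Mathlib
import Cfsg.Statements.S4010
import Cfsg.Agent.Lib.Helper20.LinP2
import Cfsg.Agent.Lib.Helper20.LinP3

set_option autoImplicit false
open Cfsg

namespace Cfsg.Agent.S4010

/-- Let F be a field, n ≥ 1, and P a finite p-group (p a prime) admitting an injective homomorphism into the general linear group of degree n over F. Then the derived length of P is at most ⌊log₂ n⌋ + 1: that term of the derived series of P is trivial. -/
theorem result {P : Type*} [Group P] [Finite P] (p : ℕ) [Fact p.Prime] (hP : IsPGroup p P) (F : Type*) [Field F] (n : ℕ) (hn : 1 ≤ n) (ρ : P →* Matrix.GeneralLinearGroup (Fin n) F) (hρ : Function.Injective ρ) : derivedSeries P (Nat.log 2 n + 1) = ⊥ := by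
  classical
  let K := AlgebraicClosure F
  let e : Matrix (Fin n) (Fin n) K →* Module.End K (Fin n → K) :=
    ((Matrix.toLinAlgEquiv' : Matrix (Fin n) (Fin n) K ≃ₐ[K] Module.End K (Fin n → K)) :
      Matrix (Fin n) (Fin n) K →* Module.End K (Fin n → K))
  let ρ2 : P →* Module.End K (Fin n → K) :=
    e.comp ((Units.coeHom (Matrix (Fin n) (Fin n) K)).comp
      ((Matrix.GeneralLinearGroup.map (algebraMap F K)).comp ρ))
  have hρ2 : Function.Injective ρ2 := by
    intro g h hgh
    apply hρ
    have h1 : ((Matrix.GeneralLinearGroup.map (algebraMap F K) (ρ g) : GL (Fin n) K) :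
        Matrix (Fin n) (Fin n) K) = (Matrix.GeneralLinearGroup.map (algebraMap F K) (ρ h) :
        GL (Fin n) K) := by
      apply (Matrix.toLinAlgEquiv' : Matrix (Fin n) (Fin n) K ≃ₐ[K]
        Module.End K (Fin n → K)).injective
      exact hgh
    apply Units.ext
    ext i j
    have h2 := congrFun (congrFun h1 i) j
    rw [Matrix.GeneralLinearGroup.map_apply, Matrix.GeneralLinearGroup.map_apply] at h2
    exact (algebraMap F K).injective h2
  have hfr : Module.finrank K (Fin n → K) = n := Module.finrank_fin_fun K
  by_cases hK : (p : K) = 0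
  · apply Cfsg.Agent.Helper20.LinP.derivedSeries_eq_bot_of_char hP hK ρ2 hρ2
    rw [hfr]
    exact (Nat.lt_pow_succ_log_self (by norm_num) n).le
  · exact Cfsg.Agent.Helper20.LinP.derivedSeries_eq_bot_of_ne_char hP hK ρ2 hρ2 n hfr.le

end Cfsg.Agent.S4010
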