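import Mathlib
import Cfsg.Statements.S4013
import Cfsg.Agent.Lib.Helper20.Basic

set_option autoImplicit false
open Cfsg

namespace Cfsg.Agent.S4013

theorem arith {p m k a : ℕ} (hp : p.Prime) (hkm : k < m) (h : p ^ m - p ^ k = p ^ a) :
    p = 2 ∧ m = k + 1 := by
  obtain ⟨d, rfl⟩ : ∃ d, m = k + (d + 1) := ⟨m - k - 1, by omega⟩
  have h1 : p ^ (k + (d + 1)) - p ^ k = p ^ k * (p ^ (d + 1) - 1) := by
    rw [pow_add, Nat.mul_sub, mul_one]
  rw [h1] at h
  have h2 : p ^ (d + 1) - 1 ∣ p ^ a := ⟨p ^ k, by rw [← h, mul_comm]⟩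
  obtain ⟨j, -, hj⟩ := (Nat.dvd_prime_pow hp).mp h2
  have hp1 : 1 ≤ p ^ (d + 1) := Nat.one_le_pow _ _ hp.pos
  rcases Nat.eq_zero_or_pos j with rfl | hjpos
  · rw [pow_zero] at hj
    have h3 : p ^ (d + 1) = 2 := by omega
    have hpd : p ∣ 2 := by rw [← h3]; exact dvd_pow_self p (Nat.succ_ne_zero d)
    have hp2 : p = 2 := (Nat.prime_dvd_prime_iff_eq hp Nat.prime_two).mp hpd
    subst hp2
    refine ⟨rfl, ?_⟩
    rcases Nat.eq_zero_or_pos d with rfl | hd
    · rfl
    · exfalso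
      have : 2 ^ (d + 1) ≥ 2 ^ 2 := Nat.pow_le_pow_right (by norm_num) (by omega)
      omega
  · exfalso
    have h4 : p ∣ p ^ (d + 1) - 1 := by rw [hj]; exact dvd_pow_self p (by omega)
    have h5 : p ∣ p ^ (d + 1) := dvd_pow_self p (Nat.succ_ne_zero d)
    have h6 : p ∣ 1 := by
      have := (Nat.dvd_sub h5 h4)
      rwa [Nat.sub_sub_self hp1] at this
    exact hp.one_lt.ne' (Nat.dvd_one.mp h6)

/-- Let G be a finite p-group (p prime) and N < M normal subgroups of G such that for some g ∈ M ∖ N the conjugacy class of g is exactly M ∖ N. Then p = 2 and N has index 2 in M. -/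
theorem result {G : Type*} [Group G] [Finite G] (p : ℕ) [Fact p.Prime] (hG : IsPGroup p G) (N M : Subgroup G) [N.Normal] [M.Normal] (hNM : N < M) (g : G) (hgM : g ∈ M) (hgN : g ∉ N) (hcl : {h : G | IsConj g h} = (M : Set G) \ (N : Set G)) : p = 2 ∧ N.relIndex M = 2 := by
  have hp : p.Prime := Fact.out
  obtain ⟨a, ha⟩ := hG.index (Subgroup.centralizer ({g} : Set G))
  obtain ⟨m, hm⟩ := (hG.to_subgroup M).exists_card_eq
  obtain ⟨k, hk⟩ := (hG.to_subgroup N).exists_card_eq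
  have hsub : (N : Set G) ⊆ (M : Set G) := hNM.le
  have hcard : (M : Set G).ncard - (N : Set G).ncard = p ^ a := by
    rw [← Set.ncard_sdiff hsub (Set.toFinite _), ← hcl, Helper20.ncard_isConj_eq_index, ha]
  have hMc : (M : Set G).ncard = p ^ m := by rw [← hm]; exact (Nat.card_coe_set_eq _).symm
  have hNc : (N : Set G).ncard = p ^ k := by rw [← hk]; exact (Nat.card_coe_set_eq _).symm
  rw [hMc, hNc] at hcard
  have hlt : p ^ k < p ^ m := by
    rw [← hMc, ← hNc]
    exact Set.ncard_lt_ncard (LE.le.ssubset_of_ne hsub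
      (fun h => hNM.ne (SetLike.coe_injective h))) (Set.toFinite _)
  have hkm : k < m := (Nat.pow_lt_pow_iff_right hp.one_lt).mp hlt
  obtain ⟨hp2, hmk⟩ := arith hp hkm hcard
  refine ⟨hp2, ?_⟩
  have h1 : Nat.card (N.subgroupOf M) * (N.subgroupOf M).index = Nat.card M :=
    Subgroup.card_mul_index _
  have h2 : Nat.card (N.subgroupOf M) = Nat.card N :=
    Nat.card_congr (Subgroup.subgroupOfEquivOfLe hNM.le).toEquiv
  rw [h2, hk, hm, hmk, pow_succ] at h1
  have h3 : (N.subgroupOf M).index = p :=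
    Nat.eq_of_mul_eq_mul_left (pow_pos hp.pos k) h1
  rw [Subgroup.relIndex, h3, hp2]

end Cfsg.Agent.S4013
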