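import Mathlib
import Cfsg.Statements.S4015
import Cfsg.Agent.Lib.Helper20.LinP6
import Cfsg.Agent.Lib.Helper20.LinW2
import Cfsg.Agent.Lib.Helper20.PermDerived3

set_option autoImplicit false
open Cfsg

namespace Cfsg.Agent.S4015

open Cfsg.Agent.Helper20 Cfsg.Agent.Helper20.LinP Cfsg.Agent.Helper20.LinW

theorem lower (p : ℕ) [Fact p.Prime] (F : Type*) [Field F] [Fintype F]
    (hpq : ¬ p ∣ Fintype.card F) (n : ℕ)
    (hn : orderOf ((Fintype.card F : ℕ) : ZMod p) ≤ n)
    (P : Sylow p (Matrix.GeneralLinearGroup (Fin n) F)) :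
    derivedSeries ↥(P : Subgroup (Matrix.GeneralLinearGroup (Fin n) F))
      (Nat.log p (n / orderOf ((Fintype.card F : ℕ) : ZMod p))) ≠ ⊥ := by
  classical
  have hp : p.Prime := Fact.out
  set q := Fintype.card F with hq
  set e := orderOf ((q : ℕ) : ZMod p) with he
  set k := Nat.log p (n / e) with hk
  have he0 : 0 < e := orderOf_card_pos q hpq
  have hek : e * p ^ k ≤ n := by
    have h1 : n / e ≠ 0 := by
      have := Nat.div_pos hn he0
      omega
    have h2 : p ^ k ≤ n / e := Nat.pow_log_le_self p h1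
    rw [Nat.le_div_iff_mul_le he0] at h2
    rw [mul_comm]
    exact h2
  -- an element of order p in GL_e(F)
  have hdvd : p ∣ Nat.card (Matrix.GeneralLinearGroup (Fin e) F) := by
    rw [Matrix.card_GL_field]
    have h1 : p ∣ q ^ e - q ^ ((⟨0, he0⟩ : Fin e) : ℕ) := by
      have h2 : ((q : ℕ) : ZMod p) ^ e = 1 := pow_orderOf_eq_one _
      have h3 : 1 ≤ q ^ e := Nat.one_le_pow _ _ Fintype.card_pos
      rw [← ZMod.natCast_eq_zero_iff]
      simp only [pow_zero]
      rw [Nat.cast_sub h3, Nat.cast_pow, h2, Nat.cast_one, sub_self]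
    exact h1.trans (Finset.dvd_prod_of_mem _ (Finset.mem_univ _))
  obtain ⟨c, hc⟩ := exists_prime_orderOf_dvd_card' p hdvd
  have hcard : Nat.card (Subgroup.zpowers c) = p := by rw [Nat.card_zpowers, hc]
  haveI : Nontrivial (Subgroup.zpowers c) := by
    rw [← Finite.one_lt_card_iff_nontrivial, hcard]
    exact hp.one_lt
  have hW₀ : IsPGroup p (Subgroup.zpowers c) := IsPGroup.of_card (n := 1) (by rw [hcard, pow_one])
  obtain ⟨W, iG, iF, hW, hd, U, i1, i2, i3, hfr, ρ, hρ⟩ :=
    exists_wreath_tower p F e (Subgroup.zpowers c) hW₀ (extRep F (Subgroup.zpowers c).subtype)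
      (extRep_injective _ Subtype.val_injective) he0 k
  obtain ⟨f, hf⟩ := exists_hom_GL_of_rep ρ hρ n (by rw [hfr]; exact hek)
  have hfp : IsPGroup p f.range := hW.of_equiv (MonoidHom.ofInjective hf)
  obtain ⟨Q, hQ⟩ := hfp.exists_le_sylow
  obtain ⟨g, hg⟩ := MulAction.exists_smul_eq (Matrix.GeneralLinearGroup (Fin n) F) Q P
  subst hg
  let f1 : W →* ↥(Q : Subgroup (Matrix.GeneralLinearGroup (Fin n) F)) :=
    f.codRestrict (Q : Subgroup (Matrix.GeneralLinearGroup (Fin n) F))
      (fun w => hQ ⟨w, rfl⟩)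
  have hf1 : Function.Injective f1 := by
    intro a b hab
    apply hf
    exact congrArg Subtype.val hab
  let f2 : W →* ↥((g • Q : Sylow p (Matrix.GeneralLinearGroup (Fin n) F)) :
      Subgroup (Matrix.GeneralLinearGroup (Fin n) F)) :=
    (Sylow.equivSMul Q g).toMonoidHom.comp f1
  have hf2 : Function.Injective f2 := (Sylow.equivSMul Q g).injective.comp hf1
  exact derivedSeries_ne_bot_of_injective f2 hf2 k hd

/-- Let p be an odd prime, F a finite field with q elements where p does not divide q, and e the multiplicative order of q modulo p. Let n ≥ e and write w = ⌊n/e⌋ and k = ⌊log_p w⌋. Then a Sylow p-subgroup of GL(n, F) has derived length exactly k + 1: its (k+1)-st derived subgroup is trivial and its k-th is not. -/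
theorem result (p : ℕ) [Fact p.Prime] (hp : p ≠ 2) (F : Type*) [Field F] [Fintype F] (q : ℕ) (hq : Fintype.card F = q) (hpq : ¬ p ∣ q) (n : ℕ) (hn : orderOf (q : ZMod p) ≤ n) (P : Sylow p (Matrix.GeneralLinearGroup (Fin n) F)) : derivedSeries ↥(P : Subgroup (Matrix.GeneralLinearGroup (Fin n) F)) (Nat.log p (n / orderOf (q : ZMod p)) + 1) = ⊥ ∧ derivedSeries ↥(P : Subgroup (Matrix.GeneralLinearGroup (Fin n) F)) (Nat.log p (n / orderOf (q : ZMod p))) ≠ ⊥ := by
  subst hq
  refine ⟨?_, lower p F hpq n hn P⟩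
  exact derivedSeries_eq_bot_of_finite_field P.isPGroup' hpq
    (P : Subgroup (Matrix.GeneralLinearGroup (Fin n) F)).subtype Subtype.val_injective hn

end Cfsg.Agent.S4015
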