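import Mathlib
import Cfsg.Statements.S4018
import Cfsg.Agent.Lib.Helper21.S4018Aux
import Cfsg.Agent.Lib.Helper23.V4Residual

set_option autoImplicit false
open Cfsg

namespace Cfsg.Agent.S4018

/-- Let G be a finite group with an abelian Sylow 3-subgroup P such that the normalizer of P has order 4·#P, the centralizer C of P has order 2·#P, C meets each of its conjugates by elements outside its normalizer trivially, and every proper subgroup of G of even order has order dividing 4·#P. Then G is not simple. -/
theorem result {G : Type*} [Group G] [Finite G]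
    (P : Sylow 3 G) (hab : IsMulCommutative P)
    (hN : Nat.card (Subgroup.normalizer ((P : Subgroup G) : Set G)) = 4 * Nat.card P)
    (hC : Nat.card (Subgroup.centralizer (P : Set G)) = 2 * Nat.card P)
    (hTI : Cfsg.IsTISubset (Subgroup.centralizer (P : Set G) : Set G))
    (heven : ∀ H : Subgroup G, H ≠ ⊤ → 2 ∣ Nat.card H → Nat.card H ∣ 4 * Nat.card P) :
    ¬ IsSimpleGroup G := by
  exact Cfsg.Agent.Helper21.S4018A.main P hab hN hC hTI heven
    (fun S t w hperf hK hone ht hto hCt hCS hlt =>
      Cfsg.Agent.Helper23.V4R.v4_residual hperf S hK hone t ht hto w hCt hCS hlt)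

end Cfsg.Agent.S4018
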