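import Mathlib
import Cfsg.Statements.S4023
import Cfsg.Agent.Lib.Helper20.SameOrderIso2

set_option autoImplicit false
open Cfsg
namespace Cfsg.Agent.S4023

/-- Let p be a prime and G a finite group in which any two p-subgroups of the same order are conjugate, with Sylow p-subgroup P. Then P is cyclic, or elementary abelian, or p = 2 and P is a quaternion group of order 8, or p is odd and P is non-abelian of order p³ and exponent p. -/
theorem result {G : Type*} [Group G] [Finite G]
    {p : ℕ} [Fact p.Prime] (hC : ∀ H K : Subgroup G, IsPGroup p H → IsPGroup p K → Nat.card H = Nat.card K →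
      ∃ g : G, K = H.map (MulAut.conj g).toMonoidHom) (P : Sylow p G) :
    IsCyclic P ∨ Cfsg.IsElementaryAbelian p (P : Subgroup G) ∨
      (p = 2 ∧ Nonempty ((P : Subgroup G) ≃* QuaternionGroup 2)) ∨
      (p ≠ 2 ∧ ¬ IsMulCommutative P ∧ Nat.card P = p ^ 3 ∧ Monoid.exponent P = p) := by
  have hp : p.Prime := Fact.out
  have hT : IsPGroup p ↥(P : Subgroup G) := P.isPGroup'
  have hiso : ∀ H K : Subgroup ↥(P : Subgroup G), Nat.card H = Nat.card K → Nonempty (H ≃* K) := by
    intro H K hHK
    have hinj := (P : Subgroup G).subtype_injective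
    have h1 : IsPGroup p (H.map (P : Subgroup G).subtype) :=
      hT.to_le (Subgroup.map_subtype_le H)
    have h2 : IsPGroup p (K.map (P : Subgroup G).subtype) :=
      hT.to_le (Subgroup.map_subtype_le K)
    have h3 : Nat.card (H.map (P : Subgroup G).subtype) = Nat.card (K.map (P : Subgroup G).subtype) := by
      rw [Subgroup.card_map_of_injective hinj, Subgroup.card_map_of_injective hinj, hHK]
    obtain ⟨g, hg⟩ := hC _ _ h1 h2 h3
    have e1 := H.equivMapOfInjective _ hinj
    have e2 := (H.map (P : Subgroup G).subtype).equivMapOfInjective (MulAut.conj g).toMonoidHom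
      (MulAut.conj g).injective
    have e3 := MulEquiv.subgroupCongr hg.symm
    have e4 := K.equivMapOfInjective _ hinj
    exact ⟨((e1.trans e2).trans e3).trans e4.symm⟩
  rcases Cfsg.Agent.Helper20.structure_of_iso_subgroups p hT hiso with h | h | h | h
  · exact Or.inl h
  · right; left
    refine ⟨⟨⟨fun a b => h.1 a b⟩⟩, ?_⟩
    intro a ha
    have := h.2 ⟨a, ha⟩
    exact congrArg Subtype.val this
  · right; right; left
    exact h
  · right; right; right
    obtain ⟨hp2, hnc, hcard, hexp⟩ := h
    refine ⟨hp2, ?_, hcard, ?_⟩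
    · intro hcomm
      exact hnc (fun a b => hcomm.is_comm.comm a b)
    · have hdvd : Monoid.exponent ↥(P : Subgroup G) ∣ p :=
        Monoid.exponent_dvd_of_forall_pow_eq_one hexp
      rcases (Nat.dvd_prime hp).mp hdvd with h1 | h1
      · exfalso
        rw [Monoid.exp_eq_one_iff] at h1
        apply hnc
        intro a b
        rw [Subsingleton.elim a b]
      · exact h1
end Cfsg.Agent.S4023
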