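import Mathlib
import Cfsg.Statements.S4024
import Cfsg.Agent.Lib.Helper20.SameOrderIso2
import Cfsg.Agent.Lib.Helper20.PSolvableCore
import Cfsg.Agent.Lib.Helper20.SylowBasic

set_option autoImplicit false
open Cfsg
namespace Cfsg.Agent.S4024

/-- conjugacy of same-order `p`-subgroups gives isomorphism of same-order subgroups of a Sylow -/
theorem iso_of_conj {G : Type*} [Group G] [Finite G] {p : ℕ} [Fact p.Prime]
    (hC : ∀ H K : Subgroup G, IsPGroup p H → IsPGroup p K → Nat.card H = Nat.card K →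
      ∃ g : G, K = H.map (MulAut.conj g).toMonoidHom) (P : Sylow p G) :
    ∀ H K : Subgroup ↥(P : Subgroup G), Nat.card H = Nat.card K → Nonempty (H ≃* K) := by
  have hT : IsPGroup p ↥(P : Subgroup G) := P.isPGroup'
  intro H K hHK
  have hinj := (P : Subgroup G).subtype_injective
  have h1 : IsPGroup p (H.map (P : Subgroup G).subtype) :=
    hT.to_le (Subgroup.map_subtype_le H)
  have h2 : IsPGroup p (K.map (P : Subgroup G).subtype) :=
    hT.to_le (Subgroup.map_subtype_le K)
  have h3 : Nat.card (H.map (P : Subgroup G).subtype) = Nat.card (K.map (P : Subgroup G).subtype) := by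
    rw [Subgroup.card_map_of_injective hinj, Subgroup.card_map_of_injective hinj, hHK]
  obtain ⟨g, hg⟩ := hC _ _ h1 h2 h3
  have e1 := H.equivMapOfInjective _ hinj
  have e2 := (H.map (P : Subgroup G).subtype).equivMapOfInjective (MulAut.conj g).toMonoidHom
    (MulAut.conj g).injective
  have e3 := MulEquiv.subgroupCongr hg.symm
  have e4 := K.equivMapOfInjective _ hinj
  exact ⟨((e1.trans e2).trans e3).trans e4.symm⟩

/-- Let p be an odd prime and G a finite group in which any two p-subgroups of the same order are conjugate, with Sylow p-subgroup P. If H is a normal p-solvable subgroup of G whose order is divisible by p, then P is abelian, and either P ≤ H or P is cyclic. -/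
theorem result {G : Type*} [Group G] [Finite G]
    {p : ℕ} [Fact p.Prime] (hp : p ≠ 2) (hC : ∀ H K : Subgroup G, IsPGroup p H → IsPGroup p K → Nat.card H = Nat.card K →
      ∃ g : G, K = H.map (MulAut.conj g).toMonoidHom) (P : Sylow p G)
    (H : Subgroup G) [H.Normal] (hsolv : Cfsg.IsPSolvable p H) (hdiv : p ∣ Nat.card H) :
    IsMulCommutative P ∧ ((P : Subgroup G) ≤ H ∨ IsCyclic P) := by
  have hpp : p.Prime := Fact.out
  have hT : IsPGroup p ↥(P : Subgroup G) := P.isPGroup'
  have hiso := iso_of_conj hC P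
  haveI hKc : (pPrimeCore p ↥H).Characteristic := Cfsg.Agent.Helper7.pPrimeCore_characteristic p
  haveI hQc : (pPrimePCore p ↥H).Characteristic := Cfsg.Agent.Helper7.pPrimePCore_characteristic p
  obtain ⟨K, hK⟩ : ∃ K : Subgroup G, K = (pPrimeCore p ↥H).map H.subtype := ⟨_, rfl⟩
  obtain ⟨Q, hQ⟩ : ∃ Q : Subgroup G, Q = (pPrimePCore p ↥H).map H.subtype := ⟨_, rfl⟩
  haveI hKn : K.Normal := by rw [hK]; exact ConjAct.normal_of_characteristic_of_normal
  haveI hQn : Q.Normal := by rw [hQ]; exact ConjAct.normal_of_characteristic_of_normal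
  have hKQ : K ≤ Q := by
    rw [hK, hQ]; exact Subgroup.map_mono (Cfsg.Agent.Helper7.pPrimeCore_le_pPrimePCore_q p)
  have hQH : Q ≤ H := by rw [hQ]; exact Subgroup.map_subtype_le _
  have hKcop : (Nat.card K).Coprime p := by
    rw [hK, Subgroup.card_map_of_injective H.subtype_injective]
    exact Cfsg.Agent.Helper22.card_pPrimeCore_coprime p
  have hQpow : ∀ q ∈ Q, ∃ j : ℕ, q ^ p ^ j ∈ K := by
    intro q hq
    rw [hQ] at hq
    obtain ⟨q', hq', rfl⟩ := hq
    obtain ⟨j, hj⟩ := Cfsg.Agent.Helper20.exists_pow_mem_pPrimeCore p hq'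
    refine ⟨j, ?_⟩
    rw [hK]
    exact ⟨q' ^ p ^ j, hj, by simp⟩
  obtain ⟨y, hyQ, hyo⟩ : ∃ y ∈ Q, orderOf y = p := by
    obtain ⟨y, hy, hyo⟩ := Cfsg.Agent.Helper20.exists_orderOf_eq_mem_pPrimePCore p hsolv hdiv
    refine ⟨(y : G), ?_, ?_⟩
    · rw [hQ]; exact ⟨y, hy, rfl⟩
    · rw [Subgroup.orderOf_coe, hyo]
  -- all elements of order p lie in Q
  have hordp : ∀ x : G, orderOf x = p → x ∈ Q := by
    intro x hx
    have h1 : IsPGroup p (Subgroup.zpowers y) :=
      Cfsg.Agent.Helper20.isPGroup_zpowers_of_orderOf (k := 1) (by rw [hyo, pow_one])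
    have h2 : IsPGroup p (Subgroup.zpowers x) :=
      Cfsg.Agent.Helper20.isPGroup_zpowers_of_orderOf (k := 1) (by rw [hx, pow_one])
    obtain ⟨g, hg⟩ := hC _ _ h1 h2 (by rw [Nat.card_zpowers, Nat.card_zpowers, hyo, hx])
    have hxm : x ∈ (Subgroup.zpowers y).map (MulAut.conj g).toMonoidHom := by
      rw [← hg]; exact Subgroup.mem_zpowers x
    obtain ⟨w, hw, rfl⟩ := hxm
    have hwQ : w ∈ Q := (Subgroup.zpowers_le.mpr hyQ) hw
    exact hQn.conj_mem w hwQ g
  have hPQ : (∀ a : ↥(P : Subgroup G), a ^ p = 1) → (P : Subgroup G) ≤ Q := by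
    intro hexp x hx
    by_cases hx1 : x = 1
    · rw [hx1]; exact Q.one_mem
    · apply hordp
      have h1 : x ^ p = 1 := by
        have := congrArg Subtype.val (hexp ⟨x, hx⟩)
        simpa using this
      exact orderOf_eq_prime h1 hx1
  rcases Cfsg.Agent.Helper20.structure_of_iso_subgroups p hT hiso with h | h | h | h
  · refine ⟨?_, Or.inr h⟩
    haveI := h
    exact ⟨⟨fun a b => (IsCyclic.commGroup (α := ↥(P : Subgroup G))).mul_comm a b⟩⟩
  · exact ⟨⟨⟨fun a b => h.1 a b⟩⟩, Or.inl ((hPQ h.2).trans hQH)⟩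
  · exact absurd h.1 hp
  · exfalso
    obtain ⟨-, hnc, hcard, hexp⟩ := h
    have hPQ' := hPQ hexp
    -- K ⊔ P = Q
    have hsup : K ⊔ (P : Subgroup G) = Q := by
      apply le_antisymm (sup_le hKQ hPQ')
      have h1 : (K ⊔ (P : Subgroup G)).relIndex Q ∣ K.relIndex Q :=
        Subgroup.relIndex_dvd_of_le_left Q le_sup_left
      have h2 : (K ⊔ (P : Subgroup G)).relIndex Q ∣ (P : Subgroup G).relIndex Q :=
        Subgroup.relIndex_dvd_of_le_left Q le_sup_right
      have h3 : ∃ m : ℕ, K.relIndex Q = p ^ m := by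
        have hpg : IsPGroup p (↥Q ⧸ K.subgroupOf Q) := by
          intro qbar
          induction qbar using QuotientGroup.induction_on with
          | H q =>
            obtain ⟨j, hj⟩ := hQpow q.1 q.2
            refine ⟨j, ?_⟩
            rw [← QuotientGroup.mk_pow, QuotientGroup.eq_one_iff, Subgroup.mem_subgroupOf]
            simpa using hj
        obtain ⟨m, hm⟩ := IsPGroup.iff_card.mp hpg
        refine ⟨m, ?_⟩
        rw [Subgroup.relIndex, Subgroup.index_eq_card, hm]
      have h4 : ¬ p ∣ (P : Subgroup G).relIndex Q := by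
        intro hdvd
        apply P.not_dvd_index
        exact dvd_trans hdvd (Dvd.intro _ (Subgroup.relIndex_mul_index hPQ'))
      have h5 : (K ⊔ (P : Subgroup G)).relIndex Q = 1 := by
        obtain ⟨m, hm⟩ := h3
        rw [hm] at h1
        obtain ⟨i, -, hi⟩ := (Nat.dvd_prime_pow hpp).mp h1
        rcases Nat.eq_zero_or_pos i with rfl | hipos
        · simpa using hi
        · exfalso
          apply h4
          refine dvd_trans ?_ h2
          rw [hi]
          exact dvd_pow_self p hipos.ne'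
      exact Subgroup.relIndex_eq_one.mp h5
    -- Frattini
    have hfrat : Subgroup.normalizer ((P : Subgroup G) : Set G) ⊔ K = ⊤ := by
      have h1 := Sylow.normalizer_sup_eq_top (P.subtype hPQ')
      rw [Sylow.coe_subtype, Subgroup.map_subgroupOf_eq_of_le hPQ'] at h1
      rw [eq_top_iff, ← h1, ← hsup]
      apply sup_le le_sup_left
      apply sup_le le_sup_right
      exact le_sup_of_le_left Subgroup.le_normalizer
    -- central element and noncentral element
    haveI : Nontrivial ↥(P : Subgroup G) := by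
      rw [← Finite.one_lt_card_iff_nontrivial, hcard]
      exact Nat.one_lt_pow (by norm_num) hpp.one_lt
    haveI := hT.center_nontrivial
    obtain ⟨⟨w0, hw0c⟩, hw01⟩ := exists_ne (1 : Subgroup.center ↥(P : Subgroup G))
    have hw0ne : w0 ≠ 1 := fun h => hw01 (Subtype.ext h)
    have hw0P : (w0 : G) ∈ (P : Subgroup G) := w0.2
    have hw0cent : ∀ x ∈ (P : Subgroup G), x * (w0 : G) = (w0 : G) * x := by
      intro x hx
      have := Subgroup.mem_center_iff.mp hw0c ⟨x, hx⟩
      exact congrArg Subtype.val this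
    have hw0o : orderOf (w0 : G) = p := by
      rw [Subgroup.orderOf_coe]
      exact orderOf_eq_prime (hexp w0) hw0ne
    obtain ⟨a, b, hab⟩ : ∃ a b : ↥(P : Subgroup G), a * b ≠ b * a := by
      by_contra hcon
      push Not at hcon
      exact hnc hcon
    have ha1 : a ≠ 1 := by
      intro h
      apply hab
      rw [h, one_mul, mul_one]
    have hao : orderOf (a : G) = p := by
      rw [Subgroup.orderOf_coe]
      exact orderOf_eq_prime (hexp a) ha1
    -- conjugacy
    have h1 : IsPGroup p (Subgroup.zpowers (w0 : G)) :=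
      Cfsg.Agent.Helper20.isPGroup_zpowers_of_orderOf (k := 1) (by rw [hw0o, pow_one])
    have h2 : IsPGroup p (Subgroup.zpowers (a : G)) :=
      Cfsg.Agent.Helper20.isPGroup_zpowers_of_orderOf (k := 1) (by rw [hao, pow_one])
    obtain ⟨g, hg⟩ := hC _ _ h1 h2 (by rw [Nat.card_zpowers, Nat.card_zpowers, hw0o, hao])
    have ham : (a : G) ∈ (Subgroup.zpowers (w0 : G)).map (MulAut.conj g).toMonoidHom := by
      rw [← hg]; exact Subgroup.mem_zpowers _
    obtain ⟨w, hw, hwa⟩ := ham
    have hwa' : g * w * g⁻¹ = (a : G) := by simpa [MulAut.conj_apply] using hwa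
    obtain ⟨i, rfl⟩ := Subgroup.mem_zpowers_iff.mp hw
    have hwP : (w0 : G) ^ i ∈ (P : Subgroup G) := Subgroup.zpow_mem _ hw0P i
    have hwcent : ∀ x ∈ (P : Subgroup G), x * (w0 : G) ^ i = (w0 : G) ^ i * x := by
      intro x hx
      have : Commute x (w0 : G) := hw0cent x hx
      exact (this.zpow_right i).eq
    -- decompose g
    have hg' : g ∈ Subgroup.normalizer ((P : Subgroup G) : Set G) ⊔ K := by
      rw [hfrat]; exact Subgroup.mem_top g
    rw [Subgroup.mem_sup_of_normal_right] at hg'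
    obtain ⟨m, hm, k, hk, rfl⟩ := hg'
    have hminv : m⁻¹ ∈ Subgroup.normalizer ((P : Subgroup G) : Set G) := Subgroup.inv_mem _ hm
    set x' := k * (w0 : G) ^ i * k⁻¹ with hx'
    have hx'eq : x' = m⁻¹ * (a : G) * m := by
      rw [← hwa', hx']; group
    have hx'P : x' ∈ (P : Subgroup G) := by
      rw [hx'eq]
      have := (Subgroup.mem_normalizer_iff.mp hminv (a : G)).mp a.2
      simpa using this
    have hx'w : x' * ((w0 : G) ^ i)⁻¹ = 1 := by
      have hK' : x' * ((w0 : G) ^ i)⁻¹ ∈ K := by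
        have h3 : (w0 : G) ^ i * k⁻¹ * ((w0 : G) ^ i)⁻¹ ∈ K :=
          hKn.conj_mem k⁻¹ (K.inv_mem hk) _
        have : x' * ((w0 : G) ^ i)⁻¹ = k * ((w0 : G) ^ i * k⁻¹ * ((w0 : G) ^ i)⁻¹) := by
          rw [hx']; group
        rw [this]
        exact K.mul_mem hk h3
      have hP' : x' * ((w0 : G) ^ i)⁻¹ ∈ (P : Subgroup G) :=
        Subgroup.mul_mem _ hx'P (Subgroup.inv_mem _ hwP)
      have hdisj : K ⊓ (P : Subgroup G) = ⊥ := by
        apply Subgroup.inf_eq_bot_of_coprime
        obtain ⟨n, hn⟩ := IsPGroup.iff_card.mp hT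
        rw [hn]
        exact Nat.Coprime.pow_right n hKcop
      have : x' * ((w0 : G) ^ i)⁻¹ ∈ K ⊓ (P : Subgroup G) := ⟨hK', hP'⟩
      rw [hdisj, Subgroup.mem_bot] at this
      exact this
    have hx'w' : x' = (w0 : G) ^ i := by
      rw [mul_inv_eq_one] at hx'w
      exact hx'w
    -- so a = m w m⁻¹ is central in P
    have haeq : (a : G) = m * (w0 : G) ^ i * m⁻¹ := by
      rw [← hx'w', hx'eq]; group
    apply hab
    apply Subtype.ext
    show (a : G) * (b : G) = (b : G) * (a : G)
    have hbm : m⁻¹ * (b : G) * m ∈ (P : Subgroup G) := by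
      have := (Subgroup.mem_normalizer_iff.mp hminv (b : G)).mp b.2
      simpa using this
    have hcomm := hwcent _ hbm
    rw [haeq]
    calc m * (w0 : G) ^ i * m⁻¹ * (b : G)
        = m * ((w0 : G) ^ i * (m⁻¹ * (b : G) * m)) * m⁻¹ := by group
      _ = m * ((m⁻¹ * (b : G) * m) * (w0 : G) ^ i) * m⁻¹ := by rw [hcomm]
      _ = (b : G) * (m * (w0 : G) ^ i * m⁻¹) := by group
end Cfsg.Agent.S4024
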