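import Mathlib
import Cfsg.Statements.S4025
import Cfsg.Agent.Lib.Helper14.SAMain
-- import your own Cfsg.Agent.* helpers here

set_option autoImplicit false
open Cfsg

namespace Cfsg.Agent.S4025

/-- Let p be a prime and G a finite group in which any two p-subgroups of the same order are conjugate, and suppose a Sylow p-subgroup P of G is elementary abelian of order pⁿ with n ≥ 3. Let N be the normalizer of P and K the largest normal subgroup of N of order prime to p, and assume N/K is solvable. Then either n = 3 and N/K embeds in the one-dimensional semi-affine group over the field with p³ elements (and for p = 2 it is isomorphic to the affine or the semi-affine group over the field with 8 elements), or n = 5, p = 2 and N/K is isomorphic to the one-dimensional semi-affine group over the field with 32 elements. -/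
theorem result {G : Type*} [Group G] [Finite G]
    {p : ℕ} [Fact p.Prime] (hC : ∀ H K : Subgroup G, IsPGroup p H → IsPGroup p K → Nat.card H = Nat.card K →
      ∃ g : G, K = H.map (MulAut.conj g).toMonoidHom) (P : Sylow p G) (n : ℕ) (hn : 3 ≤ n)
    (hel : Cfsg.IsElementaryAbelian p (P : Subgroup G)) (hcard : Nat.card P = p ^ n)
    (N : Subgroup G) (hN : N = Subgroup.normalizer ((P : Subgroup G) : Set G))
    (hsolv : Group.IsSolvable (↥N ⧸ Cfsg.pPrimeCore p ↥N)) :
    (n = 3 ∧ (∃ f : ↥N ⧸ Cfsg.pPrimeCore p ↥N →* ↥(Cfsg.semiaffineGroup (GaloisField p 3)), Function.Injective f) ∧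
      (p = 2 → Nonempty (↥N ⧸ Cfsg.pPrimeCore p ↥N ≃* Cfsg.semiaffineGroup (GaloisField 2 3)) ∨
               Nonempty (↥N ⧸ Cfsg.pPrimeCore p ↥N ≃* Cfsg.affineGroup (GaloisField 2 3)))) ∨
    (n = 5 ∧ p = 2 ∧ Nonempty (↥N ⧸ Cfsg.pPrimeCore p ↥N ≃* Cfsg.semiaffineGroup (GaloisField 2 5))) := by
  classical
  have hp : p.Prime := Fact.out
  subst hN
  obtain ⟨V, iV1, iV2, iV3, ⟨L⟩⟩ := Cfsg.Agent.Helper14.SA.exists_link (p := p) (P : Subgroup G) hel
  obtain ⟨ρ, hρ⟩ := Cfsg.Agent.Helper14.SA.exists_rep (P : Subgroup G) L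
  have hpt := Cfsg.Agent.Helper14.SA.ptTrans_of_conj P hel hC L ρ hρ
  have hln := Cfsg.Agent.Helper14.SA.lnTrans_of_conj P hel hC L ρ hρ
  have hsolA := Cfsg.Agent.Helper14.SA.range_solvable P L ρ hρ hsolv
  have hV : Nat.card V = p ^ n := (Nat.card_congr L.ι).symm.trans hcard
  obtain ⟨F, iF, iFt, e, k, hsl, hkn, hcardB, hcase⟩ :=
    Cfsg.Agent.Helper14.SA.linear_main ρ.range hsolA hpt hln n hn hV
  have hslN : ∀ g : ↥(Subgroup.normalizer ((P : Subgroup G) : Set G)),
      ∃ (a : F) (σ : F ≃+* F), ∀ v : V, e (ρ g v) = a * σ (e v) :=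
    fun g => hsl (ρ g) ((le_sup_left : ρ.range ≤ _) ⟨g, rfl⟩)
  obtain ⟨f, hfinj, hfaff⟩ :=
    Cfsg.Agent.Helper14.SA.exists_embedding P hel.1 L ρ hρ F e hslN
  have hquot := Cfsg.Agent.Helper14.SA.card_quot P hel.1 L ρ hρ
  have hcardF : Fintype.card F = p ^ n := by
    rw [← Nat.card_eq_fintype_card, ← Nat.card_congr e.toEquiv, hV]
  have hn0 : n ≠ 0 := by omega
  haveI : Finite (GaloisField p n) := Nat.finite_of_card_ne_zero (by
    rw [GaloisField.card p n hn0]; exact pow_ne_zero _ hp.ne_zero)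
  letI : Fintype (GaloisField p n) := Fintype.ofFinite _
  have hcardG : Fintype.card F = Fintype.card (GaloisField p n) := by
    rw [hcardF, ← Nat.card_eq_fintype_card, GaloisField.card p n hn0]
  let φ : F ≃+* GaloisField p n := FiniteField.ringEquivOfCardEq hcardG
  obtain ⟨ψ⟩ := Cfsg.Agent.Helper14.SA.semiaffine_congr φ
  obtain ⟨ψa⟩ := Cfsg.Agent.Helper14.SA.affine_congr φ
  have hAut : Nat.card (F ≃+* F) = n :=
    Cfsg.Agent.Helper14.SA.card_ringAut (p := p) F n (by omega) hcardF
  have hsemi := Cfsg.Agent.Helper14.SA.card_semiaffine_le F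
  have haff := Cfsg.Agent.Helper14.SA.card_affine_le F
  rw [hAut, hcardF] at hsemi
  rw [hcardF] at haff
  have hbij : ∀ {X : Type} [Group X] [Finite X]
      (f₁ : (↥(Subgroup.normalizer ((P : Subgroup G) : Set G)) ⧸
        Cfsg.pPrimeCore p ↥(Subgroup.normalizer ((P : Subgroup G) : Set G))) →* X),
      Function.Injective f₁ →
      Nat.card X ≤ Nat.card (↥(Subgroup.normalizer ((P : Subgroup G) : Set G)) ⧸
        Cfsg.pPrimeCore p ↥(Subgroup.normalizer ((P : Subgroup G) : Set G))) →
      Nonempty ((↥(Subgroup.normalizer ((P : Subgroup G) : Set G)) ⧸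
        Cfsg.pPrimeCore p ↥(Subgroup.normalizer ((P : Subgroup G) : Set G))) ≃* X) := by
    intro X _ _ f₁ hinj hle
    exact ⟨MulEquiv.ofBijective f₁ (hinj.bijective_of_nat_card_le hle)⟩
  have hPc : Nat.card (P : Subgroup G) = p ^ n := hcard
  rcases hcase with h3 | ⟨h5, hp2, hk5⟩
  · subst h3
    left
    refine ⟨rfl, ⟨ψ.toMonoidHom.comp f, ψ.injective.comp hfinj⟩, ?_⟩
    intro hp2
    subst hp2
    have hAeq := Cfsg.Agent.Helper14.SA.addScalars_eq_of_two rfl ρ.range
    rw [hAeq] at hcardB
    have hk : k = 1 ∨ k = 3 := by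
      have := (Nat.dvd_prime (by norm_num : Nat.Prime 3)).1 hkn
      exact this
    rcases hk with hk | hk
    · right
      subst hk
      have hA7 : Nat.card ρ.range = 7 := by rw [hcardB]; norm_num
      have hcop : (Nat.card ρ.range).Coprime (Nat.card (F ≃+* F)) := by
        rw [hA7, hAut]; norm_num
      have htriv := Cfsg.Agent.Helper14.SA.sigma_trivial ρ.range F e
        (fun h hh => hsl h (by rw [hAeq]; exact hh)) hcop
      have hmem := hfaff (fun g => htriv (ρ g) ⟨g, rfl⟩)
      let f' : (↥(Subgroup.normalizer ((P : Subgroup G) : Set G)) ⧸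
          Cfsg.pPrimeCore 2 ↥(Subgroup.normalizer ((P : Subgroup G) : Set G))) →*
            ↥(Cfsg.affineGroup F) :=
        ((Cfsg.semiaffineGroup F).subtype.comp f).codRestrict (Cfsg.affineGroup F) hmem
      have hf'inj : Function.Injective f' := by
        intro x y hxy
        apply hfinj
        apply Subtype.ext
        have := congrArg (fun t : ↥(Cfsg.affineGroup F) => (t : Equiv.Perm F)) hxy
        exact this
      have hle : Nat.card ↥(Cfsg.affineGroup F) ≤
          Nat.card (↥(Subgroup.normalizer ((P : Subgroup G) : Set G)) ⧸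
            Cfsg.pPrimeCore 2 ↥(Subgroup.normalizer ((P : Subgroup G) : Set G))) := by
        rw [hquot, hPc, hA7]
        exact haff
      obtain ⟨e1⟩ := hbij f' hf'inj hle
      exact ⟨e1.trans ψa⟩
    · left
      subst hk
      have hA21 : Nat.card ρ.range = 21 := by rw [hcardB]; norm_num
      have hle : Nat.card ↥(Cfsg.semiaffineGroup F) ≤
          Nat.card (↥(Subgroup.normalizer ((P : Subgroup G) : Set G)) ⧸
            Cfsg.pPrimeCore 2 ↥(Subgroup.normalizer ((P : Subgroup G) : Set G))) := by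
        rw [hquot, hPc, hA21]
        exact hsemi
      obtain ⟨e1⟩ := hbij f hfinj hle
      exact ⟨e1.trans ψ⟩
  · subst h5
    subst hp2
    subst hk5
    right
    refine ⟨rfl, rfl, ?_⟩
    have hAeq := Cfsg.Agent.Helper14.SA.addScalars_eq_of_two rfl ρ.range
    rw [hAeq] at hcardB
    have hA : Nat.card ρ.range = 155 := by rw [hcardB]; norm_num
    have hle : Nat.card ↥(Cfsg.semiaffineGroup F) ≤
        Nat.card (↥(Subgroup.normalizer ((P : Subgroup G) : Set G)) ⧸
          Cfsg.pPrimeCore 2 ↥(Subgroup.normalizer ((P : Subgroup G) : Set G))) := by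
      rw [hquot, hPc, hA]
      exact hsemi
    obtain ⟨e1⟩ := hbij f hfinj hle
    exact ⟨e1.trans ψ⟩

end Cfsg.Agent.S4025
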