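import Mathlib
import Cfsg.Statements.S4027
import Cfsg.Agent.S0200
import Cfsg.Agent.Lib.Helper20.TwoClosed
import Cfsg.Agent.Lib.Helper20.OddLift
import Cfsg.Agent.Lib.Helper20.ConjComplement
import Cfsg.Agent.Lib.Helper20.ZpowersNormalizer

set_option autoImplicit false
open Cfsg

namespace Cfsg.Agent.S4027

universe u

/-- the hypothesis of the statement -/
def Irr (G : Type u) [Group G] : Prop :=
  ∀ x : G, (∀ r : ℕ, r.Prime → r ∣ orderOf x → r ≠ 2) →
    Subgroup.normalizer ((Subgroup.zpowers x : Subgroup G) : Set G) ≤ Subgroup.centralizer {x}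

theorem irr_involution (G : Type u) [Group G] [Finite G] (hirr : Irr G) (t : G)
    (ht : orderOf t = 2) : ∃ M : Subgroup G, M.Normal ∧ IsPGroup 2 M ∧ t ∈ M := by
  by_contra hcon
  push Not at hcon
  obtain ⟨h, hh1, hodd, hinv⟩ := Cfsg.Agent.S0200.result t ht hcon
  have hnorm : t ∈ Subgroup.normalizer ((Subgroup.zpowers h : Subgroup G) : Set G) := by
    rw [Helper20.mem_normalizer_zpowers_iff (orderOf_pos h), hinv]
    exact Subgroup.inv_mem _ (Subgroup.mem_zpowers h)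
  have hcent := hirr h ((Helper20.odd_iff_forall_prime_ne_two _).mpr hodd) hnorm
  rw [Subgroup.mem_centralizer_iff] at hcent
  have hc : h * t = t * h := hcent h rfl
  have h1 : h = h⁻¹ := by
    calc h = h * t * t⁻¹ := by group
      _ = t * h * t⁻¹ := by rw [hc]
      _ = h⁻¹ := hinv
  have h2 : h ^ 2 = 1 := by
    rw [pow_two]
    nth_rewrite 2 [h1]
    exact mul_inv_cancel h
  have h3 : orderOf h ∣ 2 := orderOf_dvd_of_pow_eq_one h2
  have h4 : orderOf h = 1 := by
    have := Nat.le_of_dvd two_pos h3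
    have hpos := orderOf_pos h
    rcases hodd with ⟨k, hk⟩
    omega
  exact hh1 (orderOf_eq_one_iff.mp h4)

theorem irr_quotient (G : Type u) [Group G] [Finite G] (hirr : Irr G) (N : Subgroup G)
    [hNn : N.Normal] (hN : IsPGroup 2 N) : Irr (G ⧸ N) := by
  have hp2 : Fact (Nat.Prime 2) := ⟨Nat.prime_two⟩
  intro xb hxb gb hgb
  have hxodd : Odd (orderOf xb) := (Helper20.odd_iff_forall_prime_ne_two _).mp hxb
  obtain ⟨x, hx, hxo⟩ := Helper20.exists_odd_lift (QuotientGroup.mk' N)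
    (QuotientGroup.mk'_surjective N) xb hxodd
  obtain ⟨g, rfl⟩ := QuotientGroup.mk_surjective gb
  have hx' : (x : G ⧸ N) = xb := hx
  set H : Subgroup G := Subgroup.zpowers x with hH
  have hHcard : ¬ 2 ∣ Nat.card H := by
    rw [Nat.card_zpowers]
    intro h2
    rw [← Nat.not_even_iff_odd, even_iff_two_dvd] at hxo
    exact hxo h2
  have hg : ∀ h ∈ H, g * h * g⁻¹ ∈ N ⊔ H := by
    intro h hh
    obtain ⟨i, rfl⟩ := Subgroup.mem_zpowers_iff.mp hh
    have h1 : ((g : G ⧸ N)) * xb ^ i * ((g : G ⧸ N))⁻¹ ∈ Subgroup.zpowers xb :=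
      (Subgroup.mem_normalizer_iff.mp hgb (xb ^ i)).mp (Subgroup.zpow_mem_zpowers xb i)
    obtain ⟨j, hj⟩ := Subgroup.mem_zpowers_iff.mp h1
    have h2 : ((g * x ^ i * g⁻¹ * (x ^ j)⁻¹ : G) : G ⧸ N) = 1 := by
      rw [QuotientGroup.mk_mul, QuotientGroup.mk_mul, QuotientGroup.mk_mul, QuotientGroup.mk_inv,
        QuotientGroup.mk_inv, QuotientGroup.mk_zpow, QuotientGroup.mk_zpow, hx', ← hj,
        mul_inv_cancel]
    rw [QuotientGroup.eq_one_iff] at h2
    have h3 : g * x ^ i * g⁻¹ = (g * x ^ i * g⁻¹ * (x ^ j)⁻¹) * x ^ j := by group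
    rw [h3]
    exact Subgroup.mul_mem_sup h2 (Subgroup.zpow_mem_zpowers x j)
  obtain ⟨u, hu, w, hw, rfl⟩ :=
    Helper20.exists_mul_mem_normalizer_of_conj_le 2 N hN H hHcard g hg
  have hwc := hirr x ((Helper20.odd_iff_forall_prime_ne_two _).mpr hxo) hw
  rw [Subgroup.mem_centralizer_iff] at hwc
  have hwx : x * w = w * x := hwc x rfl
  -- the image of u is a power of xb
  have hub : ∃ i : ℤ, ((u : G) : G ⧸ N) = xb ^ i := by
    have hu' : u ∈ ((N ⊔ H : Subgroup G) : Set G) := hu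
    rw [Subgroup.normal_mul] at hu'
    obtain ⟨n, hn, h, hh, rfl⟩ := Set.mem_mul.mp hu'
    obtain ⟨i, rfl⟩ := Subgroup.mem_zpowers_iff.mp hh
    refine ⟨i, ?_⟩
    rw [QuotientGroup.mk_mul, (QuotientGroup.eq_one_iff n).mpr hn, one_mul,
      QuotientGroup.mk_zpow, hx']
  obtain ⟨i, hi⟩ := hub
  rw [Subgroup.mem_centralizer_iff]
  intro y hy
  rw [Set.mem_singleton_iff] at hy
  rw [hy, QuotientGroup.mk_mul, hi]
  have hwb : xb * (w : G ⧸ N) = (w : G ⧸ N) * xb := by
    rw [← hx', ← QuotientGroup.mk_mul, ← QuotientGroup.mk_mul, hwx]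
  have hcomm : xb * xb ^ i = xb ^ i * xb := (Commute.refl xb).zpow_right i
  calc xb * (xb ^ i * (w : G ⧸ N)) = (xb * xb ^ i) * (w : G ⧸ N) := by group
    _ = xb ^ i * (xb * (w : G ⧸ N)) := by rw [hcomm]; group
    _ = xb ^ i * ((w : G ⧸ N) * xb) := by rw [hwb]
    _ = xb ^ i * (w : G ⧸ N) * xb := by group

/-- Let G be a finite group in which every element x of odd order satisfies N_G(⟨x⟩) = C_G(x). Then the Sylow 2-subgroups of G are normal. -/
theorem result {G : Type*} [Group G] [Finite G]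
    (hirr : ∀ x : G, (∀ r : ℕ, r.Prime → r ∣ orderOf x → r ≠ 2) →
      Subgroup.normalizer ((Subgroup.zpowers x : Subgroup G) : Set G) ≤ Subgroup.centralizer {x}) (P : Sylow 2 G) :
    (P : Subgroup G).Normal :=
  Helper20.sylow_two_normal_of_hereditary (fun G _ => Irr G) irr_involution
    (fun G _ _ h N _ hN => irr_quotient G h N hN) G hirr P

end Cfsg.Agent.S4027
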