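import Mathlib
import Cfsg.Statements.S4028
import Cfsg.Agent.Lib.Helper20.ZpowersNormalizer
import Cfsg.Agent.Lib.Helper20.PrimaryParts
import Cfsg.Agent.Lib.Helper20.SylowConj

set_option autoImplicit false
open Cfsg

namespace Cfsg.Agent.S4028

theorem totient_two_pow_dvd (k : ℕ) : Nat.totient (2 ^ k) ∣ 2 ^ k := by
  rcases Nat.eq_zero_or_pos k with rfl | hk
  · simp
  · rw [Nat.totient_prime_pow Nat.prime_two hk]
    simp only [Nat.add_one_sub_one, mul_one]
    exact pow_dvd_pow 2 (Nat.sub_le k 1)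

/-- Let G be a finite group with Sylow 2-subgroup P. Then N_G(⟨x⟩) = C_G(x) holds for every 2-element x of G if and only if N_P(⟨y⟩) = C_P(y) holds for every y ∈ P (computed inside P). -/
theorem result {G : Type*} [Group G] [Finite G] (P : Sylow 2 G) :
    (∀ x : G, (∀ r : ℕ, r.Prime → r ∣ orderOf x → r = 2) →
      Subgroup.normalizer ((Subgroup.zpowers x : Subgroup G) : Set G) ≤ Subgroup.centralizer {x}) ↔
    (∀ y : ↥(P : Subgroup G), Subgroup.normalizer ((Subgroup.zpowers y : Subgroup ↥(P : Subgroup G)) : Set ↥(P : Subgroup G)) ≤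
        Subgroup.centralizer {y}) := by
  have := Fact.mk Nat.prime_two
  constructor
  · intro h y w hw
    rw [Subgroup.mem_centralizer_singleton_iff]
    have h1 := (Helper20.mem_normalizer_zpowers_iff (orderOf_pos y) w).mp hw
    obtain ⟨i, hi⟩ := Subgroup.mem_zpowers_iff.mp h1
    have hi' : (y : G) ^ i = (w : G) * (y : G) * (w : G)⁻¹ := by
      have := congrArg Subtype.val hi
      simpa using this
    have h2 : (w : G) ∈ Subgroup.normalizer ((Subgroup.zpowers (y : G) : Subgroup G) : Set G) := by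
      rw [Helper20.mem_normalizer_zpowers_iff (orderOf_pos _)]
      rw [← hi']
      exact Subgroup.zpow_mem_zpowers _ i
    have h3 : ∀ r : ℕ, r.Prime → r ∣ orderOf (y : G) → r = 2 := by
      intro r hr hrd
      obtain ⟨k, hk⟩ := Helper20.exists_orderOf_eq_of_mem_isPGroup P.isPGroup' y.2
      rw [hk] at hrd
      exact (Nat.prime_dvd_prime_iff_eq hr Nat.prime_two).mp (hr.dvd_of_dvd_pow hrd)
    have h4 := h (y : G) h3 h2
    rw [Subgroup.mem_centralizer_singleton_iff] at h4
    exact Subtype.ext h4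
  · intro h x hx n hn
    rw [Subgroup.mem_centralizer_singleton_iff]
    -- order of x is a power of 2
    have hx2 : orderOf x = 2 ^ (orderOf x).primeFactorsList.length :=
      Nat.eq_prime_pow_of_unique_prime_dvd (orderOf_pos x).ne' (fun {d} hd hdd => hx d hd hdd)
    set k := (orderOf x).primeFactorsList.length with hk
    -- n ^ (2^k) commutes with x
    have hnk : n ^ (2 ^ k) * x = x * n ^ (2 ^ k) := by
      have h1 := Helper20.pow_totient_commute_of_mem_normalizer (orderOf_pos x) hn
      obtain ⟨c, hc⟩ := totient_two_pow_dvd k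
      rw [hx2] at h1
      have : n ^ (2 ^ k) = (n ^ (Nat.totient (2 ^ k))) ^ c := by rw [← pow_mul, ← hc]
      rw [this]
      exact (Commute.pow_left (show Commute (n ^ Nat.totient (2 ^ k)) x from h1) c).eq
    obtain ⟨u, v, hnuv, huv, ⟨a, hu⟩, hv, huz, hvz⟩ := Helper20.exists_pPart_decomp 2 n (orderOf_pos n)
    -- v commutes with x
    have hvx : v * x = x * v := by
      obtain ⟨z, hz⟩ := Subgroup.mem_zpowers_iff.mp hvz
      have h1 : Commute (v ^ (2 ^ k)) x := by
        have : v ^ (2 ^ k) = (n ^ (2 ^ k)) ^ z := by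
          rw [← hz, ← zpow_natCast, ← zpow_natCast, ← zpow_mul, ← zpow_mul, mul_comm]
        rw [this]
        exact Commute.zpow_left (show Commute (n ^ (2 ^ k)) x from hnk) z
      have hcop : Nat.Coprime (2 ^ k) (orderOf v) := Nat.Coprime.pow_left k hv.symm
      obtain ⟨α, β, hαβ⟩ : IsCoprime ((2 ^ k : ℕ) : ℤ) ((orderOf v : ℕ) : ℤ) :=
        Nat.isCoprime_iff_coprime.mpr hcop
      have hv1 : v = (v ^ (2 ^ k)) ^ α := by
        have h2 : v ^ (α * ((2 ^ k : ℕ) : ℤ) + β * (orderOf v : ℤ)) = v := by rw [hαβ, zpow_one]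
        rw [zpow_add, zpow_mul' v β, zpow_natCast v (orderOf v), pow_orderOf_eq_one, one_zpow,
          mul_one, mul_comm, zpow_mul, zpow_natCast] at h2
        exact h2.symm
      rw [hv1]
      exact (Commute.zpow_left h1 α).eq
    -- u normalizes ⟨x⟩
    have huN : u ∈ Subgroup.normalizer ((Subgroup.zpowers x : Subgroup G) : Set G) := by
      obtain ⟨z, hz⟩ := Subgroup.mem_zpowers_iff.mp huz
      rw [← hz]
      exact Subgroup.zpow_mem _ hn z
    have hux : u * x = x * u := by
      -- the 2-group ⟨x⟩ ⊔ ⟨u⟩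
      have hH : IsPGroup 2 (Subgroup.zpowers x) := Helper20.isPGroup_zpowers_of_orderOf hx2
      have hU : IsPGroup 2 (Subgroup.zpowers u) := Helper20.isPGroup_zpowers_of_orderOf hu
      have hK : IsPGroup 2 (Subgroup.zpowers x ⊔ Subgroup.zpowers u : Subgroup G) :=
        hH.to_sup_of_normal_left' hU (Subgroup.zpowers_le.mpr huN)
      obtain ⟨Q, hQ⟩ := hK.exists_le_sylow
      obtain ⟨g, hg⟩ := Helper20.exists_conj_sylow P Q
      have hxQ : x ∈ (Q : Subgroup G) := hQ ((le_sup_left : Subgroup.zpowers x ≤ _) (Subgroup.mem_zpowers x))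
      have huQ : u ∈ (Q : Subgroup G) := hQ ((le_sup_right : Subgroup.zpowers u ≤ _) (Subgroup.mem_zpowers u))
      have hxP := (hg x).mp hxQ
      have huP := (hg u).mp huQ
      set y : ↥(P : Subgroup G) := ⟨g⁻¹ * x * g, hxP⟩ with hy
      set w : ↥(P : Subgroup G) := ⟨g⁻¹ * u * g, huP⟩ with hw
      have hwN : w ∈ Subgroup.normalizer ((Subgroup.zpowers y : Subgroup ↥(P : Subgroup G)) : Set ↥(P : Subgroup G)) := by
        rw [Helper20.mem_normalizer_zpowers_iff (orderOf_pos y)]
        have h1 := (Helper20.mem_normalizer_zpowers_iff (orderOf_pos x) u).mp huN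
        obtain ⟨i, hi⟩ := Subgroup.mem_zpowers_iff.mp h1
        rw [Subgroup.mem_zpowers_iff]
        refine ⟨i, ?_⟩
        apply Subtype.ext
        simp only [Subgroup.coe_zpow, Subgroup.coe_mul, Subgroup.coe_inv, hy, hw]
        have e1 : (g⁻¹ * x * g) ^ i = g⁻¹ * x ^ i * g := by
          have := Helper20.conj_zpow g⁻¹ x i
          rw [inv_inv] at this
          exact this.symm
        rw [e1, hi]; group
      have h2 := h y hwN
      rw [Subgroup.mem_centralizer_singleton_iff] at h2
      have h3 := congrArg Subtype.val h2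
      simp only [Subgroup.coe_mul, hy, hw] at h3
      -- g⁻¹ u g g⁻¹ x g = g⁻¹ x g g⁻¹ u g
      calc u * x = g * ((g⁻¹ * u * g) * (g⁻¹ * x * g)) * g⁻¹ := by group
        _ = g * ((g⁻¹ * x * g) * (g⁻¹ * u * g)) * g⁻¹ := by rw [h3]
        _ = x * u := by group
    rw [hnuv]
    calc u * v * x = u * (v * x) := by group
      _ = u * (x * v) := by rw [hvx]
      _ = (u * x) * v := by group
      _ = (x * u) * v := by rw [hux]
      _ = x * (u * v) := by group

end Cfsg.Agent.S4028
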