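import Mathlib
import Cfsg.Statements.S4029
import Cfsg.Agent.Lib.Helper24.CharBrauerPerm
import Cfsg.Agent.Lib.Helper24.CharLinear
import Cfsg.Agent.Lib.Helper24.CharOrtho
import Cfsg.Agent.Lib.Helper21.PGroupFrattini
import Cfsg.Agent.Lib.Helper20.ZpowersNormalizer

set_option autoImplicit false
open Cfsg

namespace Cfsg.Agent.S4029

open Cfsg.Agent.Helper24 Cfsg.Agent.Helper20 Cfsg.Agent.Helper21
open scoped ComplexConjugate

universe u

/-- complex conjugation on irreducible characters -/
noncomputable def conjIrr {G : Type u} [Group G] [Finite G] (χ : IrrCharacter G) :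
    IrrCharacter G :=
  ⟨fun g => conj (χ.1 g), by
    have : Fintype G := Fintype.ofFinite G
    let _ : Fintype (IrrCharacter G) := irrFintype
    exact isIrrCharacter_conj χ.2⟩

/-- the number of real irreducible characters equals the number of real classes -/
theorem card_real_irr {G : Type u} [Group G] [Finite G] :
    Nat.card {χ : IrrCharacter G // conjIrr χ = χ} =
      Nat.card {c : ConjClasses G // ∀ g : G, ConjClasses.mk g = c → ConjClasses.mk g⁻¹ = c} := by
  have : Fintype G := Fintype.ofFinite G
  let _ : Fintype (IrrCharacter G) := irrFintype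
  refine brauer_permutation conjIrr (Equiv.inv G) ?_ ?_
  · intro a b hab
    rw [isConj_iff] at hab ⊢
    obtain ⟨c, hc⟩ := hab
    refine ⟨c, ?_⟩
    simp only [Equiv.inv_apply]
    rw [← hc]
    group
  · intro χ g
    change conj (χ.1 g⁻¹) = χ.1 g
    rw [irr_inv (isCharacter_of_isIrrCharacter χ.2), Complex.conj_conj]

/-- under the hypothesis, a real element has order at most two -/
theorem sq_eq_one_of_real {P : Type u} [Group P] [Finite P]
    (hirr : ∀ y : P, Subgroup.normalizer ((Subgroup.zpowers y : Subgroup P) : Set P) ≤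
      Subgroup.centralizer {y}) {g : P} (hg : IsConj g g⁻¹) : g * g = 1 := by
  rw [isConj_iff] at hg
  obtain ⟨x, hx⟩ := hg
  have h1 : x ∈ Subgroup.normalizer ((Subgroup.zpowers g : Subgroup P) : Set P) := by
    rw [mem_normalizer_zpowers_iff (orderOf_pos g), hx]
    exact Subgroup.inv_mem _ (Subgroup.mem_zpowers g)
  have h2 := hirr g h1
  rw [Subgroup.mem_centralizer_iff] at h2
  have h3 : g * x = x * g := h2 g rfl
  have h4 : g = g⁻¹ := by
    rw [← hx, ← h3]
    group
  calc g * g = g * g⁻¹ := by rw [← h4]
    _ = 1 := mul_inv_cancel g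

/-- the number of real classes is at most the number of classes of involutions plus one -/
theorem card_real_classes_le {P : Type u} [Group P] [Finite P]
    (hirr : ∀ y : P, Subgroup.normalizer ((Subgroup.zpowers y : Subgroup P) : Set P) ≤
      Subgroup.centralizer {y}) :
    Nat.card {c : ConjClasses P // ∀ g : P, ConjClasses.mk g = c → ConjClasses.mk g⁻¹ = c} ≤
      Nat.card {c : ConjClasses P // ∃ y : P, ConjClasses.mk y = c ∧ orderOf y = 2} + 1 := by
  classical
  rw [← Finite.card_option]
  let F : {c : ConjClasses P // ∀ g : P, ConjClasses.mk g = c → ConjClasses.mk g⁻¹ = c} →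
      Option {c : ConjClasses P // ∃ y : P, ConjClasses.mk y = c ∧ orderOf y = 2} := fun c =>
    if h : ∃ y : P, ConjClasses.mk y = c.1 ∧ orderOf y = 2 then some ⟨c.1, h⟩ else none
  have hF : ∀ c, F c = none → c.1 = ConjClasses.mk 1 := by
    intro c hc
    by_cases h : ∃ y : P, ConjClasses.mk y = c.1 ∧ orderOf y = 2
    · simp only [F, dif_pos h] at hc
      exact absurd hc (Option.some_ne_none _)
    · obtain ⟨g, hg⟩ := ConjClasses.mk_surjective c.1
      have h1 : IsConj g g⁻¹ := by
        rw [← ConjClasses.mk_eq_mk_iff_isConj, c.2 g hg, hg]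
      have h2 := sq_eq_one_of_real hirr h1
      by_cases hg1 : g = 1
      · rw [← hg, hg1]
      · exfalso
        apply h
        refine ⟨g, hg, ?_⟩
        apply orderOf_eq_prime
        · rw [pow_two]; exact h2
        · exact hg1
  apply Nat.card_le_card_of_injective F
  intro c d hcd
  apply Subtype.ext
  by_cases h : ∃ y : P, ConjClasses.mk y = c.1 ∧ orderOf y = 2
  · have hc : F c = some ⟨c.1, h⟩ := by simp only [F, dif_pos h]
    by_cases h' : ∃ y : P, ConjClasses.mk y = d.1 ∧ orderOf y = 2
    · have hd : F d = some ⟨d.1, h'⟩ := by simp only [F, dif_pos h']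
      rw [hc, hd] at hcd
      have := Option.some.inj hcd
      exact congrArg (fun z : {c : ConjClasses P // ∃ y : P, ConjClasses.mk y = c ∧ orderOf y = 2} =>
        z.1) this
    · have hd : F d = none := by simp only [F, dif_neg h']
      rw [hc, hd] at hcd
      exact absurd hcd (Option.some_ne_none _)
  · have hc : F c = none := by simp only [F, dif_neg h]
    have hd : F d = none := by rw [← hcd, hc]
    rw [hF c hc, hF d hd]

/-- the Frattini quotient of a `2`-group has at most as many elements as there are real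
irreducible characters -/
theorem card_frattini_quotient_le {P : Type u} [Group P] [Finite P] (hP : IsPGroup 2 P) :
    Nat.card (P ⧸ frattini P) ≤ Nat.card {χ : IrrCharacter P // conjIrr χ = χ} := by
  have : Fact (Nat.Prime 2) := ⟨Nat.prime_two⟩
  let _ : CommGroup (P ⧸ frattini P) :=
    { (inferInstance : Group (P ⧸ frattini P)) with
      mul_comm := by
        intro a b
        obtain ⟨x, rfl⟩ := QuotientGroup.mk_surjective a
        obtain ⟨y, rfl⟩ := QuotientGroup.mk_surjective b
        rw [← QuotientGroup.mk_mul, ← QuotientGroup.mk_mul, QuotientGroup.eq]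
        have h := commutator_mem_frattini_of_isPGroup hP y⁻¹ x⁻¹
        have h2 : (x * y)⁻¹ * (y * x) = y⁻¹ * x⁻¹ * y⁻¹⁻¹ * x⁻¹⁻¹ := by group
        rw [h2]
        exact h }
  have hsq : ∀ q : P ⧸ frattini P, q ^ 2 = 1 := by
    intro q
    obtain ⟨x, rfl⟩ := QuotientGroup.mk_surjective q
    rw [← QuotientGroup.mk_pow]
    exact (QuotientGroup.eq_one_iff _).mpr (pow_mem_frattini_of_isPGroup hP x)
  have : NeZero (Monoid.exponent (P ⧸ frattini P)) := ⟨Monoid.exponent_ne_zero_of_finite⟩
  obtain ⟨e⟩ := CommGroup.monoidHom_mulEquiv_of_hasEnoughRootsOfUnity (P ⧸ frattini P) ℂ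
  have h1 : Nat.card (P ⧸ frattini P) = Nat.card ((P ⧸ frattini P) →* ℂˣ) :=
    (Nat.card_congr e.toEquiv).symm
  rw [h1]
  have hreal : ∀ (ψ : (P ⧸ frattini P) →* ℂˣ) (q : P ⧸ frattini P),
      conj ((ψ q : ℂˣ) : ℂ) = ((ψ q : ℂˣ) : ℂ) := by
    intro ψ q
    have h2 : (ψ q) ^ 2 = 1 := by rw [← map_pow, hsq, map_one]
    have h3 : ((ψ q : ℂˣ) : ℂ) ^ 2 = 1 := by
      rw [← Units.val_pow_eq_pow_val, h2, Units.val_one]
    rcases sq_eq_one_iff.mp h3 with h | h
    · rw [h, map_one]
    · rw [h, map_neg, map_one]
  let Ψ : ((P ⧸ frattini P) →* ℂˣ) → {χ : IrrCharacter P // conjIrr χ = χ} := fun ψ =>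
    ⟨⟨fun g => (((ψ.comp (QuotientGroup.mk' (frattini P))) g : ℂˣ) : ℂ),
      isIrrCharacter_of_monoidHom (ψ.comp (QuotientGroup.mk' (frattini P)))⟩, by
      apply Subtype.ext
      funext g
      exact hreal ψ _⟩
  have : Finite (IrrCharacter P) := irr_finite'
  apply Nat.card_le_card_of_injective Ψ
  intro ψ₁ ψ₂ h
  have h2 := congrArg (fun z : {χ : IrrCharacter P // conjIrr χ = χ} => z.1.1) h
  ext q
  exact congrFun h2 q

/-- the involutions generate a subgroup with at least as many elements as there are classes of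
involutions, plus one -/
theorem card_classes_le_closure {P : Type u} [Group P] [Finite P] :
    Nat.card {c : ConjClasses P // ∃ y : P, ConjClasses.mk y = c ∧ orderOf y = 2} + 1 ≤
      Nat.card (Subgroup.closure {y : P | orderOf y = 2}) := by
  classical
  rw [← Finite.card_option]
  let F : Option {c : ConjClasses P // ∃ y : P, ConjClasses.mk y = c ∧ orderOf y = 2} →
      Subgroup.closure {y : P | orderOf y = 2} := fun o =>
    match o with
    | none => 1
    | some c => ⟨c.2.choose, Subgroup.subset_closure c.2.choose_spec.2⟩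
  apply Nat.card_le_card_of_injective F
  intro a b hab
  match a, b with
  | none, none => rfl
  | none, some c =>
    exfalso
    have h1 : (1 : P) = c.2.choose := congrArg Subtype.val hab
    have h2 := c.2.choose_spec.2
    rw [← h1, orderOf_one] at h2
    exact absurd h2 (by norm_num)
  | some c, none =>
    exfalso
    have h1 : c.2.choose = (1 : P) := congrArg Subtype.val hab
    have h2 := c.2.choose_spec.2
    rw [h1, orderOf_one] at h2
    exact absurd h2 (by norm_num)
  | some c, some d =>
    have h1 : c.2.choose = d.2.choose := congrArg Subtype.val hab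
    have h2 := c.2.choose_spec.1
    have h3 := d.2.choose_spec.1
    congr 1
    apply Subtype.ext
    rw [← h2, ← h3, h1]

/-- Let P be a finite 2-group in which N_P(⟨y⟩) = C_P(y) for every y ∈ P. If s is the number of conjugacy classes of involutions of P, then #(P/Φ(P)) ≤ s + 1; in particular the subgroup generated by the involutions of P has order at least #(P/Φ(P)). -/
theorem result {P : Type*} [Group P] [Finite P] (hP : IsPGroup 2 P)
    (hirr : ∀ y : P, Subgroup.normalizer ((Subgroup.zpowers y : Subgroup P) : Set P) ≤ Subgroup.centralizer {y}) :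
    Nat.card (P ⧸ frattini P) ≤ Nat.card {c : ConjClasses P // ∃ y : P, ConjClasses.mk y = c ∧ orderOf y = 2} + 1 ∧
    Nat.card (P ⧸ frattini P) ≤ Nat.card (Subgroup.closure {y : P | orderOf y = 2}) := by
  have h1 : Nat.card (P ⧸ frattini P) ≤
      Nat.card {c : ConjClasses P // ∃ y : P, ConjClasses.mk y = c ∧ orderOf y = 2} + 1 := by
    refine (card_frattini_quotient_le hP).trans ?_
    rw [card_real_irr]
    exact card_real_classes_le hirr
  exact ⟨h1, h1.trans card_classes_le_closure⟩

end Cfsg.Agent.S4029
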