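import Mathlib
import Cfsg.Statements.S4032
import Cfsg.Agent.Lib.Helper20.SylowConj3
import Cfsg.Agent.Lib.Helper20.PrimaryParts
import Cfsg.Agent.Lib.Helper20.ZpowersNormalizer

set_option autoImplicit false
open Cfsg

namespace Cfsg.Agent.S4032

/-- the prime power case -/
theorem primePowerCase {G : Type*} [Group G] [Finite G] (π : Set ℕ)
    (hirr : ∀ x : G, (∀ r : ℕ, r.Prime → r ∣ orderOf x → r ∈ π) →
      Subgroup.normalizer ((Subgroup.zpowers x : Subgroup G) : Set G) ≤ Subgroup.centralizer {x})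
    (N : Subgroup G) [N.Normal] (hN : ∀ r : ℕ, r.Prime → r ∣ Nat.card N → r ∉ π)
    (p : ℕ) [Fact p.Prime] (hp : p ∈ π) (y : G ⧸ N) (hy : ∃ k : ℕ, orderOf y = p ^ k) :
    Subgroup.normalizer ((Subgroup.zpowers y : Subgroup (G ⧸ N)) : Set (G ⧸ N))
      ≤ Subgroup.centralizer {y} := by
  have hpp : p.Prime := Fact.out
  obtain ⟨k, hk⟩ := hy
  -- lift y to a p-element x
  obtain ⟨x0, rfl⟩ := QuotientGroup.mk_surjective y
  obtain ⟨u0, v0, hx0, -, ⟨j, hj⟩, hv0, hu0z, hv0z⟩ :=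
    Helper20.exists_pPart_decomp p x0 (orderOf_pos x0)
  have hv1 : ((v0 : G) : G ⧸ N) = 1 := by
    rw [← orderOf_eq_one_iff]
    have h1 : orderOf ((v0 : G) : G ⧸ N) ∣ orderOf v0 :=
      orderOf_map_dvd (QuotientGroup.mk' N) v0
    have h2 : orderOf ((v0 : G) : G ⧸ N) ∣ p ^ k := by
      rw [← hk]
      obtain ⟨i, hi⟩ := Subgroup.mem_zpowers_iff.mp hv0z
      rw [← hi, QuotientGroup.mk_zpow]
      exact orderOf_dvd_of_pow_eq_one (by
        rw [← zpow_natCast, ← zpow_mul, mul_comm, zpow_mul, zpow_natCast, pow_orderOf_eq_one,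
          one_zpow])
    have h3 : (orderOf ((v0 : G) : G ⧸ N)).Coprime (p ^ k) :=
      Nat.Coprime.coprime_dvd_left h1 (Nat.Coprime.pow_right k hv0)
    exact Nat.eq_one_of_dvd_coprimes h3 (dvd_refl _) h2
  have hyx : ((x0 : G) : G ⧸ N) = ((u0 : G) : G ⧸ N) := by
    rw [hx0, QuotientGroup.mk_mul, hv1, mul_one]
  rw [hyx]
  -- now x = u0
  have hxπ : ∀ r : ℕ, r.Prime → r ∣ orderOf u0 → r ∈ π := by
    intro r hr hdvd
    rw [hj] at hdvd
    have := (Nat.prime_dvd_prime_iff_eq hr hpp).mp (hr.dvd_of_dvd_pow hdvd)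
    rw [this]; exact hp
  have hpN : ¬ p ∣ Nat.card N := fun hd => hN p hpp hd hp
  intro mbar hm
  obtain ⟨m, rfl⟩ := QuotientGroup.mk_surjective mbar
  have hyfin : 0 < orderOf ((u0 : G) : G ⧸ N) := orderOf_pos _
  have hm1 := (Helper20.mem_normalizer_zpowers_iff hyfin _).mp hm
  obtain ⟨i, hi⟩ := Subgroup.mem_zpowers_iff.mp hm1
  -- c = m u0 m⁻¹ = u0^i * n0
  have hn0 : (u0 ^ i)⁻¹ * (m * u0 * m⁻¹) ∈ N := by
    rw [← QuotientGroup.eq]
    rw [QuotientGroup.mk_zpow, hi]
    simp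
  set c := m * u0 * m⁻¹ with hc
  set n0 := (u0 ^ i)⁻¹ * c with hn0def
  have hcn : c = u0 ^ i * n0 := by rw [hn0def]; group
  have hcord : orderOf c = p ^ j := by
    rw [hc, ← hj]
    have := MulEquiv.orderOf_eq (MulAut.conj m) u0
    rw [MulAut.conj_apply] at this
    exact this
  -- Sylow containing u0
  have hupg : IsPGroup p (Subgroup.zpowers u0) := Helper20.isPGroup_zpowers_of_orderOf hj
  obtain ⟨P, hP⟩ := hupg.exists_le_sylow
  have huP : u0 ∈ (P : Subgroup G) := hP (Subgroup.mem_zpowers u0)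
  have huiP : u0 ^ i ∈ (P : Subgroup G) := Subgroup.zpow_mem _ huP i
  have hcK : c ∈ N ⊔ (P : Subgroup G) := by
    rw [hcn]
    exact Subgroup.mul_mem _ (Subgroup.mem_sup_right huiP) (Subgroup.mem_sup_left hn0)
  obtain ⟨n1, hn1, hn1c⟩ :=
    Helper20.exists_conj_mem_sylow_of_mem_sup_normal P N hcK ⟨j, hcord⟩
  -- n1⁻¹ c n1 = u0^i * n2
  set n2 := (u0 ^ i)⁻¹ * (n1⁻¹ * c * n1) with hn2def
  have hn2N : n2 ∈ N := by
    rw [hn2def, hcn]
    have e : (u0 ^ i)⁻¹ * (n1⁻¹ * (u0 ^ i * n0) * n1)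
        = ((u0 ^ i)⁻¹ * n1⁻¹ * ((u0 ^ i)⁻¹)⁻¹) * (n0 * n1) := by group
    rw [e]
    exact N.mul_mem (Subgroup.Normal.conj_mem inferInstance _ (N.inv_mem hn1) _)
      (N.mul_mem hn0 hn1)
  have hn2P : n2 ∈ (P : Subgroup G) :=
    Subgroup.mul_mem _ (Subgroup.inv_mem _ huiP) hn1c
  have hn2one : n2 = 1 := by
    obtain ⟨l, hl⟩ := Helper20.exists_orderOf_eq_of_mem_isPGroup P.isPGroup' hn2P
    exact Helper20.eq_one_of_mem_of_orderOf_pow N hpN hn2N ⟨l, hl⟩
  have hconj : (n1⁻¹ * m) * u0 * (n1⁻¹ * m)⁻¹ = u0 ^ i := by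
    have e : (n1⁻¹ * m) * u0 * (n1⁻¹ * m)⁻¹ = u0 ^ i * n2 := by
      rw [hn2def, hc]; group
    rw [e, hn2one, mul_one]
  have hnorm : n1⁻¹ * m ∈ Subgroup.normalizer ((Subgroup.zpowers u0 : Subgroup G) : Set G) := by
    rw [Helper20.mem_normalizer_zpowers_iff (orderOf_pos u0)]
    rw [hconj]
    exact Subgroup.zpow_mem_zpowers u0 i
  have hcent := hirr u0 hxπ hnorm
  rw [Subgroup.mem_centralizer_singleton_iff] at hcent
  rw [Subgroup.mem_centralizer_singleton_iff]
  have hmk : ((n1⁻¹ * m : G) : G ⧸ N) = ((m : G) : G ⧸ N) := by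
    rw [QuotientGroup.mk_mul, QuotientGroup.mk_inv, (QuotientGroup.eq_one_iff n1).mpr hn1]
    simp
  have h5 : ((n1⁻¹ * m * u0 : G) : G ⧸ N) = ((u0 * (n1⁻¹ * m) : G) : G ⧸ N) := by rw [hcent]
  rw [QuotientGroup.mk_mul, hmk] at h5
  rw [h5, QuotientGroup.mk_mul, hmk]

/-- Let π be a set of primes and G a finite group in which N_G(⟨x⟩) = C_G(x) for every π-element x. If N is a normal subgroup of G whose order is divisible by no prime of π, then G/N has the same property: N_{G/N}(⟨y⟩) = C_{G/N}(y) for every π-element y of G/N. -/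
theorem result {G : Type*} [Group G] [Finite G] (π : Set ℕ)
    (hirr : ∀ x : G, (∀ r : ℕ, r.Prime → r ∣ orderOf x → r ∈ π) →
      Subgroup.normalizer ((Subgroup.zpowers x : Subgroup G) : Set G) ≤ Subgroup.centralizer {x})
    (N : Subgroup G) [N.Normal] (hN : ∀ r : ℕ, r.Prime → r ∣ Nat.card N → r ∉ π) :
    ∀ y : G ⧸ N, (∀ r : ℕ, r.Prime → r ∣ orderOf y → r ∈ π) →
      Subgroup.normalizer ((Subgroup.zpowers y : Subgroup (G ⧸ N)) : Set (G ⧸ N)) ≤ Subgroup.centralizer {y} := by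
  have key : ∀ n : ℕ, ∀ y : G ⧸ N, orderOf y = n → (∀ r : ℕ, r.Prime → r ∣ orderOf y → r ∈ π) →
      Subgroup.normalizer ((Subgroup.zpowers y : Subgroup (G ⧸ N)) : Set (G ⧸ N))
        ≤ Subgroup.centralizer {y} := by
    intro n
    induction n using Nat.strong_induction_on with
    | _ n ih =>
      intro y hyn hyπ
      by_cases h1 : orderOf y = 1
      · rw [orderOf_eq_one_iff] at h1
        intro m _
        rw [Subgroup.mem_centralizer_singleton_iff, h1]
        simp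
      · -- pick a prime p dividing the order
        obtain ⟨p, hpp, hpd⟩ := Nat.exists_prime_and_dvd h1
        have : Fact p.Prime := ⟨hpp⟩
        have hpπ : p ∈ π := hyπ p hpp hpd
        obtain ⟨u, v, hyuv, hcomm, hu, hv, huz, hvz⟩ :=
          Helper20.exists_pPart_decomp p y (orderOf_pos y)
        have hQu := primePowerCase π hirr N hN p hpπ u hu
        have hvdvd : orderOf v ∣ orderOf y := by
          obtain ⟨i, hi⟩ := Subgroup.mem_zpowers_iff.mp hvz
          rw [← hi]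
          exact orderOf_dvd_of_pow_eq_one (by
            rw [← zpow_natCast, ← zpow_mul, mul_comm, zpow_mul, zpow_natCast, pow_orderOf_eq_one,
              one_zpow])
        have hvlt : orderOf v < n := by
          rw [← hyn]
          apply lt_of_le_of_ne (Nat.le_of_dvd (orderOf_pos y) hvdvd)
          intro heq
          rw [heq] at hv
          have : p ∣ 1 := by
            have := Nat.dvd_gcd hpd (dvd_refl p)
            rwa [hv] at this
          exact hpp.one_lt.ne' (Nat.dvd_one.mp this)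
        have hQv := ih (orderOf v) hvlt v rfl (fun r hr hd => hyπ r hr (hd.trans hvdvd))
        intro m hm
        have hm1 := (Helper20.mem_normalizer_zpowers_iff (orderOf_pos y) m).mp hm
        obtain ⟨t, ht⟩ := Subgroup.mem_zpowers_iff.mp hm1
        -- m normalizes ⟨u⟩ and ⟨v⟩
        have hpow : ∀ w : G ⧸ N, w ∈ Subgroup.zpowers y →
            m ∈ Subgroup.normalizer ((Subgroup.zpowers w : Subgroup (G ⧸ N)) : Set (G ⧸ N)) := by
          intro w hw
          rw [Helper20.mem_normalizer_zpowers_iff (orderOf_pos w)]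
          obtain ⟨a, ha⟩ := Subgroup.mem_zpowers_iff.mp hw
          rw [← ha, Helper20.conj_zpow, ← ht, ← zpow_mul, mul_comm, zpow_mul]
          exact Subgroup.zpow_mem_zpowers _ t
        have hmu := hQu (hpow u huz)
        have hmv := hQv (hpow v hvz)
        rw [Subgroup.mem_centralizer_singleton_iff] at hmu hmv ⊢
        rw [hyuv, ← mul_assoc, hmu, mul_assoc, hmv, mul_assoc]
  intro y hy
  exact key (orderOf y) y rfl hy

end Cfsg.Agent.S4032
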