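import Mathlib
import Cfsg.Statements.S4036

set_option autoImplicit false
open Cfsg

namespace Cfsg.Agent.S4036

/-- Let P be a finite abelian p-group and K a group of automorphisms of P (a subgroup of Aut P) whose order is divisible by p. If all non-identity elements of K have the same fixed-point subgroup on P, then K has no non-trivial normal subgroup of order prime to p. -/
theorem result {P : Type*} [CommGroup P] [Finite P] {p : ℕ}
    [Fact p.Prime] (hP : IsPGroup p P) (K : Subgroup (MulAut P)) (hK : p ∣ Nat.card K)
    (hfix : ∀ x y : MulAut P, x ∈ K → y ∈ K → x ≠ 1 → y ≠ 1 → ∀ v : P, x v = v ↔ y v = v) :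
    ∀ N : Subgroup ↥K, N.Normal → ¬ p ∣ Nat.card N → N = ⊥ := by
  classical
  intro N hNn hpN
  have hp : p.Prime := Fact.out
  by_contra hNbot
  obtain ⟨n₀, hn₀1⟩ := (Subgroup.ne_bot_iff_exists_ne_one).mp hNbot
  have : Fintype N := Fintype.ofFinite N
  -- the automorphism attached to an element of N
  let act : N → MulAut P := fun n => ((n : K) : MulAut P)
  have hact_mul : ∀ a b : N, act (a * b) = act a * act b := fun a b => rfl
  have hactK : ∀ n : N, act n ∈ K := fun n => (n : K).2
  have hact_ne : ∀ n : N, n ≠ 1 → act n ≠ 1 := by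
    intro n hn h
    apply hn
    apply Subtype.ext
    apply Subtype.ext
    exact h
  -- element of order p in K
  obtain ⟨x₀, hx₀⟩ := exists_prime_orderOf_dvd_card' (G := K) p hK
  set x : MulAut P := (x₀ : MulAut P) with hx
  have hxK : x ∈ K := x₀.2
  have hxo : orderOf x = p := by rw [hx, Subgroup.orderOf_coe]; exact hx₀
  have hx1 : x ≠ 1 := by
    intro h
    rw [h, orderOf_one] at hxo
    exact hp.one_lt.ne hxo
  -- the norm map
  let e : P →* P := ∏ n : N, ((act n : P ≃* P) : P →* P)
  have he : ∀ v : P, e v = ∏ n : N, act n v := by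
    intro v
    simp only [e, MonoidHom.finsetProd_apply]
    rfl
  -- e v is fixed by N
  have he_fixed : ∀ (m : N) (v : P), act m (e v) = e v := by
    intro m v
    rw [he, map_prod]
    have : ∀ n : N, act m (act n v) = act (m * n) v := fun n => rfl
    simp only [this]
    exact Fintype.prod_bijective (fun n => m * n) (Group.mulLeft_bijective m) _ _ (fun _ => rfl)
  -- x commutes with e
  have he_x : ∀ v : P, x (e v) = e (x v) := by
    intro v
    rw [he, he, map_prod]
    -- conjugation by x₀ permutes N
    let c : N ≃ N := (MulAut.conjNormal x₀ : N ≃* N).toEquiv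
    have hc : ∀ n : N, x (act n v) = act (c n) (x v) := by
      intro n
      have h1 : act (c n) = x * act n * x⁻¹ := by
        change (((MulAut.conjNormal x₀ n : N) : K) : MulAut P) = _
        rw [MulAut.conjNormal_apply]
        rfl
      rw [h1]
      simp
    simp only [hc]
    exact Fintype.prod_equiv c _ _ (fun _ => rfl)
  -- on elements fixed by N, e is the |N|-th power
  have he_pow : ∀ v : P, (∀ n : N, act n v = v) → e v = v ^ Nat.card N := by
    intro v hv
    rw [he]
    simp only [hv]
    rw [Finset.prod_const, Finset.card_univ, Nat.card_eq_fintype_card]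
  -- fixed points of x = fixed points of any nonidentity element of N
  have hfixN : ∀ v : P, x v = v → ∀ n : N, act n v = v := by
    intro v hv n
    by_cases hn : n = 1
    · rw [hn]; rfl
    · exact (hfix x (act n) hxK (hactK n) hx1 (hact_ne n hn) v).mp hv
  -- the kernel of e has only the trivial fixed point of x
  have hker_fix : ∀ v : P, e v = 1 → x v = v → v = 1 := by
    intro v hev hxv
    have h1 := he_pow v (hfixN v hxv)
    rw [hev] at h1
    obtain ⟨k, hk⟩ := hP v
    have hcop : Nat.Coprime (Nat.card N) (p ^ k) :=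
      Nat.Coprime.pow_right k ((Nat.Prime.coprime_iff_not_dvd hp).mpr hpN).symm
    have h2 : orderOf v ∣ Nat.card N := orderOf_dvd_of_pow_eq_one h1.symm
    have h3 : orderOf v ∣ p ^ k := orderOf_dvd_of_pow_eq_one hk
    have h4 : orderOf v = 1 := Nat.eq_one_of_dvd_coprimes hcop h2 h3
    exact orderOf_eq_one_iff.mp h4
  -- count fixed points of x on ker e
  have : Fintype e.ker := Fintype.ofFinite _
  let f : Function.End e.ker := fun w => ⟨x w, by
    rw [MonoidHom.mem_ker, ← he_x, (MonoidHom.mem_ker).mp w.2, map_one]⟩
  have hfpow : ∀ (k : ℕ) (w : e.ker), (((f ^ k) w : e.ker) : P) = (x ^ k) w := by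
    intro k
    induction k with
    | zero => intro w; rfl
    | succ k ih =>
      intro w
      rw [pow_succ', pow_succ']
      change ((f ((f ^ k) w) : e.ker) : P) = x ((x ^ k) w)
      rw [← ih]
  have hf : f ^ p ^ 1 = 1 := by
    funext w
    apply Subtype.ext
    rw [pow_one, hfpow, ← hxo, pow_orderOf_eq_one]
    rfl
  have hmod := Equiv.Perm.card_fixedPoints_modEq (p := p) (n := 1) hf
  have hfp : Fintype.card (Function.fixedPoints f) = 1 := by
    rw [Fintype.card_eq_one_iff]
    refine ⟨⟨1, ?_⟩, ?_⟩
    · change f 1 = 1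
      apply Subtype.ext
      change x 1 = 1
      exact map_one x
    · rintro ⟨w, hw⟩
      apply Subtype.ext
      apply Subtype.ext
      have hw' : f w = w := hw
      have h1 : x (w : P) = w := congrArg Subtype.val hw'
      have := hker_fix w ((MonoidHom.mem_ker).mp w.2) h1
      exact this
  rw [hfp] at hmod
  -- so ker e is trivial
  have hker_card : Nat.card e.ker = 1 := by
    obtain ⟨j, hj⟩ := IsPGroup.iff_card.mp (hP.to_subgroup e.ker)
    rw [← Nat.card_eq_fintype_card, hj] at hmod
    rcases Nat.eq_zero_or_pos j with rfl | hjpos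
    · rw [hj, pow_zero]
    · exfalso
      have h0 : p ^ j ≡ 0 [MOD p] := (Nat.modEq_zero_iff_dvd).mpr (dvd_pow_self p hjpos.ne')
      have h1 : (0 : ℕ) ≡ 1 [MOD p] := h0.symm.trans hmod
      have h2 := (Nat.modEq_zero_iff_dvd).mp h1.symm
      exact hp.one_lt.ne' (Nat.dvd_one.mp h2)
  have hker : e.ker = ⊥ := Subgroup.card_eq_one.mp hker_card
  have hinj : Function.Injective e := (MonoidHom.ker_eq_bot_iff e).mp hker
  -- so every element is of the form e v, hence fixed by n₀
  have hsurj : Function.Surjective e := Finite.surjective_of_injective hinj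
  apply hact_ne n₀ hn₀1
  ext v
  obtain ⟨w, rfl⟩ := hsurj v
  rw [he_fixed]
  rfl

end Cfsg.Agent.S4036
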