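import Mathlib
import Cfsg.Statements.S4341
import Cfsg.Agent.Lib.Helper21.SylowCount

set_option autoImplicit false
open Cfsg

namespace Cfsg.Agent.S4341

open Subgroup Cfsg.Agent.Helper21

/-- Let K be a normal subgroup of a finite group G, p a prime and P a Sylow p-subgroup of G; let N be the normalizer of P ∩ K inside the subgroup PK. Then the number of Sylow p-subgroups of G equals the product of the numbers of Sylow p-subgroups of G/K, of K, and of N/(P ∩ K). (The normality of P ∩ K in N, which always holds, is assumed as a hypothesis so that the quotient can be formed.) -/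
theorem result {G : Type*} [Group G] [Finite G]
    (p : ℕ) [Fact p.Prime] (K : Subgroup G) [K.Normal] (P : Sylow p G) (N : Subgroup G)
    (hN : N = ((P : Subgroup G) ⊔ K) ⊓ Subgroup.normalizer (((P : Subgroup G) ⊓ K : Subgroup G) : Set G))
    [hn : (((P : Subgroup G) ⊓ K).subgroupOf N).Normal] :
    Nat.card (Sylow p G) =
      Nat.card (Sylow p (G ⧸ K)) * Nat.card (Sylow p K) * Nat.card (Sylow p (N ⧸ ((P : Subgroup G) ⊓ K).subgroupOf N)) := by
  set A := normalizer ((P : Subgroup G) : Set G) with hA
  set B := normalizer (((P : Subgroup G) ⊓ K : Subgroup G) : Set G) with hB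
  have hKn : ∀ (g x : G), x ∈ K → g * x * g⁻¹ ∈ K := fun g x hx =>
    Normal.conj_mem inferInstance x hx g
  have hAB : A ≤ B := by
    intro g hg
    apply mem_normalizer_fintype
    intro x hx
    exact ⟨(mem_normalizer_iff.mp hg x).mp hx.1, hKn g x hx.2⟩
  have hPA : (P : Subgroup G) ≤ A := le_normalizer
  have hPB : (P : Subgroup G) ≤ B := hPA.trans hAB
  have hPN : (P : Subgroup G) ≤ N := by
    rw [hN]
    exact le_inf le_sup_left hPB
  -- Step 1–4
  have h1 : Nat.card (Sylow p G) = A.index := Sylow.card_eq_index_normalizer P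
  have h2 : Nat.card (Sylow p (G ⧸ K)) = (K ⊔ A).index := card_sylow_quotient P K
  have h3 : Nat.card (Sylow p K) = B.relIndex K := card_sylow_normal P K
  have h4 : Nat.card (Sylow p (N ⧸ ((P : Subgroup G) ⊓ K).subgroupOf N)) = A.relIndex N := by
    have hR : ((P : Subgroup G) ⊓ K).subgroupOf N ≤ ((P.subtype hPN : Sylow p N) : Subgroup N) := by
      rw [Sylow.coe_subtype]
      intro x hx
      exact (mem_subgroupOf.mp hx).1
    rw [card_sylow_quotient_of_le (P.subtype hPN) _ hR,
      Sylow.card_eq_index_normalizer (P.subtype hPN)]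
    show (normalizer (((P.subtype hPN : Sylow p N) : Subgroup N) : Set N)).index = _
    rw [Sylow.coe_subtype, ← subgroupOf_normalizer_eq hPN]
    rfl
  rw [h1, h2, h3, h4]
  -- Step 5: index arithmetic
  set X := A ⊓ N with hX
  set F := B ⊓ K with hF
  have hFN : F ≤ N := by
    rw [hN]
    exact le_inf (inf_le_right.trans le_sup_right) inf_le_left
  have hXF : X ⊓ F = A ⊓ K := by
    apply le_antisymm
    · exact le_inf (inf_le_left.trans inf_le_left) (inf_le_right.trans inf_le_right)
    · have hAK : A ⊓ K ≤ F := le_inf (inf_le_left.trans hAB) inf_le_right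
      exact le_inf (le_inf inf_le_left (hAK.trans hFN)) hAK
  have hsup : X ⊔ F = N := by
    apply le_antisymm (sup_le inf_le_right hFN)
    intro x hx
    have hx' := hx
    rw [hN] at hx'
    obtain ⟨hx1, hx2⟩ := hx'
    replace hx1 : x ∈ (P : Subgroup G) ⊔ K := hx1
    replace hx2 : x ∈ B := hx2
    rw [mem_sup_of_normal_right] at hx1
    obtain ⟨y, hy, z, hz, rfl⟩ := hx1
    have hzB : z ∈ B := by
      have : z = y⁻¹ * (y * z) := by group
      rw [this]
      exact B.mul_mem (B.inv_mem (hPB hy)) hx2
    exact mul_mem (mem_sup_left ⟨hPA hy, hPN hy⟩) (mem_sup_right ⟨hzB, hz⟩)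
  have hXnorm : X ≤ normalizer (F : Set G) := by
    intro g hg
    have hgB : g ∈ B := hAB hg.1
    apply mem_normalizer_fintype
    intro x hx
    exact ⟨B.mul_mem (B.mul_mem hgB hx.1) (B.inv_mem hgB), hKn g x hx.2⟩
  have e1 : A.relIndex N = (A ⊓ K).relIndex F := by
    calc A.relIndex N = X.relIndex N := (inf_relIndex_right A N).symm
      _ = X.relIndex (X ⊔ F) := by rw [hsup]
      _ = X.relIndex F := relIndex_sup_eq_of_le_normalizer X F hXnorm
      _ = (X ⊓ F).relIndex F := (inf_relIndex_right X F).symm
      _ = (A ⊓ K).relIndex F := by rw [hXF]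
  have e2 : A.index = A.relIndex (K ⊔ A) * (K ⊔ A).index :=
    (relIndex_mul_index le_sup_right).symm
  have e3 : A.relIndex (K ⊔ A) = A.relIndex K := by
    rw [sup_comm]
    exact relIndex_sup_eq_of_normal A K
  have e4 : A.relIndex K = (A ⊓ K).relIndex F * B.relIndex K := by
    rw [← inf_relIndex_right A K, ← inf_relIndex_right B K]
    exact (relIndex_mul_relIndex (A ⊓ K) F K (le_inf (inf_le_left.trans hAB) inf_le_right)
      inf_le_right).symm
  rw [e2, e3, e4, e1]
  ring

end Cfsg.Agent.S4341
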