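import Mathlib
import Cfsg.Statements.S4303
import Cfsg.Agent.Lib.Helper21.SylowCount
import Cfsg.Agent.Lib.Helper21.FittingSubgroup
import Cfsg.Agent.S4341
import Cfsg.Agent.S0025

set_option autoImplicit false
set_option linter.style.haveILetI false
open Cfsg

namespace Cfsg.Agent.S4303

open Subgroup Cfsg.Agent.Helper21

universe u

/-- If a `p`-subgroup `P` normalizes a finite subgroup `Q`, then `|Q| ≡ |C_Q(P)|` mod `p`. -/
theorem card_modEq_card_inf_centralizer {G : Type*} [Group G] {p : ℕ} [Fact p.Prime]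
    (P Q : Subgroup G) [Finite Q] (hP : IsPGroup p P) (hPQ : P ≤ normalizer (Q : Set G)) :
    Nat.card Q ≡ Nat.card (Q ⊓ centralizer (P : Set G) : Subgroup G) [MOD p] := by
  have hP1 : IsPGroup p (P.subgroupOf (normalizer (Q : Set G))) := hP.comap_subtype
  have h := hP1.card_modEq_card_fixedPoints Q
  have h2 : Nat.card (MulAction.fixedPoints (P.subgroupOf (normalizer (Q : Set G))) Q) =
      Nat.card (Q ⊓ centralizer (P : Set G) : Subgroup G) := by
    refine Nat.card_congr ⟨fun y => ⟨((y : Q) : G), ⟨(y : Q).2, ?_⟩⟩,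
      fun z => ⟨⟨(z : G), z.2.1⟩, ?_⟩, ?_, ?_⟩
    · refine mem_centralizer_iff.mpr ?_
      intro x hx
      have hy := y.2
      rw [MulAction.mem_fixedPoints] at hy
      have := hy ⟨⟨x, hPQ hx⟩, hx⟩
      have h3 : x * ((y : Q) : G) * x⁻¹ = ((y : Q) : G) := congrArg Subtype.val this
      calc x * ((y : Q) : G) = (x * ((y : Q) : G) * x⁻¹) * x := by group
        _ = ((y : Q) : G) * x := by rw [h3]
    · rw [MulAction.mem_fixedPoints]
      intro g
      apply Subtype.ext
      show ((g : normalizer (Q : Set G)) : G) * (z : G) * ((g : normalizer (Q : Set G)) : G)⁻¹ = (z : G)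
      have hz : (z : G) ∈ centralizer (P : Set G) := z.2.2
      rw [mem_centralizer_iff] at hz
      have h4 : ((g : normalizer (Q : Set G)) : G) * (z : G) =
          (z : G) * ((g : normalizer (Q : Set G)) : G) := hz _ g.2
      rw [h4, mul_inv_cancel_right]
    · intro y
      rfl
    · intro z
      rfl
  rw [← h2]
  exact h

/-- For a normal `p'`-subgroup `K`, the `q`-part of `[K : N_K(P)]` is `≡ 1` mod `p`. -/
theorem qpart_modEq_one {G : Type*} [Group G] [Finite G] (p : ℕ) [Fact p.Prime] (P : Sylow p G)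
    (K : Subgroup G) [K.Normal] (hK : (Nat.card K).Coprime p) (q : ℕ) [Fact q.Prime] :
    q ^ ((normalizer ((P : Subgroup G) : Set G)).relIndex K).factorization q ≡ 1 [MOD p] := by
  have hq : q.Prime := Fact.out
  have hp : p.Prime := Fact.out
  set A := normalizer ((P : Subgroup G) : Set G) with hA
  set C : Subgroup G := K ⊓ centralizer ((P : Subgroup G) : Set G) with hC
  have hcop : (Nat.card (P : Subgroup G)).Coprime (Nat.card K) := by
    obtain ⟨k, hk⟩ := P.2.exists_card_eq
    rw [hk]
    exact Nat.Coprime.pow_left k hK.symm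
  have hPK : (P : Subgroup G) ⊓ K = ⊥ := (Subgroup.disjoint_of_coprime_natCard hcop).eq_bot
  have hAK : A ⊓ K = C := by
    apply le_antisymm
    · rintro x ⟨hxA, hxK⟩
      refine ⟨hxK, ?_⟩
      refine mem_centralizer_iff.mpr ?_
      intro y hy
      have h1 : x * y * x⁻¹ ∈ (P : Subgroup G) := (mem_normalizer_iff.mp hxA y).mp hy
      have h2 : x * y * x⁻¹ * y⁻¹ ∈ (P : Subgroup G) ⊓ K := by
        refine ⟨(P : Subgroup G).mul_mem h1 ((P : Subgroup G).inv_mem hy), ?_⟩
        have h3 : y * x⁻¹ * y⁻¹ ∈ K := Normal.conj_mem inferInstance _ (inv_mem hxK) y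
        have h4 := mul_mem hxK h3
        have h5 : x * (y * x⁻¹ * y⁻¹) = x * y * x⁻¹ * y⁻¹ := by group
        rw [h5] at h4
        exact h4
      rw [hPK, mem_bot] at h2
      have h6 : x * y = y * x := by
        have := congrArg (fun t => t * y * x) h2
        simpa [mul_assoc] using this
      exact h6.symm
    · rintro x ⟨hxK, hxC⟩
      exact ⟨centralizer_le_normalizer _ hxC, hxK⟩
  have hrel : A.relIndex K = C.relIndex K := by rw [← inf_relIndex_right, hAK]
  have hCK : C ≤ K := inf_le_left
  have hmul : Nat.card C * C.relIndex K = Nat.card K := by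
    have := relIndex_mul_relIndex (⊥ : Subgroup G) C K bot_le hCK
    rwa [relIndex_bot_left, relIndex_bot_left] at this
  -- Sylow q-subgroup of C
  obtain ⟨S₀⟩ : Nonempty (Sylow q C) := inferInstance
  set S : Subgroup G := (S₀ : Subgroup C).map C.subtype with hS
  have hScard : Nat.card S = q ^ (Nat.card C).factorization q := by
    rw [hS, Subgroup.card_map_of_injective C.subtype_injective]
    exact S₀.card_eq_multiplicity
  have hSC : S ≤ C := Subgroup.map_subtype_le _
  have hSq : IsPGroup q S := S₀.2.map _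
  have hPS : (P : Subgroup G) ≤ normalizer (S : Set G) := by
    intro x hx
    apply centralizer_le_normalizer
    rw [mem_centralizer_iff]
    intro y hy
    have : y ∈ centralizer ((P : Subgroup G) : Set G) := (hSC hy).2
    rw [mem_centralizer_iff] at this
    exact (this x hx).symm
  have hPKn : (P : Subgroup G) ≤ normalizer (K : Set G) := by
    rw [normalizer_eq_top]; exact le_top
  have hsolv : Group.IsSolvable (P : Subgroup G) := by
    haveI := P.2.isNilpotent
    infer_instance
  obtain ⟨Q, hSQ, hPQ⟩ := Cfsg.Agent.S0025.result (P : Subgroup G) K hPKn hcop (Or.inl hsolv) q S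
    (hSC.trans hCK) hSq hPS
  set Q' : Subgroup G := (Q : Subgroup K).map K.subtype with hQ'
  have hQ'card : Nat.card Q' = q ^ (Nat.card K).factorization q := by
    rw [hQ', Subgroup.card_map_of_injective K.subtype_injective]
    exact Q.card_eq_multiplicity
  have hQ'K : Q' ≤ K := Subgroup.map_subtype_le _
  have hQ'q : IsPGroup q Q' := Q.2.map _
  set D : Subgroup G := Q' ⊓ centralizer ((P : Subgroup G) : Set G) with hD
  have hDC : D ≤ C := fun x hx => ⟨hQ'K hx.1, hx.2⟩
  have hSD : S ≤ D := fun x hx => ⟨hSQ hx, (hSC hx).2⟩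
  have hDq : IsPGroup q D := hQ'q.to_le inf_le_left
  have hC0 : Nat.card C ≠ 0 := Nat.card_pos.ne'
  have hDcard : Nat.card D = q ^ (Nat.card C).factorization q := by
    obtain ⟨j, hj⟩ := hDq.exists_card_eq
    have h1 : q ^ j ∣ Nat.card C := hj ▸ Subgroup.card_dvd_of_le hDC
    have h2 : j ≤ (Nat.card C).factorization q :=
      (hq.pow_dvd_iff_le_factorization hC0).mp h1
    have h3 : q ^ (Nat.card C).factorization q ∣ q ^ j := by
      rw [← hScard, ← hj]
      exact Subgroup.card_dvd_of_le hSD
    have h4 : (Nat.card C).factorization q ≤ j := (Nat.pow_dvd_pow_iff_le_right hq.one_lt).mp h3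
    rw [hj, le_antisymm h2 h4]
  have hfix : Nat.card Q' ≡ Nat.card D [MOD p] :=
    card_modEq_card_inf_centralizer (P : Subgroup G) Q' P.2 hPQ
  have hr0 : C.relIndex K ≠ 0 := by
    intro h0
    rw [h0, mul_zero] at hmul
    exact Nat.card_pos.ne' hmul.symm
  have hfac : (Nat.card C).factorization q + (C.relIndex K).factorization q =
      (Nat.card K).factorization q := by
    rw [← hmul, Nat.factorization_mul hC0 hr0, Finsupp.add_apply]
  have hprod : q ^ (C.relIndex K).factorization q * Nat.card D = Nat.card Q' := by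
    rw [hDcard, hQ'card, ← pow_add, ← hfac, add_comm]
  have hDp : Nat.gcd p (Nat.card D) = 1 := by
    have h1 : Nat.card D ∣ Nat.card K := Subgroup.card_dvd_of_le (hDC.trans hCK)
    exact (Nat.Coprime.coprime_dvd_left h1 hK).symm
  rw [hrel]
  apply Nat.ModEq.cancel_right_of_coprime hDp
  rw [hprod, one_mul]
  exact hfix

/-- The admissible factors. -/
def Good (p m : ℕ) : Prop :=
  (IsPrimePow m ∧ m % p = 1) ∨
    ∃ (S : Type u) (_ : Group S) (_ : Finite S), IsSimpleGroup S ∧ m = Nat.card (Sylow p S)

/-- Products of admissible factors. -/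
def GoodNum (p n : ℕ) : Prop :=
  ∃ l : List ℕ, l.prod = n ∧ ∀ m ∈ l, Good.{u} p m

theorem goodNum_one (p : ℕ) : GoodNum.{u} p 1 := ⟨[], rfl, by simp⟩

theorem GoodNum.mul {p a b : ℕ} (ha : GoodNum.{u} p a) (hb : GoodNum.{u} p b) :
    GoodNum.{u} p (a * b) := by
  obtain ⟨l₁, h₁, g₁⟩ := ha
  obtain ⟨l₂, h₂, g₂⟩ := hb
  refine ⟨l₁ ++ l₂, by rw [List.prod_append, h₁, h₂], ?_⟩
  intro m hm
  rcases List.mem_append.mp hm with h | h
  · exact g₁ m h
  · exact g₂ m h

theorem goodNum_of_qparts (p : ℕ) [Fact p.Prime] (m : ℕ) (hm : m ≠ 0)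
    (h : ∀ q : ℕ, q.Prime → q ^ m.factorization q ≡ 1 [MOD p]) : GoodNum.{u} p m := by
  have hp : p.Prime := Fact.out
  refine ⟨m.primeFactors.toList.map (fun q => q ^ m.factorization q), ?_, ?_⟩
  · rw [Finset.prod_map_toList]
    have := Nat.prod_factorization_pow_eq_self hm
    rw [Finsupp.prod, Nat.support_factorization] at this
    exact this
  · intro x hx
    rw [List.mem_map] at hx
    obtain ⟨q, hq, rfl⟩ := hx
    rw [Finset.mem_toList] at hq
    have hqp := Nat.prime_of_mem_primeFactors hq
    left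
    refine ⟨⟨q, m.factorization q, hqp.prime, ?_, rfl⟩, ?_⟩
    · exact hqp.factorization_pos_of_dvd hm (Nat.dvd_of_mem_primeFactors hq)
    · have := h q hqp
      rw [Nat.ModEq, Nat.mod_eq_of_lt hp.one_lt] at this
      exact this

theorem main (p : ℕ) [Fact p.Prime] :
    ∀ (n : ℕ) (G : Type u) [Group G] [Finite G], Nat.card G = n →
      GoodNum.{u} p (Nat.card (Sylow p G)) := by
  intro n
  induction n using Nat.strong_induction_on with
  | _ n ih =>
  intro G _ _ hn
  by_cases hG1 : Subsingleton G
  · have h1 : Nat.card (Sylow p G) = 1 := by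
      have hdvd := Sylow.card_dvd_index (Classical.arbitrary (Sylow p G))
      have : Nat.card G = 1 := Nat.card_eq_one_iff_unique.mpr ⟨hG1, ⟨1⟩⟩
      have h2 : (Classical.arbitrary (Sylow p G) : Subgroup G).index ∣ Nat.card G :=
        Subgroup.index_dvd_card _
      rw [this] at h2
      exact Nat.dvd_one.mp (hdvd.trans h2)
    rw [h1]
    exact goodNum_one p
  rw [not_subsingleton_iff_nontrivial] at hG1
  by_cases hsimple : IsSimpleGroup G
  · exact ⟨[Nat.card (Sylow p G)], by simp, by
      intro m hm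
      rw [List.mem_singleton] at hm
      exact Or.inr ⟨G, inferInstance, inferInstance, hsimple, hm⟩⟩
  obtain ⟨K, hKn, hK0, hK1⟩ : ∃ K : Subgroup G, K.Normal ∧ K ≠ ⊥ ∧ K ≠ ⊤ := by
    by_contra hcon
    push Not at hcon
    apply hsimple
    exact ⟨fun H hH => by
      by_cases h0 : H = ⊥
      · exact Or.inl h0
      · exact Or.inr (hcon H hH h0)⟩
  haveI := hKn
  obtain ⟨P⟩ : Nonempty (Sylow p G) := inferInstance
  have hp : p.Prime := Fact.out
  have hltQ : Nat.card (G ⧸ K) < n := by
    rw [← hn, ← Subgroup.index_eq_card, ← Subgroup.card_mul_index K]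
    have hK2 : 1 < Nat.card K := by
      rw [Subgroup.one_lt_card_iff_ne_bot]
      exact hK0
    have : 0 < K.index := Nat.pos_of_ne_zero Subgroup.index_ne_zero_of_finite
    nlinarith
  have hltK : Nat.card K < n := by
    rw [← hn]
    have h2 : Nat.card K ≤ Nat.card G := Subgroup.card_le_card_group K
    have h3 : Nat.card K ≠ Nat.card G := fun h => hK1 (Subgroup.eq_top_of_card_eq K h)
    omega
  have ihQ : GoodNum.{u} p (Nat.card (Sylow p (G ⧸ K))) := ih _ hltQ (G ⧸ K) rfl
  by_cases hpK : p ∣ Nat.card K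
  · -- three term formula
    set R : Subgroup G := (P : Subgroup G) ⊓ K with hR
    set N : Subgroup G := ((P : Subgroup G) ⊔ K) ⊓ normalizer (R : Set G) with hN
    have hRN : R ≤ N := le_inf (inf_le_left.trans le_sup_left) le_normalizer
    haveI hnorm : (R.subgroupOf N).Normal := by
      rw [normal_subgroupOf_iff_le_normalizer hRN]
      exact inf_le_right
    have hform := Cfsg.Agent.S4341.result p K P N hN
    have hR0 : R ≠ ⊥ := by
      intro h0
      have h1 : ¬ p ∣ (P : Subgroup G).relIndex K := fun hdvd =>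
        P.not_dvd_index (hdvd.trans (relIndex_dvd_index_of_normal_right (P : Subgroup G) K))
      rw [← inf_relIndex_right, ← hR, h0, relIndex_bot_left] at h1
      exact h1 hpK
    have ihK : GoodNum.{u} p (Nat.card (Sylow p K)) := ih _ hltK K rfl
    have hltN : Nat.card (N ⧸ R.subgroupOf N) < n := by
      rw [← hn, ← Subgroup.index_eq_card]
      have h1 := Subgroup.card_mul_index (R.subgroupOf N)
      have h2 : Nat.card (R.subgroupOf N) = Nat.card R :=
        Nat.card_congr (Subgroup.subgroupOfEquivOfLe hRN).toEquiv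
      have h3 : 1 < Nat.card R := by
        rw [Subgroup.one_lt_card_iff_ne_bot]
        exact hR0
      have h4 : Nat.card N ≤ Nat.card G := Subgroup.card_le_card_group N
      have h5 : 0 < (R.subgroupOf N).index := Nat.pos_of_ne_zero Subgroup.index_ne_zero_of_finite
      rw [h2] at h1
      nlinarith
    have ihN : GoodNum.{u} p (Nat.card (Sylow p (N ⧸ R.subgroupOf N))) :=
      ih _ hltN (N ⧸ R.subgroupOf N) rfl
    rw [hform]
    exact (ihQ.mul ihK).mul ihN
  · -- `K` is a `p'`-group
    have hcop : (Nat.card K).Coprime p := (Nat.Prime.coprime_iff_not_dvd hp).mpr hpK |>.symm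
    set A := normalizer ((P : Subgroup G) : Set G) with hA
    have h0 : Nat.card (Sylow p G) = A.index := Sylow.card_eq_index_normalizer P
    have h1 : Nat.card (Sylow p (G ⧸ K)) = (K ⊔ A).index := card_sylow_quotient P K
    have h2 : A.relIndex (A ⊔ K) * (A ⊔ K).index = A.index := relIndex_mul_index le_sup_left
    have h3 : A.relIndex (A ⊔ K) = A.relIndex K := relIndex_sup_eq_of_normal A K
    have hfac : Nat.card (Sylow p G) = A.relIndex K * Nat.card (Sylow p (G ⧸ K)) := by
      rw [h0, ← h2, h3, h1, sup_comm]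
    have hr0 : A.relIndex K ≠ 0 := by
      intro h
      rw [h, zero_mul] at hfac
      exact Nat.card_pos.ne' hfac
    rw [hfac]
    refine GoodNum.mul ?_ ihQ
    apply goodNum_of_qparts p _ hr0
    intro q hq
    haveI : Fact q.Prime := ⟨hq⟩
    exact qpart_modEq_one p P K hcop q

/-- For a finite group `G` and a prime `p`, the number of Sylow `p`-subgroups of `G` is a product of natural numbers each of which is either a prime power congruent to 1 modulo `p` or the number of Sylow `p`-subgroups of some finite simple group. -/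
theorem result {G : Type u} [Group G] [Finite G]
    (p : ℕ) [Fact p.Prime] :
    ∃ l : List ℕ, l.prod = Nat.card (Sylow p G) ∧
      ∀ m ∈ l, (IsPrimePow m ∧ m % p = 1) ∨
        ∃ (S : Type u) (_ : Group S) (_ : Finite S), IsSimpleGroup S ∧ m = Nat.card (Sylow p S) :=
  main p _ G rfl

end Cfsg.Agent.S4303
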