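import Mathlib
import Cfsg.Statements.S4043
import Cfsg.Agent.S0001
import Cfsg.Agent.S4303

set_option autoImplicit false
open Cfsg

namespace Cfsg.Agent.S4043

open Cfsg.Agent.Helper1
open Pointwise

theorem structure_lemma {G : Type*} [Group G] [Finite G] {p : ℕ} [Fact p.Prime]
    (N : Subgroup G) [N.Normal] (A : Subgroup G) (hA : A.IsComplement' N)
    (hAp : Cfsg.HasNormalPComplement p A) :
    ∃ T S Y : Subgroup G, T ≤ A ∧ S ≤ A ∧ IsPGroup p S ∧ (Nat.card T).Coprime p ∧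
      (∀ a ∈ A, ∀ t ∈ T, a * t * a⁻¹ ∈ T) ∧ (∀ a ∈ A, ∃ t ∈ T, ∃ s ∈ S, a = t * s) ∧
      N ≤ Y ∧ T ≤ Y ∧ (∀ y ∈ Y, ∃ n ∈ N, ∃ t ∈ T, y = n * t) ∧
      (∀ x : G, (orderOf x).Coprime p → x ∈ Y) := by
  obtain ⟨P, K, hKn, hKP⟩ := hAp
  let e : G ⧸ N ≃* A := hA.QuotientMulEquiv
  let φ : G →* A := e.toMonoidHom.comp (QuotientGroup.mk' N)
  have hφA : ∀ a : A, φ (a : G) = a := by
    intro a
    change e (QuotientGroup.mk (a : G)) = a
    have : e.symm a = QuotientGroup.mk (a : G) := rfl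
    rw [← this, MulEquiv.apply_symm_apply]
  have hφN : ∀ n ∈ N, φ n = 1 := by
    intro n hn
    change e (QuotientGroup.mk n) = 1
    rw [(QuotientGroup.eq_one_iff n).mpr hn, map_one]
  have hker : ∀ g : G, φ g = 1 → g ∈ N := by
    intro g hg
    change e (QuotientGroup.mk g) = 1 at hg
    rw [MulEquiv.map_eq_one_iff] at hg
    exact (QuotientGroup.eq_one_iff g).mp hg
  have hdec : ∀ g : G, ∃ n ∈ N, g = n * ((φ g : A) : G) := by
    intro g
    refine ⟨g * ((φ g : A) : G)⁻¹, ?_, by group⟩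
    apply hker
    rw [map_mul, map_inv, hφA, mul_inv_cancel]
  refine ⟨K.map A.subtype, (P : Subgroup A).map A.subtype, K.comap φ, ?_, ?_, ?_, ?_, ?_, ?_, ?_,
    ?_, ?_, ?_⟩
  · rintro _ ⟨k, _, rfl⟩
    exact k.2
  · rintro _ ⟨k, _, rfl⟩
    exact k.2
  · exact P.2.map A.subtype
  · rw [Subgroup.card_map_of_injective A.subtype_injective]
    have h1 : (P : Subgroup A).index = Nat.card K := hKP.index_eq_card
    rw [← h1]
    have h2 := P.not_dvd_index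
    exact (Nat.Prime.coprime_iff_not_dvd Fact.out).mpr h2 |>.symm
  · rintro a ha _ ⟨k, hk, rfl⟩
    refine ⟨⟨a, ha⟩ * k * ⟨a, ha⟩⁻¹, hKn.conj_mem k hk ⟨a, ha⟩, rfl⟩
  · intro a ha
    obtain ⟨k, hk, s, hs, h⟩ := IsComplement'.exists_mul hKP ⟨a, ha⟩
    refine ⟨k, ⟨k, hk, rfl⟩, s, ⟨s, hs, rfl⟩, ?_⟩
    have := congrArg Subtype.val h
    exact this
  · intro n hn
    rw [Subgroup.mem_comap, hφN n hn]
    exact K.one_mem
  · rintro _ ⟨k, hk, rfl⟩
    rw [Subgroup.mem_comap]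
    change φ (k : G) ∈ K
    rw [hφA]
    exact hk
  · intro y hy
    obtain ⟨n, hn, h⟩ := hdec y
    exact ⟨n, hn, _, ⟨φ y, hy, rfl⟩, h⟩
  · intro x hx
    rw [Subgroup.mem_comap]
    have h1 : (orderOf (φ x)).Coprime p := Nat.Coprime.coprime_dvd_left (orderOf_map_dvd φ x) hx
    have h2 : orderOf (QuotientGroup.mk' K (φ x)) ∣ orderOf (φ x) := orderOf_map_dvd _ _
    have h3 : orderOf (QuotientGroup.mk' K (φ x)) ∣ Nat.card (A ⧸ K) := orderOf_dvd_natCard _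
    have h4 : Nat.card (A ⧸ K) = Nat.card (P : Subgroup A) := by
      rw [← Subgroup.index_eq_card]
      exact hKP.symm.index_eq_card
    obtain ⟨m, hm⟩ := P.2.exists_card_eq
    rw [h4, hm] at h3
    have h5 : (orderOf (QuotientGroup.mk' K (φ x))).Coprime (p ^ m) :=
      Nat.Coprime.pow_right m (Nat.Coprime.coprime_dvd_left h2 h1)
    have h6 : orderOf (QuotientGroup.mk' K (φ x)) = 1 := Nat.eq_one_of_dvd_coprimes h5 dvd_rfl h3
    rw [orderOf_eq_one_iff] at h6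
    exact (QuotientGroup.eq_one_iff _).mp h6

/-- `N ∩ N_G(T) = 1` -/
theorem normalizer_inf_eq_bot {G : Type*} [Group G] [Finite G] {p : ℕ} [Fact p.Prime]
    (N : Subgroup G) [N.Normal] (hN : IsPGroup p N) (A T S : Subgroup G)
    (hdisj : N ⊓ A = ⊥) (hTA : T ≤ A) (hSA : S ≤ A) (hS : IsPGroup p S)
    (hnorm : ∀ a ∈ A, ∀ t ∈ T, a * t * a⁻¹ ∈ T) (hTS : ∀ a ∈ A, ∃ t ∈ T, ∃ s ∈ S, a = t * s)
    (hC : ∀ n : G, n ∈ N → (∀ a : G, a ∈ A → a * n * a⁻¹ = n) → n = 1)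
    (m : G) (hm : m ∈ N) (hmT : ∀ t ∈ T, m * t * m⁻¹ ∈ T) : m = 1 := by
  -- `m` centralizes `T`
  have hcent : ∀ t ∈ T, t * m = m * t := by
    intro t ht
    have h1 : m * t * m⁻¹ * t⁻¹ ∈ N ⊓ A := by
      refine ⟨?_, ?_⟩
      · have : m * t * m⁻¹ * t⁻¹ = m * (t * m⁻¹ * t⁻¹) := by group
        rw [this]
        exact N.mul_mem hm (‹N.Normal›.conj_mem _ (N.inv_mem hm) t)
      · exact A.mul_mem (hTA (hmT t ht)) (A.inv_mem (hTA ht))
    rw [hdisj, Subgroup.mem_bot] at h1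
    have : m * t = t * m := by
      calc m * t = (m * t * m⁻¹ * t⁻¹) * (t * m) := by group
        _ = t * m := by rw [h1, one_mul]
    exact this.symm
  set C : Subgroup G := N ⊓ Subgroup.centralizer (T : Set G) with hCdef
  have hmC : m ∈ C := ⟨hm, Subgroup.mem_centralizer_iff.mpr hcent⟩
  by_contra hne
  have hCne : C ≠ ⊥ := by
    intro h
    rw [h, Subgroup.mem_bot] at hmC
    exact hne hmC
  -- `S` normalizes `C`
  have hconj : ∀ s ∈ A, ∀ c ∈ C, s * c * s⁻¹ ∈ C := by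
    intro s hs c hc
    refine ⟨‹N.Normal›.conj_mem c hc.1 s, ?_⟩
    change s * c * s⁻¹ ∈ Subgroup.centralizer (T : Set G)
    rw [Subgroup.mem_centralizer_iff]
    intro t ht
    have h1 : s⁻¹ * t * s ∈ T := by
      have := hnorm s⁻¹ (A.inv_mem hs) t ht
      rwa [inv_inv] at this
    have h2 := Subgroup.mem_centralizer_iff.mp hc.2 _ h1
    calc t * (s * c * s⁻¹) = s * ((s⁻¹ * t * s) * c) * s⁻¹ := by group
      _ = s * (c * (s⁻¹ * t * s)) * s⁻¹ := by rw [h2]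
      _ = s * c * s⁻¹ * t := by group
  have hSC : S ≤ Subgroup.normalizer (C : Set G) := by
    intro s hs
    rw [Subgroup.mem_normalizer_iff]
    intro c
    constructor
    · intro hc
      exact hconj s (hSA hs) c hc
    · intro hc
      have := hconj s⁻¹ (A.inv_mem (hSA hs)) _ hc
      have h2 : s⁻¹ * (s * c * s⁻¹) * s⁻¹⁻¹ = c := by group
      rwa [h2] at this
  have h1 := Cfsg.Agent.S4303.card_modEq_card_inf_centralizer S C hS hSC
  have hCp : IsPGroup p C := hN.to_le inf_le_left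
  obtain ⟨k, hk⟩ := hCp.exists_card_eq
  have hk0 : k ≠ 0 := by
    rintro rfl
    rw [pow_zero] at hk
    exact hCne (Subgroup.card_eq_one.mp hk)
  have h2 : p ∣ Nat.card (C ⊓ Subgroup.centralizer (S : Set G) : Subgroup G) := by
    rw [← Nat.modEq_zero_iff_dvd]
    refine h1.symm.trans ?_
    rw [Nat.modEq_zero_iff_dvd, hk]
    exact dvd_pow_self p hk0
  have h3 : (C ⊓ Subgroup.centralizer (S : Set G) : Subgroup G) ≠ ⊥ := by
    intro h
    rw [h, Subgroup.card_bot] at h2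
    exact (Fact.out : p.Prime).one_lt.ne' (Nat.dvd_one.mp h2)
  obtain ⟨⟨c, hc⟩, hc1⟩ := (Subgroup.ne_bot_iff_exists_ne_one).mp h3
  apply hc1
  apply Subtype.ext
  change c = 1
  apply hC c hc.1.1
  intro a ha
  obtain ⟨t, ht, s, hs, rfl⟩ := hTS a ha
  have h4 : s * c = c * s := Subgroup.mem_centralizer_iff.mp hc.2 s hs
  have h5 : t * c = c * t := Subgroup.mem_centralizer_iff.mp hc.1.2 t ht
  calc t * s * c * (t * s)⁻¹ = t * (s * c) * s⁻¹ * t⁻¹ := by group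
    _ = t * (c * s) * s⁻¹ * t⁻¹ := by rw [h4]
    _ = (t * c) * t⁻¹ := by group
    _ = c * t * t⁻¹ := by rw [h5]
    _ = c := by group

/-- Let G be a finite group that is the semidirect product of a normal p-subgroup N by a subgroup A, and also of N by a subgroup A₁, where p is a prime and A and A₁ both have normal p-complements. If C_N(A) = C_N(A₁) = 1, then A₁ is conjugate to A by an element of N. -/
theorem result {G : Type*} [Group G] [Finite G] {p : ℕ}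
    [Fact p.Prime] (N : Subgroup G) [N.Normal] (hN : IsPGroup p N) (A A₁ : Subgroup G)
    (hA : A.IsComplement' N) (hA₁ : A₁.IsComplement' N)
    (hAp : Cfsg.HasNormalPComplement p A) (hA₁p : Cfsg.HasNormalPComplement p A₁)
    (hC : ∀ n : G, n ∈ N → (∀ a : G, a ∈ A → a * n * a⁻¹ = n) → n = 1)
    (hC₁ : ∀ n : G, n ∈ N → (∀ a : G, a ∈ A₁ → a * n * a⁻¹ = n) → n = 1) :
    ∃ n : G, n ∈ N ∧ A₁ = A.map (MulAut.conj n).toMonoidHom := by
  obtain ⟨T, S, Y, hTA, hSA, hS, hTp, hnorm, hTS, hNY, hTY, hYdec, hYp⟩ :=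
    structure_lemma N A hA hAp
  obtain ⟨T₁, S₁, Y₁, hTA₁, hSA₁, hS₁, hTp₁, hnorm₁, hTS₁, hNY₁, hTY₁, hYdec₁, hYp₁⟩ :=
    structure_lemma N A₁ hA₁ hA₁p
  have hdisj : N ⊓ A = ⊥ := hA.symm.disjoint.eq_bot
  have hdisj₁ : N ⊓ A₁ = ⊥ := hA₁.symm.disjoint.eq_bot
  have hNT : N ⊓ T = ⊥ := by
    rw [eq_bot_iff, ← hdisj]
    exact inf_le_inf_left N hTA
  have hNT₁ : N ⊓ T₁ = ⊥ := by
    rw [eq_bot_iff, ← hdisj₁]
    exact inf_le_inf_left N hTA₁
  have hpT : ∀ (U : Subgroup G), (Nat.card U).Coprime p → ∀ x ∈ U, (orderOf x).Coprime p := by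
    intro U hU x hx
    have h1 : orderOf x ∣ Nat.card U := by
      have := orderOf_dvd_natCard (⟨x, hx⟩ : U)
      rwa [Subgroup.orderOf_mk] at this
    exact Nat.Coprime.coprime_dvd_left h1 hU
  have hT₁Y : T₁ ≤ Y := fun x hx => hYp x (hpT T₁ hTp₁ x hx)
  have hTY₁ : T ≤ Y₁ := fun x hx => hYp₁ x (hpT T hTp x hx)
  have hYY : Y = Y₁ := by
    apply le_antisymm
    · intro y hy
      obtain ⟨n, hn, t, ht, rfl⟩ := hYdec y hy
      exact Y₁.mul_mem (hNY₁ hn) (hTY₁ ht)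
    · intro y hy
      obtain ⟨n, hn, t, ht, rfl⟩ := hYdec₁ y hy
      exact Y.mul_mem (hNY hn) (hT₁Y ht)
  rw [← hYY] at hYdec₁
  -- Schur–Zassenhaus in `Y`
  have hc : Subgroup.IsComplement' (N.subgroupOf Y) (T.subgroupOf Y) :=
    isComplement'_subgroupOf hNT hTY hYdec
  have hc₁ : Subgroup.IsComplement' (N.subgroupOf Y) (T₁.subgroupOf Y) :=
    isComplement'_subgroupOf hNT₁ hT₁Y hYdec₁
  have hcop : (Nat.card (N.subgroupOf Y)).Coprime (N.subgroupOf Y).index := by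
    have h1 : (N.subgroupOf Y).index = Nat.card (T.subgroupOf Y) := hc.symm.index_eq_card
    rw [h1, Cfsg.Agent.S0001.card_subgroupOf_of_le hTY, Cfsg.Agent.S0001.card_subgroupOf_of_le hNY]
    obtain ⟨k, hk⟩ := hN.exists_card_eq
    rw [hk]
    exact Nat.Coprime.pow_left k hTp.symm
  have hNYp : IsPGroup p (N.subgroupOf Y) := hN.comap_subtype
  have hsolv : Group.IsSolvable (N.subgroupOf Y) := by
    have := hNYp.isNilpotent
    infer_instance
  obtain ⟨g, hg⟩ := Cfsg.Agent.S0001.result (N.subgroupOf Y) hcop (Or.inl hsolv) _ _ hc hc₁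
  have hg2 : MulAut.conj (g : G) • T = T₁ := conj_of_conj_subgroupOf hTY hT₁Y g hg
  obtain ⟨n, hn, t, ht, hgnt⟩ := hYdec g g.2
  have hn2 : MulAut.conj n • T = T₁ := by
    rw [← hg2, hgnt, ← conj_smul_conj_smul]
    congr 1
    ext x
    rw [mem_conj_smul_iff]
    constructor
    · intro hx
      exact T.mul_mem (T.mul_mem (T.inv_mem ht) hx) ht
    · intro hx
      have := T.mul_mem (T.mul_mem ht hx) (T.inv_mem ht)
      have h2 : t * (t⁻¹ * x * t) * t⁻¹ = x := by group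
      rw [h2] at this
      exact this
  have hmemT₁ : ∀ x, x ∈ T₁ ↔ n⁻¹ * x * n ∈ T := by
    intro x
    rw [← hn2, mem_conj_smul_iff]
  refine ⟨n, hn, ?_⟩
  symm
  apply Subgroup.eq_of_le_of_card_ge
  · rintro _ ⟨a, ha, rfl⟩
    change n * a * n⁻¹ ∈ A₁
    -- decompose with respect to `A₁`
    obtain ⟨a₁, ha₁, m, hm, hdec⟩ := IsComplement'.exists_mul hA₁ (n * a * n⁻¹)
    -- `n * a * n⁻¹` normalizes `T₁`
    have hnormA₂ : ∀ x ∈ T₁, (n * a * n⁻¹) * x * (n * a * n⁻¹)⁻¹ ∈ T₁ := by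
      intro x hx
      rw [hmemT₁]
      have h1 := hnorm a ha _ ((hmemT₁ x).mp hx)
      have h2 : n⁻¹ * (n * a * n⁻¹ * x * (n * a * n⁻¹)⁻¹) * n = a * (n⁻¹ * x * n) * a⁻¹ := by group
      rw [h2]
      exact h1
    have hm1 : m = 1 := by
      apply normalizer_inf_eq_bot N hN A₁ T₁ S₁ hdisj₁ hTA₁ hSA₁ hS₁ hnorm₁ hTS₁ hC₁ m hm
      intro x hx
      have hm' : m = a₁⁻¹ * (n * a * n⁻¹) := by rw [hdec]; group
      rw [hm']
      have h1 := hnormA₂ x hx
      have h2 := hnorm₁ a₁⁻¹ (A₁.inv_mem ha₁) _ h1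
      have h3 : a₁⁻¹ * (n * a * n⁻¹) * x * (a₁⁻¹ * (n * a * n⁻¹))⁻¹
          = a₁⁻¹ * (n * a * n⁻¹ * x * (n * a * n⁻¹)⁻¹) * a₁⁻¹⁻¹ := by group
      rw [h3]
      exact h2
    rw [hdec, hm1, mul_one]
    exact ha₁
  · rw [Subgroup.card_map_of_injective (MulAut.conj n).injective]
    have h1 := hA.card_mul_card
    have h2 := hA₁.card_mul_card
    have h3 : Nat.card A₁ * Nat.card N = Nat.card A * Nat.card N := by rw [h1, h2]
    have hNpos : 0 < Nat.card N := Nat.card_pos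
    exact (Nat.eq_of_mul_eq_mul_right hNpos h3).le

end Cfsg.Agent.S4043
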