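import Mathlib
import Cfsg.Statements.S4049
import Cfsg.Agent.S0200
import Cfsg.Agent.Lib.Helper20.TwoClosed
import Cfsg.Agent.Lib.Helper20.ConjComplement
import Cfsg.Agent.Lib.Helper20.ZpowersNormalizer
import Cfsg.Agent.Lib.Helper20.AutRelIndex
import Cfsg.Agent.Lib.Helper20.PreimageComplement

set_option autoImplicit false
open Cfsg

namespace Cfsg.Agent.S4049

universe u

/-- the hypothesis of the statement -/
def Hom (G : Type u) [Group G] : Prop :=
  ∀ H : Subgroup G, H ≠ ⊥ → ¬ 2 ∣ Nat.card ↥H →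
    ¬ 2 ∣ (Subgroup.centralizer (H : Set G)).relIndex (Subgroup.normalizer (H : Set G))

theorem hom_involution (G : Type u) [Group G] [Finite G] (hhom : Hom G) (t : G)
    (ht : orderOf t = 2) : ∃ M : Subgroup G, M.Normal ∧ IsPGroup 2 M ∧ t ∈ M := by
  by_contra hcon
  push Not at hcon
  obtain ⟨h, hh1, hodd, hinv⟩ := Cfsg.Agent.S0200.result t ht hcon
  set H : Subgroup G := Subgroup.zpowers h with hH
  have hHbot : H ≠ ⊥ := by
    intro hb
    have : h ∈ H := Subgroup.mem_zpowers h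
    rw [hb, Subgroup.mem_bot] at this
    exact hh1 this
  have hHodd : ¬ 2 ∣ Nat.card H := by
    rw [Nat.card_zpowers]
    intro h2
    rw [← Nat.not_even_iff_odd, even_iff_two_dvd] at hodd
    exact hodd h2
  apply hhom H hHbot hHodd
  rw [Helper20.two_dvd_relIndex_iff]
  refine ⟨t, ?_, ?_, ?_⟩
  · rw [Helper20.mem_normalizer_zpowers_iff (orderOf_pos h), hinv]
    exact Subgroup.inv_mem _ (Subgroup.mem_zpowers h)
  · intro hcent
    rw [Subgroup.mem_centralizer_iff] at hcent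
    have hc : h * t = t * h := hcent h (Subgroup.mem_zpowers h)
    have h1 : h = h⁻¹ := by
      calc h = h * t * t⁻¹ := by group
        _ = t * h * t⁻¹ := by rw [hc]
        _ = h⁻¹ := hinv
    have h2 : h ^ 2 = 1 := by
      rw [pow_two]
      nth_rewrite 2 [h1]
      exact mul_inv_cancel h
    have h3 : orderOf h ∣ 2 := orderOf_dvd_of_pow_eq_one h2
    have h4 : orderOf h = 1 := by
      have := Nat.le_of_dvd two_pos h3
      have hpos := orderOf_pos h
      rcases hodd with ⟨k, hk⟩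
      omega
    exact hh1 (orderOf_eq_one_iff.mp h4)
  · have : t * t = 1 := by
      have := pow_orderOf_eq_one t
      rw [ht, pow_two] at this
      exact this
    rw [this]
    exact Subgroup.one_mem _

theorem hom_quotient (G : Type u) [Group G] [Finite G] (hhom : Hom G) (N : Subgroup G)
    [hNn : N.Normal] (hN : IsPGroup 2 N) : Hom (G ⧸ N) := by
  have hp2 : Fact (Nat.Prime 2) := ⟨Nat.prime_two⟩
  intro Hb hHbbot hHbodd h2
  obtain ⟨H, hHN, hmap, hcard, hsup⟩ := Helper20.exists_complement_preimage 2 N hN Hb hHbodd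
  have hHbot : H ≠ ⊥ := by
    rintro rfl
    rw [Subgroup.map_bot] at hmap
    exact hHbbot hmap.symm
  have hHodd : ¬ 2 ∣ Nat.card H := by rw [hcard]; exact hHbodd
  apply hhom H hHbot hHodd
  rw [Helper20.two_dvd_relIndex_iff] at h2 ⊢
  obtain ⟨gb, hgbN, hgbC, hgbCC⟩ := h2
  obtain ⟨g, rfl⟩ := QuotientGroup.mk_surjective gb
  -- elements of Hb are images of elements of H
  have hHb : ∀ y : G ⧸ N, y ∈ Hb ↔ ∃ h ∈ H, (h : G ⧸ N) = y := by
    intro y
    rw [← hmap]
    exact Subgroup.mem_map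
  have hg : ∀ h ∈ H, g * h * g⁻¹ ∈ N ⊔ H := by
    intro h hh
    rw [hsup, Subgroup.mem_comap]
    have h1 : (h : G ⧸ N) ∈ Hb := (hHb _).mpr ⟨h, hh, rfl⟩
    have h2 := (Subgroup.mem_normalizer_iff.mp hgbN (h : G ⧸ N)).mp h1
    exact h2
  obtain ⟨u, hu, w, hw, hguw⟩ :=
    Helper20.exists_mul_mem_normalizer_of_conj_le 2 N hN H hHodd g hg
  have hu' : u ∈ ((N ⊔ H : Subgroup G) : Set G) := hu
  rw [Subgroup.normal_mul] at hu'
  obtain ⟨n, hn, h₀, hh₀, hnh⟩ := Set.mem_mul.mp hu'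
  -- replace g by w' = h₀ * w
  set w' := h₀ * w with hw'
  have hw'N : w' ∈ Subgroup.normalizer (H : Set G) :=
    Subgroup.mul_mem _ (Subgroup.le_normalizer hh₀) hw
  have hgw' : (g : G ⧸ N) = (w' : G ⧸ N) := by
    rw [hguw, ← hnh, hw', mul_assoc, QuotientGroup.mk_mul, (QuotientGroup.eq_one_iff n).mpr hn,
      one_mul]
  rw [hgw'] at hgbC hgbCC
  refine ⟨w', hw'N, ?_, ?_⟩
  · intro hc
    apply hgbC
    rw [Subgroup.mem_centralizer_iff] at hc ⊢
    intro y hy
    obtain ⟨h, hh, rfl⟩ := (hHb y).mp hy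
    rw [← QuotientGroup.mk_mul, ← QuotientGroup.mk_mul, hc h hh]
  · rw [Subgroup.mem_centralizer_iff] at hgbCC ⊢
    intro h hh
    have h1 : (h : G ⧸ N) ∈ Hb := (hHb _).mpr ⟨h, hh, rfl⟩
    have h2 := hgbCC (h : G ⧸ N) h1
    -- (w' w') h (w' w')⁻¹ h⁻¹ ∈ N ⊓ H
    have hN2 : w' * w' ∈ Subgroup.normalizer (H : Set G) := Subgroup.mul_mem _ hw'N hw'N
    have h3 : (w' * w') * h * (w' * w')⁻¹ ∈ H := (Subgroup.mem_normalizer_iff.mp hN2 h).mp hh
    have h4 : (w' * w') * h * (w' * w')⁻¹ * h⁻¹ ∈ H := Subgroup.mul_mem _ h3 (Subgroup.inv_mem _ hh)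
    have h5 : (w' * w') * h * (w' * w')⁻¹ * h⁻¹ ∈ N := by
      rw [← QuotientGroup.eq_one_iff]
      simp only [QuotientGroup.mk_mul, QuotientGroup.mk_inv] at h2 ⊢
      rw [← h2]
      group
    have h6 : (w' * w') * h * (w' * w')⁻¹ * h⁻¹ ∈ H ⊓ N := ⟨h4, h5⟩
    rw [hHN, Subgroup.mem_bot] at h6
    have h7 : (w' * w') * h * (w' * w')⁻¹ = h := mul_inv_eq_one.mp h6
    exact (mul_inv_eq_iff_eq_mul.mp h7).symm

/-- Let G be a finite group such that N_G(H)/C_G(H) has odd order for every nontrivial subgroup H of odd order. Then the Sylow 2-subgroups of G are normal. -/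
theorem result {G : Type*} [Group G] [Finite G]
    (hhom : ∀ H : Subgroup G, H ≠ ⊥ → ¬ 2 ∣ Nat.card ↥H →
        ¬ 2 ∣ (Subgroup.centralizer (H : Set G)).relIndex (Subgroup.normalizer (H : Set G))) (P : Sylow 2 G) :
    (P : Subgroup G).Normal :=
  Helper20.sylow_two_normal_of_hereditary (fun G _ => Hom G) hom_involution
    (fun G _ _ h N _ hN => hom_quotient G h N hN) G hhom P

end Cfsg.Agent.S4049
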