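import Mathlib
import Cfsg.Statements.S4050
import Cfsg.Agent.Lib.Helper20.PiElements2

set_option autoImplicit false
open Cfsg

namespace Cfsg.Agent.S4050

open Cfsg.Agent.Helper20

/-- the subgroup of `π`-elements has `π'`-index -/
theorem not_dvd_index {G : Type*} [Group G] [Finite G] {π : Set ℕ} {K : Subgroup G}
    (hK : ∀ x : G, x ∈ K ↔ PiElt π x) {r : ℕ} (hr : r.Prime) (hrπ : r ∈ π) : ¬ r ∣ K.index := by
  have : Fact r.Prime := ⟨hr⟩
  obtain ⟨P⟩ : Nonempty (Sylow r G) := inferInstance
  have hle : (P : Subgroup G) ≤ K := by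
    intro x hx
    rw [hK]
    exact piElt_of_isPGroup_mem hr hrπ P.2 hx
  intro h
  exact P.not_dvd_index (h.trans (Subgroup.index_dvd_of_le hle))

theorem piForm_quotient_of_card {G : Type*} [Group G] [Finite G] {π : Set ℕ}
    (h : (∀ q : ℕ, q.Prime → q ∣ Nat.card G → q ∈ π) ∨
      (∀ q : ℕ, q.Prime → q ∣ Nat.card G → q ∉ π)) : PiForm π G := by
  rcases h with h | h
  · exact ⟨⊤, fun x => ⟨fun _ => piElt_of_card h x, fun _ => Subgroup.mem_top x⟩⟩
  · refine ⟨⊥, fun x => ⟨?_, ?_⟩⟩
    · intro hx
      rw [Subgroup.mem_bot] at hx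
      rw [hx]
      exact piElt_one
    · intro hx
      rw [Subgroup.mem_bot]
      apply eq_one_of_piElt hx
      intro p hp hpx
      exact h p hp (hpx.trans (orderOf_dvd_natCard x))

/-- Let π be a set of primes and G a finite group. The π-elements of G (elements whose order is divisible only by primes of π) form a subgroup if and only if G is π-separable (it has a chain of normal subgroups from 1 to G with each successive index divisible only by primes in π or only by primes outside π) and N_G(H)/C_G(H) is a π'-group for every nontrivial π'-subgroup H of G. -/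
theorem result {G : Type*} [Group G] [Finite G] (π : Set ℕ)
    (hπ : ∀ p ∈ π, p.Prime) :
    (∃ K : Subgroup G, ∀ x : G, x ∈ K ↔ ∀ p : ℕ, p.Prime → p ∣ orderOf x → p ∈ π) ↔
    ((∃ (n : ℕ) (H : Fin (n + 1) → Subgroup G), H 0 = ⊥ ∧ H (Fin.last n) = ⊤ ∧ Monotone H ∧ (∀ i, (H i).Normal) ∧
      ∀ i : Fin n, (∀ q : ℕ, q.Prime → q ∣ (H i.castSucc).relIndex (H i.succ) → q ∈ π) ∨
        (∀ q : ℕ, q.Prime → q ∣ (H i.castSucc).relIndex (H i.succ) → q ∉ π)) ∧
     (∀ H : Subgroup G, H ≠ ⊥ → (∀ p : ℕ, p.Prime → p ∣ Nat.card ↥H → p ∉ π) →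
        ∀ p : ℕ, p.Prime → p ∣ (Subgroup.centralizer (H : Set G)).relIndex (Subgroup.normalizer (H : Set G)) → p ∉ π)) := by
  constructor
  · rintro ⟨K, hK⟩
    have hKn : K.Normal := PiForm.normal hK
    refine ⟨⟨2, ![⊥, K, ⊤], rfl, rfl, ?_, ?_, ?_⟩, ?_⟩
    · rw [Fin.monotone_iff_le_succ]
      intro i
      fin_cases i
      · exact bot_le
      · exact le_top
    · intro i
      fin_cases i
      · exact Subgroup.normal_bot
      · exact hKn
      · exact Subgroup.normal_top
    · intro i
      fin_cases i
      · left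
        intro q hq hqd
        change q ∣ (⊥ : Subgroup G).relIndex K at hqd
        rw [Subgroup.relIndex_bot_left] at hqd
        apply card_of_piElt (G := K) _ q hq hqd
        intro x
        rw [← piElt_coe_iff]
        exact (hK _).mp x.2
      · right
        intro q hq hqd hqπ
        change q ∣ K.relIndex ⊤ at hqd
        rw [Subgroup.relIndex_top_right] at hqd
        exact not_dvd_index hK hq hqπ hqd
    · intro H _ hH p hp hdvd
      exact relIndex_of_piForm ⟨K, hK⟩ H hH p hp hdvd
  · rintro ⟨⟨n, H, h0, hlast, hmono, hnorm, hstep⟩, hhom⟩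
    have hstar : StarE π G := starE_of_relIndex hhom
    have key : ∀ i : Fin (n + 1), PiForm π (H i) := by
      intro i
      induction i using Fin.induction with
      | zero =>
        rw [h0]
        refine ⟨⊤, fun x => ⟨fun _ => ?_, fun _ => Subgroup.mem_top x⟩⟩
        have : x = 1 := Subsingleton.elim _ _
        rw [this]
        exact piElt_one
      | succ i ih =>
        have hVU : H i.castSucc ≤ H i.succ := hmono (Fin.castSucc_lt_succ).le
        have := hnorm i.castSucc
        have hV : PiForm π ((H i.castSucc).subgroupOf (H i.succ)) :=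
          piForm_of_mulEquiv (Subgroup.subgroupOfEquivOfLe hVU).symm ih
        have hQ : PiForm π (↥(H i.succ) ⧸ (H i.castSucc).subgroupOf (H i.succ)) := by
          apply piForm_quotient_of_card
          have h1 : Nat.card (↥(H i.succ) ⧸ (H i.castSucc).subgroupOf (H i.succ))
              = (H i.castSucc).relIndex (H i.succ) := by
            rw [← Subgroup.index_eq_card]
            rfl
          rw [h1]
          exact hstep i
        exact piForm_of_normal (hstar.subgroup (H i.succ)) _ hV hQ
    have h1 := key (Fin.last n)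
    rw [hlast] at h1
    exact piForm_of_mulEquiv Subgroup.topEquiv h1

end Cfsg.Agent.S4050
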