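import Mathlib
import Cfsg.Statements.S4056
import Cfsg.Agent.Lib.Helper22.ClassTwo
import Cfsg.Agent.Lib.Helper9.FrattiniElem

set_option autoImplicit false
open Cfsg
open scoped commutatorElement

namespace Cfsg.Agent.S4056

/-- In a finite 2-group of nilpotency class at most 2 and exponent dividing 4, the Frattini subgroup lies in the centre and is elementary abelian. -/
theorem result {P : Type*} [Group P] [Finite P] (hP : IsPGroup 2 P)
    (hcl : Group.nilpotencyClass P ≤ 2) (hexp : Monoid.exponent P ∣ 4) :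
    frattini P ≤ Subgroup.center P ∧ Cfsg.IsElementaryAbelian 2 (frattini P) := by
  classical
  haveI : Fact (Nat.Prime 2) := ⟨Nat.prime_two⟩
  haveI : Group.IsNilpotent P := hP.isNilpotent
  -- class two
  have h2 : ⁅commutator P, (⊤ : Subgroup P)⁆ = ⊥ := by
    have := (Subgroup.lowerCentralSeries_eq_bot_iff_nilpotencyClass_le (G := P) (n := 2)).2 hcl
    rw [Subgroup.lowerCentralSeries_succ, Subgroup.lowerCentralSeries_succ,
      Subgroup.lowerCentralSeries_zero] at this
    rw [commutator_def]
    exact this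
  have hc : ∀ a b : P, ⁅a, b⁆ ∈ Subgroup.center P :=
    Cfsg.Agent.Helper22.commutator_mem_center_of_class_two h2
  have h4 : ∀ x : P, x ^ 4 = 1 := fun x =>
    (Monoid.exponent_dvd_iff_forall_pow_eq_one.1 hexp) x
  -- commutators have order at most two
  have hcomm2 : ∀ a b : P, ⁅a, b⁆ ^ 2 = 1 := by
    intro a b
    have hc' : ∀ g : P, g * ⁅a, b⁆ = ⁅a, b⁆ * g := fun g => Subgroup.mem_center_iff.1 (hc a b) g
    have h := Cfsg.Agent.Helper22.mul_pow_eq_of_central b a ⁅a, b⁆ hc'
      (Cfsg.Agent.Helper22.mul_eq_commutator_mul b a) 4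
    rw [h4, h4, h4, mul_one, mul_one] at h
    have h6 : ⁅a, b⁆ ^ 6 = 1 := by
      have : Nat.choose 4 2 = 6 := by decide
      rw [this] at h
      exact h.symm
    have : ⁅a, b⁆ ^ 6 = ⁅a, b⁆ ^ 4 * ⁅a, b⁆ ^ 2 := by rw [← pow_add]
    rw [this, h4, one_mul] at h6
    exact h6
  -- squares are central
  have hsq : ∀ y : P, y ^ 2 ∈ Subgroup.center P := by
    intro y
    rw [Subgroup.mem_center_iff]
    intro x
    have h := Cfsg.Agent.Helper22.commutator_pow_left_of_central x y (hc y x) 2
    rw [hcomm2] at h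
    rw [commutatorElement_def] at h
    have : y ^ 2 * x = x * y ^ 2 := mul_inv_eq_iff_eq_mul.1 (mul_inv_eq_one.1 h)
    exact this.symm
  -- the subgroup T generated by squares and commutators
  set T : Subgroup P := Subgroup.closure ({z : P | ∃ y : P, z = y ^ 2} ∪
    {z : P | ∃ a b : P, z = ⁅a, b⁆}) with hT
  have hTcen : T ≤ Subgroup.center P := by
    rw [hT, Subgroup.closure_le]
    rintro z (⟨y, rfl⟩ | ⟨a, b, rfl⟩)
    · exact hsq y
    · exact hc a b
  have hT2 : ∀ t ∈ T, t ^ 2 = 1 := by
    intro t ht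
    induction ht using Subgroup.closure_induction with
    | mem z hz =>
      rcases hz with ⟨y, rfl⟩ | ⟨a, b, rfl⟩
      · rw [← pow_mul]; exact h4 y
      · exact hcomm2 a b
    | one => exact one_pow 2
    | mul x y hx hy hx2 hy2 =>
      have hxc : x ∈ Subgroup.center P := hTcen hx
      have hcomm : Commute x y := (Subgroup.mem_center_iff.1 hxc y).symm
      rw [hcomm.mul_pow, hx2, hy2, one_mul]
    | inv x hx hx2 => rw [inv_pow, hx2, inv_one]
  haveI hTn : T.Normal := by
    refine ⟨fun n hn g => ?_⟩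
    have := Subgroup.mem_center_iff.1 (hTcen hn) g
    rw [this, mul_inv_cancel_right]
    exact hn
  -- frattini is contained in T
  have hfT : frattini P ≤ T := by
    have h := Cfsg.Agent.Helper9.frattini_le_ker_of_elementary (p := 2) (QuotientGroup.mk' T)
      (by
        intro a b
        obtain ⟨a, rfl⟩ := QuotientGroup.mk'_surjective T a
        obtain ⟨b, rfl⟩ := QuotientGroup.mk'_surjective T b
        rw [← map_mul, ← map_mul]
        apply (QuotientGroup.mk'_eq_mk' T).2
        refine ⟨⁅b⁻¹, a⁻¹⁆, ?_, ?_⟩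
        · exact Subgroup.subset_closure (Or.inr ⟨b⁻¹, a⁻¹, rfl⟩)
        · rw [commutatorElement_def]; group)
      (by
        intro a
        obtain ⟨a, rfl⟩ := QuotientGroup.mk'_surjective T a
        rw [← map_pow]
        exact (QuotientGroup.eq_one_iff _).2 (Subgroup.subset_closure (Or.inl ⟨a, rfl⟩)))
    rwa [QuotientGroup.ker_mk'] at h
  refine ⟨hfT.trans hTcen, ?_, ?_⟩
  · refine ⟨⟨fun a b => ?_⟩⟩
    apply Subtype.ext
    have hac : (a : P) ∈ Subgroup.center P := hTcen (hfT a.2)
    exact (Subgroup.mem_center_iff.1 hac (b : P)).symm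
  · intro a ha
    exact hT2 a (hfT ha)

end Cfsg.Agent.S4056
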