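import Mathlib
import Cfsg.Statements.S4059
import Cfsg.Agent.Lib.Helper20.RealElements

set_option autoImplicit false
open Cfsg

namespace Cfsg.Agent.S4059

/-- Let G be a finite group in which every element is conjugate to its inverse. Then: every non-identity element commuting with all elements of some Sylow 2-subgroup is an involution; the centre of G is an elementary abelian 2-group; the commutator quotient G/G' is an elementary abelian 2-group; and G is generated by its 2-elements. -/
theorem result {G : Type*} [Group G] [Finite G] (hamb : ∀ x : G, IsConj x x⁻¹) :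
    (∀ (S : Sylow 2 G) (x : G), x ∈ Subgroup.centralizer ((S : Subgroup G) : Set G) → x ≠ 1 → orderOf x = 2) ∧
    (∀ z : G, z ∈ Subgroup.center G → z ^ 2 = 1) ∧
    (∀ x : G, x ^ 2 ∈ commutator G) ∧
    Subgroup.closure {x : G | ∃ k : ℕ, orderOf x = 2 ^ k} = ⊤ := by
  have : Fact (Nat.Prime 2) := ⟨Nat.prime_two⟩
  refine ⟨?_, ?_, ?_, ?_⟩
  · intro S x hxS hx1
    by_contra hord
    have hx2 : x ^ 2 ≠ 1 := by
      intro h2
      exact hord (orderOf_eq_prime h2 hx1)
    have heven := Helper20.even_index_centralizer_of_real (hamb x) hx2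
    have hle : (S : Subgroup G) ≤ Subgroup.centralizer ({x} : Set G) := by
      intro s hs
      rw [Subgroup.mem_centralizer_singleton_iff]
      exact (Subgroup.mem_centralizer_iff.mp hxS s hs)
    have hdvd := Subgroup.index_dvd_of_le hle
    exact S.not_dvd_index (heven.trans hdvd)
  · intro z hz
    obtain ⟨c, hc⟩ := isConj_iff.mp (hamb z)
    have h1 : c * z * c⁻¹ = z := by
      rw [Subgroup.mem_center_iff] at hz
      rw [hz c, mul_assoc, mul_inv_cancel, mul_one]
    rw [h1] at hc
    rw [pow_two]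
    nth_rewrite 1 [hc]
    exact inv_mul_cancel z
  · intro x
    obtain ⟨c, hc⟩ := isConj_iff.mp (hamb x)
    have h1 : x ^ 2 = x * c * x⁻¹ * c⁻¹ := by
      have : x = c * x⁻¹ * c⁻¹ := by
        calc x = (x⁻¹)⁻¹ := (inv_inv x).symm
          _ = (c * x * c⁻¹)⁻¹ := by rw [hc]
          _ = c * x⁻¹ * c⁻¹ := by group
      rw [pow_two]
      nth_rewrite 2 [this]
      group
    rw [h1]
    rw [commutator_def]
    exact Subgroup.commutator_mem_commutator (Subgroup.mem_top x) (Subgroup.mem_top c)
  · set T := Subgroup.closure {x : G | ∃ k : ℕ, orderOf x = 2 ^ k} with hT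
    have hTn : T.Normal := by
      apply Helper20.closure_normal_of_conj_invariant
      rintro g x ⟨k, hk⟩
      refine ⟨k, ?_⟩
      rw [← hk]
      have := MulEquiv.orderOf_eq (MulAut.conj g) x
      rw [MulAut.conj_apply] at this
      exact this
    rw [eq_top_iff]
    intro x _
    obtain ⟨u, v, hxuv, -, hu, hv, -, -⟩ := Helper20.exists_pPart_decomp 2 x (orderOf_pos x)
    have huT : u ∈ T := Subgroup.subset_closure hu
    have hodd : Odd (orderOf v) := by
      rw [Nat.odd_iff]
      rcases Nat.mod_two_eq_zero_or_one (orderOf v) with h0 | h1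
      · exfalso
        have : 2 ∣ Nat.gcd (orderOf v) 2 := Nat.dvd_gcd (Nat.dvd_of_mod_eq_zero h0) (dvd_refl 2)
        rw [hv] at this
        omega
      · exact h1
    obtain ⟨c, hc⟩ := isConj_iff.mp (hamb v)
    obtain ⟨g, hg, hgv⟩ := Helper20.exists_two_element_inverting hc
    have hgT : g ∈ T := Subgroup.subset_closure hg
    have hv2 : (v ^ 2)⁻¹ ∈ T := by
      have e : (v ^ 2)⁻¹ = g * (v * g⁻¹ * v⁻¹) := by
        calc (v ^ 2)⁻¹ = v⁻¹ * v⁻¹ := by rw [pow_two, mul_inv_rev]
          _ = (g * v * g⁻¹) * v⁻¹ := by rw [hgv]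
          _ = g * (v * g⁻¹ * v⁻¹) := by group
      rw [e]
      exact T.mul_mem hgT (hTn.conj_mem _ (T.inv_mem hgT) v)
    have hv2' : v ^ 2 ∈ T := by
      have := T.inv_mem hv2
      rwa [inv_inv] at this
    obtain ⟨k, hk⟩ := Helper20.eq_sq_pow_of_odd_orderOf hodd
    have hvT : v ∈ T := by
      rw [hk]; exact T.pow_mem hv2' k
    rw [hxuv]
    exact T.mul_mem huT hvT

end Cfsg.Agent.S4059
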