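import Mathlib
import Cfsg.Statements.S4060
import Cfsg.Agent.Lib.Helper20.RealElements
import Cfsg.Agent.Lib.Helper17.SpectrumIterate

set_option autoImplicit false
open Cfsg

namespace Cfsg.Agent.S4060

universe u

theorem key (n : ℕ) : ∀ (G : Type u) [Group G] [Finite G] [Group.IsSolvable G], Nat.card G = n →
    ∀ (S : Sylow 2 G) (x : G), x ≠ 1 → Odd (orderOf x) →
    x ∈ Subgroup.normalizer ((S : Subgroup G) : Set G) → ¬ IsConj x x⁻¹ := by
  induction n using Nat.strong_induction_on with
  | _ n ih =>
    intro G _ _ _ hcard S x hx hodd hnorm hreal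
    have : Fact (Nat.Prime 2) := ⟨Nat.prime_two⟩
    have hnt : (⊤ : Subgroup G) ≠ ⊥ := by
      intro h
      apply hx
      have : x ∈ (⊤ : Subgroup G) := Subgroup.mem_top x
      rw [h] at this
      exact Subgroup.mem_bot.mp this
    have hsolv : Group.IsSolvable (⊤ : Subgroup G) :=
      Group.isSolvable_of_isSolvable_injective (f := (⊤ : Subgroup G).subtype) Subtype.coe_injective
    obtain ⟨V, q, hVn, hVne, hq, hVq⟩ :=
      Cfsg.Agent.Helper17.exists_normal_prime_exponent (⊤ : Subgroup G) hnt hsolv
    -- x ∈ V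
    have hxV : x ∈ V := by
      by_contra hxV
      have hlt : Nat.card (G ⧸ V) < n := by
        rw [← hcard, ← Subgroup.index_eq_card]
        have h1 : V.index * Nat.card V = Nat.card G := V.index_mul_card
        have h2 : 1 < Nat.card V := by
          rw [Subgroup.one_lt_card_iff_ne_bot]; exact hVne
        have h3 : 0 < V.index := Nat.pos_of_ne_zero (Subgroup.index_ne_zero_of_finite)
        nlinarith
      have hsurj : Function.Surjective (QuotientGroup.mk' V) := QuotientGroup.mk'_surjective V
      have hxbar : (QuotientGroup.mk' V x) ≠ 1 := by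
        intro h
        apply hxV
        rwa [QuotientGroup.mk'_apply, QuotientGroup.eq_one_iff] at h
      have hoddbar : Odd (orderOf (QuotientGroup.mk' V x)) := by
        have hd : orderOf (QuotientGroup.mk' V x) ∣ orderOf x := orderOf_map_dvd _ x
        exact Odd.of_dvd_nat hodd hd
      have hnormbar : QuotientGroup.mk' V x ∈ Subgroup.normalizer
          (((S.mapSurjective hsurj : Sylow 2 (G ⧸ V)) : Subgroup (G ⧸ V)) : Set (G ⧸ V)) := by
        rw [Sylow.coe_mapSurjective]
        exact Subgroup.le_normalizer_map _ (Subgroup.mem_map_of_mem _ hnorm)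
      have hrealbar : IsConj (QuotientGroup.mk' V x) (QuotientGroup.mk' V x)⁻¹ := by
        rw [← map_inv]
        exact (QuotientGroup.mk' V).map_isConj hreal
      exact ih _ hlt (G ⧸ V) rfl (S.mapSurjective hsurj) _ hxbar hoddbar hnormbar hrealbar
    -- V ∩ S = 1
    have hx2 : x ^ 2 ≠ 1 := by
      intro h2
      have hd : orderOf x ∣ 2 := orderOf_dvd_of_pow_eq_one h2
      have h1 : orderOf x = 1 := by
        rcases (Nat.dvd_prime Nat.prime_two).mp hd with h | h
        · exact h
        · rw [h] at hodd; exact absurd hodd (by decide)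
      exact hx (orderOf_eq_one_iff.mp h1)
    have hq2 : q ≠ 2 := by
      rintro rfl
      exact hx2 (hVq x hxV)
    have hVS : ∀ y : G, y ∈ V → y ∈ (S : Subgroup G) → y = 1 := by
      intro y hyV hyS
      obtain ⟨k, hk⟩ := (IsPGroup.iff_orderOf.mp S.isPGroup') ⟨y, hyS⟩
      rw [Subgroup.orderOf_mk] at hk
      have h1 : orderOf y ∣ q := orderOf_dvd_of_pow_eq_one (hVq y hyV)
      rw [hk] at h1
      have hcop : Nat.Coprime (2 ^ k) q :=
        Nat.Coprime.pow_left k ((Nat.coprime_primes Nat.prime_two hq).mpr (Ne.symm hq2))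
      have : 2 ^ k = 1 := Nat.eq_one_of_dvd_coprimes hcop (dvd_refl _) h1
      rw [this] at hk
      exact orderOf_eq_one_iff.mp hk
    have hle : (S : Subgroup G) ≤ Subgroup.centralizer ({x} : Set G) := by
      intro s hs
      rw [Subgroup.mem_centralizer_singleton_iff]
      have h1 : x * s * x⁻¹ ∈ (S : Subgroup G) :=
        (Subgroup.mem_set_normalizer_iff.mp hnorm s).mp hs
      have h2 : x * s * x⁻¹ * s⁻¹ ∈ (S : Subgroup G) :=
        Subgroup.mul_mem _ h1 (Subgroup.inv_mem _ hs)
      have h3 : x * s * x⁻¹ * s⁻¹ ∈ V := by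
        have e : x * s * x⁻¹ * s⁻¹ = x * (s * x⁻¹ * s⁻¹) := by group
        rw [e]
        exact V.mul_mem hxV (hVn.conj_mem _ (V.inv_mem hxV) s)
      have h4 := hVS _ h3 h2
      calc s * x = (x * s * x⁻¹ * s⁻¹)⁻¹ * (x * s) := by group
        _ = x * s := by rw [h4]; group
    have heven := Helper20.even_index_centralizer_of_real hreal hx2
    exact S.not_dvd_index (heven.trans (Subgroup.index_dvd_of_le hle))

/-- Let G be a finite solvable group with Sylow 2-subgroup S, and let x ≠ 1 be an element of odd order normalizing S. Then x is not conjugate to its inverse in G. -/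
theorem result {G : Type*} [Group G] [Finite G] [Group.IsSolvable G]
    (S : Sylow 2 G) (x : G) (hx : x ≠ 1) (hodd : Odd (orderOf x))
    (hnorm : x ∈ Subgroup.normalizer ((S : Subgroup G) : Set G)) : ¬ IsConj x x⁻¹ := by
  exact key (Nat.card G) G rfl S x hx hodd hnorm

end Cfsg.Agent.S4060
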