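import Mathlib
import Cfsg.Statements.S4061
import Cfsg.Agent.Lib.Helper5.RealSolv
import Cfsg.Agent.Lib.Helper16.UniqueInvolution
import Cfsg.Agent.Lib.Helper9.PPrimeCoreSub
import Cfsg.Agent.Lib.Helper22.PPrimeCore

set_option autoImplicit false
open Cfsg

namespace Cfsg.Agent.S4061

open Subgroup Cfsg.Agent.Helper5.RealSolv
open scoped commutatorElement

section aux

variable {G : Type*} [Group G] [Finite G]

theorem odd_card_core : Odd (Nat.card (Cfsg.pPrimeCore 2 G)) :=
  Nat.coprime_two_right.1 (Cfsg.Agent.Helper22.card_pPrimeCore_coprime (G := G) 2)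

/-- no nontrivial `2`-elements in `O(G)` -/
theorem eq_one_of_mem_core {w : G} (hw : w ∈ Cfsg.pPrimeCore 2 G) {j : ℕ}
    (hj : w ^ (2 ^ j) = 1) : w = 1 := by
  have h1 : orderOf (⟨w, hw⟩ : Cfsg.pPrimeCore 2 G) ∣ Nat.card (Cfsg.pPrimeCore 2 G) :=
    orderOf_dvd_natCard _
  rw [Subgroup.orderOf_mk] at h1
  exact eq_one_of_odd_of_pow_two_pow (Odd.of_dvd_nat odd_card_core h1) hj

theorem odd_order_of_mem_core {w : G} (hw : w ∈ Cfsg.pPrimeCore 2 G) : Odd (orderOf w) := by
  have h1 : orderOf (⟨w, hw⟩ : Cfsg.pPrimeCore 2 G) ∣ Nat.card (Cfsg.pPrimeCore 2 G) :=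
    orderOf_dvd_natCard _
  rw [Subgroup.orderOf_mk] at h1
  exact Odd.of_dvd_nat odd_card_core h1

theorem pow_card_core {w : G} (hw : w ∈ Cfsg.pPrimeCore 2 G) :
    w ^ Nat.card (Cfsg.pPrimeCore 2 G) = 1 := by
  have h1 : orderOf (⟨w, hw⟩ : Cfsg.pPrimeCore 2 G) ∣ Nat.card (Cfsg.pPrimeCore 2 G) :=
    orderOf_dvd_natCard _
  rw [Subgroup.orderOf_mk] at h1
  exact orderOf_dvd_iff_pow_eq_one.1 h1

theorem sq_eq_one_of_orderOf {A : Type*} [Group A] {s : A} (hs : orderOf s = 2) : s ^ 2 = 1 := by
  have := pow_orderOf_eq_one s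
  rwa [hs] at this

/-- an element of odd order with `c = c⁻¹` is trivial -/
theorem eq_one_of_odd_of_eq_inv {c : G} (hodd : Odd (orderOf c)) (h : c = c⁻¹) : c = 1 := by
  have h1 : c ^ 2 = 1 := by
    rw [pow_two]; nth_rewrite 2 [h]; exact mul_inv_cancel c
  exact eq_one_of_odd_of_pow_two_pow (j := 1) hodd (by simpa using h1)

end aux

/-- Let G be a finite solvable group of even order in which every element is conjugate to its inverse and all involutions are conjugate. Then a Sylow 2-subgroup S of G has order 2 or is a generalized quaternion group (of order at least 8). Moreover, if S has order 2, then G is the semidirect product of its largest normal subgroup of odd order O(G) by S, O(G) equals the derived subgroup of G, and the involution of S inverts every element of O(G). -/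
theorem result {G : Type*} [Group G] [Finite G] [Group.IsSolvable G]
    (hamb : ∀ x : G, IsConj x x⁻¹) (heven : 2 ∣ Nat.card G) (hone : ∀ s t : G, orderOf s = 2 → orderOf t = 2 → IsConj s t) (S : Sylow 2 G) :
    (Nat.card S = 2 ∨ ∃ n : ℕ, Nonempty ((S : Subgroup G) ≃* QuaternionGroup (2 ^ (n + 1)))) ∧
    (Nat.card S = 2 → (S : Subgroup G).IsComplement' (Cfsg.oddCore G) ∧ Cfsg.oddCore G = commutator G ∧
        ∀ t : G, t ∈ S → t ≠ 1 → ∀ x : G, x ∈ Cfsg.oddCore G → t * x * t⁻¹ = x⁻¹) := by
  classical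
  haveI : Fact (Nat.Prime 2) := ⟨Nat.prime_two⟩
  haveI hKn : (Cfsg.pPrimeCore 2 G).Normal := Cfsg.Agent.Helper22.pPrimeCore_normal 2
  have hSp : IsPGroup 2 (S : Subgroup G) := S.2
  -- every element of S is a 2-element
  have hS2 : ∀ z ∈ (S : Subgroup G), ∃ j : ℕ, z ^ (2 ^ j) = 1 := by
    intro z hz
    obtain ⟨j, hj⟩ := hSp ⟨z, hz⟩
    exact ⟨j, by simpa using congrArg Subtype.val hj⟩
  have hSK : ∀ z ∈ (S : Subgroup G), z ∈ Cfsg.pPrimeCore 2 G → z = 1 := by
    intro z hz hzK
    obtain ⟨j, hj⟩ := hS2 z hz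
    exact eq_one_of_mem_core hzK hj
  -- an involution of G
  obtain ⟨s0, hs0⟩ := exists_prime_orderOf_dvd_card' 2 heven
  -- the quotient
  have hsolq : Group.IsSolvable (G ⧸ Cfsg.pPrimeCore 2 G) := inferInstance
  have hOq : Cfsg.pPrimeCore 2 (G ⧸ Cfsg.pPrimeCore 2 G) = ⊥ :=
    Cfsg.Agent.Helper9.pPrimeCore_quotient_eq_bot 2
  have hrealq : ∀ x : G ⧸ Cfsg.pPrimeCore 2 G, IsConj x x⁻¹ := by
    intro x
    obtain ⟨x, rfl⟩ := QuotientGroup.mk_surjective x
    have := (QuotientGroup.mk' (Cfsg.pPrimeCore 2 G)).map_isConj (hamb x)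
    simpa using this
  -- image of an involution is an involution
  have himg : ∀ s : G, orderOf s = 2 →
      orderOf (s : G ⧸ Cfsg.pPrimeCore 2 G) = 2 := by
    intro s hs
    apply orderOf_eq_prime
    · rw [← QuotientGroup.mk_pow, sq_eq_one_of_orderOf hs]; rfl
    · intro h1
      have h2 : s ∈ Cfsg.pPrimeCore 2 G := (QuotientGroup.eq_one_iff s).1 h1
      have h3 : s ^ (2 ^ 1) = 1 := by rw [pow_one]; exact sq_eq_one_of_orderOf hs
      have h4 := eq_one_of_mem_core h2 h3
      rw [h4, orderOf_one] at hs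
      norm_num at hs
  -- lifting involutions
  have hlift : ∀ sb : G ⧸ Cfsg.pPrimeCore 2 G, orderOf sb = 2 →
      ∃ s : G, orderOf s = 2 ∧ (s : G ⧸ Cfsg.pPrimeCore 2 G) = sb := by
    intro sb hsb
    obtain ⟨t, rfl⟩ := QuotientGroup.mk_surjective sb
    obtain ⟨j, hj⟩ := odd_card_core (G := G)
    have ht2 : ((t : G ⧸ Cfsg.pPrimeCore 2 G)) ^ 2 = 1 := sq_eq_one_of_orderOf hsb
    have ht2K : t ^ 2 ∈ Cfsg.pPrimeCore 2 G := by
      rw [← QuotientGroup.eq_one_iff, QuotientGroup.mk_pow]; exact ht2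
    have hun : ((t ^ Nat.card (Cfsg.pPrimeCore 2 G) : G) : G ⧸ Cfsg.pPrimeCore 2 G) = t := by
      rw [QuotientGroup.mk_pow, hj, pow_succ, pow_mul, ht2, one_pow, one_mul]
    refine ⟨t ^ Nat.card (Cfsg.pPrimeCore 2 G), ?_, hun⟩
    apply orderOf_eq_prime
    · rw [← pow_mul, mul_comm, pow_mul]
      exact pow_card_core ht2K
    · intro h1
      rw [h1] at hun
      have h2 : orderOf ((t : G ⧸ Cfsg.pPrimeCore 2 G)) = 1 := by
        rw [← hun]; simp
      rw [hsb] at h2
      norm_num at h2
  have honeq : ∀ s t : G ⧸ Cfsg.pPrimeCore 2 G, orderOf s = 2 → orderOf t = 2 → IsConj s t := by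
    intro s t hs ht
    obtain ⟨s', hs', rfl⟩ := hlift s hs
    obtain ⟨t', ht', rfl⟩ := hlift t ht
    exact (QuotientGroup.mk' (Cfsg.pPrimeCore 2 G)).map_isConj (hone s' t' hs' ht')
  have huq := invol_unique hsolq hOq hrealq honeq (himg s0 hs0)
  -- unique involution in S
  have huniq : ∀ s t : G, s ∈ (S : Subgroup G) → t ∈ (S : Subgroup G) →
      orderOf s = 2 → orderOf t = 2 → s = t := by
    intro s t hsS htS hs ht
    have h1 := huq _ _ (himg s hs) (himg t ht)
    have h2 : s⁻¹ * t ∈ Cfsg.pPrimeCore 2 G := QuotientGroup.eq.1 h1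
    have h3 := hSK _ ((S : Subgroup G).mul_mem ((S : Subgroup G).inv_mem hsS) htS) h2
    exact inv_mul_eq_one.1 h3
  have hUO : Cfsg.Agent.Helper16.UniqueOrderP 2 (S : Subgroup G) := by
    intro x y hx hy
    rw [← Subgroup.orderOf_coe] at hx hy
    have := huniq x y x.2 y.2 hx hy
    have hxy : x = y := Subtype.ext this
    rw [hxy]; exact mem_zpowers y
  have hSne : (S : Subgroup G) ≠ ⊥ := S.ne_bot_of_dvd_card heven
  -- cyclic case
  have hcyc : IsCyclic (S : Subgroup G) → Nat.card S = 2 := by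
    intro hc
    obtain ⟨k, hk⟩ := IsPGroup.iff_card.1 hSp
    rcases Nat.lt_or_ge k 2 with hk2 | hk2
    · interval_cases k
      · exfalso
        rw [pow_zero] at hk
        exact hSne (Subgroup.card_eq_one.1 hk)
      · simpa using hk
    · exfalso
      obtain ⟨g, hg⟩ := hc.exists_generator
      have hgo : orderOf g = 2 ^ k := by
        rw [orderOf_eq_card_of_forall_mem_zpowers hg, hk]
      -- element of order 4
      have hto : orderOf (g ^ (2 ^ (k - 2))) = 4 := by
        rw [orderOf_pow_of_dvd (pow_pos (by norm_num) _).ne', hgo]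
        · have : 2 ^ k = 2 ^ (k - 2) * 4 := by
            rw [show (4 : ℕ) = 2 ^ 2 by norm_num, ← pow_add]; congr 1; omega
          rw [this, Nat.mul_div_cancel_left _ (pow_pos (by norm_num) _)]
        · rw [hgo]; exact pow_dvd_pow 2 (by omega)
      obtain ⟨t, htdef⟩ : ∃ t : G, t = ((g ^ (2 ^ (k - 2)) : (S : Subgroup G)) : G) := ⟨_, rfl⟩
      have htS : t ∈ (S : Subgroup G) := by rw [htdef]; exact (g ^ (2 ^ (k - 2))).2
      have hto' : orderOf t = 4 := by rw [htdef, Subgroup.orderOf_coe]; exact hto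
      obtain ⟨w, j, hwj, hwt⟩ := exists_two_elt_inverting (hamb t)
      have hwinv : w⁻¹ * t * w = t⁻¹ := Cfsg.Agent.Helper16.inv_conj_of_conj_inv hwt
      have hnorm : zpowers w ≤ normalizer ((zpowers t : Subgroup G) : Set G) := by
        rw [zpowers_le, mem_normalizer_iff]
        intro z
        constructor
        · intro hz
          obtain ⟨i, rfl⟩ := mem_zpowers_iff.1 hz
          rw [← conj_zpow, hwt]
          exact (zpowers t).zpow_mem ((zpowers t).inv_mem (mem_zpowers t)) i
        · intro hz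
          obtain ⟨i, hi⟩ := mem_zpowers_iff.1 hz
          have h1 : z = w⁻¹ * t ^ i * w := by rw [hi]; group
          have h2 : w⁻¹ * t ^ i * w = (w⁻¹ * t * w) ^ i := by
            have := conj_zpow (a := w⁻¹) (b := t) (i := i)
            rw [inv_inv] at this
            exact this.symm
          rw [h1, h2, hwinv]
          exact (zpowers t).zpow_mem ((zpowers t).inv_mem (mem_zpowers t)) i
      have hwp : IsPGroup 2 (zpowers w) := by
        apply IsPGroup.of_card (n := j)
        rw [Nat.card_zpowers, hwj]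
      have htp : IsPGroup 2 (zpowers t) := by
        apply IsPGroup.of_card (n := 2)
        rw [Nat.card_zpowers, hto']; norm_num
      have hPp := IsPGroup.to_sup_of_normal_right' hwp htp hnorm
      obtain ⟨S', hS'⟩ := hPp.exists_le_sylow
      have hwS' : w ∈ (S' : Subgroup G) :=
        hS' ((le_sup_left : zpowers w ≤ zpowers w ⊔ zpowers t) (mem_zpowers w))
      have htS' : t ∈ (S' : Subgroup G) :=
        hS' ((le_sup_right : zpowers t ≤ zpowers w ⊔ zpowers t) (mem_zpowers t))
      haveI : IsCyclic (S' : Subgroup G) :=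
        isCyclic_of_surjective (Sylow.equiv S S') (Sylow.equiv S S').surjective
      letI := IsCyclic.commGroup (α := (S' : Subgroup G))
      have hcomm : (⟨w, hwS'⟩ : (S' : Subgroup G)) * ⟨t, htS'⟩ = ⟨t, htS'⟩ * ⟨w, hwS'⟩ :=
        mul_comm _ _
      have hcomm' : w * t = t * w := congrArg Subtype.val hcomm
      have h5 : t = t⁻¹ := by
        rw [← hwt, hcomm', mul_inv_cancel_right]
      have h6 : t ^ 2 = 1 := by
        rw [pow_two]; nth_rewrite 2 [h5]; exact mul_inv_cancel t
      have h7 := orderOf_dvd_of_pow_eq_one h6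
      rw [hto'] at h7
      norm_num at h7
  refine ⟨?_, ?_⟩
  · rcases Cfsg.Agent.Helper16.cyclic_or_quaternion_of_uniqueOrderP_two hSp hUO with hc | ⟨n, ⟨e⟩⟩
    · exact Or.inl (hcyc hc)
    · rcases Nat.eq_zero_or_pos n with hn | hn
      · left
        apply hcyc
        rw [hn, pow_zero] at e
        haveI := QuaternionGroup.quaternionGroup_one_isCyclic
        exact isCyclic_of_surjective e.symm e.symm.surjective
      · right
        refine ⟨n - 1, ?_⟩
        have : n - 1 + 1 = n := by omega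
        rw [this]
        exact ⟨e⟩
  · intro hcard
    have hcard' : Nat.card (S : Subgroup G) = 2 := hcard
    obtain ⟨t0, ht0, ht0u⟩ := (Nat.card_eq_two_iff' (1 : (S : Subgroup G))).1 hcard'
    have hSelts : ∀ z ∈ (S : Subgroup G), z ≠ 1 → z = (t0 : G) := by
      intro z hz hz1
      have := ht0u ⟨z, hz⟩ (by intro h; exact hz1 (congrArg Subtype.val h))
      exact congrArg Subtype.val this
    have hN : normalizer ((S : Subgroup G) : Set G) ≤ centralizer ((S : Subgroup G) : Set G) := by
      intro g hg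
      rw [mem_centralizer_iff]
      intro z hz
      by_cases hz1 : z = 1
      · rw [hz1]; simp
      · have h1 : g * z * g⁻¹ ∈ (S : Subgroup G) := (mem_normalizer_iff.1 hg z).1 hz
        have h2 : g * z * g⁻¹ ≠ 1 := by
          intro h
          apply hz1
          have h3 : z = g⁻¹ * (g * z * g⁻¹) * g := by group
          rw [h3, h]; group
        have h3 := hSelts _ h1 h2
        have h4 := hSelts z hz hz1
        have h5 : g * z * g⁻¹ = z := by rw [h3, h4]
        calc z * g = (g * z * g⁻¹) * g := by rw [h5]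
          _ = g * z := by group
    have hM := MonoidHom.ker_transferSylow_isComplement' S hN
    obtain ⟨M, hMdef⟩ : ∃ M : Subgroup G, M = (MonoidHom.transferSylow S hN).ker := ⟨_, rfl⟩
    rw [← hMdef] at hM
    haveI hMn : M.Normal := by rw [hMdef]; exact MonoidHom.normal_ker _
    have hMidx : (S : Subgroup G).index = Nat.card M := hM.index_eq_card
    have hMcop : (Nat.card M).Coprime 2 := by
      rw [← hMidx]
      have := S.card_coprime_index
      rw [hcard'] at this
      exact this.symm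
    have hMK : M ≤ Cfsg.pPrimeCore 2 G := Cfsg.Agent.Helper22.le_pPrimeCore 2 M hMn hMcop
    have hcardG : Nat.card M * Nat.card (S : Subgroup G) = Nat.card G := hM.card_mul_card
    have hKM : Cfsg.pPrimeCore 2 G = M := by
      symm
      apply Subgroup.eq_of_le_of_card_ge hMK
      have h1 : Nat.card (Cfsg.pPrimeCore 2 G) ∣ Nat.card M * Nat.card (S : Subgroup G) := by
        rw [hcardG]; exact Subgroup.card_subgroup_dvd_card _
      rw [hcard'] at h1
      have h2 := Nat.Coprime.dvd_of_dvd_mul_right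
        (Cfsg.Agent.Helper22.card_pPrimeCore_coprime (G := G) 2) h1
      exact Nat.le_of_dvd Nat.card_pos h2
    have hcompl : (S : Subgroup G).IsComplement' (Cfsg.pPrimeCore 2 G) := by
      rw [hKM]; exact hM.symm
    have hidx : (Cfsg.pPrimeCore 2 G).index = 2 := by
      rw [hcompl.index_eq_card]; exact hcard'
    -- inversion
    have hinvert : ∀ t : G, t ∈ S → t ≠ 1 → ∀ x : G, x ∈ Cfsg.pPrimeCore 2 G →
        t * x * t⁻¹ = x⁻¹ := by
      intro t htS ht1
      have htK : t ∉ Cfsg.pPrimeCore 2 G := fun h => ht1 (hSK t htS h)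
      have ht2 : t ^ 2 = 1 := by
        have := pow_card_eq_one' (G := (S : Subgroup G)) (x := ⟨t, htS⟩)
        rw [hcard'] at this
        exact congrArg Subtype.val this
      have htinv : t⁻¹ = t := by
        rw [inv_eq_iff_mul_eq_one, ← pow_two, ht2]
      -- fixed points are trivial
      have hfix : ∀ c : G, c ∈ Cfsg.pPrimeCore 2 G → t * c * t⁻¹ = c → c = 1 := by
        intro c hcK hct
        have hcodd := odd_order_of_mem_core hcK
        by_contra hc1
        obtain ⟨w, j, hwj, hwc⟩ := exists_two_elt_inverting (hamb c)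
        have hwK : w ∉ Cfsg.pPrimeCore 2 G := by
          intro hw
          have hw1 : w = 1 := eq_one_of_mem_core hw (j := j) (by rw [← hwj, pow_orderOf_eq_one])
          rw [hw1, one_mul, inv_one, mul_one] at hwc
          exact hc1 (eq_one_of_odd_of_eq_inv hcodd hwc)
        have hz : t * w ∈ Cfsg.pPrimeCore 2 G := by
          rw [Subgroup.mul_mem_iff_of_index_two hidx]
          exact ⟨fun h => absurd h htK, fun h => absurd h hwK⟩
        have hzc : (t * w) * c * (t * w)⁻¹ = c⁻¹ := by
          have h1 : (t * w) * c * (t * w)⁻¹ = t * (w * c * w⁻¹) * t⁻¹ := by group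
          rw [h1, hwc]
          have h2 : t * c⁻¹ * t⁻¹ = (t * c * t⁻¹)⁻¹ := by group
          rw [h2, hct]
        have hzodd := odd_order_of_mem_core hz
        have h3 := conj_pow_parity hzc (orderOf (t * w))
        rw [if_neg (Nat.not_even_iff_odd.2 hzodd), pow_orderOf_eq_one, one_mul, inv_one,
          mul_one] at h3
        exact hc1 (eq_one_of_odd_of_eq_inv hcodd h3)
      intro x hxK
      -- the map y ↦ y⁻¹ * (t y t⁻¹) on K is injective hence surjective
      have hconjK : ∀ y : G, y ∈ Cfsg.pPrimeCore 2 G → t * y * t⁻¹ ∈ Cfsg.pPrimeCore 2 G :=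
        fun y hy => hKn.conj_mem y hy t
      let φ : Cfsg.pPrimeCore 2 G → Cfsg.pPrimeCore 2 G := fun y =>
        ⟨(y : G)⁻¹ * (t * y * t⁻¹), (Cfsg.pPrimeCore 2 G).mul_mem
          ((Cfsg.pPrimeCore 2 G).inv_mem y.2) (hconjK y y.2)⟩
      have hφinj : Function.Injective φ := by
        intro a b hab
        have h1 : (a : G)⁻¹ * (t * a * t⁻¹) = (b : G)⁻¹ * (t * b * t⁻¹) :=
          congrArg Subtype.val hab
        have h2 : t * ((b : G) * (a : G)⁻¹) * t⁻¹ = (b : G) * (a : G)⁻¹ := by
          have h3 : t * ((b : G) * (a : G)⁻¹) * t⁻¹ = (t * b * t⁻¹) * (t * a * t⁻¹)⁻¹ := by group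
          rw [h3]
          have h4 : t * a * t⁻¹ = (a : G) * ((b : G)⁻¹ * (t * b * t⁻¹)) := by
            rw [← h1]; group
          rw [h4]; group
        have h5 := hfix _ ((Cfsg.pPrimeCore 2 G).mul_mem b.2
          ((Cfsg.pPrimeCore 2 G).inv_mem a.2)) h2
        apply Subtype.ext
        exact (mul_inv_eq_one.1 h5).symm
      have hφsurj : Function.Surjective φ := Finite.injective_iff_surjective.1 hφinj
      obtain ⟨y, hy⟩ := hφsurj ⟨x, hxK⟩
      have hxy : x = (y : G)⁻¹ * (t * y * t⁻¹) := (congrArg Subtype.val hy).symm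
      have h1 : t * (t * (y : G) * t⁻¹) * t⁻¹ = y := by
        rw [htinv]
        have : t * (t * (y : G) * t) * t = (t ^ 2) * y * (t ^ 2) := by rw [pow_two]; group
        rw [this, ht2, one_mul, mul_one]
      have h2 : t * x * t⁻¹ = (t * (y : G) * t⁻¹)⁻¹ * (t * (t * (y : G) * t⁻¹) * t⁻¹) := by
        rw [hxy]; group
      rw [h2, h1, hxy]; group
    refine ⟨hcompl, ?_, hinvert⟩
    -- O(G) = G'
    apply le_antisymm
    · intro x hxK
      obtain ⟨j, hj⟩ := odd_order_of_mem_core hxK
      have ht0S : (t0 : G) ∈ (S : Subgroup G) := t0.2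
      have ht01 : (t0 : G) ≠ 1 := fun h => ht0 (Subtype.ext h)
      have hyK : x ^ (j + 1) ∈ Cfsg.pPrimeCore 2 G := (Cfsg.pPrimeCore 2 G).pow_mem hxK _
      have hy2 : (x ^ (j + 1)) ^ 2 = x := by
        rw [← pow_mul, show (j + 1) * 2 = (2 * j + 1) + 1 by ring, ← hj, pow_succ,
          pow_orderOf_eq_one, one_mul]
      have h1 := hinvert t0 ht0S ht01 _ hyK
      have h2 : ⁅(t0 : G), x ^ (j + 1)⁆ ∈ commutator G := by
        rw [_root_.commutator_def]
        exact Subgroup.commutator_mem_commutator (mem_top _) (mem_top _)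
      rw [commutatorElement_def, h1, ← mul_inv_rev, ← pow_two, hy2] at h2
      exact (inv_mem_iff).1 h2
    · rw [_root_.commutator_def, Subgroup.commutator_le]
      intro a _ b _
      rw [commutatorElement_def, Subgroup.mul_mem_iff_of_index_two hidx, inv_mem_iff]
      constructor
      · intro h
        have := hKn.conj_mem _ h a⁻¹
        have h3 : a⁻¹ * (a * b * a⁻¹) * a⁻¹⁻¹ = b := by group
        rwa [h3] at this
      · intro h
        exact hKn.conj_mem b h a

end Cfsg.Agent.S4061
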