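import Mathlib
import Cfsg.Statements.S4062
import Cfsg.Agent.Lib.Helper1.SolvableBasic
import Cfsg.Agent.Lib.Helper20.Basic

set_option autoImplicit false
open Cfsg

namespace Cfsg.Agent.S4062

universe u

theorem orderOf_conj_eq {G : Type u} [Group G] (c x : G) : orderOf (c * x * c⁻¹) = orderOf x := by
  have := MulEquiv.orderOf_eq (MulAut.conj c) x
  rwa [MulAut.conj_apply] at this

/-- abelian case -/
theorem card_le_two_of_comm {G : Type u} [Group G] [Finite G]
    (h : ∀ x y : G, orderOf x = orderOf y → IsConj x y) (hc : ∀ a b : G, a * b = b * a) :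
    Nat.card G = 1 ∨ Nat.card G = 2 := by
  have hinj : ∀ x y : G, orderOf x = orderOf y → x = y := by
    intro x y hxy
    obtain ⟨c, hc'⟩ := isConj_iff.mp (h x y hxy)
    rw [← hc', hc c x, mul_inv_cancel_right]
  by_cases hall : ∀ x : G, x = 1
  · left
    haveI : Subsingleton G := ⟨fun a b => by rw [hall a, hall b]⟩
    exact Nat.card_of_subsingleton 1
  · right
    push Not at hall
    obtain ⟨x, hx⟩ := hall
    have h2 : ∀ z : G, z ≠ 1 → orderOf z = 2 := by
      intro z hz
      have h3 := hinj z z⁻¹ (orderOf_inv z).symm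
      have hz2 : z ^ 2 = 1 := by
        rw [pow_two]
        nth_rewrite 2 [h3]
        exact mul_inv_cancel z
      exact orderOf_eq_prime hz2 hz
    rw [Nat.card_eq_two_iff]
    refine ⟨1, x, hx.symm, ?_⟩
    ext y
    simp only [Set.mem_insert_iff, Set.mem_singleton_iff, Set.mem_univ, iff_true]
    by_cases hy : y = 1
    · left; exact hy
    · right
      apply hinj
      rw [h2 y hy, h2 x hx]

theorem pow_orderOf_mk_mem {G : Type u} [Group G] (N : Subgroup G) [N.Normal] (x : G) :
    x ^ orderOf (x : G ⧸ N) ∈ N := by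
  rw [← QuotientGroup.eq_one_iff, QuotientGroup.mk_pow, pow_orderOf_eq_one]

theorem orderOf_mk_dvd {G : Type u} [Group G] (N : Subgroup G) [N.Normal] (x : G) :
    orderOf (x : G ⧸ N) ∣ orderOf x :=
  orderOf_map_dvd (QuotientGroup.mk' N) x

theorem orderOf_lift_of_dvd {G : Type u} [Group G] [Finite G] (N : Subgroup G) [N.Normal]
    (p : ℕ) (hp : p.Prime)
    (hNp : ∀ n ∈ N, n ^ p = 1) (hall : ∀ x : G, orderOf x = p → x ∈ N) (x : G)
    (hdvd : p ∣ orderOf (x : G ⧸ N)) : orderOf x = p * orderOf (x : G ⧸ N) := by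
  set m := orderOf (x : G ⧸ N) with hm
  have hmpos : 0 < m := orderOf_pos _
  have hxm : x ^ m ∈ N := pow_orderOf_mk_mem N x
  have hmx : m ∣ orderOf x := orderOf_mk_dvd N x
  have hxmp : x ^ (m * p) = 1 := by rw [pow_mul]; exact hNp _ hxm
  have h1 : orderOf x ∣ m * p := orderOf_dvd_of_pow_eq_one hxmp
  have hne : x ^ m ≠ 1 := by
    intro h1m
    have h2 : orderOf x = m := Nat.dvd_antisymm (orderOf_dvd_of_pow_eq_one h1m) hmx
    obtain ⟨k, hk⟩ := hdvd
    have hkpos : 0 < k := by
      rcases Nat.eq_zero_or_pos k with h0 | h0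
      · rw [h0, mul_zero] at hk; omega
      · exact h0
    have h3 : orderOf (x ^ k) = p := by
      rw [orderOf_pow_of_dvd hkpos.ne' (by rw [h2, hk]; exact dvd_mul_left k p), h2, hk]
      exact Nat.mul_div_cancel p hkpos
    have h4 := hall _ h3
    have h5 : ((x : G ⧸ N)) ^ k = 1 := by
      rw [← QuotientGroup.mk_pow]; exact (QuotientGroup.eq_one_iff _).mpr h4
    have h6 : m ∣ k := orderOf_dvd_of_pow_eq_one h5
    have h7 : m ≤ k := Nat.le_of_dvd hkpos h6
    have hp2 := hp.two_le
    nlinarith
  obtain ⟨c, hc⟩ := hmx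
  have hcp : c ∣ p := by
    rw [hc] at h1; exact Nat.dvd_of_mul_dvd_mul_left hmpos h1
  rcases (Nat.dvd_prime hp).mp hcp with h | h
  · exfalso; apply hne; rw [h, mul_one] at hc; rw [← hc]; exact pow_orderOf_eq_one x
  · rw [hc, h, mul_comm]

theorem exists_lift_orderOf {G : Type u} [Group G] [Finite G] (N : Subgroup G) [N.Normal]
    (p : ℕ) (hp : p.Prime)
    (hNp : ∀ n ∈ N, n ^ p = 1) (xbar : G ⧸ N) (hnd : ¬ p ∣ orderOf xbar) :
    ∃ x : G, (x : G ⧸ N) = xbar ∧ orderOf x = orderOf xbar := by
  obtain ⟨x, rfl⟩ := QuotientGroup.mk_surjective xbar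
  set m := orderOf (x : G ⧸ N) with hm
  have hcop : Nat.Coprime m p := ((Nat.Prime.coprime_iff_not_dvd hp).mpr hnd).symm
  obtain ⟨k, hk1, hk0⟩ := Nat.chineseRemainder hcop 1 0
  have hxk : ((x ^ k : G) : G ⧸ N) = (x : G ⧸ N) := by
    rw [QuotientGroup.mk_pow]
    have : (x : G ⧸ N) ^ k = (x : G ⧸ N) ^ 1 := pow_eq_pow_iff_modEq.mpr hk1
    rw [this, pow_one]
  refine ⟨x ^ k, hxk, ?_⟩
  have hpk : p ∣ k := (Nat.modEq_zero_iff_dvd).mp hk0
  have hxm : x ^ m ∈ N := pow_orderOf_mk_mem N x
  have h1 : (x ^ k) ^ m = 1 := by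
    obtain ⟨j, hj⟩ := hpk
    rw [← pow_mul, mul_comm, pow_mul, hj, pow_mul, hNp _ hxm, one_pow]
  apply Nat.dvd_antisymm (orderOf_dvd_of_pow_eq_one h1)
  have := orderOf_mk_dvd N (x ^ k)
  rwa [hxk] at this

theorem quotient_prop {G : Type u} [Group G] [Finite G] (N : Subgroup G) [N.Normal]
    (p : ℕ) (hp : p.Prime)
    (hNp : ∀ n ∈ N, n ^ p = 1) (hall : ∀ x : G, orderOf x = p → x ∈ N)
    (h : ∀ x y : G, orderOf x = orderOf y → IsConj x y) :
    ∀ a b : G ⧸ N, orderOf a = orderOf b → IsConj a b := by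
  intro a b hab
  by_cases hd : p ∣ orderOf a
  · obtain ⟨x, rfl⟩ := QuotientGroup.mk_surjective a
    obtain ⟨y, rfl⟩ := QuotientGroup.mk_surjective b
    have hx := orderOf_lift_of_dvd N p hp hNp hall x hd
    have hy := orderOf_lift_of_dvd N p hp hNp hall y (hab ▸ hd)
    have := h x y (by rw [hx, hy, hab])
    exact (QuotientGroup.mk' N).map_isConj this
  · obtain ⟨x, rfl, hx⟩ := exists_lift_orderOf N p hp hNp a hd
    obtain ⟨y, rfl, hy⟩ := exists_lift_orderOf N p hp hNp b (hab ▸ hd)
    exact (QuotientGroup.mk' N).map_isConj (h x y (by rw [hx, hy, hab]))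


theorem equiv_perm_three {G : Type u} [Group G] [Finite G] (hcard : Nat.card G = 6)
    (hnc : ¬ ∀ a b : G, a * b = b * a) : Nonempty (G ≃* Equiv.Perm (Fin 3)) := by
  classical
  haveI : Fact (Nat.Prime 2) := ⟨Nat.prime_two⟩
  obtain ⟨t, ht⟩ := exists_prime_orderOf_dvd_card' (G := G) 2 (by rw [hcard]; norm_num)
  set H := Subgroup.zpowers t with hHdef
  have hH : Nat.card H = 2 := by rw [Nat.card_zpowers, ht]
  have hidx : H.index = 3 := by
    have := H.card_mul_index
    rw [hH, hcard] at this
    omega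
  let φ := MulAction.toPermHom G (G ⧸ H)
  have hker : φ.ker = H.normalCore := (Subgroup.normalCore_eq_ker H).symm
  have hkb : φ.ker = ⊥ := by
    have hle : φ.ker ≤ H := hker ▸ Subgroup.normalCore_le H
    by_contra hne
    have hcd : Nat.card φ.ker ∣ 2 := hH ▸ Subgroup.card_dvd_of_le hle
    have hc1 : Nat.card φ.ker ≠ 1 := fun h1 => hne (Subgroup.card_eq_one.mp h1)
    have hc2 : Nat.card φ.ker = 2 := by
      rcases (Nat.dvd_prime Nat.prime_two).mp hcd with h | h
      · exact absurd h hc1
      · exact h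
    have hkH : φ.ker = H := Subgroup.eq_of_le_of_card_ge hle (by rw [hc2, hH])
    haveI hHn : H.Normal := by rw [← hkH]; infer_instance
    have htc : H ≤ Subgroup.center G := by
      have ht1 : t ≠ 1 := by
        intro h1; rw [h1, orderOf_one] at ht; omega
      have key : ∀ g : G, g * t * g⁻¹ = t := by
        intro g
        have hm : g * t * g⁻¹ ∈ H := hHn.conj_mem t (Subgroup.mem_zpowers t) g
        obtain ⟨k, hk⟩ := Subgroup.mem_zpowers_iff.mp hm
        have h2 : t ^ (2 : ℤ) = 1 := by
          have := pow_orderOf_eq_one t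
          rw [ht] at this
          exact_mod_cast this
        rcases Int.emod_two_eq_zero_or_one k with h0 | h0
        · exfalso
          have : t ^ k = 1 := by
            have hk2 : k = 2 * (k / 2) := by omega
            rw [hk2, zpow_mul, h2, one_zpow]
          rw [this] at hk
          have : g * t * g⁻¹ = 1 := hk.symm
          apply ht1
          have h3 : t = g⁻¹ * (g * t * g⁻¹) * g := by group
          rw [h3, this]; group
        · have : t ^ k = t := by
            have hk2 : k = 2 * (k / 2) + 1 := by omega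
            rw [hk2, zpow_add, zpow_mul, h2, one_zpow, one_mul, zpow_one]
          rw [← hk, this]
      intro x hx
      obtain ⟨k, rfl⟩ := Subgroup.mem_zpowers_iff.mp hx
      apply Subgroup.zpow_mem
      rw [Subgroup.mem_center_iff]
      intro g
      have := key g
      calc g * t = g * t * g⁻¹ * g := by group
        _ = t * g := by rw [this]
    have hq3 : Nat.card (G ⧸ H) = 3 := by rw [← Subgroup.index_eq_card, hidx]
    haveI : Fact (Nat.Prime 3) := ⟨Nat.prime_three⟩
    haveI : IsCyclic (G ⧸ H) := isCyclic_of_prime_card hq3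
    apply hnc
    intro a b
    exact commutative_of_cyclic_center_quotient (QuotientGroup.mk' H)
      (by rw [QuotientGroup.ker_mk']; exact htc) a b
  have hinj : Function.Injective φ := (MonoidHom.ker_eq_bot_iff φ).mp hkb
  have hq3 : Nat.card (G ⧸ H) = 3 := by rw [← Subgroup.index_eq_card, hidx]
  have hcp : Nat.card G = Nat.card (Equiv.Perm (G ⧸ H)) := by
    rw [Nat.card_perm, hq3, hcard]; rfl
  have hbij : Function.Bijective φ :=
    (Nat.bijective_iff_injective_and_card φ).mpr ⟨hinj, hcp⟩
  let e : G ⧸ H ≃ Fin 3 := Finite.equivFinOfCardEq hq3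
  exact ⟨(MulEquiv.ofBijective φ hbij).trans (Equiv.permCongrHom e)⟩

theorem perm3_noncentral : ∀ σ : Equiv.Perm (Fin 3), σ ≠ 1 → ∃ τ : Equiv.Perm (Fin 3), τ * σ * τ⁻¹ ≠ σ := by
  decide

theorem perm3_noncomm : ∃ σ τ : Equiv.Perm (Fin 3), σ * τ ≠ τ * σ := by
  decide


theorem main (n : ℕ) : ∀ (G : Type u) [Group G] [Finite G] [Group.IsSolvable G], Nat.card G = n →
    (∀ x y : G, orderOf x = orderOf y → IsConj x y) →
    Nat.card G = 1 ∨ Nat.card G = 2 ∨ Nonempty (G ≃* Equiv.Perm (Fin 3)) := by
  induction n using Nat.strong_induction_on with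
  | _ n ih =>
  intro G _ _ _ hn h
  by_cases htriv : Nat.card G = 1
  · left; exact htriv
  haveI : Nontrivial G := by
    rw [← Finite.one_lt_card_iff_nontrivial]
    have := Nat.card_pos (α := G)
    omega
  obtain ⟨A, hAchar, hAne, hAc⟩ := Helper1.exists_normal_abelian_of_solvable G
  haveI hAn : A.Normal := inferInstance
  have hcardA : Nat.card A ≠ 1 := fun h1 => hAne (Subgroup.card_eq_one.mp h1)
  obtain ⟨p, hp, hpA⟩ := Nat.exists_prime_and_dvd hcardA
  haveI : Fact p.Prime := ⟨hp⟩
  obtain ⟨a, ha⟩ := exists_prime_orderOf_dvd_card' (G := A) p hpA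
  have hcommA : ∀ g k : G, g ∈ A → k ∈ A → g * k = k * g := by
    intro g k hg hk
    have := hAc.is_comm.comm (⟨g, hg⟩ : A) ⟨k, hk⟩
    exact Subtype.ext_iff.mp this
  let N : Subgroup G :=
    { carrier := {g | g ∈ A ∧ g ^ p = 1}
      one_mem' := ⟨A.one_mem, one_pow p⟩
      mul_mem' := by
        rintro g k ⟨hg, hg1⟩ ⟨hk, hk1⟩
        refine ⟨A.mul_mem hg hk, ?_⟩
        rw [(show Commute g k from hcommA g k hg hk).mul_pow, hg1, hk1, one_mul]
      inv_mem' := by
        rintro g ⟨hg, hg1⟩
        exact ⟨A.inv_mem hg, by rw [inv_pow, hg1, inv_one]⟩ }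
  have hNmem : ∀ g : G, g ∈ N ↔ g ∈ A ∧ g ^ p = 1 := fun g => Iff.rfl
  haveI hNn : N.Normal := ⟨fun m hm g => ⟨hAn.conj_mem m hm.1 g, by
    rw [conj_pow, hm.2, mul_one, mul_inv_cancel]⟩⟩
  set x₀ : G := (a : G) with hx₀def
  have hx₀ : orderOf x₀ = p := by rw [hx₀def, Subgroup.orderOf_coe]; exact ha
  have hx₀N : x₀ ∈ N := ⟨a.2, by rw [← hx₀]; exact pow_orderOf_eq_one _⟩
  have hNp : ∀ m ∈ N, m ^ p = 1 := fun m hm => hm.2
  have hall : ∀ x : G, orderOf x = p → x ∈ N := by
    intro x hx
    obtain ⟨c, hc⟩ := isConj_iff.mp (h x₀ x (by rw [hx₀, hx]))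
    rw [← hc]; exact hNn.conj_mem _ hx₀N c
  have hNcomm : ∀ g k : G, g ∈ N → k ∈ N → g * k = k * g :=
    fun g k hg hk => hcommA g k hg.1 hk.1
  have hQ := quotient_prop N p hp hNp hall h
  have hclass : {z : G | IsConj x₀ z} = (N : Set G) \ {1} := by
    ext z
    constructor
    · intro hz
      obtain ⟨c, hc⟩ := isConj_iff.mp hz
      have hzo : orderOf z = p := by rw [← hc, orderOf_conj_eq, hx₀]
      refine ⟨hall z hzo, ?_⟩
      intro h1
      rw [Set.mem_singleton_iff] at h1
      rw [h1, orderOf_one] at hzo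
      exact hp.one_lt.ne hzo
    · rintro ⟨hzN, hz1⟩
      apply h
      rw [hx₀]
      symm
      exact orderOf_eq_prime (hNp z hzN) hz1
  have hcl : (Subgroup.centralizer ({x₀} : Set G)).index = Nat.card N - 1 := by
    rw [← Helper20.ncard_isConj_eq_index, hclass,
      Set.ncard_diff_singleton_of_mem (show (1 : G) ∈ (N : Set G) from N.one_mem),
      ← Nat.card_coe_set_eq]
    rfl
  have hNle : N ≤ Subgroup.centralizer ({x₀} : Set G) := by
    intro m hm
    rw [Subgroup.mem_centralizer_singleton_iff]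
    exact hNcomm m x₀ hm hx₀N
  have hdvd : (Nat.card N - 1) ∣ N.index := hcl ▸ Subgroup.index_dvd_of_le hNle
  have hx₀1 : x₀ ≠ 1 := by
    intro h1; rw [h1, orderOf_one] at hx₀; exact hp.one_lt.ne hx₀
  have hN2 : 2 ≤ Nat.card N := by
    have : Nontrivial N := ⟨⟨⟨x₀, hx₀N⟩, 1, fun h1 => hx₀1 (Subtype.ext_iff.mp h1)⟩⟩
    exact Finite.one_lt_card
  have hcardG : Nat.card N * N.index = Nat.card G := N.card_mul_index
  have hidx : N.index = Nat.card (G ⧸ N) := Subgroup.index_eq_card N
  have hidxpos : 0 < N.index := Nat.pos_of_ne_zero (Subgroup.index_ne_zero_of_finite)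
  have hlt : Nat.card (G ⧸ N) < n := by
    rw [← hn, ← hcardG, ← hidx]
    nlinarith
  -- N is a p-group
  have hNpg : IsPGroup p N := by
    intro m
    refine ⟨1, ?_⟩
    rw [pow_one]
    exact Subtype.ext (by simpa using hNp m.1 m.2)
  obtain ⟨kN, hkN⟩ := (IsPGroup.iff_card).mp hNpg
  rcases ih _ hlt (G ⧸ N) rfl hQ with h1 | h2 | ⟨⟨e⟩⟩
  · -- G = N abelian
    have hNtop : N = ⊤ := by
      rw [← Subgroup.index_eq_one, hidx, h1]
    have hc : ∀ g k : G, g * k = k * g := by
      intro g k
      exact hNcomm g k (hNtop ▸ Subgroup.mem_top g) (hNtop ▸ Subgroup.mem_top k)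
    rcases card_le_two_of_comm h hc with h' | h'
    · left; exact h'
    · right; left; exact h'
  · -- index 2
    rw [← hidx] at h2
    rw [h2] at hdvd hcardG
    have hN23 : Nat.card N = 2 ∨ Nat.card N = 3 := by
      have := Nat.le_of_dvd (by norm_num) hdvd
      have h12 : Nat.card N - 1 = 1 ∨ Nat.card N - 1 = 2 := by
        rcases (Nat.dvd_prime Nat.prime_two).mp hdvd with h' | h'
        · left; exact h'
        · right; exact h'
      omega
    rcases hN23 with hN | hN
    · exfalso
      rw [hN] at hcardG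
      haveI : Fact (Nat.Prime 2) := ⟨Nat.prime_two⟩
      have hc := IsPGroup.commutative_of_card_eq_prime_sq (p := 2) (G := G) (by rw [← hcardG]; norm_num)
      rcases card_le_two_of_comm h hc with h' | h' <;> omega
    · rw [hN] at hcardG
      by_cases hc : ∀ g k : G, g * k = k * g
      · exfalso
        rcases card_le_two_of_comm h hc with h' | h' <;> omega
      · right; right
        exact equiv_perm_three (by rw [← hcardG]) hc
  · -- quotient is S3
    exfalso
    have hq6 : Nat.card (G ⧸ N) = 6 := by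
      rw [Nat.card_congr e.toEquiv, Nat.card_perm, Nat.card_fin]; rfl
    rw [← hidx] at hq6
    rw [hq6] at hdvd hcardG
    have hNle7 : Nat.card N - 1 ≤ 6 := Nat.le_of_dvd (by norm_num) hdvd
    by_cases hp6 : p ∣ 6
    · -- element of order p in the quotient
      obtain ⟨xb, hxb⟩ := exists_prime_orderOf_dvd_card' (G := G ⧸ N) p (by rw [← hidx, hq6]; exact hp6)
      obtain ⟨x, rfl⟩ := QuotientGroup.mk_surjective xb
      have hxo : orderOf x = p * p := by
        have := orderOf_lift_of_dvd N p hp hNp hall x (by rw [hxb])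
        rw [this, hxb]
      have hxb1 : (x : G ⧸ N) ≠ 1 := by
        intro h1; rw [h1, orderOf_one] at hxb; exact hp.one_lt.ne hxb
      have he1 : e (x : G ⧸ N) ≠ 1 := by
        intro h1
        apply hxb1
        have := e.injective (h1.trans (map_one e).symm)
        exact this
      obtain ⟨τ, hτ⟩ := perm3_noncentral _ he1
      obtain ⟨g, hg⟩ := QuotientGroup.mk_surjective (e.symm τ)
      have hgx : ((g * x * g⁻¹ : G) : G ⧸ N) ≠ (x : G ⧸ N) := by
        intro heq
        apply hτ
        have h2 : e ((g * x * g⁻¹ : G) : G ⧸ N) = e (x : G ⧸ N) := by rw [heq]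
        rw [QuotientGroup.mk_mul, QuotientGroup.mk_mul, QuotientGroup.mk_inv, hg, map_mul, map_mul,
          map_inv, MulEquiv.apply_symm_apply] at h2
        exact h2
      -- two cosets inside the class of x
      have hsub : (fun m : N => x * (m : G)) '' Set.univ ∪ (fun m : N => g * x * g⁻¹ * (m : G)) '' Set.univ ⊆
          {z : G | IsConj x z} := by
        rintro z (⟨m, -, rfl⟩ | ⟨m, -, rfl⟩)
        · apply h
          have hmk : ((x * (m : G) : G) : G ⧸ N) = (x : G ⧸ N) := by
            rw [QuotientGroup.mk_mul, (QuotientGroup.eq_one_iff (m : G)).mpr m.2, mul_one]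
          have := orderOf_lift_of_dvd N p hp hNp hall (x * (m : G)) (by rw [hmk, hxb])
          rw [this, hmk, hxb, hxo]
        · apply h
          have hmk : ((g * x * g⁻¹ * (m : G) : G) : G ⧸ N) = ((g * x * g⁻¹ : G) : G ⧸ N) := by
            rw [QuotientGroup.mk_mul N _ (m : G), (QuotientGroup.eq_one_iff (m : G)).mpr m.2, mul_one]
          have ho : orderOf ((g * x * g⁻¹ : G) : G ⧸ N) = p := by
            rw [QuotientGroup.mk_mul, QuotientGroup.mk_mul, QuotientGroup.mk_inv, orderOf_conj_eq, hxb]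
          have := orderOf_lift_of_dvd N p hp hNp hall (g * x * g⁻¹ * (m : G)) (by rw [hmk, ho])
          rw [this, hmk, ho, hxo]
      have hdisj : Disjoint ((fun m : N => x * (m : G)) '' Set.univ)
          ((fun m : N => g * x * g⁻¹ * (m : G)) '' Set.univ) := by
        rw [Set.disjoint_left]
        rintro z ⟨m, -, rfl⟩ ⟨m', -, hm'⟩
        apply hgx
        have h3 : ((g * x * g⁻¹ * (m' : G) : G) : G ⧸ N) = ((x * (m : G) : G) : G ⧸ N) :=
          congrArg _ hm'
        rw [QuotientGroup.mk_mul N _ (m' : G), (QuotientGroup.eq_one_iff (m' : G)).mpr m'.2, mul_one,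
          QuotientGroup.mk_mul N _ (m : G), (QuotientGroup.eq_one_iff (m : G)).mpr m.2, mul_one] at h3
        exact h3
      have hc1 : ((fun m : N => x * (m : G)) '' Set.univ).ncard = Nat.card N := by
        rw [Set.ncard_image_of_injective _ (fun m m' hmm => Subtype.ext (mul_left_cancel hmm)),
          Set.ncard_univ]
      have hc2 : ((fun m : N => g * x * g⁻¹ * (m : G)) '' Set.univ).ncard = Nat.card N := by
        rw [Set.ncard_image_of_injective _ (fun m m' hmm => Subtype.ext (mul_left_cancel hmm)),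
          Set.ncard_univ]
      have hle : 2 * Nat.card N ≤ (Subgroup.centralizer ({x} : Set G)).index := by
        rw [← Helper20.ncard_isConj_eq_index]
        calc 2 * Nat.card N = ((fun m : N => x * (m : G)) '' Set.univ ∪
              (fun m : N => g * x * g⁻¹ * (m : G)) '' Set.univ).ncard := by
              rw [Set.ncard_union_eq hdisj, hc1, hc2]; ring
          _ ≤ _ := Set.ncard_le_ncard hsub
      -- zpowers x ≤ centralizer
      have hzle : Subgroup.zpowers x ≤ Subgroup.centralizer ({x} : Set G) := by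
        rw [Subgroup.zpowers_le, Subgroup.mem_centralizer_singleton_iff]
      have hd2 : (Subgroup.centralizer ({x} : Set G)).index ∣ (Subgroup.zpowers x).index :=
        Subgroup.index_dvd_of_le hzle
      have hzi : Nat.card (Subgroup.zpowers x) * (Subgroup.zpowers x).index = Nat.card G :=
        (Subgroup.zpowers x).card_mul_index
      rw [Nat.card_zpowers, hxo, ← hcardG] at hzi
      have hzpos : 0 < (Subgroup.zpowers x).index := Nat.pos_of_ne_zero Subgroup.index_ne_zero_of_finite
      have hle2 := Nat.le_of_dvd hzpos hd2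
      have hp2 := hp.two_le
      have h44 : 4 ≤ p * p := by nlinarith
      have h45 : 4 * (Subgroup.zpowers x).index ≤ p * p * (Subgroup.zpowers x).index :=
        Nat.mul_le_mul_right _ h44
      omega
    · -- p ∤ 6: N has order 7
      have hN7 : Nat.card N = 7 := by
        have hNcases : Nat.card N - 1 = 1 ∨ Nat.card N - 1 = 2 ∨ Nat.card N - 1 = 3 ∨ Nat.card N - 1 = 6 := by
          have : Nat.card N - 1 ∈ Nat.divisors 6 := Nat.mem_divisors.mpr ⟨hdvd, by norm_num⟩
          have hdiv : Nat.divisors 6 = {1, 2, 3, 6} := by decide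
          rw [hdiv] at this
          simpa using this
        have hpN : p ∣ Nat.card N := by
          rw [hkN]
          have hk0 : kN ≠ 0 := by
            intro h0; rw [h0, pow_zero] at hkN; omega
          exact dvd_pow_self p hk0
        rcases hNcases with h' | h' | h' | h'
        · exfalso; apply hp6
          have : Nat.card N = 2 := by omega
          rw [this] at hpN
          exact dvd_trans hpN (by norm_num)
        · exfalso; apply hp6
          have : Nat.card N = 3 := by omega
          rw [this] at hpN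
          exact dvd_trans hpN (by norm_num)
        · exfalso; apply hp6
          have : Nat.card N = 4 := by omega
          rw [this] at hpN
          have h2 : p ∣ 2 := by
            have : p ∣ 2 * 2 := by simpa using hpN
            rcases (Nat.Prime.dvd_mul hp).mp this with h'' | h'' <;> exact h''
          exact dvd_trans h2 (by norm_num)
        · omega
      -- centralizer of x₀ equals N
      have hcx : Subgroup.centralizer ({x₀} : Set G) = N := by
        symm
        apply Subgroup.eq_of_le_of_card_ge hNle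
        have h4 := (Subgroup.centralizer ({x₀} : Set G)).card_mul_index
        rw [hcl, hN7, ← hcardG, hN7] at h4
        rw [hN7]
        omega
      -- N is generated by x₀
      have hgen : ∀ m ∈ N, ∃ k : ℕ, m = x₀ ^ k := by
        intro m hm
        haveI : Fact (Nat.Prime 7) := ⟨by norm_num⟩
        have htop := zpowers_eq_top_of_prime_card (G := N) (p := 7) hN7
          (g := ⟨x₀, hx₀N⟩) (fun h1 => hx₀1 (Subtype.ext_iff.mp h1))
        have hmem : (⟨m, hm⟩ : N) ∈ Subgroup.zpowers (⟨x₀, hx₀N⟩ : N) := by rw [htop]; trivial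
        rw [← mem_powers_iff_mem_zpowers] at hmem
        obtain ⟨k, hk⟩ := hmem
        exact ⟨k, by have := Subtype.ext_iff.mp hk; simpa using this.symm⟩
      have hcomm : ∀ a b : G ⧸ N, a * b = b * a := by
        intro a b
        obtain ⟨g, rfl⟩ := QuotientGroup.mk_surjective a
        obtain ⟨k, rfl⟩ := QuotientGroup.mk_surjective b
        obtain ⟨i, hi⟩ := hgen _ (hNn.conj_mem _ hx₀N g)
        obtain ⟨j, hj⟩ := hgen _ (hNn.conj_mem _ hx₀N k)
        have h1 : (g * k) * x₀ * (g * k)⁻¹ = x₀ ^ (j * i) := by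
          calc (g * k) * x₀ * (g * k)⁻¹ = g * (k * x₀ * k⁻¹) * g⁻¹ := by group
            _ = g * x₀ ^ j * g⁻¹ := by rw [hj]
            _ = (g * x₀ * g⁻¹) ^ j := by rw [conj_pow]
            _ = x₀ ^ (j * i) := by rw [hi, ← pow_mul, mul_comm]
        have h2 : (k * g) * x₀ * (k * g)⁻¹ = x₀ ^ (j * i) := by
          calc (k * g) * x₀ * (k * g)⁻¹ = k * (g * x₀ * g⁻¹) * k⁻¹ := by group
            _ = k * x₀ ^ i * k⁻¹ := by rw [hi]
            _ = (k * x₀ * k⁻¹) ^ i := by rw [conj_pow]
            _ = x₀ ^ (j * i) := by rw [hj, ← pow_mul]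
        have h3 : (k * g)⁻¹ * (g * k) ∈ Subgroup.centralizer ({x₀} : Set G) := by
          rw [Subgroup.mem_centralizer_singleton_iff]
          have h4 : (g * k) * x₀ * (g * k)⁻¹ = (k * g) * x₀ * (k * g)⁻¹ := by rw [h1, h2]
          calc (k * g)⁻¹ * (g * k) * x₀ = (k * g)⁻¹ * ((g * k) * x₀ * (g * k)⁻¹) * (g * k) := by group
            _ = (k * g)⁻¹ * ((k * g) * x₀ * (k * g)⁻¹) * (g * k) := by rw [h4]
            _ = x₀ * ((k * g)⁻¹ * (g * k)) := by group
        rw [hcx] at h3
        rw [← QuotientGroup.mk_mul, ← QuotientGroup.mk_mul]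
        symm
        exact QuotientGroup.eq.mpr h3
      obtain ⟨σ, τ, hστ⟩ := perm3_noncomm
      apply hστ
      have := hcomm (e.symm σ) (e.symm τ)
      have h5 := congrArg e this
      rwa [map_mul, map_mul, MulEquiv.apply_symm_apply, MulEquiv.apply_symm_apply] at h5

/-- A finite solvable group in which any two elements of the same order are conjugate has order 1 or 2 or is isomorphic to the symmetric group of degree 3. -/
theorem result {G : Type*} [Group G] [Finite G] [Group.IsSolvable G]
    (h : ∀ x y : G, orderOf x = orderOf y → IsConj x y) :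
    Nat.card G = 1 ∨ Nat.card G = 2 ∨ Nonempty (G ≃* Equiv.Perm (Fin 3)) :=
  main _ G rfl h

end Cfsg.Agent.S4062
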