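import Mathlib
import Cfsg.Statements.S4065
import Cfsg.Agent.Lib.Helper12.SL2

set_option autoImplicit false
open Cfsg

namespace Cfsg.Agent.S4065

open Cfsg.Agent.Helper12

/-- in a group where commuting non-identity elements have the same centraliser, every element
centraliser is a TI-subset -/
theorem isTISubset_centralizer_of_CA {G : Type*} [Group G]
    (hCA : ∀ a b : G, a ≠ 1 → b ≠ 1 → a * b = b * a → ∀ z : G, z * a = a * z → z * b = b * z)
    (x : G) : Cfsg.IsTISubset (Subgroup.centralizer ({x} : Set G) : Set G) := by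
  intro g hg y hy hgy
  by_contra hy1
  apply hg
  by_cases hx : x = 1
  · subst hx
    have htop : Subgroup.centralizer ({1} : Set G) = ⊤ := by
      rw [eq_top_iff]
      intro z _
      rw [Subgroup.mem_centralizer_iff]
      intro h hh
      rw [Set.mem_singleton_iff.1 hh, one_mul, mul_one]
    rw [Subgroup.mem_normalizer_iff]
    intro h
    simp [htop]
  · have hyx : x * y = y * x := by
      have := Subgroup.mem_centralizer_iff.1 hy x (Set.mem_singleton x)
      exact this
    set y' := g * y * g⁻¹ with hy'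
    have hy'1 : y' ≠ 1 := by
      intro h
      apply hy1
      have : y = g⁻¹ * y' * g := by rw [hy']; group
      rw [this, h]; group
    have hy'x : x * y' = y' * x := by
      have := Subgroup.mem_centralizer_iff.1 hgy x (Set.mem_singleton x)
      exact this
    have hmem : ∀ z : G, z ∈ Subgroup.centralizer ({x} : Set G) ↔ x * z = z * x := by
      intro z
      rw [Subgroup.mem_centralizer_iff]
      simp
    rw [Subgroup.mem_normalizer_iff]
    intro h
    rw [hmem, hmem]
    constructor
    · intro hh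
      -- h commutes with x, hence with y; so g h g⁻¹ commutes with y', hence with x
      have h1 : h * y = y * h := hCA x y hx hy1 hyx h hh.symm
      have h2 : (g * h * g⁻¹) * y' = y' * (g * h * g⁻¹) := by
        rw [hy']
        calc g * h * g⁻¹ * (g * y * g⁻¹) = g * (h * y) * g⁻¹ := by group
          _ = g * (y * h) * g⁻¹ := by rw [h1]
          _ = g * y * g⁻¹ * (g * h * g⁻¹) := by group
      exact (hCA y' x hy'1 hx hy'x.symm _ h2).symm
    · intro hh
      have h1 : (g * h * g⁻¹) * y' = y' * (g * h * g⁻¹) := hCA x y' hx hy'1 hy'x _ hh.symm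
      have h2 : h * y = y * h := by
        have e1 : h = g⁻¹ * (g * h * g⁻¹) * g := by group
        have e2 : y = g⁻¹ * y' * g := by rw [hy']; group
        calc h * y = g⁻¹ * ((g * h * g⁻¹) * y') * g := by rw [hy']; group
          _ = g⁻¹ * (y' * (g * h * g⁻¹)) * g := by rw [h1]
          _ = y * h := by rw [hy']; group
      exact (hCA y x hy1 hx hyx.symm h h2).symm

variable {F : Type*} [Field F] [CharP F 2]

theorem center_SL2_char_two : Subgroup.center (Matrix.SpecialLinearGroup (Fin 2) F) = ⊥ := by
  rw [Subgroup.eq_bot_iff_forall]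
  intro g hg
  rw [Matrix.SpecialLinearGroup.mem_center_iff] at hg
  obtain ⟨r, -, hr⟩ := hg
  apply scalar_SL2_char_two g
  rw [← hr]
  refine ⟨?_, ?_, ?_⟩ <;> simp [Matrix.scalar]

theorem mk_injective_char_two :
    Function.Injective (QuotientGroup.mk : Matrix.SpecialLinearGroup (Fin 2) F →
      Matrix.ProjectiveSpecialLinearGroup (Fin 2) F) := by
  intro a b hab
  have := QuotientGroup.eq.1 hab
  rw [center_SL2_char_two, Subgroup.mem_bot] at this
  exact (inv_mul_eq_one.1 this)

theorem SL2_CA (A B : Matrix.SpecialLinearGroup (Fin 2) F) (hA : A ≠ 1) (hB : B ≠ 1)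
    (hAB : A * B = B * A) (Z : Matrix.SpecialLinearGroup (Fin 2) F) (hZ : Z * A = A * Z) :
    Z * B = B * Z := by
  have hAns : ¬ IsScalar2 (A : Matrix (Fin 2) (Fin 2) F) := fun h => hA (scalar_SL2_char_two A h)
  have hm : (B : Matrix (Fin 2) (Fin 2) F) * (A : Matrix (Fin 2) (Fin 2) F) =
      (A : Matrix (Fin 2) (Fin 2) F) * (B : Matrix (Fin 2) (Fin 2) F) := by
    rw [← Matrix.SpecialLinearGroup.coe_mul, ← Matrix.SpecialLinearGroup.coe_mul, hAB]
  obtain ⟨x, y, hxy⟩ := (commute_iff_exists_smul _ _ hAns).1 hm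
  have hZm : (Z : Matrix (Fin 2) (Fin 2) F) * (A : Matrix (Fin 2) (Fin 2) F) =
      (A : Matrix (Fin 2) (Fin 2) F) * (Z : Matrix (Fin 2) (Fin 2) F) := by
    rw [← Matrix.SpecialLinearGroup.coe_mul, ← Matrix.SpecialLinearGroup.coe_mul, hZ]
  apply Subtype.ext
  rw [Matrix.SpecialLinearGroup.coe_mul, Matrix.SpecialLinearGroup.coe_mul, hxy, mul_add, add_mul]
  simp only [Matrix.mul_smul, Matrix.smul_mul, mul_one, one_mul, hZm]

theorem PSL2_CA (a b : Matrix.ProjectiveSpecialLinearGroup (Fin 2) F) (ha : a ≠ 1) (hb : b ≠ 1)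
    (hab : a * b = b * a) (z : Matrix.ProjectiveSpecialLinearGroup (Fin 2) F)
    (hz : z * a = a * z) : z * b = b * z := by
  obtain ⟨A, rfl⟩ := QuotientGroup.mk_surjective a
  obtain ⟨B, rfl⟩ := QuotientGroup.mk_surjective b
  obtain ⟨Z, rfl⟩ := QuotientGroup.mk_surjective z
  have hA : A ≠ 1 := by rintro rfl; exact ha rfl
  have hB : B ≠ 1 := by rintro rfl; exact hb rfl
  have hAB : A * B = B * A := mk_injective_char_two (by
    rw [QuotientGroup.mk_mul, QuotientGroup.mk_mul]; exact hab)
  have hZA : Z * A = A * Z := mk_injective_char_two (by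
    rw [QuotientGroup.mk_mul, QuotientGroup.mk_mul]; exact hz)
  have := SL2_CA A B hA hB hAB Z hZA
  rw [← QuotientGroup.mk_mul, ← QuotientGroup.mk_mul, this]

/-- Let F be a finite field with 2ⁿ elements, n ≥ 2. In PSL₂(F) the centralizer of every element meets each of its conjugates by elements outside its normalizer trivially. -/
theorem result (n : ℕ) (hn : 2 ≤ n)
    (x : Matrix.ProjectiveSpecialLinearGroup (Fin 2) (GaloisField 2 n)) :
    Cfsg.IsTISubset (Subgroup.centralizer ({x} : Set (Matrix.ProjectiveSpecialLinearGroup (Fin 2) (GaloisField 2 n))) :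
      Set (Matrix.ProjectiveSpecialLinearGroup (Fin 2) (GaloisField 2 n))) :=
  isTISubset_centralizer_of_CA PSL2_CA x

end Cfsg.Agent.S4065
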