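import Mathlib
import Cfsg.Statements.S4066
import Cfsg.Agent.Lib.Helper20.SylowConj

set_option autoImplicit false
open Cfsg

namespace Cfsg.Agent.S4066

/-- one inclusion -/
theorem le_of_meet {G : Type*} [Group G] [Finite G] (hTI : ∀ x : G, Cfsg.IsTISubset (Subgroup.centralizer ({x} : Set G) : Set G))
    {p : ℕ} [Fact p.Prime] (P Q : Sylow p G) (x : G) (hxP : x ∈ (P : Subgroup G))
    (hxQ : x ∈ (Q : Subgroup G)) (hx1 : x ≠ 1) : (P : Subgroup G) ≤ (Q : Subgroup G) := by
  -- a nontrivial central element of P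
  have hPnt : Nontrivial (P : Subgroup G) := ⟨⟨⟨x, hxP⟩, 1, fun h => hx1 (congrArg Subtype.val h)⟩⟩
  have hcen : Nontrivial (Subgroup.center (P : Subgroup G)) := P.isPGroup'.center_nontrivial
  obtain ⟨z', hz'⟩ := exists_ne (1 : Subgroup.center (P : Subgroup G))
  set z : G := ((z' : (P : Subgroup G)) : G) with hz
  have hz1 : z ≠ 1 := by
    intro h
    apply hz'
    apply Subtype.ext
    apply Subtype.ext
    exact h
  have hzP : z ∈ (P : Subgroup G) := (z' : (P : Subgroup G)).2
  -- z commutes with all of P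
  have hzc : ∀ a ∈ (P : Subgroup G), a * z = z * a := by
    intro a ha
    have := Subgroup.mem_center_iff.mp z'.2 ⟨a, ha⟩
    exact congrArg Subtype.val this
  have hPC : ∀ a ∈ (P : Subgroup G), a ∈ Subgroup.centralizer ({z} : Set G) := by
    intro a ha
    rw [Subgroup.mem_centralizer_iff]
    intro y hy
    rw [Set.mem_singleton_iff] at hy
    subst hy
    exact (hzc a ha).symm
  -- Q is a conjugate of P
  obtain ⟨g, hg⟩ := Helper20.exists_conj_sylow P Q
  -- g normalizes C(z)
  have hgN : g ∈ Subgroup.normalizer ((Subgroup.centralizer ({z} : Set G) : Subgroup G) : Set G) := by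
    by_contra hgN
    have := hTI z g hgN (g⁻¹ * x * g) (hPC _ ((hg x).mp hxQ)) (by
      have : g * (g⁻¹ * x * g) * g⁻¹ = x := by group
      rw [this]
      exact hPC x hxP)
    apply hx1
    have h2 : x = g * (g⁻¹ * x * g) * g⁻¹ := by group
    rw [h2, this]; group
  -- hence Q ≤ C(z)
  have hQC : ∀ q ∈ (Q : Subgroup G), q ∈ Subgroup.centralizer ({z} : Set G) := by
    intro q hq
    have h1 := hPC _ ((hg q).mp hq)
    have h2 := (Subgroup.mem_set_normalizer_iff.mp hgN (g⁻¹ * q * g)).mp h1
    have h3 : g * (g⁻¹ * q * g) * g⁻¹ = q := by group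
    rwa [h3] at h2
  have hQz : ∀ q ∈ (Q : Subgroup G), q * z = z * q := by
    intro q hq
    have := hQC q hq
    rw [Subgroup.mem_centralizer_iff] at this
    exact (this z rfl).symm
  -- now show each a ∈ P lies in Q
  intro a haP
  by_cases ha1 : a = 1
  · rw [ha1]; exact Subgroup.one_mem _
  -- every h ∈ Q normalizes C(a)
  have hQN : ∀ h ∈ (Q : Subgroup G),
      h ∈ Subgroup.normalizer ((Subgroup.centralizer ({a} : Set G) : Subgroup G) : Set G) := by
    intro h hh
    by_contra hN
    have hza : z ∈ Subgroup.centralizer ({a} : Set G) := by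
      rw [Subgroup.mem_centralizer_iff]
      intro y hy
      rw [Set.mem_singleton_iff] at hy
      subst hy
      exact hzc y haP
    have := hTI a h hN z hza (by
      have : h * z * h⁻¹ = z := by rw [hQz h hh]; group
      rw [this]; exact hza)
    exact hz1 this
  -- so a commutes with all its Q-conjugates
  have hcomm1 : ∀ h ∈ (Q : Subgroup G), a * (h * a * h⁻¹) = (h * a * h⁻¹) * a := by
    intro h hh
    have haa : a ∈ Subgroup.centralizer ({a} : Set G) := by
      rw [Subgroup.mem_centralizer_iff]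
      intro y hy
      rw [Set.mem_singleton_iff] at hy
      subst hy; rfl
    have := (Subgroup.mem_set_normalizer_iff.mp (hQN h hh) a).mp haa
    rw [SetLike.mem_coe, Subgroup.mem_centralizer_iff] at this
    exact this a rfl
  set S : Set G := {y | ∃ h ∈ (Q : Subgroup G), y = h * a * h⁻¹} with hS
  have hScomm : ∀ x ∈ S, ∀ y ∈ S, x * y = y * x := by
    rintro _ ⟨h1, hh1, rfl⟩ _ ⟨h2, hh2, rfl⟩
    have := hcomm1 (h1⁻¹ * h2) (Subgroup.mul_mem _ (Subgroup.inv_mem _ hh1) hh2)
    calc h1 * a * h1⁻¹ * (h2 * a * h2⁻¹)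
        = h1 * (a * ((h1⁻¹ * h2) * a * (h1⁻¹ * h2)⁻¹)) * h1⁻¹ := by group
      _ = h1 * (((h1⁻¹ * h2) * a * (h1⁻¹ * h2)⁻¹) * a) * h1⁻¹ := by rw [this]
      _ = h2 * a * h2⁻¹ * (h1 * a * h1⁻¹) := by group
  obtain ⟨k, hk⟩ := Helper20.exists_orderOf_eq_of_mem_isPGroup P.isPGroup' haP
  have hSp : ∀ x ∈ S, ∃ k : ℕ, x ^ p ^ k = 1 := by
    rintro _ ⟨h, hh, rfl⟩
    refine ⟨k, ?_⟩
    rw [← hk, ← Helper20.orderOf_conj h a]
    exact pow_orderOf_eq_one _
  have hB : IsPGroup p (Subgroup.closure S) := Helper20.isPGroup_closure_of_commute hScomm hSp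
  have hQB : (Q : Subgroup G) ≤ Subgroup.normalizer ((Subgroup.closure S : Subgroup G) : Set G) := by
    rw [Subgroup.le_normalizer_closure_iff]
    rintro h hh _ ⟨h', hh', rfl⟩
    apply Subgroup.subset_closure
    exact ⟨h * h', Subgroup.mul_mem _ hh hh', by group⟩
  have hBQ : IsPGroup p (Subgroup.closure S ⊔ (Q : Subgroup G) : Subgroup G) :=
    hB.to_sup_of_normal_left' Q.isPGroup' hQB
  have hEq := Q.is_maximal' hBQ le_sup_right
  have haB : a ∈ Subgroup.closure S := Subgroup.subset_closure ⟨1, Subgroup.one_mem _, by group⟩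
  have : a ∈ (Subgroup.closure S ⊔ (Q : Subgroup G) : Subgroup G) :=
    (le_sup_left : Subgroup.closure S ≤ _) haB
  rw [hEq] at this
  exact this

/-- Let G be a finite group in which the centralizer of every element meets each of its conjugates by elements outside its normalizer trivially. Then any two distinct Sylow p-subgroups of G, for any prime p, intersect trivially. -/
theorem result {G : Type*} [Group G] [Finite G] (hTI : ∀ x : G, Cfsg.IsTISubset (Subgroup.centralizer ({x} : Set G) : Set G))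
    {p : ℕ} [Fact p.Prime] (P Q : Sylow p G) (hPQ : P ≠ Q) : (P : Subgroup G) ⊓ (Q : Subgroup G) = ⊥ := by
  by_contra hne
  obtain ⟨x, hx1⟩ := (Subgroup.ne_bot_iff_exists_ne_one).mp hne
  obtain ⟨hxP, hxQ⟩ := Subgroup.mem_inf.mp x.2
  have hx1' : (x : G) ≠ 1 := fun h => hx1 (Subtype.ext h)
  have h1 := le_of_meet hTI P Q x hxP hxQ hx1'
  apply hPQ
  apply Sylow.ext
  exact (P.is_maximal' Q.isPGroup' h1).symm

end Cfsg.Agent.S4066
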