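import Mathlib
import Cfsg.Agent.Lib.Helper22.AutOrbA
import Cfsg.Agent.Lib.Helper22.AutOrbC
import Cfsg.Agent.Lib.Helper22.AutOrbD
import Cfsg.Agent.Lib.Helper22.AutOrbE
import Cfsg.Statements.S4067
-- import your own Cfsg.Agent.* helpers here

set_option autoImplicit false
open Cfsg

namespace Cfsg.Agent.S4067

open Cfsg.Agent.Helper22.AutOrb
open scoped commutatorElement

universe u

theorem case_odd {G : Type u} [Group G] [Finite G] {p : ℕ} [Fact p.Prime]
    (ζ : ↥(commutator G) ≃* Multiplicative (ZMod p))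
    (hZ : commutator G ≤ Subgroup.center G) (hp : p = (Nat.card G).minFac) (hp2 : p ≠ 2)
    {y₁ : G} (hy₁ : y₁ ∉ Subgroup.center G) :
    p * Nat.card (MulAction.orbitRel.Quotient (MulAut G) G) ≤ Nat.card G := by
  by_cases hC : ∃ w ∈ Subgroup.center G, w ^ p = 1 ∧ w ∉ commutator G
  · obtain ⟨w, hw, hwp, hwn⟩ := hC
    exact card_orbits_le_of_family ζ hZ hp hy₁
      (fun x hx => family_C ζ hZ hw hwp hwn y₁ x hx)
  · push Not at hC
    obtain ⟨u, huc, hup⟩ := exists_noncentral_pow_p ζ hZ hp hp2 hy₁ hC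
    exact card_orbits_le_of_family ζ hZ hp huc
      (fun x hx => family_O ζ hZ hup hp2 x hx)

theorem case_two {G : Type u} [Group G] [Finite G]
    (ζ : ↥(commutator G) ≃* Multiplicative (ZMod 2))
    (hZ : commutator G ≤ Subgroup.center G) (hp : 2 = (Nat.card G).minFac)
    {x₁ y₁ : G} (hxy : x₁ * y₁ ≠ y₁ * x₁) :
    2 * Nat.card (MulAction.orbitRel.Quotient (MulAut G) G) ≤ Nat.card G := by
  have hy₁ : y₁ ∉ Subgroup.center G := by
    intro h
    exact hxy (Subgroup.mem_center_iff.mp h x₁)
  by_cases hC : ∃ w ∈ Subgroup.center G, w ^ 2 = 1 ∧ w ∉ commutator G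
  · obtain ⟨w, hw, hwp, hwn⟩ := hC
    exact card_orbits_le_of_family ζ hZ hp hy₁
      (fun x hx => family_C ζ hZ hw hwp hwn y₁ x hx)
  · push Not at hC
    obtain ⟨u, huc, huu, huu1⟩ := exists_sq_generator ζ hZ hxy hC
    exact card_orbits_le_of_family ζ hZ hp huc
      (fun x hx => family_W ζ hZ huc huu huu1 x hx)

theorem card_mult_zmod (p : ℕ) [NeZero p] : Nat.card (Multiplicative (ZMod p)) = p := by
  rw [Nat.card_eq_fintype_card, Fintype.card_multiplicative, ZMod.card]

theorem prime_card_case {G : Type u} [Group G] [Finite G] {x₁ y₁ : G}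
    (hxy : x₁ * y₁ ≠ y₁ * x₁) (hcard : Nat.card (commutator G) = (Nat.card G).minFac) :
    (Nat.card G).minFac * Nat.card (MulAction.orbitRel.Quotient (MulAut G) G) ≤ Nat.card G := by
  have hne : Nat.card G ≠ 1 := by
    intro h
    have := (Nat.card_eq_one_iff_unique.mp h).1
    exact hxy (Subsingleton.elim _ _)
  have hpp : (Nat.card G).minFac.Prime := Nat.minFac_prime hne
  have hZ := commutator_le_center_of_card_eq_minFac hcard hne
  have hy₁ : y₁ ∉ Subgroup.center G := by
    intro h
    exact hxy (Subgroup.mem_center_iff.mp h x₁)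
  by_cases hp2 : (Nat.card G).minFac = 2
  · rw [hp2]
    haveI : NeZero 2 := ⟨by norm_num⟩
    let ζ : ↥(commutator G) ≃* Multiplicative (ZMod 2) :=
      mulEquivOfPrimeCardEq (p := 2) (hcard.trans hp2) (card_mult_zmod 2)
    exact case_two ζ hZ hp2.symm hxy
  · haveI : Fact (Nat.card G).minFac.Prime := ⟨hpp⟩
    haveI : NeZero (Nat.card G).minFac := ⟨hpp.ne_zero⟩
    let ζ : ↥(commutator G) ≃* Multiplicative (ZMod (Nat.card G).minFac) :=
      mulEquivOfPrimeCardEq (p := (Nat.card G).minFac) hcard (card_mult_zmod _)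
    exact case_odd ζ hZ rfl hp2 hy₁

/-- Let G be a finite non-abelian group and p the least prime dividing its order. Then the automorphism group of G has at most #G/p orbits on G. -/
theorem result {G : Type*} [Group G] [Finite G] (hna : ¬ IsMulCommutative G) :
    Nat.card (MulAction.orbitRel.Quotient (MulAut G) G) ≤ Nat.card G / (Nat.card G).minFac := by
  classical
  have hex : ∃ x y : G, x * y ≠ y * x := by
    by_contra h
    push Not at h
    exact hna ⟨⟨h⟩⟩
  obtain ⟨x₁, y₁, hxy⟩ := hex
  have hne : Nat.card G ≠ 1 := by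
    intro h
    have := (Nat.card_eq_one_iff_unique.mp h).1
    exact hxy (Subsingleton.elim _ _)
  have hpp : (Nat.card G).minFac.Prime := Nat.minFac_prime hne
  rw [Nat.le_div_iff_mul_le hpp.pos, mul_comm]
  have hc1 : Nat.card (commutator G) ≠ 1 := by
    intro h
    rw [Subgroup.card_eq_one] at h
    have : ⁅x₁, y₁⁆ ∈ commutator G := comm_mem x₁ y₁
    rw [h, Subgroup.mem_bot, commutatorElement_eq_one_iff_mul_comm] at this
    exact hxy this
  have hcpos : 0 < Nat.card (commutator G) := Nat.card_pos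
  have hdvd : Nat.card (commutator G) ∣ Nat.card G := Subgroup.card_subgroup_dvd_card _
  have hle : (Nat.card G).minFac ≤ Nat.card (commutator G) :=
    Nat.minFac_le_of_dvd (by omega) hdvd
  by_cases hcard : Nat.card (commutator G) = (Nat.card G).minFac
  · exact prime_card_case hxy hcard
  · have h1 : (Nat.card G).minFac + 1 ≤ Nat.card (commutator G) := by omega
    have h2 := minFac_mul_card_conjClasses_le h1
    have h3 := card_autOrbits_le_card_conjClasses (G := G)
    exact le_trans (Nat.mul_le_mul_left _ h3) h2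

end Cfsg.Agent.S4067
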