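import Mathlib
import Cfsg.Statements.S4074

set_option autoImplicit false
open Cfsg
open DihedralGroup

namespace Cfsg.Agent.S4074

/-- parity of the exponent, for even `n` -/
def parityFun (n : ℕ) (h2 : 2 ∣ n) : DihedralGroup n → Multiplicative (ZMod 2)
  | DihedralGroup.r i => Multiplicative.ofAdd (ZMod.castHom h2 (ZMod 2) i)
  | DihedralGroup.sr i => Multiplicative.ofAdd (ZMod.castHom h2 (ZMod 2) i)

def parityHom (n : ℕ) (h2 : 2 ∣ n) : DihedralGroup n →* Multiplicative (ZMod 2) where
  toFun := parityFun n h2
  map_one' := by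
    rw [DihedralGroup.one_def]
    simp [parityFun]
  map_mul' := by
    rintro (a | a) (b | b)
    · simp only [r_mul_r, parityFun, map_add, ofAdd_add]
    · simp only [r_mul_sr, parityFun, map_sub, CharTwo.sub_eq_add, ofAdd_add]
      rw [mul_comm]
    · simp only [sr_mul_r, parityFun, map_add, ofAdd_add]
    · simp only [sr_mul_sr, parityFun, map_sub, CharTwo.sub_eq_add, ofAdd_add]
      rw [mul_comm]

theorem not_comm_of_mem {n : ℕ} (H : Subgroup (DihedralGroup n)) (x y : DihedralGroup n)
    (hx : x ∈ H) (hy : y ∈ H) (hxy : x * y ≠ y * x) : ¬ IsMulCommutative H := by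
  intro h
  apply hxy
  have := (h.is_comm).comm (⟨x, hx⟩ : H) ⟨y, hy⟩
  exact congrArg Subtype.val this

theorem exists_not_comm {n : ℕ} (H : Subgroup (DihedralGroup n)) (h : ¬ IsMulCommutative H) :
    ∃ x ∈ H, ∃ y ∈ H, x * y ≠ y * x := by
  by_contra hcon
  push Not at hcon
  apply h
  exact ⟨⟨fun a b => Subtype.ext (hcon a a.2 b b.2)⟩⟩

/-- a non-abelian subgroup contains a reflection and a rotation which is not an involution -/
theorem exists_refl_rot {n : ℕ} (H : Subgroup (DihedralGroup n)) (h : ¬ IsMulCommutative H) :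
    ∃ i a : ZMod n, sr i ∈ H ∧ r a ∈ H ∧ 2 * a ≠ 0 := by
  obtain ⟨x, hx, y, hy, hxy⟩ := exists_not_comm H h
  rcases x with a | a <;> rcases y with b | b
  · exfalso
    apply hxy
    rw [r_mul_r, r_mul_r, add_comm]
  · refine ⟨b, a, hy, hx, ?_⟩
    intro h0
    apply hxy
    rw [r_mul_sr, sr_mul_r]
    congr 1
    linear_combination -h0
  · refine ⟨a, b, hx, hy, ?_⟩
    intro h0
    apply hxy
    rw [r_mul_sr, sr_mul_r]
    congr 1
    linear_combination h0
  · refine ⟨a, b - a, hx, ?_, ?_⟩
    · have := H.mul_mem hx hy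
      rwa [sr_mul_sr] at this
    · intro h0
      apply hxy
      rw [sr_mul_sr, sr_mul_sr]
      congr 1
      linear_combination h0

theorem four_aux : ∀ a : ZMod 4, 2 * a ≠ 0 → ∀ j : ZMod 4, ∃ k : Fin 4, a * ((k : ℕ) : ZMod 4) = j := by
  decide

/-- For n > 2, every non-abelian subgroup of the dihedral group of order 2n is self-normalizing if and only if n = 4 or n is odd. -/
theorem result (n : ℕ) (hn : 2 < n) :
    (∀ H : Subgroup (DihedralGroup n), ¬ IsMulCommutative H → Subgroup.normalizer (H : Set (DihedralGroup n)) = H) ↔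
    (n = 4 ∨ Odd n) := by
  haveI : NeZero n := ⟨by omega⟩
  constructor
  · intro hall
    by_contra hcon
    push Not at hcon
    obtain ⟨hn4, hodd⟩ := hcon
    have heven : Even n := Nat.not_odd_iff_even.1 hodd
    have h2 : 2 ∣ n := heven.two_dvd
    set H : Subgroup (DihedralGroup n) := (parityHom n h2).ker with hH
    have hr2 : r (2 : ZMod n) ∈ H := by
      rw [hH, MonoidHom.mem_ker]
      change parityFun n h2 (r 2) = 1
      simp only [parityFun, map_ofNat]
      have : (2 : ZMod 2) = 0 := by decide
      rw [this]; rfl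
    have hs0 : sr (0 : ZMod n) ∈ H := by
      rw [hH, MonoidHom.mem_ker]
      change parityFun n h2 (sr 0) = 1
      simp only [parityFun, map_zero]; rfl
    have hr1 : r (1 : ZMod n) ∉ H := by
      rw [hH, MonoidHom.mem_ker]
      change parityFun n h2 (r 1) ≠ 1
      simp only [parityFun, map_one]
      decide
    have hnc : ¬ IsMulCommutative H := by
      apply not_comm_of_mem H (r 2) (sr 0) hr2 hs0
      rw [r_mul_sr, sr_mul_r]
      intro heq
      have h4 : (0 : ZMod n) - 2 = 0 + 2 := by
        injection heq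
      have h4' : ((4 : ℕ) : ZMod n) = 0 := by
        push_cast
        linear_combination -h4
      rw [ZMod.natCast_eq_zero_iff] at h4'
      have := Nat.le_of_dvd (by norm_num) h4'
      obtain ⟨k, hk⟩ := h2
      omega
    have hnorm := hall H hnc
    have htop : Subgroup.normalizer (H : Set (DihedralGroup n)) = ⊤ :=
      Subgroup.normalizer_eq_top_iff.2 (MonoidHom.normal_ker _)
    rw [htop] at hnorm
    apply hr1
    rw [← hnorm]
    trivial
  · intro hcase H hH
    apply le_antisymm _ Subgroup.le_normalizer
    obtain ⟨i, a, hi, ha, h2a⟩ := exists_refl_rot H hH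
    -- rotations in the normalizer lie in H
    have hrot : ∀ j : ZMod n, r j ∈ Subgroup.normalizer (H : Set (DihedralGroup n)) → r j ∈ H := by
      intro j hj
      have h1 : r j * sr i * (r j)⁻¹ ∈ H := (Subgroup.mem_normalizer_iff.1 hj (sr i)).1 hi
      have h2 : r j * sr i * (r j)⁻¹ * sr i ∈ H := H.mul_mem h1 hi
      rw [inv_r, r_mul_sr, sr_mul_r, sr_mul_sr] at h2
      have h3 : r (2 * j) ∈ H := by
        have : i - (i - j + -j) = 2 * j := by ring
        rwa [this] at h2
      rcases hcase with h4 | hodd
      · subst h4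
        obtain ⟨k, hk⟩ := four_aux a h2a j
        have := H.pow_mem ha (k : ℕ)
        rwa [r_pow, hk] at this
      · obtain ⟨m, hm⟩ := hodd
        have := H.pow_mem h3 (m + 1)
        rw [r_pow] at this
        have hcast : 2 * j * ((m + 1 : ℕ) : ZMod n) = j := by
          have hn0 : ((2 * m + 1 + 1 : ℕ) : ZMod n) = 1 := by
            rw [← hm]
            push_cast
            simp
          push_cast at hn0 ⊢
          linear_combination j * hn0
        rwa [hcast] at this
    intro g hg
    rcases g with j | j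
    · exact hrot j hg
    · have h1 : sr i * sr j ∈ Subgroup.normalizer (H : Set (DihedralGroup n)) :=
        Subgroup.mul_mem _ (Subgroup.le_normalizer hi) hg
      rw [sr_mul_sr] at h1
      have h2 := hrot _ h1
      have h3 := H.mul_mem hi h2
      rw [sr_mul_r] at h3
      have : i + (j - i) = j := by ring
      rwa [this] at h3

end Cfsg.Agent.S4074
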