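import Mathlib
import Cfsg.Statements.S4075

set_option autoImplicit false
open Cfsg

namespace Cfsg.Agent.S4075

/-- Let G be a finite nilpotent group. Every non-abelian subgroup of G is self-normalizing if and only if G is abelian or G is a minimal non-abelian p-group for some prime p (non-abelian of prime-power order with every proper subgroup abelian). -/
theorem result {G : Type*} [Group G] [Finite G]
    [Group.IsNilpotent G] :
    (∀ H : Subgroup G, ¬ IsMulCommutative H → Subgroup.normalizer (H : Set G) = H) ↔
    (IsMulCommutative G ∨ (IsPrimePow (Nat.card G) ∧ ¬ IsMulCommutative G ∧ ∀ H : Subgroup G, H ≠ ⊤ → IsMulCommutative H)) := by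
  constructor
  · intro h
    by_cases hG : IsMulCommutative G
    · exact Or.inl hG
    · right
      have hprop : ∀ H : Subgroup G, H ≠ ⊤ → IsMulCommutative H := by
        intro H hH
        by_contra hc
        have h1 := h H hc
        have h2 : NormalizerCondition G := Group.normalizerCondition_of_isNilpotent
        have h3 := h2 H (lt_top_iff_ne_top.mpr hH)
        rw [h1] at h3
        exact lt_irrefl _ h3
      refine ⟨?_, hG, hprop⟩
      by_contra hnpp
      apply hG
      -- all Sylows are proper hence abelian
      have hsyl : ∀ (p : ℕ) [Fact p.Prime] (P : Sylow p G), IsMulCommutative (P : Subgroup G) := by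
        intro p hp P
        apply hprop
        intro htop
        apply hnpp
        have hpg : IsPGroup p G := by
          have := P.isPGroup'
          rw [htop] at this
          exact IsPGroup.of_equiv this Subgroup.topEquiv
        obtain ⟨n, hn⟩ := IsPGroup.iff_card.mp hpg
        rw [hn]
        rcases Nat.eq_zero_or_pos n with rfl | hnpos
        · exfalso
          apply hG
          rw [pow_zero] at hn
          have : Subsingleton G := (Nat.card_eq_one_iff_unique.mp hn).1
          rw [isMulCommutative_iff]
          intro a b
          exact Subsingleton.elim _ _
        · exact (hp.out.isPrimePow).pow hnpos.ne'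
      obtain ⟨e⟩ := (Group.isNilpotent_of_finite_tfae (G := G)).out 0 4 rfl rfl |>.mp inferInstance
      rw [isMulCommutative_iff]
      intro a b
      obtain ⟨a', rfl⟩ := e.surjective a
      obtain ⟨b', rfl⟩ := e.surjective b
      rw [← map_mul, ← map_mul]
      congr 1
      funext p P
      have hp : Fact (p : ℕ).Prime := ⟨Nat.prime_of_mem_primeFactors p.2⟩
      have := (isMulCommutative_iff.mp (hsyl p P)) (a' p P) (b' p P)
      exact this
  · rintro (hG | ⟨-, hG, hprop⟩)
    · intro H hH
      exfalso
      apply hH
      rw [isMulCommutative_iff]
      intro a b
      apply Subtype.ext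
      have := isMulCommutative_iff.mp hG (a : G) (b : G)
      simpa using this
    · intro H hH
      have : H = ⊤ := by
        by_contra hne
        exact hH (hprop H hne)
      rw [this]
      exact Subgroup.normalizer_eq_top (H := (⊤ : Subgroup G))

end Cfsg.Agent.S4075
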