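import Mathlib
import Cfsg.Statements.S4080
import Cfsg.Agent.Lib.Helper12.TwoByTwo

set_option autoImplicit false

namespace Cfsg.Agent.S4080

open Cfsg.Agent.Helper12

theorem ker_cast {p : ℕ} [Fact p.Prime] (t : ZMod (p ^ 2))
    (ht : ZMod.castHom (dvd_pow_self p two_ne_zero) (ZMod p) t = 0) :
    ∃ m : ZMod (p ^ 2), t = ((p : ℕ) : ZMod (p ^ 2)) * m := by
  have hp : p.Prime := Fact.out
  haveI : NeZero (p ^ 2) := ⟨pow_ne_zero 2 hp.ne_zero⟩
  rw [ZMod.castHom_apply, ZMod.cast_eq_val, ZMod.natCast_eq_zero_iff] at ht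
  obtain ⟨k, hk⟩ := ht
  refine ⟨(k : ZMod (p ^ 2)), ?_⟩
  rw [← Nat.cast_mul, ← hk, ZMod.natCast_zmod_val]

theorem mul_p_eq_zero {p : ℕ} [Fact p.Prime] (t : ZMod (p ^ 2))
    (ht : ((p : ℕ) : ZMod (p ^ 2)) * t = 0) :
    ∃ m : ZMod (p ^ 2), t = ((p : ℕ) : ZMod (p ^ 2)) * m := by
  have hp : p.Prime := Fact.out
  haveI : NeZero (p ^ 2) := ⟨pow_ne_zero 2 hp.ne_zero⟩
  have h1 : ((p * t.val : ℕ) : ZMod (p ^ 2)) = 0 := by
    rw [Nat.cast_mul, ZMod.natCast_zmod_val]; exact ht
  rw [ZMod.natCast_eq_zero_iff] at h1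
  have h1' : p * p ∣ p * t.val := (dvd_of_eq (pow_two p).symm).trans h1
  have h2 : p ∣ t.val := Nat.dvd_of_mul_dvd_mul_left hp.pos h1'
  obtain ⟨k, hk⟩ := h2
  refine ⟨(k : ZMod (p ^ 2)), ?_⟩
  rw [← Nat.cast_mul, ← hk, ZMod.natCast_zmod_val]

theorem mul_eq_zero_of_p {p : ℕ} [Fact p.Prime] (u v : ZMod (p ^ 2))
    (hu : ((p : ℕ) : ZMod (p ^ 2)) * u = 0) (hv : ((p : ℕ) : ZMod (p ^ 2)) * v = 0) : u * v = 0 := by
  obtain ⟨m, rfl⟩ := mul_p_eq_zero u hu
  rw [mul_comm _ m, mul_assoc, hv, mul_zero]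

theorem pow_add_two_eq {S : Type*} [Ring S] (N M' : S) (q : ℕ) (h : N * N = q • M') (k : ℕ) :
    N ^ (k + 2) = q • (N ^ k * M') := by
  rw [pow_succ, pow_succ, mul_assoc, h, mul_smul_comm]

theorem pow_add_four_eq {S : Type*} [Ring S] (N M' : S) (q : ℕ) (h : N * N = q • M') (k : ℕ) :
    N ^ (k + 4) = (q * q) • (N ^ k * M' * M') := by
  have : N ^ (k + 4) = N ^ k * (N * N) * (N * N) := by
    rw [pow_succ, pow_succ, pow_succ, pow_succ]
    simp only [mul_assoc]
  rw [this, h]
  simp only [mul_smul_comm, smul_mul_assoc, smul_smul]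

theorem mat_key {p : ℕ} [Fact p.Prime] (hp3 : 3 < p) (A : Matrix (Fin 2) (Fin 2) (ZMod (p ^ 2)))
    (hA : A ^ p = 1) : ∀ i j, ((p : ℕ) : ZMod (p ^ 2)) * (A - 1) i j = 0 := by
  have hp : p.Prime := Fact.out
  haveI : NeZero (p ^ 2) := ⟨pow_ne_zero 2 hp.ne_zero⟩
  set φ : ZMod (p ^ 2) →+* ZMod p := ZMod.castHom (dvd_pow_self p two_ne_zero) (ZMod p) with hφ
  set N := A - 1 with hN
  have hbar : (φ.mapMatrix N) ^ p = 0 := by
    have h1 : φ.mapMatrix N = φ.mapMatrix A - 1 := by rw [hN, map_sub, map_one]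
    rw [h1, sub_pow_char_of_commute p (Commute.one_right _), one_pow, ← map_pow, hA, map_one,
      sub_self]
  obtain ⟨htr, hdet⟩ := nilpotent2_data (φ.mapMatrix N) p hbar
  have hsq : φ.mapMatrix (N * N) = 0 := by
    rw [map_mul, sq_eq2, htr, hdet]; simp
  have hentry : ∀ i j, φ ((N * N) i j) = 0 := by
    intro i j
    have := congrFun (congrFun hsq i) j
    simpa [RingHom.mapMatrix_apply] using this
  choose m hm using fun i j => ker_cast ((N * N) i j) (hentry i j)
  set M' : Matrix (Fin 2) (Fin 2) (ZMod (p ^ 2)) := Matrix.of m with hM'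
  have hNN : N * N = p • M' := by
    ext i j
    rw [hm i j, Matrix.smul_apply, nsmul_eq_mul]
    rfl
  have hchar : ∀ X : Matrix (Fin 2) (Fin 2) (ZMod (p ^ 2)), (p * p) • X = 0 := by
    intro X
    ext i j
    rw [Matrix.smul_apply, nsmul_eq_mul, ← pow_two, Matrix.zero_apply]
    have : ((p ^ 2 : ℕ) : ZMod (p ^ 2)) = 0 := ZMod.natCast_self _
    rw [this, zero_mul]
  -- vanishing of the higher terms
  have hterm : ∀ k : ℕ, 2 ≤ k → k ≤ p →
      N ^ k * 1 ^ (p - k) * ((p.choose k : ℕ) : Matrix (Fin 2) (Fin 2) (ZMod (p ^ 2))) = 0 := by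
    intro k hk2 hkp
    rw [one_pow, mul_one, ← Nat.cast_comm, ← nsmul_eq_mul]
    rcases Nat.lt_or_ge k p with hlt | hge
    · obtain ⟨c, hc⟩ := hp.dvd_choose_self (by omega) hlt
      have hk : N ^ k = p • (N ^ (k - 2) * M') := by
        obtain ⟨k', rfl⟩ : ∃ k', k = k' + 2 := ⟨k - 2, by omega⟩
        rw [Nat.add_sub_cancel]
        exact pow_add_two_eq N M' p hNN k'
      rw [hk, hc, smul_smul]
      have : p * c * p = c * (p * p) := by ring
      rw [this, mul_smul, hchar, smul_zero]
    · have hkp' : k = p := le_antisymm hkp hge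
      have hk : N ^ k = (p * p) • (N ^ (k - 4) * M' * M') := by
        obtain ⟨k', rfl⟩ : ∃ k', k = k' + 4 := ⟨k - 4, by omega⟩
        rw [Nat.add_sub_cancel]
        exact pow_add_four_eq N M' p hNN k'
      rw [hk, hchar, smul_zero]
  have hexp := (Commute.one_right N).add_pow p
  have hA' : (N + 1) ^ p = 1 := by rw [hN, sub_add_cancel, hA]
  rw [hA'] at hexp
  rw [Finset.sum_eq_add 0 1 (by norm_num)
    (by
      intro c hc hc01
      rw [Finset.mem_range] at hc
      exact hterm c (by omega) (by omega))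
    (by intro h; exact absurd (Finset.mem_range.2 (by omega)) h)
    (by intro h; exact absurd (Finset.mem_range.2 (by omega)) h)] at hexp
  simp only [pow_zero, one_pow, mul_one, Nat.choose_zero_right, Nat.cast_one, pow_one,
    Nat.choose_one_right, tsub_zero] at hexp
  have hpN : N * ((p : ℕ) : Matrix (Fin 2) (Fin 2) (ZMod (p ^ 2))) = 0 := by
    have := hexp.symm
    rwa [add_eq_left] at this
  intro i j
  have h1 := congrFun (congrFun hpN i) j
  rw [← Nat.cast_comm, ← nsmul_eq_mul, Matrix.smul_apply, nsmul_eq_mul, Matrix.zero_apply] at h1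
  exact h1

section act

variable {R : Type*} [CommRing R]

/-- the additive action of an automorphism of the multiplicative copy of `R × R` -/
def act (a : MulAut (Multiplicative (R × R))) (x : R × R) : R × R :=
  Multiplicative.toAdd (a (Multiplicative.ofAdd x))

theorem act_add (a : MulAut (Multiplicative (R × R))) (x y : R × R) :
    act a (x + y) = act a x + act a y := by
  unfold act
  rw [ofAdd_add, map_mul, toAdd_mul]

theorem act_zero (a : MulAut (Multiplicative (R × R))) : act a 0 = 0 := by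
  unfold act
  rw [ofAdd_zero, map_one, toAdd_one]

theorem act_nsmul (a : MulAut (Multiplicative (R × R))) (n : ℕ) (x : R × R) :
    act a (n • x) = n • act a x := by
  induction n with
  | zero => simp [act_zero]
  | succ n ih => rw [succ_nsmul, act_add, ih, succ_nsmul]

theorem act_mul (a b : MulAut (Multiplicative (R × R))) (x : R × R) :
    act (a * b) x = act a (act b x) := by
  unfold act
  rw [MulAut.mul_apply, ofAdd_toAdd]

theorem act_one (x : R × R) : act (1 : MulAut (Multiplicative (R × R))) x = x := by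
  unfold act
  rw [MulAut.one_apply, toAdd_ofAdd]

/-- the matrix of an automorphism -/
def matOf (a : MulAut (Multiplicative (R × R))) : Matrix (Fin 2) (Fin 2) R :=
  !![(act a (1, 0)).1, (act a (0, 1)).1; (act a (1, 0)).2, (act a (0, 1)).2]

end act

section zmod

variable {n : ℕ} [NeZero n]

theorem act_formula (a : MulAut (Multiplicative (ZMod n × ZMod n))) (x : ZMod n × ZMod n) :
    act a x = (x.1 * (act a (1, 0)).1 + x.2 * (act a (0, 1)).1,
      x.1 * (act a (1, 0)).2 + x.2 * (act a (0, 1)).2) := by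
  have hx : x = x.1.val • ((1, 0) : ZMod n × ZMod n) + x.2.val • ((0, 1) : ZMod n × ZMod n) := by
    apply Prod.ext <;> simp
  conv_lhs => rw [hx]
  rw [act_add, act_nsmul, act_nsmul]
  apply Prod.ext <;> simp

theorem matOf_mul (a b : MulAut (Multiplicative (ZMod n × ZMod n))) :
    matOf (a * b) = matOf a * matOf b := by
  ext i j
  fin_cases i <;> fin_cases j <;>
    simp only [matOf, act_mul, Matrix.mul_apply, Fin.sum_univ_two, Matrix.of_apply,
      Matrix.cons_val', Matrix.cons_val_zero, Matrix.cons_val_one, Matrix.cons_val_fin_one,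
      Fin.zero_eta, Fin.mk_one] <;>
    rw [act_formula a (act b _)] <;> ring

theorem matOf_one : matOf (1 : MulAut (Multiplicative (ZMod n × ZMod n))) = 1 := by
  ext i j
  fin_cases i <;> fin_cases j <;> simp [matOf, act_one]

theorem matOf_pow (a : MulAut (Multiplicative (ZMod n × ZMod n))) (k : ℕ) :
    matOf (a ^ k) = matOf a ^ k := by
  induction k with
  | zero => rw [pow_zero, pow_zero, matOf_one]
  | succ k ih => rw [pow_succ, pow_succ, matOf_mul, ih]

end zmod

/-- Let p > 3 be a prime and L the direct product of two cyclic groups of order p². Every automorphism of L of order p fixes every element of order p of L. -/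
theorem result {p : ℕ} [Fact p.Prime] (hp : 3 < p)
    (a : MulAut (Multiplicative (ZMod (p ^ 2) × ZMod (p ^ 2)))) (ha : orderOf a = p)
    (x : Multiplicative (ZMod (p ^ 2) × ZMod (p ^ 2))) (hx : orderOf x = p) : a x = x := by
  have hpp : p.Prime := Fact.out
  haveI : NeZero (p ^ 2) := ⟨pow_ne_zero 2 hpp.ne_zero⟩
  have hap : a ^ p = 1 := by
    have := pow_orderOf_eq_one a
    rwa [ha] at this
  have hA : matOf a ^ p = 1 := by
    rw [← matOf_pow, hap, matOf_one]
  have hkey := mat_key hp (matOf a) hA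
  set y := Multiplicative.toAdd x with hy
  have hxp : x ^ p = 1 := by
    have := pow_orderOf_eq_one x
    rwa [hx] at this
  have hyp : p • y = 0 := by
    rw [hy, ← toAdd_pow, hxp, toAdd_one]
  have hy1 : ((p : ℕ) : ZMod (p ^ 2)) * y.1 = 0 := by
    have := congrArg Prod.fst hyp
    simpa using this
  have hy2 : ((p : ℕ) : ZMod (p ^ 2)) * y.2 = 0 := by
    have := congrArg Prod.snd hyp
    simpa using this
  have h00 := hkey 0 0
  have h01 := hkey 0 1
  have h10 := hkey 1 0
  have h11 := hkey 1 1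
  simp only [matOf, Matrix.sub_apply, Matrix.of_apply, Matrix.cons_val', Matrix.cons_val_zero,
    Matrix.cons_val_one, Matrix.cons_val_fin_one, Matrix.one_apply_eq, Matrix.one_apply_ne,
    ne_eq, zero_ne_one, one_ne_zero, not_false_eq_true, sub_zero] at h00 h01 h10 h11
  have hact : act a y = y := by
    rw [act_formula]
    apply Prod.ext
    · have e1 := mul_eq_zero_of_p y.1 _ hy1 h00
      have e2 := mul_eq_zero_of_p y.2 _ hy2 h01
      change y.1 * (act a (1, 0)).1 + y.2 * (act a (0, 1)).1 = y.1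
      linear_combination e1 + e2
    · have e1 := mul_eq_zero_of_p y.1 _ hy1 h10
      have e2 := mul_eq_zero_of_p y.2 _ hy2 h11
      change y.1 * (act a (1, 0)).2 + y.2 * (act a (0, 1)).2 = y.2
      linear_combination e1 + e2
  have : Multiplicative.ofAdd (act a y) = Multiplicative.ofAdd y := by rw [hact]
  unfold act at this
  rw [ofAdd_toAdd, hy, ofAdd_toAdd] at this
  exact this

end Cfsg.Agent.S4080
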