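import Mathlib
import Cfsg.Statements.S4084

set_option autoImplicit false
open Cfsg

namespace Cfsg.Agent.S4084

/-- the double centralizer of an element -/
def D {K : Type*} [Group K] (k : K) : Subgroup K :=
  Subgroup.centralizer ((Subgroup.centralizer ({k} : Set K) : Subgroup K) : Set K)

theorem mem_D {K : Type*} [Group K] (k x : K) : x ∈ D k ↔ ∀ y : K, Commute y k → Commute y x := by
  unfold D
  rw [Subgroup.mem_centralizer_iff]
  constructor
  · intro h y hy
    apply h y
    rw [SetLike.mem_coe, Subgroup.mem_centralizer_iff]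
    intro z hz
    rw [Set.mem_singleton_iff] at hz
    subst hz
    exact hy.eq.symm
  · intro h y hy
    rw [SetLike.mem_coe, Subgroup.mem_centralizer_iff] at hy
    exact (h y (hy k rfl).symm).eq

theorem self_mem_D {K : Type*} [Group K] (k : K) : k ∈ D k := by
  rw [mem_D]; intro y hy; exact hy

theorem commute_of_mem_D {K : Type*} [Group K] (k : K) {a b : K} (ha : a ∈ D k) (hb : b ∈ D k) :
    Commute a b := by
  rw [mem_D] at ha hb
  -- b commutes with k
  have hbk : Commute b k := (hb k (Commute.refl k)).symm
  exact (ha b hbk).symm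

theorem one_dir {G H : Type*} [Group G] [Finite G] [Group H] [Finite H] (e : G ≃ H)
    (he : ∀ x y : G, Commute x y ↔ Commute (e x) (e y))
    {p q : ℕ} (hp : p.Prime) (hq : q.Prime) (hpq : p ≠ q) :
    (∃ g : G, orderOf g = p * q) → (∃ h : H, orderOf h = p * q) := by
  rintro ⟨g, hg⟩
  -- `e` maps `D g` onto `D (e g)`
  have hmap : ∀ x : G, x ∈ D g ↔ e x ∈ D (e g) := by
    intro x
    rw [mem_D, mem_D]
    constructor
    · intro h y hy
      obtain ⟨y', rfl⟩ := e.surjective y
      exact (he _ _).mp (h y' ((he _ _).mpr hy))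
    · intro h y hy
      exact (he _ _).mpr (h (e y) ((he _ _).mp hy))
  have hcard : Nat.card (D (e g)) = Nat.card (D g) := by
    apply Nat.card_congr
    exact (e.subtypeEquiv hmap).symm
  have hdvd : p * q ∣ Nat.card (D (e g)) := by
    rw [hcard, ← hg]
    have := Subgroup.orderOf_dvd_natCard (D g) (self_mem_D g)
    exact this
  have := Fact.mk hp
  have := Fact.mk hq
  obtain ⟨a, ha⟩ := exists_prime_orderOf_dvd_card' (G := D (e g)) p ((dvd_mul_right p q).trans hdvd)
  obtain ⟨b, hb⟩ := exists_prime_orderOf_dvd_card' (G := D (e g)) q ((dvd_mul_left q p).trans hdvd)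
  refine ⟨(a : H) * (b : H), ?_⟩
  have hcomm : Commute (a : H) (b : H) := commute_of_mem_D (e g) a.2 b.2
  rw [hcomm.orderOf_mul_eq_mul_orderOf_of_coprime, Subgroup.orderOf_coe, Subgroup.orderOf_coe, ha, hb]
  rw [Subgroup.orderOf_coe, Subgroup.orderOf_coe, ha, hb]
  exact (Nat.coprime_primes hp hq).mpr hpq

/-- Let G and H be finite groups whose commuting graphs are isomorphic: there is a bijection e : G → H with x, y commuting exactly when e(x), e(y) commute. Then G and H have the same prime graph: for distinct primes p, q, G has an element of order pq if and only if H does (and #G = #H, so the prime divisors agree). -/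
theorem result {G H : Type*} [Group G] [Finite G] [Group H] [Finite H] (e : G ≃ H)
    (he : ∀ x y : G, Commute x y ↔ Commute (e x) (e y))
    {p q : ℕ} (hp : p.Prime) (hq : q.Prime) (hpq : p ≠ q) :
    (∃ g : G, orderOf g = p * q) ↔ (∃ h : H, orderOf h = p * q) := by
  constructor
  · exact one_dir e he hp hq hpq
  · apply one_dir e.symm _ hp hq hpq
    intro x y
    rw [he (e.symm x) (e.symm y), Equiv.apply_symm_apply, Equiv.apply_symm_apply]

end Cfsg.Agent.S4084
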