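import Mathlib
import Cfsg.Statements.S4086
import Cfsg.Agent.Lib.Helper20.CyclicBasic

set_option autoImplicit false
open Cfsg

namespace Cfsg.Agent.S4086

/-- a number `n ≥ 2` that is not a prime power is a product of two coprime numbers `> 1`. -/
theorem exists_coprime_factors {n : ℕ} (hn : 2 ≤ n) (hpp : ¬ IsPrimePow n) :
    ∃ a b : ℕ, a * b = n ∧ Nat.Coprime a b ∧ 1 < a ∧ 1 < b := by
  have hn0 : n ≠ 0 := by omega
  have hn1 : n ≠ 1 := by omega
  have hp : (n.minFac).Prime := Nat.minFac_prime hn1
  refine ⟨ordProj[n.minFac] n, ordCompl[n.minFac] n, Nat.ordProj_mul_ordCompl_eq_self n _, ?_, ?_, ?_⟩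
  · exact Nat.Coprime.pow_left _ (Nat.coprime_ordCompl hp hn0)
  · have hpos : 0 < n.factorization n.minFac :=
      hp.factorization_pos_of_dvd hn0 (Nat.minFac_dvd n)
    exact Nat.one_lt_pow hpos.ne' hp.one_lt
  · by_contra hb
    have hbpos : 0 < ordCompl[n.minFac] n := Nat.ordCompl_pos _ hn0
    have hb1 : ordCompl[n.minFac] n = 1 := by omega
    have := Nat.ordProj_mul_ordCompl_eq_self n n.minFac
    rw [hb1, mul_one] at this
    apply hpp
    rw [isPrimePow_nat_iff]
    refine ⟨n.minFac, n.factorization n.minFac, hp, ?_, this⟩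
    exact hp.factorization_pos_of_dvd hn0 (Nat.minFac_dvd n)

/-- For a finite group G the following are equivalent: every non-identity element has prime-power order; whenever two elements generate a cyclic subgroup, one of them is a power of the other (the enhanced power graph of G coincides with its power graph). -/
theorem result {G : Type*} [Group G] [Finite G] :
    (∀ g : G, g ≠ 1 → IsPrimePow (orderOf g)) ↔
    (∀ x y : G, IsCyclic ↥(Subgroup.closure ({x, y} : Set G)) → (x ∈ Subgroup.zpowers y ∨ y ∈ Subgroup.zpowers x)) := by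
  constructor
  · intro h x y hcyc
    set C := Subgroup.closure ({x, y} : Set G) with hC
    have hxC : x ∈ C := Subgroup.subset_closure (by simp)
    have hyC : y ∈ C := Subgroup.subset_closure (by simp)
    obtain ⟨z, hz⟩ := hcyc.exists_generator
    have hord : orderOf z = Nat.card C := orderOf_eq_card_of_forall_mem_zpowers hz
    -- orders of x, y as elements of C divide |C| = orderOf z
    have hx' : orderOf (⟨x, hxC⟩ : C) ∣ orderOf z := hord ▸ orderOf_dvd_natCard _
    have hy' : orderOf (⟨y, hyC⟩ : C) ∣ orderOf z := hord ▸ orderOf_dvd_natCard _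
    -- conclude from membership inside C
    have key : (⟨x, hxC⟩ : C) ∈ Subgroup.zpowers (⟨y, hyC⟩ : C) ∨
        (⟨y, hyC⟩ : C) ∈ Subgroup.zpowers (⟨x, hxC⟩ : C) := by
      by_cases hz1 : (z : G) = 1
      · -- trivial group
        have hz1' : z = 1 := Subtype.ext hz1
        have hx1 : (⟨x, hxC⟩ : C) = 1 := by
          have := hz ⟨x, hxC⟩
          rw [hz1', Subgroup.zpowers_one_eq_bot, Subgroup.mem_bot] at this
          exact this
        left
        rw [hx1]
        exact Subgroup.one_mem _
      · have hpp := h (z : G) hz1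
        rw [Subgroup.orderOf_coe, isPrimePow_nat_iff] at hpp
        obtain ⟨p, k, hp, -, hpk⟩ := hpp
        rw [← hpk] at hx' hy'
        obtain ⟨i, -, hi⟩ := (Nat.dvd_prime_pow hp).mp hx'
        obtain ⟨j, -, hj⟩ := (Nat.dvd_prime_pow hp).mp hy'
        rcases le_total i j with hij | hij
        · left
          apply Helper20.mem_zpowers_of_orderOf_dvd
          rw [hi, hj]
          exact pow_dvd_pow p hij
        · right
          apply Helper20.mem_zpowers_of_orderOf_dvd
          rw [hi, hj]
          exact pow_dvd_pow p hij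
    rcases key with hk | hk
    · left
      obtain ⟨n, hn⟩ := Subgroup.mem_zpowers_iff.mp hk
      rw [Subgroup.mem_zpowers_iff]
      refine ⟨n, ?_⟩
      have := congrArg Subtype.val hn
      simpa using this
    · right
      obtain ⟨n, hn⟩ := Subgroup.mem_zpowers_iff.mp hk
      rw [Subgroup.mem_zpowers_iff]
      refine ⟨n, ?_⟩
      have := congrArg Subtype.val hn
      simpa using this
  · intro h g hg
    by_contra hpp
    have hn2 : 2 ≤ orderOf g := by
      have h0 : 0 < orderOf g := orderOf_pos g
      have h1 : orderOf g ≠ 1 := fun h1 => hg (orderOf_eq_one_iff.mp h1)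
      omega
    obtain ⟨a, b, hab, hcop, ha, hb⟩ := exists_coprime_factors hn2 hpp
    have hox : orderOf (g ^ a) = b := by
      rw [orderOf_pow, ← hab, Nat.gcd_mul_right_left, Nat.mul_div_cancel_left _ (by omega)]
    have hoy : orderOf (g ^ b) = a := by
      rw [orderOf_pow, ← hab, Nat.gcd_mul_left_left, Nat.mul_div_cancel _ (by omega)]
    have hcyc : IsCyclic ↥(Subgroup.closure ({g ^ a, g ^ b} : Set G)) := by
      have hle : Subgroup.closure ({g ^ a, g ^ b} : Set G) ≤ Subgroup.zpowers g := by
        rw [Subgroup.closure_le]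
        intro w hw
        rcases hw with rfl | rfl
        · exact Subgroup.npow_mem_zpowers g a
        · exact Subgroup.npow_mem_zpowers g b
      exact Subgroup.isCyclic_of_le hle
    rcases h (g ^ a) (g ^ b) hcyc with hm | hm
    · have := orderOf_dvd_of_mem_zpowers hm
      rw [hox, hoy] at this
      have : b = 1 := Nat.Coprime.eq_one_of_dvd hcop.symm this
      omega
    · have := orderOf_dvd_of_mem_zpowers hm
      rw [hox, hoy] at this
      have : a = 1 := Nat.Coprime.eq_one_of_dvd hcop this
      omega

end Cfsg.Agent.S4086
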