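import Mathlib
import Cfsg.Statements.S4088
import Cfsg.Agent.Lib.Helper1.SubnCount

set_option autoImplicit false
open Cfsg

namespace Cfsg.Agent.S4088

open Subgroup Cfsg.Agent.Helper1.SubnCount
open scoped Pointwise

theorem map_conj_le_iff {G : Type*} [Group G] {p : ℕ} (H : Subgroup G) (P : Sylow p G) (x : G) :
    H.map (MulAut.conj x).toMonoidHom ≤ (P : Subgroup G) ↔ H ≤ ((x⁻¹ • P : Sylow p G) : Subgroup G) := by
  rw [Sylow.coe_subgroup_smul]
  constructor
  · intro h y hy
    rw [Subgroup.mem_pointwise_smul_iff_inv_smul_mem]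
    have : (MulAut.conj x⁻¹)⁻¹ • y = (MulAut.conj x).toMonoidHom y := by
      simp [MulAut.smul_def]
    rw [this]
    exact h (Subgroup.mem_map_of_mem _ hy)
  · rintro h _ ⟨y, hy, rfl⟩
    have h1 := h hy
    rw [Subgroup.mem_pointwise_smul_iff_inv_smul_mem] at h1
    have : (MulAut.conj x⁻¹)⁻¹ • y = (MulAut.conj x).toMonoidHom y := by
      simp [MulAut.smul_def]
    rw [this] at h1
    exact h1

theorem transporter_sylow {G : Type*} [Group G] [Finite G] {p : ℕ} [Fact p.Prime] (H : Subgroup G)
    (P : Sylow p G) :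
    Nat.card {x : G // H.map (MulAut.conj x).toMonoidHom ≤ (P : Subgroup G)} =
      Nat.card {Q : Sylow p G // H ≤ (Q : Subgroup G)} *
        Nat.card (normalizer ((P : Subgroup G) : Set G)) := by
  have h := card_transporter (G := G) (α := Sylow p G) (fun x Q => x • Q)
    (fun x y b => mul_smul x y b) (fun b => one_smul G b) P {Q | H ≤ (Q : Subgroup G)}
  have e1 : {x : G // H.map (MulAut.conj x).toMonoidHom ≤ (P : Subgroup G)} ≃
      {x : G // (fun x Q => x • Q) x P ∈ {Q : Sylow p G | H ≤ (Q : Subgroup G)}} :=
    (Equiv.inv G).subtypeEquiv (fun x => by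
      simp only [Set.mem_setOf_eq, Equiv.inv_apply]
      exact map_conj_le_iff H P x)
  have e2 : {b : Sylow p G // b ∈ {Q : Sylow p G | H ≤ (Q : Subgroup G)} ∧
      ∃ x : G, (fun x Q => x • Q) x P = b} ≃ {Q : Sylow p G // H ≤ (Q : Subgroup G)} :=
    Equiv.subtypeEquivRight (fun Q =>
      ⟨fun h => h.1, fun h => ⟨h, MulAction.exists_smul_eq G P Q⟩⟩)
  have e3 : {x : G // (fun x Q => x • Q) x P = P} ≃ normalizer ((P : Subgroup G) : Set G) :=
    Equiv.subtypeEquivRight (fun x => Sylow.smul_eq_iff_mem_normalizer)
  rw [Nat.card_congr e1, h, Nat.card_congr e2, Nat.card_congr e3]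

theorem transporter_conj {G : Type*} [Group G] [Finite G] (H P : Subgroup G) :
    Nat.card {x : G // H.map (MulAut.conj x).toMonoidHom ≤ P} =
      Nat.card {K : Subgroup G // K ≤ P ∧ ∃ g : G, K = H.map (MulAut.conj g).toMonoidHom} *
        Nat.card (normalizer (H : Set G)) := by
  have h := card_transporter (G := G) (α := Subgroup G)
    (fun x K => K.map (MulAut.conj x).toMonoidHom)
    (fun x y b => by
      simp only [Subgroup.map_map]
      congr 1
      ext z
      simp [mul_assoc])
    (fun b => by
      ext z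
      simp) H {K | K ≤ P}
  have e2 : {b : Subgroup G // b ∈ {K : Subgroup G | K ≤ P} ∧
      ∃ x : G, (fun x K => Subgroup.map (MulAut.conj x).toMonoidHom K) x H = b} ≃
      {K : Subgroup G // K ≤ P ∧ ∃ g : G, K = H.map (MulAut.conj g).toMonoidHom} :=
    Equiv.subtypeEquivRight (fun K =>
      ⟨fun h => ⟨h.1, h.2.choose, h.2.choose_spec.symm⟩,
        fun h => ⟨h.1, h.2.choose, h.2.choose_spec.symm⟩⟩)
  have e3 : {x : G // (fun x K => Subgroup.map (MulAut.conj x).toMonoidHom K) x H = H} ≃
      normalizer (H : Set G) :=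
    Equiv.subtypeEquivRight (fun x => Subgroup.mem_normalizer_iff_map_conj_eq.symm)
  have h' : Nat.card {x : G // H.map (MulAut.conj x).toMonoidHom ≤ P} =
      Nat.card {x : G // (fun x K => Subgroup.map (MulAut.conj x).toMonoidHom K) x H ∈
        {K : Subgroup G | K ≤ P}} := rfl
  rw [h', h, Nat.card_congr e2, Nat.card_congr e3]

/-- Let G be a finite group, p a prime dividing the order of G, H a p-subgroup of G and P a Sylow p-subgroup of G. Call the subnormalizer of H the set of elements g of G such that H is subnormal in the subgroup generated by H and g. Then the number of elements of the subnormalizer of H equals the number of Sylow p-subgroups of G containing H times the order of N_G(P), and also equals the number of conjugates of H contained in P times the order of N_G(H). -/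
theorem result {G : Type*} [Group G] [Finite G] (p : ℕ) [Fact p.Prime]
    (hp : p ∣ Nat.card G) (H : Subgroup G) (hH : IsPGroup p H) (P : Sylow p G) :
    Nat.card {g : G // ((H).subgroupOf (H ⊔ Subgroup.zpowers g)).IsSubnormal} =
        Nat.card {Q : Sylow p G // H ≤ (Q : Subgroup G)} * Nat.card (Subgroup.normalizer ((P : Subgroup G) : Set G)) ∧
    Nat.card {g : G // ((H).subgroupOf (H ⊔ Subgroup.zpowers g)).IsSubnormal} =
        Nat.card {K : Subgroup G // K ≤ (P : Subgroup G) ∧ ∃ g : G, K = H.map (MulAut.conj g).toMonoidHom} *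
          Nat.card (Subgroup.normalizer (H : Set G)) := by
  have h1 := card_subnormalizer p hH P
  refine ⟨h1, ?_⟩
  rw [h1, ← transporter_sylow H P, transporter_conj H (P : Subgroup G)]

end Cfsg.Agent.S4088
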