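import Mathlib
import Cfsg.Statements.S4089
import Cfsg.Agent.Lib.Helper9.PCoreSub
import Cfsg.Agent.Lib.Helper3.Subnormal2

set_option autoImplicit false

open Cfsg

namespace Cfsg.Agent.S4089

open scoped Pointwise

universe u

variable {G : Type u} [Group G] [Finite G] (p : ℕ) [hp : Fact p.Prime]

/-- A `p`-subgroup `H ≤ X` is subnormal in `X` iff it lies in `O_p(X)`. -/
theorem sn_iff (H X : Subgroup G) (hH : IsPGroup p H) :
    (H.subgroupOf X).IsSubnormal ↔ H.subgroupOf X ≤ Cfsg.pCore p X := by
  constructor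
  · intro h
    exact Helper9.subnormal_pGroup_le_pCore p _ h hH.comap_subtype
  · intro h
    haveI hKc : (Cfsg.pCore p X).Characteristic := Helper9.pCore_characteristic p
    have hK : (Cfsg.pCore p X).Normal := Subgroup.normal_of_characteristic _
    have hKp : IsPGroup p (Cfsg.pCore p X) := Helper9.pCore_isPGroup' p X
    refine Subgroup.IsSubnormal.trans h ?_ hK.isSubnormal
    exact Helper3.isSubnormal_of_isPGroup hKp _

/-- If `H ≤ R`, `R` a `p`-group and `g` normalizes `R`, then `H` is subnormal in `⟨H, g⟩`. -/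
theorem sn_of_normalizes (H R : Subgroup G) (hHR : H ≤ R) (hR : IsPGroup p R) (g : G)
    (hg : g ∈ Subgroup.normalizer (R : Set G)) :
    (H.subgroupOf (H ⊔ Subgroup.zpowers g)).IsSubnormal := by
  have hHp : IsPGroup p H := hR.to_le hHR
  rw [sn_iff p H _ hHp]
  have hX : H ⊔ Subgroup.zpowers g ≤ Subgroup.normalizer (R : Set G) := by
    apply sup_le (hHR.trans Subgroup.le_normalizer)
    rw [Subgroup.zpowers_le]
    exact hg
  have hn : (R.subgroupOf (H ⊔ Subgroup.zpowers g)).Normal :=
    Subgroup.normal_subgroupOf_of_le_normalizer hX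
  have h1 : R.subgroupOf (H ⊔ Subgroup.zpowers g) ≤ Cfsg.pCore p _ :=
    Helper9.le_pCore' hn hR.comap_subtype
  refine le_trans ?_ h1
  intro x hx
  rw [Subgroup.mem_subgroupOf] at hx ⊢
  exact hHR hx

/-- `R` is `p`-radical. -/
def IsRad (R : Subgroup G) : Prop :=
  (Cfsg.pCore p (Subgroup.normalizer (R : Set G))).map (Subgroup.normalizer (R : Set G)).subtype = R

theorem IsRad.isPGroup {R : Subgroup G} (h : IsRad p R) : IsPGroup p R := by
  unfold IsRad at h
  rw [← h]
  exact (Helper9.pCore_isPGroup' p _).map _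

/-- Every `p`-subgroup lies in a radical subgroup with a larger normalizer. -/
theorem exists_rad : ∀ (n : ℕ) (R₀ : Subgroup G), Nat.card G - Nat.card R₀ = n → IsPGroup p R₀ →
    ∃ R : Subgroup G, R₀ ≤ R ∧ IsRad p R ∧
      Subgroup.normalizer (R₀ : Set G) ≤ Subgroup.normalizer (R : Set G) := by
  intro n
  induction n using Nat.strong_induction_on with
  | _ n ih =>
  intro R₀ hn hR₀
  set N₀ := Subgroup.normalizer (R₀ : Set G) with hN₀
  set R₁ := (Cfsg.pCore p N₀).map N₀.subtype with hR₁
  have hle : R₀ ≤ R₁ := by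
    have hnorm : (R₀.subgroupOf N₀).Normal := Subgroup.normal_in_normalizer
    have h1 : R₀.subgroupOf N₀ ≤ Cfsg.pCore p N₀ := Helper9.le_pCore' hnorm hR₀.comap_subtype
    have h2 := Subgroup.map_mono (f := N₀.subtype) h1
    rwa [Subgroup.map_subgroupOf_eq_of_le Subgroup.le_normalizer] at h2
  by_cases heq : R₁ = R₀
  · exact ⟨R₀, le_refl _, heq, le_refl _⟩
  · have hlt : R₀ < R₁ := lt_of_le_of_ne hle (Ne.symm heq)
    have hR₁p : IsPGroup p R₁ := (Helper9.pCore_isPGroup' p _).map _
    have hcard : Nat.card R₀ < Nat.card R₁ := by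
      by_contra hc
      exact heq (Subgroup.eq_of_le_of_card_ge hle (not_lt.mp hc)).symm
    have hcard2 : Nat.card R₁ ≤ Nat.card G := Subgroup.card_le_card_group R₁
    have hnorm : N₀ ≤ Subgroup.normalizer (R₁ : Set G) := by
      haveI hKc : (Cfsg.pCore p N₀).Characteristic := Helper9.pCore_characteristic p
      have hK : (Cfsg.pCore p N₀).Normal := Subgroup.normal_of_characteristic _
      have h3 := Subgroup.le_normalizer_map (H := Cfsg.pCore p N₀) N₀.subtype
      rw [Subgroup.normalizer_eq_top, ← MonoidHom.range_eq_map, Subgroup.range_subtype] at h3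
      exact h3
    obtain ⟨R, hR1, hR2, hR3⟩ := ih (Nat.card G - Nat.card R₁) (by omega) R₁ rfl hR₁p
    exact ⟨R, hle.trans hR1, hR2, hnorm.trans hR3⟩

/-- The intersection of the Sylow `p`-subgroups containing `H`. -/
def sylInf (H : Subgroup G) : Subgroup G :=
  sInf {K : Subgroup G | ∃ Q : Sylow p G, H ≤ (Q : Subgroup G) ∧ K = (Q : Subgroup G)}

theorem le_sylInf (H : Subgroup G) : H ≤ sylInf p H := by
  apply le_sInf
  rintro K ⟨Q, hQ, rfl⟩
  exact hQ

theorem sylInf_mono {H K : Subgroup G} (h : H ≤ K) : sylInf p H ≤ sylInf p K := by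
  apply sInf_le_sInf
  rintro L ⟨Q, hQ, rfl⟩
  exact ⟨Q, h.trans hQ, rfl⟩

theorem sylInf_isPGroup (H : Subgroup G) (hH : IsPGroup p H) : IsPGroup p (sylInf p H) := by
  obtain ⟨Q, hQ⟩ := hH.exists_le_sylow
  exact Q.2.to_le (sInf_le ⟨Q, hQ, rfl⟩)

/-- A radical subgroup is the intersection of the Sylow subgroups containing it. -/
theorem sylInf_rad (R : Subgroup G) (hR : IsRad p R) : sylInf p R = R := by
  have hRp := hR.isPGroup
  set I := sylInf p R with hI
  set N := Subgroup.normalizer (R : Set G) with hN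
  have hRI : R ≤ I := le_sylInf p R
  have hIp : IsPGroup p I := sylInf_isPGroup p R hRp
  -- N normalizes I
  have hNI : N ≤ Subgroup.normalizer (I : Set G) := by
    have key : ∀ n ∈ N, ∀ x ∈ I, n * x * n⁻¹ ∈ I := by
      intro n hn x hx
      rw [hI, sylInf, Subgroup.mem_sInf]
      rintro K ⟨Q, hQ, rfl⟩
      have hn' : n⁻¹ ∈ N := N.inv_mem hn
      have hQ' : R ≤ ((MulAut.conj n⁻¹ • Q : Sylow p G) : Subgroup G) := by
        intro r hr
        rw [Sylow.pointwise_smul_def, Subgroup.mem_pointwise_smul_iff_inv_smul_mem]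
        apply hQ
        rw [MulAut.smul_def, map_inv, inv_inv, MulAut.conj_apply]
        exact (Subgroup.mem_normalizer_iff.mp hn r).mp hr
      have hx' : x ∈ ((MulAut.conj n⁻¹ • Q : Sylow p G) : Subgroup G) := by
        rw [hI, sylInf, Subgroup.mem_sInf] at hx
        exact hx _ ⟨_, hQ', rfl⟩
      rw [Sylow.pointwise_smul_def, Subgroup.mem_pointwise_smul_iff_inv_smul_mem] at hx'
      rw [MulAut.smul_def, map_inv, inv_inv, MulAut.conj_apply] at hx'
      exact hx'
    intro n hn
    rw [Subgroup.mem_normalizer_iff]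
    intro x
    constructor
    · exact key n hn x
    · intro hx
      have := key n⁻¹ (N.inv_mem hn) _ hx
      simpa [mul_assoc] using this
  -- I ⊓ N ≤ R
  have hINR : I ⊓ N ≤ R := by
    have hn : (I.subgroupOf N).Normal := Subgroup.normal_subgroupOf_of_le_normalizer hNI
    have h1 : I.subgroupOf N ≤ Cfsg.pCore p N := Helper9.le_pCore' hn hIp.comap_subtype
    have h2 := Subgroup.map_mono (f := N.subtype) h1
    rw [Subgroup.subgroupOf_map_subtype] at h2
    unfold IsRad at hR
    rw [hR] at h2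
    exact h2
  -- normalizer condition
  by_contra hne
  have hlt : R.subgroupOf I < ⊤ := by
    rw [lt_top_iff_ne_top]
    intro h
    rw [Subgroup.subgroupOf_eq_top] at h
    exact hne (le_antisymm h hRI)
  haveI : Group.IsNilpotent I := hIp.isNilpotent
  have hnc := Group.normalizerCondition_of_isNilpotent (G := I) _ hlt
  rw [← Subgroup.subgroupOf_normalizer_eq hRI] at hnc
  obtain ⟨x, hx1, hx2⟩ := SetLike.exists_of_lt hnc
  rw [Subgroup.mem_subgroupOf] at hx1 hx2
  exact hx2 (hINR ⟨x.2, hx1⟩)

/-- Let G be a finite group, p a prime and H a p-subgroup of G. Then the set of elements g of G such that H is subnormal in the subgroup generated by H and g is the union of the normalizers N_G(R) over the subgroups R of G containing H with R = O_p(N_G(R)); and this set does not change when H is replaced by the intersection of all Sylow p-subgroups of G containing H. -/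
theorem result {G : Type*} [Group G] [Finite G] (p : ℕ) [Fact p.Prime]
    (H : Subgroup G) (hH : IsPGroup p H) :
    {g : G | ((H).subgroupOf (H ⊔ Subgroup.zpowers g)).IsSubnormal} =
      {g : G | ∃ R : Subgroup G, H ≤ R ∧ (Cfsg.pCore p (Subgroup.normalizer (R : Set G))).map (Subgroup.normalizer (R : Set G)).subtype = R ∧ g ∈ Subgroup.normalizer (R : Set G)} ∧
    ∀ g : G, (((H).subgroupOf (H ⊔ Subgroup.zpowers g)).IsSubnormal ↔
      (((sInf {K : Subgroup G | ∃ Q : Sylow p G, H ≤ (Q : Subgroup G) ∧ K = (Q : Subgroup G)})).subgroupOf ((sInf {K : Subgroup G | ∃ Q : Sylow p G, H ≤ (Q : Subgroup G) ∧ K = (Q : Subgroup G)}) ⊔ Subgroup.zpowers g)).IsSubnormal) := by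
  have part1 : ∀ (H : Subgroup G), IsPGroup p H → ∀ g : G,
      (((H).subgroupOf (H ⊔ Subgroup.zpowers g)).IsSubnormal ↔
        ∃ R : Subgroup G, H ≤ R ∧ IsRad p R ∧ g ∈ Subgroup.normalizer (R : Set G)) := by
    intro H hH g
    constructor
    · intro h
      rw [sn_iff p H _ hH] at h
      set X := H ⊔ Subgroup.zpowers g with hX
      set R₀ := (Cfsg.pCore p X).map X.subtype with hR₀
      have hR₀p : IsPGroup p R₀ := (Helper9.pCore_isPGroup' p _).map _
      have hHR₀ : H ≤ R₀ := by
        have h2 := Subgroup.map_mono (f := X.subtype) h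
        rwa [Subgroup.map_subgroupOf_eq_of_le le_sup_left] at h2
      have hXn : X ≤ Subgroup.normalizer (R₀ : Set G) := by
        haveI hKc : (Cfsg.pCore p X).Characteristic := Helper9.pCore_characteristic p
        have hK : (Cfsg.pCore p X).Normal := Subgroup.normal_of_characteristic _
        have h3 := Subgroup.le_normalizer_map (H := Cfsg.pCore p X) X.subtype
        rw [Subgroup.normalizer_eq_top, ← MonoidHom.range_eq_map, Subgroup.range_subtype] at h3
        exact h3
      obtain ⟨R, hR1, hR2, hR3⟩ := exists_rad p _ R₀ rfl hR₀p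
      refine ⟨R, hHR₀.trans hR1, hR2, hR3 (hXn ?_)⟩
      exact (le_sup_right : Subgroup.zpowers g ≤ X) (Subgroup.mem_zpowers g)
    · rintro ⟨R, hHR, hR, hg⟩
      exact sn_of_normalizes p H R hHR hR.isPGroup g hg
  refine ⟨?_, ?_⟩
  · ext g
    simp only [Set.mem_setOf_eq]
    rw [part1 H hH g]
    rfl
  · intro g
    show _ ↔ ((sylInf p H).subgroupOf (sylInf p H ⊔ Subgroup.zpowers g)).IsSubnormal
    have hIp := sylInf_isPGroup p H hH
    rw [part1 H hH g, part1 _ hIp g]
    constructor
    · rintro ⟨R, hHR, hR, hg⟩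
      refine ⟨R, ?_, hR, hg⟩
      have := sylInf_mono p hHR
      rwa [sylInf_rad p R hR] at this
    · rintro ⟨R, hHR, hR, hg⟩
      exact ⟨R, (le_sylInf p H).trans hHR, hR, hg⟩

end Cfsg.Agent.S4089
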