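import Mathlib
import Cfsg.Statements.S4090
import Cfsg.Agent.Lib.Helper1.SubnSolv
import Cfsg.Agent.S4088

set_option autoImplicit false
open scoped BigOperators
open Cfsg

namespace Cfsg.Agent.S4090

open Subgroup Cfsg.Agent.Helper1.SubnCount Cfsg.Agent.Helper1.SubnSolv

theorem card_mul_relIndex' {G : Type*} [Group G] {H K : Subgroup G} (h : H ≤ K) :
    Nat.card H * H.relIndex K = Nat.card K := by
  have := Subgroup.relIndex_mul_relIndex ⊥ H K bot_le h
  rwa [Subgroup.relIndex_bot_left, Subgroup.relIndex_bot_left] at this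

theorem chain_card {G : Type*} [Group G] : ∀ (n : ℕ) (M : Fin (n + 1) → Subgroup G), Monotone M →
    Nat.card (M (Fin.last n)) =
      Nat.card (M 0) * ∏ i : Fin n, (M i.castSucc).relIndex (M i.succ) := by
  intro n
  induction n with
  | zero =>
    intro M _
    simp
  | succ n ih =>
    intro M hM
    have h1 := ih (fun i => M i.castSucc) (fun i j hij => hM (Fin.castSucc_le_castSucc_iff.mpr hij))
    rw [Fin.prod_univ_castSucc]
    simp only [Fin.succ_castSucc, Fin.castSucc_zero] at h1 ⊢
    rw [← mul_assoc, ← h1, card_mul_relIndex' (hM (Fin.castSucc_le_succ _)), Fin.succ_last]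

section

variable {G : Type*} [Group G] [Finite G] {p : ℕ} [Fact p.Prime]

theorem step (H : Subgroup G) (hH : IsPGroup p H) (P : Sylow p G) {M M' : Subgroup G} [M.Normal]
    [M'.Normal] (hMM' : M ≤ M')
    (hfac : (∃ m : ℕ, M.relIndex M' = p ^ m) ∨ (M.relIndex M').Coprime p) :
    Nat.card (Bset H (P : Subgroup G) M) * (if (M.relIndex M').Coprime p then M.relIndex M' else 1) =
      Nat.card (Bset H (P : Subgroup G) M') *
        (if (M.relIndex M').Coprime p then
          Nat.card {u : G // u ∈ M' ∧ ∀ h ∈ H, h * u * h⁻¹ * u⁻¹ ∈ M} / Nat.card M else 1) := by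
  by_cases hcop : (M.relIndex M').Coprime p
  · rw [if_pos hcop, if_pos hcop]
    have h1 := card_Bset_step H P hH hMM' hcop
    have h2 : Nat.card {u : G // u ∈ M' ∧ ∀ h ∈ H, h * u * h⁻¹ * u⁻¹ ∈ M} =
        Nat.card (Csub H M M') := rfl
    rw [h2]
    have h3 : Nat.card M ∣ Nat.card (Csub H M M') := Subgroup.card_dvd_of_le (le_Csub hMM')
    obtain ⟨c, hc⟩ := h3
    have hMpos : 0 < Nat.card M := Nat.card_pos
    rw [hc, Nat.mul_div_cancel_left _ hMpos]
    rw [hc, ← card_mul_relIndex' hMM'] at h1
    apply Nat.eq_of_mul_eq_mul_left hMpos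
    rw [← mul_assoc, ← mul_assoc, mul_comm (Nat.card M) (Nat.card _), mul_assoc, h1]
    ring
  · rw [if_neg hcop, if_neg hcop]
    rcases hfac with ⟨m, hm⟩ | h
    · rw [Bset_eq_of_pPow H P hMM' hm]
    · exact absurd h hcop

theorem chain_B (H : Subgroup G) (hH : IsPGroup p H) (P : Sylow p G) :
    ∀ (n : ℕ) (M : Fin (n + 1) → Subgroup G), Monotone M → (∀ i, (M i).Normal) →
    (∀ i : Fin n, (∃ m : ℕ, (M i.castSucc).relIndex (M i.succ) = p ^ m) ∨
      ((M i.castSucc).relIndex (M i.succ)).Coprime p) →
    Nat.card (Bset H (P : Subgroup G) (M 0)) *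
        ∏ i : Fin n, (if ((M i.castSucc).relIndex (M i.succ)).Coprime p
          then (M i.castSucc).relIndex (M i.succ) else 1) =
      Nat.card (Bset H (P : Subgroup G) (M (Fin.last n))) *
        ∏ i : Fin n, (if ((M i.castSucc).relIndex (M i.succ)).Coprime p then
          Nat.card {u : G // u ∈ M i.succ ∧ ∀ h ∈ H, h * u * h⁻¹ * u⁻¹ ∈ M i.castSucc} /
            Nat.card (M i.castSucc) else 1) := by
  intro n
  induction n with
  | zero =>
    intro M _ _ _
    simp
  | succ n ih =>
    intro M hM hN hfac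
    have h1 := ih (fun i => M i.castSucc)
      (fun i j hij => hM (Fin.castSucc_le_castSucc_iff.mpr hij)) (fun i => hN _)
      (fun i => by
        have := hfac i.castSucc
        simpa only [Fin.succ_castSucc] using this)
    rw [Fin.prod_univ_castSucc, Fin.prod_univ_castSucc (n := n)]
    simp only [Fin.succ_castSucc, Fin.castSucc_zero] at h1 ⊢
    haveI := hN (Fin.last n).castSucc
    haveI := hN (Fin.last n).succ
    have h2 := step H hH P (hM (Fin.castSucc_le_succ (Fin.last n))) (hfac (Fin.last n))
    rw [← mul_assoc, h1, mul_assoc, mul_comm (∏ i : Fin n, _) _, ← mul_assoc, h2, Fin.succ_last]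
    ring

end

/-- `#G = #P · ∏ (orders of the p'-factors)` -/
theorem card_eq_sylow_mul_prod {G : Type*} [Group G] [Finite G] (p : ℕ) [Fact p.Prime]
    (P : Sylow p G) (n : ℕ) (M : Fin (n + 1) → Subgroup G) (h0 : M 0 = ⊥)
    (hn : M (Fin.last n) = ⊤) (hmono : Monotone M)
    (hfac : ∀ i : Fin n, (∃ m : ℕ, (M i.castSucc).relIndex (M i.succ) = p ^ m) ∨
      ((M i.castSucc).relIndex (M i.succ)).Coprime p) :
    Nat.card G = Nat.card (P : Subgroup G) *
      ∏ i : Fin n, (if ((M i.castSucc).relIndex (M i.succ)).Coprime p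
          then (M i.castSucc).relIndex (M i.succ) else 1) := by
  classical
  set D := ∏ i : Fin n, (if ((M i.castSucc).relIndex (M i.succ)).Coprime p
          then (M i.castSucc).relIndex (M i.succ) else 1) with hD
  set Q := ∏ i : Fin n, (if ((M i.castSucc).relIndex (M i.succ)).Coprime p
          then 1 else (M i.castSucc).relIndex (M i.succ)) with hQ
  have hcard : Nat.card G = D * Q := by
    have h1 := chain_card n M hmono
    rw [h0, hn, Subgroup.card_top, Subgroup.card_bot, one_mul] at h1
    rw [h1, hD, hQ, ← Finset.prod_mul_distrib]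
    apply Finset.prod_congr rfl
    intro i _
    split_ifs <;> simp
  have hDcop : Nat.Coprime D p := by
    rw [hD]
    apply Nat.Coprime.prod_left
    intro i _
    split_ifs with h
    · exact h
    · exact Nat.coprime_one_left p
  have hQpow : ∃ e : ℕ, Q = p ^ e := by
    rw [hQ]
    apply Finset.prod_induction _ (fun x => ∃ e : ℕ, x = p ^ e)
    · rintro a b ⟨e, rfl⟩ ⟨f, rfl⟩
      exact ⟨e + f, (pow_add p e f).symm⟩
    · exact ⟨0, rfl⟩
    · intro i _
      split_ifs with h
      · exact ⟨0, rfl⟩
      · rcases hfac i with hm | hc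
        · exact hm
        · exact absurd hc h
  obtain ⟨e, he⟩ := hQpow
  have hp : p.Prime := Fact.out
  have hDpos : 0 < D := by
    rcases Nat.eq_zero_or_pos D with h | h
    · rw [h, zero_mul] at hcard
      exact absurd hcard Nat.card_pos.ne'
    · exact h
  have hPcard : Nat.card (P : Subgroup G) = Q := by
    have hfz : (D * p ^ e).factorization p = e := by
      rw [Nat.factorization_mul hDpos.ne' (pow_ne_zero e hp.ne_zero), Finsupp.add_apply,
        Nat.factorization_eq_zero_of_not_dvd ((Nat.Prime.coprime_iff_not_dvd hp).mp hDcop.symm),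
        Nat.factorization_pow, Finsupp.smul_apply, Nat.Prime.factorization_self hp]
      simp
    rw [Sylow.card_eq_multiplicity, hcard, he, hfz]
  rw [hcard, hPcard, mul_comm]

/-- Let G be a finite p-solvable group, H a p-subgroup of G and P a Sylow p-subgroup, and fix a chain of normal subgroups 1 = M₀ ≤ M₁ ≤ ⋯ ≤ Mₙ = G of G each of whose factors is a p-group or a p'-group. Then the number of elements g of G such that H is subnormal in the subgroup generated by H and g equals the order of P times the product, over the factors Mᵢ₊₁/Mᵢ of order prime to p, of the order of the centralizer of H in Mᵢ₊₁/Mᵢ (counted as the number of u ∈ Mᵢ₊₁ with [h, u] ∈ Mᵢ for all h ∈ H, divided by the order of Mᵢ). -/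
theorem result {G : Type*} [Group G] [Finite G] (p : ℕ) [Fact p.Prime]
    (hG : Cfsg.IsPSolvable p G) (H : Subgroup G) (hH : IsPGroup p H) (P : Sylow p G)
    (n : ℕ) (M : Fin (n + 1) → Subgroup G) (h0 : M 0 = ⊥) (hn : M (Fin.last n) = ⊤) (hmono : Monotone M)
    (hnormal : ∀ i, (M i).Normal)
    (hfac : ∀ i : Fin n, (∃ m : ℕ, (M i.castSucc).relIndex (M i.succ) = p ^ m) ∨ ((M i.castSucc).relIndex (M i.succ)).Coprime p) :
    Nat.card {g : G // ((H).subgroupOf (H ⊔ Subgroup.zpowers g)).IsSubnormal} =
      Nat.card (P : Subgroup G) *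
        ∏ i : Fin n, (if ((M i.castSucc).relIndex (M i.succ)).Coprime p then
          Nat.card {u : G // u ∈ M i.succ ∧ ∀ h ∈ H, h * u * h⁻¹ * u⁻¹ ∈ M i.castSucc} / Nat.card (M i.castSucc)
          else 1) := by
  classical
  have hB := chain_B H hH P n M hmono hnormal hfac
  rw [h0, hn] at hB
  -- b(⊤) = |G|
  have htop : Nat.card (Bset H (P : Subgroup G) ⊤) = Nat.card G := by
    have : Bset H (P : Subgroup G) ⊤ = Set.univ := by
      ext x
      simp only [Bset, sup_top_eq, Subgroup.mem_top, implies_true, Set.mem_setOf_eq, Set.mem_univ]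
    rw [this]
    exact Nat.card_congr (Equiv.Set.univ G)
  -- b(⊥) = the subnormalizer count
  have hbot : Nat.card (Bset H (P : Subgroup G) ⊥) =
      Nat.card {g : G // ((H).subgroupOf (H ⊔ Subgroup.zpowers g)).IsSubnormal} := by
    rw [card_subnormalizer p hH P, ← Cfsg.Agent.S4088.transporter_sylow H P]
    apply Nat.card_congr
    apply Equiv.subtypeEquivRight
    intro x
    have := map_conj_le_iff_mem_Bset H (P : Subgroup G) ⊥ x
    rw [sup_bot_eq] at this
    exact this.symm
  rw [htop, hbot] at hB
  have hcard := card_eq_sylow_mul_prod p P n M h0 hn hmono hfac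
  set D := ∏ i : Fin n, (if ((M i.castSucc).relIndex (M i.succ)).Coprime p
          then (M i.castSucc).relIndex (M i.succ) else 1) with hD
  have hDpos : 0 < D := by
    rcases Nat.eq_zero_or_pos D with h | h
    · rw [h, mul_zero] at hcard
      exact absurd hcard Nat.card_pos.ne'
    · exact h
  rw [hcard] at hB
  apply Nat.eq_of_mul_eq_mul_right hDpos
  rw [hB]
  ring

end Cfsg.Agent.S4090
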