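import Mathlib
import Cfsg.Statements.S4091
import Cfsg.Agent.Lib.Helper1.SectionAct
import Cfsg.Agent.S4088
import Cfsg.Agent.S4090

set_option autoImplicit false
open Cfsg

namespace Cfsg.Agent.S4091

open Subgroup Cfsg.Agent.Helper1.CoprimeProd Cfsg.Agent.Helper1.SubnSolv
  Cfsg.Agent.Helper1.SectionAct Cfsg.Agent.Helper1.SubnCount
open scoped BigOperators

section Chain

variable {G : Type*} [Group G] [Finite G] (p : ℕ) [hp : Fact p.Prime]
  (n : ℕ) (M : Fin (n + 1) → Subgroup G)

/-- the factor of S4090 attached to the `i`-th section and a subgroup `H` -/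
noncomputable def Cfac (H : Subgroup G) (i : Fin n) : ℕ :=
  if ((M i.castSucc).relIndex (M i.succ)).Coprime p then
    Nat.card {u : G // u ∈ M i.succ ∧ ∀ h ∈ H, h * u * h⁻¹ * u⁻¹ ∈ M i.castSucc} /
      Nat.card (M i.castSucc) else 1

/-- the order of the `i`-th section if it is a `p'`-section, else `1` -/
noncomputable def Dfac (i : Fin n) : ℕ :=
  if ((M i.castSucc).relIndex (M i.succ)).Coprime p then (M i.castSucc).relIndex (M i.succ) else 1

/-- number of Sylow subgroups containing `x` -/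
noncomputable def lam (x : G) : ℕ := Nat.card {Q : Sylow p G // zpowers x ≤ (Q : Subgroup G)}

theorem Cfac_eq_of_coprime (hmono : Monotone M) (hnormal : ∀ i, (M i).Normal) (H : Subgroup G)
    (i : Fin n) (hcop : ((M i.castSucc).relIndex (M i.succ)).Coprime p) :
    haveI := hnormal i.castSucc
    haveI := hnormal i.succ
    Cfac p n M H i = Nat.card (fixOf (M i.castSucc) (M i.succ) H) := by
  haveI := hnormal i.castSucc
  haveI := hnormal i.succ
  unfold Cfac
  rw [if_pos hcop]
  have h1 : Nat.card {u : G // u ∈ M i.succ ∧ ∀ h ∈ H, h * u * h⁻¹ * u⁻¹ ∈ M i.castSucc} =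
      Nat.card (Csub H (M i.castSucc) (M i.succ)) := rfl
  rw [h1, card_Csub (M i.castSucc) (M i.succ) (hmono (Fin.castSucc_le_succ i)) H,
    Nat.mul_div_cancel_left _ Nat.card_pos]

theorem factor_le (hmono : Monotone M) (hnormal : ∀ i, (M i).Normal) (P : Sylow p G)
    [Fintype (P : Subgroup G)] (i : Fin n) :
    (∏ x : (P : Subgroup G), Cfac p n M (zpowers (x : G)) i) ^ p ≤
      (Dfac p n M i) ^ Fintype.card (P : Subgroup G) *
        (Cfac p n M (P : Subgroup G) i) ^ (Fintype.card (P : Subgroup G) * (p - 1)) := by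
  by_cases hcop : ((M i.castSucc).relIndex (M i.succ)).Coprime p
  · haveI := hnormal i.castSucc
    haveI := hnormal i.succ
    have h1 : ∀ x : (P : Subgroup G), Cfac p n M (zpowers (x : G)) i =
        Nat.card (fixSub (((secAct (M i.castSucc) (M i.succ)).comp (P : Subgroup G).subtype) x)) := by
      intro x
      rw [Cfac_eq_of_coprime p n M hmono hnormal _ i hcop, fixOf_zpowers]
      rfl
    have h2 : Cfac p n M (P : Subgroup G) i =
        Nat.card (fixAll ((secAct (M i.castSucc) (M i.succ)).comp (P : Subgroup G).subtype)) := by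
      rw [Cfac_eq_of_coprime p n M hmono hnormal _ i hcop, fixOf_eq_fixAll]
    have h3 : Dfac p n M i = Nat.card (Sec (M i.castSucc) (M i.succ)) := by
      unfold Dfac
      rw [if_pos hcop]
      rfl
    rw [Finset.prod_congr rfl (fun x _ => h1 x), h2, h3]
    apply prod_fix_le p P.isPGroup' _ _ _ _ rfl
    rw [← h3]
    unfold Dfac
    rw [if_pos hcop]
    exact (Nat.Prime.coprime_iff_not_dvd hp.out).mp hcop.symm
  · have h1 : ∀ H : Subgroup G, Cfac p n M H i = 1 := by
      intro H; unfold Cfac; rw [if_neg hcop]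
    have h3 : Dfac p n M i = 1 := by unfold Dfac; rw [if_neg hcop]
    simp [h1, h3]

end Chain

section Star

variable {G : Type*} [Group G] [Finite G] (p : ℕ) [hp : Fact p.Prime]

theorem card_sylow_ge (P : Sylow p G) :
    Nat.card {Q : Sylow p G // ((P : Subgroup G)) ≤ (Q : Subgroup G)} = 1 := by
  rw [Nat.card_eq_one_iff_unique]
  refine ⟨⟨?_⟩, ⟨⟨P, le_rfl⟩⟩⟩
  rintro ⟨Q, hQ⟩ ⟨Q', hQ'⟩
  apply Subtype.ext
  have h1 : (Q : Subgroup G) = P := (P.is_maximal' Q.isPGroup' hQ)
  have h2 : (Q' : Subgroup G) = P := (P.is_maximal' Q'.isPGroup' hQ')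
  exact Sylow.ext (h1.trans h2.symm)

theorem star (hG : Cfsg.IsPSolvable p G) (P : Sylow p G) [Fintype (P : Subgroup G)] :
    (∏ x : (P : Subgroup G), lam p (x : G)) ^ p ≤
      Nat.card (Sylow p G) ^ Fintype.card (P : Subgroup G) := by
  classical
  obtain ⟨n, M, h0, hn, hmono, hnormal, hfac⟩ := hG
  have hG' : Cfsg.IsPSolvable p G := ⟨n, M, h0, hn, hmono, hnormal, hfac⟩
  set m := Fintype.card (P : Subgroup G) with hm
  have hmcard : Nat.card (P : Subgroup G) = m := Nat.card_eq_fintype_card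
  set PiP := ∏ i : Fin n, Cfac p n M (P : Subgroup G) i with hPiP
  set D := ∏ i : Fin n, Dfac p n M i with hD
  -- the two counts of the subnormalizer
  have hcount : ∀ H : Subgroup G, IsPGroup p H →
      Nat.card {Q : Sylow p G // H ≤ (Q : Subgroup G)} *
        Nat.card (normalizer ((P : Subgroup G) : Set G)) =
      Nat.card (P : Subgroup G) * ∏ i : Fin n, Cfac p n M H i := by
    intro H hH
    rw [← card_subnormalizer p hH P]
    exact Cfsg.Agent.S4090.result p hG' H hH P n M h0 hn hmono hnormal hfac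
  have hK1 : Nat.card (normalizer ((P : Subgroup G) : Set G)) = m * PiP := by
    have := hcount (P : Subgroup G) P.isPGroup'
    rw [card_sylow_ge, one_mul, hmcard] at this
    exact this
  have hmpos : 0 < m := by rw [← hmcard]; exact Nat.card_pos
  have hPiPpos : 0 < PiP := by
    rcases Nat.eq_zero_or_pos PiP with h | h
    · rw [h, mul_zero] at hK1
      exact absurd hK1 Nat.card_pos.ne'
    · exact h
  have hK3 : ∀ x : (P : Subgroup G), lam p (x : G) * PiP =
      ∏ i : Fin n, Cfac p n M (zpowers (x : G)) i := by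
    intro x
    have hle : zpowers (x : G) ≤ (P : Subgroup G) := (zpowers_le).mpr x.2
    have := hcount (zpowers (x : G)) (P.isPGroup'.to_le hle)
    rw [hK1, hmcard] at this
    apply Nat.eq_of_mul_eq_mul_left hmpos
    rw [← this]
    unfold lam
    ring
  have hK4 : Nat.card (Sylow p G) * PiP = D := by
    have h1 := Cfsg.Agent.S4090.card_eq_sylow_mul_prod p P n M h0 hn hmono hfac
    have h2 := Subgroup.card_mul_index (normalizer ((P : Subgroup G) : Set G))
    have h3 : (normalizer ((P : Subgroup G) : Set G)).index = Nat.card (Sylow p G) :=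
      (Sylow.card_eq_index_normalizer P).symm
    rw [h3, hK1, h1, hmcard] at h2
    apply Nat.eq_of_mul_eq_mul_left hmpos
    have h4 : D = ∏ i : Fin n, if ((M i.castSucc).relIndex (M i.succ)).Coprime p then
        (M i.castSucc).relIndex (M i.succ) else 1 := by
      rw [hD]; rfl
    rw [h4, ← h2]
    ring
  -- the factor inequalities multiplied together
  have hF := Finset.prod_le_prod' (s := (Finset.univ : Finset (Fin n)))
    (fun i _ => factor_le p n M hmono hnormal P i)
  rw [Finset.prod_pow, Finset.prod_mul_distrib, Finset.prod_pow, Finset.prod_pow, Finset.prod_comm,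
    ← hm, ← hD, ← hPiP] at hF
  rw [Finset.prod_congr rfl (fun x _ => (hK3 x).symm), Finset.prod_mul_distrib, Finset.prod_const,
    Finset.card_univ, ← hm, ← hK4] at hF
  -- cancel
  have hmp : m + m * (p - 1) = m * p := by
    have h1 : 1 ≤ p := hp.out.one_lt.le
    obtain ⟨q, hq⟩ : ∃ q, p = q + 1 := ⟨p - 1, by omega⟩
    rw [hq]
    simp only [Nat.add_sub_cancel]
    ring
  have hpow : 0 < PiP ^ (m * p) := pow_pos hPiPpos _
  apply Nat.le_of_mul_le_mul_right _ hpow
  calc (∏ x : (P : Subgroup G), lam p (x : G)) ^ p * PiP ^ (m * p)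
      = ((∏ x : (P : Subgroup G), lam p (x : G)) * PiP ^ m) ^ p := by
        rw [mul_pow, ← pow_mul]
    _ ≤ (Nat.card (Sylow p G) * PiP) ^ m * PiP ^ (m * (p - 1)) := hF
    _ = Nat.card (Sylow p G) ^ m * PiP ^ (m * p) := by
        rw [mul_pow, mul_assoc, ← pow_add, hmp]

end Star


section Main

theorem amgm {ι : Type*} (s : Finset ι) (hs : s.Nonempty) (a : ι → ℝ) (ha : ∀ i ∈ s, 0 ≤ a i) :
    (s.card : ℝ) ^ s.card * ∏ i ∈ s, a i ≤ (∑ i ∈ s, a i) ^ s.card := by
  have hm : (0:ℝ) < s.card := by exact_mod_cast hs.card_pos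
  have hm' : s.card ≠ 0 := hs.card_pos.ne'
  have h := Real.geom_mean_le_arith_mean_weighted s (fun _ => (1:ℝ) / s.card) a
    (fun i _ => by positivity) (by rw [Finset.sum_const, nsmul_eq_mul]; field_simp) ha
  have h2 : ∏ i ∈ s, a i ^ ((1:ℝ) / s.card) = (∏ i ∈ s, a i) ^ ((1:ℝ)/s.card) :=
    Real.finsetProd_rpow s a ha _
  rw [h2, ← Finset.mul_sum] at h
  have hP : 0 ≤ ∏ i ∈ s, a i := Finset.prod_nonneg ha
  have h3 := pow_le_pow_left₀ (Real.rpow_nonneg hP _) h s.card
  rw [← Real.rpow_natCast, ← Real.rpow_mul hP, one_div, inv_mul_cancel₀ hm.ne', Real.rpow_one,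
    mul_pow] at h3
  calc (s.card : ℝ) ^ s.card * ∏ i ∈ s, a i
      ≤ (s.card : ℝ) ^ s.card * ((↑s.card)⁻¹ ^ s.card * (∑ i ∈ s, a i) ^ s.card) :=
        mul_le_mul_of_nonneg_left h3 (by positivity)
    _ = (∑ i ∈ s, a i) ^ s.card := by
        rw [← mul_assoc, ← mul_pow, mul_inv_cancel₀ hm.ne', one_pow, one_mul]

theorem real_combine (U N W L mm : ℝ) (m p : ℕ) (hm : m ≠ 0) (hp : 1 ≤ p) (hN : 0 < N)
    (hW : 0 ≤ W) (hL : 0 ≤ L) (hmm : 0 ≤ mm)
    (h1 : N * W ≤ U) (h2 : mm ^ m ≤ W ^ m * L) (h3 : L ^ p ≤ N ^ m) :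
    mm ^ p * N ^ (p - 1) ≤ U ^ p := by
  have hU : 0 ≤ U := le_trans (by positivity) h1
  rw [← pow_le_pow_iff_left₀ (by positivity) (by positivity) hm]
  have hNm : 0 < N ^ m := by positivity
  refine le_of_mul_le_mul_right ?_ hNm
  calc (mm ^ p * N ^ (p - 1)) ^ m * N ^ m = (mm ^ m) ^ p * N ^ (p * m) := by
        obtain ⟨q, rfl⟩ : ∃ q, p = q + 1 := ⟨p - 1, by omega⟩
        simp only [Nat.add_sub_cancel]; ring
    _ ≤ (W ^ m * L) ^ p * N ^ (p * m) := by gcongr
    _ = W ^ (m * p) * L ^ p * N ^ (p * m) := by ring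
    _ ≤ W ^ (m * p) * N ^ m * N ^ (p * m) := by gcongr
    _ = ((N * W) ^ p) ^ m * N ^ m := by ring
    _ ≤ (U ^ p) ^ m * N ^ m := by gcongr

variable {G : Type*} [Group G] [Finite G] (p : ℕ) [hp : Fact p.Prime]

theorem lam_pos_iff (g : G) : 0 < lam p g ↔ ∃ k, orderOf g = p ^ k := by
  unfold lam
  rw [Nat.card_pos_iff]
  constructor
  · rintro ⟨⟨⟨Q, hQ⟩⟩, _⟩
    have hg : g ∈ (Q : Subgroup G) := hQ (mem_zpowers g)
    obtain ⟨k, hk⟩ := (IsPGroup.iff_orderOf.mp Q.isPGroup') ⟨g, hg⟩
    exact ⟨k, by rw [← hk, Subgroup.orderOf_mk]⟩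
  · rintro ⟨k, hk⟩
    have hpg : IsPGroup p (zpowers g) := IsPGroup.of_card (n := k) (by rw [Nat.card_zpowers, hk])
    obtain ⟨Q, hQ⟩ := hpg.exists_le_sylow
    exact ⟨⟨⟨Q, hQ⟩⟩, inferInstance⟩

open Classical in
theorem sum_wt [Fintype G] [Fintype (Sylow p G)] :
    ∑ Q : Sylow p G, ∑ g : G, (if g ∈ (Q : Subgroup G) then (1 / (lam p g : ℝ)) else 0) =
      (Nat.card {g : G // ∃ k, orderOf g = p ^ k} : ℝ) := by
  rw [Finset.sum_comm]
  have key : ∀ g : G, ∑ Q : Sylow p G, (if g ∈ (Q : Subgroup G) then (1 / (lam p g : ℝ)) else 0) =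
      if (∃ k, orderOf g = p ^ k) then (1 : ℝ) else 0 := by
    intro g
    rw [← Finset.sum_filter, Finset.sum_const, nsmul_eq_mul]
    have hcard : (Finset.univ.filter (fun Q : Sylow p G => g ∈ (Q : Subgroup G))).card =
        lam p g := by
      unfold lam
      rw [Nat.card_eq_fintype_card, Fintype.card_subtype]
      congr 1
      ext Q
      simp [zpowers_le]
    rw [hcard]
    split_ifs with h
    · have h0 : (0 : ℝ) < (lam p g : ℝ) := by exact_mod_cast (lam_pos_iff p g).mpr h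
      field_simp
    · have h0 : lam p g = 0 := by
        by_contra h0
        exact h ((lam_pos_iff p g).mp (Nat.pos_of_ne_zero h0))
      simp [h0]
  rw [Finset.sum_congr rfl (fun g _ => key g), Finset.sum_boole, Nat.card_eq_fintype_card,
    Fintype.card_subtype]

open Classical in
theorem wt_ge [Fintype G] (Q : Sylow p G) [Fintype (Q : Subgroup G)] :
    (Fintype.card (Q : Subgroup G) : ℝ) ^ Fintype.card (Q : Subgroup G) ≤
      (∑ g : G, (if g ∈ (Q : Subgroup G) then (1 / (lam p g : ℝ)) else 0)) ^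
        Fintype.card (Q : Subgroup G) * ((∏ x : (Q : Subgroup G), lam p (x : G) : ℕ) : ℝ) := by
  have h1 : ∑ g : G, (if g ∈ (Q : Subgroup G) then (1 / (lam p g : ℝ)) else 0) =
      ∑ x : (Q : Subgroup G), (1 / (lam p (x : G) : ℝ)) := by
    rw [← Finset.sum_filter]
    exact Finset.sum_subtype _ (fun x => by simp) _
  rw [h1]
  have hne : (Finset.univ : Finset (Q : Subgroup G)).Nonempty := ⟨1, Finset.mem_univ _⟩
  have h2 := amgm (Finset.univ : Finset (Q : Subgroup G)) hne
    (fun x => (1 / (lam p (x : G) : ℝ))) (fun x _ => by positivity)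
  rw [Finset.card_univ] at h2
  have hpos : ∀ x : (Q : Subgroup G), (0 : ℝ) < (lam p (x : G) : ℝ) := by
    intro x
    have : 0 < lam p (x : G) := by
      unfold lam
      haveI : Nonempty {Q' : Sylow p G // zpowers (x : G) ≤ (Q' : Subgroup G)} :=
        ⟨⟨Q, zpowers_le.mpr x.2⟩⟩
      exact Nat.card_pos
    exact_mod_cast this
  have hL : (0 : ℝ) < ∏ x : (Q : Subgroup G), (lam p (x : G) : ℝ) :=
    Finset.prod_pos (fun x _ => hpos x)
  have h3 : (∏ x : (Q : Subgroup G), (1 / (lam p (x : G) : ℝ))) *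
      ∏ x : (Q : Subgroup G), (lam p (x : G) : ℝ) = 1 := by
    rw [← Finset.prod_mul_distrib]
    apply Finset.prod_eq_one
    intro x _
    have := (hpos x).ne'
    field_simp
  push_cast
  calc (Fintype.card (Q : Subgroup G) : ℝ) ^ Fintype.card (Q : Subgroup G)
      = ((Fintype.card (Q : Subgroup G) : ℝ) ^ Fintype.card (Q : Subgroup G) *
          ∏ x : (Q : Subgroup G), (1 / (lam p (x : G) : ℝ))) *
          ∏ x : (Q : Subgroup G), (lam p (x : G) : ℝ) := by
        rw [mul_assoc, h3, mul_one]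
    _ ≤ _ := mul_le_mul_of_nonneg_right h2 hL.le

theorem main (hG : Cfsg.IsPSolvable p G) (P : Sylow p G) :
    Nat.card (P : Subgroup G) ^ p * Nat.card (Sylow p G) ^ (p - 1) ≤
      Nat.card {g : G // ∃ k, orderOf g = p ^ k} ^ p := by
  classical
  letI : Fintype G := Fintype.ofFinite G
  letI : Fintype (Sylow p G) := Fintype.ofFinite _
  set w : Sylow p G → ℝ := fun Q =>
    ∑ g : G, (if g ∈ (Q : Subgroup G) then (1 / (lam p g : ℝ)) else 0) with hw
  obtain ⟨Q₀, -, hQ₀⟩ := Finset.exists_min_image (Finset.univ : Finset (Sylow p G)) w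
    ⟨P, Finset.mem_univ _⟩
  letI : Fintype (Q₀ : Subgroup G) := Fintype.ofFinite _
  have hsum : ∑ Q : Sylow p G, w Q = (Nat.card {g : G // ∃ k, orderOf g = p ^ k} : ℝ) :=
    sum_wt p
  have h1 : (Nat.card (Sylow p G) : ℝ) * w Q₀ ≤
      (Nat.card {g : G // ∃ k, orderOf g = p ^ k} : ℝ) := by
    rw [← hsum]
    have := Finset.card_nsmul_le_sum (Finset.univ : Finset (Sylow p G)) w (w Q₀)
      (fun Q hQ => hQ₀ Q hQ)
    rw [nsmul_eq_mul, Finset.card_univ, ← Nat.card_eq_fintype_card] at this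
    exact this
  have h2 := wt_ge p Q₀
  have h3 := star p hG Q₀
  have hcardQ : Fintype.card (Q₀ : Subgroup G) = Nat.card (P : Subgroup G) := by
    rw [← Nat.card_eq_fintype_card]
    rw [Sylow.card_eq_multiplicity Q₀, Sylow.card_eq_multiplicity P]
  rw [hcardQ] at h2 h3
  have h3' : ((∏ x : (Q₀ : Subgroup G), lam p (x : G) : ℕ) : ℝ) ^ p ≤
      (Nat.card (Sylow p G) : ℝ) ^ Nat.card (P : Subgroup G) := by
    exact_mod_cast h3
  have hW : 0 ≤ w Q₀ := by
    rw [hw]
    apply Finset.sum_nonneg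
    intro g _
    split_ifs
    · positivity
    · exact le_rfl
  have hN : (0 : ℝ) < (Nat.card (Sylow p G) : ℝ) := by exact_mod_cast Nat.card_pos
  have := real_combine _ _ _ _ (Nat.card (P : Subgroup G) : ℝ) (Nat.card (P : Subgroup G)) p
    Nat.card_pos.ne' hp.out.one_lt.le hN hW (by positivity) (by positivity) h1 h2 h3'
  exact_mod_cast this

end Main

/-- Let G be a finite p-solvable group, P a Sylow p-subgroup of G, u the number of p-elements of G (elements of p-power order, the identity included) and n the number of Sylow p-subgroups of G. Then u/#P ≥ n^((p−1)/p), stated as u^p ≥ #P^p · n^(p−1). -/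
theorem result {G : Type*} [Group G] [Finite G] (p : ℕ) [Fact p.Prime]
    (hG : Cfsg.IsPSolvable p G) (P : Sylow p G) :
    Nat.card (P : Subgroup G) ^ p * Nat.card (Sylow p G) ^ (p - 1) ≤ Nat.card {g : G // ∃ k : ℕ, orderOf g = p ^ k} ^ p := by
  exact main p hG P

end Cfsg.Agent.S4091
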