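import Mathlib
import Cfsg.Statements.S4092

set_option autoImplicit false
open Cfsg

namespace Cfsg.Agent.S4092

variable {G : Type*} [Group G] [Finite G]

theorem exists_ne_of_not_normal (p : ℕ) [Fact p.Prime] (P : Sylow p G)
    (hP : ¬ (P : Subgroup G).Normal) : ∃ Q : Sylow p G, Q ≠ P := by
  by_contra h
  push Not at h
  apply hP
  rw [← Subgroup.normalizer_eq_top_iff, eq_top_iff]
  intro g _
  exact Sylow.smul_eq_iff_mem_normalizer.1 (h _)

theorem mem_smul_sylow_iff (p : ℕ) [Fact p.Prime] (Q : Sylow p G) (z x : G) :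
    x ∈ ((z • Q : Sylow p G) : Subgroup G) ↔ z⁻¹ * x * z ∈ (Q : Subgroup G) := by
  rw [Sylow.coe_subgroup_smul, Subgroup.mem_pointwise_smul_iff_inv_smul_mem]
  simp [MulAut.smul_def]

theorem main_count (p : ℕ) [Fact p.Prime] (P₁ Q₁ : Sylow p G) (hne : P₁ ≠ Q₁)
    (hmax : ∀ P' Q' : Sylow p G, P' ≠ Q' →
      Nat.card ((P' : Subgroup G) ⊓ (Q' : Subgroup G) : Subgroup G) ≤
        Nat.card ((P₁ : Subgroup G) ⊓ (Q₁ : Subgroup G) : Subgroup G)) :
    p * Nat.card (P₁ : Subgroup G) ≤ Nat.card {g : G // ∃ k : ℕ, orderOf g = p ^ k} := by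
  classical
  have hp : p.Prime := Fact.out
  set D : Subgroup G := (P₁ : Subgroup G) ⊓ (Q₁ : Subgroup G) with hD
  set A : Subgroup G := (P₁ : Subgroup G) ⊓ Subgroup.normalizer (D : Set G) with hA
  have hDP : D ≤ (P₁ : Subgroup G) := inf_le_left
  have hDQ : D ≤ (Q₁ : Subgroup G) := inf_le_right
  have hDA : D ≤ A := le_inf hDP Subgroup.le_normalizer
  have hAP : A ≤ (P₁ : Subgroup G) := inf_le_left
  -- D is proper in P₁
  have hDtop : D.subgroupOf (P₁ : Subgroup G) < ⊤ := by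
    rw [lt_top_iff_ne_top, Ne, Subgroup.subgroupOf_eq_top]
    intro hle
    have h1 : (P₁ : Subgroup G) ≤ Q₁ := hle.trans hDQ
    exact hne (Sylow.ext (P₁.is_maximal' Q₁.isPGroup' h1).symm)
  -- normalizers grow
  have hnil : Group.IsNilpotent (P₁ : Subgroup G) := P₁.isPGroup'.isNilpotent
  have hgrow := normalizerCondition_of_isNilpotent (G := (P₁ : Subgroup G)) _ hDtop
  rw [← Subgroup.subgroupOf_normalizer_eq hDP] at hgrow
  obtain ⟨y, hyN, hyD⟩ := SetLike.exists_of_lt hgrow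
  have hyA : (y : G) ∈ A := ⟨y.2, hyN⟩
  have hyD' : (y : G) ∉ D := hyD
  have hDA_ne : D ≠ A := fun h => hyD' (h ▸ hyA)
  -- cardinalities
  have hApg : IsPGroup p A := P₁.isPGroup'.to_le hAP
  obtain ⟨n, hn⟩ := hApg.index (D.subgroupOf A)
  have hcardAD : Nat.card D * p ^ n = Nat.card A := by
    rw [← hn, ← Subgroup.card_mul_index (D.subgroupOf A),
      Nat.card_congr (Subgroup.subgroupOfEquivOfLe hDA).toEquiv]
  have hn0 : n ≠ 0 := by
    intro h0
    rw [h0, pow_zero, mul_one] at hcardAD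
    exact hDA_ne (Subgroup.eq_of_le_of_card_ge hDA hcardAD.ge)
  have hpDA : p * Nat.card D ≤ Nat.card A := by
    rw [← hcardAD, mul_comm]
    exact Nat.mul_le_mul_left _ (Nat.le_self_pow hn0 p)
  have hAleP : Nat.card A ≤ Nat.card (P₁ : Subgroup G) := Subgroup.card_le_of_le hAP
  have hPQ : Nat.card (Q₁ : Subgroup G) = Nat.card (P₁ : Subgroup G) := by
    rw [Sylow.card_eq_multiplicity Q₁, Sylow.card_eq_multiplicity P₁]
  -- the target set
  set S' : Set G := {g : G | (∃ k : ℕ, orderOf g = p ^ k) ∧ g ∉ (P₁ : Subgroup G)} with hS'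
  set B : Set G := ((Q₁ : Subgroup G) : Set G) \ (D : Set G) with hB
  -- A normalizes D
  have hnormD : ∀ z ∈ A, ∀ d ∈ D, z⁻¹ * d * z ∈ D := by
    intro z hz d hd
    exact (Subgroup.mem_set_normalizer_iff''.1 hz.2 d).1 hd
  -- key
  have key : ∀ x ∈ A, ∀ q ∈ B, ∀ x' ∈ A, ∀ q' ∈ B,
      x * q * x⁻¹ = x' * q' * x'⁻¹ → x'⁻¹ * x ∈ D := by
    intro x hx q hq x' hx' q' hq' heq
    set z := x'⁻¹ * x with hz
    have hzA : z ∈ A := A.mul_mem (A.inv_mem hx') hx
    have hzq : z * q * z⁻¹ = q' := by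
      have : z * q * z⁻¹ = x'⁻¹ * (x * q * x⁻¹) * x' := by rw [hz]; group
      rw [this, heq]; group
    by_cases hzQ : z • Q₁ = Q₁
    · have h1 : z ∈ (P₁ : Subgroup G) ⊓ Subgroup.normalizer ((Q₁ : Subgroup G) : Set G) :=
        ⟨hzA.1, Sylow.smul_eq_iff_mem_normalizer.1 hzQ⟩
      have h2 := IsPGroup.inf_normalizer_sylow P₁.isPGroup' Q₁
      exact h2.le h1
    · exfalso
      have hle : D ≤ ((z • Q₁ : Sylow p G) : Subgroup G) ⊓ (Q₁ : Subgroup G) := by
        intro d hd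
        exact ⟨(mem_smul_sylow_iff p Q₁ z d).2 (hDQ (hnormD z hzA d hd)), hDQ hd⟩
      have hcard := hmax (z • Q₁) Q₁ hzQ
      have heqD := Subgroup.eq_of_le_of_card_ge hle hcard
      have hq'mem : q' ∈ ((z • Q₁ : Sylow p G) : Subgroup G) ⊓ (Q₁ : Subgroup G) := by
        refine ⟨(mem_smul_sylow_iff p Q₁ z q').2 ?_, hq'.1⟩
        rw [← hzq]
        have : z⁻¹ * (z * q * z⁻¹) * z = q := by group
        rw [this]; exact hq.1
      rw [← heqD] at hq'mem
      exact hq'.2 hq'mem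
  -- conjugates land in S'
  have hmemS : ∀ x ∈ A, ∀ q ∈ B, x * q * x⁻¹ ∈ S' := by
    intro x hx q hq
    constructor
    · obtain ⟨k, hk⟩ := (IsPGroup.iff_orderOf.1 Q₁.isPGroup') ⟨q, hq.1⟩
      refine ⟨k, ?_⟩
      have h1 := (MulAut.conj x).orderOf_eq q
      rw [MulAut.conj_apply] at h1
      rw [h1, ← hk, Subgroup.orderOf_mk]
    · intro hmem
      apply hq.2
      refine ⟨?_, hq.1⟩
      have hxP := hAP hx
      have : q = x⁻¹ * (x * q * x⁻¹) * x := by group
      rw [this]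
      exact (P₁ : Subgroup G).mul_mem ((P₁ : Subgroup G).mul_mem ((P₁ : Subgroup G).inv_mem hxP) hmem) hxP
  -- representatives
  set T : Set G := {g : G | ∃ x ∈ A, ∃ q ∈ B, g = x * q * x⁻¹} with hT
  have hTS : T ⊆ S' := by
    rintro g ⟨x, hx, q, hq, rfl⟩
    exact hmemS x hx q hq
  have hrep : ∀ t : T, ∃ xq : G × G, xq.1 ∈ A ∧ xq.2 ∈ B ∧ (t : G) = xq.1 * xq.2 * xq.1⁻¹ := by
    rintro ⟨t, x, hx, q, hq, rfl⟩
    exact ⟨(x, q), hx, hq, rfl⟩
  choose rep hrep1 hrep2 hrep3 using hrep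
  let ψ : A × B → T × D := fun xq =>
    (⟨(xq.1 : G) * (xq.2 : G) * (xq.1 : G)⁻¹, (xq.1 : G), xq.1.2, (xq.2 : G), xq.2.2, rfl⟩,
      ⟨(rep ⟨(xq.1 : G) * (xq.2 : G) * (xq.1 : G)⁻¹, (xq.1 : G), xq.1.2, (xq.2 : G), xq.2.2,
        rfl⟩).1⁻¹ * (xq.1 : G), by
        set t : T := ⟨(xq.1 : G) * (xq.2 : G) * (xq.1 : G)⁻¹, (xq.1 : G), xq.1.2, (xq.2 : G),
          xq.2.2, rfl⟩ with ht
        exact key _ xq.1.2 _ xq.2.2 _ (hrep1 t) _ (hrep2 t) (hrep3 t)⟩)
  have hψ : Function.Injective ψ := by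
    rintro ⟨x, q⟩ ⟨x', q'⟩ h
    have h1 := congrArg (fun t => (t.1 : T)) h
    have h2 := congrArg (fun t => ((t.2 : D) : G)) h
    simp only [ψ] at h1 h2
    have hz : (x : G) * (q : G) * (x : G)⁻¹ = (x' : G) * (q' : G) * (x' : G)⁻¹ :=
      congrArg Subtype.val h1
    rw [h1] at h2
    have hx : (x : G) = (x' : G) := mul_left_cancel h2
    have hq : (q : G) = (q' : G) := by
      rw [hx] at hz
      exact mul_left_cancel (mul_right_cancel hz)
    exact Prod.ext (Subtype.ext hx) (Subtype.ext hq)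
  have hcard := Nat.card_le_card_of_injective ψ hψ
  rw [Nat.card_prod, Nat.card_prod] at hcard
  have hBcard : Nat.card B = Nat.card (P₁ : Subgroup G) - Nat.card D := by
    rw [Nat.card_coe_set_eq, hB, Set.ncard_diff (by exact_mod_cast hDQ) (Set.toFinite _),
      ← Nat.card_coe_set_eq, ← Nat.card_coe_set_eq, ← hPQ]
    rfl
  have hTle : Nat.card T ≤ Nat.card S' := by
    rw [Nat.card_coe_set_eq, Nat.card_coe_set_eq]
    exact Set.ncard_le_ncard hTS (Set.toFinite _)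
  -- the p-elements contain P₁ and S'
  have hunion : Nat.card (P₁ : Subgroup G) + Nat.card S' ≤
      Nat.card {g : G // ∃ k : ℕ, orderOf g = p ^ k} := by
    have hdisj : Disjoint (((P₁ : Subgroup G) : Set G)) S' := by
      rw [Set.disjoint_left]
      intro g hg hg'
      exact hg'.2 hg
    have hsub : (((P₁ : Subgroup G) : Set G)) ∪ S' ⊆ {g : G | ∃ k : ℕ, orderOf g = p ^ k} := by
      rintro g (hg | hg)
      · obtain ⟨k, hk⟩ := (IsPGroup.iff_orderOf.1 P₁.isPGroup') ⟨g, hg⟩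
        exact ⟨k, by rw [← hk, Subgroup.orderOf_mk]⟩
      · exact hg.1
    have h1 := Set.ncard_le_ncard hsub (Set.toFinite _)
    rw [Set.ncard_union_eq hdisj (Set.toFinite _) (Set.toFinite _)] at h1
    rw [Nat.card_coe_set_eq S']
    calc Nat.card (P₁ : Subgroup G) + S'.ncard
        = (((P₁ : Subgroup G) : Set G)).ncard + S'.ncard := by
          rw [← Nat.card_coe_set_eq]; rfl
      _ ≤ _ := h1
      _ = _ := by rw [← Nat.card_coe_set_eq]; rfl
  -- arithmetic
  have hDpos : 0 < Nat.card D := Nat.card_pos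
  have hpDP : p * Nat.card D ≤ Nat.card (P₁ : Subgroup G) := hpDA.trans hAleP
  rw [hBcard] at hcard
  have h3 : p * (Nat.card (P₁ : Subgroup G) - Nat.card D) ≤ Nat.card S' := by
    have h4 : p * Nat.card D * (Nat.card (P₁ : Subgroup G) - Nat.card D) ≤
        Nat.card S' * Nat.card D :=
      (Nat.mul_le_mul_right _ hpDA).trans (hcard.trans (Nat.mul_le_mul_right _ hTle))
    have h5 : p * (Nat.card (P₁ : Subgroup G) - Nat.card D) * Nat.card D ≤
        Nat.card S' * Nat.card D := by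
      calc _ = p * Nat.card D * (Nat.card (P₁ : Subgroup G) - Nat.card D) := by ring
        _ ≤ _ := h4
    exact Nat.le_of_mul_le_mul_right h5 hDpos
  have h6 : p * Nat.card (P₁ : Subgroup G) ≤ Nat.card (P₁ : Subgroup G) + Nat.card S' := by
    have : p * (Nat.card (P₁ : Subgroup G) - Nat.card D) =
        p * Nat.card (P₁ : Subgroup G) - p * Nat.card D := Nat.mul_sub p _ _
    omega
  exact h6.trans hunion

/-- Let G be a finite group, p a prime and P a Sylow p-subgroup of G that is not normal in G. Then G has at least p·#P elements of p-power order (the identity included). -/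
theorem result {G : Type*} [Group G] [Finite G] (p : ℕ) [Fact p.Prime]
    (P : Sylow p G) (hP : ¬ (P : Subgroup G).Normal) :
    p * Nat.card (P : Subgroup G) ≤ Nat.card {g : G // ∃ k : ℕ, orderOf g = p ^ k} := by
  classical
  obtain ⟨Q, hQ⟩ := exists_ne_of_not_normal p P hP
  haveI : Nonempty {pq : Sylow p G × Sylow p G // pq.1 ≠ pq.2} := ⟨⟨(P, Q), fun h => hQ h.symm⟩⟩
  obtain ⟨⟨⟨P₁, Q₁⟩, hne⟩, hmax⟩ := Finite.exists_max
    (fun pq : {pq : Sylow p G × Sylow p G // pq.1 ≠ pq.2} =>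
      Nat.card ((pq.1.1 : Subgroup G) ⊓ (pq.1.2 : Subgroup G) : Subgroup G))
  have := main_count p P₁ Q₁ hne (fun P' Q' h => hmax ⟨(P', Q'), h⟩)
  rwa [Sylow.card_eq_multiplicity P₁, ← Sylow.card_eq_multiplicity P] at this

end Cfsg.Agent.S4092
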