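import Mathlib
import Cfsg.Statements.S4093
import Cfsg.Agent.Lib.Helper20.SubgroupConjClass
import Cfsg.Agent.Lib.Helper20.SylowConj3
import Cfsg.Agent.Lib.Helper20.SylowBasic

set_option autoImplicit false
open Cfsg

namespace Cfsg.Agent.S4093

/-- Let G be a finite group with a normal subgroup N complementing a Sylow p-subgroup P (a normal p-complement). Then the number of elements of G of p-power order equals the sum over x ∈ P of the index of C_N(x) in N. -/
theorem result {G : Type*} [Group G] [Finite G] (p : ℕ) [Fact p.Prime]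
    (P : Sylow p G) (N : Subgroup G) [N.Normal] (hNP : N.IsComplement' (P : Subgroup G)) :
    Nat.card {g : G // ∃ k : ℕ, orderOf g = p ^ k} =
      ∑ᶠ x : (P : Subgroup G), Nat.card N / Nat.card ↥(N ⊓ Subgroup.centralizer ({(x : G)} : Set G)) := by
  classical
  have hp : p.Prime := Fact.out
  have hsup : N ⊔ (P : Subgroup G) = ⊤ := hNP.sup_eq_top
  have hdisj : N ⊓ (P : Subgroup G) = ⊥ := disjoint_iff.mp hNP.disjoint
  have hex : ∀ g : {g : G // ∃ k : ℕ, orderOf g = p ^ k},
      ∃ x : (P : Subgroup G), ∃ n ∈ N, n⁻¹ * g.1 * n = x := by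
    intro g
    obtain ⟨n, hn, hx⟩ := Helper20.exists_conj_mem_sylow_of_mem_sup_normal P N
      (by rw [hsup]; exact Subgroup.mem_top _) g.2
    exact ⟨⟨_, hx⟩, n, hn, rfl⟩
  choose f hf using hex
  have hfiber : ∀ x : (P : Subgroup G), Nat.card {g // f g = x} =
      Nat.card {h : G // ∃ n ∈ N, h = n * x * n⁻¹} := by
    intro x
    apply Nat.card_congr
    refine
      { toFun := fun g => ⟨g.1.1, ?_⟩
        invFun := fun h => ⟨⟨h.1, ?_⟩, ?_⟩
        left_inv := fun g => rfl
        right_inv := fun h => rfl }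
    · obtain ⟨n, hn, hnx⟩ := hf g.1
      rw [g.2] at hnx
      exact ⟨n, hn, by rw [← hnx]; group⟩
    · obtain ⟨n, hn, hh⟩ := h.2
      obtain ⟨k, hk⟩ := Helper20.exists_orderOf_eq_of_mem_isPGroup P.isPGroup' x.2
      refine ⟨k, ?_⟩
      rw [hh, ← hk]
      have := MulEquiv.orderOf_eq (MulAut.conj n) (x : G)
      rw [MulAut.conj_apply] at this
      exact this
    · obtain ⟨n, hn, hh⟩ := h.2
      obtain ⟨n', hn', hx'⟩ := hf ⟨h.1, by
        obtain ⟨k, hk⟩ := Helper20.exists_orderOf_eq_of_mem_isPGroup P.isPGroup' x.2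
        refine ⟨k, ?_⟩
        rw [hh, ← hk]
        have := MulEquiv.orderOf_eq (MulAut.conj n) (x : G)
        rw [MulAut.conj_apply] at this
        exact this⟩
      simp only at hx'
      set x' := f ⟨h.1, _⟩ with hx'def
      -- x⁻¹ x' ∈ N ⊓ P
      have hmem : (x : G)⁻¹ * (x' : G) ∈ N ⊓ (P : Subgroup G) := by
        refine ⟨?_, Subgroup.mul_mem _ (Subgroup.inv_mem _ x.2) x'.2⟩
        rw [← hx', hh]
        have e : (x : G)⁻¹ * (n'⁻¹ * (n * ↑x * n⁻¹) * n')
            = ((x : G)⁻¹ * (n'⁻¹ * n) * ((x : G)⁻¹)⁻¹) * (n⁻¹ * n') := by group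
        rw [e]
        exact N.mul_mem (Subgroup.Normal.conj_mem inferInstance _
          (N.mul_mem (N.inv_mem hn') hn) _) (N.mul_mem (N.inv_mem hn) hn')
      rw [hdisj, Subgroup.mem_bot] at hmem
      apply Subtype.ext
      have : (x' : G) = (x : G) := by
        calc (x' : G) = (x : G) * ((x : G)⁻¹ * (x' : G)) := by group
          _ = (x : G) := by rw [hmem, mul_one]
      exact this
  have hclass : ∀ x : (P : Subgroup G), Nat.card {h : G // ∃ n ∈ N, h = n * x * n⁻¹} =
      Nat.card N / Nat.card ↥(N ⊓ Subgroup.centralizer ({(x : G)} : Set G)) := by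
    intro x
    have h := Helper20.card_conj_by_subgroup N (x : G)
    exact (Nat.div_eq_of_eq_mul_left Nat.card_pos h.symm).symm
  have : Fintype (P : Subgroup G) := Fintype.ofFinite _
  rw [finsum_eq_sum_of_fintype]
  rw [← Nat.card_congr (Equiv.sigmaFiberEquiv f), Nat.card_sigma]
  apply Finset.sum_congr rfl
  intro x _
  rw [hfiber, hclass]

end Cfsg.Agent.S4093
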