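import Mathlib
import Cfsg.Statements.S4097
import Cfsg.Agent.S0035
import Cfsg.Agent.S0042
import Cfsg.Agent.Lib.Helper7.Signalizer

set_option autoImplicit false
open Cfsg

namespace Cfsg.Agent.S4097

open scoped Pointwise

universe u

/-- The statement for all groups of a given order, by strong induction on the order. -/
theorem aux : ∀ (n : ℕ) (G : Type u) [Group G] [Finite G], Nat.card G = n →
    ∀ (A : Subgroup G), Group.IsSolvable A →
    (∀ S : Subgroup G, A ≤ S → Group.IsSolvable S → ∀ a ∈ A, ∀ s ∈ S, a * s = s * a) →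
    A ≤ Subgroup.center G := by
  intro n
  induction n using Nat.strong_induction_on with
  | _ n ih =>
  intro G _ _ hn A hA hc
  by_contra hnot
  set C : Subgroup G := Subgroup.centralizer (A : Set G) with hC
  have hAab : ∀ a ∈ A, ∀ b ∈ A, a * b = b * a := hc A le_rfl hA
  have hAC : A ≤ C := fun a ha =>
    Subgroup.mem_centralizer_iff.mpr (fun b hb => hAab b hb a ha)
  have hZC : Subgroup.center G ≤ C := Subgroup.center_le_centralizer _
  have hCtop : C ≠ ⊤ := by
    intro h
    apply hnot
    intro a ha
    rw [Subgroup.mem_center_iff]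
    intro g
    have hg : g ∈ C := h ▸ Subgroup.mem_top g
    exact (Subgroup.mem_centralizer_iff.mp hg a ha).symm
  -- every proper subgroup containing `A` centralizes `A`
  have hmax : ∀ M : Subgroup G, M ≠ ⊤ → A ≤ M → M ≤ C := by
    intro M hM hAM
    have hlt : Nat.card M < n := by
      rw [← hn]
      refine lt_of_le_of_ne (Subgroup.card_le_card_group M) ?_
      intro h
      exact hM (Subgroup.card_eq_iff_eq_top M |>.mp h)
    have hsolv : Group.IsSolvable (A.subgroupOf M) :=
      solvable_of_solvable_injective (f := (Subgroup.subgroupOfEquivOfLe hAM).toMonoidHom)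
        (Subgroup.subgroupOfEquivOfLe hAM).injective
    have key := ih (Nat.card M) hlt M rfl (A.subgroupOf M) hsolv (by
      intro S hAS hS a ha s hs
      have hS' : Group.IsSolvable (S.map M.subtype) :=
        solvable_of_surjective (f := (S.equivMapOfInjective M.subtype
          (Subgroup.subtype_injective M)).toMonoidHom)
          (S.equivMapOfInjective M.subtype (Subgroup.subtype_injective M)).surjective
      have hAS' : A ≤ S.map M.subtype := by
        intro x hx
        refine ⟨⟨x, hAM hx⟩, hAS ?_, rfl⟩
        rw [Subgroup.mem_subgroupOf]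
        exact hx
      have := hc (S.map M.subtype) hAS' hS' (a : G) (Subgroup.mem_subgroupOf.mp ha) (s : G)
        ⟨s, hs, rfl⟩
      exact Subtype.ext this)
    intro m hm
    rw [hC, Subgroup.mem_centralizer_iff]
    intro a ha
    have h1 : (⟨a, hAM ha⟩ : M) ∈ A.subgroupOf M := by
      rw [Subgroup.mem_subgroupOf]; exact ha
    have h2 := key h1
    rw [Subgroup.mem_center_iff] at h2
    have h3 := h2 ⟨m, hm⟩
    have h4 := congrArg Subtype.val h3
    simpa using h4.symm
  -- `C` is self-normalizing
  have hnorm : ∀ g : G, (∀ c ∈ C, g * c * g⁻¹ ∈ C) → g ∈ C := by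
    intro g hg
    have hgN : g ∈ Subgroup.normalizer (C : Set G) :=
      Cfsg.Agent.Helper7.mem_normalizer_of_forall_conj_mem hg
    by_cases hN : Subgroup.normalizer (C : Set G) = ⊤
    · -- `C` is normal: contradiction
      exfalso
      have hCn : ∀ x : G, ∀ c ∈ C, x * c * x⁻¹ ∈ C := by
        intro x c hc'
        have hx : x ∈ Subgroup.normalizer (C : Set G) := hN ▸ Subgroup.mem_top x
        exact (Subgroup.mem_set_normalizer_iff.mp hx c).mp hc'
      set Z' : Subgroup G := C ⊓ Subgroup.centralizer (C : Set G) with hZ'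
      have hAZ' : A ≤ Z' := by
        intro a ha
        refine Subgroup.mem_inf.mpr ⟨hAC ha, Subgroup.mem_centralizer_iff.mpr ?_⟩
        intro c hc'
        exact (Subgroup.mem_centralizer_iff.mp hc' a ha).symm
      have hZ'solv : Group.IsSolvable Z' := by
        apply isSolvable_of_comm
        intro x y
        have := Subgroup.mem_centralizer_iff.mp (Subgroup.mem_inf.mp y.2).2 (x : G)
          (Subgroup.mem_inf.mp x.2).1
        exact Subtype.ext this
      apply hnot
      intro a ha
      rw [Subgroup.mem_center_iff]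
      intro x
      have hxn : ∀ z ∈ Z', x * z * x⁻¹ ∈ Z' := by
        intro z hz
        have hz1 := (Subgroup.mem_inf.mp hz).1
        have hz2 := (Subgroup.mem_inf.mp hz).2
        refine Subgroup.mem_inf.mpr ⟨hCn x z hz1, Subgroup.mem_centralizer_iff.mpr ?_⟩
        intro c hc'
        have h1 : x⁻¹ * c * x ∈ C := by
          have := hCn x⁻¹ c hc'
          simpa using this
        have h2 := Subgroup.mem_centralizer_iff.mp hz2 _ h1
        -- h2 : x⁻¹ * c * x * z = z * (x⁻¹ * c * x)
        calc c * (x * z * x⁻¹) = x * (x⁻¹ * c * x * z) * x⁻¹ := by group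
          _ = x * (z * (x⁻¹ * c * x)) * x⁻¹ := by rw [h2]
          _ = x * z * x⁻¹ * c := by group
      have hxN : Subgroup.zpowers x ≤ Subgroup.normalizer (Z' : Set G) := by
        rw [Subgroup.zpowers_le]
        exact Cfsg.Agent.Helper7.mem_normalizer_of_forall_conj_mem hxn
      have hzs : Group.IsSolvable (Subgroup.zpowers x) := by
        apply isSolvable_of_comm
        intro y z
        obtain ⟨i, hi⟩ := y.2
        obtain ⟨j, hj⟩ := z.2
        apply Subtype.ext
        show (y : G) * (z : G) = (z : G) * (y : G)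
        rw [← hi, ← hj, ← zpow_add, ← zpow_add, add_comm]
      have hS := Cfsg.Agent.Helper7.isSolvable_sup_of_le_normalizer hxN hZ'solv hzs
      have := hc (Z' ⊔ Subgroup.zpowers x) (hAZ'.trans le_sup_left) hS a ha x
        (le_sup_right (a := Z') (Subgroup.mem_zpowers x))
      exact this.symm
    · exact hmax _ hN (hAC.trans Subgroup.le_normalizer) hgN
  -- two conjugates of `A` generate `G`
  have hgen : ∀ g : G, g ∉ C → A ⊔ A.map (MulAut.conj g).toMonoidHom = ⊤ := by
    intro g hg
    by_contra hM
    have hle := hmax _ hM le_sup_left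
    have hconj : ∀ a ∈ A, g * a * g⁻¹ ∈ C := by
      intro a ha
      apply hle
      apply le_sup_right (a := A)
      exact ⟨a, ha, rfl⟩
    set C' : Subgroup G := C.map (MulAut.conj g⁻¹).toMonoidHom with hC'
    have hAC' : A ≤ C' := by
      intro a ha
      refine ⟨g * a * g⁻¹, hconj a ha, ?_⟩
      simp [MulAut.conj_apply]
      group
    have hC'top : C' ≠ ⊤ := by
      intro h
      apply hCtop
      have h1 : Nat.card C' = Nat.card C :=
        Subgroup.card_map_of_injective (MulAut.conj g⁻¹).injective
      rw [h, Subgroup.card_top] at h1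
      exact (Subgroup.card_eq_iff_eq_top C).mp h1.symm
    have hC'C := hmax C' hC'top hAC'
    have : g⁻¹ ∈ C := by
      apply hnorm
      intro c hc'
      apply hC'C
      exact ⟨c, hc', by simp [MulAut.conj_apply]⟩
    exact hg (by simpa using inv_mem this)
  -- the intersection of `C` with a conjugate is the center
  have hTI : ∀ g : G, g ∉ C → ∀ x ∈ C, g⁻¹ * x * g ∈ C → x ∈ Subgroup.center G := by
    intro g hg x hx hxg
    have hK : A ⊔ A.map (MulAut.conj g).toMonoidHom ≤ Subgroup.centralizer ({x} : Set G) := by
      apply sup_le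
      · intro a ha
        rw [Subgroup.mem_centralizer_singleton_iff]
        exact Subgroup.mem_centralizer_iff.mp hx a ha
      · rintro _ ⟨a, ha, rfl⟩
        rw [Subgroup.mem_centralizer_singleton_iff]
        have h2 := Subgroup.mem_centralizer_iff.mp hxg a ha
        -- h2 : a * (g⁻¹ * x * g) = g⁻¹ * x * g * a
        simp only [MulEquiv.coe_toMonoidHom, MulAut.conj_apply]
        calc g * a * g⁻¹ * x = g * (a * (g⁻¹ * x * g)) * g⁻¹ := by group
          _ = g * (g⁻¹ * x * g * a) * g⁻¹ := by rw [h2]
          _ = x * (g * a * g⁻¹) := by group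
    rw [hgen g hg] at hK
    rw [Subgroup.mem_center_iff]
    intro y
    have := hK (Subgroup.mem_top y)
    rw [Subgroup.mem_centralizer_singleton_iff] at this
    exact this
  -- the Frobenius complement in the quotient by the center
  set Z : Subgroup G := Subgroup.center G with hZ
  set π : G →* G ⧸ Z := QuotientGroup.mk' Z with hπ
  have hπs : Function.Surjective π := QuotientGroup.mk'_surjective Z
  set Cb : Subgroup (G ⧸ Z) := C.map π with hCb
  have hmemCb : ∀ g : G, π g ∈ Cb → g ∈ C := by
    intro g hg
    obtain ⟨c, hc', hcg⟩ := hg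
    have h1 : c⁻¹ * g ∈ Z := by
      have : π (c⁻¹ * g) = 1 := by rw [map_mul, map_inv, hcg, inv_mul_cancel]
      have h2 : c⁻¹ * g ∈ π.ker := this
      rwa [hπ, QuotientGroup.ker_mk'] at h2
    have : g = c * (c⁻¹ * g) := by group
    rw [this]
    exact mul_mem hc' (hZC h1)
  have hF : Cfsg.IsFrobeniusComplement Cb := by
    refine ⟨?_, ?_, ?_⟩
    · intro h
      apply hnot
      intro a ha
      have h1 : π a ∈ Cb := ⟨a, hAC ha, rfl⟩
      rw [h, Subgroup.mem_bot] at h1
      have h2 : a ∈ π.ker := h1
      rwa [hπ, QuotientGroup.ker_mk'] at h2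
    · intro h
      apply hCtop
      rw [eq_top_iff]
      intro g _
      apply hmemCb
      rw [h]
      exact Subgroup.mem_top _
    · intro gb hgb
      obtain ⟨g, rfl⟩ := hπs gb
      have hg : g ∉ C := fun h => hgb ⟨g, h, rfl⟩
      rw [eq_bot_iff]
      rintro xb ⟨hx1, hx2⟩
      obtain ⟨x, rfl⟩ := hπs xb
      have hxC : x ∈ C := hmemCb x hx1
      have hx2' : (MulAut.conj (π g))⁻¹ • π x ∈ Cb :=
        Subgroup.mem_pointwise_smul_iff_inv_smul_mem.mp hx2
      have hxg : g⁻¹ * x * g ∈ C := by
        apply hmemCb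
        have : (MulAut.conj (π g))⁻¹ • π x = π (g⁻¹ * x * g) := by
          simp [MulAut.smul_def, MulAut.conj_inv_apply, map_mul, map_inv]
        rwa [this] at hx2'
      have hxZ := hTI g hg x hxC hxg
      rw [Subgroup.mem_bot]
      have h2 : x ∈ π.ker := by rw [hπ, QuotientGroup.ker_mk']; exact hxZ
      exact h2
  obtain ⟨Nb, hNbk, hNbn, hNbnil⟩ := Cfsg.Agent.S0042.result Cb hF
  obtain ⟨Nb', hNb'k, _, hcompl⟩ := Cfsg.Agent.S0035.result Cb hF
  have hNN : Nb' = Nb := SetLike.coe_injective (hNb'k.trans hNbk.symm)
  rw [hNN] at hcompl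
  haveI := hNbn
  set N : Subgroup G := Nb.comap π with hN
  haveI hNn : N.Normal := Subgroup.Normal.comap hNbn π
  have hNsolv : Group.IsSolvable N := by
    haveI := hNbnil
    have hnil : Group.IsNilpotent N := by
      apply isNilpotent_of_ker_le_center (π.subgroupComap Nb)
      · intro y hy
        rw [Subgroup.mem_center_iff]
        intro w
        have h1 : π (y : G) = 1 := congrArg Subtype.val (MonoidHom.mem_ker.mp hy)
        have h2 : (y : G) ∈ π.ker := h1
        have hker : π.ker = Z := QuotientGroup.ker_mk' Z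
        rw [hker] at h2
        have h3 := Subgroup.mem_center_iff.mp h2 (w : G)
        exact Subtype.ext h3
    infer_instance
  have hAnorm : A ≤ Subgroup.normalizer (N : Set G) := by
    intro a _
    rw [Subgroup.mem_set_normalizer_iff]
    intro h
    constructor
    · intro hh
      exact hNn.conj_mem h hh a
    · intro hh
      have := hNn.conj_mem _ hh a⁻¹
      simpa [mul_assoc] using this
  have hS := Cfsg.Agent.Helper7.isSolvable_sup_of_le_normalizer hAnorm hNsolv hA
  have hNC : N ≤ C := by
    intro x hx
    rw [hC, Subgroup.mem_centralizer_iff]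
    intro a ha
    exact hc (N ⊔ A) le_sup_right hS a ha x (le_sup_left (b := A) hx)
  have hNbCb : Nb ≤ Cb := by
    intro xb hxb
    obtain ⟨x, rfl⟩ := hπs xb
    exact ⟨x, hNC hxb, rfl⟩
  have hbot : Nb = ⊥ := by
    have h1 : Nb ⊓ Cb = ⊥ := hcompl.disjoint.eq_bot
    rwa [inf_eq_left.mpr hNbCb] at h1
  rw [hbot, Subgroup.isComplement'_bot_left] at hcompl
  exact hF.2.1 hcompl

/-- Let A be a solvable subgroup of a finite group G such that A lies in the centre of every solvable subgroup of G containing A. Then A lies in the centre of G. -/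
theorem result {G : Type*} [Group G] [Finite G]
    (A : Subgroup G) (hA : Group.IsSolvable A)
    (hc : ∀ S : Subgroup G, A ≤ S → Group.IsSolvable S → ∀ a ∈ A, ∀ s ∈ S, a * s = s * a) : A ≤ Subgroup.center G :=
  aux (Nat.card G) G rfl A hA hc

end Cfsg.Agent.S4097
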