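import Mathlib
import Cfsg.Statements.S4106
import Cfsg.Agent.Lib.Helper20.PrimaryParts

set_option autoImplicit false
open Cfsg

namespace Cfsg.Agent.S4106

universe u

/-- a class all of whose element orders involve only primes from `σ` -/
def IsPiClass {G : Type*} [Group G] (σ : Finset ℕ) (C : ConjClasses G) : Prop :=
  ∀ q : ℕ, q.Prime → (∃ g : G, ConjClasses.mk g = C ∧ q ∣ orderOf g) → q ∈ σ

theorem orderOf_eq_of_mk_eq {G : Type*} [Group G] {g g' : G}
    (h : ConjClasses.mk g = ConjClasses.mk g') : orderOf g = orderOf g' := by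
  rw [ConjClasses.mk_eq_mk_iff_isConj, isConj_iff] at h
  obtain ⟨c, hc⟩ := h
  rw [← hc]
  have := (MulAut.conj c).orderOf_eq g
  rw [MulAut.conj_apply] at this
  exact this.symm

theorem isPiClass_mk_iff {G : Type*} [Group G] (σ : Finset ℕ) (g : G) :
    IsPiClass σ (ConjClasses.mk g) ↔ ∀ q : ℕ, q.Prime → q ∣ orderOf g → q ∈ σ := by
  constructor
  · intro h q hq hqd
    exact h q hq ⟨g, rfl, hqd⟩
  · rintro h q hq ⟨g', hg', hqd⟩
    rw [orderOf_eq_of_mk_eq hg'] at hqd
    exact h q hq hqd

theorem card_piClass_le (σ : Finset ℕ) : (∀ q ∈ σ, q.Prime) → ∀ (G : Type u) [Group G] [Finite G],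
    Nat.card {C : ConjClasses G // IsPiClass σ C} ≤
      ∏ p ∈ σ, p ^ (Nat.card G).factorization p := by
  classical
  induction σ using Finset.induction_on with
  | empty =>
    intro _ G _ _
    rw [Finset.prod_empty]
    have : Subsingleton {C : ConjClasses G // IsPiClass ∅ C} := by
      constructor
      have key : ∀ C : {C : ConjClasses G // IsPiClass ∅ C}, (C : ConjClasses G) = ConjClasses.mk 1 := by
        rintro ⟨C, hC⟩
        obtain ⟨g, rfl⟩ := ConjClasses.exists_rep C
        rw [isPiClass_mk_iff] at hC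
        have h1 : orderOf g = 1 := by
          by_contra hne
          obtain ⟨q, hq, hqd⟩ := Nat.exists_prime_and_dvd hne
          exact absurd (hC q hq hqd) (Finset.notMem_empty q)
        rw [orderOf_eq_one_iff] at h1
        change ConjClasses.mk g = ConjClasses.mk 1
        rw [h1]
      intro a b
      exact Subtype.ext ((key a).trans (key b).symm)
    exact Finite.card_le_one_iff_subsingleton.2 this
  | insert p τ hpτ ih =>
    intro hprime G _ _
    have hp : p.Prime := hprime p (Finset.mem_insert_self p τ)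
    haveI : Fact p.Prime := ⟨hp⟩
    have hτ : ∀ q ∈ τ, q.Prime := fun q hq => hprime q (Finset.mem_insert_of_mem hq)
    rw [Finset.prod_insert hpτ]
    obtain ⟨P⟩ : Nonempty (Sylow p G) := inferInstance
    have hPcard : Nat.card (P : Subgroup G) = p ^ (Nat.card G).factorization p :=
      Sylow.card_eq_multiplicity P
    -- the sigma type
    let X := Σ x : (P : Subgroup G),
      {C : ConjClasses (Subgroup.centralizer ({(x : G)} : Set G)) // IsPiClass τ C}
    haveI : Fintype (P : Subgroup G) := Fintype.ofFinite _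
    have hXcard : Nat.card X ≤
        p ^ (Nat.card G).factorization p * ∏ q ∈ τ, q ^ (Nat.card G).factorization q := by
      rw [Nat.card_sigma, ← hPcard, Nat.card_eq_fintype_card, ← Finset.card_univ, ← smul_eq_mul]
      apply Finset.sum_le_card_nsmul
      intro x _
      refine (ih hτ (Subgroup.centralizer ({(x : G)} : Set G))).trans ?_
      apply Finset.prod_le_prod'
      intro q hq
      have hq' := hτ q hq
      apply Nat.pow_le_pow_right hq'.pos
      exact (Nat.factorization_le_iff_dvd Nat.card_pos.ne' Nat.card_pos.ne').2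
        (Subgroup.card_subgroup_dvd_card _) q
    refine le_trans ?_ hXcard
    -- the surjection
    have hwd : ∀ (x : (P : Subgroup G))
        (C : {C : ConjClasses (Subgroup.centralizer ({(x : G)} : Set G)) // IsPiClass τ C}),
        IsPiClass (insert p τ) (ConjClasses.mk ((x : G) * ((Quotient.out C.1 :
          Subgroup.centralizer ({(x : G)} : Set G)) : G))) := by
      rintro x ⟨C, hC⟩
      rw [isPiClass_mk_iff]
      intro q hq hqd
      set y := (Quotient.out C : Subgroup.centralizer ({(x : G)} : Set G)) with hy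
      have hyC : ConjClasses.mk y = C := Quotient.out_eq C
      have hcomm : Commute (x : G) (y : G) := by
        have := y.2
        rw [Subgroup.mem_centralizer_iff] at this
        exact (this (x : G) rfl)
      have hdvd := hcomm.orderOf_mul_dvd_mul_orderOf
      have hq2 := hqd.trans hdvd
      rcases (Nat.Prime.dvd_mul hq).1 hq2 with h | h
      · obtain ⟨k, hk⟩ := (IsPGroup.iff_orderOf.1 P.isPGroup') x
        rw [Subgroup.orderOf_coe, hk] at h
        have := (Nat.prime_dvd_prime_iff_eq hq hp).1 (hq.dvd_of_dvd_pow h)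
        rw [this]
        exact Finset.mem_insert_self p τ
      · apply Finset.mem_insert_of_mem
        rw [← hyC, isPiClass_mk_iff] at hC
        apply hC q hq
        rw [Subgroup.orderOf_coe] at h
        exact h
    let Φ : X → {C : ConjClasses G // IsPiClass (insert p τ) C} := fun xc =>
      ⟨ConjClasses.mk ((xc.1 : G) * ((Quotient.out xc.2.1 :
          Subgroup.centralizer ({(xc.1 : G)} : Set G)) : G)), hwd xc.1 xc.2⟩
    apply Nat.card_le_card_of_surjective Φ
    rintro ⟨C, hC⟩
    obtain ⟨g, rfl⟩ := ConjClasses.exists_rep C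
    rw [isPiClass_mk_iff] at hC
    obtain ⟨u, v, huv, hcomm, ⟨k, hk⟩, hvcop, hu, hv⟩ :=
      Cfsg.Agent.Helper20.exists_pPart_decomp p g (orderOf_pos g)
    -- conjugate u into P
    have hupg : IsPGroup p (Subgroup.zpowers u) := by
      apply IsPGroup.of_card (n := k)
      rw [Nat.card_zpowers, hk]
    obtain ⟨Q, hQ⟩ := hupg.exists_le_sylow
    obtain ⟨a, ha⟩ := MulAction.exists_smul_eq G Q P
    have hxP : a * u * a⁻¹ ∈ (P : Subgroup G) := by
      rw [← ha, Sylow.coe_subgroup_smul, Subgroup.mem_pointwise_smul_iff_inv_smul_mem]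
      simp only [MulAut.smul_def, ← map_inv, MulAut.conj_apply, inv_inv]
      have : a⁻¹ * (a * u * a⁻¹) * a = u := by group
      rw [this]
      exact hQ (Subgroup.mem_zpowers u)
    set x : (P : Subgroup G) := ⟨a * u * a⁻¹, hxP⟩ with hx
    have hyc : a * v * a⁻¹ ∈ Subgroup.centralizer ({(x : G)} : Set G) := by
      rw [Subgroup.mem_centralizer_iff]
      intro z hz
      rw [Set.mem_singleton_iff] at hz
      rw [hz]
      change a * u * a⁻¹ * (a * v * a⁻¹) = a * v * a⁻¹ * (a * u * a⁻¹)
      have e1 : a * u * a⁻¹ * (a * v * a⁻¹) = a * (u * v) * a⁻¹ := by group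
      have e2 : a * v * a⁻¹ * (a * u * a⁻¹) = a * (v * u) * a⁻¹ := by group
      rw [e1, e2, hcomm]
    set y : Subgroup.centralizer ({(x : G)} : Set G) := ⟨a * v * a⁻¹, hyc⟩ with hy
    have hyτ : IsPiClass τ (ConjClasses.mk y) := by
      rw [isPiClass_mk_iff]
      intro q hq hqd
      rw [← Subgroup.orderOf_coe] at hqd
      have hov : orderOf (a * v * a⁻¹) = orderOf v := by
        have := (MulAut.conj a).orderOf_eq v
        rwa [MulAut.conj_apply] at this
      change q ∣ orderOf (a * v * a⁻¹) at hqd
      rw [hov] at hqd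
      have hvg : orderOf v ∣ orderOf g := by
        obtain ⟨j, rfl⟩ := hv
        exact orderOf_dvd_of_pow_eq_one (by rw [← zpow_natCast, ← zpow_mul, mul_comm, zpow_mul,
          zpow_natCast, pow_orderOf_eq_one, one_zpow])
      have hqσ := hC q hq (hqd.trans hvg)
      rcases Finset.mem_insert.1 hqσ with h | h
      · exfalso
        rw [h] at hqd
        have := Nat.Coprime.eq_one_of_dvd hvcop.symm hqd
        exact hp.one_lt.ne' this
      · exact h
    refine ⟨⟨x, ⟨ConjClasses.mk y, hyτ⟩⟩, ?_⟩
    apply Subtype.ext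
    change ConjClasses.mk ((x : G) * ((Quotient.out (ConjClasses.mk y) :
          Subgroup.centralizer ({(x : G)} : Set G)) : G)) = ConjClasses.mk g
    set y' := (Quotient.out (ConjClasses.mk y) : Subgroup.centralizer ({(x : G)} : Set G)) with hy'
    have hy'C : ConjClasses.mk y' = ConjClasses.mk y := Quotient.out_eq _
    rw [ConjClasses.mk_eq_mk_iff_isConj, isConj_iff] at hy'C
    obtain ⟨c, hc⟩ := hy'C
    rw [ConjClasses.mk_eq_mk_iff_isConj, isConj_iff]
    have hcx : (c : G) * (x : G) = (x : G) * (c : G) := by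
      have := c.2
      rw [Subgroup.mem_centralizer_iff] at this
      exact (this (x : G) rfl).symm
    have hc' : (c : G) * (y' : G) * (c : G)⁻¹ = a * v * a⁻¹ := by
      have := congrArg Subtype.val hc
      simpa using this
    refine ⟨a⁻¹ * (c : G), ?_⟩
    have e1 : a⁻¹ * (c : G) * ((x : G) * (y' : G)) * (a⁻¹ * (c : G))⁻¹ =
        a⁻¹ * (((c : G) * (x : G)) * (y' : G) * (c : G)⁻¹) * a := by group
    rw [e1, hcx]
    have e2 : (x : G) * (c : G) * (y' : G) * (c : G)⁻¹ = (x : G) * ((c : G) * (y' : G) * (c : G)⁻¹) := by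
      group
    rw [e2, hc', huv]
    change a⁻¹ * (a * u * a⁻¹ * (a * v * a⁻¹)) * a = u * v
    group

/-- Let G be a finite group, π a set of primes and m the π-part of the order of G. Then the number of conjugacy classes of G consisting of π-elements (elements whose order is divisible only by primes in π) is at most m. -/
theorem result {G : Type*} [Group G] [Finite G]
    (π : Set ℕ) (hπ : ∀ q ∈ π, q.Prime)
    (m : ℕ) (hm : m ∣ Nat.card G) (hmπ : ∀ q : ℕ, q.Prime → q ∣ m → q ∈ π)
    (hm' : ∀ q ∈ π, ¬ q ∣ Nat.card G / m) :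
    Nat.card {C : ConjClasses G // ∀ q : ℕ, q.Prime → (∃ g : G, ConjClasses.mk g = C ∧ q ∣ orderOf g) → q ∈ π} ≤ m := by
  classical
  set σ : Finset ℕ := (Nat.card G).primeFactors.filter (· ∈ π) with hσ
  have hσprime : ∀ q ∈ σ, q.Prime := by
    intro q hq
    rw [hσ, Finset.mem_filter] at hq
    exact Nat.prime_of_mem_primeFactors hq.1
  have hG0 : Nat.card G ≠ 0 := Nat.card_pos.ne'
  have hm0 : m ≠ 0 := fun h => hG0 (by rw [h, zero_dvd_iff] at hm; exact hm)
  have h1 := card_piClass_le σ hσprime G
  -- identify the two sets of classes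
  have heqv : ∀ C : ConjClasses G, IsPiClass σ C ↔
      (∀ q : ℕ, q.Prime → (∃ g : G, ConjClasses.mk g = C ∧ q ∣ orderOf g) → q ∈ π) := by
    intro C
    constructor
    · intro h q hq hex
      have := h q hq hex
      rw [hσ, Finset.mem_filter] at this
      exact this.2
    · intro h q hq hex
      have hqπ := h q hq hex
      obtain ⟨g, -, hqd⟩ := hex
      rw [hσ, Finset.mem_filter]
      exact ⟨Nat.mem_primeFactors.2 ⟨hq, hqd.trans (orderOf_dvd_natCard g), hG0⟩, hqπ⟩
  have hcard : Nat.card {C : ConjClasses G // ∀ q : ℕ, q.Prime →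
      (∃ g : G, ConjClasses.mk g = C ∧ q ∣ orderOf g) → q ∈ π} =
      Nat.card {C : ConjClasses G // IsPiClass σ C} :=
    Nat.card_congr (Equiv.subtypeEquivRight fun C => (heqv C).symm)
  rw [hcard]
  refine h1.trans ?_
  -- the product is at most m
  have hfac : ∀ q ∈ σ, (Nat.card G).factorization q = m.factorization q := by
    intro q hq
    rw [hσ, Finset.mem_filter] at hq
    have hqp := Nat.prime_of_mem_primeFactors hq.1
    have hnd := hm' q hq.2
    obtain ⟨c, hc⟩ := hm
    have hc0 : c ≠ 0 := fun h => hG0 (by rw [hc, h, mul_zero])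
    rw [hc, Nat.mul_div_cancel_left c (Nat.pos_of_ne_zero hm0)] at hnd
    rw [hc, Nat.factorization_mul hm0 hc0]
    simp [Nat.factorization_eq_zero_of_not_dvd hnd]
  rw [Finset.prod_congr rfl (fun q hq => by rw [hfac q hq])]
  apply Nat.le_of_dvd (Nat.pos_of_ne_zero hm0)
  conv_rhs => rw [← Nat.factorization_prod_pow_eq_self hm0]
  rw [Finsupp.prod]
  have hsub : σ.filter (· ∣ m) ⊆ m.factorization.support := by
    intro q hq
    rw [Finset.mem_filter] at hq
    rw [Nat.support_factorization]
    exact Nat.mem_primeFactors.2 ⟨hσprime q hq.1, hq.2, hm0⟩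
  have hprod : ∏ q ∈ σ.filter (· ∣ m), q ^ m.factorization q = ∏ q ∈ σ, q ^ m.factorization q := by
    apply Finset.prod_filter_of_ne
    intro q _ hne
    by_contra h
    exact hne (by rw [Nat.factorization_eq_zero_of_not_dvd h, pow_zero])
  rw [← hprod]
  exact Finset.prod_dvd_prod_of_subset _ _ _ hsub

end Cfsg.Agent.S4106
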