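import Mathlib
import Cfsg.Statements.S4107
import Cfsg.Agent.Lib.Helper21.FittingSubgroup
import Cfsg.Agent.Lib.Helper20.PrimaryParts

set_option autoImplicit false
open Cfsg

namespace Cfsg.Agent.S4107

variable {G : Type*} [Group G] [Finite G]

/-- a normal `p`-subgroup of `G` containing all `p`-elements of the Fitting subgroup -/
theorem exists_normal_pSubgroup (p : ℕ) [Fact p.Prime] :
    ∃ O : Subgroup G, O.Normal ∧ IsPGroup p O ∧
      ∀ x ∈ Cfsg.fittingSubgroup G, (∃ k : ℕ, orderOf x = p ^ k) → x ∈ O := by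
  haveI hFn : (Cfsg.fittingSubgroup G).Normal := Cfsg.Agent.Helper21.fittingSubgroup_normal G
  haveI hnil : Group.IsNilpotent (Cfsg.fittingSubgroup G) :=
    Cfsg.Agent.Helper21.fittingSubgroup_isNilpotent G
  obtain ⟨P⟩ : Nonempty (Sylow p (Cfsg.fittingSubgroup G)) := inferInstance
  have hPn : (P : Subgroup (Cfsg.fittingSubgroup G)).Normal := inferInstance
  haveI hchar : (P : Subgroup (Cfsg.fittingSubgroup G)).Characteristic :=
    Sylow.characteristic_of_normal P hPn
  refine ⟨(P : Subgroup (Cfsg.fittingSubgroup G)).map (Cfsg.fittingSubgroup G).subtype,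
    inferInstance, P.isPGroup'.map _, ?_⟩
  rintro x hx ⟨k, hk⟩
  have hzp : IsPGroup p (Subgroup.zpowers (⟨x, hx⟩ : Cfsg.fittingSubgroup G)) := by
    apply IsPGroup.of_card (n := k)
    rw [Nat.card_zpowers, ← hk, ← Subgroup.orderOf_coe]
  obtain ⟨Q, hQ⟩ := hzp.exists_le_sylow
  haveI := Sylow.unique_of_normal P hPn
  have hQP : Q = P := Subsingleton.elim Q P
  rw [hQP] at hQ
  exact ⟨⟨x, hx⟩, hQ (Subgroup.mem_zpowers _), rfl⟩

/-- Lemma A: a `p`-element of the Fitting subgroup outside `N` forces `N` to be a `p`-group -/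
theorem isPGroup_of_mem (N : Subgroup G) [N.Normal]
    (heq : ∀ x : G, x ∉ N → ∀ n ∈ N, orderOf (x * n) = orderOf x)
    (p : ℕ) [Fact p.Prime] (x : G) (hxF : x ∈ Cfsg.fittingSubgroup G) (hxN : x ∉ N)
    (k : ℕ) (hk : orderOf x = p ^ k) : ∀ n ∈ N, ∃ j : ℕ, orderOf n = p ^ j := by
  obtain ⟨O, hOn, hOp, hO⟩ := exists_normal_pSubgroup (G := G) p
  haveI := hOn
  have hxO : x ∈ O := hO x hxF ⟨k, hk⟩
  intro n hn
  have h1 : (x * n) ^ (p ^ k) = 1 := by
    rw [← hk, ← heq x hxN n hn, pow_orderOf_eq_one]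
  have h2 : (QuotientGroup.mk' O (x * n)) ^ (p ^ k) = 1 := by
    rw [← map_pow, h1, map_one]
  have h3 : QuotientGroup.mk' O (x * n) = QuotientGroup.mk' O n := by
    rw [map_mul, QuotientGroup.mk'_apply, QuotientGroup.mk'_apply,
      (QuotientGroup.eq_one_iff x).2 hxO, one_mul]
  rw [h3, ← map_pow] at h2
  have h4 : n ^ (p ^ k) ∈ O := (QuotientGroup.eq_one_iff _).1 h2
  obtain ⟨i, hi⟩ := hOp ⟨n ^ (p ^ k), h4⟩
  have h5 : (n ^ (p ^ k)) ^ (p ^ i) = 1 := by
    have := congrArg Subtype.val hi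
    simpa using this
  rw [← pow_mul, ← pow_add] at h5
  obtain ⟨j, -, hj⟩ := (Nat.dvd_prime_pow Fact.out).1 (orderOf_dvd_of_pow_eq_one h5)
  exact ⟨j, hj⟩

/-- an element of a subgroup `F` outside the normal subgroup `N` has a prime-power-order power
outside `N` -/
theorem exists_pElement_not_mem (N : Subgroup G) [N.Normal] (F : Subgroup G) (x : G) (hxF : x ∈ F)
    (hxN : x ∉ N) : ∃ p : ℕ, p.Prime ∧ ∃ u ∈ F, u ∉ N ∧ ∃ k : ℕ, orderOf u = p ^ k := by
  have h1 : orderOf (QuotientGroup.mk' N x) ≠ 1 := by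
    rw [Ne, orderOf_eq_one_iff]
    intro h
    exact hxN ((QuotientGroup.eq_one_iff x).1 h)
  obtain ⟨p, hp, hpd⟩ := Nat.exists_prime_and_dvd h1
  haveI : Fact p.Prime := ⟨hp⟩
  obtain ⟨u, v, huv, -, ⟨k, hk⟩, hvcop, hu, hv⟩ :=
    Cfsg.Agent.Helper20.exists_pPart_decomp p x (orderOf_pos x)
  refine ⟨p, hp, u, ?_, ?_, k, hk⟩
  · obtain ⟨j, rfl⟩ := hu
    exact F.zpow_mem hxF j
  · intro huN
    have h2 : QuotientGroup.mk' N x = QuotientGroup.mk' N v := by
      rw [huv, map_mul, QuotientGroup.mk'_apply, QuotientGroup.mk'_apply,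
        (QuotientGroup.eq_one_iff u).2 huN, one_mul]
    rw [h2] at hpd
    have h3 : p ∣ orderOf v := hpd.trans (orderOf_map_dvd _ v)
    have := Nat.Coprime.eq_one_of_dvd hvcop.symm h3
    exact hp.one_lt.ne' this

/-- Let G be a finite group and N a proper non-trivial normal subgroup such that for every x outside N all elements of the coset xN have the same order as x. Then N ≤ F(G) or F(G) ≤ N, where F(G) is the Fitting subgroup; and if N is properly contained in F(G) then F(G) has prime-power order. -/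
theorem result {G : Type*} [Group G] [Finite G] (N : Subgroup G) [N.Normal] (hN1 : N ≠ ⊥) (hN2 : N ≠ ⊤)
    (heq : ∀ x : G, x ∉ N → ∀ n ∈ N, orderOf (x * n) = orderOf x) :
    (N ≤ Cfsg.fittingSubgroup G ∨ Cfsg.fittingSubgroup G ≤ N) ∧
    (N < Cfsg.fittingSubgroup G → IsPrimePow (Nat.card (Cfsg.fittingSubgroup G))) := by
  classical
  -- if F is not inside N then N is a p-group for some p
  have hkey : ¬ Cfsg.fittingSubgroup G ≤ N → ∃ p : ℕ, p.Prime ∧
      ∀ n ∈ N, ∃ j : ℕ, orderOf n = p ^ j := by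
    intro hle
    obtain ⟨x, hxF, hxN⟩ := SetLike.not_le_iff_exists.1 hle
    obtain ⟨p, hp, u, huF, huN, k, hk⟩ := exists_pElement_not_mem N _ x hxF hxN
    haveI : Fact p.Prime := ⟨hp⟩
    exact ⟨p, hp, isPGroup_of_mem N heq p u huF huN k hk⟩
  constructor
  · by_cases hle : Cfsg.fittingSubgroup G ≤ N
    · exact Or.inr hle
    · left
      obtain ⟨p, hp, hNp⟩ := hkey hle
      haveI : Fact p.Prime := ⟨hp⟩
      have hpg : IsPGroup p N := by
        rw [IsPGroup.iff_orderOf]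
        intro n
        obtain ⟨j, hj⟩ := hNp n n.2
        exact ⟨j, by rw [← hj, Subgroup.orderOf_coe]⟩
      have hnil : Group.IsNilpotent N := hpg.isNilpotent
      exact le_sSup (show N ∈ {N : Subgroup G | N.Normal ∧ Group.IsNilpotent N} from
        ⟨inferInstance, hnil⟩)
  · intro hlt
    have hle : ¬ Cfsg.fittingSubgroup G ≤ N := not_le_of_gt hlt
    obtain ⟨p, hp, hNp⟩ := hkey hle
    haveI : Fact p.Prime := ⟨hp⟩
    obtain ⟨n₀, hn₀, hn₀1⟩ := (Subgroup.ne_bot_iff_exists_ne_one).1 hN1 |> fun ⟨a, ha⟩ =>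
      (⟨(a : G), a.2, fun h => ha (Subtype.ext h)⟩ : ∃ n₀ : G, n₀ ∈ N ∧ n₀ ≠ 1)
    -- F is a p-group
    have hFp : ∀ y ∈ Cfsg.fittingSubgroup G, ∃ j : ℕ, orderOf y = p ^ j := by
      intro y hy
      by_contra hcon
      have hex : ∃ q : ℕ, q.Prime ∧ q ∣ orderOf y ∧ q ≠ p := by
        by_contra hall
        push Not at hall
        apply hcon
        exact ⟨_, Nat.eq_prime_pow_of_unique_prime_dvd (orderOf_pos y).ne'
          (fun {q} hq hqd => hall q hq hqd)⟩
      obtain ⟨q, hq, hqd, hqp⟩ := hex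
      haveI : Fact q.Prime := ⟨hq⟩
      set w := y ^ (orderOf y / q) with hw
      have hwo : orderOf w = q := orderOf_pow_orderOf_div (orderOf_pos y).ne' hqd
      have hwF : w ∈ Cfsg.fittingSubgroup G := Subgroup.pow_mem _ hy _
      have hwN : w ∉ N := by
        intro hmem
        obtain ⟨j, hj⟩ := hNp w hmem
        rw [hwo] at hj
        have : p ∣ q := by
          rcases Nat.eq_zero_or_pos j with h0 | h0
          · rw [h0, pow_zero] at hj
            exact absurd hj hq.one_lt.ne'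
          · rw [hj]; exact dvd_pow_self p h0.ne'
        exact hqp ((Nat.prime_dvd_prime_iff_eq hp hq).1 this).symm
      have hNq := isPGroup_of_mem N heq q w hwF hwN 1 (by rw [hwo, pow_one])
      obtain ⟨a, ha⟩ := hNp n₀ hn₀
      obtain ⟨b, hb⟩ := hNq n₀ hn₀
      have ha0 : a ≠ 0 := by
        intro h0
        rw [h0, pow_zero, orderOf_eq_one_iff] at ha
        exact hn₀1 ha
      have : p ∣ q ^ b := by
        rw [← hb, ha]; exact dvd_pow_self p ha0
      have hpq : p ∣ q := hp.dvd_of_dvd_pow this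
      exact hqp ((Nat.prime_dvd_prime_iff_eq hp hq).1 hpq).symm
    have hFpg : IsPGroup p (Cfsg.fittingSubgroup G) := by
      rw [IsPGroup.iff_orderOf]
      intro y
      obtain ⟨j, hj⟩ := hFp y y.2
      exact ⟨j, by rw [← hj, Subgroup.orderOf_coe]⟩
    obtain ⟨k, hk⟩ := IsPGroup.iff_card.1 hFpg
    rw [hk, isPrimePow_nat_iff]
    refine ⟨p, k, hp, ?_, rfl⟩
    rcases Nat.eq_zero_or_pos k with h0 | h0
    · exfalso
      rw [h0, pow_zero, Subgroup.card_eq_one] at hk
      rw [hk] at hlt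
      exact not_lt_bot hlt
    · exact h0

end Cfsg.Agent.S4107
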