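import Mathlib
import Cfsg.Statements.S4108
import Cfsg.Agent.S0039
import Cfsg.Agent.S0034

set_option autoImplicit false
open Pointwise
open Cfsg

namespace Cfsg.Agent.S4108

/-- Let G be a finite group, p a prime and N a proper non-trivial normal p-subgroup such that for every x outside N all elements of the coset xN have the same order as x. Then every non-trivial subgroup H of G of order prime to p acts fixed-point-freely on N: NH is a Frobenius group with complement H and kernel N. -/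
theorem result {G : Type*} [Group G] [Finite G] (N : Subgroup G) [N.Normal] (hN1 : N ≠ ⊥) (hN2 : N ≠ ⊤)
    (heq : ∀ x : G, x ∉ N → ∀ n ∈ N, orderOf (x * n) = orderOf x)
    (p : ℕ) [Fact p.Prime] (hNp : IsPGroup p N) :
    ∀ H : Subgroup G, H ≠ ⊥ → (Nat.card H).Coprime p →
      Cfsg.IsFrobeniusComplement (H.subgroupOf (N ⊔ H)) ∧ Cfsg.frobeniusKernel (H.subgroupOf (N ⊔ H)) = (N.subgroupOf (N ⊔ H) : Set ↥(N ⊔ H)) := by
  classical
  intro H hH1 hcop
  have hNK : N ≤ N ⊔ H := le_sup_left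
  have hHK : H ≤ N ⊔ H := le_sup_right
  obtain ⟨k, hk⟩ := IsPGroup.iff_card.1 hNp
  have hcopNH : (Nat.card N).Coprime (Nat.card H) := by
    rw [hk]
    exact (Nat.Coprime.pow_right k hcop).symm
  have hinf : N ⊓ H = ⊥ := Subgroup.inf_eq_bot_of_coprime hcopNH
  haveI : (N.subgroupOf (N ⊔ H)).Normal := Subgroup.Normal.subgroupOf inferInstance _
  have hdisj : Disjoint (N.subgroupOf (N ⊔ H)) (H.subgroupOf (N ⊔ H)) := by
    rw [disjoint_iff, eq_bot_iff]
    rintro ⟨x, hxK⟩ ⟨hxN, hxH⟩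
    have : x ∈ N ⊓ H := ⟨hxN, hxH⟩
    rw [hinf, Subgroup.mem_bot] at this
    exact Subgroup.mem_bot.2 (Subtype.ext this)
  have hmul : ((N.subgroupOf (N ⊔ H) : Subgroup ↥(N ⊔ H)) : Set ↥(N ⊔ H)) *
      ((H.subgroupOf (N ⊔ H) : Subgroup ↥(N ⊔ H)) : Set ↥(N ⊔ H)) = Set.univ := by
    rw [Set.eq_univ_iff_forall]
    rintro ⟨x, hx⟩
    have hx' : x ∈ ((N ⊔ H : Subgroup G) : Set G) := hx
    rw [Subgroup.normal_mul] at hx'
    obtain ⟨n, hn, h, hh, rfl⟩ := hx'
    exact ⟨⟨n, hNK hn⟩, hn, ⟨h, hHK hh⟩, hh, rfl⟩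
  have hc : Subgroup.IsComplement' (N.subgroupOf (N ⊔ H)) (H.subgroupOf (N ⊔ H)) :=
    Subgroup.isComplement'_of_disjoint_and_mul_eq_univ hdisj hmul
  have hN' : N.subgroupOf (N ⊔ H) ≠ ⊥ := by
    intro h
    rw [Subgroup.subgroupOf_eq_bot, disjoint_iff, inf_of_le_left hNK] at h
    exact hN1 h
  have hH' : H.subgroupOf (N ⊔ H) ≠ ⊥ := by
    intro h
    rw [Subgroup.subgroupOf_eq_bot, disjoint_iff, inf_of_le_left hHK] at h
    exact hH1 h
  have hfrob : Cfsg.IsFrobeniusComplement (H.subgroupOf (N ⊔ H)) := by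
    rw [Cfsg.Agent.S0039.result _ _ hc hN' hH']
    intro h hh hh1
    rw [eq_bot_iff]
    intro x hx
    rw [Subgroup.mem_bot]
    obtain ⟨hxN, hxC0⟩ := hx
    have hxC : x ∈ Subgroup.centralizer ({h} : Set ↥(N ⊔ H)) := hxC0
    rw [Subgroup.mem_centralizer_iff] at hxC
    have hcomm : (h : G) * (x : G) = (x : G) * (h : G) := by
      have := hxC h rfl
      exact congrArg Subtype.val this
    have hhH : (h : G) ∈ H := hh
    have hxN' : (x : G) ∈ N := hxN
    have hh1' : (h : G) ≠ 1 := fun h0 => hh1 (Subtype.ext h0)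
    have hhN : (h : G) ∉ N := by
      intro hmem
      have : (h : G) ∈ N ⊓ H := ⟨hmem, hhH⟩
      rw [hinf, Subgroup.mem_bot] at this
      exact hh1' this
    have ho := heq (h : G) hhN (x : G) hxN'
    have hcopo : (orderOf (h : G)).Coprime (orderOf (x : G)) := by
      refine Nat.Coprime.coprime_dvd_left (Subgroup.orderOf_dvd_natCard H hhH) ?_
      exact Nat.Coprime.coprime_dvd_right (Subgroup.orderOf_dvd_natCard N hxN') hcopNH.symm
    have hmulo := Commute.orderOf_mul_eq_mul_orderOf_of_coprime (show Commute (h : G) (x : G) from hcomm) hcopo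
    rw [ho] at hmulo
    have hpos : 0 < orderOf (h : G) := orderOf_pos _
    have hx1 : orderOf (x : G) = 1 := by
      have : orderOf (h : G) * 1 = orderOf (h : G) * orderOf (x : G) := by rw [mul_one]; exact hmulo
      exact (Nat.eq_of_mul_eq_mul_left hpos this).symm
    rw [orderOf_eq_one_iff] at hx1
    exact Subtype.ext hx1
  refine ⟨hfrob, ?_⟩
  have hcard := (Cfsg.Agent.S0034.result _ hfrob).1
  rw [hc.index_eq_card] at hcard
  symm
  apply Set.eq_of_subset_of_ncard_le
  · intro x hx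
    by_cases hx1 : x = 1
    · exact Or.inl hx1
    · right
      intro g hg
      rw [Cfsg.Agent.S0039.mem_conj_smul] at hg
      have hmemN : g⁻¹ * x * g ∈ N.subgroupOf (N ⊔ H) := by
        have := (inferInstance : (N.subgroupOf (N ⊔ H)).Normal).conj_mem x hx g⁻¹
        simpa using this
      have : g⁻¹ * x * g ∈ N.subgroupOf (N ⊔ H) ⊓ H.subgroupOf (N ⊔ H) := ⟨hmemN, hg⟩
      rw [disjoint_iff.1 hdisj, Subgroup.mem_bot] at this
      apply hx1
      have h2 : x = g * (g⁻¹ * x * g) * g⁻¹ := by group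
      rw [h2, this]; group
  · rw [← Nat.card_coe_set_eq, ← Nat.card_coe_set_eq, hcard]
    rfl
  · exact Set.toFinite _

end Cfsg.Agent.S4108
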