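import Mathlib
import Cfsg.Statements.S4112
import Cfsg.Agent.Lib.Helper8.PGroup

set_option autoImplicit false
open Cfsg

namespace Cfsg.Agent.S4112

universe u

/-- a normal subgroup has a supplement whose order only involves primes dividing the index -/
theorem exists_supplement (n : ℕ) : ∀ (G : Type u) [Group G] [Finite G] (N : Subgroup G) [N.Normal],
    Nat.card G = n →
    ∃ H : Subgroup G, H ⊔ N = ⊤ ∧ ∀ p : ℕ, p.Prime → p ∣ Nat.card H → p ∣ N.index := by
  induction n using Nat.strong_induction_on with
  | _ n ih =>
    intro G _ _ N _ hn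
    by_cases hall : ∀ p : ℕ, p.Prime → p ∣ Nat.card G → p ∣ N.index
    · refine ⟨⊤, top_sup_eq _, ?_⟩
      intro p hp hpd
      rw [Subgroup.card_top] at hpd
      exact hall p hp hpd
    · push Not at hall
      obtain ⟨p, hp, hpG, hpN⟩ := hall
      haveI : Fact p.Prime := ⟨hp⟩
      obtain ⟨P⟩ : Nonempty (Sylow p G) := inferInstance
      have hPN : (P : Subgroup G) ≤ N := by
        rw [← Subgroup.relIndex_eq_one]
        obtain ⟨k, hk⟩ := P.isPGroup'.index (N.subgroupOf (P : Subgroup G))
        have hk' : N.relIndex (P : Subgroup G) = p ^ k := hk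
        have hdvd : N.relIndex (P : Subgroup G) ∣ N.index := Subgroup.relIndex_dvd_index_of_normal N _
        rw [hk'] at hdvd ⊢
        rcases Nat.eq_zero_or_pos k with h0 | h0
        · rw [h0, pow_zero]
        · exact absurd ((dvd_pow_self p h0.ne').trans hdvd) hpN
      -- a proper supplement
      have hK : ∃ K : Subgroup G, K ≠ ⊤ ∧ K ⊔ N = ⊤ := by
        by_cases hPnorm : (P : Subgroup G).Normal
        · haveI := hPnorm
          obtain ⟨K, hK⟩ := Subgroup.exists_left_complement'_of_coprime (Sylow.card_coprime_index P)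
          refine ⟨K, ?_, ?_⟩
          · intro h
            rw [h, Subgroup.isComplement'_top_left] at hK
            exact P.ne_bot_of_dvd_card hpG hK
          · rw [eq_top_iff, ← hK.sup_eq_top]
            exact sup_le_sup_left hPN K
        · refine ⟨Subgroup.normalizer ((P : Subgroup G) : Set G), ?_, ?_⟩
          · intro h
            exact hPnorm (Subgroup.normalizer_eq_top_iff.1 h)
          · exact Sylow.normalizer_sup_eq_top' P hPN
      obtain ⟨K, hKtop, hKN⟩ := hK
      have hKcard : Nat.card K < n := by
        rw [← hn, ← Subgroup.card_mul_index K]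
        have h1 : K.index ≠ 1 := fun h => hKtop (Subgroup.index_eq_one.1 h)
        have h0 : K.index ≠ 0 := Subgroup.index_ne_zero_of_finite
        have hpos : 0 < Nat.card K := Nat.card_pos
        have : 2 ≤ K.index := by omega
        nlinarith
      obtain ⟨H', hH'sup, hH'p⟩ := ih (Nat.card K) hKcard K (N.subgroupOf K) rfl
      have hidx : (N.subgroupOf K).index = N.index := by
        change N.relIndex K = N.index
        rw [← Subgroup.relIndex_sup_right, hKN, Subgroup.relIndex_top_right]
      refine ⟨H'.map K.subtype, ?_, ?_⟩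
      · have h1 : (H' ⊔ N.subgroupOf K).map K.subtype = H'.map K.subtype ⊔ (N ⊓ K) := by
          rw [Subgroup.map_sup, Subgroup.subgroupOf_map_subtype]
        rw [hH'sup, ← MonoidHom.range_eq_map, Subgroup.range_subtype] at h1
        rw [eq_top_iff, ← hKN]
        apply sup_le _ le_sup_right
        exact h1.le.trans (sup_le_sup_left inf_le_left _)
      · intro q hq hqd
        rw [Subgroup.card_map_of_injective K.subtype_injective] at hqd
        rw [← hidx]
        exact hH'p q hq hqd

/-- Let G be a finite group and M ≤ N non-trivial proper normal subgroups such that for every g outside N the conjugacy class of g is a union of cosets of M (equivalently gm is conjugate to g for every m ∈ M). Then (1) and (2) below are equivalent, and they imply (3): (1) every g outside N acts fixed-point-freely on M, that is C_G(x) ≤ N for every x ∈ M, x ≠ 1; (2) the index of N in G is coprime to the order of M; (3) there is a subgroup H of G with HN = G and H ∩ M = 1. -/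
theorem result {G : Type*} [Group G] [Finite G] (N M : Subgroup G) [N.Normal] [M.Normal] (hMN : M ≤ N) (hM1 : M ≠ ⊥) (hN2 : N ≠ ⊤)
    (hcam : ∀ g : G, g ∉ N → ∀ m ∈ M, ∃ x : G, x * g * x⁻¹ = g * m) :
    ((∀ x ∈ M, x ≠ 1 → Subgroup.centralizer ({x} : Set G) ≤ N) ↔ N.index.Coprime (Nat.card M)) ∧
    ((∀ x ∈ M, x ≠ 1 → Subgroup.centralizer ({x} : Set G) ≤ N) → ∃ H : Subgroup G, H ⊔ N = ⊤ ∧ H ⊓ M = ⊥) := by
  classical
  have h12 : (∀ x ∈ M, x ≠ 1 → Subgroup.centralizer ({x} : Set G) ≤ N) → N.index.Coprime (Nat.card M) := by
    intro hcent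
    by_contra hnc
    obtain ⟨r, hr, hrN, hrM⟩ := Nat.Prime.not_coprime_iff_dvd.1 hnc
    haveI : Fact r.Prime := ⟨hr⟩
    obtain ⟨x₀, hx₀⟩ := exists_prime_orderOf_dvd_card' (G := M) r hrM
    have hzp : IsPGroup r (Subgroup.zpowers (x₀ : G)) := by
      apply IsPGroup.of_card (n := 1)
      rw [Nat.card_zpowers, Subgroup.orderOf_coe, hx₀, pow_one]
    obtain ⟨R, hR⟩ := hzp.exists_le_sylow
    have hx₀R : (x₀ : G) ∈ (R : Subgroup G) := hR (Subgroup.mem_zpowers _)
    have hx₀1 : (x₀ : G) ≠ 1 := by
      intro h
      have : orderOf (x₀ : G) = 1 := by rw [h, orderOf_one]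
      rw [Subgroup.orderOf_coe, hx₀] at this
      exact hr.one_lt.ne' this
    haveI : (M.subgroupOf (R : Subgroup G)).Normal := Subgroup.Normal.subgroupOf inferInstance _
    have hne : M.subgroupOf (R : Subgroup G) ≠ ⊥ := by
      intro h
      have : (⟨(x₀ : G), hx₀R⟩ : (R : Subgroup G)) ∈ M.subgroupOf (R : Subgroup G) := x₀.2
      rw [h, Subgroup.mem_bot] at this
      exact hx₀1 (congrArg Subtype.val this)
    obtain ⟨z, hzM, hzc, hz1⟩ :=
      Cfsg.Agent.Helper8.exists_mem_center_of_normal_ne_bot R.isPGroup' (M.subgroupOf (R : Subgroup G)) hne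
    have hRN : (R : Subgroup G) ≤ N := by
      intro y hy
      apply hcent (z : G) hzM (fun h => hz1 (Subtype.ext h))
      rw [Subgroup.mem_centralizer_iff]
      intro w hw
      rw [Set.mem_singleton_iff] at hw
      rw [hw]
      rw [Subgroup.mem_center_iff] at hzc
      have := hzc ⟨y, hy⟩
      exact (congrArg Subtype.val this).symm
    exact R.not_dvd_index (hrN.trans (Subgroup.index_dvd_of_le hRN))
  have h21 : N.index.Coprime (Nat.card M) → (∀ x ∈ M, x ≠ 1 → Subgroup.centralizer ({x} : Set G) ≤ N) := by
    intro hcop x hx hx1 g hg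
    by_contra hgN
    set k := orderOf x with hk
    have hk1 : 1 < k := by
      have h0 : 0 < k := orderOf_pos x
      have h1 : k ≠ 1 := fun h => hx1 (orderOf_eq_one_iff.1 h)
      omega
    have hkM : k ∣ Nat.card M := Subgroup.orderOf_dvd_natCard M hx
    have hkcop : N.index.Coprime k := Nat.Coprime.coprime_dvd_right hkM hcop
    -- every element of C(x) outside N has order divisible by all powers of k
    have key : ∀ j : ℕ, ∀ g : G, g ∈ Subgroup.centralizer ({x} : Set G) → g ∉ N → k ^ j ∣ orderOf g := by
      intro j
      induction j with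
      | zero => intro g _ _; simp
      | succ j ihj =>
        intro g hg hgN
        have hcomm : Commute g x := by
          rw [Subgroup.mem_centralizer_iff] at hg
          exact (hg x rfl).symm
        -- k divides the order of g
        have hkg : k ∣ orderOf g := by
          obtain ⟨y, hy⟩ := hcam g hgN x hx
          have ho : orderOf (g * x) = orderOf g := by
            rw [← hy]
            have := (MulAut.conj y).orderOf_eq g
            rwa [MulAut.conj_apply] at this
          apply orderOf_dvd_of_pow_eq_one
          have h1 : (g * x) ^ orderOf g = 1 := by rw [← ho, pow_orderOf_eq_one]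
          rw [hcomm.mul_pow, pow_orderOf_eq_one, one_mul] at h1
          exact h1
        -- g^k is again in C(x) outside N
        have hgk : g ^ k ∈ Subgroup.centralizer ({x} : Set G) := Subgroup.pow_mem _ hg k
        have hgkN : g ^ k ∉ N := by
          intro hmem
          apply hgN
          have h1 : (QuotientGroup.mk' N g) ^ k = 1 := by
            rw [← map_pow]
            exact (QuotientGroup.eq_one_iff _).2 hmem
          have h2 : orderOf (QuotientGroup.mk' N g) ∣ k := orderOf_dvd_of_pow_eq_one h1
          have h3 : orderOf (QuotientGroup.mk' N g) ∣ N.index := by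
            rw [Subgroup.index_eq_card]
            exact orderOf_dvd_natCard _
          have h4 : orderOf (QuotientGroup.mk' N g) = 1 :=
            Nat.eq_one_of_dvd_coprimes hkcop h3 h2
          rw [orderOf_eq_one_iff] at h4
          exact (QuotientGroup.eq_one_iff _).1 h4
        have h5 := ihj (g ^ k) hgk hgkN
        rw [orderOf_pow, Nat.gcd_eq_right hkg] at h5
        rw [pow_succ']
        exact Nat.mul_dvd_of_dvd_div hkg h5
    have h6 := key (orderOf g) g hg hgN
    have h7 : orderOf g < k ^ orderOf g := Nat.lt_pow_self hk1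
    exact absurd (Nat.le_of_dvd (orderOf_pos g) h6) (not_le.2 h7)
  refine ⟨⟨h12, h21⟩, ?_⟩
  intro hcent
  have hcop := h12 hcent
  obtain ⟨H, hHN, hHp⟩ := exists_supplement (Nat.card G) G N rfl
  refine ⟨H, hHN, ?_⟩
  rw [← Subgroup.card_eq_one]
  by_contra hne
  obtain ⟨q, hq, hqd⟩ := Nat.exists_prime_and_dvd hne
  have h1 : q ∣ N.index := hHp q hq (hqd.trans (Subgroup.card_dvd_of_le inf_le_left))
  have h2 : q ∣ Nat.card M := hqd.trans (Subgroup.card_dvd_of_le inf_le_right)
  exact hq.one_lt.ne' (Nat.eq_one_of_dvd_coprimes hcop h1 h2)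

end Cfsg.Agent.S4112
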