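import Mathlib
import Cfsg.Statements.S4113

set_option autoImplicit false
open Cfsg

namespace Cfsg.Agent.S4113

variable {G : Type*} [Group G]

theorem mem_map_conj (H : Subgroup G) (g y : G) :
    y ∈ H.map (MulAut.conj g).toMonoidHom ↔ g⁻¹ * y * g ∈ H := by
  constructor
  · rintro ⟨z, hz, rfl⟩
    simp only [MulEquiv.coe_toMonoidHom, MulAut.conj_apply]
    have : g⁻¹ * (g * z * g⁻¹) * g = z := by group
    rw [this]; exact hz
  · intro h
    refine ⟨g⁻¹ * y * g, h, ?_⟩
    simp only [MulEquiv.coe_toMonoidHom, MulAut.conj_apply]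
    group

/-- if `m ∈ M` conjugates `y ∈ H` into `H` (with `H ∩ M = 1`, `M` normal), then `m` and `y` commute -/
theorem commute_of_conj_mem (M H : Subgroup G) [M.Normal] (hHM' : H ⊓ M = ⊥) (m y : G)
    (hm : m ∈ M) (hy : y ∈ H) (h : m⁻¹ * y * m ∈ H) : m * y = y * m := by
  have h1 : y⁻¹ * (m⁻¹ * y * m) ∈ H := H.mul_mem (H.inv_mem hy) h
  have h2 : y⁻¹ * (m⁻¹ * y * m) ∈ M := by
    have e : y⁻¹ * (m⁻¹ * y * m) = (y⁻¹ * m⁻¹ * y⁻¹⁻¹) * m := by group
    rw [e]
    exact M.mul_mem (‹M.Normal›.conj_mem _ (M.inv_mem hm) _) hm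
  have h3 : y⁻¹ * (m⁻¹ * y * m) ∈ H ⊓ M := ⟨h1, h2⟩
  rw [hHM', Subgroup.mem_bot] at h3
  have h4 : m⁻¹ * y * m = y := by
    have := congrArg (fun t => y * t) h3
    simpa using this
  calc m * y = m * (m⁻¹ * y * m) := by rw [h4]
    _ = y * m := by group

/-- Let G be a finite group, M ≤ N non-trivial proper normal subgroups, and H a subgroup with HM = G and H ∩ M = 1. Then every element of G outside N acts fixed-point-freely on M (C_G(x) ≤ N for every x ∈ M, x ≠ 1) if and only if H ∩ gHg⁻¹ ≤ H ∩ N for every g outside H, with H proper and non-trivial and H ∩ N proper in H. -/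
theorem result {G : Type*} [Group G] [Finite G] (N M : Subgroup G) [N.Normal] [M.Normal] (hMN : M ≤ N) (hM1 : M ≠ ⊥) (hN2 : N ≠ ⊤)
    (H : Subgroup G) (hHM : H ⊔ M = ⊤) (hHM' : H ⊓ M = ⊥) :
    (∀ x ∈ M, x ≠ 1 → Subgroup.centralizer ({x} : Set G) ≤ N) ↔
      (H ≠ ⊥ ∧ H ≠ ⊤ ∧ H ⊓ N < H ∧ ∀ g : G, g ∉ H → H ⊓ H.map (MulAut.conj g).toMonoidHom ≤ N) := by
  classical
  -- decomposition
  have hdec : ∀ g : G, ∃ h ∈ H, ∃ m ∈ M, g = h * m := by
    intro g
    have hg : g ∈ ((H ⊔ M : Subgroup G) : Set G) := by rw [hHM]; trivial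
    rw [Subgroup.mul_normal] at hg
    obtain ⟨h, hh, m, hm, rfl⟩ := hg
    exact ⟨h, hh, m, hm, rfl⟩
  have hb : H ≠ ⊥ := by
    intro h
    rw [h, bot_sup_eq] at hHM
    apply hN2
    rw [eq_top_iff, ← hHM]
    exact hMN
  have ht : H ≠ ⊤ := by
    intro h
    rw [h, top_inf_eq] at hHM'
    exact hM1 hHM'
  have hlt : H ⊓ N < H := by
    refine lt_of_le_of_ne inf_le_left ?_
    intro h
    have hHN : H ≤ N := inf_eq_left.1 h
    apply hN2
    rw [eq_top_iff, ← hHM]
    exact sup_le hHN hMN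
  have hMH : ∀ x ∈ M, x ≠ 1 → x ∉ H := by
    intro x hx hx1 hxH
    have : x ∈ H ⊓ M := ⟨hxH, hx⟩
    rw [hHM', Subgroup.mem_bot] at this
    exact hx1 this
  constructor
  · intro hcent
    refine ⟨hb, ht, hlt, ?_⟩
    intro g hg y hy
    obtain ⟨hyH, hyg0⟩ := hy
    have hyg := (mem_map_conj H g y).1 hyg0
    obtain ⟨h, hh, m, hm, rfl⟩ := hdec g
    have hm1 : m ≠ 1 := by
      intro h1
      apply hg
      rw [h1, mul_one]
      exact hh
    set y' := h⁻¹ * y * h with hy'
    have hy'H : y' ∈ H := H.mul_mem (H.mul_mem (H.inv_mem hh) hyH) hh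
    have hconj : m⁻¹ * y' * m ∈ H := by
      have e : m⁻¹ * y' * m = (h * m)⁻¹ * y * (h * m) := by rw [hy']; group
      rw [e]; exact hyg
    have hcomm := commute_of_conj_mem M H hHM' m y' hm hy'H hconj
    have hy'N : y' ∈ N := by
      apply hcent m hm hm1
      rw [Subgroup.mem_centralizer_iff]
      intro z hz
      rw [Set.mem_singleton_iff] at hz
      rw [hz]
      exact hcomm
    have e : y = h * y' * h⁻¹ := by rw [hy']; group
    rw [e]
    exact ‹N.Normal›.conj_mem _ hy'N _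
  · rintro ⟨-, -, -, hTI⟩ x hx hx1 c hc
    by_contra hcN
    obtain ⟨h, hh, m₀, hm₀, rfl⟩ := hdec c
    have hhN : h ∉ N := by
      intro hmem
      exact hcN (N.mul_mem hmem (hMN hm₀))
    -- the map m ↦ h⁻¹ m h m⁻¹ on M is injective, hence surjective
    let ψ : M → M := fun m => ⟨(h⁻¹ * (m : G) * h) * (m : G)⁻¹, by
      apply M.mul_mem _ (M.inv_mem m.2)
      have := ‹M.Normal›.conj_mem _ m.2 h⁻¹
      simpa using this⟩
    have hψ : Function.Injective ψ := by
      intro m m' hmm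
      have h0 : (h⁻¹ * (m : G) * h) * (m : G)⁻¹ = (h⁻¹ * (m' : G) * h) * (m' : G)⁻¹ :=
        congrArg Subtype.val hmm
      set z := (m' : G)⁻¹ * (m : G) with hz
      have hzM : z ∈ M := M.mul_mem (M.inv_mem m'.2) m.2
      have hzh : z * h = h * z := by
        have e1 : (m : G) * h * (m : G)⁻¹ = (m' : G) * h * (m' : G)⁻¹ := by
          have := congrArg (fun t => h * t) h0
          calc (m : G) * h * (m : G)⁻¹ = h * (h⁻¹ * (m : G) * h * (m : G)⁻¹) := by group
            _ = h * (h⁻¹ * (m' : G) * h * (m' : G)⁻¹) := this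
            _ = (m' : G) * h * (m' : G)⁻¹ := by group
        calc z * h = (m' : G)⁻¹ * ((m : G) * h * (m : G)⁻¹) * (m : G) := by rw [hz]; group
          _ = (m' : G)⁻¹ * ((m' : G) * h * (m' : G)⁻¹) * (m : G) := by rw [e1]
          _ = h * z := by rw [hz]; group
      by_cases hz1 : z = 1
      · apply Subtype.ext
        have : (m : G) = (m' : G) * z := by rw [hz]; group
        rw [this, hz1, mul_one]
      · exfalso
        have hzH := hMH z hzM hz1
        apply hhN
        apply hTI z hzH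
        refine ⟨hh, (mem_map_conj H z h).2 ?_⟩
        have : z⁻¹ * h * z = h := by
          calc z⁻¹ * h * z = z⁻¹ * (h * z) := by group
            _ = z⁻¹ * (z * h) := by rw [hzh]
            _ = h := by group
        rw [this]; exact hh
    have hsurj : Function.Surjective ψ := Finite.surjective_of_injective hψ
    obtain ⟨m, hm⟩ := hsurj ⟨m₀, hm₀⟩
    have hm' : (h⁻¹ * (m : G) * h) * (m : G)⁻¹ = m₀ := congrArg Subtype.val hm
    have hc' : h * m₀ = (m : G) * h * (m : G)⁻¹ := by rw [← hm']; group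
    -- conjugate back
    set x' := (m : G)⁻¹ * x * (m : G) with hx'
    have hx'M : x' ∈ M := by
      have := ‹M.Normal›.conj_mem _ hx (m : G)⁻¹
      simpa using this
    have hx'1 : x' ≠ 1 := by
      intro h1
      apply hx1
      have : x = (m : G) * x' * (m : G)⁻¹ := by rw [hx']; group
      rw [this, h1]; group
    have hx'H := hMH x' hx'M hx'1
    have hcx : h * m₀ * x = x * (h * m₀) := by
      rw [Subgroup.mem_centralizer_iff] at hc
      exact (hc x rfl).symm
    have hhx' : x'⁻¹ * h * x' = h := by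
      rw [hc'] at hcx
      have e1 : x'⁻¹ * h * x' = (m : G)⁻¹ * (x⁻¹ * ((m : G) * h * (m : G)⁻¹ * x)) * (m : G) := by
        rw [hx']; group
      rw [e1, hcx]; group
    apply hhN
    apply hTI x' hx'H
    refine ⟨hh, (mem_map_conj H x' h).2 ?_⟩
    rw [hhx']
    exact hh

end Cfsg.Agent.S4113
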