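import Mathlib
import Cfsg.Statements.S4126
import Mathlib
import Cfsg.Agent.S1946
import Cfsg.Agent.Lib.Helper4.PGroupFixed
-- import your own Cfsg.Agent.* helpers here

set_option autoImplicit false
open Cfsg

namespace Cfsg.Agent.S4126

/-- Let G be a finite group and p a prime. Suppose every element of order p, and when p = 2 also every element of order 4, has a conjugacy class of p-power size. Then G has a normal p-complement. -/
theorem result {G : Type*} [Group G] [Finite G] (p : ℕ) [Fact p.Prime]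
    (h : ∀ x : G, (orderOf x = p ∨ (p = 2 ∧ orderOf x = 4)) → ∃ a : ℕ, (Subgroup.centralizer ({x} : Set G)).index = p ^ a) :
    Cfsg.HasNormalPComplement p G := by
  classical
  obtain ⟨P⟩ : Nonempty (Sylow p G) := inferInstance
  apply (Cfsg.Agent.S1946.result P).mpr
  intro a ha haΩ g _
  by_cases ha1 : a = 1
  · exact ⟨1, Subgroup.one_mem _, by rw [ha1]; group⟩
  have hord : orderOf a = p ∨ (p = 2 ∧ orderOf a = 4) := by
    rcases haΩ with h1 | ⟨h2, h4⟩
    · left
      have hd : orderOf a ∣ p := orderOf_dvd_of_pow_eq_one h1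
      rcases (Nat.dvd_prime (Fact.out : p.Prime)).mp hd with h | h
      · exact absurd (orderOf_eq_one_iff.mp h) ha1
      · exact h
    · have hd : orderOf a ∣ 2 ^ 2 := orderOf_dvd_of_pow_eq_one (by norm_num; exact h4)
      obtain ⟨j, hj, hje⟩ := (Nat.dvd_prime_pow Nat.prime_two).mp hd
      interval_cases j
      · exact absurd (orderOf_eq_one_iff.mp (by simpa using hje)) ha1
      · left; rw [h2]; simpa using hje
      · right; exact ⟨h2, by simpa using hje⟩
  obtain ⟨e, he⟩ := h a hord
  set C := Subgroup.centralizer ({a} : Set G) with hC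
  have hcard : Nat.card (G ⧸ C) = p ^ e := by rw [← Subgroup.index_eq_card]; exact he
  haveI := Cfsg.Agent.Helper4.sylow_isPretransitive (G := G) (Ω := G ⧸ C) hcard P
  obtain ⟨u, hu⟩ := MulAction.exists_smul_eq (↥P) (((1 : G) : G ⧸ C)) ((g : G) : G ⧸ C)
  refine ⟨(u : G), u.2, ?_⟩
  have h1 : (((u : G) * 1 : G) : G ⧸ C) = ((g : G) : G ⧸ C) := hu
  rw [QuotientGroup.eq] at h1
  have h2 : ((u : G) * 1)⁻¹ * g ∈ C := h1
  have h3 := Subgroup.mem_centralizer_iff.mp h2 a (Set.mem_singleton a)
  have e1 : g = (u : G) * (((u : G) * 1)⁻¹ * g) := by group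
  set c := ((u : G) * 1)⁻¹ * g with hc
  rw [e1]
  calc (u : G) * c * a * ((u : G) * c)⁻¹ = (u : G) * (c * a) * c⁻¹ * (u : G)⁻¹ := by group
    _ = (u : G) * (a * c) * c⁻¹ * (u : G)⁻¹ := by rw [h3]
    _ = (u : G) * a * (u : G)⁻¹ := by group

end Cfsg.Agent.S4126
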