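import Mathlib
import Cfsg.Statements.S4138
import Cfsg.Agent.Lib.Helper14.TwoLargestE
import Cfsg.Agent.S0034

set_option autoImplicit false
open Cfsg

namespace Cfsg.Agent.S4138

open Subgroup Cfsg.Agent.Helper21.ClassSize Cfsg.Agent.Helper14.TwoLargest

variable {G : Type*} [Group G] {m n : ℕ}

/-- an element of `D̄ ∩ D̄^ḡ` that is not trivial forces `g ∈ D` -/
theorem mem_of_conj [Finite G] (h : Hyp G m n) {x y : G} (hx : idx x = n) (hy : idx y = m)
    {d d' g : G} (hd : d ∈ centralizer ({y} : Set G)) (hd' : d' ∈ centralizer ({y} : Set G))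
    (hdc : d ∉ center G) (hz : (g * d' * g⁻¹)⁻¹ * d ∈ center G) :
    g ∈ centralizer ({y} : Set G) := by
  have hCS := cent_eq_Sg h hx
  have hZD : center G ≤ centralizer ({y} : Set G) := by
    intro z hz
    rw [mem_centralizer_singleton]; exact (mem_center_iff.mp hz y)
  obtain ⟨c, hc, d₀, hd₀, hgc⟩ := exists_mul_of_coprime_index (centralizer ({x} : Set G))
    (centralizer ({y} : Set G))
    (by change Nat.Coprime (idx x) (idx y); rw [hx, hy]; exact h.hcop.symm) g
  rw [hCS] at hc
  set z := (g * d' * g⁻¹)⁻¹ * d with hzdef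
  set d₂ := d₀ * d' * d₀⁻¹ with hd₂
  have hd₂y : d₂ ∈ centralizer ({y} : Set G) := mul_mem (mul_mem hd₀ hd') (inv_mem hd₀)
  have e1 : g * d' * g⁻¹ = c * d₂ * c⁻¹ := by rw [hgc, hd₂]; group
  have e2 : d = c * d₂ * c⁻¹ * z := by rw [hzdef, e1]; group
  have hk : c * d₂ * c⁻¹ * d₂⁻¹ ∈ Ks G m := by
    have h1 := comm_mem_Ks hc d₂
    have h2 : c * d₂ * c⁻¹ * d₂⁻¹ = (d₂ * c * d₂⁻¹ * c⁻¹)⁻¹ := by group
    rw [h2]; exact inv_mem h1
  have hky : c * d₂ * c⁻¹ * d₂⁻¹ ∈ centralizer ({y} : Set G) := by
    have : c * d₂ * c⁻¹ * d₂⁻¹ = d * z⁻¹ * d₂⁻¹ := by rw [e2]; group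
    rw [this]
    exact mul_mem (mul_mem hd (inv_mem (hZD hz))) (inv_mem hd₂y)
  have hk1 : c * d₂ * c⁻¹ * d₂⁻¹ = 1 := by
    rw [mem_centralizer_singleton] at hky
    exact eq_one_of_mem_Ks_commute h hy hk hky.symm
  have hcd : c * d₂ * c⁻¹ = d₂ := by
    have := mul_inv_eq_one.mp hk1
    exact this
  have hcc : Commute c d₂ := by
    show c * d₂ = d₂ * c
    calc c * d₂ = (c * d₂ * c⁻¹) * c := by group
      _ = d₂ * c := by rw [hcd]
  have hd₂c : d₂ ∉ center G := by
    intro hz2
    apply hdc
    rw [e2, hcd]
    exact mul_mem hz2 hz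
  have hd₂m : idx d₂ = m := idx_eq_of_mem_cent h hy hd₂y hd₂c
  have hcz : c ∈ center G := mem_center_of_mem_Sg_commute h hd₂m hc hcc
  rw [hgc]
  exact mul_mem (hZD hcz) hd₀

/-- Let G be a finite group whose two largest conjugacy class sizes m > n > 1 are coprime, and let x, y ∈ G have classes of sizes n and m respectively. Then C_G(x) and C_G(y) are abelian, and G/Z(G) is a Frobenius group with kernel C_G(x)/Z(G) and complement C_G(y)/Z(G). -/
theorem result {G : Type*} [Group G] [Finite G] (m n : ℕ) (hmn : n < m) (hn : 1 < n)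
    (hcop : m.Coprime n) (htop : ∀ z : G, (Subgroup.centralizer ({z} : Set G)).index ≤ m) (hsecond : ∀ z : G, (Subgroup.centralizer ({z} : Set G)).index < m → (Subgroup.centralizer ({z} : Set G)).index ≤ n)
    (x y : G) (hx : (Subgroup.centralizer ({x} : Set G)).index = n) (hy : (Subgroup.centralizer ({y} : Set G)).index = m) :
    IsMulCommutative (Subgroup.centralizer ({x} : Set G)) ∧ IsMulCommutative (Subgroup.centralizer ({y} : Set G)) ∧
    Cfsg.IsFrobeniusComplement ((Subgroup.centralizer ({y} : Set G)).map (QuotientGroup.mk' (Subgroup.center G))) ∧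
    Cfsg.frobeniusKernel ((Subgroup.centralizer ({y} : Set G)).map (QuotientGroup.mk' (Subgroup.center G))) =
      ((Subgroup.centralizer ({x} : Set G)).map (QuotientGroup.mk' (Subgroup.center G)) : Set (G ⧸ Subgroup.center G)) := by
  classical
  have h : Hyp G m n := ⟨hmn, hn, hcop, htop, hsecond, ⟨y, hy⟩, ⟨x, hx⟩⟩
  have hx' : idx x = n := hx
  have hy' : idx y = m := hy
  have hCS := cent_eq_Sg h hx'
  have hab := Sg_comm h
  have hDab := cent_comm h hy'
  have hZD : center G ≤ centralizer ({y} : Set G) := by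
    intro z hz
    rw [mem_centralizer_singleton]; exact (mem_center_iff.mp hz y)
  have hZC : center G ≤ centralizer ({x} : Set G) := by
    intro z hz
    rw [mem_centralizer_singleton]; exact (mem_center_iff.mp hz x)
  have hker : (QuotientGroup.mk' (center G)).ker = center G := QuotientGroup.ker_mk' _
  have hmk : ∀ a b : G, QuotientGroup.mk' (center G) a = QuotientGroup.mk' (center G) b ↔
      a⁻¹ * b ∈ center G := fun a b => QuotientGroup.eq
  -- the complement
  have hFrob : Cfsg.IsFrobeniusComplement
      ((centralizer ({y} : Set G)).map (QuotientGroup.mk' (center G))) := by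
    refine ⟨?_, ?_, ?_⟩
    · intro hbot
      have h1 : QuotientGroup.mk' (center G) y ∈
          (centralizer ({y} : Set G)).map (QuotientGroup.mk' (center G)) :=
        mem_map_of_mem _ (by rw [mem_centralizer_singleton])
      rw [hbot, mem_bot] at h1
      have h2 : y ∈ center G := by
        rw [← hker]; exact h1
      have h3 := idx_eq_one_iff.mpr h2
      rw [hy'] at h3
      omega
    · intro htop'
      have h1 : QuotientGroup.mk' (center G) x ∈
          (centralizer ({y} : Set G)).map (QuotientGroup.mk' (center G)) := by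
        rw [htop']; trivial
      obtain ⟨d, hd, hdx⟩ := h1
      have h2 : d⁻¹ * x ∈ center G := (hmk d x).mp hdx
      have h3 : x ∈ centralizer ({y} : Set G) := by
        have : x = d * (d⁻¹ * x) := by group
        rw [this]; exact mul_mem hd (hZD h2)
      rw [mem_centralizer_singleton] at h3
      have hxS : x ∈ Sg G m := by
        rw [← hCS, mem_centralizer_singleton]
      have h4 := mem_center_of_mem_Sg_commute h hy' hxS h3.symm
      have h5 := idx_eq_one_iff.mpr h4
      rw [hx'] at h5
      omega
    · intro gb hgb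
      rw [eq_bot_iff]
      intro ab hab'
      rw [mem_inf] at hab'
      obtain ⟨⟨d, hd, rfl⟩, h2⟩ := hab'
      rw [mem_bot]
      obtain ⟨g, rfl⟩ := QuotientGroup.mk'_surjective (center G) gb
      rw [mem_smul_pointwise_iff_exists] at h2
      obtain ⟨db, ⟨d', hd', rfl⟩, h3⟩ := h2
      rw [MulAut.smul_def, MulAut.conj_apply] at h3
      by_cases hdc : d ∈ center G
      · rw [← MonoidHom.mem_ker, hker]; exact hdc
      · exfalso
        apply hgb
        have h4 : QuotientGroup.mk' (center G) (g * d' * g⁻¹) = QuotientGroup.mk' (center G) d := by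
          rw [map_mul, map_mul, map_inv]; exact h3
        have h5 := (hmk _ _).mp h4
        exact mem_map_of_mem _ (mem_of_conj h hx' hy' hd hd' hdc h5)
  refine ⟨⟨⟨fun a b => Subtype.ext ?_⟩⟩, ⟨⟨fun a b => Subtype.ext ?_⟩⟩, hFrob, ?_⟩
  · rw [Subgroup.coe_mul, Subgroup.coe_mul]
    exact hab a.1 (hCS ▸ a.2) b.1 (hCS ▸ b.2)
  · rw [Subgroup.coe_mul, Subgroup.coe_mul]
    exact hDab a.1 a.2 b.1 b.2
  · -- the kernel
    have hsub : ((centralizer ({x} : Set G)).map (QuotientGroup.mk' (center G)) :
        Set (G ⧸ center G)) ⊆ Cfsg.frobeniusKernel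
          ((centralizer ({y} : Set G)).map (QuotientGroup.mk' (center G))) := by
      rintro _ ⟨c, hc, rfl⟩
      by_cases hcc : c ∈ center G
      · left
        rw [← MonoidHom.mem_ker, hker]; exact hcc
      · right
        intro gb hmem
        obtain ⟨g, rfl⟩ := QuotientGroup.mk'_surjective (center G) gb
        rw [mem_smul_pointwise_iff_exists] at hmem
        obtain ⟨db, ⟨d', hd', rfl⟩, h3⟩ := hmem
        rw [MulAut.smul_def, MulAut.conj_apply] at h3
        have h4 : QuotientGroup.mk' (center G) (g * d' * g⁻¹) = QuotientGroup.mk' (center G) c := by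
          rw [map_mul, map_mul, map_inv]; exact h3
        have h5 := (hmk _ _).mp h4
        have hcS : c ∈ Sg G m := hCS ▸ hc
        -- `g d' g⁻¹ ∈ Sg`
        have h6 : g * d' * g⁻¹ ∈ Sg G m := by
          have : g * d' * g⁻¹ = c * ((g * d' * g⁻¹)⁻¹ * c)⁻¹ := by group
          rw [this]
          exact mul_mem hcS (inv_mem (center_le_Sg m h5))
        have h7 : d' ∈ Sg G m := by
          have : d' = g⁻¹ * (g * d' * g⁻¹) * g⁻¹⁻¹ := by group
          rw [this]
          exact (Sg_normal m).conj_mem _ h6 g⁻¹
        have h8 : d' ∈ center G := by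
          have hd'' : d' ∈ centralizer ({y} : Set G) := hd'
          rw [mem_centralizer_singleton] at hd''
          exact mem_center_of_mem_Sg_commute h hy' h7 hd''.symm
        have h9 : g * d' * g⁻¹ = d' := by
          have := mem_center_iff.mp h8 g
          calc g * d' * g⁻¹ = (d' * g) * g⁻¹ := by rw [this]
            _ = d' := by group
        apply hcc
        have : c = d' * (d'⁻¹ * c) := by group
        rw [this]
        apply mul_mem h8
        rw [h9] at h5
        exact h5
    have hcardK := (Cfsg.Agent.S0034.result _ hFrob).1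
    have hiD : ((centralizer ({y} : Set G)).map (QuotientGroup.mk' (center G))).index = m := by
      rw [index_map_eq _ (QuotientGroup.mk'_surjective _) (by rw [hker]; exact hZD)]
      exact hy
    have hiC : ((centralizer ({x} : Set G)).map (QuotientGroup.mk' (center G))).index = n := by
      rw [index_map_eq _ (QuotientGroup.mk'_surjective _) (by rw [hker]; exact hZC)]
      exact hx
    have hcardG : Nat.card (G ⧸ center G) = n * m := by
      rw [← Subgroup.index_eq_card, index_center h]
    have hcardC : Nat.card ((centralizer ({x} : Set G)).map (QuotientGroup.mk' (center G))) = m := by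
      have := Subgroup.card_mul_index ((centralizer ({x} : Set G)).map (QuotientGroup.mk' (center G)))
      rw [hiC, hcardG, mul_comm] at this
      have hnpos : 0 < n := by omega
      exact Nat.eq_of_mul_eq_mul_left hnpos this
    symm
    apply Set.eq_of_subset_of_ncard_le hsub _ (Set.toFinite _)
    rw [← Nat.card_coe_set_eq, hcardK, hiD, ← Nat.card_coe_set_eq]
    exact le_of_eq hcardC.symm

end Cfsg.Agent.S4138
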