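import Mathlib
import Cfsg.Agent.S4112
import Cfsg.Agent.Lib.Helper8.PGroup
import Cfsg.Agent.Lib.Helper20.SplitAut6
import Cfsg.Agent.Lib.Helper22.Camina1
import Cfsg.Agent.Lib.Helper22.Camina2
import Cfsg.Agent.Lib.Helper22.Camina3
import Cfsg.Statements.S4140
-- import your own Cfsg.Agent.* helpers here

set_option autoImplicit false
open Cfsg

namespace Cfsg.Agent.S4140

open Cfsg.Agent.Helper22.Camina

theorem exists_other_prime {n : ℕ} (hn0 : n ≠ 0) (hn1 : n ≠ 1) (hnpp : ¬ IsPrimePow n) (r : ℕ)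
    (hr : r.Prime) : ∃ s : ℕ, s.Prime ∧ s ≠ r ∧ s ∣ n := by
  by_contra hcon
  push Not at hcon
  apply hnpp
  have h1 : n = r ^ n.primeFactorsList.length :=
    Nat.eq_prime_pow_of_unique_prime_dvd hn0 (fun {d} hd hdvd => by
      by_contra hne
      exact hcon d hd hne hdvd)
  rw [isPrimePow_nat_iff]
  refine ⟨r, n.primeFactorsList.length, hr, ?_, h1.symm⟩
  rcases Nat.eq_zero_or_pos n.primeFactorsList.length with h0 | h0
  · rw [h0, pow_zero] at h1
    exact absurd h1 hn1
  · exact h0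

/-- a prime dividing both `|N|` and `|G : N|` gives an element outside `N`, of order `r` modulo
`N`, centralizing a nontrivial element of `N`. -/
theorem exists_bad {G : Type*} [Group G] [Finite G] (N : Subgroup G) [N.Normal] {r : ℕ}
    (hr : r.Prime) (hrI : r ∣ N.index) (hrN : r ∣ Nat.card N) :
    ∃ g x : G, g ∉ N ∧ g ^ r ∈ N ∧ x ∈ N ∧ x ≠ 1 ∧ x * g = g * x := by
  classical
  haveI : Fact r.Prime := ⟨hr⟩
  obtain ⟨x₀, hx₀⟩ := exists_prime_orderOf_dvd_card' (G := N) r hrN
  have hzp : IsPGroup r (Subgroup.zpowers (x₀ : G)) := by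
    apply IsPGroup.of_card (n := 1)
    rw [Nat.card_zpowers, Subgroup.orderOf_coe, hx₀, pow_one]
  obtain ⟨R, hR⟩ := hzp.exists_le_sylow
  have hx₀R : (x₀ : G) ∈ (R : Subgroup G) := hR (Subgroup.mem_zpowers _)
  have hx₀1 : (x₀ : G) ≠ 1 := by
    intro h
    have : orderOf (x₀ : G) = 1 := by rw [h, orderOf_one]
    rw [Subgroup.orderOf_coe, hx₀] at this
    exact hr.one_lt.ne' this
  haveI : (N.subgroupOf (R : Subgroup G)).Normal := Subgroup.Normal.subgroupOf inferInstance _
  have hne : N.subgroupOf (R : Subgroup G) ≠ ⊥ := by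
    intro h
    have : (⟨(x₀ : G), hx₀R⟩ : (R : Subgroup G)) ∈ N.subgroupOf (R : Subgroup G) := x₀.2
    rw [h, Subgroup.mem_bot] at this
    exact hx₀1 (congrArg Subtype.val this)
  obtain ⟨z, hzN, hzc, hz1⟩ :=
    Cfsg.Agent.Helper8.exists_mem_center_of_normal_ne_bot R.isPGroup' (N.subgroupOf (R : Subgroup G)) hne
  -- an element of `R` outside `N`
  have hRN : ¬ (R : Subgroup G) ≤ N := by
    intro hRN
    exact R.not_dvd_index (hrI.trans (Subgroup.index_dvd_of_le hRN))
  obtain ⟨g₀, hg₀R, hg₀N⟩ := SetLike.not_le_iff_exists.mp hRN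
  obtain ⟨k, hk⟩ := R.isPGroup' ⟨g₀, hg₀R⟩
  have hk' : g₀ ^ r ^ k = 1 := by simpa using congrArg Subtype.val hk
  have hex : ∃ j : ℕ, g₀ ^ r ^ j ∈ N := ⟨k, by rw [hk']; exact N.one_mem⟩
  have hj0 : Nat.find hex ≠ 0 := by
    intro h0
    have := Nat.find_spec hex
    rw [h0, pow_zero, pow_one] at this
    exact hg₀N this
  obtain ⟨j, hj⟩ : ∃ j, Nat.find hex = j + 1 := ⟨Nat.find hex - 1, by omega⟩
  have hgN : g₀ ^ r ^ j ∉ N := Nat.find_min hex (by omega)
  have hgr : (g₀ ^ r ^ j) ^ r ∈ N := by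
    have := Nat.find_spec hex
    rw [hj, pow_succ, pow_mul] at this
    exact this
  refine ⟨g₀ ^ r ^ j, (z : G), hgN, hgr, hzN, fun h => hz1 (Subtype.ext h), ?_⟩
  rw [Subgroup.mem_center_iff] at hzc
  have h1 := hzc (⟨g₀, hg₀R⟩ ^ r ^ j)
  have h2 := congrArg Subtype.val h1
  simpa using h2.symm

/-- Let G be a finite group and N a proper non-trivial normal subgroup such that for every g outside N the conjugacy class of g is a union of cosets of N (equivalently gn is conjugate to g for every n ∈ N). Then either every element of G outside N acts fixed-point-freely on N (C_G(x) ≤ N for all x ∈ N, x ≠ 1, so G is a Frobenius group with kernel N), or N has prime-power order, or G/N has prime-power order. -/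
theorem result {G : Type*} [Group G] [Finite G] (N : Subgroup G) [N.Normal] (hN1 : N ≠ ⊥) (hN2 : N ≠ ⊤)
    (hcam : ∀ g : G, g ∉ N → ∀ n ∈ N, ∃ x : G, x * g * x⁻¹ = g * n) :
    (∀ x ∈ N, x ≠ 1 → Subgroup.centralizer ({x} : Set G) ≤ N) ∨ IsPrimePow (Nat.card N) ∨ IsPrimePow N.index := by
  classical
  by_contra hcon
  obtain ⟨hF, hppN, hppI⟩ : ¬ (∀ x ∈ N, x ≠ 1 → Subgroup.centralizer ({x} : Set G) ≤ N) ∧
      ¬ IsPrimePow (Nat.card N) ∧ ¬ IsPrimePow N.index :=
    ⟨fun h => hcon (Or.inl h), fun h => hcon (Or.inr (Or.inl h)),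
      fun h => hcon (Or.inr (Or.inr h))⟩
  have hcam' : Cam N := hcam
  have h4112 := (Cfsg.Agent.S4112.result N N le_rfl hN1 hN2 hcam).1
  have hncop : ¬ N.index.Coprime (Nat.card N) := fun h => hF (h4112.mpr h)
  obtain ⟨r, hr, hrI, hrN⟩ := Nat.Prime.not_coprime_iff_dvd.1 hncop
  haveI hrf : Fact r.Prime := ⟨hr⟩
  obtain ⟨g, x, hg, hgr, hx, hx1, hxg⟩ := exists_bad N hr hrI hrN
  have hCCr : CC r (G ⧸ N) := cc_of_bad N hcam' hg hgr hx hx1 hxg
  have hRCr : RC N r := rc_of_cam N hcam' hr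
  -- a Sylow `r`-subgroup of `N` and its normalizer
  obtain ⟨R₀⟩ : Nonempty (Sylow r N) := inferInstance
  obtain ⟨R, hR⟩ : ∃ R : Subgroup G, R = (R₀ : Subgroup N).map N.subtype := ⟨_, rfl⟩
  obtain ⟨K, hK⟩ : ∃ K : Subgroup G, K = Subgroup.normalizer (R : Set G) := ⟨_, rfl⟩
  have hKN : K ⊔ N = ⊤ := by rw [hK, hR]; exact Sylow.normalizer_sup_eq_top R₀
  have hRN : R ≤ N := hR ▸ Subgroup.map_subtype_le _
  have hRK : R ≤ K := hK ▸ Subgroup.le_normalizer
  have hRp : IsPGroup r R := hR ▸ R₀.isPGroup'.map _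
  have hRne : R ≠ ⊥ := by
    have h1 : (R₀ : Subgroup N) ≠ ⊥ := R₀.ne_bot_of_dvd_card hrN
    intro h2
    apply h1
    rw [hR] at h2
    exact (Subgroup.map_eq_bot_iff_of_injective _ N.subtype_injective).mp h2
  -- Sylow maximality
  have hsyl : ∀ y ∈ N, y ∈ K → ∀ m : ℕ, y ^ r ^ m ∈ R → y ∈ R := by
    intro y hyN hyK m hm
    obtain ⟨l, hl⟩ := hRp ⟨y ^ r ^ m, hm⟩
    have hl' : y ^ r ^ (m + l) = 1 := by
      have := congrArg Subtype.val hl
      rw [pow_add, pow_mul]
      simpa using this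
    have hZ : IsPGroup r (Subgroup.zpowers y) := by
      obtain ⟨i, -, hi⟩ := (Nat.dvd_prime_pow hr).mp (orderOf_dvd_of_pow_eq_one hl')
      exact IsPGroup.of_card (n := i) (by rw [Nat.card_zpowers, hi])
    have hZK : Subgroup.zpowers y ≤ Subgroup.normalizer (R : Set G) := by
      rw [Subgroup.zpowers_le, ← hK]; exact hyK
    have hsup : IsPGroup r (Subgroup.zpowers y ⊔ R : Subgroup G) :=
      IsPGroup.to_sup_of_normal_right' hZ hRp hZK
    have hsup' : IsPGroup r ((Subgroup.zpowers y ⊔ R).subgroupOf N) := hsup.comap_subtype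
    have hle : (R₀ : Subgroup N) ≤ (Subgroup.zpowers y ⊔ R).subgroupOf N := by
      intro n hn
      rw [Subgroup.mem_subgroupOf]
      apply le_sup_right (a := Subgroup.zpowers y)
      rw [hR]
      exact Subgroup.mem_map_of_mem _ hn
    have heq := R₀.is_maximal' hsup' hle
    have hy : (⟨y, hyN⟩ : N) ∈ (R₀ : Subgroup N) := by
      rw [← heq, Subgroup.mem_subgroupOf]
      exact le_sup_left (b := R) (Subgroup.mem_zpowers y)
    rw [hR]
    exact ⟨⟨y, hyN⟩, hy, rfl⟩
  -- the isomorphism `K ⧸ (N ⊓ K) ≃* G ⧸ N`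
  obtain ⟨φ, hφ⟩ : ∃ φ : K →* G ⧸ N, φ = (QuotientGroup.mk' N).comp K.subtype := ⟨_, rfl⟩
  have hφs : Function.Surjective φ := by
    intro q
    obtain ⟨g', rfl⟩ := QuotientGroup.mk'_surjective N q
    have h1 : g' ∈ K ⊔ N := by rw [hKN]; exact Subgroup.mem_top _
    obtain ⟨k, hk, n, hn, rfl⟩ := Subgroup.mem_sup_of_normal_right.mp h1
    refine ⟨⟨k, hk⟩, ?_⟩
    rw [hφ]
    simp only [MonoidHom.coe_comp, Function.comp_apply, Subgroup.subtype_apply,
      QuotientGroup.mk'_apply]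
    rw [QuotientGroup.eq]
    simpa using hn
  have hker : φ.ker = N.subgroupOf K := by
    ext k
    rw [MonoidHom.mem_ker, hφ, Subgroup.mem_subgroupOf]
    simp only [MonoidHom.coe_comp, Function.comp_apply, Subgroup.subtype_apply,
      QuotientGroup.mk'_apply]
    exact QuotientGroup.eq_one_iff _
  have e₂ : K ⧸ N.subgroupOf K ≃* G ⧸ N :=
    (QuotientGroup.quotientMulEquivOfEq hker.symm).trans
      (QuotientGroup.quotientKerEquivOfSurjective φ hφs)
  haveI hRKn : (R.subgroupOf K).Normal := by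
    subst hK
    exact Subgroup.normal_in_normalizer
  have hle' : R.subgroupOf K ≤ N.subgroupOf K := fun k hk => hRN hk
  have hRC' : ∀ q : ℕ, RC N q → RC (N.subgroupOf K) q := by
    intro q hq y hy k hk
    have hk' : ((y : G)) ^ q ^ k ∈ N := by
      have := hk
      rw [Subgroup.mem_subgroupOf] at this
      simpa using this
    obtain ⟨m, hm⟩ := hq (y : G) hy k hk'
    exact ⟨m, Subtype.ext (by simpa using hm)⟩
  have hNK_le : N.subgroupOf K ≤ R.subgroupOf K := by
    apply lemA (N.subgroupOf K) (R.subgroupOf K) hle' (r := r) ?_ (hRC' r hRCr)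
      (hCCr.of_equiv e₂.symm)
    intro y hy m hm
    rw [Subgroup.mem_subgroupOf] at hy hm ⊢
    apply hsyl (y : G) hy y.2 m
    simpa using hm
  have hKNR : ∀ y ∈ K, y ∈ N → y ∈ R := fun y hyK hyN =>
    hNK_le (show (⟨y, hyK⟩ : K) ∈ N.subgroupOf K from hyN)
  -- a second prime
  have hI0 : N.index ≠ 0 := Subgroup.index_ne_zero_of_finite
  have hI1 : N.index ≠ 1 := fun h => hN2 (Subgroup.index_eq_one.mp h)
  obtain ⟨s, hs, hsr, hsI⟩ := exists_other_prime hI0 hI1 hppI r hr
  haveI hsf : Fact s.Prime := ⟨hs⟩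
  have hRCs : RC N s := rc_of_cam N hcam' hs
  by_cases hsN : s ∣ Nat.card N
  · -- both primes are bad
    obtain ⟨g', x', hg', hgs', hx', hx1', hxg'⟩ := exists_bad N hs hsI hsN
    have hCCs : CC s (G ⧸ N) := cc_of_bad N hcam' hg' hgs' hx' hx1' hxg'
    have heq : N.subgroupOf K = R.subgroupOf K := le_antisymm hNK_le hle'
    have hCCs' : CC s (K ⧸ R.subgroupOf K) :=
      hCCs.of_equiv (e₂.symm.trans (QuotientGroup.quotientMulEquivOfEq heq))
    apply lemC (R.subgroupOf K) ?_ ?_ ?_ hCCs'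
    · intro hbot
      apply hRne
      rw [eq_bot_iff]
      intro y hy
      have h1 : (⟨y, hRK hy⟩ : K) ∈ R.subgroupOf K := hy
      rw [hbot, Subgroup.mem_bot] at h1
      rw [Subgroup.mem_bot]
      exact congrArg Subtype.val h1
    · intro y hy m hm
      rw [Subgroup.mem_subgroupOf] at hy
      obtain ⟨l, hl⟩ := hRp ⟨(y : G), hy⟩
      have hl' : (y : G) ^ r ^ l = 1 := by simpa using congrArg Subtype.val hl
      have hm' : (y : G) ^ s ^ m = 1 := by simpa using congrArg Subtype.val hm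
      exact Subtype.ext (eq_one_of_pow_of_pow hr hs hsr.symm hl' hm')
    · intro y hy k hk
      rw [Subgroup.mem_subgroupOf] at hy hk
      have hyN : (y : G) ∉ N := fun h => hy (hKNR _ y.2 h)
      have hk' : (y : G) ^ s ^ k ∈ N := hRN (by simpa using hk)
      obtain ⟨m, hm⟩ := hRCs (y : G) hyN k hk'
      exact ⟨m, Subtype.ext (by simpa using hm)⟩
  · -- `s` is prime to `|N|`: Thompson
    have hsG : s ∣ Nat.card G := hsI.trans N.index_dvd_card
    obtain ⟨v, hv⟩ := exists_prime_orderOf_dvd_card' (G := G) s hsG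
    have hcop : (Nat.card N).Coprime s :=
      Nat.Coprime.symm ((Nat.Prime.coprime_iff_not_dvd hs).mpr hsN)
    have hNs : ∀ y ∈ N, ∀ m : ℕ, y ^ s ^ m = 1 → y = 1 := by
      intro y hy m hm
      have h1 : orderOf y ∣ s ^ m := orderOf_dvd_of_pow_eq_one hm
      have h2 : orderOf y ∣ Nat.card N := Subgroup.orderOf_dvd_natCard N hy
      exact orderOf_eq_one_iff.mp (Nat.eq_one_of_dvd_coprimes (Nat.Coprime.pow_right m hcop) h2 h1)
    have hvs : v ^ s = 1 := by rw [← hv, pow_orderOf_eq_one]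
    obtain ⟨Γ, hΓ⟩ : ∃ Γ : Subgroup G, Γ = N ⊔ Subgroup.zpowers v := ⟨_, rfl⟩
    have hNΓ : N ≤ Γ := hΓ ▸ le_sup_left
    have hHT : Cfsg.Agent.Helper20.HT s Γ (N.subgroupOf Γ) := by
      refine ⟨inferInstance, ?_, ?_⟩
      · show N.relIndex Γ = s
        rw [hΓ, Subgroup.relIndex_sup_left, ← Subgroup.inf_relIndex_right]
        have hbot : N ⊓ Subgroup.zpowers v = ⊥ := by
          rw [eq_bot_iff]
          intro y hy
          rw [Subgroup.mem_inf] at hy
          rw [Subgroup.mem_bot]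
          apply hNs _ hy.1 1
          obtain ⟨j, rfl⟩ := Subgroup.mem_zpowers_iff.mp hy.2
          rw [pow_one, ← zpow_natCast, ← zpow_mul, mul_comm, zpow_mul, zpow_natCast, hvs, one_zpow]
        rw [hbot, Subgroup.relIndex_bot_left, Nat.card_zpowers, hv]
      · intro y hy
        have hyN : (y : G) ∉ N := hy
        have hys : (y : G) ^ s ∈ N := by
          have h1 : (y : G) ∈ N ⊔ Subgroup.zpowers v := hΓ ▸ y.2
          obtain ⟨n, hn, z, hz, hnz⟩ := Subgroup.mem_sup_of_normal_left.mp h1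
          obtain ⟨j, rfl⟩ := Subgroup.mem_zpowers_iff.mp hz
          rw [← QuotientGroup.eq_one_iff, ← hnz]
          have h2 : (((n * v ^ j) ^ s : G) : G ⧸ N) = ((QuotientGroup.mk' N v) ^ s) ^ j := by
            have h3 : ((n : G) : G ⧸ N) = 1 := (QuotientGroup.eq_one_iff n).mpr hn
            rw [QuotientGroup.mk_pow, QuotientGroup.mk_mul, h3, one_mul, QuotientGroup.mk_zpow,
              ← zpow_natCast, ← zpow_mul, mul_comm, zpow_mul, zpow_natCast]
            rfl
          rw [h2, ← map_pow, hvs, map_one, one_zpow]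
        obtain ⟨m, hm⟩ := rc_cent hRCs hyN (k := 1) (by rwa [pow_one]) hys
          ((Commute.refl (y : G)).pow_left s).eq
        have h4 := hNs _ hys m hm
        exact Subtype.ext (by simpa using h4)
    haveI hnilΓ : Group.IsNilpotent (N.subgroupOf Γ) := hHT.isNilpotent
    haveI hnil : Group.IsNilpotent N :=
      Group.nilpotent_of_mulEquiv (Subgroup.subgroupOfEquivOfLe hNΓ)
    have hall := ((Group.isNilpotent_of_finite_tfae (G := N)).out 0 3).mp hnil
    haveI hR₀n : (R₀ : Subgroup N).Normal := hall r hrf R₀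
    haveI : (R₀ : Subgroup N).Characteristic := Sylow.characteristic_of_normal R₀ hR₀n
    haveI hRn : R.Normal := by
      rw [hR]
      exact ConjAct.normal_of_characteristic_of_normal
    have hKtop : K = ⊤ := by rw [hK]; exact Subgroup.normalizer_eq_top R
    have hNR : N = R := le_antisymm (fun y hy => hKNR y (hKtop ▸ Subgroup.mem_top y) hy) hRN
    apply hppN
    obtain ⟨n, hn⟩ := IsPGroup.iff_card.mp hRp
    rw [hNR, hn, isPrimePow_nat_iff]
    refine ⟨r, n, hr, ?_, rfl⟩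
    rcases Nat.eq_zero_or_pos n with h0 | h0
    · rw [h0, pow_zero, Subgroup.card_eq_one] at hn
      exact absurd hn hRne
    · exact h0

end Cfsg.Agent.S4140
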