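import Mathlib
import Cfsg.Statements.S4142
import Cfsg.Agent.Lib.Helper21.CosetFiber

set_option autoImplicit false
open Cfsg

namespace Cfsg.Agent.S4142

theorem key {G : Type*} [Group G] [Finite G] (N : Subgroup G) [hN : N.Normal] (g : G) :
    (∀ n ∈ N, ∃ x : G, x * g * x⁻¹ = g * n) ↔
      Nat.card (Subgroup.centralizer ({g} : Set G)) =
        Nat.card (Subgroup.centralizer ({(QuotientGroup.mk g : G ⧸ N)} : Set (G ⧸ N))) := by
  set C := Subgroup.centralizer ({g} : Set G) with hC
  set Cbar := Subgroup.centralizer ({(QuotientGroup.mk g : G ⧸ N)} : Set (G ⧸ N)) with hCbar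
  set D : Subgroup G := Cbar.comap (QuotientGroup.mk' N) with hDdef
  have hD : ∀ x : G, x ∈ D ↔ g⁻¹ * x * g * x⁻¹ ∈ N := by
    intro x
    rw [hDdef, Subgroup.mem_comap, hCbar, Subgroup.mem_centralizer_singleton_iff]
    simp only [QuotientGroup.mk'_apply]
    rw [← QuotientGroup.mk_mul, ← QuotientGroup.mk_mul, QuotientGroup.eq]
    constructor
    · intro h
      have := hN.conj_mem _ (N.inv_mem h) x
      rw [show x * ((x * g)⁻¹ * (g * x))⁻¹ * x⁻¹ = g⁻¹ * x * g * x⁻¹ by group] at this
      exact this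
    · intro h
      have := hN.conj_mem _ (N.inv_mem h) x⁻¹
      rw [show x⁻¹ * (g⁻¹ * x * g * x⁻¹)⁻¹ * x⁻¹⁻¹ = (x * g)⁻¹ * (g * x) by group] at this
      exact this
  have hCD : C ≤ D := by
    intro x hx
    rw [hD]
    rw [hC, Subgroup.mem_centralizer_singleton_iff] at hx
    -- hx : x * g = g * x
    have : g⁻¹ * x * g * x⁻¹ = 1 := by
      rw [mul_assoc g⁻¹, hx]; group
    rw [this]; exact N.one_mem
  let f : D → N := fun x => ⟨g⁻¹ * x * g * (x : G)⁻¹, (hD x).mp x.2⟩
  have hf : ∀ x y : D, f x = f y ↔ x⁻¹ * y ∈ C.subgroupOf D := by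
    intro x y
    rw [Subgroup.mem_subgroupOf, hC, Subgroup.mem_centralizer_singleton_iff]
    simp only [f, Subtype.mk.injEq, Subgroup.coe_mul, Subgroup.coe_inv]
    constructor
    · intro h
      have h1 : (x : G) * g * (x : G)⁻¹ = y * g * (y : G)⁻¹ := by
        have := congrArg (fun z => g * z) h
        simpa [mul_assoc] using this
      calc (x : G)⁻¹ * y * g = (x : G)⁻¹ * (y * g * (y : G)⁻¹) * y := by group
        _ = (x : G)⁻¹ * (x * g * (x : G)⁻¹) * y := by rw [h1]
        _ = g * ((x : G)⁻¹ * y) := by group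
    · intro h
      have h1 : (y : G) * g * (y : G)⁻¹ = x * g * (x : G)⁻¹ := by
        calc (y : G) * g * (y : G)⁻¹ = x * ((x : G)⁻¹ * y * g) * (y : G)⁻¹ := by group
          _ = x * (g * ((x : G)⁻¹ * y)) * (y : G)⁻¹ := by rw [h]
          _ = x * g * (x : G)⁻¹ := by group
      calc g⁻¹ * (x : G) * g * (x : G)⁻¹ = g⁻¹ * ((x : G) * g * (x : G)⁻¹) := by group
        _ = g⁻¹ * ((y : G) * g * (y : G)⁻¹) := by rw [h1]
        _ = g⁻¹ * (y : G) * g * (y : G)⁻¹ := by group
  have hcard1 := Cfsg.Agent.Helper21.card_eq_card_mul_card_range (C.subgroupOf D) f hf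
  have hcardC : Nat.card (C.subgroupOf D) = Nat.card C :=
    Nat.card_congr (Subgroup.subgroupOfEquivOfLe hCD).toEquiv
  rw [hcardC] at hcard1
  have hcard2 : Nat.card D = Nat.card N * Nat.card Cbar := by
    have := QuotientGroup.card_preimage_mk N (Cbar : Set (G ⧸ N))
    exact this
  have hsurj : (∀ n ∈ N, ∃ x : G, x * g * x⁻¹ = g * n) ↔ Function.Surjective f := by
    constructor
    · intro h n
      obtain ⟨x, hx⟩ := h n n.2
      have hxn : g⁻¹ * x * g * x⁻¹ = n := by
        calc g⁻¹ * x * g * x⁻¹ = g⁻¹ * (x * g * x⁻¹) := by group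
          _ = g⁻¹ * (g * n) := by rw [hx]
          _ = n := by group
      have hxD : x ∈ D := by rw [hD, hxn]; exact n.2
      exact ⟨⟨x, hxD⟩, Subtype.ext hxn⟩
    · intro h n hn
      obtain ⟨x, hx⟩ := h ⟨n, hn⟩
      have hx' : g⁻¹ * (x : G) * g * (x : G)⁻¹ = n := congrArg Subtype.val hx
      refine ⟨x, ?_⟩
      rw [← hx']; group
  rw [hsurj, Cfsg.Agent.Helper21.surjective_iff_card_range]
  have hCpos : 0 < Nat.card C := Nat.card_pos
  have hNpos : 0 < Nat.card N := Nat.card_pos
  constructor
  · intro h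
    rw [h, hcard2] at hcard1
    -- card N * card Cbar = card C * card N
    have : Nat.card N * Nat.card Cbar = Nat.card N * Nat.card C := by rw [hcard1, mul_comm]
    exact (Nat.eq_of_mul_eq_mul_left hNpos this).symm
  · intro h
    rw [hcard2, ← h] at hcard1
    -- card N * card C = card C * card range
    have : Nat.card C * Nat.card N = Nat.card C * Nat.card (Set.range f) := by rw [← hcard1, mul_comm]
    exact (Nat.eq_of_mul_eq_mul_left hCpos this).symm

/-- Let G be a finite group and N a normal subgroup. Then the conjugacy class of every element g outside N is a union of cosets of N (gn is conjugate to g for all n ∈ N) if and only if for every g outside N the centralizer of g in G has the same order as the centralizer of gN in G/N. -/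
theorem result {G : Type*} [Group G] [Finite G] (N : Subgroup G) [N.Normal] :
    (∀ g : G, g ∉ N → ∀ n ∈ N, ∃ x : G, x * g * x⁻¹ = g * n) ↔
      ∀ g : G, g ∉ N → Nat.card (Subgroup.centralizer ({g} : Set G)) =
        Nat.card (Subgroup.centralizer ({(QuotientGroup.mk g : G ⧸ N)} : Set (G ⧸ N))) := by
  constructor
  · intro h g hg
    exact (key N g).mp (h g hg)
  · intro h g hg
    exact (key N g).mpr (h g hg)

end Cfsg.Agent.S4142
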