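import Mathlib
import Cfsg.Statements.S4144
import Cfsg.Agent.S0113
import Cfsg.Agent.Lib.MC.MCDefs
import Cfsg.Agent.Lib.MC4.MC4Small
import Cfsg.Agent.Lib.MC4.MC4PS
import Cfsg.Agent.Lib.MC4.MC4ExpP

set_option autoImplicit false
open Cfsg

namespace Cfsg.Agent.S4144

open Cfsg.Agent.Helper21.MC Cfsg.Agent.Helper10.MC4A

theorem main_of {X : Type*} [Group X] [Finite X] {p : ℕ} [Fact p.Prime] (n : ℕ) (hn : 2 ≤ n)
    (hX : Nat.card X = p ^ n) (hmax : Group.nilpotencyClass X = n - 1) (H : Subgroup X)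
    (hexc : p ≠ 2 → n = p + 1 → ∃ g : X, g ^ p ≠ 1)
    (hbig : p ≠ 2 → p + 2 ≤ n →
      (Subgroup.closure {y : X | ∃ h ∈ H, y = h ^ p}).relIndex H ≤ p ^ p) :
    (Subgroup.closure {y : X | ∃ h ∈ H, y = h ^ p}).relIndex H ≤ p ^ p := by
  have hp : p.Prime := Fact.out
  by_cases hsmall : Nat.card H ≤ p ^ p
  · exact le_trans (relIndex_le_card _ H) hsmall
  rw [not_le] at hsmall
  -- |H| = p^k, k ≤ n
  have hdvd : Nat.card H ∣ p ^ n := hX ▸ Subgroup.card_subgroup_dvd_card H
  obtain ⟨k, hkn, hk⟩ := (Nat.dvd_prime_pow hp).1 hdvd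
  have hkp : p < k := by
    rw [hk] at hsmall
    exact (Nat.pow_lt_pow_iff_right hp.one_lt).1 hsmall
  by_cases hp2 : p = 2
  · subst hp2
    obtain ⟨C, hC, hi⟩ := Cfsg.Agent.S0113.result n (by omega) hX hmax
    have := agemo_two C hC hi H
    simpa [agemo] using this
  by_cases hn1 : n = p + 1
  · -- H = ⊤
    have hHtop : H = ⊤ := by
      apply (Subgroup.card_eq_iff_eq_top H).1
      rw [hk, hX]
      congr 1
      omega
    subst hHtop
    have h1 := agemo_top_of_not_exp (X := X) (p := p) (m := p) (by rw [hX, hn1]) (hexc hp2 hn1)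
    simpa [agemo] using h1
  · exact hbig hp2 (by omega)

/-- Let X be a finite p-group of order p^n, n ≥ 2, of nilpotency class n − 1 (maximal class), and H any subgroup of X. Then the index in H of the subgroup generated by the p-th powers of elements of H is at most p^p. -/
theorem result {X : Type*} [Group X] [Finite X] {p : ℕ} [Fact p.Prime] (n : ℕ) (hn : 2 ≤ n) (hX : Nat.card X = p ^ n)
    (hmax : Group.nilpotencyClass X = n - 1) (H : Subgroup X) :
    (Subgroup.closure {y : X | ∃ h ∈ H, y = h ^ p}).relIndex H ≤ p ^ p := by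
  refine main_of n hn hX hmax H ?_ ?_
  · intro hp2 hn1
    subst hn1
    exact mc4_not_exp_p ⟨hX, hmax⟩ hp2
  · intro hp2 hnp
    have hp : p.Prime := Fact.out
    exact mc4_relIndex_le (by have := hp.two_le; omega) ⟨hX, hmax⟩ hp2 hnp H

end Cfsg.Agent.S4144
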