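import Mathlib
import Cfsg.Statements.S4145
import Cfsg.Agent.Lib.Helper21.CyclicSylow
import Cfsg.Agent.S4347

set_option autoImplicit false
open Cfsg

namespace Cfsg.Agent.S4145

open Cfsg.Agent.Helper21
open scoped commutatorElement

variable {G : Type*} [Group G] [Finite G] {p : ℕ} [Fact p.Prime]

/-- commutativity of a cyclic Sylow subgroup, elementwise -/
theorem comm_of_cyclic (P : Sylow p G) (hP : IsCyclic (P : Subgroup G)) (a b : G)
    (ha : a ∈ P) (hb : b ∈ P) : a * b = b * a := by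
  have h := isMulCommutative_iff.mp (IsCyclic.isMulCommutative (α := (P : Subgroup G)))
    ⟨a, ha⟩ ⟨b, hb⟩
  exact congrArg Subtype.val h

/-- Step 1: a normal `p'`-subgroup `M` of `G` inside `H`, of `p`-power index in `H`, with `H ⊆ M P`. -/
theorem step1 (P : Sylow p G) (hP : IsCyclic (P : Subgroup G)) (H : Subgroup G) [H.Normal]
    (hPH : ¬ (P : Subgroup G) ≤ H) :
    ∃ M : Subgroup G, M ≤ H ∧ (M.subgroupOf H).Normal ∧ (Nat.card M).Coprime p ∧
      (∃ m : ℕ, M.relIndex H = p ^ m) ∧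
      (∀ h ∈ H, ∃ k ∈ M, ∃ u ∈ P, h = k * u) := by
  have hp : p.Prime := Fact.out
  set L : Subgroup G := H ⊔ P with hL
  have hHL : H ≤ L := le_sup_left
  have hPL : (P : Subgroup G) ≤ L := le_sup_right
  let PL : Sylow p L := P.subtype hPL
  haveI : IsCyclic PL :=
    isCyclic_of_surjective _ (Subgroup.subgroupOfEquivOfLe hPL).symm.surjective
  -- commutator of L lies in H
  have hcomm : ∀ a b : G, a ∈ L → b ∈ L → ⁅a, b⁆ ∈ H := by
    intro a b ha hb
    obtain ⟨h₁, hh₁, u₁, hu₁, rfl⟩ := Subgroup.mem_sup_of_normal_left.mp ha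
    obtain ⟨h₂, hh₂, u₂, hu₂, rfl⟩ := Subgroup.mem_sup_of_normal_left.mp hb
    rw [← QuotientGroup.eq_one_iff, ← QuotientGroup.mk'_apply, map_commutatorElement, map_mul,
      map_mul]
    have e1 : QuotientGroup.mk' H h₁ = 1 := (QuotientGroup.eq_one_iff _).mpr hh₁
    have e2 : QuotientGroup.mk' H h₂ = 1 := (QuotientGroup.eq_one_iff _).mpr hh₂
    rw [e1, e2, one_mul, one_mul, ← map_commutatorElement]
    have : ⁅u₁, u₂⁆ = 1 :=
      commutatorElement_eq_one_iff_commute.mpr (comm_of_cyclic P hP u₁ u₂ hu₁ hu₂)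
    rw [this, map_one]
  have hcommL : commutator L ≤ H.subgroupOf L := by
    rw [commutator_def, Subgroup.commutator_le]
    intro a _ b _
    rw [Subgroup.mem_subgroupOf]
    exact hcomm a b a.2 b.2
  -- an element of P outside H
  obtain ⟨q₀, hq₀P, hq₀H⟩ := SetLike.not_le_iff_exists.mp hPH
  have hq₀PL : (⟨q₀, hPL hq₀P⟩ : L) ∈ PL := by
    show (⟨q₀, hPL hq₀P⟩ : L) ∈ (P : Subgroup G).subgroupOf L
    rw [Subgroup.mem_subgroupOf]; exact hq₀P
  have hq₀c : (⟨q₀, hPL hq₀P⟩ : L) ∉ commutator L := by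
    intro h
    have := hcommL h
    rw [Subgroup.mem_subgroupOf] at this
    exact hq₀H this
  obtain ⟨K, hKn, hKc⟩ := exists_normal_complement_of_cyclic_sylow PL _ hq₀PL hq₀c
  haveI := hKn
  -- orders
  have hKcard : (Nat.card K).Coprime p := by
    have h1 : (PL : Subgroup L).index = Nat.card K := hKc.index_eq_card
    rw [← h1, Nat.coprime_comm, Nat.Prime.coprime_iff_not_dvd hp]
    exact PL.not_dvd_index
  obtain ⟨n, hn⟩ := IsPGroup.iff_card.mp P.isPGroup'
  have hPLcard : Nat.card (PL : Subgroup L) = p ^ n := by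
    rw [← hn]
    exact Nat.card_congr (Subgroup.subgroupOfEquivOfLe hPL).toEquiv
  have hKidx : K.index = p ^ n := by
    rw [← hPLcard]; exact hKc.symm.index_eq_card
  -- K ≤ H.subgroupOf L
  have hKH : K ≤ H.subgroupOf L := by
    rw [← Subgroup.relIndex_eq_one]
    have h1 : (H.subgroupOf L).relIndex K ∣ (H.subgroupOf L).index :=
      Subgroup.relIndex_dvd_index_of_normal _ _
    have h2 : (H.subgroupOf L).index ∣ p ^ n := by
      show H.relIndex L ∣ p ^ n
      rw [hL, sup_comm, Subgroup.relIndex_sup_right, ← hn]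
      exact Subgroup.relIndex_dvd_card _ _
    obtain ⟨j, _, hj⟩ := (Nat.dvd_prime_pow hp).mp (h1.trans h2)
    have h3 : (H.subgroupOf L).relIndex K ∣ Nat.card K := Subgroup.relIndex_dvd_card _ _
    rw [hj] at h3 ⊢
    have h4 : (p ^ j).Coprime p := Nat.Coprime.coprime_dvd_left h3 hKcard
    by_cases hj0 : j = 0
    · rw [hj0, pow_zero]
    · exfalso
      have : p ∣ p ^ j := dvd_pow_self p hj0
      have h5 := Nat.Coprime.eq_one_of_dvd h4.symm this
      exact hp.one_lt.ne' h5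
  set M : Subgroup G := K.map L.subtype with hM
  have hMH : M ≤ H := by
    rintro _ ⟨k, hk, rfl⟩
    have := hKH hk
    rw [Subgroup.mem_subgroupOf] at this
    exact this
  have hML : M ≤ L := hMH.trans hHL
  have hMK : M.subgroupOf L = K := by
    rw [hM]
    exact Subgroup.comap_map_eq_self_of_injective (Subgroup.subtype_injective L) K
  have hMcard : Nat.card M = Nat.card K :=
    (Nat.card_congr (Subgroup.equivMapOfInjective K L.subtype
      (Subgroup.subtype_injective L)).toEquiv).symm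
  -- conjugation by L preserves M
  have hconj : ∀ l ∈ L, ∀ x ∈ M, l * x * l⁻¹ ∈ M := by
    rintro l hl _ ⟨k, hk, rfl⟩
    exact ⟨⟨l, hl⟩ * k * ⟨l, hl⟩⁻¹, hKn.conj_mem k hk ⟨l, hl⟩, rfl⟩
  refine ⟨M, hMH, ?_, ?_, ?_, ?_⟩
  · constructor
    intro x hx h
    rw [Subgroup.mem_subgroupOf] at hx ⊢
    have := hconj (h : G) (hHL h.2) (x : G) hx
    simpa using this
  · rw [hMcard]; exact hKcard
  · have h1 := Subgroup.relIndex_mul_relIndex M H L hMH hHL
    have h2 : M.relIndex L = p ^ n := by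
      show (M.subgroupOf L).index = p ^ n
      rw [hMK, hKidx]
    rw [h2] at h1
    obtain ⟨m, _, hm⟩ := (Nat.dvd_prime_pow hp).mp (Dvd.intro _ h1)
    exact ⟨m, hm⟩
  · intro h hh
    have hmem : (⟨h, hHL hh⟩ : L) ∈ K ⊔ (PL : Subgroup L) := by
      rw [hKc.sup_eq_top]; trivial
    obtain ⟨k, hk, u, hu, hku⟩ := Subgroup.mem_sup_of_normal_left.mp hmem
    refine ⟨(k : G), ⟨k, hk, rfl⟩, (u : G), ?_, ?_⟩
    · have : u ∈ (P : Subgroup G).subgroupOf L := hu
      rw [Subgroup.mem_subgroupOf] at this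
      exact this
    · have := congrArg Subtype.val hku
      simpa using this.symm

/-- Step 2: a normal subgroup `C ⊇ P` of `G` with a normal `p`-complement. -/
theorem step2 (P : Sylow p G) (hP : IsCyclic (P : Subgroup G)) (H : Subgroup G) [H.Normal]
    (M : Subgroup G) [M.Normal] (hMH : M ≤ H) (hMcard : (Nat.card M).Coprime p)
    (hdec : ∀ h ∈ H, ∃ k ∈ M, ∃ u ∈ P, h = k * u)
    (q : G) (hqP : q ∈ P) (hqH : q ∈ H) (hq1 : q ≠ 1) :
    ∃ (C : Subgroup G) (K' : Subgroup C), C.Normal ∧ (P : Subgroup G) ≤ C ∧ K'.Normal ∧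
      (Nat.card K').Coprime p ∧ ∃ j : ℕ, K'.index = p ^ j := by
  have hp : p.Prime := Fact.out
  have hMn : ∀ x ∈ M, ∀ g : G, g * x * g⁻¹ ∈ M := fun x hx g => ‹M.Normal›.conj_mem x hx g
  have hHn : ∀ x ∈ H, ∀ g : G, g * x * g⁻¹ ∈ H := fun x hx g => ‹H.Normal›.conj_mem x hx g
  let C : Subgroup G :=
    { carrier := {g | ∀ h ∈ H, h * g * h⁻¹ * g⁻¹ ∈ M}
      mul_mem' := by
        intro g₁ g₂ h1 h2 h hh
        have e : h * (g₁ * g₂) * h⁻¹ * (g₁ * g₂)⁻¹ =
            (h * g₁ * h⁻¹ * g₁⁻¹) * (g₁ * (h * g₂ * h⁻¹ * g₂⁻¹) * g₁⁻¹) := by group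
        rw [e]
        exact M.mul_mem (h1 h hh) (hMn _ (h2 h hh) g₁)
      one_mem' := by
        intro h _
        have e : h * 1 * h⁻¹ * (1 : G)⁻¹ = 1 := by group
        rw [e]; exact M.one_mem
      inv_mem' := by
        intro g hg h hh
        have e : h * g⁻¹ * h⁻¹ * g⁻¹⁻¹ = g⁻¹ * (h * g * h⁻¹ * g⁻¹)⁻¹ * g⁻¹⁻¹ := by group
        rw [e]
        exact hMn _ (M.inv_mem (hg h hh)) g⁻¹ }
  have hCmem : ∀ g : G, g ∈ C ↔ ∀ h ∈ H, h * g * h⁻¹ * g⁻¹ ∈ M := fun g => Iff.rfl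
  have hCn : C.Normal := by
    constructor
    intro g hg x
    rw [hCmem] at hg ⊢
    intro h hh
    have h1 : x⁻¹ * h * x⁻¹⁻¹ ∈ H := hHn h hh x⁻¹
    have e : h * (x * g * x⁻¹) * h⁻¹ * (x * g * x⁻¹)⁻¹ =
        x * ((x⁻¹ * h * x⁻¹⁻¹) * g * (x⁻¹ * h * x⁻¹⁻¹)⁻¹ * g⁻¹) * x⁻¹ := by group
    rw [e]
    exact hMn _ (hg _ h1) x
  have hPC : (P : Subgroup G) ≤ C := by
    intro u hu
    rw [hCmem]
    intro h hh
    obtain ⟨k, hk, u', hu', rfl⟩ := hdec h hh
    have hcom : u' * u = u * u' := comm_of_cyclic P hP u' u hu' hu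
    have e : k * u' * u * (k * u')⁻¹ * u⁻¹ = k * (u' * u * u'⁻¹) * k⁻¹ * u⁻¹ := by group
    have e2 : u' * u * u'⁻¹ = u := by rw [hcom, mul_inv_cancel_right]
    rw [e, e2]
    have e3 : k * u * k⁻¹ * u⁻¹ = k * (u * k⁻¹ * u⁻¹) := by group
    rw [e3]
    exact M.mul_mem hk (hMn _ (M.inv_mem hk) u)
  let PC : Sylow p C := P.subtype hPC
  haveI : IsCyclic PC :=
    isCyclic_of_surjective _ (Subgroup.subgroupOfEquivOfLe hPC).symm.surjective
  haveI : IsMulCommutative PC := IsCyclic.isMulCommutative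
  have hMP : Disjoint M (P : Subgroup G) := by
    apply Subgroup.disjoint_of_coprime_natCard
    obtain ⟨n, hn⟩ := IsPGroup.iff_card.mp P.isPGroup'
    rw [hn]
    exact Nat.Coprime.pow_right n hMcard
  have hqC : q ∈ C := hPC hqP
  have hqPC : (⟨q, hqC⟩ : C) ∈ PC := by
    show (⟨q, hqC⟩ : C) ∈ (P : Subgroup G).subgroupOf C
    rw [Subgroup.mem_subgroupOf]; exact hqP
  have hq1C : (⟨q, hqC⟩ : C) ≠ 1 := by
    intro h
    exact hq1 (congrArg Subtype.val h)
  have key : ∀ (k : ℕ) (g₀ : C), g₀⁻¹ * (⟨q, hqC⟩ : C) ^ k * g₀ ∈ (PC : Subgroup C) →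
      g₀⁻¹ * (⟨q, hqC⟩ : C) ^ k * g₀ = (⟨q, hqC⟩ : C) ^ k := by
    intro k g₀ hmem
    have hmem' : (g₀ : G)⁻¹ * q ^ k * (g₀ : G) ∈ P := by
      have : g₀⁻¹ * (⟨q, hqC⟩ : C) ^ k * g₀ ∈ (P : Subgroup G).subgroupOf C := hmem
      rw [Subgroup.mem_subgroupOf] at this
      have h5 : (g₀ : G)⁻¹ * q ^ k * (g₀ : G) ∈ (P : Subgroup G) := by simpa using this
      exact h5
    apply Subtype.ext
    show (g₀ : G)⁻¹ * q ^ k * (g₀ : G) = q ^ k
    have hyP : q ^ k ∈ P := (P : Subgroup G).pow_mem hqP k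
    have hyH : q ^ k ∈ H := H.pow_mem hqH k
    have hg₀inv : (g₀ : G)⁻¹ ∈ C := C.inv_mem g₀.2
    have h1 := (hCmem _).mp hg₀inv (q ^ k)⁻¹ (H.inv_mem hyH)
    have e : (q ^ k)⁻¹ * (g₀ : G)⁻¹ * (q ^ k)⁻¹⁻¹ * (g₀ : G)⁻¹⁻¹ =
        (q ^ k)⁻¹ * ((g₀ : G)⁻¹ * q ^ k * (g₀ : G)) := by group
    rw [e] at h1
    have h2 : (q ^ k)⁻¹ * ((g₀ : G)⁻¹ * q ^ k * (g₀ : G)) ∈ (P : Subgroup G) :=
      (P : Subgroup G).mul_mem ((P : Subgroup G).inv_mem hyP) hmem'
    have h3 : (q ^ k)⁻¹ * ((g₀ : G)⁻¹ * q ^ k * (g₀ : G)) = 1 :=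
      Subgroup.disjoint_def.mp hMP h1 h2
    exact (inv_mul_eq_one.mp h3).symm
  have hqc := not_mem_commutator_of_conj_eq PC (⟨q, hqC⟩ : C) hqPC hq1C key
  obtain ⟨K', hK'n, hK'c⟩ := exists_normal_complement_of_cyclic_sylow PC _ hqPC hqc
  refine ⟨C, K', hCn, hPC, hK'n, ?_, ?_⟩
  · have h1 : (PC : Subgroup C).index = Nat.card K' := hK'c.index_eq_card
    rw [← h1, Nat.coprime_comm, Nat.Prime.coprime_iff_not_dvd hp]
    exact PC.not_dvd_index
  · obtain ⟨j, hj⟩ := IsPGroup.iff_card.mp PC.isPGroup'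
    exact ⟨j, by rw [← hj]; exact hK'c.symm.index_eq_card⟩

/-- Let G be a finite group with a cyclic Sylow p-subgroup and H a normal subgroup such that p divides both the order of H and the index of H. Then H has a normal p-complement and G is p-solvable. -/
theorem result {G : Type*} [Group G] [Finite G] (p : ℕ) [Fact p.Prime]
    (P : Sylow p G) (hP : IsCyclic (P : Subgroup G)) (H : Subgroup G) [H.Normal] (h1 : p ∣ Nat.card H) (h2 : p ∣ H.index) :
    Cfsg.HasNormalPComplement p H ∧ Cfsg.IsPSolvable p G := by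
  have hp : p.Prime := Fact.out
  have hPH : ¬ (P : Subgroup G) ≤ H := by
    intro hle
    exact P.not_dvd_index (h2.trans (Subgroup.index_dvd_of_le hle))
  obtain ⟨M, hMH, hNn, hMcard, ⟨m, hm⟩, hdec⟩ := step1 P hP H hPH
  haveI := hNn
  have hNcard : (Nat.card (M.subgroupOf H)).Coprime p := by
    rw [Nat.card_congr (Subgroup.subgroupOfEquivOfLe hMH).toEquiv]; exact hMcard
  have hNidx : (M.subgroupOf H).index = p ^ m := hm
  constructor
  · -- normal p-complement of H
    obtain ⟨Q⟩ : Nonempty (Sylow p H) := inferInstance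
    exact ⟨Q, M.subgroupOf H, hNn, isComplement'_sylow_of_pPrime _ hNcard m hNidx Q⟩
  · -- p-solvability
    haveI hMn : M.Normal := by
      have := map_subtype_normal_of_pPrime H (M.subgroupOf H) hNcard m hNidx
      rwa [Subgroup.map_subgroupOf_eq_of_le hMH] at this
    -- a nontrivial element of P ∩ H
    obtain ⟨x, hx⟩ := exists_prime_orderOf_dvd_card' p h1
    have hxG : orderOf (x : G) = p := by rw [Subgroup.orderOf_coe, hx]
    have hz : IsPGroup p (Subgroup.zpowers (x : G)) := by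
      apply IsPGroup.of_card (n := 1)
      rw [Nat.card_zpowers, hxG, pow_one]
    obtain ⟨Q', hQ'⟩ := hz.exists_le_sylow
    obtain ⟨g, hg⟩ := MulAction.exists_smul_eq G P Q'
    have hxQ' : (x : G) ∈ Q' := hQ' (Subgroup.mem_zpowers _)
    rw [← hg, Cfsg.Agent.S4347.mem_smul_sylow] at hxQ'
    set q := g⁻¹ * (x : G) * g with hq
    have hqH : q ∈ H := by
      have := ‹H.Normal›.conj_mem (x : G) x.2 g⁻¹
      simpa [hq] using this
    have hq1 : q ≠ 1 := by
      intro h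
      have h3 : (x : G) = 1 := by
        have := congrArg (fun z => g * z * g⁻¹) h
        simpa [hq, mul_assoc] using this
      rw [h3, orderOf_one] at hxG
      exact hp.one_lt.ne hxG
    obtain ⟨C, K', hCn, hPC, hK'n, hK'card, ⟨j, hj⟩⟩ :=
      step2 P hP H M hMH hMcard hdec q hxQ' hqH hq1
    haveI := hCn
    haveI := hK'n
    have hK'Gn : (K'.map C.subtype).Normal := map_subtype_normal_of_pPrime C K' hK'card j hj
    have hK'Gle : K'.map C.subtype ≤ C := Subgroup.map_subtype_le K'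
    have hK'Gcard : Nat.card (K'.map C.subtype) = Nat.card K' :=
      (Nat.card_congr (Subgroup.equivMapOfInjective K' C.subtype
        (Subgroup.subtype_injective C)).toEquiv).symm
    refine ⟨3, ![⊥, K'.map C.subtype, C, ⊤], rfl, rfl, ?_, ?_, ?_⟩
    · apply Fin.monotone_iff_le_succ.mpr
      intro i
      fin_cases i
      · exact bot_le
      · exact hK'Gle
      · exact le_top
    · intro i
      fin_cases i
      · exact Subgroup.normal_bot
      · exact hK'Gn
      · exact hCn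
      · exact Subgroup.normal_top
    · intro i
      fin_cases i
      · right
        show ((⊥ : Subgroup G).relIndex (K'.map C.subtype)).Coprime p
        rw [Subgroup.relIndex_bot_left, hK'Gcard]
        exact hK'card
      · left
        refine ⟨j, ?_⟩
        show ((K'.map C.subtype).subgroupOf C).index = p ^ j
        have : (K'.map C.subtype).subgroupOf C = K' :=
          Subgroup.comap_map_eq_self_of_injective (Subgroup.subtype_injective C) K'
        rw [this, hj]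
      · right
        show (C.relIndex ⊤).Coprime p
        rw [Subgroup.relIndex_top_right, Nat.coprime_comm, Nat.Prime.coprime_iff_not_dvd hp]
        intro hdvd
        exact P.not_dvd_index (hdvd.trans (Subgroup.index_dvd_of_le hPC))

end Cfsg.Agent.S4145
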