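import Mathlib
import Cfsg.Statements.S4153
import Cfsg.Agent.Lib.Helper21.CosetFiber

set_option autoImplicit false
open Cfsg

namespace Cfsg.Agent.S4153

open Cfsg.Agent.Helper21

variable {G : Type*} [Group G] [Finite G] (p : ℕ) [Fact p.Prime] (N : Subgroup G) [N.Normal]

/-- `|P| = |P̄| * |S ∩ N|` for all Sylow subgroups `P, S` of `G` and `P̄` of `G ⧸ N`. -/
theorem card_sylow_eq (P S : Sylow p G) (Pbar : Sylow p (G ⧸ N)) :
    Nat.card (P : Subgroup G) =
      Nat.card (N.subgroupOf (S : Subgroup G)) * Nat.card (Pbar : Subgroup (G ⧸ N)) := by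
  have hsurj := QuotientGroup.mk'_surjective N
  have h1 : Nat.card (P : Subgroup G) = Nat.card (S : Subgroup G) := by
    rw [Sylow.card_eq_multiplicity, Sylow.card_eq_multiplicity]
  have h2 : Nat.card (Pbar : Subgroup (G ⧸ N)) =
      Nat.card ((S : Subgroup G).map (QuotientGroup.mk' N)) := by
    have : Nat.card (Pbar : Subgroup (G ⧸ N)) =
        Nat.card ((S.mapSurjective hsurj : Sylow p (G ⧸ N)) : Subgroup (G ⧸ N)) := by
      rw [Sylow.card_eq_multiplicity, Sylow.card_eq_multiplicity]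
    rw [this, Sylow.coe_mapSurjective]
  rw [h1, h2]
  have key := card_eq_card_mul_card_range (N.subgroupOf (S : Subgroup G))
    (fun s : (S : Subgroup G) => (QuotientGroup.mk' N (s : G)))
    (by
      intro x y
      rw [Subgroup.mem_subgroupOf]
      show (QuotientGroup.mk (x : G) : G ⧸ N) = QuotientGroup.mk (y : G) ↔ _
      rw [QuotientGroup.eq]
      simp)
  rw [key]
  congr 1
  have hr : Set.range (fun s : (S : Subgroup G) => (QuotientGroup.mk' N (s : G))) =
      (((S : Subgroup G).map (QuotientGroup.mk' N) : Subgroup (G ⧸ N)) : Set (G ⧸ N)) := by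
    ext y
    simp only [Set.mem_range, Subtype.exists, SetLike.mem_coe, Subgroup.mem_map, exists_prop]
  rw [hr]
  rfl

/-- every `p`-element of `G ⧸ N` is the image of an element of some Sylow `p`-subgroup of `G`. -/
theorem exists_sylow_lift (x : G ⧸ N) (hx : ∃ k : ℕ, orderOf x = p ^ k) :
    ∃ (S : Sylow p G) (s : G), s ∈ S ∧ (QuotientGroup.mk s : G ⧸ N) = x := by
  have hsurj := QuotientGroup.mk'_surjective N
  obtain ⟨k, hk⟩ := hx
  have hpg : IsPGroup p (Subgroup.zpowers x) := by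
    apply IsPGroup.of_card (n := k)
    rw [Nat.card_zpowers, hk]
  obtain ⟨Q, hQ⟩ := hpg.exists_le_sylow
  obtain ⟨S, hS⟩ := Sylow.mapSurjective_surjective hsurj p Q
  have hxQ : x ∈ (Q : Subgroup (G ⧸ N)) := hQ (Subgroup.mem_zpowers x)
  rw [← hS, Sylow.coe_mapSurjective, Subgroup.mem_map] at hxQ
  obtain ⟨s, hs, hsx⟩ := hxQ
  exact ⟨S, s, hs, hsx⟩

theorem orderOf_of_mem_sylow (S : Sylow p G) (g : G) (hg : g ∈ S) :
    ∃ k : ℕ, orderOf g = p ^ k := by
  obtain ⟨k, hk⟩ := (IsPGroup.iff_orderOf.mp S.isPGroup') ⟨g, hg⟩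
  exact ⟨k, by rw [← hk, Subgroup.orderOf_mk]⟩

/-- fibre lower bound -/
theorem fibre_ge (S : Sylow p G) (s : G) (hs : s ∈ S) :
    Nat.card (N.subgroupOf (S : Subgroup G)) ≤
      Nat.card {g : G // (∃ k : ℕ, orderOf g = p ^ k) ∧
        (QuotientGroup.mk g : G ⧸ N) = QuotientGroup.mk s} := by
  refine Nat.card_le_card_of_injective
    (fun n => ⟨s * (n : G), ?_, ?_⟩) ?_
  · exact orderOf_of_mem_sylow p S _ (Subgroup.mul_mem _ hs n.1.2)
  · rw [QuotientGroup.eq]
    have : ((n : (S : Subgroup G)) : G) ∈ N := Subgroup.mem_subgroupOf.mp n.2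
    have e : (s * (n : G))⁻¹ * s = ((n : (S : Subgroup G)) : G)⁻¹ := by group
    rw [e]
    exact N.inv_mem this
  · intro n n' h
    have := congrArg Subtype.val h
    have h2 : ((n : (S : Subgroup G)) : G) = ((n' : (S : Subgroup G)) : G) := by
      simpa using this
    exact Subtype.ext (Subtype.ext h2)

/-- fibre upper bound in the central case -/
theorem fibre_le (hN : N ≤ Subgroup.center G) (S : Sylow p G) (s : G) (hs : s ∈ S) :
    Nat.card {g : G // (∃ k : ℕ, orderOf g = p ^ k) ∧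
        (QuotientGroup.mk g : G ⧸ N) = QuotientGroup.mk s} ≤
      Nat.card (N.subgroupOf (S : Subgroup G)) := by
  have key : ∀ g : G, (∃ k : ℕ, orderOf g = p ^ k) →
      (QuotientGroup.mk g : G ⧸ N) = QuotientGroup.mk s → s⁻¹ * g ∈ N ∧ s⁻¹ * g ∈ S := by
    intro g ⟨k, hk⟩ hgs
    have hn : s⁻¹ * g ∈ N := by
      rw [← QuotientGroup.eq, hgs]
    refine ⟨hn, ?_⟩
    set n := s⁻¹ * g with hndef
    have hc : n ∈ Subgroup.center G := hN hn
    obtain ⟨j, hj⟩ := orderOf_of_mem_sylow p S s hs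
    -- n is a p-element
    have hcomm : Commute s⁻¹ g := by
      have hg : g = s * n := by rw [hndef]; group
      have h1 : Commute s n := Subgroup.mem_center_iff.mp hc s
      have : Commute s g := by rw [hg]; exact (Commute.refl s).mul_right h1
      exact this.inv_left
    have hpow : n ^ (p ^ (j + k)) = 1 := by
      rw [hndef, hcomm.mul_pow, pow_add, pow_mul, inv_pow, ← hj, pow_orderOf_eq_one, inv_one,
        one_pow, one_mul, mul_comm, pow_mul, ← hk, pow_orderOf_eq_one, one_pow]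
    have hord : ∃ i, orderOf n = p ^ i := by
      have := orderOf_dvd_of_pow_eq_one hpow
      obtain ⟨i, _, hi⟩ := (Nat.dvd_prime_pow (Fact.out : p.Prime)).mp this
      exact ⟨i, hi⟩
    obtain ⟨i, hi⟩ := hord
    have hpg : IsPGroup p (Subgroup.zpowers n) := by
      apply IsPGroup.of_card (n := i)
      rw [Nat.card_zpowers, hi]
    have hle : Subgroup.zpowers n ≤ Subgroup.center G := Subgroup.zpowers_le.mpr hc
    have hnormal : (Subgroup.zpowers n).Normal := by
      constructor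
      intro x hx y
      have := Subgroup.mem_center_iff.mp (hle hx) y
      have e : y * x * y⁻¹ = x := by rw [this]; group
      rw [e]; exact hx
    have hsup : IsPGroup p ((S : Subgroup G) ⊔ Subgroup.zpowers n : Subgroup G) :=
      IsPGroup.to_sup_of_normal_right S.isPGroup' hpg
    have := S.is_maximal' hsup le_sup_left
    have hmem : n ∈ ((S : Subgroup G) ⊔ Subgroup.zpowers n : Subgroup G) :=
      (le_sup_right : Subgroup.zpowers n ≤ _) (Subgroup.mem_zpowers n)
    rw [this] at hmem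
    exact hmem
  refine Nat.card_le_card_of_injective
    (fun g => ⟨⟨s⁻¹ * g.1, (key g.1 g.2.1 g.2.2).2⟩, ?_⟩) ?_
  · rw [Subgroup.mem_subgroupOf]
    exact (key g.1 g.2.1 g.2.2).1
  · intro g g' h
    have := congrArg (fun z : N.subgroupOf (S : Subgroup G) => ((z : (S : Subgroup G)) : G)) h
    have h2 : s⁻¹ * g.1 = s⁻¹ * g'.1 := this
    exact Subtype.ext (mul_left_cancel h2)

/-- fibering the `p`-elements of `G` over those of `G ⧸ N`. -/
theorem card_pElements_eq_sum :
    Nat.card {g : G // ∃ k : ℕ, orderOf g = p ^ k} =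
      ∑ᶠ x : {x : G ⧸ N // ∃ k : ℕ, orderOf x = p ^ k},
        Nat.card {g : G // (∃ k : ℕ, orderOf g = p ^ k) ∧ (QuotientGroup.mk g : G ⧸ N) = x.1} := by
  classical
  have := Fintype.ofFinite {x : G ⧸ N // ∃ k : ℕ, orderOf x = p ^ k}
  have hφ : ∀ g : {g : G // ∃ k : ℕ, orderOf g = p ^ k},
      ∃ k : ℕ, orderOf (QuotientGroup.mk g.1 : G ⧸ N) = p ^ k := by
    intro g
    obtain ⟨k, hk⟩ := g.2
    have h1 : orderOf (QuotientGroup.mk g.1 : G ⧸ N) ∣ p ^ k := by
      rw [← hk]
      exact orderOf_map_dvd (QuotientGroup.mk' N) g.1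
    obtain ⟨i, _, hi⟩ := (Nat.dvd_prime_pow (Fact.out : p.Prime)).mp h1
    exact ⟨i, hi⟩
  let φ : {g : G // ∃ k : ℕ, orderOf g = p ^ k} → {x : G ⧸ N // ∃ k : ℕ, orderOf x = p ^ k} :=
    fun g => ⟨QuotientGroup.mk g.1, hφ g⟩
  rw [finsum_eq_sum_of_fintype, Nat.card_congr (Equiv.sigmaFiberEquiv φ).symm, Nat.card_sigma]
  apply Finset.sum_congr rfl
  intro x _
  apply Nat.card_congr
  refine (Equiv.subtypeEquivRight ?_).trans
    (Equiv.subtypeSubtypeEquivSubtypeInter (fun g : G => ∃ k : ℕ, orderOf g = p ^ k)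
      (fun g : G => (QuotientGroup.mk g : G ⧸ N) = x.1))
  intro g
  exact Subtype.ext_iff

/-- Let G be a finite group, p a prime, N a normal subgroup, P a Sylow p-subgroup of G and P̄ a Sylow p-subgroup of G/N. Count the elements of p-power order, the identity included. Then (number of such elements of G/N)/#P̄ ≤ (number of such elements of G)/#P, stated as a cross-multiplied inequality, with equality when N is central. -/
theorem result {G : Type*} [Group G] [Finite G] (p : ℕ) [Fact p.Prime] (N : Subgroup G) [N.Normal]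
    (P : Sylow p G) (Pbar : Sylow p (G ⧸ N)) :
    Nat.card {g : (G ⧸ N) // ∃ k : ℕ, orderOf g = p ^ k} * Nat.card (P : Subgroup G) ≤ Nat.card {g : G // ∃ k : ℕ, orderOf g = p ^ k} * Nat.card (Pbar : Subgroup (G ⧸ N)) ∧
    (N ≤ Subgroup.center G → Nat.card {g : (G ⧸ N) // ∃ k : ℕ, orderOf g = p ^ k} * Nat.card (P : Subgroup G) = Nat.card {g : G // ∃ k : ℕ, orderOf g = p ^ k} * Nat.card (Pbar : Subgroup (G ⧸ N))) := by
  classical
  have := Fintype.ofFinite {x : G ⧸ N // ∃ k : ℕ, orderOf x = p ^ k}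
  have hsum := card_pElements_eq_sum (G := G) p N
  rw [finsum_eq_sum_of_fintype] at hsum
  have hL : Nat.card {g : (G ⧸ N) // ∃ k : ℕ, orderOf g = p ^ k} * Nat.card (P : Subgroup G) =
      ∑ _x : {x : G ⧸ N // ∃ k : ℕ, orderOf x = p ^ k}, Nat.card (P : Subgroup G) := by
    rw [Finset.sum_const, Finset.card_univ, smul_eq_mul,
      Nat.card_eq_fintype_card (α := {x : G ⧸ N // ∃ k : ℕ, orderOf x = p ^ k})]
  rw [hL, hsum, Finset.sum_mul]
  constructor
  · apply Finset.sum_le_sum
    intro x _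
    obtain ⟨S, s, hs, hsx⟩ := exists_sylow_lift p N x.1 x.2
    rw [card_sylow_eq p N P S Pbar, ← hsx]
    exact Nat.mul_le_mul_right _ (fibre_ge p N S s hs)
  · intro hN
    apply Finset.sum_congr rfl
    intro x _
    obtain ⟨S, s, hs, hsx⟩ := exists_sylow_lift p N x.1 x.2
    rw [card_sylow_eq p N P S Pbar, ← hsx]
    congr 1
    exact le_antisymm (fibre_ge p N S s hs) (fibre_le p N hN S s hs)

end Cfsg.Agent.S4153
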