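import Mathlib
import Cfsg.Statements.S4154
import Cfsg.Agent.Lib.Helper21.CosetFiber

set_option autoImplicit false
open Cfsg
open scoped Pointwise

namespace Cfsg.Agent.S4154

/-- Let G be a finite group and α an automorphism of G such that every element of G is the product of an element fixed by α and an element of the form g⁻¹α(g). If N is a normal α-invariant subgroup, then the automorphism ᾱ induced on G/N has the same property, and every coset fixed by ᾱ contains an element fixed by α (so the fixed points of ᾱ are the images of the fixed points of α). -/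
theorem result {G : Type*} [Group G] [Finite G] (α : MulAut G)
    (hccp : ∀ x : G, ∃ c g : G, α c = c ∧ x = c * (g⁻¹ * α g))
    (N : Subgroup G) [hNn : N.Normal] (hN : ∀ n ∈ N, α n ∈ N) :
    (∀ x : G, ∃ c g : G, c⁻¹ * α c ∈ N ∧ x⁻¹ * (c * (g⁻¹ * α g)) ∈ N) ∧
    (∀ x : G, x⁻¹ * α x ∈ N → ∃ c : G, α c = c ∧ c⁻¹ * x ∈ N) := by
  constructor
  · intro x
    obtain ⟨c, g, hc, hx⟩ := hccp x
    refine ⟨c, g, ?_, ?_⟩
    · rw [hc, inv_mul_cancel]; exact N.one_mem
    · rw [← hx, inv_mul_cancel]; exact N.one_mem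
  · -- fixed point subgroup
    let C : Subgroup G :=
      { carrier := {c | α c = c}
        one_mem' := map_one α
        mul_mem' := by
          intro a b ha hb
          show α (a * b) = a * b
          rw [map_mul, ha, hb]
        inv_mem' := by
          intro a ha
          show α a⁻¹ = a⁻¹
          rw [map_inv, ha] }
    let C' : Subgroup G :=
      { carrier := {x | x⁻¹ * α x ∈ N}
        one_mem' := by
          show (1 : G)⁻¹ * α 1 ∈ N
          rw [map_one, inv_one, one_mul]; exact N.one_mem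
        mul_mem' := by
          intro a b ha hb
          show (a * b)⁻¹ * α (a * b) ∈ N
          have h1 : b⁻¹ * (a⁻¹ * α a) * b⁻¹⁻¹ ∈ N := hNn.conj_mem _ ha b⁻¹
          have h2 := N.mul_mem h1 hb
          rw [map_mul]
          rw [show (a * b)⁻¹ * (α a * α b) = b⁻¹ * (a⁻¹ * α a) * b⁻¹⁻¹ * (b⁻¹ * α b) by group]
          exact h2
        inv_mem' := by
          intro a ha
          show a⁻¹⁻¹ * α a⁻¹ ∈ N
          have h1 : a * (a⁻¹ * α a)⁻¹ * a⁻¹ ∈ N := hNn.conj_mem _ (N.inv_mem ha) a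
          rw [map_inv]
          rw [show a⁻¹⁻¹ * (α a)⁻¹ = a * (a⁻¹ * α a)⁻¹ * a⁻¹ by group]
          exact h1 }
    have hCC' : C ≤ C' := by
      intro c hc
      show c⁻¹ * α c ∈ N
      have : α c = c := hc
      rw [this, inv_mul_cancel]; exact N.one_mem
    have hNC' : N ≤ C' := by
      intro n hn
      show n⁻¹ * α n ∈ N
      exact N.mul_mem (N.inv_mem hn) (hN n hn)
    -- ψ g = mk (g * (α g)⁻¹)
    let ψ : G → G ⧸ N := fun g => QuotientGroup.mk (g * (α g)⁻¹)
    have hψ : ∀ x y : G, ψ x = ψ y ↔ x⁻¹ * y ∈ C' := by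
      intro x y
      show (QuotientGroup.mk (x * (α x)⁻¹) : G ⧸ N) = QuotientGroup.mk (y * (α y)⁻¹) ↔
        (x⁻¹ * y)⁻¹ * α (x⁻¹ * y) ∈ N
      rw [QuotientGroup.eq, map_mul, map_inv]
      constructor
      · intro h
        have h1 := hNn.conj_mem _ (N.inv_mem h) (α y)⁻¹
        rw [show (α y)⁻¹ * ((x * (α x)⁻¹)⁻¹ * (y * (α y)⁻¹))⁻¹ * (α y)⁻¹⁻¹ =
          (x⁻¹ * y)⁻¹ * ((α x)⁻¹ * α y) by group] at h1
        exact h1
      · intro h
        have h1 := hNn.conj_mem _ (N.inv_mem h) (α y)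
        rw [show α y * ((x⁻¹ * y)⁻¹ * ((α x)⁻¹ * α y))⁻¹ * (α y)⁻¹ =
          (x * (α x)⁻¹)⁻¹ * (y * (α y)⁻¹) by group] at h1
        exact h1
    have h2 : Nat.card G = Nat.card C' * Nat.card (Set.range ψ) :=
      Cfsg.Agent.Helper21.card_eq_card_mul_card_range C' ψ hψ
    -- surjection onto G/N
    have h3 : Nat.card (G ⧸ N) ≤ Nat.card (C.map (QuotientGroup.mk' N)) * Nat.card (Set.range ψ) := by
      rw [← Nat.card_prod]
      apply Nat.card_le_card_of_surjective
        (fun p : (C.map (QuotientGroup.mk' N)) × (Set.range ψ) => (p.1 : G ⧸ N) * (p.2 : G ⧸ N))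
      intro q
      induction q using QuotientGroup.induction_on with
      | H x =>
      obtain ⟨c, g, hc, hx⟩ := hccp x
      refine ⟨(⟨QuotientGroup.mk c, Subgroup.mem_map.mpr ⟨c, hc, rfl⟩⟩, ⟨ψ g⁻¹, ⟨g⁻¹, rfl⟩⟩), ?_⟩
      show (QuotientGroup.mk c : G ⧸ N) * QuotientGroup.mk (g⁻¹ * (α g⁻¹)⁻¹) = QuotientGroup.mk x
      rw [← QuotientGroup.mk_mul, hx, map_inv, inv_inv]
    have h4 : Nat.card G = Nat.card (G ⧸ N) * Nat.card N :=
      Subgroup.card_eq_card_quotient_mul_card_subgroup N
    have h5 : Nat.card (C ⊔ N : Subgroup G) = Nat.card N * Nat.card (C.map (QuotientGroup.mk' N)) := by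
      have hthis := QuotientGroup.card_preimage_mk N ((C.map (QuotientGroup.mk' N) : Subgroup (G ⧸ N)) : Set (G ⧸ N))
      have hco : (C.map (QuotientGroup.mk' N)).comap (QuotientGroup.mk' N) = C ⊔ N := by
        rw [Subgroup.comap_map_eq, QuotientGroup.ker_mk']
      have e1 : Nat.card (C ⊔ N : Subgroup G) =
          Nat.card ((C.map (QuotientGroup.mk' N)).comap (QuotientGroup.mk' N) : Subgroup G) := by
        rw [hco]
      rw [e1]
      exact hthis
    have hle : C ⊔ N ≤ C' := sup_le hCC' hNC'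
    have hrpos : 0 < Nat.card (Set.range ψ) := by
      have : Nonempty (Set.range ψ) := ⟨⟨ψ 1, ⟨1, rfl⟩⟩⟩
      exact Nat.card_pos
    have hcard : Nat.card C' ≤ Nat.card (C ⊔ N : Subgroup G) := by
      have : Nat.card C' * Nat.card (Set.range ψ) ≤
          Nat.card (C ⊔ N : Subgroup G) * Nat.card (Set.range ψ) := by
        rw [← h2, h4, h5]
        calc Nat.card (G ⧸ N) * Nat.card N
            ≤ (Nat.card (C.map (QuotientGroup.mk' N)) * Nat.card (Set.range ψ)) * Nat.card N :=
              Nat.mul_le_mul_right _ h3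
          _ = Nat.card N * Nat.card (C.map (QuotientGroup.mk' N)) * Nat.card (Set.range ψ) := by ring
      exact Nat.le_of_mul_le_mul_right this hrpos
    have heq : C ⊔ N = C' := Subgroup.eq_of_le_of_card_ge hle hcard
    intro x hx
    have hxC' : x ∈ C' := hx
    rw [← heq, ← SetLike.mem_coe, Subgroup.mul_normal] at hxC'
    obtain ⟨c, hc, n, hn, hcn⟩ := Set.mem_mul.mp hxC'
    refine ⟨c, hc, ?_⟩
    rw [← hcn, inv_mul_cancel_left]
    exact hn

end Cfsg.Agent.S4154
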