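import Mathlib
import Cfsg.Statements.S4155
import Cfsg.Agent.S0016
import Cfsg.Agent.S0040
import Cfsg.Agent.Lib.Helper1.FpfAction
import Cfsg.Agent.Lib.Helper21.FittingSubgroup
import Cfsg.Agent.Lib.Helper21.PiSubgroup

set_option autoImplicit false
open Cfsg

namespace Cfsg.Agent.S4155

open Subgroup Cfsg.Agent.Helper21

variable {G : Type*} [Group G] [Finite G]

/-- Lemma A: an element of `N` of order prime to that of `x ∉ N` and commuting with `x` is trivial -/
theorem eq_one_of_commute (N : Subgroup G)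
    (heq : ∀ x : G, x ∉ N → ∀ n ∈ N, orderOf (x * n) = orderOf x) {x n : G} (hx : x ∉ N) (hn : n ∈ N)
    (hc : x * n = n * x) (hcop : (orderOf x).Coprime (orderOf n)) : n = 1 := by
  have h1 := Commute.orderOf_mul_eq_mul_orderOf_of_coprime (show Commute x n from hc) hcop
  rw [heq x hx n hn] at h1
  have hpos : 0 < orderOf x := orderOf_pos x
  have h2 : orderOf n = 1 := by
    have : orderOf x * 1 = orderOf x * orderOf n := by rw [mul_one]; exact h1
    exact (Nat.eq_of_mul_eq_mul_left hpos this).symm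
  exact orderOf_eq_one_iff.mp h2

/-- Lemma B: a second prime divisor -/
theorem exists_other_prime (N : Subgroup G) (hN1 : N ≠ ⊥) (hnpp : ¬ IsPrimePow (Nat.card N))
    (r : ℕ) (hr : r.Prime) : ∃ s : ℕ, s.Prime ∧ s ≠ r ∧ s ∣ Nat.card N := by
  by_contra hcon
  push Not at hcon
  apply hnpp
  have h1 : Nat.card N = r ^ (Nat.card N).primeFactorsList.length :=
    Nat.eq_prime_pow_of_unique_prime_dvd Nat.card_pos.ne' (fun {d} hd hdvd => by
      by_contra hne
      exact hcon d hd hne hdvd)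
  rw [isPrimePow_nat_iff]
  refine ⟨r, (Nat.card N).primeFactorsList.length, hr, ?_, h1.symm⟩
  rcases Nat.eq_zero_or_pos (Nat.card N).primeFactorsList.length with h0 | h0
  · rw [h0, pow_zero] at h1
    exact absurd (Subgroup.card_eq_one.mp h1) hN1
  · exact h0

/-- an element of order `s` in `N` -/
theorem exists_orderOf_eq (N : Subgroup G) {s : ℕ} (hs : s.Prime) (hdvd : s ∣ Nat.card N) :
    ∃ n ∈ N, orderOf n = s := by
  haveI : Fact s.Prime := ⟨hs⟩
  obtain ⟨n, hn⟩ := exists_prime_orderOf_dvd_card' (G := N) s hdvd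
  exact ⟨n, n.2, by rw [Subgroup.orderOf_coe]; exact hn⟩

theorem part1 (N : Subgroup G) [N.Normal] (hN1 : N ≠ ⊥)
    (heq : ∀ x : G, x ∉ N → ∀ n ∈ N, orderOf (x * n) = orderOf x)
    (hnil : Group.IsNilpotent N) (hnpp : ¬ IsPrimePow (Nat.card N)) :
    N = Cfsg.fittingSubgroup G := by
  apply le_antisymm
  · exact le_sSup ⟨inferInstance, hnil⟩
  · by_contra hcon
    have hex : ∃ x : G, x ∈ Cfsg.fittingSubgroup G ∧ x ∉ N := by
      by_contra h
      push Not at h
      exact hcon (fun x hx => h x hx)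
    -- choose such an element of minimal order
    obtain ⟨x, ⟨hxF, hxN⟩, hmin⟩ := Set.exists_min_image
      {x : G | x ∈ Cfsg.fittingSubgroup G ∧ x ∉ N} orderOf (Set.toFinite _) hex
    have hx1 : x ≠ 1 := fun h => hxN (h ▸ N.one_mem)
    have hord1 : orderOf x ≠ 1 := fun h => hx1 (orderOf_eq_one_iff.mp h)
    set r := (orderOf x).minFac with hr
    have hrp : r.Prime := Nat.minFac_prime hord1
    obtain ⟨k, b, hrb, hkb⟩ := Nat.exists_eq_pow_mul_and_not_dvd (orderOf_pos x).ne' r hrp.one_lt.ne'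
    have hk : k ≠ 0 := by
      rintro rfl
      rw [pow_zero, one_mul] at hkb
      exact hrb (hkb ▸ Nat.minFac_dvd _)
    have hb : b = 1 := by
      by_contra hb1
      have hcop : (r ^ k).Coprime b := Nat.Coprime.pow_left k ((Nat.Prime.coprime_iff_not_dvd hrp).mpr hrb)
      have hbpos : 0 < b := by
        rcases Nat.eq_zero_or_pos b with h | h
        · rw [h, mul_zero] at hkb; exact absurd hkb (orderOf_pos x).ne'
        · exact h
      have hrk1 : 1 < r ^ k := Nat.one_lt_pow hk hrp.one_lt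
      have hb1' : 1 < b := by omega
      -- x ^ (r^k) and x ^ b have smaller order, hence lie in N
      have h1 : x ^ (r ^ k) ∈ N := by
        by_contra hnot
        have := hmin (x ^ (r ^ k)) ⟨Subgroup.pow_mem _ hxF _, hnot⟩
        rw [orderOf_pow' x (pow_ne_zero k hrp.ne_zero), Nat.gcd_eq_right (Dvd.intro _ hkb.symm)] at this
        have h3 : orderOf x / r ^ k = b := by rw [hkb]; exact Nat.mul_div_cancel_left b (by positivity)
        rw [h3, hkb] at this
        nlinarith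
      have h2 : x ^ b ∈ N := by
        by_contra hnot
        have := hmin (x ^ b) ⟨Subgroup.pow_mem _ hxF _, hnot⟩
        rw [orderOf_pow' x hbpos.ne', Nat.gcd_eq_right (Dvd.intro_left _ hkb.symm)] at this
        have h3 : orderOf x / b = r ^ k := by rw [hkb]; exact Nat.mul_div_cancel (r ^ k) hbpos
        rw [h3, hkb] at this
        nlinarith
      -- Bezout
      have hg : Int.gcd (r ^ k : ℕ) (b : ℕ) = 1 := by
        rw [Int.gcd_natCast_natCast]; exact hcop
      have hbez := Int.gcd_eq_gcd_ab (r ^ k : ℕ) (b : ℕ)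
      rw [hg] at hbez
      have : x = (x ^ (r ^ k)) ^ (Int.gcdA (r ^ k : ℕ) (b : ℕ)) * (x ^ b) ^ (Int.gcdB (r ^ k : ℕ) (b : ℕ)) := by
        rw [← zpow_natCast x (r ^ k), ← zpow_natCast x b, ← zpow_mul, ← zpow_mul, ← zpow_add]
        have : ((r ^ k : ℕ) : ℤ) * Int.gcdA (r ^ k : ℕ) (b : ℕ) + (b : ℤ) * Int.gcdB (r ^ k : ℕ) (b : ℕ) = 1 := by
          rw [← hbez]; rfl
        rw [this, zpow_one]
      apply hxN
      rw [this]
      exact N.mul_mem (N.zpow_mem h1 _) (N.zpow_mem h2 _)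
    rw [hb, mul_one] at hkb
    obtain ⟨s, hs, hsr, hsdvd⟩ := exists_other_prime N hN1 hnpp r hrp
    obtain ⟨n, hnN, hn⟩ := exists_orderOf_eq N hs hsdvd
    have hNF : N ≤ Cfsg.fittingSubgroup G := le_sSup ⟨inferInstance, hnil⟩
    have hnF : n ∈ Cfsg.fittingSubgroup G := hNF hnN
    have hcop : (orderOf x).Coprime (orderOf n) := by
      rw [hkb, hn]
      exact Nat.Coprime.pow_left k ((Nat.coprime_primes hrp hs).mpr (Ne.symm hsr))
    have hc := commute_of_mem_of_nilpotent (fittingSubgroup_isNilpotent G) hxF hnF hcop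
    have := eq_one_of_commute N heq hxN hnN hc hcop
    rw [this, orderOf_one] at hn
    exact hs.one_lt.ne hn

/-- a normal Sylow subgroup contains every `p`-subgroup -/
theorem le_of_normal_sylow {T : Type*} [Group T] [Finite T] {p : ℕ} [Fact p.Prime] (P : Sylow p T)
    [hn : (P : Subgroup T).Normal] {U : Subgroup T} (hU : IsPGroup p U) : U ≤ P := by
  obtain ⟨P', hP'⟩ := hU.exists_le_sylow
  obtain ⟨g, rfl⟩ := MulAction.exists_smul_eq T P P'
  rwa [Sylow.smul_eq_of_normal] at hP'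

/-- a `p`-group with a central element `z` of order `p` such that every element of order `p` is a
power of `z` has only one subgroup of order `p` -/
theorem unique_of_mem_zpowers {T : Type*} [Group T] [Finite T] {p : ℕ} [hp : Fact p.Prime] (z : T)
    (hz : orderOf z = p) (h : ∀ w : T, orderOf w = p → w ∈ zpowers z) (A : Subgroup T)
    (hA : Nat.card A = p) : A = zpowers z := by
  obtain ⟨a, ha, rfl⟩ := Cfsg.Agent.S0040.exists_zpowers_eq A hA
  apply Subgroup.eq_of_le_of_card_ge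
  · rw [zpowers_le]; exact h a ha
  · rw [Nat.card_zpowers, Nat.card_zpowers, ha, hz]

theorem part2 (N : Subgroup G) [N.Normal] (hN1 : N ≠ ⊥)
    (heq : ∀ x : G, x ∉ N → ∀ n ∈ N, orderOf (x * n) = orderOf x)
    (hnil : Group.IsNilpotent N) (hnpp : ¬ IsPrimePow (Nat.card N))
    (q : ℕ) [hq : Fact q.Prime] (Q : Sylow q (G ⧸ N)) :
    IsCyclic (Q : Subgroup (G ⧸ N)) ∨ ∃ n : ℕ, Nonempty ((Q : Subgroup (G ⧸ N)) ≃* QuaternionGroup (2 ^ n)) := by
  obtain ⟨r, hr, hrq, hrdvd⟩ := exists_other_prime N hN1 hnpp q hq.out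
  haveI hrf : Fact r.Prime := ⟨hr⟩
  have hall := ((Group.isNilpotent_of_finite_tfae (G := N)).out 0 3).mp hnil
  -- the Sylow q- and r-subgroups of N, as normal subgroups of G
  obtain ⟨Nq₀⟩ : Nonempty (Sylow q N) := inferInstance
  obtain ⟨R₀⟩ : Nonempty (Sylow r N) := inferInstance
  haveI hNq₀n : (Nq₀ : Subgroup N).Normal := hall q hq Nq₀
  haveI hR₀n : (R₀ : Subgroup N).Normal := hall r hrf R₀
  haveI : (Nq₀ : Subgroup N).Characteristic := Sylow.characteristic_of_normal Nq₀ hNq₀n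
  haveI : (R₀ : Subgroup N).Characteristic := Sylow.characteristic_of_normal R₀ hR₀n
  set Nq : Subgroup G := (Nq₀ : Subgroup N).map N.subtype with hNq
  set R : Subgroup G := (R₀ : Subgroup N).map N.subtype with hR
  haveI hNqn : Nq.Normal := ConjAct.normal_of_characteristic_of_normal
  haveI hRn : R.Normal := ConjAct.normal_of_characteristic_of_normal
  have hNqN : Nq ≤ N := Subgroup.map_subtype_le _
  have hRN : R ≤ N := Subgroup.map_subtype_le _
  have hNqp : IsPGroup q Nq := Nq₀.isPGroup'.map _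
  have hRp : IsPGroup r R := R₀.isPGroup'.map _
  have hRNq : Disjoint R Nq := IsPGroup.disjoint_of_ne r q hrq R Nq hRp hNqp
  have hRne : R ≠ ⊥ := by
    intro hbot
    have h1 : Nat.card R = Nat.card (R₀ : Subgroup N) :=
      Subgroup.card_map_of_injective N.subtype_injective
    rw [hbot, Subgroup.card_bot, R₀.card_eq_multiplicity] at h1
    have h2 : (Nat.card N).factorization r = 0 := by
      by_contra hne
      have : 1 < r ^ (Nat.card N).factorization r := Nat.one_lt_pow hne hr.one_lt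
      omega
    have h3 : 0 < (Nat.card N).factorization r :=
      hr.factorization_pos_of_dvd Nat.card_pos.ne' hrdvd
    omega
  -- q-elements of N lie in Nq
  have hqN : ∀ g ∈ N, (∃ k : ℕ, g ^ q ^ k = 1) → g ∈ Nq := by
    intro g hg ⟨k, hk⟩
    have h1 : IsPGroup q (zpowers (⟨g, hg⟩ : N)) := by
      apply IsPGroup.of_card (n := (Nat.factorization (orderOf (⟨g, hg⟩ : N))) q)
      rw [Nat.card_zpowers]
      have h2 : orderOf (⟨g, hg⟩ : N) ∣ q ^ k := by
        rw [orderOf_dvd_iff_pow_eq_one]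
        exact Subtype.ext (by simpa using hk)
      obtain ⟨j, -, hj⟩ := (Nat.dvd_prime_pow hq.out).mp h2
      rw [hj, hq.out.factorization_pow]
      simp
    have h2 := le_of_normal_sylow Nq₀ h1 (mem_zpowers _)
    exact ⟨⟨g, hg⟩, h2, rfl⟩
  -- the quotient by Nq and the natural map to G / N
  set π : G ⧸ Nq →* G ⧸ N := QuotientGroup.map Nq N (MonoidHom.id G) hNqN with hπ
  have hπmk : ∀ g : G, π (g : G ⧸ Nq) = (g : G ⧸ N) := fun g => QuotientGroup.map_mk _ _ _ _ g
  have hπs : Function.Surjective π := by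
    intro y
    obtain ⟨g, rfl⟩ := QuotientGroup.mk_surjective y
    exact ⟨(g : G ⧸ Nq), hπmk g⟩
  -- (F1) a q-element of the kernel of π is trivial
  have hF1 : ∀ h : G ⧸ Nq, π h = 1 → (∃ k : ℕ, h ^ q ^ k = 1) → h = 1 := by
    intro h hh ⟨k, hk⟩
    obtain ⟨g, rfl⟩ := QuotientGroup.mk_surjective h
    rw [hπmk, QuotientGroup.eq_one_iff] at hh
    rw [QuotientGroup.eq_one_iff]
    apply hqN g hh
    have h1 : g ^ q ^ k ∈ Nq := by
      rw [← QuotientGroup.eq_one_iff]
      exact hk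
    obtain ⟨j, hj⟩ := (IsPGroup.iff_orderOf.mp hNqp) ⟨g ^ q ^ k, h1⟩
    refine ⟨k + j, ?_⟩
    rw [pow_add, pow_mul]
    have := pow_orderOf_eq_one (⟨g ^ q ^ k, h1⟩ : Nq)
    rw [hj] at this
    exact congrArg Subtype.val this
  -- a Sylow q-subgroup of G / Nq
  obtain ⟨T⟩ : Nonempty (Sylow q (G ⧸ Nq)) := inferInstance
  have hTq : ∀ t ∈ (T : Subgroup (G ⧸ Nq)), ∃ k : ℕ, t ^ q ^ k = 1 := by
    intro t ht
    obtain ⟨k, hk⟩ := T.isPGroup' ⟨t, ht⟩
    exact ⟨k, congrArg Subtype.val hk⟩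
  -- the image of R in G / Nq
  set Rh : Subgroup (G ⧸ Nq) := R.map (QuotientGroup.mk' Nq) with hRh
  haveI hRhn : Rh.Normal := Subgroup.Normal.map hRn _ (QuotientGroup.mk'_surjective Nq)
  have hRhne : Rh ≠ ⊥ := by
    intro hbot
    apply hRne
    rw [eq_bot_iff]
    intro k hk
    have h1 : (QuotientGroup.mk' Nq) k ∈ Rh := ⟨k, hk, rfl⟩
    rw [hbot, Subgroup.mem_bot, QuotientGroup.mk'_apply, QuotientGroup.eq_one_iff] at h1
    exact (Subgroup.disjoint_def.mp hRNq) hk h1 ▸ Subgroup.mem_bot.mpr rfl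
  -- fixed-point-freeness
  have hfpf : ∀ h ∈ (T : Subgroup (G ⧸ Nq)), h ≠ 1 → Rh ⊓ centralizer {h} = ⊥ := by
    intro h hhT hh1
    rw [eq_bot_iff]
    rintro kh ⟨⟨k, hkR, rfl⟩, hkc⟩
    rw [Subgroup.mem_bot]
    obtain ⟨g, rfl⟩ := QuotientGroup.mk_surjective h
    replace hkc : (QuotientGroup.mk' Nq) k ∈ centralizer ({(g : G ⧸ Nq)} : Set (G ⧸ Nq)) := hkc
    rw [mem_centralizer_singleton_iff] at hkc
    -- the commutator lies in R ⊓ Nq
    have h1 : k * g * k⁻¹ * g⁻¹ ∈ Nq := by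
      rw [← QuotientGroup.eq_one_iff]
      have : ((k * g * k⁻¹ * g⁻¹ : G) : G ⧸ Nq) =
          (QuotientGroup.mk' Nq k) * (g : G ⧸ Nq) * (QuotientGroup.mk' Nq k)⁻¹ * (g : G ⧸ Nq)⁻¹ := by
        simp
      rw [this, hkc]
      group
    have h2 : k * g * k⁻¹ * g⁻¹ ∈ R := by
      have : k * g * k⁻¹ * g⁻¹ = k * (g * k⁻¹ * g⁻¹) := by group
      rw [this]
      exact R.mul_mem hkR (hRn.conj_mem _ (R.inv_mem hkR) g)
    have h3 : k * g * k⁻¹ * g⁻¹ = 1 := (Subgroup.disjoint_def.mp hRNq) h2 h1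
    have hc : g * k = k * g := by
      have : k * g = (k * g * k⁻¹ * g⁻¹) * (g * k) := by group
      rw [this, h3, one_mul]
    have hgN : g ∉ N := by
      intro hgN
      apply hh1
      apply hF1 _ _ (hTq _ hhT)
      rw [hπmk, QuotientGroup.eq_one_iff]
      exact hgN
    -- orders
    obtain ⟨a, ha⟩ := hTq _ hhT
    have h4 : g ^ q ^ a ∈ Nq := by
      rw [← QuotientGroup.eq_one_iff]
      exact ha
    obtain ⟨j, hj⟩ := (IsPGroup.iff_orderOf.mp hNqp) ⟨g ^ q ^ a, h4⟩
    have h5 : orderOf g ∣ q ^ (a + j) := by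
      rw [orderOf_dvd_iff_pow_eq_one, pow_add, pow_mul]
      have := pow_orderOf_eq_one (⟨g ^ q ^ a, h4⟩ : Nq)
      rw [hj] at this
      exact congrArg Subtype.val this
    obtain ⟨i, hi⟩ := (IsPGroup.iff_orderOf.mp hRp) ⟨k, hkR⟩
    rw [Subgroup.orderOf_mk] at hi
    have hcop : (orderOf g).Coprime (orderOf k) := by
      rw [hi]
      apply Nat.Coprime.coprime_dvd_left h5
      exact Nat.Coprime.pow _ _ ((Nat.coprime_primes hq.out hr).mpr (Ne.symm hrq))
    have hk1 := eq_one_of_commute N heq hgN (hRN hkR) hc hcop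
    rw [hk1, map_one]
  -- every element of order q of T lies in the group generated by a central one
  have hTp : IsPGroup q (T : Subgroup (G ⧸ Nq)) := T.isPGroup'
  have huniq : ∀ A B : Subgroup (T : Subgroup (G ⧸ Nq)), Nat.card A = q → Nat.card B = q → A = B := by
    intro A B hA hB
    haveI : Nontrivial (T : Subgroup (G ⧸ Nq)) := by
      by_contra hnt
      rw [not_nontrivial_iff_subsingleton] at hnt
      have : Nat.card A = 1 := Nat.card_eq_one_iff_unique.mpr ⟨inferInstance, ⟨1⟩⟩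
      rw [hA] at this
      exact hq.out.one_lt.ne' this
    haveI := hTp.center_nontrivial
    have hZp : IsPGroup q (center (T : Subgroup (G ⧸ Nq))) := hTp.to_subgroup _
    obtain ⟨kz, hkz⟩ := IsPGroup.iff_card.mp hZp
    have hkz0 : kz ≠ 0 := by
      rintro rfl
      rw [pow_zero] at hkz
      have := (Nat.card_eq_one_iff_unique.mp hkz).1
      exact not_nontrivial _ ‹Nontrivial (center (T : Subgroup (G ⧸ Nq)))›
    obtain ⟨z₀, hz₀⟩ := exists_prime_orderOf_dvd_card' (G := center (T : Subgroup (G ⧸ Nq))) q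
      (by rw [hkz]; exact dvd_pow_self q hkz0)
    set z : (T : Subgroup (G ⧸ Nq)) := (z₀ : (T : Subgroup (G ⧸ Nq))) with hzdef
    have hz : orderOf z = q := by rw [hzdef, Subgroup.orderOf_coe]; exact hz₀
    have hzc : ∀ t : (T : Subgroup (G ⧸ Nq)), t * z = z * t := fun t =>
      Subgroup.mem_center_iff.mp z₀.2 t
    have hkey : ∀ w : (T : Subgroup (G ⧸ Nq)), orderOf w = q → w ∈ zpowers z := by
      intro w hw
      have := Cfsg.Agent.Helper1.mem_zpowers_of_fpf (K := Rh) (H := (T : Subgroup (G ⧸ Nq))) hRhne hfpf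
        (T : Subgroup (G ⧸ Nq)) le_rfl hTp (z := (z : G ⧸ Nq)) (w := (w : G ⧸ Nq)) z.2
        (by rw [Subgroup.orderOf_coe]; exact hz)
        (fun t ht => by
          have := hzc ⟨t, ht⟩
          exact (congrArg Subtype.val this).symm)
        w.2 (by rw [Subgroup.orderOf_coe]; exact hw)
      obtain ⟨k, hk⟩ := Subgroup.mem_zpowers_iff.mp this
      exact Subgroup.mem_zpowers_iff.mpr ⟨k, Subtype.ext (by simpa using hk)⟩
    rw [unique_of_mem_zpowers z hz hkey A hA, unique_of_mem_zpowers z hz hkey B hB]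
  -- structure of T
  have hstruct := Cfsg.Agent.S0016.result (G := (T : Subgroup (G ⧸ Nq))) q hTp huniq
  -- T is isomorphic to its image, a Sylow subgroup of G / N, which is conjugate to Q
  set P' : Sylow q (G ⧸ N) := T.mapSurjective hπs with hP'
  have hinj : Function.Injective (π.subgroupMap (T : Subgroup (G ⧸ Nq))) := by
    rw [injective_iff_map_eq_one]
    intro t ht
    have h1 : π (t : G ⧸ Nq) = 1 := by
      have := congrArg Subtype.val ht
      simpa using this
    exact Subtype.ext (hF1 _ h1 (hTq _ t.2))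
  let e₁ : (T : Subgroup (G ⧸ Nq)) ≃* ((T : Subgroup (G ⧸ Nq)).map π : Subgroup (G ⧸ N)) :=
    MulEquiv.ofBijective (π.subgroupMap (T : Subgroup (G ⧸ Nq)))
      ⟨hinj, π.subgroupMap_surjective _⟩
  have hP'coe : ((P' : Sylow q (G ⧸ N)) : Subgroup (G ⧸ N)) = (T : Subgroup (G ⧸ Nq)).map π :=
    Sylow.coe_mapSurjective hπs T
  let e₂ : ((T : Subgroup (G ⧸ Nq)).map π : Subgroup (G ⧸ N)) ≃* ((P' : Sylow q (G ⧸ N)) : Subgroup (G ⧸ N)) :=
    MulEquiv.subgroupCongr hP'coe.symm
  obtain ⟨g, hg⟩ := MulAction.exists_smul_eq (G ⧸ N) P' Q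
  let e₃ : ((P' : Sylow q (G ⧸ N)) : Subgroup (G ⧸ N)) ≃* ((g • P' : Sylow q (G ⧸ N)) : Subgroup (G ⧸ N)) :=
    Sylow.equivSMul P' g
  let e₄ : ((g • P' : Sylow q (G ⧸ N)) : Subgroup (G ⧸ N)) ≃* (Q : Subgroup (G ⧸ N)) :=
    MulEquiv.subgroupCongr (by rw [hg])
  let e : (T : Subgroup (G ⧸ Nq)) ≃* (Q : Subgroup (G ⧸ N)) := ((e₁.trans e₂).trans e₃).trans e₄
  rcases hstruct with hc | ⟨-, n, ⟨f⟩⟩
  · left
    exact (MulEquiv.isCyclic e).mp hc
  · right
    exact ⟨n, ⟨e.symm.trans f⟩⟩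

/-- Let G be a finite group and N a proper non-trivial normal nilpotent subgroup whose order is not a prime power, such that for every x outside N all elements of the coset xN have the same order as x. Then N is the Fitting subgroup of G, and for every prime q every Sylow q-subgroup of G/N is cyclic or generalized quaternion. -/
theorem result {G : Type*} [Group G] [Finite G] (N : Subgroup G) [N.Normal] (hN1 : N ≠ ⊥) (hN2 : N ≠ ⊤)
    (heq : ∀ x : G, x ∉ N → ∀ n ∈ N, orderOf (x * n) = orderOf x)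
    (hnil : Group.IsNilpotent N) (hnpp : ¬ IsPrimePow (Nat.card N)) :
    N = Cfsg.fittingSubgroup G ∧
    ∀ (q : ℕ) [Fact q.Prime] (Q : Sylow q (G ⧸ N)), IsCyclic (Q : Subgroup (G ⧸ N)) ∨ ∃ n : ℕ, Nonempty ((Q : Subgroup (G ⧸ N)) ≃* QuaternionGroup (2 ^ n)) := by
  refine ⟨part1 N hN1 heq hnil hnpp, ?_⟩
  intro q _ Q
  exact part2 N hN1 heq hnil hnpp q Q

end Cfsg.Agent.S4155
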