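import Mathlib
import Cfsg.Statements.S4156

set_option autoImplicit false
open Cfsg

namespace Cfsg.Agent.S4156

variable (m : ℕ) (F : Type*) [Field F]

/-- the coordinate sum functional -/
def sumL : (Fin m → F) →ₗ[F] F := ∑ i, LinearMap.proj i

theorem sumL_apply (v : Fin m → F) : sumL m F v = ∑ i, v i := by
  simp [sumL]

/-- the sum-zero hyperplane -/
abbrev U : Submodule F (Fin m → F) := LinearMap.ker (sumL m F)

theorem mem_U (v : Fin m → F) : v ∈ U m F ↔ ∑ i, v i = 0 := by
  rw [LinearMap.mem_ker, sumL_apply]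

theorem funLeft_mem_U (σ : Equiv.Perm (Fin m)) (v : Fin m → F) (hv : v ∈ U m F) :
    LinearMap.funLeft F F σ.symm v ∈ U m F := by
  rw [mem_U] at hv ⊢
  rw [← hv]
  exact Equiv.sum_comp σ.symm v

/-- the permutation action on the sum-zero hyperplane -/
def phi : Equiv.Perm (Fin m) →* Module.End F (U m F) where
  toFun σ := (LinearMap.funLeft F F σ.symm).restrict (funLeft_mem_U m F σ)
  map_one' := by
    ext v i
    rfl
  map_mul' := by
    intro σ τ
    ext v i
    rfl

theorem phi_apply (σ : Equiv.Perm (Fin m)) (v : U m F) (i : Fin m) :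
    ((phi m F σ v : U m F) : Fin m → F) i = (v : Fin m → F) (σ.symm i) := rfl

theorem finrank_U (n : ℕ) : Module.finrank F (U (n + 1) F) = n := by
  show Module.finrank F (LinearMap.ker (sumL (n + 1) F)) = n
  have h1 := LinearMap.finrank_range_add_finrank_ker (sumL (n + 1) F)
  have hsurj : Function.Surjective (sumL (n + 1) F) := by
    intro c
    refine ⟨Pi.single 0 c, ?_⟩
    rw [sumL_apply]
    simp
  rw [LinearMap.range_eq_top.mpr hsurj, finrank_top, Module.finrank_self,
    Module.finrank_fin_fun] at h1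
  omega


variable [Finite F]

/-- a basis of the hyperplane -/
noncomputable def bas (n : ℕ) : Module.Basis (Fin n) F (U (n + 1) F) :=
  Module.finBasisOfFinrankEq F (U (n + 1) F) (finrank_U F n)

/-- the matrix representation -/
noncomputable def psi (n : ℕ) : Equiv.Perm (Fin (n + 1)) →* Matrix (Fin n) (Fin n) F :=
  ((LinearMap.toMatrixAlgEquiv (bas F n)).toMulEquiv.toMonoidHom).comp (phi (n + 1) F)

theorem psi_apply (n : ℕ) (σ : Equiv.Perm (Fin (n + 1))) :
    psi F n σ = LinearMap.toMatrix (bas F n) (bas F n) (phi (n + 1) F σ) := rfl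

theorem det_psi (n : ℕ) (hn : 5 ≤ n) (a : alternatingGroup (Fin (n + 1))) :
    (psi F n (a : Equiv.Perm (Fin (n + 1)))).det = 1 := by
  let d : alternatingGroup (Fin (n + 1)) →* F :=
    (Matrix.detMonoidHom).comp ((psi F n).comp (alternatingGroup (Fin (n + 1))).subtype)
  have hker : commutator (alternatingGroup (Fin (n + 1))) ≤ d.toHomUnits.ker :=
    Abelianization.commutator_subset_ker d.toHomUnits
  rw [commutator_alternatingGroup_eq_top (by simp; omega)] at hker
  have ha : a ∈ d.toHomUnits.ker := hker (Subgroup.mem_top a)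
  rw [MonoidHom.mem_ker] at ha
  have h2 : ((d.toHomUnits a : Fˣ) : F) = 1 := by rw [ha]; rfl
  exact h2

/-- the special linear representation of the alternating group -/
noncomputable def psiSL (n : ℕ) (hn : 5 ≤ n) :
    alternatingGroup (Fin (n + 1)) →* Matrix.SpecialLinearGroup (Fin n) F where
  toFun a := ⟨psi F n (a : Equiv.Perm (Fin (n + 1))), det_psi F n hn a⟩
  map_one' := by
    apply Subtype.ext
    show psi F n ((1 : alternatingGroup (Fin (n + 1))) : Equiv.Perm (Fin (n + 1))) = 1
    rw [Subgroup.coe_one, map_one]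
  map_mul' := by
    intro a b
    apply Subtype.ext
    show psi F n ((a * b : alternatingGroup (Fin (n + 1))) : Equiv.Perm (Fin (n + 1))) =
      psi F n a * psi F n b
    rw [Subgroup.coe_mul, map_mul]


/-- Let n ≥ 5 and F a finite field. Then the projective special linear group PSL_n(F) contains a subgroup isomorphic to the alternating group of degree n + 1. -/
theorem result (n : ℕ) (hn : 5 ≤ n) (F : Type*) [Field F] [Finite F] :
    ∃ f : alternatingGroup (Fin (n + 1)) →* Matrix.ProjectiveSpecialLinearGroup (Fin n) F, Function.Injective f := by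
  refine ⟨(QuotientGroup.mk' (Subgroup.center (Matrix.SpecialLinearGroup (Fin n) F))).comp (psiSL F n hn), ?_⟩
  rw [← MonoidHom.ker_eq_bot_iff]
  rcases alternatingGroup.normal_subgroup_eq_bot_or_eq_top (α := Fin (n + 1)) (by simp; omega)
    (N := MonoidHom.ker ((QuotientGroup.mk' (Subgroup.center (Matrix.SpecialLinearGroup (Fin n) F))).comp (psiSL F n hn))) with h | h
  · exact h
  · exfalso
    let i0 : Fin (n + 1) := ⟨0, by omega⟩
    let i1 : Fin (n + 1) := ⟨1, by omega⟩
    let i2 : Fin (n + 1) := ⟨2, by omega⟩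
    let i3 : Fin (n + 1) := ⟨3, by omega⟩
    have h01 : i0 ≠ i1 := by simp [i0, i1, Fin.ext_iff]
    have h02 : i0 ≠ i2 := by simp [i0, i2, Fin.ext_iff]
    have h12 : i1 ≠ i2 := by simp [i1, i2, Fin.ext_iff]
    have h03 : i0 ≠ i3 := by simp [i0, i3, Fin.ext_iff]
    have h23 : i2 ≠ i3 := by simp [i2, i3, Fin.ext_iff]
    have hc3 : (Equiv.swap i0 i1 * Equiv.swap i0 i2).IsThreeCycle :=
      Equiv.Perm.isThreeCycle_swap_mul_swap_same h01 h02 h12
    have hcA := hc3.mem_alternatingGroup
    have hc0 : (Equiv.swap i0 i1 * Equiv.swap i0 i2) i0 = i2 := by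
      rw [Equiv.Perm.mul_apply, Equiv.swap_apply_left, Equiv.swap_apply_of_ne_of_ne h02.symm h12.symm]
    have hmem : (⟨_, hcA⟩ : alternatingGroup (Fin (n + 1))) ∈
        MonoidHom.ker ((QuotientGroup.mk' (Subgroup.center (Matrix.SpecialLinearGroup (Fin n) F))).comp (psiSL F n hn)) := by rw [h]; trivial
    rw [MonoidHom.mem_ker, MonoidHom.comp_apply, QuotientGroup.mk'_apply,
      QuotientGroup.eq_one_iff, Matrix.SpecialLinearGroup.mem_center_iff] at hmem
    obtain ⟨r, -, hr⟩ := hmem
    have hr' : Matrix.scalar (Fin n) r = psi F n (Equiv.swap i0 i1 * Equiv.swap i0 i2) := hr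
    have h1 : phi (n + 1) F (Equiv.swap i0 i1 * Equiv.swap i0 i2) = r • LinearMap.id := by
      have := congrArg (Matrix.toLin (bas F n) (bas F n)) hr'
      rw [Matrix.toLin_scalar, psi_apply, Matrix.toLin_toMatrix] at this
      exact this.symm
    have hv : (Pi.single i0 1 - Pi.single i3 1 : Fin (n + 1) → F) ∈ U (n + 1) F := by
      rw [mem_U]
      simp [Finset.sum_sub_distrib]
    have h2 := congrArg (fun (w : U (n + 1) F) => (w : Fin (n + 1) → F) i2)
      (LinearMap.congr_fun h1 ⟨_, hv⟩)
    simp only [LinearMap.smul_apply, LinearMap.id_coe, id_eq] at h2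
    rw [phi_apply] at h2
    have h3 : (Equiv.swap i0 i1 * Equiv.swap i0 i2).symm i2 = i0 := by
      rw [← hc0]
      exact Equiv.symm_apply_apply _ _
    rw [h3] at h2
    simp [h03, h02.symm, h23, h02] at h2

end Cfsg.Agent.S4156
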