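import Mathlib
import Cfsg.Statements.S4160
import Cfsg.Agent.Lib.Helper21.ClassSize

set_option autoImplicit false
open Cfsg

namespace Cfsg.Agent.S4160

open Subgroup Cfsg.Agent.Helper21.ClassSize

variable {G : Type*} [Group G]

/-- the set of elements conjugate into the centralizer of a Sylow subgroup -/
def UU {r : ℕ} (P : Sylow r G) : Set G :=
  {x : G | ∃ g : G, g⁻¹ * x * g ∈ centralizer ((P : Subgroup G) : Set G)}

theorem mem_UU_of_not_dvd [Finite G] {r : ℕ} [Fact r.Prime] (P : Sylow r G) (x : G)
    (h : ¬ r ∣ idx x) : x ∈ UU P := by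
  obtain ⟨g, hg⟩ := exists_conj_mem_of_not_dvd_index (P : Subgroup G) P.isPGroup'
    (centralizer ({x} : Set G)) h
  refine ⟨g⁻¹, ?_⟩
  rw [Subgroup.mem_centralizer_iff]
  intro y hy
  have h1 := hg y hy
  rw [mem_centralizer_singleton] at h1
  have e1 : y * (g⁻¹⁻¹ * x * g⁻¹) = g * ((g⁻¹ * y * g) * x) * g⁻¹ := by group
  have e2 : (g⁻¹⁻¹ * x * g⁻¹) * y = g * (x * (g⁻¹ * y * g)) * g⁻¹ := by group
  rw [e1, e2, h1]

theorem centralizer_le_normalizer' (H : Subgroup G) :
    centralizer (H : Set G) ≤ normalizer (H : Set G) := by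
  intro x hx
  rw [Subgroup.mem_normalizer_iff]
  intro y
  rw [Subgroup.mem_centralizer_iff] at hx
  constructor
  · intro hy
    have : x * y * x⁻¹ = y := by rw [← hx y hy]; group
    rw [this]; exact hy
  · intro hy
    have h1 := hx _ hy
    have : y = x * y * x⁻¹ := by
      have e : x * y * x⁻¹ * x = x * (x * y * x⁻¹) := h1
      have e2 : x * y = x * (x * y * x⁻¹) := by rw [← e]; group
      exact mul_left_cancel e2
    rw [this]; exact hy

theorem UU_count [Finite G] {r : ℕ} (P : Sylow r G) :
    (UU P).ncard * Nat.card (normalizer ((P : Subgroup G) : Set G)) + Nat.card G ≤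
      Nat.card G * Nat.card (centralizer ((P : Subgroup G) : Set G)) +
        Nat.card (normalizer ((P : Subgroup G) : Set G)) := by
  apply conj_union_count
  intro l hl k hk
  rw [Subgroup.mem_centralizer_iff] at hk ⊢
  intro y hy
  have hy' : l * y * l⁻¹ ∈ (P : Subgroup G) := (Subgroup.mem_normalizer_iff.mp hl y).1 hy
  have h1 := hk _ hy'
  have e1 : y * (l⁻¹ * k * l) = l⁻¹ * ((l * y * l⁻¹) * k) * l := by group
  have e2 : (l⁻¹ * k * l) * y = l⁻¹ * (k * (l * y * l⁻¹)) * l := by group
  rw [e1, e2, h1]

/-- Let G be a finite group and p ≠ q primes each dividing the size of some conjugacy class of G, such that no conjugacy class size is divisible by pq. Then G has a normal p-complement or a normal q-complement. -/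
theorem result {G : Type*} [Group G] [Finite G] (p q : ℕ) (hp : p.Prime) (hq : q.Prime) (hpq : p ≠ q)
    (hp' : ∃ x : G, p ∣ (Subgroup.centralizer ({x} : Set G)).index) (hq' : ∃ x : G, q ∣ (Subgroup.centralizer ({x} : Set G)).index) (h : ∀ x : G, ¬ p * q ∣ (Subgroup.centralizer ({x} : Set G)).index) :
    Cfsg.HasNormalPComplement p G ∨ Cfsg.HasNormalPComplement q G := by
  classical
  haveI : Fact p.Prime := ⟨hp⟩
  haveI : Fact q.Prime := ⟨hq⟩
  obtain ⟨P⟩ := (inferInstance : Nonempty (Sylow p G))
  obtain ⟨Q⟩ := (inferInstance : Nonempty (Sylow q G))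
  by_cases hP : normalizer ((P : Subgroup G) : Set G) ≤ centralizer ((P : Subgroup G) : Set G)
  · left
    exact ⟨P, (MonoidHom.transferSylow P hP).ker, inferInstance,
      MonoidHom.ker_transferSylow_isComplement' P hP⟩
  by_cases hQ : normalizer ((Q : Subgroup G) : Set G) ≤ centralizer ((Q : Subgroup G) : Set G)
  · right
    exact ⟨Q, (MonoidHom.transferSylow Q hQ).ker, inferInstance,
      MonoidHom.ker_transferSylow_isComplement' Q hQ⟩
  exfalso
  -- cover
  have hcov : UU P ∪ UU Q = Set.univ := by
    rw [Set.eq_univ_iff_forall]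
    intro x
    by_cases hx : p ∣ idx x
    · right
      apply mem_UU_of_not_dvd
      intro hx2
      exact h x (Nat.Coprime.mul_dvd_of_dvd_of_dvd ((Nat.coprime_primes hp hq).2 hpq) hx hx2)
    · left
      exact mem_UU_of_not_dvd P x hx
  have h1P : (1 : G) ∈ UU P := ⟨1, by simpa using Subgroup.one_mem _⟩
  have h1Q : (1 : G) ∈ UU Q := ⟨1, by simpa using Subgroup.one_mem _⟩
  have hcard : Nat.card G + 1 ≤ (UU P).ncard + (UU Q).ncard := by
    have h1 := Set.ncard_union_add_ncard_inter (UU P) (UU Q)
    rw [hcov, Set.ncard_univ] at h1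
    have h2 : 1 ≤ (UU P ∩ UU Q).ncard := by
      rw [Nat.succ_le_iff, Set.ncard_pos]
      exact ⟨1, h1P, h1Q⟩
    omega
  -- sizes
  have key : ∀ {r : ℕ} (R : Sylow r G),
      ¬ normalizer ((R : Subgroup G) : Set G) ≤ centralizer ((R : Subgroup G) : Set G) →
      2 * (UU R).ncard ≤ Nat.card G := by
    intro r R hR
    have hle := centralizer_le_normalizer' (R : Subgroup G)
    obtain ⟨a, ha⟩ := Subgroup.card_dvd_of_le hle
    set cc := Nat.card (centralizer ((R : Subgroup G) : Set G)) with hcc
    set nn := Nat.card (normalizer ((R : Subgroup G) : Set G)) with hnn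
    have hccpos : 0 < cc := Nat.card_pos
    have hnnpos : 0 < nn := Nat.card_pos
    have ha2 : 2 ≤ a := by
      rcases Nat.lt_or_ge a 2 with h | h
      · exfalso
        interval_cases a
        · rw [mul_zero] at ha; omega
        · rw [mul_one] at ha
          apply hR
          have := Subgroup.eq_of_le_of_card_ge hle (by rw [← hcc, ← hnn, ha])
          rw [this]
      · exact h
    obtain ⟨b, hb⟩ := Subgroup.card_subgroup_dvd_card (normalizer ((R : Subgroup G) : Set G))
    rw [← hnn] at hb
    have hbpos : 0 < b := by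
      rcases Nat.eq_zero_or_pos b with h | h
      · rw [h, mul_zero] at hb
        have : 0 < Nat.card G := Nat.card_pos
        omega
      · exact h
    have hcount := UU_count R
    rw [← hcc, ← hnn] at hcount
    set u := (UU R).ncard with hu
    set g := Nat.card G with hg
    -- u * nn + g ≤ g * cc + nn ; nn = cc * a ; g = nn * b
    by_contra hcon
    push_neg at hcon
    -- g < 2u
    have hnn2 : 2 * cc ≤ nn := by rw [ha]; nlinarith
    have hgnn : nn ≤ g := by rw [hb]; nlinarith
    have e1 : u * (2 * cc) ≤ u * nn := Nat.mul_le_mul_left u hnn2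
    have e2 : (g + 1) * cc ≤ (2 * u) * cc := Nat.mul_le_mul_right cc hcon
    have e3 : (2 * u) * cc = u * (2 * cc) := by ring
    have e4 : (g + 1) * cc = g * cc + cc := by ring
    omega
  have kP := key P hP
  have kQ := key Q hQ
  omega

end Cfsg.Agent.S4160
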