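import Mathlib
import Cfsg.Statements.S4168

set_option autoImplicit false
open Cfsg

namespace Cfsg.Agent.S4168

open scoped IsMulCommutative in
/-- Let L be a finite quasisimple group (perfect with L/Z(L) simple). Then every prime dividing the order of the centre Z(L) also divides the order of L/Z(L). -/
theorem result {L : Type*} [Group L] [Finite L] (hL : Cfsg.IsQuasisimple L)
    (p : ℕ) (hp : p.Prime) (hdiv : p ∣ Nat.card (Subgroup.center L)) : p ∣ (Subgroup.center L).index := by
  have hperf : Group.IsPerfect L := hL.1
  have : Fact p.Prime := ⟨hp⟩
  -- the transfer hom into the centre is trivial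
  let f : L →* Subgroup.center L := MonoidHom.transferCenterPow L
  have hker : f.ker = ⊤ := by
    rw [eq_top_iff, ← hperf.commutator_eq_top]
    exact @Abelianization.commutator_subset_ker L _ (Subgroup.center L) inferInstance f
  have hpow : ∀ g : L, g ^ (Subgroup.center L).index = 1 := by
    intro g
    have hg : g ∈ f.ker := by rw [hker]; trivial
    rw [MonoidHom.mem_ker] at hg
    have := congrArg Subtype.val hg
    simpa [f] using this
  -- element of order p in the centre
  obtain ⟨z, hz⟩ := exists_prime_orderOf_dvd_card' (G := Subgroup.center L) p hdiv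
  have h1 : (z : L) ^ (Subgroup.center L).index = 1 := hpow z
  have h2 : z ^ (Subgroup.center L).index = 1 := by
    apply Subtype.ext
    rw [Subgroup.coe_pow, h1]; rfl
  rw [← hz]
  exact orderOf_dvd_of_pow_eq_one h2

end Cfsg.Agent.S4168
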