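import Mathlib
import Cfsg.Statements.S4169
import Cfsg.Agent.Lib.Helper21.SmallClasses
import Cfsg.Agent.Lib.Helper1.MaxAbelianBound

set_option autoImplicit false
open Cfsg

namespace Cfsg.Agent.S4169

open Cfsg.Agent.Helper21.ClassSize Cfsg.Agent.Helper21.SmallClasses

/-- Let P be a finite p-group whose conjugacy classes have exactly two sizes (1 and one other value). Then P has nilpotency class at most 3. -/
theorem result {P : Type*} [Group P] [Finite P] {p : ℕ} [Fact p.Prime] (hP : IsPGroup p P)
    (m : ℕ) (hm : 1 < m) (h : ∀ x : P, (Subgroup.centralizer ({x} : Set P)).index = 1 ∨ (Subgroup.centralizer ({x} : Set P)).index = m) :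
    upperCentralSeries P 3 = ⊤ := by
  classical
  -- a maximal normal abelian subgroup
  have hfin : ({B : Subgroup P | B.Normal ∧ IsMulCommutative B} : Set (Subgroup P)).Finite :=
    Set.toFinite _
  have hne : ({B : Subgroup P | B.Normal ∧ IsMulCommutative B} : Set (Subgroup P)).Nonempty :=
    ⟨⊥, inferInstance, inferInstance⟩
  obtain ⟨A, hAmax⟩ := hfin.exists_maximal hne
  obtain ⟨⟨hAn, hAc⟩, hAle⟩ := hAmax
  have hAn' : A.Normal := hAn
  have hCA : Subgroup.centralizer (A : Set P) = A := by
    apply Cfsg.Agent.Helper1.centralizer_eq_of_max_normal_abelian hP A hAc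
    intro B hBn hBc hAB
    exact le_antisymm (hAle ⟨hBn, hBc⟩ hAB) hAB
  have hA' : ∀ a ∈ A, ∀ b ∈ A, a * b = b * a := by
    intro a ha b hb
    have := hAc.is_comm.comm ⟨a, ha⟩ ⟨b, hb⟩
    exact congrArg Subtype.val this
  have hmin : ∀ x : P, 1 < idx x → m ≤ idx x := by
    intro x hx
    rcases h x with h1 | h1
    · change idx x = 1 at h1; omega
    · change idx x = m at h1; omega
  have hall : ∀ g : P, g ∈ Subgroup.closure (small P m) := by
    intro g
    apply Subgroup.subset_closure
    exact h g
  exact ucs3_top' A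
    (fun g a ha => closure_comm_mem_center A hA' m hmin g (hall g) a ha)
    (fun g k => closure_commutator_mem A hA' hCA m hmin g (hall g) k (hall k))

end Cfsg.Agent.S4169
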