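import Cfsg.Agent.S4177
import Cfsg.Agent.S3744
import Cfsg.Agent.Lib.Helper23.PSolvable
import Cfsg.Statements.S4176
-- import your own Cfsg.Agent.* helpers here

set_option autoImplicit false
open Cfsg

namespace Cfsg.Agent.S4176

open Cfsg.Agent.Helper21 Cfsg.Agent.S4177

/-- a `p`-complement and a Sylow `p`-subgroup are complements -/
theorem isComplement_pc {L : Type*} [Group L] [Finite L] {p : ℕ} [hp : Fact p.Prime] (K : Subgroup L)
    (hK : (Nat.card K).Coprime p) (hKi : ∃ n : ℕ, K.index = p ^ n) (P : Sylow p L) :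
    Subgroup.IsComplement' K (P : Subgroup L) := by
  obtain ⟨n, hn⟩ := hKi
  have h1 : Nat.card K * p ^ n = Nat.card L := by rw [← hn]; exact Subgroup.card_mul_index K
  have hK0 : Nat.card K ≠ 0 := Nat.card_pos.ne'
  have hfac : (Nat.card L).factorization p = n := by
    rw [← h1, Nat.factorization_mul hK0 (pow_ne_zero n hp.out.ne_zero), Finsupp.add_apply,
      Nat.Prime.factorization_pow hp.out, Finsupp.single_eq_same]
    have : (Nat.card K).factorization p = 0 := by
      apply Nat.factorization_eq_zero_of_not_dvd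
      intro hd
      exact hp.out.one_lt.ne' (Nat.Coprime.eq_one_of_dvd hK.symm hd)
    rw [this, zero_add]
  have hP : Nat.card (P : Subgroup L) = p ^ n := by
    rw [Sylow.card_eq_multiplicity, hfac]
  apply Subgroup.isComplement'_of_coprime
  · rw [hP]; exact h1
  · rw [hP]; exact Nat.Coprime.pow_right n hK

/-- the stabiliser of a vector -/
def stab {k V H : Type*} [Field k] [AddCommGroup V] [Module k V] [Group H]
    (ρ : Representation k H V) (c : V) : Subgroup H :=
  { carrier := {h | ρ h c = c}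
    mul_mem' := by
      intro x y hx hy
      show ρ (x * y) c = c
      rw [map_mul]
      show ρ x (ρ y c) = c
      rw [hy, hx]
    one_mem' := by show ρ 1 c = c; rw [map_one]; rfl
    inv_mem' := by
      intro x hx
      show ρ x⁻¹ c = c
      have : ρ x⁻¹ (ρ x c) = c := by
        rw [← Module.End.mul_apply, ← map_mul, inv_mul_cancel, map_one]; rfl
      rwa [hx] at this }

theorem mem_stab {k V H : Type*} [Field k] [AddCommGroup V] [Module k V] [Group H]
    (ρ : Representation k H V) (c : V) (h : H) : h ∈ stab ρ c ↔ ρ h c = c := Iff.rfl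

/-- coprime orbit sizes: the stabiliser of `b` is transitive on the orbit of `a` -/
theorem stab_trans {k V H : Type*} [Field k] [AddCommGroup V] [Module k V] [Group H] [Finite H]
    (ρ : Representation k H V) (a b : V)
    (hcop : (Nat.card {u : V | ∃ h : H, ρ h a = u}).Coprime (Nat.card {u : V | ∃ h : H, ρ h b = u})) :
    ∀ h : H, ∃ β : stab ρ b, ρ (β : H) a = ρ h a := by
  classical
  set A := stab ρ a with hA
  set B := stab ρ b with hB
  have hfib : ∀ (c : V) (x y : H), ρ x c = ρ y c ↔ ρ (x⁻¹ * y) c = c := by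
    intro c x y
    constructor
    · intro h
      rw [map_mul]
      show ρ x⁻¹ (ρ y c) = c
      rw [← h, ← Module.End.mul_apply, ← map_mul, inv_mul_cancel, map_one]; rfl
    · intro h
      have : ρ x (ρ (x⁻¹ * y) c) = ρ y c := by
        rw [← Module.End.mul_apply, ← map_mul, mul_inv_cancel_left]
      rw [← this, h]
  have eA : Nat.card H = Nat.card A * Nat.card (Set.range (fun h : H => ρ h a)) :=
    card_eq_card_mul_card_range A (fun h : H => ρ h a) (fun x y => hfib a x y)
  have eB : Nat.card H = Nat.card B * Nat.card (Set.range (fun h : H => ρ h b)) :=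
    card_eq_card_mul_card_range B (fun h : H => ρ h b) (fun x y => hfib b x y)
  have eAB : Nat.card B = Nat.card (A.subgroupOf B) *
      Nat.card (Set.range (fun β : B => ρ (β : H) a)) :=
    card_eq_card_mul_card_range (A.subgroupOf B) (fun β : B => ρ (β : H) a)
      (fun x y => by
        rw [Subgroup.mem_subgroupOf]
        exact hfib a x y)
  set oa := Nat.card (Set.range (fun h : H => ρ h a)) with hoa
  set ob := Nat.card (Set.range (fun h : H => ρ h b)) with hob
  set r := Nat.card (Set.range (fun β : B => ρ (β : H) a)) with hr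
  have hcop' : oa.Coprime ob := hcop
  have hγ : Nat.card (A.subgroupOf B) ∣ Nat.card A := by
    have : Nat.card (A.subgroupOf B) = Nat.card (A ⊓ B : Subgroup H) := by
      rw [← Subgroup.inf_subgroupOf_right]
      exact Nat.card_congr (Subgroup.subgroupOfEquivOfLe inf_le_right).toEquiv
    rw [this]
    exact Subgroup.card_dvd_of_le inf_le_left
  obtain ⟨δ, hδ⟩ := hγ
  have hγpos : 0 < Nat.card (A.subgroupOf B) := Nat.card_pos
  have hrel : δ * oa = r * ob := by
    have : Nat.card (A.subgroupOf B) * (δ * oa) = Nat.card (A.subgroupOf B) * (r * ob) := by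
      calc Nat.card (A.subgroupOf B) * (δ * oa) = Nat.card A * oa := by rw [hδ]; ring
        _ = Nat.card H := eA.symm
        _ = Nat.card B * ob := eB
        _ = Nat.card (A.subgroupOf B) * (r * ob) := by rw [eAB]; ring
    exact Nat.eq_of_mul_eq_mul_left hγpos this
  have hdvd : oa ∣ r := by
    have : oa ∣ r * ob := ⟨δ, by rw [← hrel]; ring⟩
    exact hcop'.dvd_of_dvd_mul_right this
  have hsub : Set.range (fun β : B => ρ (β : H) a) ⊆ Set.range (fun h : H => ρ h a) := by
    rintro _ ⟨β, rfl⟩
    exact ⟨β, rfl⟩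
  have hfin : (Set.range (fun h : H => ρ h a)).Finite := Set.finite_range _
  have hrpos : 0 < r := by
    rw [hr]
    haveI : Nonempty (Set.range (fun β : B => ρ (β : H) a)) := ⟨⟨_, ⟨1, rfl⟩⟩⟩
    haveI : Finite (Set.range (fun β : B => ρ (β : H) a)) := (Set.finite_range _).to_subtype
    exact Nat.card_pos
  have hle : oa ≤ r := Nat.le_of_dvd hrpos hdvd
  have heq : Set.range (fun β : B => ρ (β : H) a) = Set.range (fun h : H => ρ h a) := by
    apply Set.eq_of_subset_of_ncard_le hsub _ hfin
    rw [← Nat.card_coe_set_eq, ← Nat.card_coe_set_eq]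
    exact hle
  intro h
  have : ρ h a ∈ Set.range (fun β : B => ρ (β : H) a) := by
    rw [heq]; exact ⟨h, rfl⟩
  exact this

/-- Let k be a field of prime characteristic p, H a finite p-soluble group and ρ a k-linear representation of H on V. Let a be a vector that is fixed by some Sylow p-subgroup of H and whose H-orbit spans V. Then the space of H-fixed vectors has dimension at most 1, and every vector b whose H-orbit has size coprime to the size of the orbit of a is fixed by H. -/
theorem result {k V H : Type*} [Field k] (p : ℕ) [Fact p.Prime] [CharP k p] [AddCommGroup V] [Module k V]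
    [Group H] [Finite H] (hsol : Cfsg.IsPSolvable p H) (ρ : Representation k H V) (a : V)
    (hfix : ∃ P : Sylow p H, ∀ x : H, x ∈ (P : Subgroup H) → ρ x a = a)
    (hspan : Submodule.span k {u : V | ∃ h : H, ρ h a = u} = ⊤) :
    Module.finrank k ρ.invariants ≤ 1 ∧
    ∀ b : V, (Nat.card {u : V | ∃ h : H, ρ h a = u}).Coprime (Nat.card {u : V | ∃ h : H, ρ h b = u}) → ∀ h : H, ρ h b = b := by
  classical
  have hp : p.Prime := Fact.out
  obtain ⟨P, hP⟩ := hfix
  obtain ⟨⟨K, hKc, hKi⟩, -, -⟩ := Cfsg.Agent.S3744.result hsol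
  have hcomp := isComplement_pc K hKc hKi P
  have hne : ∀ n : ℕ, n.Coprime p → (n : k) ≠ 0 := by
    intro n hn h
    have hd := (CharP.cast_eq_zero_iff k p n).mp h
    exact hp.one_lt.ne' (Nat.Coprime.eq_one_of_dvd hn.symm hd)
  haveI : Fintype K := Fintype.ofFinite K
  let τ : Representation k K V := ρ.comp K.subtype
  have hτ : ∀ (κ : K) (x : V), τ κ x = ρ (κ : H) x := fun κ x => rfl
  have hKtrans : ∀ h : H, ∃ κ : K, ρ h a = τ κ a := by
    intro h
    obtain ⟨⟨κ, π⟩, hκπ⟩ := hcomp.2 h
    refine ⟨κ, ?_⟩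
    have hκπ' : (κ : H) * (π : H) = h := hκπ
    rw [← hκπ', map_mul, hτ]
    show ρ (κ : H) (ρ (π : H) a) = ρ (κ : H) a
    rw [hP _ π.2]
  have hTorb : ∀ h : H, T τ (ρ h a) = T τ a := by
    intro h
    obtain ⟨κ, hκ⟩ := hKtrans h
    rw [hκ, T_smul]
  have hcardK : (Fintype.card K : k) ≠ 0 := by
    rw [← Nat.card_eq_fintype_card]; exact hne _ hKc
  -- `T τ a` is invariant
  have hs₀ : ∀ h : H, ρ h (T τ a) = T τ a := by
    intro h
    have hex : ∀ κ : K, ∃ κ' : K, ∃ π : (P : Subgroup H), (κ' : H) * (π : H) = h * (κ : H) := by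
      intro κ
      obtain ⟨⟨κ', π⟩, hκπ⟩ := hcomp.2 (h * κ)
      exact ⟨κ', π, hκπ⟩
    choose f g hfg using hex
    have hinj : Function.Injective f := by
      intro κ₁ κ₂ h12
      have h1 := hfg κ₁
      have h2 := hfg κ₂
      rw [h12] at h1
      have h3 : (κ₁ : H)⁻¹ * (κ₂ : H) = (g κ₁ : H)⁻¹ * (g κ₂ : H) := by
        calc (κ₁ : H)⁻¹ * (κ₂ : H) = (h * (κ₁ : H))⁻¹ * (h * (κ₂ : H)) := by group
          _ = ((f κ₂ : H) * (g κ₁ : H))⁻¹ * ((f κ₂ : H) * (g κ₂ : H)) := by rw [h1, h2]
          _ = (g κ₁ : H)⁻¹ * (g κ₂ : H) := by group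
      have h4 : (κ₁ : H)⁻¹ * (κ₂ : H) ∈ K := K.mul_mem (K.inv_mem κ₁.2) κ₂.2
      have h5 : (κ₁ : H)⁻¹ * (κ₂ : H) ∈ (P : Subgroup H) := by
        rw [h3]
        exact Subgroup.mul_mem _ (Subgroup.inv_mem _ (g κ₁).2) (g κ₂).2
      have h6 := Subgroup.disjoint_def.mp hcomp.disjoint h4 h5
      apply Subtype.ext
      calc (κ₁ : H) = (κ₁ : H) * ((κ₁ : H)⁻¹ * (κ₂ : H))⁻¹⁻¹ := by rw [h6]; group
        _ = (κ₂ : H) := by group
    have hbij : Function.Bijective f := Finite.injective_iff_bijective.mp hinj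
    rw [T_apply, map_sum]
    have hterm : ∀ κ : K, ρ h (τ κ a) = τ (f κ) a := by
      intro κ
      rw [hτ, hτ]
      have e1 : ρ h (ρ (κ : H) a) = ρ (h * (κ : H)) a := by rw [map_mul]; rfl
      rw [e1, ← hfg κ, map_mul]
      show ρ (f κ : H) (ρ (g κ : H) a) = ρ (f κ : H) a
      rw [hP _ (g κ).2]
    simp_rw [hterm]
    exact hbij.sum_comp (fun κ => τ κ a)
  have hspan_inv : ∀ v ∈ Submodule.span k {T τ a}, ∀ h : H, ρ h v = v := by
    intro v hv h
    obtain ⟨c, rfl⟩ := Submodule.mem_span_singleton.mp hv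
    rw [map_smul, hs₀]
  constructor
  · have h2 : ∀ x : V, T τ x ∈ Submodule.span k {T τ a} := by
      intro x
      have hx : x ∈ Submodule.span k {u : V | ∃ h : H, ρ h a = u} := by
        rw [hspan]; trivial
      induction hx using Submodule.span_induction with
      | mem u hu =>
        obtain ⟨h, rfl⟩ := hu
        rw [hTorb]
        exact Submodule.subset_span rfl
      | zero => rw [map_zero]; exact Submodule.zero_mem _
      | add x y _ _ hx hy => rw [map_add]; exact Submodule.add_mem _ hx hy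
      | smul c x _ hx => rw [map_smul]; exact Submodule.smul_mem _ c hx
    have hle : ρ.invariants ≤ Submodule.span k {T τ a} := by
      intro v hv
      have h1 := T_of_invariant τ v (fun κ => hv (κ : H))
      have : v = (Fintype.card K : k)⁻¹ • T τ v := by
        rw [h1, smul_smul, inv_mul_cancel₀ hcardK, one_smul]
      rw [this]
      exact Submodule.smul_mem _ _ (h2 v)
    calc Module.finrank k ρ.invariants
        ≤ Module.finrank k (Submodule.span k {T τ a}) := Submodule.finrank_mono hle
      _ ≤ 1 := by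
        refine (finrank_span_le_card ({T τ a} : Set V)).trans ?_
        simp
  · intro b hcop
    have htrans := stab_trans ρ a b hcop
    set B := stab ρ b with hB
    have hBsol : Cfsg.IsPSolvable p B := Cfsg.Agent.Helper23.PSolv.isPSolvable_subgroup B hsol
    obtain ⟨⟨K', hK'c, hK'i⟩, -, -⟩ := Cfsg.Agent.S3744.result hBsol
    obtain ⟨PB⟩ := (inferInstance : Nonempty (Sylow p B))
    have hcomp' := isComplement_pc K' hK'c hK'i PB
    -- a point of the orbit fixed by `PB`
    have hPBp : IsPGroup p ((PB : Subgroup B).map B.subtype) := PB.isPGroup'.map B.subtype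
    obtain ⟨Q, hQ⟩ := hPBp.exists_le_sylow
    obtain ⟨g, hg⟩ := MulAction.exists_smul_eq H P Q
    have hPBfix : ∀ π : (PB : Subgroup B), ρ ((π : B) : H) (ρ g a) = ρ g a := by
      intro π
      have h1 : ((π : B) : H) ∈ (Q : Subgroup H) := hQ ⟨(π : B), π.2, rfl⟩
      rw [← hg, Sylow.coe_subgroup_smul, Subgroup.mem_pointwise_smul_iff_inv_smul_mem] at h1
      have h2 : g⁻¹ * ((π : B) : H) * g ∈ (P : Subgroup H) := by
        have : (MulAut.conj g)⁻¹ • ((π : B) : H) = g⁻¹ * ((π : B) : H) * g := by
          rw [MulAut.smul_def, MulAut.conj_inv_apply]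
        rwa [this] at h1
      have h3 := hP _ h2
      have e1 : ρ ((π : B) : H) (ρ g a) = ρ g (ρ (g⁻¹ * ((π : B) : H) * g) a) := by
        rw [← Module.End.mul_apply, ← Module.End.mul_apply, ← map_mul, ← map_mul]
        congr 2
        group
      rw [e1, h3]
    haveI : Fintype K' := Fintype.ofFinite K'
    let τ' : Representation k K' V := ρ.comp (B.subtype.comp K'.subtype)
    have hτ' : ∀ (κ : K') (x : V), τ' κ x = ρ (((κ : B) : H)) x := fun κ x => rfl
    have hK'trans : ∀ h : H, ∃ κ : K', ρ h a = τ' κ (ρ g a) := by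
      intro h
      obtain ⟨β₁, hβ₁⟩ := htrans h
      obtain ⟨β₂, hβ₂⟩ := htrans g
      obtain ⟨⟨κ, π⟩, hκπ⟩ := hcomp'.2 (β₁ * β₂⁻¹)
      have hκπ' : ((κ : B) : H) * ((π : B) : H) = (β₁ : H) * (β₂ : H)⁻¹ := by
        have := congrArg (fun x : B => (x : H)) hκπ
        simpa using this
      refine ⟨κ, ?_⟩
      rw [hτ']
      have e1 : ρ h a = ρ ((β₁ : H) * (β₂ : H)⁻¹) (ρ g a) := by
        rw [← hβ₂, ← Module.End.mul_apply, ← map_mul, inv_mul_cancel_right, hβ₁]
      rw [e1, ← hκπ', map_mul]
      show ρ ((κ : B) : H) (ρ ((π : B) : H) (ρ g a)) = _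
      rw [hPBfix π]
    have hT'orb : ∀ h : H, T τ' (ρ h a) = T τ' (ρ g a) := by
      intro h
      obtain ⟨κ, hκ⟩ := hK'trans h
      rw [hκ, T_smul]
    have hcardK' : (Fintype.card K' : k) ≠ 0 := by
      rw [← Nat.card_eq_fintype_card]; exact hne _ hK'c
    -- compare
    have h1 : T τ' (T τ a) = (Fintype.card K : k) • T τ' (ρ g a) := by
      rw [T_apply τ a, map_sum]
      have : ∀ κ : K, T τ' (τ κ a) = T τ' (ρ g a) := fun κ => hT'orb (κ : H)
      simp_rw [this]
      rw [Finset.sum_const, Finset.card_univ, Nat.cast_smul_eq_nsmul]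
    have h2 : T τ' (T τ a) = (Fintype.card K' : k) • T τ a :=
      T_of_invariant τ' (T τ a) (fun κ => hs₀ _)
    have hw : T τ' (ρ g a) ∈ Submodule.span k {T τ a} := by
      have : T τ' (ρ g a) = (Fintype.card K : k)⁻¹ • ((Fintype.card K' : k) • T τ a) := by
        rw [← h2, h1, smul_smul, inv_mul_cancel₀ hcardK, one_smul]
      rw [this]
      exact Submodule.smul_mem _ _ (Submodule.smul_mem _ _ (Submodule.subset_span rfl))
    have h3 : ∀ x : V, T τ' x ∈ Submodule.span k {T τ a} := by
      intro x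
      have hx : x ∈ Submodule.span k {u : V | ∃ h : H, ρ h a = u} := by
        rw [hspan]; trivial
      induction hx using Submodule.span_induction with
      | mem u hu =>
        obtain ⟨h, rfl⟩ := hu
        rw [hT'orb]
        exact hw
      | zero => rw [map_zero]; exact Submodule.zero_mem _
      | add x y _ _ hx hy => rw [map_add]; exact Submodule.add_mem _ hx hy
      | smul c x _ hx => rw [map_smul]; exact Submodule.smul_mem _ c hx
    have hbK' : ∀ κ : K', τ' κ b = b := fun κ => (κ : B).2
    have h4 : T τ' b = (Fintype.card K' : k) • b := T_of_invariant τ' b hbK'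
    have h5 : b ∈ Submodule.span k {T τ a} := by
      have : b = (Fintype.card K' : k)⁻¹ • T τ' b := by
        rw [h4, smul_smul, inv_mul_cancel₀ hcardK', one_smul]
      rw [this]
      exact Submodule.smul_mem _ _ (h3 b)
    exact hspan_inv b h5

end Cfsg.Agent.S4176
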