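import Mathlib
import Cfsg.Statements.S4177
import Cfsg.Agent.Lib.Helper21.CosetFiber

set_option autoImplicit false
open Cfsg

namespace Cfsg.Agent.S4177

open Cfsg.Agent.Helper21

section general

variable {k V K : Type*} [Field k] [AddCommGroup V] [Module k V] [Group K] [Fintype K]

/-- The (unnormalised) sum operator of a representation. -/
noncomputable def T (τ : Representation k K V) : V →ₗ[k] V := ∑ κ : K, τ κ

theorem T_apply (τ : Representation k K V) (x : V) : T τ x = ∑ κ : K, τ κ x := by
  simp [T, LinearMap.sum_apply]

theorem T_smul (τ : Representation k K V) (g : K) (x : V) : T τ (τ g x) = T τ x := by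
  rw [T_apply, T_apply]
  have : ∀ κ, τ κ (τ g x) = τ (κ * g) x := fun κ => by rw [map_mul]; rfl
  simp_rw [this]
  exact Equiv.sum_comp (Equiv.mulRight g) (fun κ => τ κ x)

theorem smul_T (τ : Representation k K V) (g : K) (x : V) : τ g (T τ x) = T τ x := by
  rw [T_apply, map_sum]
  have : ∀ κ, τ g (τ κ x) = τ (g * κ) x := fun κ => by rw [map_mul]; rfl
  simp_rw [this]
  exact Equiv.sum_comp (Equiv.mulLeft g) (fun κ => τ κ x)

theorem T_of_invariant (τ : Representation k K V) (v : V) (hv : ∀ g, τ g v = v) :
    T τ v = (Fintype.card K : k) • v := by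
  rw [T_apply]
  simp_rw [hv]
  rw [Finset.sum_const, Finset.card_univ, Nat.cast_smul_eq_nsmul]

end general

/-- Let k be a field whose characteristic does not divide the order of the finite group H (for instance a field of characteristic zero), and ρ a k-linear representation of H on V. Let a be a vector whose H-orbit spans V. Then the space of H-fixed vectors has dimension at most 1, and every vector b whose H-orbit has size coprime to the size of the orbit of a is fixed by H. -/
theorem result {k V H : Type*} [Field k] [AddCommGroup V] [Module k V] [Group H] [Finite H]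
    (hchar : ¬ ringChar k ∣ Nat.card H) (ρ : Representation k H V) (a : V)
    (hspan : Submodule.span k {u : V | ∃ h : H, ρ h a = u} = ⊤) :
    Module.finrank k ρ.invariants ≤ 1 ∧
    ∀ b : V, (Nat.card {u : V | ∃ h : H, ρ h a = u}).Coprime (Nat.card {u : V | ∃ h : H, ρ h b = u}) → ∀ h : H, ρ h b = b := by
  classical
  have := Fintype.ofFinite H
  have hcard : ∀ n : ℕ, n ∣ Nat.card H → (n : k) ≠ 0 := by
    intro n hn h
    exact hchar (((ringChar.spec k n).mp h).trans hn)
  have hcardH : (Fintype.card H : k) ≠ 0 := by
    rw [← Nat.card_eq_fintype_card]; exact hcard _ dvd_rfl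
  constructor
  · -- invariants ≤ span {T ρ a}
    have h2 : ∀ x : V, T ρ x ∈ Submodule.span k {T ρ a} := by
      intro x
      have hx : x ∈ Submodule.span k {u : V | ∃ h : H, ρ h a = u} := by
        rw [hspan]; trivial
      induction hx using Submodule.span_induction with
      | mem u hu =>
        obtain ⟨h, rfl⟩ := hu
        rw [T_smul]
        exact Submodule.subset_span rfl
      | zero => rw [map_zero]; exact Submodule.zero_mem _
      | add x y _ _ hx hy => rw [map_add]; exact Submodule.add_mem _ hx hy
      | smul c x _ hx => rw [map_smul]; exact Submodule.smul_mem _ c hx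
    have hle : ρ.invariants ≤ Submodule.span k {T ρ a} := by
      intro v hv
      have h1 := T_of_invariant ρ v hv
      have : v = (Fintype.card H : k)⁻¹ • T ρ v := by
        rw [h1, smul_smul, inv_mul_cancel₀ hcardH, one_smul]
      rw [this]
      exact Submodule.smul_mem _ _ (h2 v)
    calc Module.finrank k ρ.invariants
        ≤ Module.finrank k (Submodule.span k {T ρ a}) := Submodule.finrank_mono hle
      _ ≤ 1 := by
        refine (finrank_span_le_card ({T ρ a} : Set V)).trans ?_
        simp
  · intro b hcop
    -- stabilizers
    let A : Subgroup H :=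
      { carrier := {h | ρ h a = a}
        mul_mem' := by
          intro x y hx hy
          show ρ (x * y) a = a
          rw [map_mul]
          show ρ x (ρ y a) = a
          rw [hy, hx]
        one_mem' := by show ρ 1 a = a; rw [map_one]; rfl
        inv_mem' := by
          intro x hx
          show ρ x⁻¹ a = a
          have : ρ x⁻¹ (ρ x a) = a := by
            rw [← Module.End.mul_apply, ← map_mul, inv_mul_cancel, map_one]; rfl
          rwa [hx] at this }
    let B : Subgroup H :=
      { carrier := {h | ρ h b = b}
        mul_mem' := by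
          intro x y hx hy
          show ρ (x * y) b = b
          rw [map_mul]
          show ρ x (ρ y b) = b
          rw [hy, hx]
        one_mem' := by show ρ 1 b = b; rw [map_one]; rfl
        inv_mem' := by
          intro x hx
          show ρ x⁻¹ b = b
          have : ρ x⁻¹ (ρ x b) = b := by
            rw [← Module.End.mul_apply, ← map_mul, inv_mul_cancel, map_one]; rfl
          rwa [hx] at this }
    have hfib : ∀ (c : V) (x y : H), ρ x c = ρ y c ↔ ρ (x⁻¹ * y) c = c := by
      intro c x y
      constructor
      · intro h
        rw [map_mul]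
        show ρ x⁻¹ (ρ y c) = c
        rw [← h, ← Module.End.mul_apply, ← map_mul, inv_mul_cancel, map_one]; rfl
      · intro h
        have : ρ x (ρ (x⁻¹ * y) c) = ρ y c := by
          rw [← Module.End.mul_apply, ← map_mul, mul_inv_cancel_left]
        rw [← this, h]
    have eA : Nat.card H = Nat.card A * Nat.card (Set.range (fun h : H => ρ h a)) :=
      card_eq_card_mul_card_range A (fun h : H => ρ h a) (fun x y => hfib a x y)
    have eB : Nat.card H = Nat.card B * Nat.card (Set.range (fun h : H => ρ h b)) :=
      card_eq_card_mul_card_range B (fun h : H => ρ h b) (fun x y => hfib b x y)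
    have eAB : Nat.card B = Nat.card (A.subgroupOf B) *
        Nat.card (Set.range (fun β : B => ρ (β : H) a)) :=
      card_eq_card_mul_card_range (A.subgroupOf B) (fun β : B => ρ (β : H) a)
        (fun x y => by
          rw [Subgroup.mem_subgroupOf]
          exact hfib a x y)
    -- notation
    set oa := Nat.card (Set.range (fun h : H => ρ h a)) with hoa
    set ob := Nat.card (Set.range (fun h : H => ρ h b)) with hob
    set r := Nat.card (Set.range (fun β : B => ρ (β : H) a)) with hr
    have hcop' : oa.Coprime ob := hcop
    -- γ ∣ α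
    have hγ : Nat.card (A.subgroupOf B) ∣ Nat.card A := by
      have : Nat.card (A.subgroupOf B) = Nat.card (A ⊓ B : Subgroup H) := by
        rw [← Subgroup.inf_subgroupOf_right]
        exact Nat.card_congr (Subgroup.subgroupOfEquivOfLe inf_le_right).toEquiv
      rw [this]
      exact Subgroup.card_dvd_of_le inf_le_left
    obtain ⟨δ, hδ⟩ := hγ
    have hγpos : 0 < Nat.card (A.subgroupOf B) := Nat.card_pos
    have hrel : δ * oa = r * ob := by
      have : Nat.card (A.subgroupOf B) * (δ * oa) = Nat.card (A.subgroupOf B) * (r * ob) := by
        calc Nat.card (A.subgroupOf B) * (δ * oa) = Nat.card A * oa := by rw [hδ]; ring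
          _ = Nat.card H := eA.symm
          _ = Nat.card B * ob := eB
          _ = Nat.card (A.subgroupOf B) * (r * ob) := by rw [eAB]; ring
      exact Nat.eq_of_mul_eq_mul_left hγpos this
    have hdvd : oa ∣ r := by
      have : oa ∣ r * ob := ⟨δ, by rw [← hrel]; ring⟩
      exact hcop'.dvd_of_dvd_mul_right this
    have hsub : Set.range (fun β : B => ρ (β : H) a) ⊆ Set.range (fun h : H => ρ h a) := by
      rintro _ ⟨β, rfl⟩
      exact ⟨β, rfl⟩
    have hfin : (Set.range (fun h : H => ρ h a)).Finite := Set.finite_range _
    have hrpos : 0 < r := by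
      rw [hr]
      haveI : Nonempty (Set.range (fun β : B => ρ (β : H) a)) := ⟨⟨_, ⟨1, rfl⟩⟩⟩
      haveI : Finite (Set.range (fun β : B => ρ (β : H) a)) := (Set.finite_range _).to_subtype
      exact Nat.card_pos
    have hle : oa ≤ r := Nat.le_of_dvd hrpos hdvd
    have heq : Set.range (fun β : B => ρ (β : H) a) = Set.range (fun h : H => ρ h a) := by
      apply Set.eq_of_subset_of_ncard_le hsub _ hfin
      rw [← Nat.card_coe_set_eq, ← Nat.card_coe_set_eq]
      exact hle
    have htrans : ∀ h : H, ∃ β : B, ρ (β : H) a = ρ h a := by
      intro h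
      have : ρ h a ∈ Set.range (fun β : B => ρ (β : H) a) := by
        rw [heq]; exact ⟨h, rfl⟩
      exact this
    -- the restricted representation
    let τ : Representation k B V := ρ.comp B.subtype
    have hτ : ∀ (β : B) (x : V), τ β x = ρ (β : H) x := fun β x => rfl
    -- T τ ∘ ρ h = T τ
    have hT : ∀ (h : H) (x : V), T τ (ρ h x) = T τ x := by
      intro h
      have : (T τ).comp (ρ h) = T τ := by
        apply LinearMap.ext_on hspan
        rintro u ⟨g, rfl⟩
        show T τ (ρ h (ρ g a)) = T τ (ρ g a)
        have e1 : ρ h (ρ g a) = ρ (h * g) a := by rw [map_mul]; rfl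
        obtain ⟨β₁, hβ₁⟩ := htrans (h * g)
        obtain ⟨β₂, hβ₂⟩ := htrans g
        rw [e1, ← hβ₁, ← hβ₂, ← hτ, ← hτ, T_smul, T_smul]
      intro x
      exact LinearMap.congr_fun this x
    have hcardB : (Fintype.card B : k) ≠ 0 := by
      rw [← Nat.card_eq_fintype_card]; exact hcard _ (Subgroup.card_subgroup_dvd_card B)
    have hbB : ∀ β : B, τ β b = b := fun β => β.2
    -- |B| • b = T τ b = T τ (ρ h b)
    have h1 : T τ b = (Fintype.card B : k) • b := T_of_invariant τ b hbB
    have h2 : T τ (T ρ b) = (Fintype.card H : k) • T τ b := by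
      rw [T_apply ρ b, map_sum]
      simp_rw [hT]
      rw [Finset.sum_const, Finset.card_univ, Nat.cast_smul_eq_nsmul]
    have h3 : T τ (T ρ b) = (Fintype.card B : k) • T ρ b :=
      T_of_invariant τ (T ρ b) (fun β => smul_T ρ (β : H) b)
    have h4 : (Fintype.card H : k) • b = T ρ b := by
      have : (Fintype.card B : k) • ((Fintype.card H : k) • b) = (Fintype.card B : k) • T ρ b := by
        rw [← h3, h2, h1, smul_comm]
      exact smul_right_injective V hcardB this
    intro h
    have h5 : b = (Fintype.card H : k)⁻¹ • T ρ b := by
      rw [← h4, smul_smul, inv_mul_cancel₀ hcardH, one_smul]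
    rw [h5, map_smul, smul_T]

end Cfsg.Agent.S4177
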