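import Mathlib
import Cfsg.Statements.S4178

set_option autoImplicit false
open Cfsg

namespace Cfsg.Agent.S4178

/-- Index bound from a map to a finite set which misses a point and separates cosets. -/
theorem index_le_of_map {K : Type*} [Group K] (R : Subgroup K) {X : Type*} [Finite X]
    (f : K → X) (x₀ : X) (hne : ∀ h, f h ≠ x₀) (hsep : ∀ a b, f a = f b → a⁻¹ * b ∈ R) :
    R.index ≤ Nat.card X - 1 := by
  classical
  have h1 : R.index = Nat.card (K ⧸ R) := rfl
  rw [h1]
  let g : (K ⧸ R) → {x : X // x ≠ x₀} := fun q => ⟨f q.out, hne _⟩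
  have hg : Function.Injective g := by
    intro q q' hqq
    have h2 : f q.out = f q'.out := congrArg Subtype.val hqq
    have h3 := hsep _ _ h2
    have h4 : (QuotientGroup.mk q.out : K ⧸ R) = QuotientGroup.mk q'.out :=
      QuotientGroup.eq.mpr h3
    rwa [QuotientGroup.out_eq', QuotientGroup.out_eq'] at h4
  have h5 := Nat.card_le_card_of_injective g hg
  have h6 : Nat.card {x : X // x ≠ x₀} = Nat.card X - 1 := by
    haveI := Fintype.ofFinite X
    rw [Nat.card_eq_fintype_card, Nat.card_eq_fintype_card]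
    have := Fintype.card_subtype_compl (fun x : X => x = x₀)
    rw [Fintype.card_subtype_eq] at this
    convert this
  omega

/-- Let F be a finite field with q elements, V a non-zero finite-dimensional F-space of dimension d, H a group of invertible linear maps of V, and R the subgroup of H generated by the elements of H that fix some non-zero vector (have eigenvalue 1). Then the index of R in H is at most q^d − 1; and if H leaves invariant some proper non-zero subspace, the index is at most q^(d/2) − 1. -/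
theorem result {F V : Type*} [Field F] [Fintype F] [AddCommGroup V] [Module F V] [FiniteDimensional F V] [Nontrivial V]
    (H : Subgroup (V ≃ₗ[F] V)) :
    (Subgroup.closure {h : ↥H | ∃ v : V, v ≠ 0 ∧ (h : V ≃ₗ[F] V) v = v}).index ≤ Fintype.card F ^ Module.finrank F V - 1 ∧
    ((∃ W : Submodule F V, W ≠ ⊥ ∧ W ≠ ⊤ ∧ ∀ h ∈ H, ∀ w ∈ W, h w ∈ W) →
      ((Subgroup.closure {h : ↥H | ∃ v : V, v ≠ 0 ∧ (h : V ≃ₗ[F] V) v = v}).index : ℝ) ≤ Real.sqrt ((Fintype.card F : ℝ) ^ Module.finrank F V) - 1) := by
  classical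
  set R := Subgroup.closure {h : ↥H | ∃ v : V, v ≠ 0 ∧ (h : V ≃ₗ[F] V) v = v} with hR
  haveI : Finite V := Module.finite_of_finite F
  have hcardV : Nat.card V = Fintype.card F ^ Module.finrank F V := by
    rw [Module.natCard_eq_pow_finrank (K := F), Nat.card_eq_fintype_card]
  have hq1 : 1 ≤ Fintype.card F := Fintype.card_pos
  constructor
  · obtain ⟨v₀, hv₀⟩ := exists_ne (0 : V)
    have := index_le_of_map R (X := V) (fun h => (h : V ≃ₗ[F] V) v₀) 0
      (fun h hh => hv₀ ((LinearEquiv.map_eq_zero_iff _).mp hh))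
      (fun a b hab => by
        apply Subgroup.subset_closure
        refine ⟨v₀, hv₀, ?_⟩
        show ((a⁻¹ * b : ↥H) : V ≃ₗ[F] V) v₀ = v₀
        have h1 : ((a⁻¹ * b : ↥H) : V ≃ₗ[F] V) v₀ = (a⁻¹ : ↥H).1 ((b : V ≃ₗ[F] V) v₀) := rfl
        rw [h1]
        have hab' : (a : V ≃ₗ[F] V) v₀ = (b : V ≃ₗ[F] V) v₀ := hab
        rw [← hab']
        have h2 : (a⁻¹ : ↥H).1 ((a : V ≃ₗ[F] V) v₀) = ((a⁻¹ * a : ↥H) : V ≃ₗ[F] V) v₀ := rfl
        rw [h2, inv_mul_cancel]
        rfl)
    rw [hcardV] at this
    exact this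
  · rintro ⟨W, hWbot, hWtop, hinv⟩
    -- nonzero vector in W, vector outside W
    obtain ⟨w₀, hw₀W, hw₀⟩ := (Submodule.ne_bot_iff W).mp hWbot
    obtain ⟨v₁, hv₁⟩ : ∃ v : V, v ∉ W := by
      by_contra hcon
      push Not at hcon
      exact hWtop (eq_top_iff.mpr (fun v _ => hcon v))
    have hact : ∀ (a b : ↥H) (v : V), ((a * b : ↥H) : V ≃ₗ[F] V) v = (a : V ≃ₗ[F] V) ((b : V ≃ₗ[F] V) v) :=
      fun a b v => rfl
    have hinvact : ∀ (a : ↥H) (v : V), ((a⁻¹ : ↥H) : V ≃ₗ[F] V) ((a : V ≃ₗ[F] V) v) = v := by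
      intro a v
      rw [← hact, inv_mul_cancel]
      rfl
    have hWinv : ∀ (a : ↥H) (w : V), w ∈ W → (a : V ≃ₗ[F] V) w ∈ W := fun a w hw => hinv a.1 a.2 w hw
    -- bound 1: via W
    have hb1 : R.index ≤ Nat.card W - 1 := by
      apply index_le_of_map R (X := W) (fun h => ⟨(h : V ≃ₗ[F] V) w₀, hWinv h w₀ hw₀W⟩) 0
      · intro h hh
        have : (h : V ≃ₗ[F] V) w₀ = 0 := congrArg Subtype.val hh
        exact hw₀ ((LinearEquiv.map_eq_zero_iff _).mp this)
      · intro a b hab
        have hab' : (a : V ≃ₗ[F] V) w₀ = (b : V ≃ₗ[F] V) w₀ := congrArg Subtype.val hab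
        apply Subgroup.subset_closure
        refine ⟨w₀, hw₀, ?_⟩
        show ((a⁻¹ * b : ↥H) : V ≃ₗ[F] V) w₀ = w₀
        rw [hact, ← hab', hinvact]
    -- bound 2: via V ⧸ W
    haveI : Finite (V ⧸ W) := Module.finite_of_finite F
    have hb2 : R.index ≤ Nat.card (V ⧸ W) - 1 := by
      apply index_le_of_map R (X := V ⧸ W) (fun h => Submodule.Quotient.mk ((h : V ≃ₗ[F] V) v₁)) 0
      · intro h hh
        rw [Submodule.Quotient.mk_eq_zero] at hh
        apply hv₁
        have := hWinv h⁻¹ _ hh
        rwa [hinvact] at this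
      · intro a b hab
        rw [Submodule.Quotient.eq] at hab
        -- c = a⁻¹ b satisfies v₁ - c v₁ ∈ W
        set c : ↥H := a⁻¹ * b with hc
        have hcv : v₁ - (c : V ≃ₗ[F] V) v₁ ∈ W := by
          have := hWinv a⁻¹ _ hab
          rw [map_sub, hinvact, ← hact] at this
          exact this
        -- c has a nonzero fixed vector
        by_contra hcR
        have hnofix : ∀ v : V, (c : V ≃ₗ[F] V) v = v → v = 0 := by
          intro v hv
          by_contra hv0
          exact hcR (Subgroup.subset_closure ⟨v, hv0, hv⟩)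
        -- the map (c - 1) restricted to W
        let T : V →ₗ[F] V := ((c : V ≃ₗ[F] V) : V →ₗ[F] V) - LinearMap.id
        have hTW : ∀ w ∈ W, T w ∈ W := by
          intro w hw
          show (c : V ≃ₗ[F] V) w - w ∈ W
          exact W.sub_mem (hWinv c w hw) hw
        let TW : W →ₗ[F] W := T.restrict hTW
        have hTinj : Function.Injective T := by
          rw [← LinearMap.ker_eq_bot, LinearMap.ker_eq_bot']
          intro v hv
          apply hnofix
          have : (c : V ≃ₗ[F] V) v - v = 0 := hv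
          exact sub_eq_zero.mp this
        have hTWinj : Function.Injective TW := by
          intro x y hxy
          apply Subtype.ext
          apply hTinj
          exact congrArg Subtype.val hxy
        have hTWsurj : Function.Surjective TW := LinearMap.surjective_of_injective hTWinj
        have hTv : T v₁ ∈ W := by
          have : T v₁ = -(v₁ - (c : V ≃ₗ[F] V) v₁) := by
            show (c : V ≃ₗ[F] V) v₁ - v₁ = _
            abel
          rw [this]
          exact W.neg_mem hcv
        obtain ⟨w, hw⟩ := hTWsurj ⟨T v₁, hTv⟩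
        have : T (w : V) = T v₁ := congrArg Subtype.val hw
        have := hTinj this
        exact hv₁ (this ▸ w.2)
    have hcW : Nat.card W = Fintype.card F ^ Module.finrank F W := by
      rw [Module.natCard_eq_pow_finrank (K := F), Nat.card_eq_fintype_card]
    have hcQ : Nat.card (V ⧸ W) = Fintype.card F ^ Module.finrank F (V ⧸ W) := by
      rw [Module.natCard_eq_pow_finrank (K := F), Nat.card_eq_fintype_card]
    have hdim := Submodule.finrank_quotient_add_finrank W
    set q := Fintype.card F with hq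
    set e := Module.finrank F W with he
    set e' := Module.finrank F (V ⧸ W) with he'
    set d := Module.finrank F V with hd
    set r := R.index with hr
    have hqe : 1 ≤ q ^ e := Nat.one_le_pow _ _ hq1
    have hqe' : 1 ≤ q ^ e' := Nat.one_le_pow _ _ hq1
    have h1 : r + 1 ≤ q ^ e := by rw [hcW] at hb1; omega
    have h2 : r + 1 ≤ q ^ e' := by rw [hcQ] at hb2; omega
    have h3 : (r + 1) ^ 2 ≤ q ^ d := by
      rw [← hdim, pow_add, pow_two]
      exact Nat.mul_le_mul h2 h1
    have h4 : ((r : ℝ) + 1) ^ 2 ≤ (q : ℝ) ^ d := by exact_mod_cast h3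
    have h5 : (r : ℝ) + 1 ≤ Real.sqrt ((q : ℝ) ^ d) := Real.le_sqrt_of_sq_le h4
    linarith

end Cfsg.Agent.S4178
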