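import Mathlib
import Cfsg.Statements.S4182

set_option autoImplicit false
open Cfsg

namespace Cfsg.Agent.S4182

open Pointwise

universe u v

section defs

variable {G : Type*} [Group G]

/-- elements of `p`-power order -/
def IsPElt (p : ℕ) (g : G) : Prop := ∃ k : ℕ, orderOf g = p ^ k

/-- the subgroup generated by the `p`-elements of `H` -/
def pGen (p : ℕ) (H : Subgroup G) : Subgroup G :=
  Subgroup.closure {g : G | g ∈ H ∧ IsPElt p g}

variable (p : ℕ)

theorem pGen_le (H : Subgroup G) : pGen p H ≤ H :=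
  (Subgroup.closure_le _).mpr (fun _ hg => hg.1)

theorem pGen_mono {H K : Subgroup G} (h : H ≤ K) : pGen p H ≤ pGen p K :=
  Subgroup.closure_mono (fun _ hg => ⟨h hg.1, hg.2⟩)

theorem pGen_pGen (H : Subgroup G) : pGen p (pGen p H) = pGen p H :=
  le_antisymm (pGen_le p _)
    ((Subgroup.closure_le _).mpr fun _ hg => Subgroup.subset_closure ⟨Subgroup.subset_closure hg, hg.2⟩)

theorem mem_pGen {H : Subgroup G} {g : G} (hg : g ∈ H) (hp : IsPElt p g) : g ∈ pGen p H :=
  Subgroup.subset_closure ⟨hg, hp⟩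

theorem isPElt_conj (x g : G) : IsPElt p ((MulAut.conj x)⁻¹ • g) ↔ IsPElt p g := by
  unfold IsPElt
  rw [MulAut.smul_def, MulEquiv.orderOf_eq]

theorem pGen_smul (x : G) (H : Subgroup G) :
    pGen p (MulAut.conj x • H) = MulAut.conj x • pGen p H := by
  unfold pGen
  rw [Subgroup.smul_closure]
  congr 1
  ext g
  rw [Set.mem_smul_set_iff_inv_smul_mem, Set.mem_setOf_eq, Set.mem_setOf_eq,
    Subgroup.mem_pointwise_smul_iff_inv_smul_mem, isPElt_conj]

theorem smul_eq_self_of_mem {H : Subgroup G} {x : G} (hx : x ∈ H) : MulAut.conj x • H = H := by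
  ext g
  rw [Subgroup.mem_pointwise_smul_iff_inv_smul_mem, MulAut.smul_def, ← map_inv, MulAut.conj_apply]
  constructor
  · intro h
    have := H.mul_mem (H.mul_mem hx h) (H.inv_mem hx)
    simpa [mul_assoc] using this
  · intro h
    exact H.mul_mem (H.mul_mem (H.inv_mem hx) h) (by simpa using hx)

theorem mem_normalizer_of_smul_eq {H : Subgroup G} {y : G} (h : MulAut.conj y • H = H) :
    y ∈ Subgroup.normalizer (H : Set G) := by
  rw [Subgroup.mem_normalizer_iff]
  intro g
  constructor
  · intro hg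
    have := Subgroup.smul_mem_pointwise_smul g (MulAut.conj y) H hg
    rw [h, MulAut.smul_def, MulAut.conj_apply] at this
    exact this
  · intro hg
    rw [← h, Subgroup.mem_pointwise_smul_iff_inv_smul_mem, MulAut.smul_def, ← map_inv,
      MulAut.conj_apply] at hg
    simpa [mul_assoc] using hg

end defs

/-- a finite `p`-group is not the union of `p` or fewer proper subgroups -/
theorem pgroup_cover {G : Type*} [Group G] [Finite G] {p : ℕ} [hp : Fact p.Prime]
    (hG : IsPGroup p G) {ι : Type*} [Fintype ι] (K : ι → Subgroup G) (hK : ∀ i, K i ≠ ⊤)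
    (hcov : ∀ g : G, ∃ i, g ∈ K i) : p + 1 ≤ Fintype.card ι := by
  classical
  haveI := Fintype.ofFinite G
  by_contra hlt
  have hle : Fintype.card ι ≤ p := by omega
  have hpp := hp.out
  -- each `K i` has at most `|G| / p` elements
  have hidx : ∀ i, p * Nat.card (K i) ≤ Nat.card G := by
    intro i
    have h1 := Subgroup.card_mul_index (K i)
    obtain ⟨m, hm⟩ := IsPGroup.iff_card.mp hG
    have hdvd : (K i).index ∣ p ^ m := by rw [← hm]; exact Subgroup.index_dvd_card _
    obtain ⟨e, -, he⟩ := (Nat.dvd_prime_pow hpp).mp hdvd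
    have he0 : e ≠ 0 := by
      rintro rfl
      rw [pow_zero, Subgroup.index_eq_one] at he
      exact hK i he
    have hpi : p ≤ (K i).index := by
      rw [he]
      calc p = p ^ 1 := (pow_one p).symm
        _ ≤ p ^ e := Nat.pow_le_pow_right hpp.pos (Nat.one_le_iff_ne_zero.mpr he0)
    calc p * Nat.card (K i) = Nat.card (K i) * p := mul_comm _ _
      _ ≤ Nat.card (K i) * (K i).index := Nat.mul_le_mul_left _ hpi
      _ = Nat.card G := h1
  have hne : Nonempty ι := by
    obtain ⟨i, -⟩ := hcov 1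
    exact ⟨i⟩
  obtain ⟨i₀⟩ := hne
  have hGp : p ≤ Nat.card G := by
    have := hidx i₀
    have hpos : 0 < Nat.card (K i₀) := Nat.card_pos
    nlinarith
  -- count the non-identity elements
  let S : ι → Finset G := fun i => (Finset.univ.filter (fun g => g ∈ K i)).erase 1
  have hsub : (Finset.univ : Finset G).erase 1 ⊆ Finset.univ.biUnion S := by
    intro g hg
    rw [Finset.mem_erase] at hg
    obtain ⟨i, hi⟩ := hcov g
    rw [Finset.mem_biUnion]
    refine ⟨i, Finset.mem_univ _, ?_⟩
    rw [Finset.mem_erase, Finset.mem_filter]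
    exact ⟨hg.1, Finset.mem_univ _, hi⟩
  have hcardS : ∀ i, (S i).card = Nat.card (K i) - 1 := by
    intro i
    have h1 : (1 : G) ∈ Finset.univ.filter (fun g => g ∈ K i) := by
      rw [Finset.mem_filter]; exact ⟨Finset.mem_univ _, (K i).one_mem⟩
    rw [Finset.card_erase_of_mem h1]
    congr 1
    rw [Nat.card_eq_fintype_card, Fintype.card_subtype]
  have h1 : Nat.card G - 1 ≤ ∑ i, (Nat.card (K i) - 1) := by
    calc Nat.card G - 1 = ((Finset.univ : Finset G).erase 1).card := by
          rw [Finset.card_erase_of_mem (Finset.mem_univ _), Finset.card_univ,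
            Nat.card_eq_fintype_card]
      _ ≤ (Finset.univ.biUnion S).card := Finset.card_le_card hsub
      _ ≤ ∑ i, (S i).card := Finset.card_biUnion_le
      _ = ∑ i, (Nat.card (K i) - 1) := by simp only [hcardS]
  have h2 : p * ∑ i, (Nat.card (K i) - 1) ≤ Fintype.card ι * (Nat.card G - p) := by
    rw [Finset.mul_sum]
    calc ∑ i, p * (Nat.card (K i) - 1) ≤ ∑ _i : ι, (Nat.card G - p) := by
          apply Finset.sum_le_sum
          intro i _
          have := hidx i
          rw [Nat.mul_sub, mul_one]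
          omega
      _ = Fintype.card ι * (Nat.card G - p) := by
          rw [Finset.sum_const, Finset.card_univ, smul_eq_mul]
  have h3 : p * (Nat.card G - 1) ≤ p * (Nat.card G - p) := by
    calc p * (Nat.card G - 1) ≤ p * ∑ i, (Nat.card (K i) - 1) := Nat.mul_le_mul_left _ h1
      _ ≤ Fintype.card ι * (Nat.card G - p) := h2
      _ ≤ p * (Nat.card G - p) := Nat.mul_le_mul_right _ hle
  have h4 := Nat.le_of_mul_le_mul_left h3 hpp.pos
  have := hpp.one_lt
  omega

theorem main (p : ℕ) [hp : Fact p.Prime] : ∀ (n : ℕ) (G : Type u) [Group G] [Finite G],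
    Nat.card G = n → Subgroup.closure {g : G | ∃ k : ℕ, orderOf g = p ^ k} = ⊤ →
    ∀ (ι : Type v) [Fintype ι] (K : ι → Subgroup G), (∀ i, K i ≠ ⊤) →
    (∀ g : G, (∃ k : ℕ, orderOf g = p ^ k) → ∃ i, g ∈ K i) → p + 1 ≤ Fintype.card ι := by
  intro n
  induction n using Nat.strong_induction_on with
  | _ n ih =>
  intro G _ _ hGn hgen ι _ K hK hcov
  classical
  have hpp := hp.out
  by_contra hlt
  have hle : Fintype.card ι ≤ p := by omega
  -- Step 1: proper `p`-generated subgroups lie in some `K i`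
  have step1 : ∀ H : Subgroup G, H ≠ ⊤ → pGen p H = H → ∃ i, H ≤ K i := by
    intro H hH hHg
    by_contra hno
    rw [not_exists] at hno
    have hcard : Nat.card H < n := by
      rw [← hGn]
      apply lt_of_le_of_ne (Subgroup.card_le_card_group H)
      intro h
      exact hH ((Subgroup.card_eq_iff_eq_top H).mp h)
    have hgenH : Subgroup.closure {g : ↥H | ∃ k : ℕ, orderOf g = p ^ k} = ⊤ := by
      apply Subgroup.map_injective H.subtype_injective
      rw [MonoidHom.map_closure, ← MonoidHom.range_eq_map, Subgroup.range_subtype]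
      conv_rhs => rw [← hHg]
      unfold pGen
      congr 1
      ext g
      constructor
      · rintro ⟨⟨g', hg'⟩, ⟨k, hk⟩, rfl⟩
        refine ⟨hg', k, ?_⟩
        rw [← hk]
        exact Subgroup.orderOf_coe (⟨g', hg'⟩ : ↥H)
      · rintro ⟨hg, k, hk⟩
        refine ⟨⟨g, hg⟩, ⟨k, ?_⟩, rfl⟩
        rw [← hk]
        exact (Subgroup.orderOf_coe (⟨g, hg⟩ : ↥H)).symm
    have := ih (Nat.card H) hcard ↥H rfl hgenH ι (fun i => (K i).subgroupOf H)
      (fun i h => hno i (Subgroup.subgroupOf_eq_top.mp h))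
      (by
        rintro ⟨g, hg⟩ ⟨k, hk⟩
        have hk' : orderOf g = p ^ k := by
          rw [← hk]
          exact Subgroup.orderOf_coe (⟨g, hg⟩ : ↥H)
        obtain ⟨i, hi⟩ := hcov g ⟨k, hk'⟩
        exact ⟨i, Subgroup.mem_subgroupOf.mpr hi⟩)
    exact hlt this
  -- the family of proper `p`-generated subgroups
  set PP : Set (Subgroup G) := {H | H ≠ ⊤ ∧ pGen p H = H} with hPPdef
  have hPPfin : PP.Finite := Set.toFinite _
  have hL : ∀ i, pGen p (K i) ∈ PP := by
    intro i
    refine ⟨?_, pGen_pGen p _⟩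
    intro h
    apply hK i
    rw [eq_top_iff, ← h]
    exact pGen_le p _
  -- Step 3: maximal members are of the form `pGen (K i)`
  have step3 : ∀ M : Subgroup G, Maximal (· ∈ PP) M → ∃ i, M = pGen p (K i) := by
    intro M hM
    obtain ⟨i, hi⟩ := step1 M hM.prop.1 hM.prop.2
    refine ⟨i, le_antisymm ?_ ?_⟩
    · rw [← hM.prop.2]
      exact pGen_mono p hi
    · apply hM.le_of_ge (hL i)
      rw [← hM.prop.2]
      exact pGen_mono p hi
  choose idx hidx using step3
  -- conjugates of maximal members are maximal members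
  have hconjPP : ∀ (x : G) (H : Subgroup G), H ∈ PP → MulAut.conj x • H ∈ PP := by
    intro x H hH
    refine ⟨?_, ?_⟩
    · intro h
      apply hH.1
      have : MulAut.conj x • H = MulAut.conj x • (⊤ : Subgroup G) := by
        rw [h]
        ext g
        simp [Subgroup.mem_pointwise_smul_iff_inv_smul_mem]
      exact smul_left_cancel _ this
    · rw [pGen_smul, hH.2]
  have hconjmax : ∀ (x : G) (M : Subgroup G), Maximal (· ∈ PP) M →
      Maximal (· ∈ PP) (MulAut.conj x • M) := by
    intro x M hM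
    refine ⟨hconjPP x M hM.prop, ?_⟩
    intro H hH hle'
    have h1 : M ≤ (MulAut.conj x)⁻¹ • H := by
      rw [← Subgroup.pointwise_smul_le_pointwise_smul_iff (a := MulAut.conj x), smul_inv_smul]
      exact hle'
    have h2 : (MulAut.conj x)⁻¹ • H ∈ PP := by
      rw [← map_inv]
      exact hconjPP x⁻¹ H hH
    have h3 := hM.le_of_ge h2 h1
    rw [← Subgroup.pointwise_smul_le_pointwise_smul_iff (a := MulAut.conj x), smul_inv_smul] at h3
    exact h3
  -- every `p`-element lies in a maximal member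
  have hexM : ∀ x : G, (∃ k : ℕ, orderOf x = p ^ k) → ∃ M, Maximal (· ∈ PP) M ∧ x ∈ M := by
    intro x hx
    obtain ⟨i, hi⟩ := hcov x hx
    obtain ⟨M, hLM, hM⟩ := hPPfin.exists_le_maximal (hL i)
    exact ⟨M, hM, hLM (mem_pGen p hi hx)⟩
  -- Step 4: `p`-elements normalize all maximal members
  have step4 : ∀ x : G, (∃ k : ℕ, orderOf x = p ^ k) → ∀ M' : Subgroup G, Maximal (· ∈ PP) M' →
      x ∈ Subgroup.normalizer (M' : Set G) := by
    intro x hx M' hM'
    obtain ⟨M, hM, hxM⟩ := hexM x hx
    by_cases hMM : M' = M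
    · rw [hMM]
      exact Subgroup.le_normalizer hxM
    -- the conjugates of `M'` by powers of `x` differ from `M`
    have hne : ∀ j : ℕ, MulAut.conj (x ^ j) • M' ≠ M := by
      intro j h
      apply hMM
      have h1 : MulAut.conj (x ^ j) • M' = MulAut.conj (x ^ j) • M := by
        rw [h, smul_eq_self_of_mem (M.pow_mem hxM j)]
      exact smul_left_cancel _ h1
    have hidxne : ∀ j : ℕ, idx _ (hconjmax (x ^ j) M' hM') ≠ idx M hM := by
      intro j h
      apply hne j
      rw [hidx _ (hconjmax (x ^ j) M' hM'), h, ← hidx M hM]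
    let f : Fin p → {i : ι // i ≠ idx M hM} :=
      fun j => ⟨idx _ (hconjmax (x ^ (j : ℕ)) M' hM'), hidxne j⟩
    have hcardlt : Fintype.card {i : ι // i ≠ idx M hM} < Fintype.card (Fin p) := by
      rw [Fintype.card_fin, Fintype.card_subtype_compl, Fintype.card_subtype_eq]
      have : 0 < Fintype.card ι := Fintype.card_pos_iff.mpr ⟨idx M hM⟩
      omega
    obtain ⟨j₁, j₂, hj, hf⟩ := Fintype.exists_ne_map_eq_of_card_lt f hcardlt
    have hf' : idx _ (hconjmax (x ^ (j₁ : ℕ)) M' hM') = idx _ (hconjmax (x ^ (j₂ : ℕ)) M' hM') :=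
      congrArg Subtype.val hf
    have heq : MulAut.conj (x ^ (j₁ : ℕ)) • M' = MulAut.conj (x ^ (j₂ : ℕ)) • M' := by
      rw [hidx _ (hconjmax (x ^ (j₁ : ℕ)) M' hM'), hf', ← hidx _ (hconjmax (x ^ (j₂ : ℕ)) M' hM')]
    -- a power `x ^ d` with `0 < d < p` normalizes `M'`
    have key : ∀ a b : ℕ, a < b → b < p → MulAut.conj (x ^ a) • M' = MulAut.conj (x ^ b) • M' →
        x ∈ Subgroup.normalizer (M' : Set G) := by
      intro a b hab hbp h
      have h1 : MulAut.conj (x ^ (b - a)) • M' = M' := by
        have : x ^ b = x ^ a * x ^ (b - a) := by rw [← pow_add]; congr 1; omega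
        rw [this, map_mul, mul_smul] at h
        exact (smul_left_cancel _ h).symm
      have h2 := mem_normalizer_of_smul_eq h1
      obtain ⟨k, hk⟩ := hx
      have hcop : Nat.Coprime (orderOf x) (b - a) := by
        rw [hk]
        apply Nat.Coprime.pow_left
        rw [Nat.Prime.coprime_iff_not_dvd hpp]
        intro hd
        have := Nat.le_of_dvd (by omega) hd
        omega
      have h3 : orderOf (x ^ (b - a)) = orderOf x := by
        rw [orderOf_pow, hcop.gcd_eq_one, Nat.div_one]
      have h4 : Subgroup.zpowers (x ^ (b - a)) = Subgroup.zpowers x := by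
        apply Subgroup.eq_of_le_of_card_ge
        · rw [Subgroup.zpowers_le]
          exact Subgroup.npow_mem_zpowers _ _
        · rw [Nat.card_zpowers, Nat.card_zpowers, h3]
      have h5 : x ∈ Subgroup.zpowers (x ^ (b - a)) := by
        rw [h4]; exact Subgroup.mem_zpowers x
      exact (Subgroup.zpowers_le.mpr h2) h5
    rcases lt_or_gt_of_ne (fun h => hj (Fin.ext h) : (j₁ : ℕ) ≠ (j₂ : ℕ)) with h | h
    · exact key j₁ j₂ h j₂.2 heq
    · exact key j₂ j₁ h j₁.2 heq.symm
  -- Step 5: maximal members are normal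
  have step5 : ∀ M' : Subgroup G, Maximal (· ∈ PP) M' → M'.Normal := by
    intro M' hM'
    rw [← Subgroup.normalizer_eq_top_iff, eq_top_iff, ← hgen, Subgroup.closure_le]
    intro x hx
    exact step4 x hx M' hM'
  -- Step 6: a Sylow subgroup
  obtain ⟨P⟩ : Nonempty (Sylow p G) := inferInstance
  by_cases hP : (P : Subgroup G) = ⊤
  · have hG : IsPGroup p G := by
      have := P.isPGroup'
      rw [hP] at this
      exact IsPGroup.of_equiv this Subgroup.topEquiv
    have hcov' : ∀ g : G, ∃ i, g ∈ K i := fun g => hcov g ((IsPGroup.iff_orderOf.mp hG) g)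
    exact hlt (pgroup_cover hG K hK hcov')
  · have hPPP : (P : Subgroup G) ∈ PP := by
      refine ⟨hP, le_antisymm (pGen_le p _) ?_⟩
      intro g hg
      apply mem_pGen p hg
      obtain ⟨k, hk⟩ := (IsPGroup.iff_orderOf.mp P.isPGroup') ⟨g, hg⟩
      refine ⟨k, ?_⟩
      rw [← hk]
      exact Subgroup.orderOf_coe (⟨g, hg⟩ : ↥(P : Subgroup G))
    obtain ⟨M, hPM, hM⟩ := hPPfin.exists_le_maximal hPPP
    have hMn := step5 M hM
    apply hM.prop.1
    rw [eq_top_iff, ← hgen, Subgroup.closure_le]
    rintro g ⟨k, hk⟩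
    have hgp : IsPGroup p (Subgroup.zpowers g) := by
      rw [IsPGroup.iff_card, Nat.card_zpowers]
      exact ⟨k, hk⟩
    obtain ⟨Q, hQ⟩ := hgp.exists_le_sylow
    obtain ⟨y, hy⟩ := MulAction.exists_smul_eq G P Q
    have hgQ : g ∈ (Q : Subgroup G) := hQ (Subgroup.mem_zpowers g)
    rw [← hy, Sylow.smul_def, Sylow.pointwise_smul_def] at hgQ
    have hgQ' : g ∈ MulAut.conj y • (P : Subgroup G) := hgQ
    rw [Subgroup.mem_pointwise_smul_iff_inv_smul_mem, MulAut.smul_def, ← map_inv,
      MulAut.conj_apply] at hgQ'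
    have h1 := hMn.conj_mem _ (hPM hgQ') y
    simpa [mul_assoc] using h1

/-- Let p be a prime and G a finite group generated by its p-elements. If a finite family of proper subgroups of G covers the set of p-elements of G (every element of p-power order lies in one of them), then the family has at least p + 1 members. -/
theorem result {G : Type*} [Group G] [Finite G] (p : ℕ) [Fact p.Prime] (hgen : Subgroup.closure {g : G | ∃ k : ℕ, orderOf g = p ^ k} = ⊤)
    {ι : Type*} [Fintype ι] (K : ι → Subgroup G) (hK : ∀ i, K i ≠ ⊤)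
    (hcov : ∀ g : G, (∃ k : ℕ, orderOf g = p ^ k) → ∃ i, g ∈ K i) :
    p + 1 ≤ Fintype.card ι :=
  main p _ G rfl hgen ι K hK hcov

end Cfsg.Agent.S4182
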