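import Mathlib
import Cfsg.Statements.S4186

set_option autoImplicit false
open Cfsg

namespace Cfsg.Agent.S4186

/-- Let T and X be subgroups of a group with T a finite 2-group normalizing X but not centralizing it. Then some element of T inverts some non-identity element of X under conjugation. -/
theorem result {G : Type*} [Group G] (T X : Subgroup G) [Finite ↥T] (hT : IsPGroup 2 ↥T) (hTN : T ≤ Subgroup.normalizer (X : Set G)) (hTC : ¬ T ≤ Subgroup.centralizer (X : Set G)) : ∃ t ∈ T, ∃ x ∈ X, x ≠ 1 ∧ t * x * t⁻¹ = x⁻¹ := by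
  classical
  -- pick t ∈ T not centralizing X
  obtain ⟨t, htT, htC⟩ := SetLike.not_le_iff_exists.mp hTC
  -- t has order 2^k
  obtain ⟨k, hk⟩ := hT ⟨t, htT⟩
  have hk' : t ^ 2 ^ k = 1 := by
    have := congrArg Subtype.val hk
    simpa using this
  -- find minimal j with t^(2^j) centralizing X
  have hex : ∃ j, t ^ 2 ^ j ∈ Subgroup.centralizer (X : Set G) := ⟨k, by rw [hk']; exact one_mem _⟩
  let j := Nat.find hex
  have hj : t ^ 2 ^ j ∈ Subgroup.centralizer (X : Set G) := Nat.find_spec hex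
  have hj0 : j ≠ 0 := by
    intro h0
    rw [h0] at hj
    simp at hj
    exact htC hj
  obtain ⟨i, hi⟩ := Nat.exists_eq_succ_of_ne_zero hj0
  have hinot : t ^ 2 ^ i ∉ Subgroup.centralizer (X : Set G) := by
    apply Nat.find_min hex
    show i < j
    omega
  set s := t ^ 2 ^ i with hs
  have hsT : s ∈ T := pow_mem htT _
  have hs2 : s ^ 2 ∈ Subgroup.centralizer (X : Set G) := by
    have : s ^ 2 = t ^ 2 ^ j := by
      rw [hs, ← pow_mul, hi, pow_succ]
    rw [this]; exact hj
  -- there is y ∈ X not commuting with s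
  rw [Subgroup.mem_centralizer_iff] at hinot
  push Not at hinot
  obtain ⟨y, hyX, hys⟩ := hinot
  have hsN : s ∈ Subgroup.normalizer (X : Set G) := hTN hsT
  have hsy : s * y * s⁻¹ ∈ X := (Subgroup.mem_normalizer_iff.mp hsN y).mp hyX
  refine ⟨s, hsT, y⁻¹ * (s * y * s⁻¹), X.mul_mem (X.inv_mem hyX) hsy, ?_, ?_⟩
  · intro h
    apply hys
    have : s * y * s⁻¹ = y := by
      have := congrArg (fun z => y * z) h
      simpa using this
    have h2 := congrArg (fun z => z * s) this
    simp at h2
    exact h2.symm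
  · have hc := Subgroup.mem_centralizer_iff.mp hs2 y hyX
    -- hc : y * s^2 = s^2 * y
    have hc' : s * s * y * s⁻¹ * s⁻¹ = y := by
      have : s * s * y = y * (s * s) := by
        rw [← pow_two]; exact hc.symm
      rw [this]; group
    calc s * (y⁻¹ * (s * y * s⁻¹)) * s⁻¹ = (s * y * s⁻¹)⁻¹ * (s * s * y * s⁻¹ * s⁻¹) := by group
      _ = (s * y * s⁻¹)⁻¹ * y := by rw [hc']
      _ = (y⁻¹ * (s * y * s⁻¹))⁻¹ := by group

end Cfsg.Agent.S4186
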