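import Cfsg.Statements.S4188
import Cfsg.Agent.Lib.Helper28.IrrTwoD

set_option autoImplicit false
open Cfsg

namespace Cfsg.Agent.S4188

/-- Let G be a finite group that is the semidirect product of a normal abelian subgroup N of odd order by a 2-subgroup P, and suppose N is the unique minimal normal subgroup of G. Then the index of the Frattini subgroup of P in P is at most #N − 1. -/
theorem result {G : Type*} [Group G] [Finite G] (N P : Subgroup G) (hN : N.Normal) (hNab : IsMulCommutative ↥N) (hNodd : Odd (Nat.card ↥N)) (hP : IsPGroup 2 ↥P) (hdisj : N ⊓ P = ⊥) (hprod : N ⊔ P = ⊤) (hmin : N ≠ ⊥ ∧ ∀ M : Subgroup G, M.Normal → M ≠ ⊥ → N ≤ M) : (frattini ↥P).index ≤ Nat.card ↥N - 1 := by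
  classical
  haveI := hN
  obtain ⟨hNne, hmin⟩ := hmin
  have hcomm : ∀ a b : ↥N, a * b = b * a := fun a b => hNab.is_comm.comm a b
  have hcommG : ∀ a ∈ N, ∀ b ∈ N, a * b = b * a := fun a ha b hb =>
    congrArg Subtype.val (hcomm ⟨a, ha⟩ ⟨b, hb⟩)
  -- a prime divisor of `|N|`
  have hcard1 : Nat.card ↥N ≠ 1 := fun h => hNne ((Subgroup.eq_bot_iff_card N).mpr h)
  obtain ⟨r, hr, hrd⟩ := Nat.exists_prime_and_dvd hcard1
  haveI : Fact r.Prime := ⟨hr⟩
  have hr2 : r ≠ 2 := by
    rintro rfl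
    exact (Nat.not_even_iff_odd.mpr hNodd) (even_iff_two_dvd.mpr hrd)
  -- `N` has exponent `r`
  let K : Subgroup G :=
    { carrier := {x | x ∈ N ∧ x ^ r = 1}
      one_mem' := ⟨N.one_mem, one_pow r⟩
      mul_mem' := by
        rintro a b ⟨ha, ha'⟩ ⟨hb, hb'⟩
        refine ⟨N.mul_mem ha hb, ?_⟩
        have hab : Commute a b := hcommG a ha b hb
        rw [hab.mul_pow, ha', hb', one_mul]
      inv_mem' := by
        rintro a ⟨ha, ha'⟩
        exact ⟨N.inv_mem ha, by rw [inv_pow, ha', inv_one]⟩ }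
  have hKn : K.Normal := by
    constructor
    rintro x ⟨hx, hx'⟩ g
    refine ⟨hN.conj_mem x hx g, ?_⟩
    rw [conj_pow, hx', mul_one, mul_inv_cancel]
  have hKne : K ≠ ⊥ := by
    obtain ⟨x, hx⟩ := exists_prime_orderOf_dvd_card' r hrd
    intro hK
    have hxK : (x : G) ∈ K := by
      refine ⟨x.2, ?_⟩
      rw [← Subgroup.coe_pow, ← hx, pow_orderOf_eq_one]
      rfl
    rw [hK, Subgroup.mem_bot] at hxK
    have hx1 : x = 1 := Subtype.ext hxK
    rw [hx1, orderOf_one] at hx
    exact hr.one_lt.ne hx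
  have hNK : N ≤ K := hmin K hKn hKne
  have hexp : ∀ a : ↥N, a ^ r = 1 := fun a => Subtype.ext (hNK a.2).2
  -- faithfulness
  have hfaith : ∀ g ∈ P, (∀ x ∈ N, g * x * g⁻¹ = x) → g = 1 := by
    intro g hgP hg
    let C : Subgroup G := P ⊓ Subgroup.centralizer (N : Set G)
    have hCn : C.Normal := by
      apply Cfsg.Agent.Helper28.IrrTwo.normal_of_sup_eq_top N P C hprod
      · intro n hn x hx
        have h1 : n * x = x * n := (Subgroup.mem_centralizer_iff.mp hx.2) n hn
        have h2 : n * x * n⁻¹ = x := by rw [h1, mul_inv_cancel_right]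
        rw [h2]
        exact hx
      · intro p hp x hx
        refine ⟨P.mul_mem (P.mul_mem hp hx.1) (P.inv_mem hp), ?_⟩
        exact (Subgroup.normal_centralizer (H := N)).conj_mem x hx.2 p
    have hgC : g ∈ C := by
      refine ⟨hgP, ?_⟩
      show g ∈ Subgroup.centralizer (N : Set G)
      rw [Subgroup.mem_centralizer_iff]
      intro x hx
      have := hg x hx
      calc x * g = g * x * g⁻¹ * g := by rw [this]
        _ = g * x := by group
    by_contra hg1
    have hCne : C ≠ ⊥ := by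
      intro hC
      rw [hC, Subgroup.mem_bot] at hgC
      exact hg1 hgC
    have hNC : N ≤ C := hmin C hCn hCne
    have hNP : N ≤ N ⊓ P := le_inf le_rfl (hNC.trans inf_le_left)
    rw [hdisj] at hNP
    exact hNne (le_bot_iff.mp hNP)
  -- irreducibility
  have hirr : ∀ M : Subgroup G, M ≤ N → (∀ g ∈ P, ∀ x ∈ M, g * x * g⁻¹ ∈ M) →
      M = ⊥ ∨ M = N := by
    intro M hMN hMP
    have hMn : M.Normal := by
      apply Cfsg.Agent.Helper28.IrrTwo.normal_of_sup_eq_top N P M hprod _ hMP
      intro n hn x hx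
      have h1 : n * x = x * n := hcommG n hn x (hMN hx)
      have h2 : n * x * n⁻¹ = x := by rw [h1, mul_inv_cancel_right]
      rw [h2]
      exact hx
    by_cases hM : M = ⊥
    · exact Or.inl hM
    · exact Or.inr (le_antisymm hMN (hmin M hMn hM))
  exact Cfsg.Agent.Helper28.IrrTwo.frattini_index_le_of_conj_action N P hcomm r hr2 hexp hNne hP
    hfaith hirr

end Cfsg.Agent.S4188
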