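import Mathlib
import Cfsg.Statements.S4195

set_option autoImplicit false
open Cfsg

namespace Cfsg.Agent.S4195

/-- If `g` inverts `x` by conjugation and the centralizer of `x` has odd index, then `g` centralizes `x`. -/
theorem mem_centralizer_of_inverts {G : Type*} [Group G] [Finite G] (x g : G)
    (hodd : ¬ 2 ∣ (Subgroup.centralizer ({x} : Set G)).index)
    (hg : g * x * g⁻¹ = x⁻¹) : g ∈ Subgroup.centralizer ({x} : Set G) := by
  set C := Subgroup.centralizer ({x} : Set G) with hC
  by_contra hgC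
  have hg' : g⁻¹ * x * g = x⁻¹ := by
    have h1 : x = g⁻¹ * x⁻¹ * g := by rw [← hg]; group
    have h2 : x⁻¹ = (g⁻¹ * x⁻¹ * g)⁻¹ := by rw [← h1]
    rw [h2]; group
  have memC : ∀ h : G, h ∈ C ↔ x * h = h * x := fun h => by
    rw [hC, Subgroup.mem_centralizer_singleton_iff]
    exact eq_comm
  have hgN : g ∈ Subgroup.normalizer (C : Set G) := by
    rw [Subgroup.mem_normalizer_iff]
    intro h
    rw [memC, memC]
    constructor
    · intro hh
      have hh' : x⁻¹ * h = h * x⁻¹ := by
        have := congrArg (fun z => x⁻¹ * z * x⁻¹) hh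
        beta_reduce at this
        rw [show x⁻¹ * (x * h) * x⁻¹ = h * x⁻¹ by group, show x⁻¹ * (h * x) * x⁻¹ = x⁻¹ * h by group] at this
        exact this.symm
      have e1 : x * (g * h * g⁻¹) = g * (g⁻¹ * x * g) * h * g⁻¹ := by group
      have e2 : g * h * g⁻¹ * x = g * h * (g⁻¹ * x * g) * g⁻¹ := by group
      rw [e1, e2, hg', mul_assoc g, hh']
      group
    · intro hh
      -- conjugate back
      have hh2 : g⁻¹ * (x * (g * h * g⁻¹)) * g = g⁻¹ * (g * h * g⁻¹ * x) * g := by rw [hh]
      have e1 : g⁻¹ * (x * (g * h * g⁻¹)) * g = (g⁻¹ * x * g) * h := by group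
      have e2 : g⁻¹ * (g * h * g⁻¹ * x) * g = h * (g⁻¹ * x * g) := by group
      rw [e1, e2, hg'] at hh2
      -- hh2 : x⁻¹ * h = h * x⁻¹
      have := congrArg (fun z => x * z * x) hh2
      beta_reduce at this
      rw [show x * (x⁻¹ * h) * x = h * x by group, show x * (h * x⁻¹) * x = x * h by group] at this
      exact this.symm
  have hg2 : g ^ 2 ∈ C := by
    rw [memC]
    have : g ^ 2 * x * (g ^ 2)⁻¹ = x := by
      have : g ^ 2 * x * (g ^ 2)⁻¹ = g * (g * x * g⁻¹) * g⁻¹ := by rw [pow_two]; group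
      rw [this, hg]
      have : g * x⁻¹ * g⁻¹ = (g * x * g⁻¹)⁻¹ := by group
      rw [this, hg, inv_inv]
    have h2 := congrArg (fun z => z * g ^ 2) this
    simp only [inv_mul_cancel_right] at h2
    exact h2.symm
  -- quotient N/C
  let N := Subgroup.normalizer (C : Set G)
  let q : N ⧸ C.subgroupOf N := QuotientGroup.mk ⟨g, hgN⟩
  have hq1 : q ≠ 1 := by
    intro h
    rw [QuotientGroup.eq_one_iff] at h
    exact hgC h
  have hq2 : q ^ 2 = 1 := by
    show (QuotientGroup.mk (⟨g, hgN⟩ : N) : N ⧸ C.subgroupOf N) ^ 2 = 1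
    rw [← QuotientGroup.mk_pow, QuotientGroup.eq_one_iff]
    exact hg2
  have hord : orderOf q = 2 := orderOf_eq_prime hq2 hq1
  have hdvd : 2 ∣ Nat.card (N ⧸ C.subgroupOf N) := hord ▸ orderOf_dvd_natCard q
  have hidx : Nat.card (N ⧸ C.subgroupOf N) = C.relIndex N := rfl
  rw [hidx] at hdvd
  exact hodd (dvd_trans hdvd (Subgroup.relIndex_dvd_index_of_le Subgroup.le_normalizer))

/-- Let x be a non-identity element of a finite group G whose centralizer contains a Sylow 2-subgroup of G. If x is conjugate to its inverse, then x has order 2. -/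
theorem result {G : Type*} [Group G] [Finite G] (x : G) (hx : x ≠ 1) (P : Sylow 2 G) (hP : (P : Subgroup G) ≤ Subgroup.centralizer ({x} : Set G)) (hreal : IsConj x x⁻¹) : orderOf x = 2 := by
  have hodd : ¬ 2 ∣ (Subgroup.centralizer ({x} : Set G)).index := fun h =>
    P.not_dvd_index (dvd_trans h (Subgroup.index_dvd_of_le hP))
  obtain ⟨g, hg⟩ := isConj_iff.mp hreal
  have hgC := mem_centralizer_of_inverts x g hodd hg
  rw [Subgroup.mem_centralizer_singleton_iff] at hgC
  -- hgC : g * x = x * g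
  have hxx : x = x⁻¹ := by
    rw [← hg, hgC]; group
  have hx2 : x ^ 2 = 1 := by
    rw [pow_two]
    nth_rewrite 1 [hxx]
    group
  exact orderOf_eq_prime hx2 hx

end Cfsg.Agent.S4195
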