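import Mathlib
import Cfsg.Statements.S4196
import Cfsg.Agent.S4195
import Cfsg.Agent.S4347

set_option autoImplicit false
open Cfsg

namespace Cfsg.Agent.S4196

/-- A finite group G has elementary abelian Sylow 2-subgroups (commutative with every element squaring to the identity) if and only if every 2-element of G has a Sylow 2-subgroup in its centralizer and is conjugate to its inverse. -/
theorem result {G : Type*} [Group G] [Finite G] (P : Sylow 2 G) :
    (IsMulCommutative (P : Subgroup G) ∧ ∀ x ∈ (P : Subgroup G), x ^ 2 = 1) ↔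
      ∀ x : G, (∃ k : ℕ, orderOf x = 2 ^ k) → (∃ Q : Sylow 2 G, (Q : Subgroup G) ≤ Subgroup.centralizer ({x} : Set G)) ∧ IsConj x x⁻¹ := by
  constructor
  · rintro ⟨hcomm, hexp⟩ x ⟨k, hk⟩
    have hpg : IsPGroup 2 (Subgroup.zpowers x) := by
      apply IsPGroup.of_card (n := k)
      rw [Nat.card_zpowers, hk]
    obtain ⟨R, hR⟩ := hpg.exists_le_sylow
    have hxR : x ∈ R := hR (Subgroup.mem_zpowers x)
    obtain ⟨g, hg⟩ := MulAction.exists_smul_eq G P R
    rw [← hg, Cfsg.Agent.S4347.mem_smul_sylow] at hxR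
    -- x' = g⁻¹ x g ∈ P
    constructor
    · refine ⟨g • P, ?_⟩
      intro y hy
      have hy' : g⁻¹ * y * g ∈ P := (Cfsg.Agent.S4347.mem_smul_sylow g y P).mp hy
      rw [Subgroup.mem_centralizer_singleton_iff]
      have hc := setLike_mul_comm (s := (P : Subgroup G)) hy' hxR
      -- hc : g⁻¹ y g * (g⁻¹ x g) = g⁻¹ x g * (g⁻¹ y g)
      have := congrArg (fun z => g * z * g⁻¹) hc
      beta_reduce at this
      rw [show g * (g⁻¹ * y * g * (g⁻¹ * x * g)) * g⁻¹ = y * x by group,
        show g * (g⁻¹ * x * g * (g⁻¹ * y * g)) * g⁻¹ = x * y by group] at this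
      exact this
    · have h2 := hexp _ hxR
      have hx2 : x ^ 2 = 1 := by
        have : (g⁻¹ * x * g) ^ 2 = g⁻¹ * x ^ 2 * g := by
          rw [pow_two, pow_two]; group
        rw [this] at h2
        have := congrArg (fun z => g * z * g⁻¹) h2
        beta_reduce at this
        rw [show g * (g⁻¹ * x ^ 2 * g) * g⁻¹ = x ^ 2 by group] at this
        simpa using this
      have : x⁻¹ = x := by
        rw [inv_eq_iff_mul_eq_one, ← pow_two, hx2]
      rw [this]
  · intro h
    have hexp : ∀ x ∈ (P : Subgroup G), x ^ 2 = 1 := by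
      intro x hx
      by_cases hx1 : x = 1
      · rw [hx1]; simp
      · obtain ⟨k, hk⟩ := P.2 ⟨x, hx⟩
        have hk' : x ^ 2 ^ k = 1 := by
          have := congrArg Subtype.val hk
          rwa [Subgroup.coe_pow, Subgroup.coe_one] at this
        have hord : ∃ j, orderOf x = 2 ^ j := by
          have := orderOf_dvd_of_pow_eq_one hk'
          obtain ⟨j, _, hj⟩ := (Nat.dvd_prime_pow Nat.prime_two).mp this
          exact ⟨j, hj⟩
        obtain ⟨⟨Q, hQ⟩, hreal⟩ := h x hord
        have := Cfsg.Agent.S4195.result x hx1 Q hQ hreal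
        rw [← this, pow_orderOf_eq_one]
    refine ⟨?_, hexp⟩
    apply IsMulCommutative.of_comm
    rintro ⟨a, ha⟩ ⟨b, hb⟩
    apply Subtype.ext
    show a * b = b * a
    have hab := hexp (a * b) (Subgroup.mul_mem _ ha hb)
    have ha2 := hexp a ha
    have hb2 := hexp b hb
    have : a * b = b⁻¹ * a⁻¹ := by
      rw [pow_two] at hab
      have := eq_inv_of_mul_eq_one_left hab
      rw [this]; group
    rw [this]
    have ha' : a⁻¹ = a := by rw [inv_eq_iff_mul_eq_one, ← pow_two, ha2]
    have hb' : b⁻¹ = b := by rw [inv_eq_iff_mul_eq_one, ← pow_two, hb2]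
    rw [ha', hb']

end Cfsg.Agent.S4196
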