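import Cfsg.Agent.Lib.Helper22.AltClasses
import Cfsg.Agent.Lib.Helper22.PartitionBound
import Cfsg.Statements.S4198
-- import your own Cfsg.Agent.* helpers here

set_option autoImplicit false
open Cfsg

namespace Cfsg.Agent.S4198

theorem card_conjClasses_le (n : ℕ) :
    Fintype.card (ConjClasses (Equiv.Perm (Fin n))) ≤ Fintype.card (Nat.Partition n) := by
  have key : ∀ m, m = Fintype.card (Fin n) →
      Fintype.card (ConjClasses (Equiv.Perm (Fin n))) ≤ Fintype.card (Nat.Partition m) := by
    intro m hm
    subst hm
    apply Fintype.card_le_of_injective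
      (fun c : ConjClasses (Equiv.Perm (Fin n)) => (Quotient.out c).partition)
    intro c c' h
    have h1 : IsConj (Quotient.out c) (Quotient.out c') := Equiv.Perm.partition_eq_of_isConj.mpr h
    rw [← Cfsg.Agent.Helper22.AltClasses.mk_out c, ← Cfsg.Agent.Helper22.AltClasses.mk_out c',
      ConjClasses.mk_eq_mk_iff_isConj]
    exact h1
  exact key n (Fintype.card_fin n).symm

/-- For n ≥ 5 the alternating group of degree n has strictly fewer conjugacy classes than the symmetric group of degree n, and the symmetric group of degree n (whose classes correspond to the partitions of n) has at most 2^(n−2) conjugacy classes. -/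
theorem result (n : ℕ) (hn : 5 ≤ n) : Nat.card (ConjClasses (alternatingGroup (Fin n))) < Nat.card (ConjClasses (Equiv.Perm (Fin n))) ∧ Nat.card (ConjClasses (Equiv.Perm (Fin n))) ≤ 2 ^ (n - 2) := by
  rw [Nat.card_eq_fintype_card, Nat.card_eq_fintype_card]
  refine ⟨Cfsg.Agent.Helper22.AltClasses.card_conjClasses_lt (by rw [Fintype.card_fin]; exact hn), ?_⟩
  exact (card_conjClasses_le n).trans (Cfsg.Agent.Helper22.PartBound.card_partition_le n hn)

end Cfsg.Agent.S4198
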