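import Mathlib
import Cfsg.Statements.S4200
import Cfsg.Agent.Lib.Helper21.FittingSubgroup

set_option autoImplicit false
open Cfsg

namespace Cfsg.Agent.S4200

open Cfsg.Agent.Helper21

variable {X : Type*} [Group X]

theorem card_commute_subgroup (K : Subgroup X) (a : X) :
    Nat.card {b : K // Commute a (b : X)} =
      Nat.card (K ⊓ Subgroup.centralizer {a} : Subgroup X) := by
  apply Nat.card_congr
  refine
    { toFun := fun b => ⟨b.1.1, b.1.2, ?_⟩
      invFun := fun c => ⟨⟨c.1, c.2.1⟩, ?_⟩
      left_inv := fun b => rfl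
      right_inv := fun c => rfl }
  · show (b.1 : X) ∈ Subgroup.centralizer {a}
    rw [Subgroup.mem_centralizer_iff]
    intro h hh
    rw [Set.mem_singleton_iff] at hh
    subst hh
    exact b.2
  · have : (c : X) ∈ Subgroup.centralizer {a} := c.2.2
    rw [Subgroup.mem_centralizer_iff] at this
    exact this a rfl

theorem card_commute_top (a : X) :
    Nat.card {b : X // Commute a b} = Nat.card (Subgroup.centralizer ({a} : Set X)) := by
  apply Nat.card_congr
  refine
    { toFun := fun b => ⟨b.1, ?_⟩
      invFun := fun c => ⟨c.1, ?_⟩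
      left_inv := fun b => rfl
      right_inv := fun c => rfl }
  · rw [Subgroup.mem_centralizer_iff]
    intro h hh
    rw [Set.mem_singleton_iff] at hh
    subst hh
    exact b.2
  · have := c.2
    rw [Subgroup.mem_centralizer_iff] at this
    exact this a rfl

theorem card_le_index_mul [Finite X] (Y C : Subgroup X) :
    Nat.card C ≤ Y.index * Nat.card (Y ⊓ C : Subgroup X) := by
  rw [← card_inf_mul_relIndex Y C, mul_comm]
  apply Nat.mul_le_mul_right
  rw [← Subgroup.relIndex_top_right]
  apply Subgroup.relIndex_le_of_le_right le_top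
  rw [Subgroup.relIndex_top_right]
  exact Subgroup.index_ne_zero_of_finite

theorem relIndex_lt_index [Finite X] (Y C : Subgroup X) (g : X)
    (hg : ∀ c ∈ C, c⁻¹ * g ∉ Y) : Y.relIndex C < Y.index := by
  classical
  let f : C ⧸ Y.subgroupOf C → X ⧸ Y :=
    Quotient.map' Subtype.val fun a b => by
      simp_rw [QuotientGroup.leftRel_eq]
      exact id
  have hf : Function.Injective f := by
    refine Quotient.ind₂' ?_
    intro a b h
    simpa only [f, Quotient.map'_mk'', QuotientGroup.eq] using! h
  have hns : (QuotientGroup.mk g : X ⧸ Y) ∉ Set.range f := by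
    rintro ⟨q, hq⟩
    induction q using QuotientGroup.induction_on with
    | H c =>
      have : (QuotientGroup.mk (c : X) : X ⧸ Y) = QuotientGroup.mk g := hq
      rw [QuotientGroup.eq] at this
      exact hg c.1 c.2 this
  have := Fintype.ofFinite (C ⧸ Y.subgroupOf C)
  have := Fintype.ofFinite (X ⧸ Y)
  have := Fintype.card_lt_of_injective_of_notMem f hf hns
  rw [Subgroup.relIndex, Subgroup.index, Subgroup.index, Nat.card_eq_fintype_card,
    Nat.card_eq_fintype_card]
  exact this

theorem card_lt_index_mul [Finite X] (Y C : Subgroup X) (g : X)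
    (hg : ∀ c ∈ C, c⁻¹ * g ∉ Y) :
    Nat.card C < Y.index * Nat.card (Y ⊓ C : Subgroup X) := by
  rw [← card_inf_mul_relIndex Y C, mul_comm]
  apply Nat.mul_lt_mul_of_pos_right (relIndex_lt_index Y C g hg) Nat.card_pos

/-- Number of commuting pairs in `X × Y`, counted two ways. -/
theorem sum_comm [Finite X] (Y : Subgroup X) :
    ∑ᶠ a : X, Nat.card {b : Y // Commute a (b : X)} =
      ∑ᶠ b : Y, Nat.card {a : X // Commute (b : X) a} := by
  classical
  have := Fintype.ofFinite X
  have := Fintype.ofFinite Y
  rw [finsum_eq_sum_of_fintype, finsum_eq_sum_of_fintype, ← Nat.card_sigma, ← Nat.card_sigma]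
  apply Nat.card_congr
  exact
    { toFun := fun p => ⟨p.2.1, ⟨p.1, p.2.2.symm⟩⟩
      invFun := fun p => ⟨p.2.1, ⟨p.1, p.2.2.symm⟩⟩
      left_inv := fun p => rfl
      right_inv := fun p => rfl }

theorem card_conj_mul (G : Type*) [Group G] [Finite G] :
    Nat.card (ConjClasses G) * Nat.card G = ∑ᶠ a : G, Nat.card {b : G // Commute a b} := by
  classical
  have := Fintype.ofFinite G
  rw [← card_comm_eq_card_conjClasses_mul_card, finsum_eq_sum_of_fintype, ← Nat.card_sigma]
  exact Nat.card_congr (Equiv.subtypeProdEquivSigmaSubtype Commute)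

/-- Let Y be a subgroup of the finite group X, of index m. Then the numbers of conjugacy classes satisfy k(Y) ≤ m·k(X) and k(X) ≤ m·k(Y), and the second inequality is strict unless Y is normal in X. -/
theorem result {X : Type*} [Group X] [Finite X] (Y : Subgroup X) : Nat.card (ConjClasses Y) ≤ Y.index * Nat.card (ConjClasses X) ∧ Nat.card (ConjClasses X) ≤ Y.index * Nat.card (ConjClasses Y) ∧ (¬ Y.Normal → Nat.card (ConjClasses X) < Y.index * Nat.card (ConjClasses Y)) := by
  classical
  have := Fintype.ofFinite X
  have := Fintype.ofFinite Y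
  have hm : 0 < Y.index := Nat.pos_of_ne_zero Subgroup.index_ne_zero_of_finite
  have hY : 0 < Nat.card Y := Nat.card_pos
  have hXY : Nat.card X = Nat.card Y * Y.index := (Subgroup.card_mul_index Y).symm
  -- key quantities
  set N := ∑ᶠ a : X, Nat.card {b : Y // Commute a (b : X)} with hN
  have hX := card_conj_mul X
  have hYc := card_conj_mul Y
  -- bound 1 : c(X) ≤ m * N
  have h1 : Nat.card (ConjClasses X) * Nat.card X ≤ Y.index * N := by
    rw [hX, hN, finsum_eq_sum_of_fintype, finsum_eq_sum_of_fintype, Finset.mul_sum]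
    apply Finset.sum_le_sum
    intro a _
    rw [card_commute_top, card_commute_subgroup]
    exact card_le_index_mul Y _
  -- elementwise identity for Y
  have hcomm : ∀ b : Y, Nat.card {a : Y // Commute b a} =
      Nat.card {a : Y // Commute (b : X) (a : X)} := by
    intro b
    apply Nat.card_congr
    refine Equiv.subtypeEquivRight ?_
    intro a
    constructor
    · intro h
      have := congrArg Subtype.val h.eq
      show (b : X) * (a : X) = (a : X) * (b : X)
      simpa using this
    · intro h
      show b * a = a * b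
      apply Subtype.ext
      have := h.eq
      simpa using this
  -- bound 2 : N ≤ m * c(Y)
  have h2 : N ≤ Y.index * (Nat.card (ConjClasses Y) * Nat.card Y) := by
    rw [hYc, hN, sum_comm, finsum_eq_sum_of_fintype, finsum_eq_sum_of_fintype, Finset.mul_sum]
    apply Finset.sum_le_sum
    intro b _
    rw [hcomm, card_commute_top, card_commute_subgroup]
    exact card_le_index_mul Y _
  -- bound 0 : c(Y) ≤ c(X)
  have h0 : Nat.card (ConjClasses Y) * Nat.card Y ≤ Nat.card (ConjClasses X) * Nat.card X := by
    rw [← card_comm_eq_card_conjClasses_mul_card, ← card_comm_eq_card_conjClasses_mul_card]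
    refine Nat.card_le_card_of_injective
      (fun p ↦ ⟨⟨p.1.1, p.1.2⟩, Subtype.ext_iff.mp p.2⟩) ?_
    exact fun p q h ↦ by simpa only [Subtype.ext_iff, Prod.ext_iff] using h
  refine ⟨?_, ?_, ?_⟩
  · -- k(Y) |Y| ≤ k(X) |Y| m
    have : Nat.card (ConjClasses Y) * Nat.card Y ≤
        (Y.index * Nat.card (ConjClasses X)) * Nat.card Y := by
      calc Nat.card (ConjClasses Y) * Nat.card Y ≤ Nat.card (ConjClasses X) * Nat.card X := h0
        _ = (Y.index * Nat.card (ConjClasses X)) * Nat.card Y := by rw [hXY]; ring
    exact Nat.le_of_mul_le_mul_right this hY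
  · have : Nat.card (ConjClasses X) * (Nat.card Y * Y.index) ≤
        (Y.index * Nat.card (ConjClasses Y)) * (Nat.card Y * Y.index) := by
      calc Nat.card (ConjClasses X) * (Nat.card Y * Y.index)
          = Nat.card (ConjClasses X) * Nat.card X := by rw [hXY]
        _ ≤ Y.index * N := h1
        _ ≤ Y.index * (Y.index * (Nat.card (ConjClasses Y) * Nat.card Y)) :=
            Nat.mul_le_mul_left _ h2
        _ = (Y.index * Nat.card (ConjClasses Y)) * (Nat.card Y * Y.index) := by ring
    exact Nat.le_of_mul_le_mul_right this (Nat.mul_pos hY hm)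
  · intro hnorm
    -- find b ∈ Y, g with g b g⁻¹ ∉ Y
    have : ∃ b ∈ Y, ∃ g : X, g * b * g⁻¹ ∉ Y := by
      by_contra hcon
      push Not at hcon
      exact hnorm ⟨fun n hn g => hcon n hn g⟩
    obtain ⟨b, hb, g, hg⟩ := this
    have h2' : N < Y.index * (Nat.card (ConjClasses Y) * Nat.card Y) := by
      rw [hYc, hN, sum_comm, finsum_eq_sum_of_fintype, finsum_eq_sum_of_fintype, Finset.mul_sum]
      apply Finset.sum_lt_sum
      · intro b _
        rw [hcomm, card_commute_top, card_commute_subgroup]
        exact card_le_index_mul Y _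
      · refine ⟨⟨b, hb⟩, Finset.mem_univ _, ?_⟩
        rw [hcomm, card_commute_top, card_commute_subgroup]
        apply card_lt_index_mul Y _ g⁻¹
        intro c hc hmem
        apply hg
        rw [Subgroup.mem_centralizer_iff] at hc
        have hcb : b * c = c * b := hc b rfl
        -- y = c⁻¹ g⁻¹ ∈ Y; g = y⁻¹ c⁻¹
        have hgy : g = (c⁻¹ * g⁻¹)⁻¹ * c⁻¹ := by group
        have : g * b * g⁻¹ = (c⁻¹ * g⁻¹)⁻¹ * b * (c⁻¹ * g⁻¹) := by
          have e : c⁻¹ * b * c = b := by rw [mul_assoc, hcb, inv_mul_cancel_left]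
          calc g * b * g⁻¹ = (c⁻¹ * g⁻¹)⁻¹ * (c⁻¹ * b * c) * (c⁻¹ * g⁻¹) := by group
            _ = _ := by rw [e]
        rw [this]
        exact Y.mul_mem (Y.mul_mem (Y.inv_mem hmem) hb) hmem
    have : Nat.card (ConjClasses X) * (Nat.card Y * Y.index) <
        (Y.index * Nat.card (ConjClasses Y)) * (Nat.card Y * Y.index) := by
      calc Nat.card (ConjClasses X) * (Nat.card Y * Y.index)
          = Nat.card (ConjClasses X) * Nat.card X := by rw [hXY]
        _ ≤ Y.index * N := h1
        _ < Y.index * (Y.index * (Nat.card (ConjClasses Y) * Nat.card Y)) :=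
            Nat.mul_lt_mul_of_pos_left h2' hm
        _ = (Y.index * Nat.card (ConjClasses Y)) * (Nat.card Y * Y.index) := by ring
    exact Nat.lt_of_mul_lt_mul_right this

end Cfsg.Agent.S4200
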