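import Mathlib
import Cfsg.Statements.S4201

set_option autoImplicit false
open Cfsg

namespace Cfsg.Agent.S4201

variable {X : Type*} [Group X]

/-- number of commuting pairs `(g, h)` with `P g` and `Q h`. -/
noncomputable def T (P Q : X → Prop) : ℕ :=
  Nat.card {p : X × X // P p.1 ∧ Q p.2 ∧ Commute p.1 p.2}

theorem T_eq_sum [Finite X] (P Q : X → Prop) :
    T P Q = ∑ᶠ g : {g : X // P g}, Nat.card {h : X // Q h ∧ Commute (g : X) h} := by
  classical
  have := Fintype.ofFinite {g : X // P g}
  rw [finsum_eq_sum_of_fintype, ← Nat.card_sigma]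
  apply Nat.card_congr
  exact
    { toFun := fun p => ⟨⟨p.1.1, p.2.1⟩, ⟨p.1.2, p.2.2⟩⟩
      invFun := fun s => ⟨(s.1.1, s.2.1), s.1.2, s.2.2⟩
      left_inv := fun p => rfl
      right_inv := fun s => rfl }

theorem T_swap (P Q : X → Prop) : T P Q = T Q P := by
  apply Nat.card_congr
  exact
    { toFun := fun p => ⟨(p.1.2, p.1.1), p.2.2.1, p.2.1, p.2.2.2.symm⟩
      invFun := fun p => ⟨(p.1.2, p.1.1), p.2.2.1, p.2.1, p.2.2.2.symm⟩
      left_inv := fun p => rfl
      right_inv := fun p => rfl }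

theorem T_le_of_forall [Finite X] (P Q Q' : X → Prop)
    (h : ∀ g, P g → Nat.card {h : X // Q h ∧ Commute g h} ≤
      Nat.card {h : X // Q' h ∧ Commute g h}) : T P Q ≤ T P Q' := by
  classical
  have := Fintype.ofFinite {g : X // P g}
  rw [T_eq_sum, T_eq_sum, finsum_eq_sum_of_fintype, finsum_eq_sum_of_fintype]
  apply Finset.sum_le_sum
  intro g _
  exact h g.1 g.2

/-- Lemma A: the elements of a coset of `N` commuting with `g` are no more numerous than the
elements of `N` commuting with `g`. -/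
theorem coset_commute_le [Finite X] (N : Subgroup X) [N.Normal] (g : X) (b : X ⧸ N) :
    Nat.card {h : X // (QuotientGroup.mk h : X ⧸ N) = b ∧ Commute g h} ≤
      Nat.card {n : X // n ∈ N ∧ Commute g n} := by
  by_cases hne : Nonempty {h : X // (QuotientGroup.mk h : X ⧸ N) = b ∧ Commute g h}
  · obtain ⟨⟨h₀, hh₀, hc₀⟩⟩ := hne
    refine Nat.card_le_card_of_injective
      (fun h => ⟨h₀⁻¹ * h.1, ?_, ?_⟩) ?_
    · rw [← QuotientGroup.eq, hh₀, h.2.1]
    · exact hc₀.inv_right.mul_right h.2.2
    · intro h h' hh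
      apply Subtype.ext
      have := congrArg Subtype.val hh
      simpa using this
  · rw [not_nonempty_iff] at hne
    rw [Nat.card_of_isEmpty]
    exact Nat.zero_le _

theorem T_N_N (N : Subgroup X) :
    T (fun g => g ∈ N) (fun g => g ∈ N) = Nat.card {p : N × N // Commute p.1 p.2} := by
  apply Nat.card_congr
  refine
    { toFun := fun p => ⟨(⟨p.1.1, p.2.1⟩, ⟨p.1.2, p.2.2.1⟩), ?_⟩
      invFun := fun p => ⟨(p.1.1.1, p.1.2.1), p.1.1.2, p.1.2.2, ?_⟩
      left_inv := fun p => rfl
      right_inv := fun p => rfl }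
  · show (⟨p.1.1, p.2.1⟩ : N) * ⟨p.1.2, p.2.2.1⟩ = ⟨p.1.2, p.2.2.1⟩ * ⟨p.1.1, p.2.1⟩
    apply Subtype.ext
    exact p.2.2.2.eq
  · show (p.1.1 : X) * (p.1.2 : X) = (p.1.2 : X) * (p.1.1 : X)
    have := congrArg Subtype.val p.2.eq
    simpa using this

/-- Each fibre of the reduction map on commuting pairs has at most `c(N)` elements. -/
theorem fibre_le [Finite X] (N : Subgroup X) [N.Normal] (a b : X ⧸ N) :
    T (fun g => (QuotientGroup.mk g : X ⧸ N) = a) (fun h => (QuotientGroup.mk h : X ⧸ N) = b) ≤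
      Nat.card {p : N × N // Commute p.1 p.2} := by
  rw [← T_N_N]
  calc T (fun g => (QuotientGroup.mk g : X ⧸ N) = a) (fun h => (QuotientGroup.mk h : X ⧸ N) = b)
      ≤ T (fun g => (QuotientGroup.mk g : X ⧸ N) = a) (fun h => h ∈ N) :=
        T_le_of_forall _ _ _ (fun g _ => coset_commute_le N g b)
    _ = T (fun h => h ∈ N) (fun g => (QuotientGroup.mk g : X ⧸ N) = a) := T_swap _ _
    _ ≤ T (fun h => h ∈ N) (fun h => h ∈ N) :=
        T_le_of_forall _ _ _ (fun g _ => coset_commute_le N g a)

theorem comm_le [Finite X] (N : Subgroup X) [N.Normal] :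
    Nat.card {p : X × X // Commute p.1 p.2} ≤
      Nat.card {p : N × N // Commute p.1 p.2} *
        Nat.card {q : (X ⧸ N) × (X ⧸ N) // Commute q.1 q.2} := by
  classical
  let A := {p : X × X // Commute p.1 p.2}
  let B := {q : (X ⧸ N) × (X ⧸ N) // Commute q.1 q.2}
  let φ : A → B := fun p => ⟨(QuotientGroup.mk p.1.1, QuotientGroup.mk p.1.2), by
    have := p.2
    exact this.map (QuotientGroup.mk' N)⟩
  have := Fintype.ofFinite B
  have e1 : Nat.card A = ∑ q : B, Nat.card {p : A // φ p = q} := by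
    rw [← Nat.card_sigma]
    exact Nat.card_congr (Equiv.sigmaFiberEquiv φ).symm
  have e2 : ∀ q : B, Nat.card {p : A // φ p = q} ≤ Nat.card {p : N × N // Commute p.1 p.2} := by
    intro q
    refine le_trans (le_of_eq ?_) (fibre_le N q.1.1 q.1.2)
    apply Nat.card_congr
    refine
      { toFun := fun p => ⟨p.1.1, ?_, ?_, p.1.2⟩
        invFun := fun p => ⟨⟨p.1, p.2.2.2⟩, ?_⟩
        left_inv := fun p => rfl
        right_inv := fun p => rfl }
    · have := congrArg (fun r : B => r.1.1) p.2
      exact this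
    · have := congrArg (fun r : B => r.1.2) p.2
      exact this
    · apply Subtype.ext
      exact Prod.ext p.2.1 p.2.2.1
  show Nat.card A ≤ _ * Nat.card B
  rw [e1, mul_comm]
  calc ∑ q : B, Nat.card {p : A // φ p = q}
      ≤ ∑ _q : B, Nat.card {p : N × N // Commute p.1 p.2} :=
        Finset.sum_le_sum (fun q _ => e2 q)
    _ = Nat.card B * Nat.card {p : N × N // Commute p.1 p.2} := by
        rw [Finset.sum_const, Finset.card_univ, smul_eq_mul, Nat.card_eq_fintype_card (α := B)]

/-- If N is a normal subgroup of the finite group X then k(X) ≤ k(N)·k(X ⧸ N), where k denotes the number of conjugacy classes. -/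
theorem result {X : Type*} [Group X] [Finite X] (N : Subgroup X) [N.Normal] : Nat.card (ConjClasses X) ≤ Nat.card (ConjClasses N) * Nat.card (ConjClasses (X ⧸ N)) := by
  have h := comm_le N
  rw [card_comm_eq_card_conjClasses_mul_card, card_comm_eq_card_conjClasses_mul_card,
    card_comm_eq_card_conjClasses_mul_card] at h
  have hX : Nat.card X = Nat.card N * Nat.card (X ⧸ N) := by
    rw [mul_comm]; exact Subgroup.card_eq_card_quotient_mul_card_subgroup N
  have hpos : 0 < Nat.card X := Nat.card_pos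
  have : Nat.card (ConjClasses X) * Nat.card X ≤
      (Nat.card (ConjClasses N) * Nat.card (ConjClasses (X ⧸ N))) * Nat.card X := by
    calc Nat.card (ConjClasses X) * Nat.card X
        ≤ Nat.card (ConjClasses N) * Nat.card N *
          (Nat.card (ConjClasses (X ⧸ N)) * Nat.card (X ⧸ N)) := h
      _ = (Nat.card (ConjClasses N) * Nat.card (ConjClasses (X ⧸ N))) * Nat.card X := by
          rw [hX]; ring
  exact Nat.le_of_mul_le_mul_right this hpos

end Cfsg.Agent.S4201
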