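import Mathlib
import Cfsg.Statements.S4203
import Cfsg.Agent.S4337
import Cfsg.Agent.Lib.Helper21.FittingSubgroup

set_option autoImplicit false
open Cfsg

namespace Cfsg.Agent.S4203

universe u

/-- If `N_G(P) ≤ M` for a Sylow `p`-subgroup `P`, then `[G : M] ≡ 1 mod p`. -/
theorem index_modEq_one {G : Type*} [Group G] [Finite G] {p : ℕ} [Fact p.Prime] (P : Sylow p G)
    (M : Subgroup G) (hM : Subgroup.normalizer ((P : Subgroup G) : Set G) ≤ M) :
    M.index ≡ 1 [MOD p] := by
  have hPM : (P : Subgroup G) ≤ M := Subgroup.le_normalizer.trans hM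
  have h1 : Nat.card (Sylow p G) ≡ 1 [MOD p] := card_sylow_modEq_one p G
  have h2 : Nat.card (Sylow p M) ≡ 1 [MOD p] := card_sylow_modEq_one p M
  rw [Sylow.card_eq_index_normalizer P] at h1
  rw [Sylow.card_eq_index_normalizer (P.subtype hPM)] at h2
  have h3 : Subgroup.normalizer (((P.subtype hPM : Sylow p M) : Subgroup M) : Set M) =
      (Subgroup.normalizer ((P : Subgroup G) : Set G)).subgroupOf M := by
    rw [Sylow.coe_subtype]
    exact (Subgroup.subgroupOf_normalizer_eq hPM).symm
  replace h2 : (Subgroup.normalizer (((P.subtype hPM : Sylow p M) : Subgroup M) : Set M)).index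
      ≡ 1 [MOD p] := h2
  rw [h3] at h2
  have h4 : (Subgroup.normalizer ((P : Subgroup G) : Set G)).relIndex M * M.index =
      (Subgroup.normalizer ((P : Subgroup G) : Set G)).index := Subgroup.relIndex_mul_index hM
  replace h1 : (Subgroup.normalizer ((P : Subgroup G) : Set G)).index ≡ 1 [MOD p] := h1
  rw [← h4] at h1
  have h5 : ((Subgroup.normalizer ((P : Subgroup G) : Set G)).subgroupOf M).index =
      (Subgroup.normalizer ((P : Subgroup G) : Set G)).relIndex M := rfl
  rw [h5] at h2
  have h6 := (h2.symm.mul_right M.index).trans h1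
  rwa [one_mul] at h6

theorem arith {p q t : ℕ} (hp : p.Prime) (hq : q.Prime) (hqp : q ≤ p) (ht : t = q ∨ t = q ^ 2)
    (h1 : t ≡ 1 [MOD p]) : t = 4 := by
  have hp2 := hp.two_le
  have hq2 := hq.two_le
  rcases ht with rfl | rfl
  · exfalso
    rcases Nat.lt_or_ge t p with h | h
    · have : t % p = 1 % p := h1
      rw [Nat.mod_eq_of_lt h, Nat.mod_eq_of_lt (by omega)] at this
      omega
    · have : t = p := le_antisymm hqp h
      subst this
      have : t % t = 1 % t := h1
      rw [Nat.mod_self, Nat.mod_eq_of_lt (by omega)] at this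
      omega
  · have hq1 : 1 ≤ q ^ 2 := Nat.one_le_pow _ _ (by omega)
    have hdvd : p ∣ q ^ 2 - 1 := (Nat.modEq_iff_dvd' hq1).mp h1.symm
    have hfac : q ^ 2 - 1 = (q - 1) * (q + 1) := by
      zify [hq1, (by omega : 1 ≤ q)]
      ring
    rw [hfac] at hdvd
    rcases hp.dvd_mul.mp hdvd with h | h
    · exfalso
      have := Nat.le_of_dvd (by omega) h
      omega
    · obtain ⟨k, hk⟩ := h
      have hk1 : k = 1 := by
        rcases k with _ | _ | k
        · omega
        · rfl
        · exfalso
          have : p * (k + 1 + 1) ≥ p * 2 := Nat.mul_le_mul_left p (by omega)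
          omega
      subst hk1
      rw [mul_one] at hk
      -- p = q + 1, both prime
      rcases hq.eq_two_or_odd with h2 | hodd
      · subst h2; norm_num
      · exfalso
        rcases hp.eq_two_or_odd with h2 | hodd'
        · omega
        · omega

theorem isCoatom_comap {G H : Type*} [Group G] [Group H] (f : G →* H) (hf : Function.Surjective f)
    (M : Subgroup H) (hM : IsCoatom M) : IsCoatom (M.comap f) := by
  constructor
  · intro h
    apply hM.1
    rw [← Subgroup.map_comap_eq_self_of_surjective hf M, h, ← MonoidHom.range_eq_map,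
      MonoidHom.range_eq_top.mpr hf]
  · intro K hK
    have hker : f.ker ≤ K := le_trans (by
      intro x hx
      show f x ∈ M
      rw [MonoidHom.mem_ker.mp hx]
      exact M.one_mem) hK.le
    have hKeq : (K.map f).comap f = K := by
      rw [Subgroup.comap_map_eq, sup_of_le_left hker]
    have hle : M ≤ K.map f := by
      rw [← Subgroup.map_comap_eq_self_of_surjective hf M]
      exact Subgroup.map_mono hK.le
    have hne : M ≠ K.map f := by
      intro h
      rw [h, hKeq] at hK
      exact lt_irrefl _ hK
    have := hM.2 _ (lt_of_le_of_ne hle hne)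
    rw [← hKeq, this, Subgroup.comap_top]

theorem aux (n : ℕ) : ∀ (G : Type u) [Group G] [Finite G], Nat.card G = n →
    (∀ M : Subgroup G, IsCoatom M → ∃ p : ℕ, p.Prime ∧ (M.index = p ∨ M.index = p ^ 2)) →
    Group.IsSolvable G := by
  induction n using Nat.strong_induction_on with
  | _ n ih =>
  intro G _ _ hcard h
  rcases subsingleton_or_nontrivial G with hsub | hnt
  · exact Group.isSolvable_of_comm (fun a b => Subsingleton.elim _ _)
  -- minimal normal subgroup
  set S : Set (Subgroup G) := {N : Subgroup G | N.Normal ∧ N ≠ ⊥} with hS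
  have hSne : S.Nonempty := ⟨⊤, inferInstance, top_ne_bot⟩
  obtain ⟨N, hNmin⟩ := S.toFinite.exists_minimal hSne
  obtain ⟨hNn, hNbot⟩ := hNmin.1
  haveI := hNn
  have hmin : ∀ K : Subgroup G, K.Normal → K ≠ ⊥ → K ≤ N → N ≤ K :=
    fun K hK1 hK2 hK3 => hNmin.2 ⟨hK1, hK2⟩ hK3
  -- N is solvable
  have hNsolv : Group.IsSolvable N := by
    have hNcard : 1 < Nat.card N := by
      rw [Subgroup.one_lt_card_iff_ne_bot]
      exact hNbot
    have hpf : (Nat.card N).primeFactors.Nonempty := by
      rw [Nat.nonempty_primeFactors]
      exact hNcard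
    obtain ⟨p, hp_mem, hp_max⟩ := Finset.exists_max_image (Nat.card N).primeFactors id hpf
    have hpp : p.Prime := Nat.prime_of_mem_primeFactors hp_mem
    have hpdvd : p ∣ Nat.card N := Nat.dvd_of_mem_primeFactors hp_mem
    have hpmax : ∀ q : ℕ, q.Prime → q ∣ Nat.card N → q ≤ p := by
      intro q hq hqd
      exact hp_max q (Nat.mem_primeFactors.mpr ⟨hq, hqd, Nat.card_pos.ne'⟩)
    haveI : Fact p.Prime := ⟨hpp⟩
    obtain ⟨P⟩ : Nonempty (Sylow p N) := inferInstance
    set P' : Subgroup G := (P : Subgroup N).map N.subtype with hP'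
    have hP'N : P' ≤ N := Subgroup.map_subtype_le _
    have hPbot : (P : Subgroup N) ≠ ⊥ := P.ne_bot_of_dvd_card hpdvd
    have hP'bot : P' ≠ ⊥ := by
      intro h0
      apply hPbot
      rw [hP', Subgroup.map_eq_bot_iff_of_injective _ N.subtype_injective] at h0
      exact h0
    by_cases hPn : P'.Normal
    · -- N = P' is a p-group
      have hNP : N ≤ P' := hmin P' hPn hP'bot hP'N
      have hpg : IsPGroup p N := by
        intro x
        have hx : (x : G) ∈ P' := hNP x.2
        obtain ⟨y, hy, hyx⟩ := hx
        have : y = x := Subtype.ext hyx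
        subst this
        obtain ⟨k, hk⟩ := P.2 ⟨y, hy⟩
        refine ⟨k, ?_⟩
        have := congrArg Subtype.val hk
        simpa using this
      haveI := hpg.isNilpotent
      infer_instance
    · -- not normal: maximal subgroup containing the normalizer
      have hnt : Subgroup.normalizer (P' : Set G) ≠ ⊤ := by
        intro h0
        exact hPn (Subgroup.normalizer_eq_top_iff.mp h0)
      obtain ⟨M, hMc, hMle⟩ := (eq_top_or_exists_le_coatom _).resolve_left hnt
      have hfr : Subgroup.normalizer (P' : Set G) ⊔ N = ⊤ := Sylow.normalizer_sup_eq_top P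
      have hMN : M ⊔ N = ⊤ := by
        rw [eq_top_iff, ← hfr]
        exact sup_le_sup_right hMle N
      have hNM : ¬ N ≤ M := by
        intro hle
        rw [sup_of_le_left hle] at hMN
        exact hMc.1 hMN
      -- index of M
      have hidx : M.index = (M.subgroupOf N).index := by
        have := Cfsg.Agent.Helper21.relIndex_sup_eq_of_normal M N
        rw [hMN, Subgroup.relIndex_top_right] at this
        exact this
      obtain ⟨q, hq, hqt⟩ := h M hMc
      have hmod : (M.subgroupOf N).index ≡ 1 [MOD p] := by
        apply index_modEq_one P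
        intro x hx
        rw [Subgroup.mem_subgroupOf]
        apply hMle
        have := Subgroup.le_normalizer_map N.subtype (H := (P : Subgroup N)) ⟨x, hx, rfl⟩
        exact this
      have hdvdN : (M.subgroupOf N).index ∣ Nat.card N := Subgroup.index_dvd_card _
      have hqd : q ∣ Nat.card N := by
        apply dvd_trans _ hdvdN
        rw [← hidx]
        rcases hqt with h0 | h0
        · rw [h0]
        · rw [h0]; exact dvd_pow_self q (by norm_num)
      have hqp : q ≤ p := hpmax q hq hqd
      have h4 : M.index = 4 := by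
        apply arith hpp hq hqp hqt
        rw [hidx]
        exact hmod
      -- N embeds in Perm (G ⧸ M)
      let φ : G →* Equiv.Perm (G ⧸ M) := MulAction.toPermHom G (G ⧸ M)
      have hker : φ.ker = M.normalCore := (Subgroup.normalCore_eq_ker M).symm
      have hinf : N ⊓ φ.ker = ⊥ := by
        by_contra hne
        have h1 : N ≤ N ⊓ φ.ker := hmin _ inferInstance hne inf_le_left
        apply hNM
        refine h1.trans (inf_le_right.trans ?_)
        rw [hker]
        exact Subgroup.normalCore_le M
      have hinj : Function.Injective (φ.comp N.subtype) := by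
        rw [injective_iff_map_eq_one]
        intro x hx
        have hx' : (x : G) ∈ N ⊓ φ.ker := ⟨x.2, hx⟩
        rw [hinf, Subgroup.mem_bot] at hx'
        exact Subtype.ext hx'
      have hcard4 : Nat.card (G ⧸ M) = 4 := h4
      have e : (G ⧸ M) ≃ Fin 4 :=
        (Nat.equivFinOfCardPos (by rw [hcard4]; norm_num)).trans (finCongr hcard4)
      haveI := Cfsg.Agent.S4337.perm4_solvable
      haveI : Group.IsSolvable (Equiv.Perm (G ⧸ M)) :=
        Group.isSolvable_of_isSolvable_injective (f := (e.permCongrHom).toMonoidHom)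
          (e.permCongrHom).injective
      exact Group.isSolvable_of_isSolvable_injective hinj
  -- quotient
  have hQ : Group.IsSolvable (G ⧸ N) := by
    apply ih (Nat.card (G ⧸ N)) _ (G ⧸ N) rfl
    · intro Mb hMb
      have hc := isCoatom_comap (QuotientGroup.mk' N) (QuotientGroup.mk'_surjective N) Mb hMb
      obtain ⟨p, hp, hpi⟩ := h _ hc
      refine ⟨p, hp, ?_⟩
      rwa [Subgroup.index_comap_of_surjective _ (QuotientGroup.mk'_surjective N)] at hpi
    · rw [← hcard, Subgroup.card_eq_card_quotient_mul_card_subgroup N]
      have hNcard : 1 < Nat.card N := by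
        rw [Subgroup.one_lt_card_iff_ne_bot]
        exact hNbot
      have : 0 < Nat.card (G ⧸ N) := Nat.card_pos
      nlinarith
  exact Group.isSolvable_of_ker_le_range N.subtype (QuotientGroup.mk' N) (by simp)

/-- A finite group in which every maximal subgroup has index a prime or the square of a prime is solvable. -/
theorem result {G : Type*} [Group G] [Finite G] (h : ∀ M : Subgroup G, IsCoatom M → ∃ p : ℕ, p.Prime ∧ (M.index = p ∨ M.index = p ^ 2)) : Group.IsSolvable G :=
  aux _ G rfl h

end Cfsg.Agent.S4203
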