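import Mathlib
import Cfsg.Statements.S4207
import Cfsg.Agent.Lib.Helper21.FreeAction

set_option autoImplicit false
open Cfsg

namespace Cfsg.Agent.S4207

open Cfsg.Agent.Helper21

variable {P : Type*} [Group P]

/-- tuples congruent to `x` modulo the Frattini subgroup -/
def Tup {r : ℕ} (x : Fin r → P) : Type _ := {y : Fin r → P // ∀ i, y i * (x i)⁻¹ ∈ frattini P}

theorem card_Tup [Finite P] {r : ℕ} (x : Fin r → P) :
    Nat.card (Tup x) = Nat.card (frattini P) ^ r := by
  have e : Tup x ≃ (Fin r → frattini P) :=
    { toFun := fun y i => ⟨y.1 i * (x i)⁻¹, y.2 i⟩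
      invFun := fun f => ⟨fun i => (f i : P) * x i, fun i => by
        rw [mul_inv_cancel_right]; exact (f i).2⟩
      left_inv := fun y => by
        apply Subtype.ext
        funext i
        simp
      right_inv := fun f => by
        funext i
        apply Subtype.ext
        simp }
  rw [Nat.card_congr e, Nat.card_fun, Nat.card_eq_fintype_card (α := Fin r), Fintype.card_fin]

theorem closure_eq_top_of_congr [Finite P] {r : ℕ} (x : Fin r → P)
    (hx : Subgroup.closure (Set.range x) = ⊤) (y : Tup x) :
    Subgroup.closure (Set.range y.1) = ⊤ := by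
  apply frattini_nongenerating
  rw [eq_top_iff, ← hx, Subgroup.closure_le]
  rintro _ ⟨i, rfl⟩
  have h1 : y.1 i * (x i)⁻¹ ∈ frattini P := y.2 i
  have h2 : y.1 i ∈ Subgroup.closure (Set.range y.1) := Subgroup.subset_closure ⟨i, rfl⟩
  have e : x i = (y.1 i * (x i)⁻¹)⁻¹ * y.1 i := by group
  show x i ∈ (Subgroup.closure (Set.range y.1) ⊔ frattini P : Subgroup P)
  rw [e]
  exact Subgroup.mul_mem _ ((le_sup_right : frattini P ≤ _) ((frattini P).inv_mem h1))
    ((le_sup_left : Subgroup.closure (Set.range y.1) ≤ _) h2)

/-- Let `P` be a group of order `p^n` whose Frattini subgroup has index `p^r`. Then any group of automorphisms of `P` each of which induces the identity on the Frattini quotient has order dividing `p^(r(n-r))`; in particular it is a `p`-group. -/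
theorem result {P : Type*} [Group P] [Finite P] {p n r : ℕ} [Fact p.Prime] (hP : Nat.card P = p ^ n) (hr : (frattini P).index = p ^ r) (A : Subgroup (MulAut P)) (hA : ∀ α ∈ A, ∀ x : P, α x * x⁻¹ ∈ frattini P) : Nat.card A ∣ p ^ (r * (n - r)) := by
  classical
  have hp : p.Prime := Fact.out
  -- order of the Frattini subgroup
  have hmul : Nat.card (frattini P) * p ^ r = p ^ n := by
    rw [← hr, ← hP]; exact Subgroup.card_mul_index _
  have hrn : r ≤ n := by
    have : p ^ r ∣ p ^ n := ⟨Nat.card (frattini P), by rw [← hmul]; ring⟩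
    exact (Nat.pow_dvd_pow_iff_le_right hp.one_lt).mp this
  have hΦ : Nat.card (frattini P) = p ^ (n - r) := by
    have h2 : p ^ (n - r) * p ^ r = p ^ n := by rw [← pow_add]; congr 1; omega
    exact Nat.eq_of_mul_eq_mul_right (pow_pos hp.pos r) (hmul.trans h2.symm)
  -- generating tuple
  obtain ⟨x, hx⟩ := exists_tuple_sup_closure_eq_top (p := p) r (frattini P) (by rw [hr])
  have hx' : Subgroup.closure (Set.range x) = ⊤ := by
    apply frattini_nongenerating
    rw [sup_comm]; exact hx
  -- the action
  letI : MulAction A (Tup x) :=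
    { smul := fun α y => ⟨fun i => (α : MulAut P) (y.1 i), fun i => by
        have h1 := hA α.1 α.2 (y.1 i)
        have h2 := y.2 i
        have e : (α : MulAut P) (y.1 i) * (x i)⁻¹ =
            ((α : MulAut P) (y.1 i) * (y.1 i)⁻¹) * (y.1 i * (x i)⁻¹) := by group
        rw [e]
        exact (frattini P).mul_mem h1 h2⟩
      one_smul := fun y => rfl
      mul_smul := fun α β y => rfl }
  have hsmul : ∀ (α : A) (y : Tup x) (i : Fin r), (α • y).1 i = (α : MulAut P) (y.1 i) :=
    fun α y i => rfl
  haveI : Finite (Tup x) := by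
    apply Nat.finite_of_card_ne_zero
    rw [card_Tup]
    exact pow_ne_zero _ Nat.card_pos.ne'
  have hfree : ∀ (α : A) (y : Tup x), α • y = y → α = 1 := by
    intro α y hy
    have hgen := closure_eq_top_of_congr x hx' y
    have hle : Subgroup.closure (Set.range y.1) ≤
        MonoidHom.eqLocus ((α : MulAut P).toMonoidHom) (MonoidHom.id P) := by
      rw [Subgroup.closure_le]
      rintro _ ⟨i, rfl⟩
      show (α : MulAut P) (y.1 i) = y.1 i
      rw [← hsmul, hy]
    rw [hgen] at hle
    apply Subtype.ext
    ext g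
    have : g ∈ MonoidHom.eqLocus ((α : MulAut P).toMonoidHom) (MonoidHom.id P) := hle trivial
    exact this
  have hdvd := card_dvd_of_free hfree
  rw [card_Tup, hΦ, ← pow_mul, mul_comm] at hdvd
  exact hdvd

end Cfsg.Agent.S4207
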