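import Mathlib
import Cfsg.Agent.Lib.Helper16.QuatRecog
import Cfsg.Statements.S4211
-- import your own Cfsg.Agent.* helpers here

set_option autoImplicit false
open Cfsg

namespace Cfsg.Agent.S4211

open scoped Pointwise

section
variable {G : Type*} [Group G]

theorem conj_mem_zpowers (hn : ∀ H : Subgroup G, H.Normal) (a g : G) :
    g * a * g⁻¹ ∈ Subgroup.zpowers a :=
  (hn (Subgroup.zpowers a)).conj_mem a (Subgroup.mem_zpowers a) g

theorem mul_pow_comm' (x y c : G) (hcx : Commute c x)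
    (h : y * x = c * x * y) (n : ℕ) : y * x ^ n = c ^ n * x ^ n * y := by
  induction n with
  | zero => simp
  | succ n ih =>
    have e : x ^ n * c = c * x ^ n := ((hcx.pow_right n).eq).symm
    calc y * x ^ (n + 1) = (y * x ^ n) * x := by rw [pow_succ, mul_assoc]
    _ = c ^ n * x ^ n * (y * x) := by rw [ih]; simp only [mul_assoc]
    _ = c ^ n * x ^ n * (c * x * y) := by rw [h]
    _ = c ^ n * (x ^ n * c) * x * y := by simp only [mul_assoc]
    _ = c ^ n * (c * x ^ n) * x * y := by rw [e]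
    _ = c ^ (n + 1) * x ^ (n + 1) * y := by rw [pow_succ, pow_succ]; simp only [mul_assoc]

theorem pow_mul_comm' (x y c : G) (hcy : Commute c y)
    (h : y * x = c * x * y) (n : ℕ) : y ^ n * x = c ^ n * x * y ^ n := by
  induction n with
  | zero => simp
  | succ n ih =>
    have e : y * c ^ n = c ^ n * y := ((hcy.pow_left n).eq).symm
    calc y ^ (n + 1) * x = y * (y ^ n * x) := by rw [pow_succ', mul_assoc]
    _ = y * (c ^ n * x * y ^ n) := by rw [ih]
    _ = (y * c ^ n) * x * y ^ n := by simp only [mul_assoc]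
    _ = c ^ n * (y * x) * y ^ n := by rw [e]; simp only [mul_assoc]
    _ = c ^ n * (c * x * y) * y ^ n := by rw [h]
    _ = c ^ (n + 1) * x * y ^ (n + 1) := by rw [pow_succ, pow_succ']; simp only [mul_assoc]

theorem mul_pow_eq' (x y c : G) (hcx : Commute c x) (hcy : Commute c y)
    (h : y * x = c * x * y) (n : ℕ) : (x * y) ^ n = c ^ (n.choose 2) * x ^ n * y ^ n := by
  induction n with
  | zero => simp
  | succ n ih =>
    have hch : (n + 1).choose 2 = n.choose 2 + n := by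
      rw [Nat.choose_succ_succ' n 1, Nat.choose_one_right, add_comm]
    have e : x ^ n * c ^ n = c ^ n * x ^ n := (((hcx.pow_right n).pow_left n).eq).symm
    calc (x * y) ^ (n + 1) = (x * y) ^ n * (x * y) := pow_succ _ _
    _ = c ^ (n.choose 2) * x ^ n * y ^ n * (x * y) := by rw [ih]
    _ = c ^ (n.choose 2) * x ^ n * (y ^ n * x) * y := by simp only [mul_assoc]
    _ = c ^ (n.choose 2) * x ^ n * (c ^ n * x * y ^ n) * y := by
        rw [pow_mul_comm' x y c hcy h n]
    _ = c ^ (n.choose 2) * (x ^ n * c ^ n) * x * y ^ n * y := by simp only [mul_assoc]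
    _ = c ^ (n.choose 2) * (c ^ n * x ^ n) * x * y ^ n * y := by rw [e]
    _ = c ^ ((n + 1).choose 2) * x ^ (n + 1) * y ^ (n + 1) := by
        rw [hch, pow_add, pow_succ, pow_succ]; simp only [mul_assoc]

theorem exists_min_pair (hna : ∃ x y : G, x * y ≠ y * x) :
    ∃ x y : G, x * y ≠ y * x ∧
      ∀ x' y' : G, x' * y' ≠ y' * x' → orderOf x + orderOf y ≤ orderOf x' + orderOf y' := by
  classical
  have hex : ∃ n, ∃ x y : G, x * y ≠ y * x ∧ orderOf x + orderOf y = n := by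
    obtain ⟨x, y, h⟩ := hna; exact ⟨_, x, y, h, rfl⟩
  obtain ⟨x, y, hxy, hn⟩ := Nat.find_spec hex
  refine ⟨x, y, hxy, fun x' y' h' => ?_⟩
  rw [hn]; exact Nat.find_min' hex ⟨x', y', h', rfl⟩

theorem not_dvd_choose_two {p b : ℕ} (hp : p.Prime) (hb : 1 ≤ b)
    (h : ¬ p ∣ (p ^ (b - 1)).choose 2) : p = 2 ∧ b = 2 := by
  have hb2 : 2 ≤ b := by
    by_contra hlt
    have : b = 1 := by omega
    subst this
    apply h
    simp
  obtain ⟨t, rfl⟩ : ∃ t, b = t + 2 := ⟨b - 2, by omega⟩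
  have hP : p ^ (t + 2 - 1) = p * p ^ t := by
    rw [show t + 2 - 1 = t + 1 by omega, pow_succ, mul_comm]
  rw [hP] at h
  have h2 : 2 * (p * p ^ t).choose 2 = (p * p ^ t) * (p * p ^ t - 1) := by
    rw [Nat.choose_two_right, Nat.mul_div_cancel' (Nat.even_mul_pred_self _).two_dvd]
  have hp2 : p = 2 := by
    by_contra hne
    apply h
    have hdvd : p ∣ 2 * (p * p ^ t).choose 2 := by
      rw [h2, mul_assoc]; exact dvd_mul_right _ _
    have hcop : Nat.Coprime p 2 := (Nat.coprime_primes hp Nat.prime_two).mpr hne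
    exact hcop.dvd_of_dvd_mul_left hdvd
  refine ⟨hp2, ?_⟩
  subst hp2
  by_contra hne
  have ht : 1 ≤ t := by omega
  apply h
  obtain ⟨s, rfl⟩ : ∃ s, t = s + 1 := ⟨t - 1, by omega⟩
  have h3 : 2 * (2 * 2 ^ (s + 1)).choose 2 = 2 * (2 * (2 ^ s * (2 * 2 ^ (s + 1) - 1))) := by
    rw [h2, pow_succ]; ring
  have h4 : (2 * 2 ^ (s + 1)).choose 2 = 2 * (2 ^ s * (2 * 2 ^ (s + 1) - 1)) :=
    Nat.eq_of_mul_eq_mul_left (by norm_num) h3
  rw [h4]; exact dvd_mul_right _ _


theorem mem_zpowers_pow_of_pow_eq_one [Finite G] {g c : G} {p a : ℕ} (hp : p.Prime) (ha : 1 ≤ a)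
    (hg : orderOf g = p ^ a) (hc : c ∈ Subgroup.zpowers g) (hcp : c ^ p = 1) :
    c ∈ Subgroup.zpowers (g ^ (p ^ (a - 1))) := by
  have hfin : IsOfFinOrder g := isOfFinOrder_of_finite g
  rw [← hfin.mem_powers_iff_mem_zpowers, Submonoid.mem_powers_iff] at hc
  obtain ⟨k, rfl⟩ := hc
  rw [← pow_mul] at hcp
  have h1 := orderOf_dvd_of_pow_eq_one hcp
  rw [hg] at h1
  obtain ⟨a', rfl⟩ : ∃ a', a = a' + 1 := ⟨a - 1, by omega⟩
  rw [pow_succ] at h1
  have h2 : p ^ a' ∣ k := Nat.dvd_of_mul_dvd_mul_right hp.pos h1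
  obtain ⟨k', rfl⟩ := h2
  rw [show a' + 1 - 1 = a' by omega, pow_mul]
  exact Subgroup.pow_mem _ (Subgroup.mem_zpowers _) _

theorem q8_of_min_pair [Finite G] (hn : ∀ H : Subgroup G, H.Normal) (x y : G)
    (hxy : x * y ≠ y * x)
    (hmin : ∀ x' y' : G, x' * y' ≠ y' * x' → orderOf x + orderOf y ≤ orderOf x' + orderOf y')
    (hle : orderOf y ≤ orderOf x) :
    orderOf x = 4 ∧ y ^ 2 = x ^ 2 ∧ y * x * y⁻¹ = x⁻¹ := by
  obtain ⟨c, hc⟩ : ∃ c, c = y * x * y⁻¹ * x⁻¹ := ⟨_, rfl⟩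
  have hcx_mem : c ∈ Subgroup.zpowers x := by
    have h1 := conj_mem_zpowers hn x y
    have h2 := Subgroup.mul_mem _ h1 (Subgroup.inv_mem _ (Subgroup.mem_zpowers x))
    rw [hc]; exact h2
  have hcy_mem : c ∈ Subgroup.zpowers y := by
    have h1 := conj_mem_zpowers hn y x
    have h2 := Subgroup.mul_mem _ (Subgroup.mem_zpowers y) (Subgroup.inv_mem _ h1)
    have e : y * (x * y * x⁻¹)⁻¹ = c := by rw [hc]; group
    rwa [e] at h2
  have hcx : Commute c x := by
    obtain ⟨k, hk⟩ := Subgroup.mem_zpowers_iff.mp hcx_mem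
    rw [← hk]; exact (Commute.refl x).zpow_left k
  have hcy : Commute c y := by
    obtain ⟨k, hk⟩ := Subgroup.mem_zpowers_iff.mp hcy_mem
    rw [← hk]; exact (Commute.refl y).zpow_left k
  have hrel : y * x = c * x * y := by rw [hc]; group
  have hc1 : c ≠ 1 := by
    intro h1
    rw [h1, one_mul] at hrel
    exact hxy hrel.symm
  have hox : 0 < orderOf x := orderOf_pos x
  have hoy : 0 < orderOf y := orderOf_pos y
  have hstep1x : ∀ q : ℕ, q.Prime → q ∣ orderOf x → c ^ q = 1 := by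
    intro q hq hqx
    have hlt : orderOf (x ^ q) < orderOf x := by
      rw [orderOf_pow_of_dvd hq.ne_zero hqx]
      exact Nat.div_lt_self hox hq.one_lt
    have hcomm : x ^ q * y = y * x ^ q := by
      by_contra hne
      have := hmin (x ^ q) y hne
      omega
    have h1 := mul_pow_comm' x y c hcx hrel q
    rw [← hcomm] at h1
    have h2 : c ^ q * (x ^ q * y) = 1 * (x ^ q * y) := by rw [one_mul, ← mul_assoc, ← h1]
    exact mul_right_cancel h2
  have hstep1y : ∀ q : ℕ, q.Prime → q ∣ orderOf y → c ^ q = 1 := by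
    intro q hq hqy
    have hlt : orderOf (y ^ q) < orderOf y := by
      rw [orderOf_pow_of_dvd hq.ne_zero hqy]
      exact Nat.div_lt_self hoy hq.one_lt
    have hcomm : x * y ^ q = y ^ q * x := by
      by_contra hne
      have := hmin x (y ^ q) hne
      omega
    have h1 := pow_mul_comm' x y c hcy hrel q
    rw [← hcomm] at h1
    have h2 : c ^ q * (x * y ^ q) = 1 * (x * y ^ q) := by rw [one_mul, ← mul_assoc, ← h1]
    exact mul_right_cancel h2
  have hx1 : x ≠ 1 := by rintro rfl; exact hxy (by simp)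
  have hy1 : y ≠ 1 := by rintro rfl; exact hxy (by simp)
  have hox1 : orderOf x ≠ 1 := by rwa [Ne, orderOf_eq_one_iff]
  have hoy1 : orderOf y ≠ 1 := by rwa [Ne, orderOf_eq_one_iff]
  have hoc1 : orderOf c ≠ 1 := by rwa [Ne, orderOf_eq_one_iff]
  have hprime_eq : ∀ q : ℕ, q.Prime → c ^ q = 1 → orderOf c = q := by
    intro q hq h
    have h0 := orderOf_dvd_of_pow_eq_one h
    rcases (Nat.dvd_prime hq).mp h0 with h1 | h1
    · exact absurd h1 hoc1
    · exact h1
  obtain ⟨q0, hq0, hq0x⟩ := Nat.exists_prime_and_dvd hox1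
  obtain ⟨p, hpdef⟩ : ∃ p, orderOf c = p := ⟨_, rfl⟩
  have hp : p.Prime := by
    rw [← hpdef, hprime_eq q0 hq0 (hstep1x q0 hq0 hq0x)]; exact hq0
  have hcp : c ^ p = 1 := by rw [← hpdef]; exact pow_orderOf_eq_one c
  obtain ⟨a, hxa⟩ : ∃ a, orderOf x = p ^ a :=
    ⟨_, Nat.eq_prime_pow_of_unique_prime_dvd hox.ne'
      (fun {d} hd hdx => by rw [← hpdef]; exact (hprime_eq d hd (hstep1x d hd hdx)).symm)⟩
  obtain ⟨b, hyb⟩ : ∃ b, orderOf y = p ^ b :=
    ⟨_, Nat.eq_prime_pow_of_unique_prime_dvd hoy.ne'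
      (fun {d} hd hdy => by rw [← hpdef]; exact (hprime_eq d hd (hstep1y d hd hdy)).symm)⟩
  have ha1 : 1 ≤ a := by
    by_contra h0
    have : a = 0 := by omega
    rw [this, pow_zero] at hxa
    exact hox1 hxa
  have hb1 : 1 ≤ b := by
    by_contra h0
    have : b = 0 := by omega
    rw [this, pow_zero] at hyb
    exact hoy1 hyb
  have hba : b ≤ a := by
    rw [hxa, hyb] at hle
    exact (Nat.pow_le_pow_iff_right hp.one_lt).mp hle
  -- the elements of order p
  have hcz : c ∈ Subgroup.zpowers (x ^ (p ^ (a - 1))) :=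
    mem_zpowers_pow_of_pow_eq_one hp ha1 hxa hcx_mem hcp
  have hcw : c ∈ Subgroup.zpowers (y ^ (p ^ (b - 1))) :=
    mem_zpowers_pow_of_pow_eq_one hp hb1 hyb hcy_mem hcp
  have how : orderOf (y ^ (p ^ (b - 1))) = p := by
    rw [orderOf_pow_of_dvd (pow_ne_zero _ hp.ne_zero) (by rw [hyb]; exact pow_dvd_pow p (by omega)),
      hyb]
    have : p ^ b = p ^ (b - 1) * p := by rw [← pow_succ]; congr 1; omega
    rw [this, Nat.mul_div_cancel_left _ (pow_pos hp.pos _)]
  have hwc : y ^ (p ^ (b - 1)) ∈ Subgroup.zpowers c := by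
    have hle' : Subgroup.zpowers c ≤ Subgroup.zpowers (y ^ (p ^ (b - 1))) :=
      Subgroup.zpowers_le.mpr hcw
    have hcard : Nat.card (Subgroup.zpowers (y ^ (p ^ (b - 1)))) ≤ Nat.card (Subgroup.zpowers c) := by
      rw [Nat.card_zpowers, Nat.card_zpowers, how, hpdef]
    rw [Subgroup.eq_of_le_of_card_ge hle' hcard]
    exact Subgroup.mem_zpowers _
  have hwz : (y ^ (p ^ (b - 1)))⁻¹ ∈ Subgroup.zpowers (x ^ (p ^ (a - 1))) :=
    Subgroup.inv_mem _ ((Subgroup.zpowers_le.mpr hcz) hwc)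
  have hfinz : IsOfFinOrder (x ^ (p ^ (a - 1))) := isOfFinOrder_of_finite _
  rw [← hfinz.mem_powers_iff_mem_zpowers, Submonoid.mem_powers_iff] at hwz
  obtain ⟨m', hm'⟩ := hwz
  -- the modified element
  obtain ⟨k, hk⟩ : ∃ k, k = m' * p ^ (a - b) := ⟨_, rfl⟩
  have hvP : (x ^ k) ^ (p ^ (b - 1)) = (y ^ (p ^ (b - 1)))⁻¹ := by
    rw [← hm', ← pow_mul, ← pow_mul, hk]
    congr 1
    have : p ^ (a - 1) = p ^ (a - b) * p ^ (b - 1) := by rw [← pow_add]; congr 1; omega
    rw [this]; ring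
  have hrelv : y * x ^ k = c ^ k * x ^ k * y := mul_pow_comm' x y c hcx hrel k
  have hckx : Commute (c ^ k) (x ^ k) := (hcx.pow_left k).pow_right k
  have hcky : Commute (c ^ k) y := hcy.pow_left k
  have hy1P : (x ^ k * y) ^ (p ^ (b - 1)) = c ^ (k * (p ^ (b - 1)).choose 2) := by
    rw [mul_pow_eq' (x ^ k) y (c ^ k) hckx hcky hrelv, hvP, ← pow_mul, mul_assoc,
      inv_mul_cancel, mul_one]
  have hnc : x * (x ^ k * y) ≠ (x ^ k * y) * x := by
    intro h
    apply hxy
    have e1 : x * (x ^ k * y) = x ^ k * (x * y) := by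
      rw [← mul_assoc, ← mul_assoc, ← pow_succ', ← pow_succ]
    have e2 : (x ^ k * y) * x = x ^ k * (y * x) := mul_assoc _ _ _
    rw [e1, e2] at h
    exact mul_left_cancel h
  have hmin1 := hmin x (x ^ k * y) hnc
  have hndvd : ¬ p ∣ k * (p ^ (b - 1)).choose 2 := by
    intro hd
    obtain ⟨t, ht⟩ := hd
    have h1 : (x ^ k * y) ^ (p ^ (b - 1)) = 1 := by
      rw [hy1P, ht, pow_mul, hcp, one_pow]
    have h2 := orderOf_dvd_of_pow_eq_one h1
    have h3 := Nat.le_of_dvd (pow_pos hp.pos _) h2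
    have h4 : p ^ (b - 1) < p ^ b := Nat.pow_lt_pow_right hp.one_lt (by omega)
    rw [hyb] at hmin1
    omega
  have hndk : ¬ p ∣ k := fun h => hndvd (Dvd.dvd.mul_right h _)
  have hndc : ¬ p ∣ (p ^ (b - 1)).choose 2 := fun h => hndvd (Dvd.dvd.mul_left h _)
  have hab : a = b := by
    by_contra hne
    apply hndk
    rw [hk]
    apply Dvd.dvd.mul_left
    exact dvd_pow_self p (by omega)
  obtain ⟨hp2, hb2⟩ := not_dvd_choose_two hp hb1 hndc
  subst hp2 hb2 hab
  norm_num at hxa hyb hcz hcw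
  -- c = x ^ 2 = y ^ 2
  have hx4 : x ^ 4 = 1 := by rw [← hxa]; exact pow_orderOf_eq_one x
  have hy4 : y ^ 4 = 1 := by rw [← hyb]; exact pow_orderOf_eq_one y
  have hinv : ∀ g : G, g ^ 4 = 1 → ∀ d, d ∈ Subgroup.zpowers (g ^ 2) → d ≠ 1 → d = g ^ 2 := by
    intro g hg d hd hd1
    obtain ⟨j, rfl⟩ := Subgroup.mem_zpowers_iff.mp hd
    have hg2 : (g ^ 2) ^ 2 = 1 := by rw [← pow_mul]; exact hg
    rcases Int.even_or_odd j with ⟨i, rfl⟩ | ⟨i, rfl⟩
    · exfalso; apply hd1
      rw [← two_mul, zpow_mul, zpow_ofNat, hg2, one_zpow]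
    · rw [zpow_add, zpow_one, zpow_mul, zpow_ofNat, hg2, one_zpow, one_mul]
  have hcx2 : c = x ^ 2 := hinv x hx4 c hcz hc1
  have hcy2 : c = y ^ 2 := hinv y hy4 c hcw hc1
  refine ⟨hxa, by rw [← hcy2, hcx2], ?_⟩
  rw [hrel, hcx2]
  have : x ^ 2 * x * y * y⁻¹ = x ^ 3 := by rw [mul_inv_cancel_right, ← pow_succ]
  rw [this]
  exact eq_inv_of_mul_eq_one_left (by rw [← pow_succ]; exact hx4)


/-- relations of the quaternion pair -/
structure QPair (x y : G) : Prop where
  ox : orderOf x = 4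
  sq : y ^ 2 = x ^ 2
  inv : y * x * y⁻¹ = x⁻¹

namespace QPair

variable {x y : G}

theorem x4 (h : QPair x y) : x ^ 4 = 1 := by rw [← h.ox]; exact pow_orderOf_eq_one x

theorem x2_ne (h : QPair x y) : x ^ 2 ≠ 1 := by
  intro h2
  have := orderOf_dvd_of_pow_eq_one h2
  rw [h.ox] at this
  norm_num at this

theorem xinv (h : QPair x y) : x⁻¹ = x ^ 3 :=
  (eq_inv_of_mul_eq_one_left (by rw [← pow_succ]; exact h.x4)).symm

theorem y4 (h : QPair x y) : y ^ 4 = 1 := by
  have : y ^ 4 = (y ^ 2) ^ 2 := by rw [← pow_mul]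
  rw [this, h.sq, ← pow_mul]; exact h.x4

theorem yinv (h : QPair x y) : y⁻¹ = y ^ 3 :=
  (eq_inv_of_mul_eq_one_left (by rw [← pow_succ]; exact h.y4)).symm

/-- `y * x = x⁻¹ * y` -/
theorem yx (h : QPair x y) : y * x = x⁻¹ * y := by
  have := h.inv
  calc y * x = (y * x * y⁻¹) * y := by group
    _ = x⁻¹ * y := by rw [this]

theorem ne_comm (h : QPair x y) : x * y ≠ y * x := by
  intro hc
  rw [h.yx] at hc
  have h1 : x = x⁻¹ := mul_right_cancel hc
  have h2 : x ^ 2 = 1 := by rw [pow_two]; nth_rewrite 1 [h1]; exact inv_mul_cancel x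
  exact h.x2_ne h2

/-- `x * y * x⁻¹ = y⁻¹` -/
theorem inv' (h : QPair x y) : x * y * x⁻¹ = y⁻¹ := by
  have h1 : x * y = y * x⁻¹ := by
    have := h.yx
    calc x * y = x * (y * x) * x⁻¹ := by group
      _ = x * (x⁻¹ * y) * x⁻¹ := by rw [this]
      _ = y * x⁻¹ := by group
  have h2 : x⁻¹ * x⁻¹ = y * y := by
    rw [← pow_two, ← pow_two, h.sq, inv_pow]
    exact (eq_inv_of_mul_eq_one_left (by rw [← pow_add]; exact h.x4)).symm
  calc x * y * x⁻¹ = y * (x⁻¹ * x⁻¹) := by rw [h1]; group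
    _ = y * (y * y) := by rw [h2]
    _ = y ^ 3 := by rw [pow_succ, pow_two]; group
    _ = y⁻¹ := h.yinv.symm

theorem inv_y (h : QPair x y) : y⁻¹ * x * y = x⁻¹ := by
  have h1 := h.inv
  have h2 : x = y⁻¹ * x⁻¹ * y := by rw [← h1]; group
  calc y⁻¹ * x * y = (y⁻¹ * x⁻¹ * y)⁻¹ := by group
    _ = x⁻¹ := by rw [← h2]

theorem inv_x (h : QPair x y) : x⁻¹ * y * x = y⁻¹ := by
  have h1 := h.inv'
  have h2 : y = x⁻¹ * y⁻¹ * x := by rw [← h1]; group
  calc x⁻¹ * y * x = (x⁻¹ * y⁻¹ * x)⁻¹ := by group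
    _ = y⁻¹ := by rw [← h2]

theorem y_notMem (h : QPair x y) : y ∉ Subgroup.zpowers x := by
  intro hy
  obtain ⟨k, hk⟩ := Subgroup.mem_zpowers_iff.mp hy
  apply h.ne_comm
  rw [← hk]
  exact ((Commute.refl x).zpow_right k).eq

theorem conj_zpowers (h : QPair x y) (z : G) (hz : z ∈ Subgroup.zpowers x) :
    y⁻¹ * z * y = z⁻¹ := by
  obtain ⟨k, rfl⟩ := Subgroup.mem_zpowers_iff.mp hz
  have h1 := map_zpow (MulAut.conj y⁻¹) x k
  simp only [MulAut.conj_apply, inv_inv] at h1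
  rw [h1, h.inv_y, inv_zpow]

theorem zy (h : QPair x y) (z : G) (hz : z ∈ Subgroup.zpowers x) : z * y = y * z⁻¹ := by
  rw [← h.conj_zpowers z hz]; group

theorem x2_mem (_h : QPair x y) : x ^ 2 ∈ Subgroup.zpowers x :=
  Subgroup.pow_mem _ (Subgroup.mem_zpowers x) 2

/-- elements of `⟨x, y⟩` -/
theorem mem_closure (h : QPair x y) (g : G) (hg : g ∈ Subgroup.closure ({x, y} : Set G)) :
    g ∈ Subgroup.zpowers x ∨ ∃ z ∈ Subgroup.zpowers x, g = y * z := by
  induction hg using Subgroup.closure_induction with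
  | mem g hg =>
    rcases hg with rfl | hg
    · left; exact Subgroup.mem_zpowers _
    · rw [Set.mem_singleton_iff] at hg
      right; exact ⟨1, Subgroup.one_mem _, by rw [hg, mul_one]⟩
  | one => left; exact Subgroup.one_mem _
  | mul a b _ _ ha hb =>
    rcases ha with ha | ⟨z₁, hz₁, rfl⟩
    · rcases hb with hb | ⟨z₂, hz₂, rfl⟩
      · left; exact Subgroup.mul_mem _ ha hb
      · right
        refine ⟨a⁻¹ * z₂, Subgroup.mul_mem _ (Subgroup.inv_mem _ ha) hz₂, ?_⟩
        rw [← mul_assoc, h.zy a ha, mul_assoc]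
    · rcases hb with hb | ⟨z₂, hz₂, rfl⟩
      · right
        exact ⟨z₁ * b, Subgroup.mul_mem _ hz₁ hb, by rw [mul_assoc]⟩
      · left
        have e : y * z₁ * (y * z₂) = x ^ 2 * (z₁⁻¹ * z₂) := by
          calc y * z₁ * (y * z₂) = y * (z₁ * y) * z₂ := by group
            _ = y * (y * z₁⁻¹) * z₂ := by rw [h.zy z₁ hz₁]
            _ = y ^ 2 * (z₁⁻¹ * z₂) := by rw [pow_two]; group
            _ = x ^ 2 * (z₁⁻¹ * z₂) := by rw [h.sq]
        rw [e]
        exact Subgroup.mul_mem _ h.x2_mem (Subgroup.mul_mem _ (Subgroup.inv_mem _ hz₁) hz₂)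
  | inv a _ ha =>
    rcases ha with ha | ⟨z, hz, rfl⟩
    · left; exact Subgroup.inv_mem _ ha
    · right
      refine ⟨z * x ^ 2, Subgroup.mul_mem _ hz h.x2_mem, ?_⟩
      calc (y * z)⁻¹ = z⁻¹ * y⁻¹ := mul_inv_rev y z
        _ = z⁻¹ * (y * y ^ 2) := by rw [h.yinv, pow_succ']
        _ = (z⁻¹ * y) * x ^ 2 := by rw [h.sq, mul_assoc]
        _ = y * z⁻¹⁻¹ * x ^ 2 := by rw [h.zy z⁻¹ (Subgroup.inv_mem _ hz)]
        _ = y * (z * x ^ 2) := by rw [inv_inv, mul_assoc]

theorem nonempty_equiv (h : QPair x y) :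
    Nonempty (Subgroup.closure ({x, y} : Set G) ≃* QuaternionGroup 2) := by
  have hxQ : x ∈ Subgroup.closure ({x, y} : Set G) := Subgroup.subset_closure (by simp)
  have hyQ : y ∈ Subgroup.closure ({x, y} : Set G) := Subgroup.subset_closure (by simp)
  have hzp : ∀ g : Subgroup.closure ({x, y} : Set G), (g : G) ∈ Subgroup.zpowers x →
      g ∈ Subgroup.zpowers (⟨x, hxQ⟩ : Subgroup.closure ({x, y} : Set G)) := by
    intro g hg
    obtain ⟨k, hk⟩ := Subgroup.mem_zpowers_iff.mp hg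
    rw [Subgroup.mem_zpowers_iff]
    exact ⟨k, Subtype.ext (by rw [Subgroup.coe_zpow]; exact hk)⟩
  apply Cfsg.Agent.Helper16.nonempty_mulEquiv_quaternion (n := 2)
    (⟨x, hxQ⟩ : Subgroup.closure ({x, y} : Set G)) ⟨y, hyQ⟩
  · rw [← Subgroup.orderOf_coe]; exact h.ox
  · apply Subtype.ext; simp only [Subgroup.coe_pow]; exact h.sq
  · apply Subtype.ext
    simp only [Subgroup.coe_mul, Subgroup.coe_inv]
    exact h.inv
  · intro hmem
    apply h.y_notMem
    obtain ⟨k, hk⟩ := Subgroup.mem_zpowers_iff.mp hmem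
    rw [Subgroup.mem_zpowers_iff]
    refine ⟨k, ?_⟩
    have := congrArg Subtype.val hk
    simpa using this
  · intro g
    rcases h.mem_closure g g.2 with hg | ⟨z, hz, hgz⟩
    · left; exact hzp g hg
    · right
      have hx : IsOfFinOrder x := by rw [← orderOf_pos_iff, h.ox]; norm_num
      rw [← hx.mem_powers_iff_mem_zpowers, Submonoid.mem_powers_iff] at hz
      obtain ⟨s, rfl⟩ := hz
      refine ⟨s, Subtype.ext ?_⟩
      simp only [Subgroup.coe_mul, Subgroup.coe_pow]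
      exact hgz

theorem eq_or_eq_inv {x : G} (hx4 : x ^ 4 = 1) (w : G) (hw : w ∈ Subgroup.zpowers x)
    (hw2 : w ^ 2 ≠ 1) : w = x ∨ w = x⁻¹ := by
  have hx : IsOfFinOrder x := isOfFinOrder_iff_pow_eq_one.mpr ⟨4, by norm_num, hx4⟩
  rw [← hx.mem_powers_iff_mem_zpowers, Submonoid.mem_powers_iff] at hw
  obtain ⟨s, rfl⟩ := hw
  rw [pow_eq_pow_mod s hx4] at hw2 ⊢
  have hlt : s % 4 < 4 := Nat.mod_lt _ (by norm_num)
  have hinv : x⁻¹ = x ^ 3 := (eq_inv_of_mul_eq_one_left (by rw [← pow_succ]; exact hx4)).symm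
  interval_cases (s % 4)
  · exfalso; apply hw2; simp
  · left; simp
  · exfalso; apply hw2; rw [← pow_mul]; exact hx4
  · right; exact hinv.symm

theorem mem_cent_of (c : G) (h1 : c * x * c⁻¹ = x) (h2 : c * y * c⁻¹ = y) :
    c ∈ Subgroup.centralizer ({x, y} : Set G) := by
  rw [Subgroup.mem_centralizer_iff]
  intro g hg
  rcases hg with rfl | hg
  · nth_rewrite 1 [← h1]; group
  · rw [Set.mem_singleton_iff] at hg
    subst hg
    nth_rewrite 1 [← h2]; group

theorem exists_mul_mem_centralizer (h : QPair x y) (hn : ∀ H : Subgroup G, H.Normal) (g : G) :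
    ∃ q ∈ Subgroup.closure ({x, y} : Set G),
      q⁻¹ * g ∈ Subgroup.centralizer ({x, y} : Set G) := by
  have hxQ : x ∈ Subgroup.closure ({x, y} : Set G) := Subgroup.subset_closure (by simp)
  have hyQ : y ∈ Subgroup.closure ({x, y} : Set G) := Subgroup.subset_closure (by simp)
  have hgx : g * x * g⁻¹ = x ∨ g * x * g⁻¹ = x⁻¹ := by
    apply eq_or_eq_inv h.x4 _ (conj_mem_zpowers hn x g)
    rw [conj_pow]
    intro h1
    apply h.x2_ne
    have := congrArg (fun w => g⁻¹ * w * g) h1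
    simpa [mul_assoc] using this
  have hgy : g * y * g⁻¹ = y ∨ g * y * g⁻¹ = y⁻¹ := by
    apply eq_or_eq_inv h.y4 _ (conj_mem_zpowers hn y g)
    rw [conj_pow]
    intro h1
    apply h.x2_ne
    rw [← h.sq]
    have := congrArg (fun w => g⁻¹ * w * g) h1
    simpa [mul_assoc] using this
  rcases hgx with hgx | hgx <;> rcases hgy with hgy | hgy
  · refine ⟨1, Subgroup.one_mem _, ?_⟩
    rw [inv_one, one_mul]
    exact mem_cent_of g hgx hgy
  · refine ⟨x, hxQ, mem_cent_of _ ?_ ?_⟩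
    · calc x⁻¹ * g * x * (x⁻¹ * g)⁻¹ = x⁻¹ * (g * x * g⁻¹) * x := by group
        _ = x := by rw [hgx]; group
    · calc x⁻¹ * g * y * (x⁻¹ * g)⁻¹ = x⁻¹ * (g * y * g⁻¹) * x := by group
        _ = (x⁻¹ * y * x)⁻¹ := by rw [hgy]; group
        _ = y := by rw [h.inv_x, inv_inv]
  · refine ⟨y, hyQ, mem_cent_of _ ?_ ?_⟩
    · calc y⁻¹ * g * x * (y⁻¹ * g)⁻¹ = y⁻¹ * (g * x * g⁻¹) * y := by group
        _ = (y⁻¹ * x * y)⁻¹ := by rw [hgx]; group
        _ = x := by rw [h.inv_y, inv_inv]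
    · calc y⁻¹ * g * y * (y⁻¹ * g)⁻¹ = y⁻¹ * (g * y * g⁻¹) * y := by group
        _ = y := by rw [hgy]; group
  · refine ⟨x * y, Subgroup.mul_mem _ hxQ hyQ, mem_cent_of _ ?_ ?_⟩
    · calc (x * y)⁻¹ * g * x * ((x * y)⁻¹ * g)⁻¹ = y⁻¹ * x⁻¹ * (g * x * g⁻¹) * x * y := by group
        _ = (y⁻¹ * x * y)⁻¹ := by rw [hgx]; group
        _ = x := by rw [h.inv_y, inv_inv]
    · calc (x * y)⁻¹ * g * y * ((x * y)⁻¹ * g)⁻¹ = y⁻¹ * x⁻¹ * (g * y * g⁻¹) * x * y := by group
        _ = y⁻¹ * (x⁻¹ * y * x)⁻¹ * y := by rw [hgy]; group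
        _ = y := by rw [h.inv_x, inv_inv]; group

theorem sq_eq_one_of_mem_centralizer (h : QPair x y) (hn : ∀ H : Subgroup G, H.Normal) (t : G)
    (ht : t ∈ Subgroup.centralizer ({x, y} : Set G)) (ht4 : t ^ 4 = 1) : t ^ 2 = 1 := by
  rw [Subgroup.mem_centralizer_iff] at ht
  have htx : x * t = t * x := ht x (by simp)
  have hty : y * t = t * y := ht y (by simp)
  have hcomm : Commute x t := htx
  have hxt4 : (x * t) ^ 4 = 1 := by rw [hcomm.mul_pow, h.x4, ht4, one_mul]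
  have hw : y * (x * t) * y⁻¹ ∈ Subgroup.zpowers (x * t) := conj_mem_zpowers hn (x * t) y
  have hw' : y * (x * t) * y⁻¹ = x⁻¹ * t := by
    calc y * (x * t) * y⁻¹ = (y * x * y⁻¹) * (y * t) * y⁻¹ := by group
      _ = x⁻¹ * (t * y) * y⁻¹ := by rw [h.inv, hty]
      _ = x⁻¹ * t := by group
  rw [hw'] at hw
  have hfin : IsOfFinOrder (x * t) := isOfFinOrder_iff_pow_eq_one.mpr ⟨4, by norm_num, hxt4⟩
  rw [← hfin.mem_powers_iff_mem_zpowers, Submonoid.mem_powers_iff] at hw
  obtain ⟨s, hs⟩ := hw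
  rw [pow_eq_pow_mod s hxt4, hcomm.mul_pow] at hs
  have hlt : s % 4 < 4 := Nat.mod_lt _ (by norm_num)
  have htx_false : t = x → False := by
    intro e
    apply h.ne_comm
    rw [← e]; exact hty.symm
  interval_cases (s % 4)
  · exfalso
    simp only [pow_zero, one_mul] at hs
    apply htx_false
    have := congrArg (fun w => x * w) hs
    simpa using this.symm
  · exfalso
    simp only [pow_one] at hs
    have h1 : x = x⁻¹ := mul_right_cancel hs
    apply h.x2_ne
    rw [pow_two]; nth_rewrite 1 [h1]; exact inv_mul_cancel x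
  · exfalso
    apply htx_false
    -- x^2 * t^2 = x⁻¹ * t
    have h1 : x ^ 3 * t = 1 := by
      have e1 : x ^ 2 * t ^ 2 = x⁻¹ * t := hs
      have e2 : x * (x ^ 2 * t ^ 2) * t⁻¹ = x * (x⁻¹ * t) * t⁻¹ := by rw [e1]
      have e3 : x * (x⁻¹ * t) * t⁻¹ = 1 := by group
      rw [e3] at e2
      rw [← e2, pow_succ x 2, pow_two t]; group
    rw [← h.xinv] at h1
    have := congrArg (fun w => x * w) h1
    simpa using this
  · have e1 : x ^ 3 * t ^ 3 = x⁻¹ * t := hs
    rw [← h.xinv] at e1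
    have e2 : t ^ 3 = t := mul_left_cancel e1
    have e3 : t ^ 2 * t = 1 * t := by rw [← pow_succ, one_mul]; exact e2
    exact mul_right_cancel e3

end QPair


theorem exists_qpair [Finite G] (hn : ∀ H : Subgroup G, H.Normal)
    (hna : ∃ a b : G, a * b ≠ b * a) : ∃ x y : G, QPair x y := by
  obtain ⟨x, y, hxy, hmin⟩ := exists_min_pair hna
  rcases le_total (orderOf y) (orderOf x) with hle | hle
  · obtain ⟨h1, h2, h3⟩ := q8_of_min_pair hn x y hxy hmin hle
    exact ⟨x, y, ⟨h1, h2, h3⟩⟩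
  · have hmin' : ∀ x' y' : G, x' * y' ≠ y' * x' →
        orderOf y + orderOf x ≤ orderOf x' + orderOf y' := by
      intro x' y' h; rw [add_comm]; exact hmin x' y' h
    obtain ⟨h1, h2, h3⟩ := q8_of_min_pair hn y x (fun e => hxy e.symm) hmin' hle
    exact ⟨y, x, ⟨h1, h2, h3⟩⟩

theorem normal_of_subgroup (hn : ∀ H : Subgroup G, H.Normal) (C : Subgroup G)
    (H : Subgroup C) : H.Normal := by
  constructor
  intro a ha c
  have h1 := (hn (H.map C.subtype)).conj_mem (a : G) ⟨a, ha, rfl⟩ (c : G)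
  obtain ⟨b, hb, hbe⟩ := h1
  have : b = c * a * c⁻¹ := Subtype.ext (by simpa using hbe)
  rw [← this]; exact hb

theorem QPair.cent_comm [Finite G] {x y : G} (h : QPair x y) (hn : ∀ H : Subgroup G, H.Normal) :
    ∀ a ∈ Subgroup.centralizer ({x, y} : Set G), ∀ b ∈ Subgroup.centralizer ({x, y} : Set G),
      a * b = b * a := by
  by_contra hcon
  have hex : ∃ a ∈ Subgroup.centralizer ({x, y} : Set G),
      ∃ b ∈ Subgroup.centralizer ({x, y} : Set G), a * b ≠ b * a := by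
    by_contra hne
    apply hcon
    intro a ha b hb
    by_contra hab
    exact hne ⟨a, ha, b, hb, hab⟩
  obtain ⟨a, ha, b, hb, hab⟩ := hex
  have hnC : ∀ H : Subgroup (Subgroup.centralizer ({x, y} : Set G)), H.Normal :=
    normal_of_subgroup hn _
  have hnaC : ∃ a' b' : Subgroup.centralizer ({x, y} : Set G), a' * b' ≠ b' * a' :=
    ⟨⟨a, ha⟩, ⟨b, hb⟩, fun e => hab (congrArg Subtype.val e)⟩
  obtain ⟨x', y', hq⟩ := exists_qpair hnC hnaC
  have h4 : ((x' : G)) ^ 4 = 1 := by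
    have := congrArg Subtype.val hq.x4
    simpa using this
  have h2 := h.sq_eq_one_of_mem_centralizer hn (x' : G) x'.2 h4
  apply hq.x2_ne
  apply Subtype.ext
  simpa using h2

theorem eq_one_or_eq_sq {x : G} (hx4 : x ^ 4 = 1) (hx2 : x ^ 2 ≠ 1) (q : G)
    (hq : q ∈ Subgroup.zpowers x) (hq2 : q ^ 2 = 1) : q = 1 ∨ q = x ^ 2 := by
  have hx : IsOfFinOrder x := isOfFinOrder_iff_pow_eq_one.mpr ⟨4, by norm_num, hx4⟩
  rw [← hx.mem_powers_iff_mem_zpowers, Submonoid.mem_powers_iff] at hq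
  obtain ⟨s, rfl⟩ := hq
  rw [pow_eq_pow_mod s hx4] at hq2 ⊢
  have hlt : s % 4 < 4 := Nat.mod_lt _ (by norm_num)
  interval_cases (s % 4)
  · left; simp
  · exfalso; apply hx2; simpa using hq2
  · right; rfl
  · exfalso; apply hx2
    rw [← pow_mul] at hq2
    have : x ^ (3 * 2) = x ^ 4 * x ^ 2 := by rw [← pow_add]
    rw [this, hx4, one_mul] at hq2
    exact hq2

end

/-- A finite non-abelian group in which every subgroup is normal is the internal direct product of a subgroup isomorphic to the quaternion group of order `8`, an elementary abelian `2`-subgroup and an abelian subgroup of odd order. -/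
theorem result {G : Type*} [Group G] [Finite G] (hna : ¬ IsMulCommutative G) (hn : ∀ H : Subgroup G, H.Normal) : ∃ Q E A : Subgroup G, Nonempty (Q ≃* QuaternionGroup 2) ∧ Cfsg.IsElementaryAbelian 2 E ∧ IsMulCommutative A ∧ Odd (Nat.card A) ∧ E ⊓ A = ⊥ ∧ Q ⊓ (E ⊔ A) = ⊥ ∧ Q ⊔ (E ⊔ A) = ⊤ := by
  classical
  have hna' : ∃ a b : G, a * b ≠ b * a := by
    by_contra hcon
    apply hna
    exact ⟨⟨fun a b => by
      by_contra h
      exact hcon ⟨a, b, h⟩⟩⟩
  obtain ⟨x, y, h⟩ := exists_qpair hn hna'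
  have hCcomm := h.cent_comm hn
  have hx2C : x ^ 2 ∈ Subgroup.centralizer ({x, y} : Set G) := by
    rw [Subgroup.mem_centralizer_iff]
    intro g hg
    rcases hg with rfl | hg
    · exact ((Commute.refl g).pow_right 2).eq
    · rw [Set.mem_singleton_iff] at hg
      subst hg
      rw [← h.sq]
      exact ((Commute.refl g).pow_right 2).eq
  -- the two parts of the centralizer
  let C2 : Subgroup G :=
    { carrier := {t | t ∈ Subgroup.centralizer ({x, y} : Set G) ∧ t ^ 2 = 1}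
      one_mem' := ⟨Subgroup.one_mem _, one_pow 2⟩
      mul_mem' := by
        intro a b ha hb
        refine ⟨Subgroup.mul_mem _ ha.1 hb.1, ?_⟩
        have hc : Commute a b := hCcomm a ha.1 b hb.1
        rw [hc.mul_pow, ha.2, hb.2, one_mul]
      inv_mem' := by
        intro a ha
        exact ⟨Subgroup.inv_mem _ ha.1, by rw [inv_pow, ha.2, inv_one]⟩ }
  let A : Subgroup G :=
    { carrier := {t | t ∈ Subgroup.centralizer ({x, y} : Set G) ∧ ¬ 2 ∣ orderOf t}
      one_mem' := ⟨Subgroup.one_mem _, by rw [orderOf_one]; norm_num⟩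
      mul_mem' := by
        intro a b ha hb
        refine ⟨Subgroup.mul_mem _ ha.1 hb.1, ?_⟩
        have hc : Commute a b := hCcomm a ha.1 b hb.1
        intro h2
        have h3 := h2.trans (hc.orderOf_mul_dvd_lcm)
        have h4 := h3.trans (Nat.lcm_dvd_mul _ _)
        rcases (Nat.Prime.dvd_mul Nat.prime_two).mp h4 with h5 | h5
        · exact ha.2 h5
        · exact hb.2 h5
      inv_mem' := by
        intro a ha
        exact ⟨Subgroup.inv_mem _ ha.1, by rw [orderOf_inv]; exact ha.2⟩ }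
  have hC2le : C2 ≤ Subgroup.centralizer ({x, y} : Set G) := fun t ht => ht.1
  have hAle : A ≤ Subgroup.centralizer ({x, y} : Set G) := fun t ht => ht.1
  have hx2C2 : x ^ 2 ∈ C2 := ⟨hx2C, by rw [← pow_mul]; exact h.x4⟩
  -- decomposition of the centralizer
  have hdec : ∀ t ∈ Subgroup.centralizer ({x, y} : Set G), ∃ u ∈ C2, ∃ a ∈ A, t = u * a := by
    intro t ht
    have h4 : ¬ 4 ∣ orderOf t := by
      intro hd
      have hpos : 0 < orderOf t := orderOf_pos t
      obtain ⟨m, hm⟩ := hd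
      have hm0 : m ≠ 0 := by
        rintro rfl
        rw [mul_zero] at hm; omega
      have ho : orderOf (t ^ m) = 4 := by
        rw [orderOf_pow_of_dvd hm0 ⟨4, by rw [hm]; ring⟩, hm, Nat.mul_div_cancel _ (Nat.pos_of_ne_zero hm0)]
      have h1 : (t ^ m) ^ 4 = 1 := by rw [← ho]; exact pow_orderOf_eq_one _
      have h2 := h.sq_eq_one_of_mem_centralizer hn (t ^ m) (Subgroup.pow_mem _ ht m) h1
      have h3 := orderOf_dvd_of_pow_eq_one h2
      rw [ho] at h3
      norm_num at h3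
    by_cases h2 : 2 ∣ orderOf t
    · obtain ⟨m, hm⟩ := h2
      have hmodd : ¬ 2 ∣ m := by
        intro ⟨l, hl⟩
        apply h4
        exact ⟨l, by rw [hm, hl]; ring⟩
      have ht2m : t ^ (2 * m) = 1 := by rw [← hm]; exact pow_orderOf_eq_one t
      refine ⟨t ^ m, ⟨Subgroup.pow_mem _ ht m, by rw [← pow_mul, mul_comm]; exact ht2m⟩,
        t ^ (m + 1), ⟨Subgroup.pow_mem _ ht _, ?_⟩, ?_⟩
      · intro hd
        apply hmodd
        have hm1 : 2 ∣ m + 1 := by omega
        obtain ⟨l, hl⟩ := hm1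
        have h5 : (t ^ (m + 1)) ^ m = 1 := by
          rw [← pow_mul, hl, show 2 * l * m = 2 * m * l by ring, pow_mul, ht2m, one_pow]
        exact hd.trans (orderOf_dvd_of_pow_eq_one h5)
      · rw [← pow_add, show m + (m + 1) = 2 * m + 1 by ring, pow_succ, ht2m, one_mul]
    · exact ⟨1, Subgroup.one_mem _, t, ⟨ht, h2⟩, (one_mul t).symm⟩
  -- complement of ⟨x²⟩ in C2
  let S : Set (Subgroup G) := {E | E ≤ C2 ∧ x ^ 2 ∉ E}
  have hS : S.Nonempty := ⟨⊥, bot_le, by rw [Subgroup.mem_bot]; exact h.x2_ne⟩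
  obtain ⟨E, hE, hEmax⟩ := (Set.toFinite S).exists_maximal hS
  have hEC2 : E ≤ C2 := hE.1
  have hEx : x ^ 2 ∉ E := hE.2
  have hEdec : ∀ t ∈ C2, ∃ e ∈ E, t = e ∨ t = e * x ^ 2 := by
    intro t ht
    by_cases htE : t ∈ E
    · exact ⟨t, htE, Or.inl rfl⟩
    · have hx2E' : x ^ 2 ∈ E ⊔ Subgroup.zpowers t := by
        by_contra hnot
        have hin : E ⊔ Subgroup.zpowers t ∈ S :=
          ⟨sup_le hEC2 (Subgroup.zpowers_le.mpr ht), hnot⟩
        have hle := hEmax hin le_sup_left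
        exact htE (hle (Subgroup.mem_sup_right (Subgroup.mem_zpowers t)))
      haveI := hn (Subgroup.zpowers t)
      rw [← SetLike.mem_coe, Subgroup.mul_normal] at hx2E'
      obtain ⟨e, he, w, hw, hew⟩ := hx2E'
      obtain ⟨j, rfl⟩ := Subgroup.mem_zpowers_iff.mp hw
      have ht2 : t ^ 2 = 1 := ht.2
      rcases Int.even_or_odd j with ⟨i, rfl⟩ | ⟨i, rfl⟩
      · exfalso
        apply hEx
        have : t ^ (i + i) = 1 := by
          rw [← two_mul, zpow_mul, zpow_ofNat, ht2, one_zpow]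
        simp only [this, mul_one] at hew
        rw [← hew]; exact he
      · have : t ^ (2 * i + 1) = t := by
          rw [zpow_add, zpow_one, zpow_mul, zpow_ofNat, ht2, one_zpow, one_mul]
        simp only [this] at hew
        refine ⟨e⁻¹, Subgroup.inv_mem _ he, Or.inr ?_⟩
        rw [← hew]; group
  refine ⟨Subgroup.closure ({x, y} : Set G), E, A, h.nonempty_equiv, ?_, ?_, ?_, ?_, ?_, ?_⟩
  · exact ⟨⟨⟨fun a b => Subtype.ext
      (hCcomm a (hC2le (hEC2 a.2)) b (hC2le (hEC2 b.2)))⟩⟩, fun a ha => (hEC2 ha).2⟩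
  · exact ⟨⟨fun a b => Subtype.ext (hCcomm a (hAle a.2) b (hAle b.2))⟩⟩
  · rw [← Nat.not_even_iff_odd, even_iff_two_dvd]
    intro h2
    haveI : Fact (Nat.Prime 2) := ⟨Nat.prime_two⟩
    obtain ⟨a, ha⟩ := exists_prime_orderOf_dvd_card' 2 h2
    have ha' : orderOf (a : G) = 2 := by rw [Subgroup.orderOf_coe]; exact ha
    exact a.2.2 (by rw [ha'])
  · rw [Subgroup.eq_bot_iff_forall]
    intro t ht
    obtain ⟨ht1, ht2⟩ := Subgroup.mem_inf.mp ht
    have h1 := orderOf_dvd_of_pow_eq_one (hEC2 ht1).2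
    rcases (Nat.dvd_prime Nat.prime_two).mp h1 with h2 | h2
    · exact orderOf_eq_one_iff.mp h2
    · exact absurd (by rw [h2]) ht2.2
  · rw [Subgroup.eq_bot_iff_forall]
    intro q hq
    obtain ⟨hqQ, hqEA⟩ := Subgroup.mem_inf.mp hq
    haveI := hn A
    rw [← SetLike.mem_coe, Subgroup.mul_normal] at hqEA
    obtain ⟨e, he, a, ha, hea⟩ := hqEA
    replace hea : e * a = q := hea
    have heC := hC2le (hEC2 he)
    have haC := hAle ha
    have hqC : q ∈ Subgroup.centralizer ({x, y} : Set G) := by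
      rw [← hea]; exact Subgroup.mul_mem _ heC haC
    have hqx : x * q = q * x := Subgroup.mem_centralizer_iff.mp hqC x (by simp)
    have hqy : y * q = q * y := Subgroup.mem_centralizer_iff.mp hqC y (by simp)
    have hqz : q ∈ Subgroup.zpowers x := by
      rcases h.mem_closure q hqQ with hz | ⟨z, hz, rfl⟩
      · exact hz
      · exfalso
        apply h.ne_comm
        obtain ⟨k, rfl⟩ := Subgroup.mem_zpowers_iff.mp hz
        have hxz : x * x ^ k = x ^ k * x := ((Commute.refl x).zpow_right k).eq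
        have e1 : x * y * x ^ k = y * x * x ^ k := by
          calc x * y * x ^ k = x * (y * x ^ k) := by group
            _ = y * x ^ k * x := hqx
            _ = y * (x ^ k * x) := by group
            _ = y * (x * x ^ k) := by rw [hxz]
            _ = y * x * x ^ k := by group
        exact mul_right_cancel e1
    have hq2 : q ^ 2 = 1 := by
      have e1 := h.zy q hqz
      rw [← hqy] at e1
      have e2 : q = q⁻¹ := mul_left_cancel e1
      rw [pow_two]; nth_rewrite 1 [e2]; exact inv_mul_cancel q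
    have ha2 : a ^ 2 = 1 := by
      have hae : a = e⁻¹ * q := by rw [← hea]; group
      have hc : Commute e⁻¹ q := hCcomm _ (Subgroup.inv_mem _ heC) _ hqC
      rw [hae, hc.mul_pow, inv_pow, (hEC2 he).2, hq2, inv_one, one_mul]
    have ha1 : a = 1 := by
      have h1 := orderOf_dvd_of_pow_eq_one ha2
      rcases (Nat.dvd_prime Nat.prime_two).mp h1 with h2 | h2
      · exact orderOf_eq_one_iff.mp h2
      · exact absurd (by rw [h2]) ha.2
    rw [ha1, mul_one] at hea
    rcases eq_one_or_eq_sq h.x4 h.x2_ne q hqz hq2 with h1 | h1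
    · exact h1
    · exfalso
      apply hEx
      rw [← h1, ← hea]; exact he
  · rw [eq_top_iff]
    intro g _
    obtain ⟨q, hqQ, hc⟩ := h.exists_mul_mem_centralizer hn g
    obtain ⟨u, hu, a, ha, hua⟩ := hdec _ hc
    obtain ⟨e, he, heu⟩ := hEdec u hu
    have hg : g = q * (u * a) := by rw [← hua]; group
    rw [hg]
    have hxQ : x ∈ Subgroup.closure ({x, y} : Set G) := Subgroup.subset_closure (by simp)
    apply Subgroup.mul_mem _ (Subgroup.mem_sup_left hqQ)
    apply Subgroup.mul_mem _ _ (Subgroup.mem_sup_right (Subgroup.mem_sup_right ha))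
    rcases heu with rfl | rfl
    · exact Subgroup.mem_sup_right (Subgroup.mem_sup_left he)
    · exact Subgroup.mul_mem _ (Subgroup.mem_sup_right (Subgroup.mem_sup_left he))
        (Subgroup.mem_sup_left (Subgroup.pow_mem _ hxQ 2))

end Cfsg.Agent.S4211
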