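import Mathlib
import Cfsg.Statements.S4212
import Cfsg.Agent.Lib.Helper20.Frobenius
import Cfsg.Agent.Lib.Helper21.CosetFiber
import Cfsg.Agent.Lib.Helper21.FreeAction

set_option autoImplicit false
open Cfsg

namespace Cfsg.Agent.S4212

open Cfsg.Agent.Helper21

universe u

section Basic

variable {G : Type u} [Group G] [Finite G]

/-- the number of `x` with `x ^ n` conjugate to `c` -/
noncomputable def aCount (n : ℕ) (c : G) : ℕ := Nat.card {x : G // IsConj c (x ^ n)}

/-- the size of the class of `c` -/
noncomputable def hCount (c : G) : ℕ := Nat.card {y : G // IsConj c y}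

/-- the number of solutions of `x ^ n = c` -/
noncomputable def bCount (n : ℕ) (c : G) : ℕ := Nat.card {x : G // x ^ n = c}

theorem bCount_conj (n : ℕ) (c z : G) : bCount n (z * c * z⁻¹) = bCount n c := by
  unfold bCount
  apply Nat.card_congr
  refine
    { toFun := fun x => ⟨z⁻¹ * x.1 * z, by
        have h1 : (z⁻¹ * x.1 * z) ^ n = z⁻¹ * x.1 ^ n * z := by
          have := conj_pow (a := z⁻¹) (b := x.1) (i := n)
          simpa using this
        rw [h1, x.2]; group⟩
      invFun := fun x => ⟨z * x.1 * z⁻¹, by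
        have h1 : (z * x.1 * z⁻¹) ^ n = z * x.1 ^ n * z⁻¹ := conj_pow
        rw [h1, x.2]⟩
      left_inv := fun x => by
        apply Subtype.ext
        show z * (z⁻¹ * x.1 * z) * z⁻¹ = x.1
        group
      right_inv := fun x => by
        apply Subtype.ext
        show z⁻¹ * (z * x.1 * z⁻¹) * z = x.1
        group }

theorem aCount_eq (n : ℕ) (c : G) : aCount n c = hCount c * bCount n c := by
  classical
  unfold aCount hCount
  have := Fintype.ofFinite {y : G // IsConj c y}
  let f : {x : G // IsConj c (x ^ n)} → {y : G // IsConj c y} := fun x => ⟨x.1 ^ n, x.2⟩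
  rw [← Nat.card_congr (Equiv.sigmaFiberEquiv f), Nat.card_sigma]
  have hfib : ∀ y : {y : G // IsConj c y}, Nat.card {x // f x = y} = bCount n c := by
    intro y
    obtain ⟨z, hz⟩ := isConj_iff.mp y.2
    rw [← bCount_conj n c z, hz]
    unfold bCount
    apply Nat.card_congr
    refine
      { toFun := fun x => ⟨x.1.1, congrArg Subtype.val x.2⟩
        invFun := fun x => ⟨⟨x.1, by rw [x.2]; exact y.2⟩, Subtype.ext x.2⟩
        left_inv := fun x => rfl
        right_inv := fun x => rfl }
  simp only [hfib, Finset.sum_const, Finset.card_univ, smul_eq_mul, Nat.card_eq_fintype_card]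

theorem hCount_mul_card (c : G) :
    hCount c * Nat.card (Subgroup.centralizer ({c} : Set G)) = Nat.card G := by
  have h := card_eq_card_mul_card_range (Subgroup.centralizer ({c} : Set G))
    (fun x : G => x * c * x⁻¹) (by
      intro x y
      rw [Subgroup.mem_centralizer_singleton_iff]
      constructor
      · intro h
        have h' : x * c * x⁻¹ = y * c * y⁻¹ := h
        calc x⁻¹ * y * c = x⁻¹ * (y * c * y⁻¹) * y := by group
          _ = x⁻¹ * (x * c * x⁻¹) * y := by rw [h']
          _ = c * (x⁻¹ * y) := by group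
      · intro h
        show x * c * x⁻¹ = y * c * y⁻¹
        calc x * c * x⁻¹ = x * (c * (x⁻¹ * y)) * y⁻¹ := by group
          _ = x * (x⁻¹ * y * c) * y⁻¹ := by rw [h]
          _ = y * c * y⁻¹ := by group)
  rw [h, mul_comm]
  congr 1
  unfold hCount
  apply Nat.card_congr
  refine Equiv.subtypeEquivRight ?_
  intro y
  rw [isConj_iff, Set.mem_range]

theorem hCount_of_central (c : G) (hc : c ∈ Subgroup.center G) : hCount c = 1 := by
  unfold hCount
  rw [Nat.card_eq_one_iff_unique]
  refine ⟨⟨?_⟩, ⟨⟨c, IsConj.refl c⟩⟩⟩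
  have key : ∀ a : G, IsConj c a → a = c := by
    intro a ha
    obtain ⟨z, hz⟩ := isConj_iff.mp ha
    rw [← hz, Subgroup.mem_center_iff.mp hc z]
    group
  rintro ⟨a, ha⟩ ⟨b, hb⟩
  exact Subtype.ext ((key a ha).trans (key b hb).symm)

theorem self_mem_centralizer (c : G) : c ∈ Subgroup.centralizer ({c} : Set G) :=
  Subgroup.mem_centralizer_singleton_iff.mpr rfl

theorem bCount_centralizer (n : ℕ) (c : G) :
    bCount n c = bCount (G := Subgroup.centralizer ({c} : Set G)) n ⟨c, self_mem_centralizer c⟩ := by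
  unfold bCount
  apply Nat.card_congr
  refine
    { toFun := fun x => ⟨⟨x.1, by
        rw [Subgroup.mem_centralizer_singleton_iff]
        have h := x.2
        calc x.1 * c = x.1 * x.1 ^ n := by rw [h]
          _ = x.1 ^ n * x.1 := (pow_mul_comm' x.1 n).symm
          _ = c * x.1 := by rw [h]⟩, Subtype.ext x.2⟩
      invFun := fun x => ⟨x.1.1, by
        have := congrArg Subtype.val x.2
        simpa using this⟩
      left_inv := fun x => rfl
      right_inv := fun x => rfl }

/-- divisibility for the number of `x` whose power lies in a conjugation-invariant set -/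
theorem dvd_card_pow_mem (m d : ℕ) (hd : ∀ y : G, d ∣ aCount m y) (Y : Set G)
    (hY : ∀ y ∈ Y, ∀ z : G, z * y * z⁻¹ ∈ Y) : d ∣ Nat.card {x : G // x ^ m ∈ Y} := by
  classical
  have := Fintype.ofFinite G
  rw [Nat.card_eq_fintype_card, Fintype.card_subtype]
  rw [Finset.card_eq_sum_card_fiberwise (f := fun x : G => ConjClasses.mk (x ^ m))
    (t := Finset.univ) (fun _ _ => Finset.mem_coe.mpr (Finset.mem_univ _))]
  apply Finset.dvd_sum
  intro C _
  obtain ⟨y, rfl⟩ := ConjClasses.exists_rep C
  by_cases hy : y ∈ Y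
  · have h1 : (Finset.univ.filter (fun x : G => x ^ m ∈ Y)).filter
        (fun x => ConjClasses.mk (x ^ m) = ConjClasses.mk y) =
        Finset.univ.filter (fun x : G => IsConj y (x ^ m)) := by
      ext x
      simp only [Finset.mem_filter, Finset.mem_univ, true_and, ConjClasses.mk_eq_mk_iff_isConj]
      constructor
      · rintro ⟨-, h⟩
        exact h.symm
      · intro h
        refine ⟨?_, h.symm⟩
        obtain ⟨z, hz⟩ := isConj_iff.mp h
        rw [← hz]
        exact hY y hy z
    rw [h1]
    have h2 := hd y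
    unfold aCount at h2
    rwa [Nat.card_eq_fintype_card, Fintype.card_subtype] at h2
  · have h1 : (Finset.univ.filter (fun x : G => x ^ m ∈ Y)).filter
        (fun x => ConjClasses.mk (x ^ m) = ConjClasses.mk y) = ∅ := by
      rw [Finset.eq_empty_iff_forall_notMem]
      intro x hx
      simp only [Finset.mem_filter, Finset.mem_univ, true_and,
        ConjClasses.mk_eq_mk_iff_isConj] at hx
      obtain ⟨hxY, hconj⟩ := hx
      obtain ⟨z, hz⟩ := isConj_iff.mp hconj
      apply hy
      rw [← hz]
      exact hY _ hxY z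
    rw [h1, Finset.card_empty]
    exact dvd_zero d

/-- a set of elements stable under right multiplication by a subgroup `W` has cardinality
divisible by the order of `W` -/
theorem card_dvd_fiber (Pr : G → Prop) (W : Subgroup G)
    (hstab : ∀ x : G, Pr x → ∀ w ∈ W, Pr (x * w)) :
    Nat.card W ∣ Nat.card {x : G // Pr x} := by
  letI : MulAction W {x : G // Pr x} :=
    { smul := fun w x => ⟨x.1 * (w : G)⁻¹, hstab x.1 x.2 _ (W.inv_mem w.2)⟩
      one_smul := fun x => by
        apply Subtype.ext
        show x.1 * ((1 : W) : G)⁻¹ = x.1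
        simp
      mul_smul := fun w₁ w₂ x => by
        apply Subtype.ext
        show x.1 * ((w₁ * w₂ : W) : G)⁻¹ = x.1 * (w₂ : G)⁻¹ * (w₁ : G)⁻¹
        rw [Subgroup.coe_mul, mul_inv_rev, mul_assoc] }
  apply card_dvd_of_free
  intro w x hwx
  have h1 : x.1 * (w : G)⁻¹ = x.1 := congrArg Subtype.val hwx
  have h2 : (w : G)⁻¹ = 1 := mul_eq_left.mp h1
  exact Subtype.ext (inv_eq_one.mp h2)

theorem orderOf_of_pow_eq (p s : ℕ) [hp : Fact p.Prime] (c : G) (hpc : p ∣ orderOf c) (x : G)
    (hx : x ^ (p ^ s) = c) : orderOf x = p ^ s * orderOf c := by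
  have h1 : orderOf (x ^ (p ^ s)) = orderOf x / Nat.gcd (orderOf x) (p ^ s) := orderOf_pow x
  rw [hx] at h1
  obtain ⟨j, hj, hgj⟩ := (Nat.dvd_prime_pow hp.out).mp (Nat.gcd_dvd_right (orderOf x) (p ^ s))
  have hox : orderOf x = orderOf c * p ^ j := by
    rw [h1, hgj]
    exact (Nat.div_mul_cancel (hgj ▸ Nat.gcd_dvd_left (orderOf x) (p ^ s))).symm
  have hjs : j = s := by
    by_contra hne
    have hlt : j < s := lt_of_le_of_ne hj hne
    have h2 : p ^ (j + 1) ∣ orderOf x := by
      rw [hox, pow_succ, mul_comm (p ^ j) p]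
      exact Nat.mul_dvd_mul hpc (dvd_refl _)
    have h3 : p ^ (j + 1) ∣ p ^ s := pow_dvd_pow p hlt
    have h4 : p ^ (j + 1) ∣ p ^ j := hgj ▸ Nat.dvd_gcd h2 h3
    have h5 := Nat.le_of_dvd (pow_pos hp.out.pos j) h4
    have h6 : p ^ j < p ^ (j + 1) := Nat.pow_lt_pow_right hp.out.one_lt (Nat.lt_succ_self j)
    omega
  rw [hox, hjs, mul_comm]

theorem stab_fiber (p s : ℕ) [hp : Fact p.Prime] (c : G) (hpc : p ∣ orderOf c) (W : Subgroup G)
    (x : G) (hx : x ^ (p ^ s) = c ∧ Subgroup.zpowers (x ^ orderOf c) = W) (w : G) (hw : w ∈ W) :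
    (x * w) ^ (p ^ s) = c ∧ Subgroup.zpowers ((x * w) ^ orderOf c) = W := by
  obtain ⟨hxc, hxW⟩ := hx
  set m := orderOf c with hm
  have hm0 : m ≠ 0 := (orderOf_pos c).ne'
  have hox : orderOf x = p ^ s * m := orderOf_of_pow_eq p s c hpc x hxc
  have hou : orderOf (x ^ m) = p ^ s := by
    rw [orderOf_pow_of_dvd hm0 (hox ▸ Dvd.intro_left _ rfl), hox]
    exact Nat.mul_div_cancel _ (Nat.pos_of_ne_zero hm0)
  rw [← hxW] at hw
  have hw' : w ∈ Submonoid.powers (x ^ m) :=
    (isOfFinOrder_of_finite (x ^ m)).mem_powers_iff_mem_zpowers.mpr hw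
  obtain ⟨j, rfl⟩ := hw'
  have hcomm : Commute x ((x ^ m) ^ j) := ((Commute.refl x).pow_right m).pow_right j
  constructor
  · have h0 : ((x ^ m) ^ j) ^ (p ^ s) = 1 := by
      rw [← pow_mul, ← pow_mul]
      have : m * (j * p ^ s) = (p ^ s * m) * j := by ring
      rw [this, pow_mul, ← hox, pow_orderOf_eq_one, one_pow]
    rw [hcomm.mul_pow, hxc, h0, mul_one]
  · have h1 : (x * (x ^ m) ^ j) ^ m = (x ^ m) ^ (1 + j * m) := by
      rw [hcomm.mul_pow, pow_add, pow_one, pow_mul]
    rw [h1]
    have hcop : (orderOf (x ^ m)).Coprime (1 + j * m) := by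
      rw [hou]
      apply Nat.Coprime.pow_left
      rw [Nat.Prime.coprime_iff_not_dvd hp.out]
      intro hd
      have h2 : p ∣ j * m := Dvd.dvd.mul_left hpc j
      have h3 : p ∣ 1 := (Nat.dvd_add_left h2).mp hd
      exact hp.out.one_lt.ne' (Nat.dvd_one.mp h3)
    have h2 : orderOf ((x ^ m) ^ (1 + j * m)) = orderOf (x ^ m) := hcop.orderOf_pow
    rw [← hxW]
    apply Subgroup.eq_of_le_of_card_ge
    · rw [Subgroup.zpowers_le]
      exact Subgroup.pow_mem _ (Subgroup.mem_zpowers _) _
    · rw [Nat.card_zpowers, Nat.card_zpowers, h2]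

theorem orderOf_pow_order (p s : ℕ) [hp : Fact p.Prime] (c : G) (hpc : p ∣ orderOf c) (x : G)
    (hx : x ^ (p ^ s) = c) : orderOf (x ^ orderOf c) = p ^ s := by
  have hm0 : orderOf c ≠ 0 := (orderOf_pos c).ne'
  have hox : orderOf x = p ^ s * orderOf c := orderOf_of_pow_eq p s c hpc x hx
  rw [orderOf_pow_of_dvd hm0 (hox ▸ Dvd.intro_left _ rfl), hox]
  exact Nat.mul_div_cancel _ (Nat.pos_of_ne_zero hm0)

/-- the packet argument: if `p` divides the order of `c`, the solutions of `x ^ (p ^ s) = c`
come in packets of size `p ^ s` -/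
theorem pow_dvd_bCount (p s : ℕ) [hp : Fact p.Prime] (c : G) (hpc : p ∣ orderOf c) :
    p ^ s ∣ bCount (p ^ s) c := by
  classical
  have := Fintype.ofFinite G
  unfold bCount
  rw [Nat.card_eq_fintype_card, Fintype.card_subtype,
    Finset.card_eq_sum_card_image (fun x : G => Subgroup.zpowers (x ^ orderOf c))]
  apply Finset.dvd_sum
  intro W hW
  obtain ⟨x₀, hx₀, rfl⟩ := Finset.mem_image.mp hW
  have hx₀c : x₀ ^ (p ^ s) = c := (Finset.mem_filter.mp hx₀).2
  have hcardW : Nat.card (Subgroup.zpowers (x₀ ^ orderOf c)) = p ^ s := by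
    rw [Nat.card_zpowers, orderOf_pow_order p s c hpc x₀ hx₀c]
  have h1 := card_dvd_fiber
    (fun x : G => x ^ (p ^ s) = c ∧ Subgroup.zpowers (x ^ orderOf c) = Subgroup.zpowers (x₀ ^ orderOf c))
    (Subgroup.zpowers (x₀ ^ orderOf c))
    (fun x hx w hw => stab_fiber p s c hpc _ x hx w hw)
  rw [hcardW, Nat.card_eq_fintype_card, Fintype.card_subtype] at h1
  rw [Finset.filter_filter]
  exact h1

theorem bCount_eq_one_of_coprime (n : ℕ) (c : G) (hc : c ∈ Subgroup.center G)
    (hcop : (orderOf c).Coprime n) : bCount n c = bCount n (1 : G) := by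
  have hcop' : (Nat.card (Subgroup.zpowers c)).Coprime n := by rw [Nat.card_zpowers]; exact hcop
  obtain ⟨c₁, hc₁⟩ := (powCoprime hcop').surjective ⟨c, Subgroup.mem_zpowers c⟩
  have hc₁n : (c₁ : G) ^ n = c := by
    have := congrArg Subtype.val hc₁
    simpa using this
  have hc₁c : (c₁ : G) ∈ Subgroup.center G := (Subgroup.zpowers_le.mpr hc) c₁.2
  have hcomm : ∀ x : G, Commute x (c₁ : G) := fun x => (Subgroup.mem_center_iff.mp hc₁c x)
  unfold bCount
  apply Nat.card_congr
  refine
    { toFun := fun x => ⟨x.1 * (c₁ : G)⁻¹, by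
        rw [(hcomm x.1).inv_right.mul_pow, x.2, inv_pow, hc₁n, mul_inv_cancel]⟩
      invFun := fun x => ⟨x.1 * (c₁ : G), by
        rw [(hcomm x.1).mul_pow, x.2, hc₁n, one_mul]⟩
      left_inv := fun x => by
        apply Subtype.ext
        show x.1 * (c₁ : G)⁻¹ * (c₁ : G) = x.1
        group
      right_inv := fun x => by
        apply Subtype.ext
        show x.1 * (c₁ : G) * (c₁ : G)⁻¹ = x.1
        group }

theorem gcd_dvd_bCount_one (n : ℕ) : Nat.gcd n (Nat.card G) ∣ bCount n (1 : G) := by
  have h1 := Cfsg.Agent.Helper20.frobenius_main (Nat.card G) G rfl (Nat.gcd n (Nat.card G))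
    (Nat.gcd_dvd_right _ _)
  have h2 : Nat.card {g : G // g ^ (Nat.gcd n (Nat.card G)) = 1} = bCount n (1 : G) := by
    unfold bCount
    apply Nat.card_congr
    refine Equiv.subtypeEquivRight ?_
    intro x
    rw [← orderOf_dvd_iff_pow_eq_one, ← orderOf_dvd_iff_pow_eq_one, Nat.dvd_gcd_iff]
    exact ⟨fun h => h.1, fun h => ⟨h, orderOf_dvd_natCard x⟩⟩
  rwa [h2] at h1

theorem bCount_mul (n₁ n₂ : ℕ) (c : G) :
    bCount (n₁ * n₂) c = Nat.card {x : G // x ^ n₁ ∈ {y : G | y ^ n₂ = c}} := by
  unfold bCount
  apply Nat.card_congr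
  refine Equiv.subtypeEquivRight ?_
  intro x
  rw [Set.mem_setOf_eq, pow_mul]

theorem dvd_bCount_mul (n₁ n₂ : ℕ) (c : G) (hc : c ∈ Subgroup.center G)
    (hall : ∀ y : G, Nat.gcd n₁ (Nat.card G) ∣ aCount n₁ y) :
    Nat.gcd n₁ (Nat.card G) ∣ bCount (n₁ * n₂) c := by
  rw [bCount_mul]
  apply dvd_card_pow_mem n₁ _ hall
  intro y hy z
  rw [Set.mem_setOf_eq] at hy ⊢
  rw [conj_pow, hy, Subgroup.mem_center_iff.mp hc z]
  group

/-- the central case, given the result for the non-central classes -/
theorem central_case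
    (hA : ∀ c : G, c ∉ Subgroup.center G → ∀ n : ℕ, Nat.gcd n (Nat.card G) ∣ aCount n c) :
    ∀ n : ℕ, ∀ c ∈ Subgroup.center G, Nat.gcd n (Nat.card G) ∣ bCount n c := by
  intro n
  induction n using Nat.strong_induction_on with
  | _ n ih =>
    intro c hc
    have hall : ∀ m < n, ∀ y : G, Nat.gcd m (Nat.card G) ∣ aCount m y := by
      intro m hm y
      by_cases hy : y ∈ Subgroup.center G
      · rw [aCount_eq, hCount_of_central y hy, one_mul]
        exact ih m hm y hy
      · exact hA y hy m
    rcases Nat.lt_or_ge n 2 with hn | hn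
    · interval_cases n
      · rw [Nat.gcd_zero_left]
        unfold bCount
        by_cases hc1 : c = 1
        · have : Nat.card {x : G // x ^ 0 = c} = Nat.card G := by
            apply Nat.card_congr
            refine Equiv.subtypeUnivEquiv ?_
            intro x
            rw [pow_zero, hc1]
          rw [this]
        · have : Nat.card {x : G // x ^ 0 = c} = 0 := by
            rw [Nat.card_eq_zero]
            left
            constructor
            rintro ⟨x, hx⟩
            rw [pow_zero] at hx
            exact hc1 hx.symm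
          rw [this]
          exact dvd_zero _
      · rw [Nat.gcd_one_left]
        exact one_dvd _
    · have hn0 : n ≠ 0 := by omega
      have hn1 : n ≠ 1 := by omega
      have hp : n.minFac.Prime := Nat.minFac_prime hn1
      have hpn : n.minFac ∣ n := Nat.minFac_dvd n
      generalize n.minFac = p at hp hpn
      haveI : Fact p.Prime := ⟨hp⟩
      have hns : p ^ n.factorization p * (n / p ^ n.factorization p) = n :=
        Nat.ordProj_mul_ordCompl_eq_self n p
      have hcop0 : Nat.Coprime p (n / p ^ n.factorization p) := Nat.coprime_ordCompl hp hn0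
      have hs : n.factorization p ≠ 0 := by
        intro h0
        have := (Nat.factorization_eq_zero_iff n p).mp h0
        rcases this with h | h | h
        · exact h hp
        · exact h hpn
        · exact hn0 h
      generalize n.factorization p = s at hns hcop0 hs
      generalize n / p ^ s = n' at hns hcop0
      by_cases hn' : n' = 1
      · rw [hn', mul_one] at hns
        rw [← hns]
        by_cases hpc : p ∣ orderOf c
        · exact (Nat.gcd_dvd_left _ _).trans (pow_dvd_bCount p s c hpc)
        · have hcop : (orderOf c).Coprime (p ^ s) :=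
            (Nat.Coprime.pow_left s ((Nat.Prime.coprime_iff_not_dvd hp).mpr hpc)).symm
          rw [bCount_eq_one_of_coprime _ c hc hcop]
          exact gcd_dvd_bCount_one _
      · have hcop : (p ^ s).Coprime n' := Nat.Coprime.pow_left s hcop0
        have hn'0 : n' ≠ 0 := by
          rintro rfl
          rw [mul_zero] at hns
          exact hn0 hns.symm
        have hps2 : 2 ≤ p ^ s := by
          calc 2 ≤ p := hp.two_le
            _ = p ^ 1 := (pow_one p).symm
            _ ≤ p ^ s := Nat.pow_le_pow_right hp.pos (Nat.one_le_iff_ne_zero.mpr hs)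
        have hn'2 : 2 ≤ n' := by omega
        have h1lt : p ^ s < n := by
          rw [← hns]
          nlinarith
        have h2lt : n' < n := by
          rw [← hns]
          nlinarith
        have hd1 := dvd_bCount_mul (p ^ s) n' c hc (hall _ h1lt)
        have hd2 := dvd_bCount_mul n' (p ^ s) c hc (hall _ h2lt)
        rw [mul_comm n' (p ^ s)] at hd2
        rw [hns] at hd1 hd2
        have hgcd : Nat.gcd n (Nat.card G) =
            Nat.gcd (p ^ s) (Nat.card G) * Nat.gcd n' (Nat.card G) := by
          rw [← hns, Nat.gcd_comm, Nat.Coprime.gcd_mul _ hcop, Nat.gcd_comm (Nat.card G),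
            Nat.gcd_comm (Nat.card G)]
        rw [hgcd]
        apply Nat.Coprime.mul_dvd_of_dvd_of_dvd _ hd1 hd2
        exact Nat.Coprime.coprime_dvd_left (Nat.gcd_dvd_left _ _)
          (Nat.Coprime.coprime_dvd_right (Nat.gcd_dvd_left _ _) hcop)

end Basic

/-- Hall's generalisation of Frobenius' theorem -/
theorem main : ∀ N : ℕ, ∀ (G : Type u) [Group G] [Finite G], Nat.card G = N →
    ∀ (c : G) (n : ℕ), Nat.gcd (hCount c * n) (Nat.card G) ∣ aCount n c := by
  intro N
  induction N using Nat.strong_induction_on with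
  | _ N ih =>
    intro G _ _ hN
    have hA' : ∀ c : G, c ∉ Subgroup.center G → ∀ n : ℕ,
        Nat.gcd (hCount c * n) (Nat.card G) ∣ aCount n c := by
      intro c hc n
      have hlt : Nat.card (Subgroup.centralizer ({c} : Set G)) < Nat.card G := by
        by_contra hge
        rw [not_lt] at hge
        have htop : Subgroup.centralizer ({c} : Set G) = ⊤ := Subgroup.eq_top_of_le_card _ hge
        apply hc
        rw [Subgroup.mem_center_iff]
        intro z
        have hz : z ∈ Subgroup.centralizer ({c} : Set G) := by rw [htop]; trivial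
        exact (Subgroup.mem_centralizer_singleton_iff.mp hz)
      have h1 := ih _ (hN ▸ hlt) (Subgroup.centralizer ({c} : Set G)) rfl
        ⟨c, self_mem_centralizer c⟩ n
      have hcc : (⟨c, self_mem_centralizer c⟩ : Subgroup.centralizer ({c} : Set G)) ∈
          Subgroup.center (Subgroup.centralizer ({c} : Set G)) := by
        rw [Subgroup.mem_center_iff]
        intro z
        apply Subtype.ext
        exact Subgroup.mem_centralizer_singleton_iff.mp z.2
      rw [hCount_of_central _ hcc, one_mul, aCount_eq, hCount_of_central _ hcc, one_mul,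
        ← bCount_centralizer] at h1
      rw [aCount_eq, ← hCount_mul_card c, Nat.gcd_mul_left]
      exact Nat.mul_dvd_mul_left _ h1
    have hA : ∀ c : G, c ∉ Subgroup.center G → ∀ n : ℕ,
        Nat.gcd n (Nat.card G) ∣ aCount n c := fun c hc n =>
      (Nat.gcd_dvd_gcd_of_dvd_left _ (Dvd.intro_left _ rfl)).trans (hA' c hc n)
    intro c n
    by_cases hc : c ∈ Subgroup.center G
    · rw [hCount_of_central c hc, one_mul, aCount_eq, hCount_of_central c hc, one_mul]
      exact central_case hA n c hc
    · exact hA' c hc n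

/-- Let `G` be a finite group of order `g`, `c` an element whose conjugacy class has `h` elements, and `n` a natural number. Then the number of elements `x` of `G` with `x^n` conjugate to `c` is a multiple of `gcd(hn, g)`. -/
theorem result {G : Type*} [Group G] [Finite G] (c : G) (n : ℕ) : Nat.gcd (Nat.card {y : G // IsConj c y} * n) (Nat.card G) ∣ Nat.card {x : G // IsConj c (x ^ n)} :=
  main _ G rfl c n

end Cfsg.Agent.S4212
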