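import Mathlib
import Cfsg.Statements.S4213
import Cfsg.Agent.Lib.Helper3.Hall
import Cfsg.Agent.Lib.Helper3.Supersolvable2
import Cfsg.Agent.Lib.Helper3.Supersolvable3
import Cfsg.Agent.Lib.Helper20.Frobenius

set_option autoImplicit false
open Cfsg

namespace Cfsg.Agent.S4213

universe u

/-- number of solutions of `x ^ n = 1` -/
noncomputable def cnt (G : Type*) [Group G] (n : ℕ) : ℕ := Nat.card {x : G // x ^ n = 1}

theorem cnt_pos (G : Type*) [Group G] [Finite G] (n : ℕ) : 0 < cnt G n := by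
  unfold cnt
  haveI : Nonempty {x : G // x ^ n = 1} := ⟨⟨1, one_pow n⟩⟩
  exact Nat.card_pos

theorem pow_gcd_iff {G : Type*} [Group G] [Finite G] (n : ℕ) (x : G) :
    x ^ (Nat.gcd n (Nat.card G)) = 1 ↔ x ^ n = 1 := by
  rw [← orderOf_dvd_iff_pow_eq_one, ← orderOf_dvd_iff_pow_eq_one, Nat.dvd_gcd_iff]
  constructor
  · exact fun h => h.1
  · exact fun h => ⟨h, orderOf_dvd_natCard x⟩

theorem cnt_gcd (G : Type*) [Group G] [Finite G] (n : ℕ) :
    cnt G (Nat.gcd n (Nat.card G)) = cnt G n := by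
  unfold cnt
  apply Nat.card_congr
  exact Equiv.subtypeEquivRight (fun x => pow_gcd_iff n x)

theorem dvd_cnt (G : Type u) [Group G] [Finite G] (d : ℕ) (hd : d ∣ Nat.card G) :
    d ∣ cnt G d :=
  Cfsg.Agent.Helper20.frobenius_main (Nat.card G) G rfl d hd

/-- preimage of a set under the quotient map -/
theorem card_preimage {G : Type*} [Group G] (K : Subgroup G) (S : Set (G ⧸ K)) :
    Nat.card {x : G // (x : G ⧸ K) ∈ S} = Nat.card S * Nat.card K := by
  rw [← Nat.card_prod]
  apply Nat.card_congr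
  refine
    { toFun := fun x => (⟨(x.1 : G ⧸ K), x.2⟩,
        ⟨((x.1 : G ⧸ K).out)⁻¹ * x.1, by
          rw [← QuotientGroup.eq]; exact QuotientGroup.out_eq' _⟩)
      invFun := fun sk => ⟨sk.1.1.out * sk.2.1, by
        show ((sk.1.1.out * sk.2.1 : G) : G ⧸ K) ∈ S
        rw [QuotientGroup.mk_mul_of_mem _ sk.2.2, QuotientGroup.out_eq']
        exact sk.1.2⟩
      left_inv := ?_
      right_inv := ?_ }
  · intro x
    apply Subtype.ext
    simp
  · rintro ⟨⟨s, hs⟩, ⟨k, hk⟩⟩
    have h1 : ((s.out * k : G) : G ⧸ K) = s := by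
      rw [QuotientGroup.mk_mul_of_mem _ hk, QuotientGroup.out_eq']
    apply Prod.ext
    · exact Subtype.ext h1
    · apply Subtype.ext
      show ((s.out * k : G) : G ⧸ K).out⁻¹ * (s.out * k) = k
      rw [h1]
      group


theorem coe_eq_of_subset {G : Type*} [Group G] [Finite G] (n : ℕ) (T : Set G)
    (hsub : T ⊆ {x : G | x ^ n = 1}) (hcard : cnt G n ≤ Nat.card T) :
    T = {x : G | x ^ n = 1} := by
  apply Set.eq_of_subset_of_ncard_le hsub _ (Set.toFinite _)
  rw [← Nat.card_coe_set_eq, ← Nat.card_coe_set_eq]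
  exact hcard

theorem mem_pow_card_eq_one {G : Type*} [Group G] (K : Subgroup G) {k : G} (hk : k ∈ K) :
    k ^ Nat.card K = 1 := by
  have h := pow_card_eq_one' (G := K) (x := ⟨k, hk⟩)
  rw [Subtype.ext_iff, Subgroup.coe_pow] at h
  exact h

theorem main : ∀ N : ℕ, ∀ (G : Type u) [Group G] [Finite G] [Group.IsSolvable G],
    Nat.card G = N → ∀ n, n ∣ N → cnt G n = n →
    ∃ H : Subgroup G, H.Normal ∧ (H : Set G) = {x : G | x ^ n = 1} := by
  intro N
  induction N using Nat.strong_induction_on with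
  | _ N ih =>
  intro G _ _ _ hN n hn hcount
  by_cases hnt : Nontrivial G
  swap
  · rw [not_nontrivial_iff_subsingleton] at hnt
    refine ⟨⊤, inferInstance, ?_⟩
    ext x
    simp [Subsingleton.elim x 1]
  by_cases hn1 : n = 1
  · subst hn1
    refine ⟨⊥, inferInstance, ?_⟩
    ext x
    simp
  obtain ⟨K, hKn, hKbot, hKmin⟩ := Cfsg.Agent.Helper3.exists_minimal_normal (G := G)
  have hc := Cfsg.Agent.Helper3.commute_of_minimal_normal K hKbot hKmin
  obtain ⟨p, i, hp, hi, hKcard, hKexp⟩ :=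
    Cfsg.Agent.Helper3.card_eq_prime_pow_of_minimal_normal K hKbot hKmin hc
  have hlt : Nat.card (G ⧸ K) < N := by
    rw [← hN]
    apply Cfsg.Agent.Helper3.card_quotient_lt
    rw [hKcard]
    exact Nat.one_lt_pow hi.ne' hp.one_lt
  have hmul : N = Nat.card (G ⧸ K) * p ^ i := by
    rw [← hN, ← hKcard]; exact Subgroup.card_eq_card_quotient_mul_card_subgroup K
  have hNpos : 0 < N := hN ▸ Nat.card_pos
  have hn0 : 0 < n := Nat.pos_of_dvd_of_pos hn hNpos
  by_cases hpn : p ∣ n
  · -- case p ∣ n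
    obtain ⟨m, rfl⟩ := hpn
    set d := Nat.gcd m (Nat.card (G ⧸ K)) with hd
    have hT : ∀ x : G, ((x : G ⧸ K)) ^ m = 1 → x ^ (p * m) = 1 := by
      intro x hx
      have hxK : x ^ m ∈ K := by
        rw [← QuotientGroup.eq_one_iff, QuotientGroup.mk_pow]
        exact hx
      rw [mul_comm, pow_mul]
      exact hKexp _ hxK
    have hcardT : Nat.card {x : G // (x : G ⧸ K) ∈ {y : G ⧸ K | y ^ m = 1}} =
        cnt (G ⧸ K) m * p ^ i := by
      rw [card_preimage, hKcard]
      rfl
    have hle : cnt (G ⧸ K) m * p ^ i ≤ p * m := by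
      calc cnt (G ⧸ K) m * p ^ i
          = Nat.card {x : G // (x : G ⧸ K) ∈ {y : G ⧸ K | y ^ m = 1}} := hcardT.symm
        _ ≤ Nat.card {x : G // x ^ (p * m) = 1} := by
            apply Nat.card_le_card_of_injective (fun x => ⟨x.1, hT x.1 x.2⟩)
            intro a b hab
            have hab' : (⟨a.1, hT a.1 a.2⟩ : {x : G // x ^ (p * m) = 1}) = ⟨b.1, hT b.1 b.2⟩ := hab
            rw [Subtype.mk.injEq] at hab'
            exact Subtype.ext hab'
        _ = p * m := hcount
    have hd_dvd : d ∣ cnt (G ⧸ K) m := by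
      rw [← cnt_gcd]
      exact dvd_cnt _ d (Nat.gcd_dvd_right _ _)
    have hdle : d ≤ cnt (G ⧸ K) m := Nat.le_of_dvd (cnt_pos _ _) hd_dvd
    have hndvd : p * m ∣ p ^ i * d := by
      rw [hd, ← Nat.gcd_mul_left]
      apply Nat.dvd_gcd
      · exact Nat.mul_dvd_mul (dvd_pow_self p hi.ne') (dvd_refl m)
      · rw [mul_comm (p ^ i), ← hmul]; exact hn
    have hdpos : 0 < d := Nat.gcd_pos_of_pos_right _ Nat.card_pos
    have hpos : 0 < p ^ i * d := Nat.mul_pos (pow_pos hp.pos i) hdpos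
    have hnle : p * m ≤ p ^ i * d := Nat.le_of_dvd hpos hndvd
    have hcnt_le : cnt (G ⧸ K) m ≤ d := by
      have h1 : p ^ i * cnt (G ⧸ K) m ≤ p ^ i * d := by
        rw [mul_comm]; exact le_trans hle hnle
      exact Nat.le_of_mul_le_mul_left h1 (pow_pos hp.pos i)
    have hcnt_eq : cnt (G ⧸ K) m = d := le_antisymm hcnt_le hdle
    have hpm : cnt (G ⧸ K) m * p ^ i = p * m := by
      apply le_antisymm hle
      rw [hcnt_eq, mul_comm d]; exact hnle
    have hcd : cnt (G ⧸ K) d = d := by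
      rw [hd, cnt_gcd, hcnt_eq]
    obtain ⟨Hbar, hHn, hHcoe⟩ :=
      ih (Nat.card (G ⧸ K)) hlt (G ⧸ K) rfl d (Nat.gcd_dvd_right _ _) hcd
    refine ⟨Hbar.comap (QuotientGroup.mk' K), hHn.comap _, ?_⟩
    apply coe_eq_of_subset
    · intro x hx
      have hx' : (x : G ⧸ K) ∈ (Hbar : Set (G ⧸ K)) := hx
      rw [hHcoe] at hx'
      have hx'' : (x : G ⧸ K) ^ m = 1 := (pow_gcd_iff m _).mp hx'
      exact hT x hx''
    · show cnt G (p * m) ≤ Nat.card (Hbar.comap (QuotientGroup.mk' K))
      rw [Cfsg.Agent.Helper3.card_comap_mk', hKcard]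
      have hHcard : Nat.card Hbar = cnt (G ⧸ K) d := by
        show Nat.card (Hbar : Set (G ⧸ K)) = _
        rw [hHcoe]
        rfl
      rw [hHcard, hcd, hcount, ← hcnt_eq, hpm]
  · -- case p ∤ n
    have hcop : Nat.Coprime (p ^ i) n :=
      Nat.Coprime.pow_left i ((Nat.Prime.coprime_iff_not_dvd hp).mpr hpn)
    have hnq : n ∣ Nat.card (G ⧸ K) := by
      rw [hmul] at hn
      exact hcop.symm.dvd_of_dvd_mul_right hn
    have hn2 : 1 < n := by omega
    obtain ⟨s, hs⟩ := Nat.exists_mul_mod_eq_one_of_coprime hcop hn2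
    -- surjection
    have hsurj : cnt (G ⧸ K) n ≤ cnt G n := by
      unfold cnt
      apply Nat.card_le_card_of_surjective
        (fun x : {x : G // x ^ n = 1} => (⟨(x.1 : G ⧸ K), by
          rw [← QuotientGroup.mk_pow, x.2]; rfl⟩ : {y : G ⧸ K // y ^ n = 1}))
      rintro ⟨ybar, hy⟩
      obtain ⟨y, rfl⟩ := QuotientGroup.mk_surjective ybar
      have hyK : y ^ n ∈ K := by
        rw [← QuotientGroup.eq_one_iff, QuotientGroup.mk_pow]
        exact hy
      refine ⟨⟨y ^ (p ^ i * s), ?_⟩, ?_⟩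
      · rw [← pow_mul, mul_comm, pow_mul, pow_mul, ← hKcard, mem_pow_card_eq_one K hyK, one_pow]
      · apply Subtype.ext
        show ((y ^ (p ^ i * s) : G) : G ⧸ K) = (y : G ⧸ K)
        rw [QuotientGroup.mk_pow, pow_eq_pow_mod _ hy, hs.2, pow_one]
    have hfrob : n ∣ cnt (G ⧸ K) n := dvd_cnt _ n hnq
    have hcnt_eq : cnt (G ⧸ K) n = n := by
      apply le_antisymm
      · rw [hcount] at hsurj; exact hsurj
      · exact Nat.le_of_dvd (cnt_pos _ _) hfrob
    obtain ⟨Mbar, hMn, hMcoe⟩ := ih (Nat.card (G ⧸ K)) hlt (G ⧸ K) rfl n hnq hcnt_eq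
    have hMcard : Nat.card Mbar = n := by
      rw [← hcnt_eq]
      show Nat.card (Mbar : Set (G ⧸ K)) = _
      rw [hMcoe]
      rfl
    set M : Subgroup G := Mbar.comap (QuotientGroup.mk' K) with hM
    have hMc : Nat.card M = n * p ^ i := by
      rw [hM, Cfsg.Agent.Helper3.card_comap_mk', hMcard, hKcard]
    have hKM : K ≤ M := by
      intro k hk
      rw [hM, Subgroup.mem_comap]
      have : (QuotientGroup.mk' K) k = 1 := (QuotientGroup.eq_one_iff k).mpr hk
      rw [this]
      exact Mbar.one_mem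
    have hK'card : Nat.card (K.subgroupOf M) = p ^ i := by
      rw [← hKcard]
      exact Nat.card_congr (Subgroup.subgroupOfEquivOfLe hKM).toEquiv
    have hK'idx : (K.subgroupOf M).index = n := by
      have h1 := Subgroup.card_mul_index (K.subgroupOf M)
      rw [hK'card, hMc, mul_comm] at h1
      exact Nat.eq_of_mul_eq_mul_right (pow_pos hp.pos i) h1
    have hcop' : Nat.Coprime (Nat.card (K.subgroupOf M)) (K.subgroupOf M).index := by
      rw [hK'card, hK'idx]; exact hcop
    obtain ⟨C, hC⟩ := Subgroup.exists_right_complement'_of_coprime hcop'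
    have hCcard : Nat.card C = n := by
      have h1 := hC.card_mul_card
      rw [hK'card, hMc, mul_comm] at h1
      exact Nat.eq_of_mul_eq_mul_right (pow_pos hp.pos i) h1
    have hC'card : Nat.card (C.map M.subtype) = n := by
      rw [Subgroup.card_map_of_injective M.subtype_injective, hCcard]
    have hcoe : ((C.map M.subtype : Subgroup G) : Set G) = {x : G | x ^ n = 1} := by
      apply coe_eq_of_subset
      · intro x hx
        have h1 := mem_pow_card_eq_one (C.map M.subtype) hx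
        rw [hC'card] at h1
        exact h1
      · show cnt G n ≤ Nat.card (C.map M.subtype)
        rw [hC'card, hcount]
    refine ⟨C.map M.subtype, ⟨?_⟩, hcoe⟩
    intro x hx g
    have hx' : x ∈ ((C.map M.subtype : Subgroup G) : Set G) := hx
    rw [hcoe] at hx'
    have hgx : g * x * g⁻¹ ∈ ((C.map M.subtype : Subgroup G) : Set G) := by
      rw [hcoe]
      show (g * x * g⁻¹) ^ n = 1
      rw [conj_pow, hx', mul_one, mul_inv_cancel]
    exact hgx

/-- If `G` is a finite solvable group and `n` divides the order of `G` and exactly `n` elements `x` of `G` satisfy `x^n = 1`, then these elements form a normal subgroup. -/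
theorem result {G : Type*} [Group G] [Finite G] [Group.IsSolvable G] (n : ℕ) (hn : n ∣ Nat.card G) (hcount : Nat.card {x : G // x ^ n = 1} = n) : ∃ H : Subgroup G, H.Normal ∧ (H : Set G) = {x : G | x ^ n = 1} :=
  main (Nat.card G) G rfl n hn hcount

end Cfsg.Agent.S4213
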