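import Mathlib
import Cfsg.Statements.S4214
import Cfsg.Agent.Lib.Helper21.HallCount

set_option autoImplicit false
set_option linter.style.haveILetI false
open Cfsg

namespace Cfsg.Agent.S4214

open Cfsg.Agent.Helper21 Cfsg.Agent.Helper1
open scoped Pointwise

universe u

/-- the property required of each factor -/
def Good (G : Type*) [Group G] (m f : ℕ) : Prop :=
  (∃ q e : ℕ, q.Prime ∧ f = q ^ e) ∧
  (∃ K L : Subgroup G, K.Normal ∧ L.Normal ∧ K < L ∧
    (∀ M : Subgroup G, M.Normal → K ≤ M → M ≤ L → M = K ∨ M = L) ∧ f ∣ K.relIndex L) ∧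
  (∃ q : ℕ, q.Prime ∧ q ∣ m ∧ f ≡ 1 [MOD q])

/-- `c` is a product of good factors -/
def GoodProd (G : Type*) [Group G] (m c : ℕ) : Prop :=
  ∃ l : List ℕ, l.prod = c ∧ ∀ f ∈ l, Good G m f

theorem Good.lift {G : Type*} [Group G] (N : Subgroup G) [N.Normal] {m' m f : ℕ} (hm : m' ∣ m)
    (h : Good (G ⧸ N) m' f) : Good G m f := by
  obtain ⟨h1, ⟨K, L, hKn, hLn, hKL, hmin, hdvd⟩, ⟨r, hr, hrm, hmod⟩⟩ := h
  have hsurj := QuotientGroup.mk'_surjective N
  refine ⟨h1, ⟨K.comap (QuotientGroup.mk' N), L.comap (QuotientGroup.mk' N), hKn.comap _,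
    hLn.comap _, (Subgroup.comap_lt_comap_of_surjective hsurj).mpr hKL, ?_, ?_⟩,
    ⟨r, hr, hrm.trans hm, hmod⟩⟩
  · intro M hMn hKM hML
    have hNM : N ≤ M := by
      refine le_trans ?_ hKM
      intro x hx
      rw [Subgroup.mem_comap]
      have : QuotientGroup.mk' N x = 1 := (QuotientGroup.eq_one_iff x).mpr hx
      rw [this]
      exact K.one_mem
    have hM' : (M.map (QuotientGroup.mk' N)).Normal := hMn.map _ hsurj
    have hcm : (M.map (QuotientGroup.mk' N)).comap (QuotientGroup.mk' N) = M := by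
      rw [QuotientGroup.comap_map_mk', sup_eq_right.mpr hNM]
    have h2 : K ≤ M.map (QuotientGroup.mk' N) := by
      rw [← Subgroup.map_comap_eq_self_of_surjective hsurj K]
      exact Subgroup.map_mono hKM
    have h3 : M.map (QuotientGroup.mk' N) ≤ L := by
      rw [← Subgroup.map_comap_eq_self_of_surjective hsurj L]
      exact Subgroup.map_mono hML
    rcases hmin _ hM' h2 h3 with h | h
    · left; rw [← hcm, h]
    · right; rw [← hcm, h]
  · rw [Subgroup.relIndex_comap, Subgroup.map_comap_eq_self_of_surjective hsurj]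
    exact hdvd

theorem GoodProd.lift {G : Type*} [Group G] (N : Subgroup G) [N.Normal] {m' m c : ℕ}
    (hm : m' ∣ m) (h : GoodProd (G ⧸ N) m' c) : GoodProd G m c := by
  obtain ⟨l, hl, hgood⟩ := h
  exact ⟨l, hl, fun f hf => Good.lift N hm (hgood f hf)⟩

theorem GoodProd.mul {G : Type*} [Group G] {m a b : ℕ} (h1 : GoodProd G m a)
    (h2 : GoodProd G m b) : GoodProd G m (a * b) := by
  obtain ⟨l₁, hl₁, hg₁⟩ := h1
  obtain ⟨l₂, hl₂, hg₂⟩ := h2
  refine ⟨l₁ ++ l₂, by rw [List.prod_append, hl₁, hl₂], ?_⟩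
  intro f hf
  rw [List.mem_append] at hf
  rcases hf with hf | hf
  · exact hg₁ f hf
  · exact hg₂ f hf

section

variable {G : Type*} [Group G] [Finite G]

/-- second isomorphism theorem, index form -/
theorem relIndex_sup_eq (N X : Subgroup G) [N.Normal] :
    X.relIndex (N ⊔ X) = (N ⊓ X).relIndex N := by
  have h1 := card_mul_relIndex_of_le (le_sup_right : X ≤ N ⊔ X)
  have h2 := card_mul_relIndex_of_le (le_sup_left : N ≤ N ⊔ X)
  rw [Subgroup.relIndex_sup_left, ← Subgroup.inf_relIndex_right] at h2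
  have h3 := card_mul_relIndex_of_le (inf_le_right : N ⊓ X ≤ X)
  have h4 := card_mul_relIndex_of_le (inf_le_left : N ⊓ X ≤ N)
  have hpos : 0 < Nat.card (N ⊓ X : Subgroup G) := Nat.card_pos
  have hB : 0 < (N ⊓ X).relIndex X := by
    apply Nat.pos_of_ne_zero
    intro h0
    rw [h0, mul_zero] at h3
    exact (Nat.card_pos (α := X)).ne h3
  have h5 : Nat.card (N ⊓ X : Subgroup G) * (N ⊓ X).relIndex X * X.relIndex (N ⊔ X) =
      Nat.card (N ⊓ X : Subgroup G) * (N ⊓ X).relIndex X * (N ⊓ X).relIndex N := by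
    calc Nat.card (N ⊓ X : Subgroup G) * (N ⊓ X).relIndex X * X.relIndex (N ⊔ X)
        = Nat.card (N ⊔ X : Subgroup G) := by rw [h3, h1]
      _ = Nat.card N * (N ⊓ X).relIndex X := h2.symm
      _ = Nat.card (N ⊓ X : Subgroup G) * (N ⊓ X).relIndex X * (N ⊓ X).relIndex N := by
          rw [← h4]; ring
  exact Nat.eq_of_mul_eq_mul_left (Nat.mul_pos hpos hB) h5

theorem inf_normalizer_eq_inf_centralizer (N H : Subgroup G) [N.Normal] (h : N ⊓ H = ⊥) :
    N ⊓ Subgroup.normalizer (H : Set G) = N ⊓ Subgroup.centralizer (H : Set G) := by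
  apply le_antisymm
  · rintro x ⟨hxN, hxH⟩
    refine ⟨hxN, ?_⟩
    show x ∈ Subgroup.centralizer (H : Set G)
    rw [Subgroup.mem_centralizer_iff]
    intro y hy
    have h1 : x * y * x⁻¹ ∈ H := (Subgroup.mem_normalizer_iff.mp hxH y).mp hy
    have h2 : x * y * x⁻¹ * y⁻¹ ∈ H := H.mul_mem h1 (H.inv_mem hy)
    have h3 : x * y * x⁻¹ * y⁻¹ ∈ N := by
      have : x * y * x⁻¹ * y⁻¹ = x * (y * x⁻¹ * y⁻¹) := by group
      rw [this]
      exact N.mul_mem hxN (Subgroup.Normal.conj_mem inferInstance _ (N.inv_mem hxN) y)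
    have h4 : x * y * x⁻¹ * y⁻¹ ∈ N ⊓ H := ⟨h3, h2⟩
    rw [h, Subgroup.mem_bot] at h4
    calc y * x = (x * y * x⁻¹ * y⁻¹)⁻¹ * (x * y) := by group
      _ = x * y := by rw [h4]; group
  · exact inf_le_inf_left N (Subgroup.centralizer_le_normalizer _)

theorem card_hall_eq_index_normalizer [Group.IsSolvable G] (m n : ℕ) (hG : Nat.card G = m * n)
    (hmn : m.Coprime n) (H₀ : Subgroup G) (hH₀ : Nat.card H₀ = m) :
    Nat.card {H : Subgroup G // Nat.card H = m} = (Subgroup.normalizer (H₀ : Set G)).index := by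
  rw [← card_conj_orbit H₀]
  apply Nat.card_congr
  apply Equiv.subtypeEquivRight
  intro H
  constructor
  · intro hH
    exact hall_conj m n hG hmn H₀ H hH₀ hH
  · rintro ⟨g, rfl⟩
    rw [card_conj_smul, hH₀]

end

theorem main : ∀ (N₀ : ℕ) (G : Type u) [Group G] [Finite G] [Group.IsSolvable G],
    Nat.card G = N₀ → ∀ m n : ℕ, N₀ = m * n → m.Coprime n →
    GoodProd G m (Nat.card {H : Subgroup G // Nat.card H = m}) := by
  intro N₀
  induction N₀ using Nat.strong_induction_on with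
  | _ N₀ ih =>
  intro G _ _ _ hcard m n hN₀ hmn
  have hN₀pos : 0 < N₀ := hcard ▸ Nat.card_pos
  have hmpos : 0 < m := Nat.pos_of_ne_zero (by rintro rfl; simp at hN₀; omega)
  have hnpos : 0 < n := Nat.pos_of_ne_zero (by rintro rfl; simp at hN₀; omega)
  rcases subsingleton_or_nontrivial G with hsub | hnt
  · refine ⟨[], ?_, by simp⟩
    rw [List.prod_nil]
    have hG1 : Nat.card G = 1 := Nat.card_of_subsingleton 1
    have hm1 : m = 1 := by
      rw [hcard, hN₀] at hG1
      exact Nat.eq_one_of_mul_eq_one_right hG1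
    symm
    rw [Nat.card_eq_one_iff_unique]
    refine ⟨⟨?_⟩, ⟨⟨⊥, by rw [hm1]; exact Subgroup.card_bot⟩⟩⟩
    intro a b
    exact Subtype.ext (Subsingleton.elim _ _)
  -- a minimal normal subgroup that is a `q`-group
  obtain ⟨q, hq, M₀, hM₀n, hM₀ne, hM₀p⟩ := exists_normal_pSubgroup_of_solvable G
  haveI : Fact q.Prime := ⟨hq⟩
  have hSne : {X : Subgroup G | X.Normal ∧ X ≠ ⊥ ∧ X ≤ M₀}.Nonempty := ⟨M₀, hM₀n, hM₀ne, le_rfl⟩
  obtain ⟨N, ⟨hNn, hNne, hNM₀⟩, hNmin⟩ :=
    WellFounded.has_min (wellFounded_lt (α := Subgroup G)) _ hSne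
  haveI := hNn
  have hNp : IsPGroup q N := hM₀p.to_le hNM₀
  have hmin : ∀ X : Subgroup G, X.Normal → ⊥ ≤ X → X ≤ N → X = ⊥ ∨ X = N := by
    intro X hXn _ hXN
    by_cases hX : X = ⊥
    · left; exact hX
    · right
      by_contra hne
      exact hNmin X ⟨hXn, hX, hXN.trans hNM₀⟩ (lt_of_le_of_ne hXN hne)
  obtain ⟨e, he⟩ := IsPGroup.iff_card.mp hNp
  have he0 : e ≠ 0 := by
    rintro rfl
    rw [pow_zero] at he
    exact hNne (Subgroup.card_eq_one.mp he)
  have hNdvd : q ^ e ∣ m * n := by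
    rw [← hN₀, ← hcard, ← he]; exact Subgroup.card_subgroup_dvd_card N
  set π := QuotientGroup.mk' N with hπ
  have hπs : Function.Surjective π := QuotientGroup.mk'_surjective N
  have hqcard : q ^ e * Nat.card (G ⧸ N) = m * n := by
    rw [← he, ← hN₀, ← hcard, mul_comm]
    exact (Subgroup.card_eq_card_quotient_mul_card_subgroup N).symm
  have hlt : Nat.card (G ⧸ N) < N₀ := by
    have h1 : 2 ≤ q ^ e := by
      calc 2 ≤ q := hq.two_le
        _ = q ^ 1 := (pow_one q).symm
        _ ≤ q ^ e := Nat.pow_le_pow_right hq.pos (Nat.one_le_iff_ne_zero.mpr he0)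
    have h2 : 0 < Nat.card (G ⧸ N) := Nat.card_pos
    rw [hN₀, ← hqcard]
    nlinarith
  -- a Hall subgroup
  obtain ⟨H₀, hH₀⟩ := hall_exists m n (hcard.trans hN₀) hmn
  have hcount := card_hall_eq_index_normalizer m n (hcard.trans hN₀) hmn H₀ hH₀
  -- the normalizer of the image
  have hnormbar : (Subgroup.normalizer ((H₀.map π : Subgroup (G ⧸ N)) : Set (G ⧸ N))).index =
      (Subgroup.normalizer ((N ⊔ H₀ : Subgroup G) : Set G)).index := by
    rw [← Subgroup.index_comap_of_surjective _ hπs, Subgroup.comap_normalizer_eq_of_surjective _ hπs,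
      hπ, QuotientGroup.comap_map_mk']
  rcases prime_pow_dvd_of_coprime hq hNdvd hmn with ⟨hqm, hqem⟩ | ⟨hqm, hqen⟩
  · -- `q` divides `m`
    have hqn : (q ^ e).Coprime n := Nat.Coprime.coprime_dvd_left hqem hmn
    have hH₀idx : H₀.index = n := by
      have h1 := H₀.card_mul_index
      rw [hH₀, hcard, hN₀] at h1
      exact Nat.eq_of_mul_eq_mul_left hmpos h1
    have hNH : N ≤ H₀ := le_of_normal_pGroup_of_coprime_index N H₀ he (hH₀idx ▸ hqn)
    obtain ⟨m', hm'⟩ := hqem
    have hq' : Nat.card (G ⧸ N) = m' * n := by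
      have : q ^ e * Nat.card (G ⧸ N) = q ^ e * (m' * n) := by rw [hqcard, hm']; ring
      exact Nat.eq_of_mul_eq_mul_left (pow_pos hq.pos e) this
    have hcop' : m'.Coprime n := Nat.Coprime.coprime_dvd_left (Dvd.intro_left _ hm'.symm) hmn
    have hHbar : Nat.card (H₀.map π) = m' := by
      have h1 := card_map_mk'_of_le N hNH
      rw [he, hH₀, hm'] at h1
      exact Nat.eq_of_mul_eq_mul_left (pow_pos hq.pos e) h1
    have hcountbar := card_hall_eq_index_normalizer m' n hq' hcop' (H₀.map π) hHbar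
    have hIH := ih _ hlt (G ⧸ N) rfl m' n hq' hcop'
    rw [hcountbar, hnormbar, sup_eq_right.mpr hNH, ← hcount] at hIH
    exact GoodProd.lift N (Dvd.intro_left _ hm'.symm) hIH
  · -- `q` divides `n`
    obtain ⟨n', hn'⟩ := hqen
    have hq' : Nat.card (G ⧸ N) = m * n' := by
      have : q ^ e * Nat.card (G ⧸ N) = q ^ e * (m * n') := by rw [hqcard, hn']; ring
      exact Nat.eq_of_mul_eq_mul_left (pow_pos hq.pos e) this
    have hcop' : m.Coprime n' := Nat.Coprime.coprime_dvd_right (Dvd.intro_left _ hn'.symm) hmn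
    have hcopmq : m.Coprime (q ^ e) :=
      Nat.Coprime.coprime_dvd_right (Dvd.intro _ hn'.symm) hmn
    have hNH : N ⊓ H₀ = ⊥ := Subgroup.inf_eq_bot_of_coprime (by rw [he, hH₀]; exact hcopmq.symm)
    have hHbar : Nat.card (H₀.map π) = m := by rw [card_map_mk'_of_disjoint N hNH, hH₀]
    have hcountbar := card_hall_eq_index_normalizer m n' hq' hcop' (H₀.map π) hHbar
    have hIH := ih _ hlt (G ⧸ N) rfl m n' hq' hcop'
    rw [hcountbar, hnormbar] at hIH
    have hIH' : GoodProd G m (Subgroup.normalizer ((N ⊔ H₀ : Subgroup G) : Set G)).index :=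
      GoodProd.lift N dvd_rfl hIH
    set N₀' := Subgroup.normalizer (H₀ : Set G) with hN₀'
    set L := Subgroup.normalizer ((N ⊔ H₀ : Subgroup G) : Set G) with hL
    -- Frattini argument
    have hN₀L : N₀' ≤ L := by
      intro g hg
      rw [hL, ← conj_smul_eq_self_iff, Subgroup.smul_sup]
      congr 1
      · rw [conj_smul_eq_self_iff, Subgroup.normalizer_eq_top_iff.mpr hNn]
        exact Subgroup.mem_top g
      · exact conj_smul_eq_self_iff.mpr hg
    have hM : (N ⊔ H₀ : Subgroup G) = (H₀.map π).comap π := by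
      rw [hπ, QuotientGroup.comap_map_mk']
    have hMcard : Nat.card (N ⊔ H₀ : Subgroup G) = m * q ^ e := by
      rw [hM, hπ, card_comap_mk', he, ← hπ, hHbar, mul_comm]
    have hLeq : L = N ⊔ N₀' := by
      apply le_antisymm
      · intro g hg
        have hgM : MulAut.conj g • (N ⊔ H₀) = N ⊔ H₀ := conj_smul_eq_self_iff.mpr hg
        set H' := MulAut.conj g • H₀ with hH'
        have hH'M : H' ≤ N ⊔ H₀ := by
          rw [← hgM]
          exact (Subgroup.pointwise_smul_le_pointwise_smul_iff).mpr le_sup_right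
        have hH'card : Nat.card H' = m := by rw [hH', card_conj_smul, hH₀]
        obtain ⟨l, hl⟩ := hall_conj (G := ↥(N ⊔ H₀ : Subgroup G)) m (q ^ e) hMcard hcopmq
          (H'.subgroupOf (N ⊔ H₀)) (H₀.subgroupOf (N ⊔ H₀))
          (by rw [Cfsg.Agent.S0001.card_subgroupOf_of_le hH'M, hH'card])
          (by rw [Cfsg.Agent.S0001.card_subgroupOf_of_le le_sup_right, hH₀])
        have h1 := conj_of_conj_subgroupOf hH'M le_sup_right l hl
        rw [hH', conj_smul_conj_smul] at h1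
        have h2 : (l : G) * g ∈ N₀' := conj_smul_eq_self_iff.mp h1
        have h3 : (l : G)⁻¹ ∈ N ⊔ N₀' :=
          (sup_le_sup_left (Subgroup.le_normalizer : H₀ ≤ N₀') N) ((N ⊔ H₀).inv_mem l.2)
        have h4 : g = (l : G)⁻¹ * ((l : G) * g) := by group
        rw [h4]
        exact (N ⊔ N₀').mul_mem h3 ((le_sup_right : N₀' ≤ N ⊔ N₀') h2)
      · apply sup_le _ hN₀L
        exact le_trans (le_sup_left : N ≤ N ⊔ H₀) Subgroup.le_normalizer
    -- the extra factor
    have hc : N₀'.relIndex L = (N ⊓ Subgroup.centralizer (H₀ : Set G)).relIndex N := by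
      rw [hLeq, relIndex_sup_eq, inf_normalizer_eq_inf_centralizer N H₀ hNH]
    have hqm' : m.Coprime q := by
      rw [Nat.coprime_comm, Nat.Prime.coprime_iff_not_dvd hq]
      exact hqm
    obtain ⟨l₁, hl₁prod, hl₁⟩ := exists_factorization_index_centralizer N hNp m H₀ hH₀
      inferInstance hqm'
    have hgood₁ : GoodProd G m (N₀'.relIndex L) := by
      refine ⟨l₁, by rw [hl₁prod, hc], ?_⟩
      intro f hf
      obtain ⟨⟨e', he'⟩, hfN, r, hr, hrm, hfr⟩ := hl₁ f hf
      refine ⟨⟨q, e', hq, he'⟩, ⟨⊥, N, inferInstance, hNn, bot_lt_iff_ne_bot.mpr hNne, hmin, ?_⟩,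
        ⟨r, hr, hrm, hfr⟩⟩
      rw [Subgroup.relIndex_bot_left]
      exact hfN
    have := GoodProd.mul hgood₁ hIH'
    rw [Subgroup.relIndex_mul_index hN₀L, ← hcount] at this
    exact this

/-- Let `G` be a finite solvable group of order `mn` with `gcd(m, n) = 1`. Then the number of subgroups of order `m` is a product of natural numbers each of which is a power of a prime, divides the order of some chief factor of `G` (a quotient `L/K` of normal subgroups `K < L` of `G` with no normal subgroup of `G` strictly between them), and is congruent to `1` modulo some prime divisor of `m`. -/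
theorem result {G : Type*} [Group G] [Finite G] [Group.IsSolvable G] (m n : ℕ) (hG : Nat.card G = m * n) (hmn : Nat.Coprime m n) : ∃ (k : ℕ) (f : Fin k → ℕ), Nat.card {H : Subgroup G // Nat.card H = m} = ∏ i, f i ∧ ∀ i, (∃ q e : ℕ, q.Prime ∧ f i = q ^ e) ∧ (∃ K L : Subgroup G, K.Normal ∧ L.Normal ∧ K < L ∧ (∀ M : Subgroup G, M.Normal → K ≤ M → M ≤ L → M = K ∨ M = L) ∧ f i ∣ K.relIndex L) ∧ (∃ q : ℕ, q.Prime ∧ q ∣ m ∧ f i ≡ 1 [MOD q]) := by
  obtain ⟨l, hl, hgood⟩ := main _ G rfl m n hG hmn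
  refine ⟨l.length, l.get, ?_, ?_⟩
  · rw [← hl, ← List.prod_ofFn, List.ofFn_get]
  · intro i
    exact hgood _ (List.get_mem l i)

end Cfsg.Agent.S4214
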