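import Mathlib
import Cfsg.Statements.S4217
-- import your own Cfsg.Agent.* helpers here

set_option autoImplicit false
open Cfsg

namespace Cfsg.Agent.S4217

open scoped Pointwise IsMulCommutative

section
variable {G : Type*} [Group G] (A : Subgroup G) [A.Normal]

/-- right-crossed homomorphisms into the abelian normal subgroup `A` -/
def IsRC [IsMulCommutative A] (lam : G → A) : Prop :=
  ∀ x y : G, lam (x * y) = (MulAut.conjNormal y⁻¹ (lam x)) * lam y

theorem cn_mem_trivial [IsMulCommutative A] (a b : A) : MulAut.conjNormal (a : G) b = b := by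
  apply Subtype.ext
  rw [MulAut.conjNormal_apply]
  have h : a * b = b * a := mul_comm a b
  have h' : (a : G) * (b : G) = (b : G) * (a : G) := congrArg Subtype.val h
  rw [h', mul_inv_cancel_right]

theorem cn_mul [IsMulCommutative A] (x y : G) (b : A) :
    MulAut.conjNormal (x * y) b = MulAut.conjNormal x (MulAut.conjNormal y b) := by
  rw [map_mul]; rfl

theorem exists_complement_of_rc [IsMulCommutative A] (lam : G → A) (h : IsRC A lam)
    (hid : ∀ a : A, lam a = a) : ∃ L : Subgroup G, L.IsComplement' A := by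
  have h1 : lam 1 = 1 := by
    have := hid 1
    simpa using this
  let L : Subgroup G :=
    { carrier := {g | lam g = 1}
      one_mem' := h1
      mul_mem' := by
        intro x y hx hy
        show lam (x * y) = 1
        rw [h x y, show lam x = 1 from hx, show lam y = 1 from hy, map_one, one_mul]
      inv_mem' := by
        intro x hx
        show lam x⁻¹ = 1
        have h2 := h x x⁻¹
        rw [mul_inv_cancel, h1, show lam x = 1 from hx, map_one, one_mul] at h2
        exact h2.symm }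
  refine ⟨L, Subgroup.isComplement'_of_disjoint_and_mul_eq_univ ?_ ?_⟩
  · rw [Subgroup.disjoint_def]
    intro x hxL hxA
    have h2 : lam x = 1 := hxL
    have h3 := hid ⟨x, hxA⟩
    have h4 : (⟨x, hxA⟩ : A) = 1 := by rw [← h3]; exact h2
    exact congrArg Subtype.val h4
  · rw [Set.eq_univ_iff_forall]
    intro g
    refine ⟨g * ((lam g)⁻¹ : A), ?_, (lam g : G), (lam g).2, ?_⟩
    · show lam (g * ((lam g)⁻¹ : A)) = 1
      rw [h g, hid]
      have h5 : (((lam g)⁻¹ : A) : G)⁻¹ = ((lam g : A) : G) := by simp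
      rw [h5, cn_mem_trivial, mul_inv_cancel]
    · simp

/-- the exponents realised by right-crossed homomorphisms -/
def expSub [IsMulCommutative A] : AddSubgroup ℤ where
  carrier := {e | ∃ lam : G → A, IsRC A lam ∧ ∀ a : A, lam a = a ^ e}
  zero_mem' := by
    refine ⟨fun _ => 1, ?_, ?_⟩
    · intro x y; simp
    · intro a; simp
  add_mem' := by
    rintro e₁ e₂ ⟨l₁, h₁, h₁'⟩ ⟨l₂, h₂, h₂'⟩
    refine ⟨fun g => l₁ g * l₂ g, ?_, ?_⟩
    · intro x y
      show l₁ (x * y) * l₂ (x * y) = _
      rw [h₁ x y, h₂ x y, map_mul]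
      exact mul_mul_mul_comm _ _ _ _
    · intro a
      show l₁ a * l₂ a = _
      rw [h₁', h₂', zpow_add]
  neg_mem' := by
    rintro e ⟨l, h, h'⟩
    refine ⟨fun g => (l g)⁻¹, ?_, ?_⟩
    · intro x y
      show (l (x * y))⁻¹ = (MulAut.conjNormal y⁻¹ ((l x)⁻¹)) * (l y)⁻¹
      rw [h x y, mul_inv, map_inv (MulAut.conjNormal y⁻¹) (l x)]
    · intro a
      show (l a)⁻¹ = _
      rw [h', zpow_neg]


theorem index_mem_expSub [Finite G] [IsMulCommutative A] (H K : Subgroup G) (hd : K ⊓ A = ⊥)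
    (hs : K ⊔ A = H) : (H.index : ℤ) ∈ expSub A := by
  classical
  haveI := Fintype.ofFinite (G ⧸ H)
  have hAH : A ≤ H := hs ▸ le_sup_right
  have hKH : K ≤ H := hs ▸ le_sup_left
  have hdec : ∀ h : G, h ∈ H → ∃ a : A, ∃ k ∈ K, k * (a : G) = h := by
    intro h hh
    rw [← hs, ← SetLike.mem_coe, Subgroup.mul_normal] at hh
    obtain ⟨k, hk, a, ha, rfl⟩ := hh
    exact ⟨⟨a, ha⟩, k, hk, rfl⟩
  let μ : G → A := fun h => if hh : h ∈ H then (hdec h hh).choose else 1
  have hμ : ∀ k ∈ K, ∀ a : A, μ (k * a) = a := by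
    intro k hk a
    have hh : k * (a : G) ∈ H := H.mul_mem (hKH hk) (hAH a.2)
    have e0 : μ (k * a) = (hdec _ hh).choose := by simp only [μ, dif_pos hh]
    rw [e0]
    have hspec := (hdec _ hh).choose_spec
    generalize (hdec _ hh).choose = a' at hspec ⊢
    obtain ⟨k', hk', heq⟩ := hspec
    have hmem : (a : G) * (a' : G)⁻¹ ∈ K ⊓ A := by
      refine Subgroup.mem_inf.mpr ⟨?_, A.mul_mem a.2 (A.inv_mem a'.2)⟩
      have e1 : (a : G) * (a' : G)⁻¹ = k⁻¹ * k' := by
        have e2 : (a : G) = k⁻¹ * (k' * (a' : G)) := by rw [heq]; group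
        rw [e2]; group
      rw [e1]; exact K.mul_mem (K.inv_mem hk) hk'
    rw [hd, Subgroup.mem_bot] at hmem
    apply Subtype.ext
    exact (mul_inv_eq_one.mp hmem).symm
  have hμc : ∀ h ∈ H, ∀ h' ∈ H, μ (h * h') = MulAut.conjNormal h'⁻¹ (μ h) * μ h' := by
    intro h hh h' hh'
    obtain ⟨a, k, hk, rfl⟩ := hdec h hh
    obtain ⟨a', k', hk', rfl⟩ := hdec h' hh'
    rw [hμ k hk a, hμ k' hk' a']
    have e : k * (a : G) * (k' * (a' : G)) =
        (k * k') * ((MulAut.conjNormal k'⁻¹ a * a' : A) : G) := by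
      rw [Subgroup.coe_mul, MulAut.conjNormal_apply]; group
    rw [e, hμ (k * k') (K.mul_mem hk hk')]
    congr 1
    rw [mul_inv_rev, cn_mul]
    have e3 : (a' : G)⁻¹ = ((a'⁻¹ : A) : G) := by simp
    rw [e3, cn_mem_trivial]
  let r : G ⧸ H → G := fun q => q.out
  have hr : ∀ q : G ⧸ H, ((r q : G) : G ⧸ H) = q := fun q => QuotientGroup.out_eq' q
  have hsm : ∀ (q : G ⧸ H) (g : G), ((g * r q : G) : G ⧸ H) = g • q := by
    intro q g
    conv_rhs => rw [← hr q]
    rfl
  have hhq : ∀ (q : G ⧸ H) (g : G), (r (g • q))⁻¹ * g * r q ∈ H := by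
    intro q g
    rw [mul_assoc, ← QuotientGroup.eq, hr, hsm]
  let ν : G → A := fun g =>
    ∏ q : G ⧸ H, MulAut.conjNormal (r q) (μ ((r (g • q))⁻¹ * g * r q))
  refine ⟨ν, ?_, ?_⟩
  · intro g g'
    show ∏ q : G ⧸ H, MulAut.conjNormal (r q) (μ ((r ((g * g') • q))⁻¹ * (g * g') * r q)) =
      MulAut.conjNormal g'⁻¹
        (∏ q : G ⧸ H, MulAut.conjNormal (r q) (μ ((r (g • q))⁻¹ * g * r q))) *
      ∏ q : G ⧸ H, MulAut.conjNormal (r q) (μ ((r (g' • q))⁻¹ * g' * r q))
    rw [map_prod, ← Equiv.prod_comp (MulAction.toPerm g' : Equiv.Perm (G ⧸ H))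
      (fun q => MulAut.conjNormal g'⁻¹
        (MulAut.conjNormal (r q) (μ ((r (g • q))⁻¹ * g * r q)))), ← Finset.prod_mul_distrib]
    apply Finset.prod_congr rfl
    intro q _
    simp only [MulAction.toPerm_apply]
    have e1 : (r ((g * g') • q))⁻¹ * (g * g') * r q =
        ((r (g • (g' • q)))⁻¹ * g * r (g' • q)) * ((r (g' • q))⁻¹ * g' * r q) := by
      rw [mul_smul]; group
    rw [e1, hμc _ (hhq (g' • q) g) _ (hhq q g'), map_mul]
    congr 1
    rw [← cn_mul, ← cn_mul]
    congr 2
    group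
  · intro a
    show ∏ q : G ⧸ H, MulAut.conjNormal (r q) (μ ((r ((a : G) • q))⁻¹ * a * r q)) =
      a ^ (H.index : ℤ)
    have hterm : ∀ q : G ⧸ H,
        MulAut.conjNormal (r q) (μ ((r ((a : G) • q))⁻¹ * a * r q)) = a := by
      intro q
      have haq : (a : G) • q = q := by
        rw [← hsm, ← hr q]
        rw [QuotientGroup.eq]
        apply hAH
        have hmem := (inferInstance : A.Normal).conj_mem (a : G)⁻¹ (A.inv_mem a.2) (r q)⁻¹
        have e5 : (r q)⁻¹ * (a : G)⁻¹ * (r q)⁻¹⁻¹ = ((a : G) * r q)⁻¹ * r q := by group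
        rw [hr q]
        rw [← e5]
        exact hmem
      rw [haq]
      have e : (r q)⁻¹ * (a : G) * r q = 1 * ((MulAut.conjNormal (r q)⁻¹ a : A) : G) := by
        rw [one_mul, MulAut.conjNormal_apply, inv_inv]
      rw [e, hμ 1 K.one_mem, ← cn_mul, mul_inv_cancel, map_one]
      rfl
    rw [Finset.prod_congr rfl (fun q _ => hterm q), Finset.prod_const, Finset.card_univ,
      zpow_natCast, Subgroup.index_eq_card, Nat.card_eq_fintype_card]


theorem exists_complement [Finite G] [IsMulCommutative A]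
    (hyp : ∀ p : ℕ, p.Prime → p ∣ Nat.card A →
      ∃ H K : Subgroup G, K ⊓ A = ⊥ ∧ K ⊔ A = H ∧ ¬ p ∣ H.index) :
    ∃ L : Subgroup G, L.IsComplement' A := by
  obtain ⟨d, hd⟩ := Int.subgroup_cyclic (expSub A)
  have hdm : d ∈ expSub A := by
    rw [hd]; exact AddSubgroup.subset_closure (Set.mem_singleton d)
  have hdvd : ∀ e ∈ expSub A, d ∣ e := by
    intro e he
    rw [hd, AddSubgroup.mem_closure_singleton] at he
    obtain ⟨n, rfl⟩ := he
    exact ⟨n, by simp [mul_comm]⟩
  have hcard : (Nat.card A : ℤ) ∈ expSub A := by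
    refine ⟨fun _ => 1, ?_, ?_⟩
    · intro x y; simp
    · intro a; rw [zpow_natCast, pow_card_eq_one']
  have hd1 : d.natAbs = 1 := by
    by_contra hne
    obtain ⟨q, hq, hqd⟩ := Nat.exists_prime_and_dvd hne
    have hqd' : (q : ℤ) ∣ d := Int.natCast_dvd.mpr hqd
    have hqA : q ∣ Nat.card A := by
      have h1 := hqd'.trans (hdvd _ hcard)
      exact_mod_cast h1
    obtain ⟨H, K, h1, h2, h3⟩ := hyp q hq hqA
    apply h3
    have h4 := hqd'.trans (hdvd _ (index_mem_expSub A H K h1 h2))
    exact_mod_cast h4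
  have h1m : (1 : ℤ) ∈ expSub A := by
    rcases Int.natAbs_eq d with h | h
    · rw [hd1] at h
      have : d = 1 := by simpa using h
      rw [← this]; exact hdm
    · rw [hd1] at h
      have : -d = 1 := by rw [h]; simp
      rw [← this]; exact (expSub A).neg_mem hdm
  obtain ⟨lam, hrc, hid⟩ := h1m
  exact exists_complement_of_rc A lam hrc (fun a => by rw [hid, zpow_one])

end

/-- Let `A` be an abelian normal subgroup of the finite group `G`. Then `A` has a complement in `G` if and only if, for every prime `p` dividing the index of `A`, there are a Sylow `p`-subgroup `S` of `G/A` and a subgroup `K` of `G` with `K ∩ A = 1` and `KA` equal to the preimage of `S` (that is, `A` has a complement in the preimage of a Sylow `p`-subgroup of `G/A`). -/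
theorem result {G : Type*} [Group G] [Finite G] (A : Subgroup G) [A.Normal] (hA : IsMulCommutative A) : (∃ K : Subgroup G, K.IsComplement' A) ↔ ∀ p : ℕ, p.Prime → p ∣ A.index → ∃ (S : Sylow p (G ⧸ A)) (K : Subgroup G), K ⊓ A = ⊥ ∧ K ⊔ A = (S : Subgroup (G ⧸ A)).comap (QuotientGroup.mk' A) := by
  haveI := hA
  constructor
  · rintro ⟨K, hK⟩ p hp hpi
    haveI := Fact.mk hp
    obtain ⟨S⟩ := (inferInstance : Nonempty (Sylow p (G ⧸ A)))
    refine ⟨S, K ⊓ (S : Subgroup (G ⧸ A)).comap (QuotientGroup.mk' A), ?_, ?_⟩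
    · have h1 := hK.disjoint
      rw [disjoint_iff] at h1
      rw [inf_right_comm, h1, bot_inf_eq]
    · have hAle : A ≤ (S : Subgroup (G ⧸ A)).comap (QuotientGroup.mk' A) := by
        intro a ha
        rw [Subgroup.mem_comap]
        have : QuotientGroup.mk' A a = 1 := by
          rw [QuotientGroup.mk'_apply, QuotientGroup.eq_one_iff]; exact ha
        rw [this]; exact Subgroup.one_mem _
      apply le_antisymm
      · exact sup_le inf_le_right hAle
      · intro g hg
        have hgt : g ∈ ((K ⊔ A : Subgroup G) : Set G) := by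
          rw [hK.sup_eq_top]; trivial
        rw [Subgroup.mul_normal] at hgt
        obtain ⟨k, hk, a, ha, rfl⟩ := hgt
        have hkS : k ∈ (S : Subgroup (G ⧸ A)).comap (QuotientGroup.mk' A) := by
          have h2 := Subgroup.mul_mem _ hg (Subgroup.inv_mem _ (hAle ha))
          simpa using h2
        exact Subgroup.mul_mem _ (Subgroup.mem_sup_left (Subgroup.mem_inf.mpr ⟨hk, hkS⟩))
          (Subgroup.mem_sup_right ha)
  · intro h
    apply exists_complement A
    intro p hp hpA
    haveI := Fact.mk hp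
    by_cases hpi : p ∣ A.index
    · obtain ⟨S, K, h1, h2⟩ := h p hp hpi
      refine ⟨_, K, h1, h2, ?_⟩
      rw [Subgroup.index_comap_of_surjective _ (QuotientGroup.mk'_surjective A)]
      exact S.not_dvd_index
    · exact ⟨A, ⊥, bot_inf_eq _, bot_sup_eq _, hpi⟩

end Cfsg.Agent.S4217
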