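import Mathlib
import Cfsg.Statements.S4220
import Cfsg.Agent.Lib.Helper21.MillerCase1
import Cfsg.Agent.Lib.Helper21.MillerNine
-- import your own Cfsg.Agent.* helpers here

set_option autoImplicit false
open Cfsg

namespace Cfsg.Agent.S4220

open Equiv Equiv.Perm MulAction Cfsg.Agent.Helper21.Miller

/-- The case `k = 1`: the stabilizer of `r` points contains a `p`-cycle. -/
theorem kone {α : Type*} [Fintype α] [DecidableEq α] (G : Subgroup (Equiv.Perm α)) {p r : ℕ}
    (hp : p.Prime) (hn : Fintype.card α = p + r) (hr : 3 ≤ r)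
    (hG : MulAction.IsMultiplyPretransitive G α (r + 1)) : alternatingGroup α ≤ G := by
  classical
  have : Fact p.Prime := ⟨hp⟩
  have hp2 := hp.two_le
  have hprim : IsPreprimitive G α :=
    isPreprimitive_of_multi G (t := r + 1) (by omega) (by omega) hG
  obtain ⟨x⟩ : Nonempty (Fin r ↪ α) :=
    Function.Embedding.nonempty_of_card_le (by rw [Fintype.card_fin]; omega)
  have hdvd : p ∣ Nat.card (stabilizer G x) := by
    have h1 := dvd_card_stabilizer G hG x (by omega)
    have h3 : Fintype.card α - r = p := by omega
    rwa [h3] at h1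
  obtain ⟨u, hu⟩ := exists_prime_orderOf_dvd_card' p hdvd
  set σ : Perm α := ((u : G) : Perm α) with hσ
  have hσG : σ ∈ G := (u : G).2
  have hσo : orderOf σ = p := by rw [hσ, Subgroup.orderOf_coe, Subgroup.orderOf_coe, hu]
  have hσx : ∀ i, σ (x i) = x i := by
    intro i
    have := u.2
    rw [MulAction.mem_stabilizer_iff] at this
    exact DFunLike.congr_fun this i
  have hsupp : σ.support ⊆ (Finset.univ.map x)ᶜ := by
    intro y hy
    rw [Finset.mem_compl, Finset.mem_map]
    rintro ⟨i, _, rfl⟩
    exact (Perm.mem_support.mp hy) (hσx i)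
  have hle : σ.support.card ≤ p := by
    have := Finset.card_le_card hsupp
    rw [Finset.card_compl, Finset.card_map, Finset.card_univ, Fintype.card_fin, hn] at this
    omega
  have hc : σ.IsCycle := Perm.isCycle_of_prime_order (by rw [hσo]; exact hp)
    (by rw [hσo]; omega)
  have hs : σ.support.card = p := by rw [← hc.orderOf, hσo]
  exact Cfsg.Agent.S0713.result G hprim hp (by omega) (by omega) hc hs hσG

theorem main.{u} (p : ℕ) (hp : p.Prime) : ∀ (k : ℕ) (α : Type u) [Fintype α] [DecidableEq α]
    (G : Subgroup (Equiv.Perm α)) (r : ℕ), Fintype.card α = k * p + r → 1 ≤ k → k < p → k < r →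
    ¬ (k = 1 ∧ r = 2) → MulAction.IsMultiplyPretransitive G α (r + 1) →
    alternatingGroup α ≤ G := by
  have : Fact p.Prime := ⟨hp⟩
  intro k
  induction k using Nat.strong_induction_on with
  | _ k ih =>
    intro α _ _ G r hn hk hpk hrk hex hG
    rcases Nat.lt_or_ge k 2 with hk2 | hk2
    · have hk1 : k = 1 := by omega
      subst hk1
      have hr : 3 ≤ r := by
        by_contra h
        apply hex
        exact ⟨rfl, by omega⟩
      exact kone G hp (by rw [hn]; ring) hr hG
    · by_cases hcase : ∃ x' : Fin (r + 1) ↪ α, p ∣ Nat.card (stabilizer G x')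
      · obtain ⟨x', hx'⟩ := hcase
        apply case1 G hn hk2 hpk hrk hG _ x' hx'
        intro j hjk hj1 Γ G' hΓ htr
        exact ih j hjk {ω // ω ∈ Γ} G' r (by rw [Fintype.card_coe]; exact hΓ) hj1 (by omega)
          (by omega) (by omega) htr
      · push Not at hcase
        by_cases h33 : r = 3 ∧ p = 3
        · obtain ⟨rfl, rfl⟩ := h33
          have hk2' : k = 2 := by omega
          subst hk2'
          exact nine G (by rw [hn]) hG hcase
        · exact case2 G hn hk2 hpk hrk hG hcase h33

/-- Let `n = kp + r` with `p` prime, `1 ≤ k < p` and `r > k`, excluding the case `k = 1, r = 2`. Then a permutation group of degree `n` that is `(r + 1)`-fold transitive contains the alternating group. -/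
theorem result {α : Type*} [Fintype α] [DecidableEq α] (G : Subgroup (Equiv.Perm α)) {k p r : ℕ} (hp : p.Prime) (hn : Fintype.card α = k * p + r) (hk : 1 ≤ k) (hpk : k < p) (hrk : k < r) (hex : ¬ (k = 1 ∧ r = 2)) (hG : MulAction.IsMultiplyPretransitive G α (r + 1)) : alternatingGroup α ≤ G := by
  exact main p hp k α G r hn hk hpk hrk hex hG

end Cfsg.Agent.S4220
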