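import Mathlib
import Cfsg.Statements.S4222

set_option autoImplicit false
open Cfsg

namespace Cfsg.Agent.S4222

/-- If a normal subgroup `N` of a finite group is complete (its centre is trivial and every automorphism of `N` is inner), then the group is the internal direct product of `N` and the centralizer of `N`: the centralizer is a complement to `N`. -/
theorem result {T : Type*} [Group T] [Finite T] (N : Subgroup T) [N.Normal] (hz : Subgroup.center ↥N = ⊥) (ha : Function.Surjective (MulAut.conj : ↥N →* MulAut ↥N)) : (Subgroup.centralizer (N : Set T)).IsComplement' N := by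
  apply Subgroup.isComplement'_of_disjoint_and_mul_eq_univ
  · rw [Subgroup.disjoint_def]
    intro x hxC hxN
    have : (⟨x, hxN⟩ : N) ∈ Subgroup.center N := by
      rw [Subgroup.mem_center_iff]
      rintro ⟨n, hn⟩
      apply Subtype.ext
      show n * x = x * n
      exact (Subgroup.mem_centralizer_iff.mp hxC n hn)
    rw [hz, Subgroup.mem_bot] at this
    exact congrArg Subtype.val this
  · rw [Set.eq_univ_iff_forall]
    intro t
    obtain ⟨n₀, hn₀⟩ := ha (MulAut.conjNormal t)
    have key : ∀ m : T, m ∈ N → (n₀ : T) * m * (n₀ : T)⁻¹ = t * m * t⁻¹ := by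
      intro m hm
      have := congrArg (fun φ : MulAut N => ((φ ⟨m, hm⟩ : N) : T)) hn₀
      simpa [MulAut.conj_apply, MulAut.conjNormal_apply] using this
    refine ⟨t * (n₀ : T)⁻¹, ?_, (n₀ : T), n₀.2, by group⟩
    rw [SetLike.mem_coe, Subgroup.mem_centralizer_iff]
    intro n hn
    have hm : (n₀ : T)⁻¹ * n * (n₀ : T) ∈ N :=
      N.mul_mem (N.mul_mem (N.inv_mem n₀.2) hn) n₀.2
    have := key _ hm
    -- this : n₀ * (n₀⁻¹ n n₀) * n₀⁻¹ = t * (n₀⁻¹ n n₀) * t⁻¹
    have e1 : (n₀ : T) * ((n₀ : T)⁻¹ * n * (n₀ : T)) * (n₀ : T)⁻¹ = n := by group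
    rw [e1] at this
    -- n = t * (n₀⁻¹ * n * n₀) * t⁻¹
    calc n * (t * (n₀ : T)⁻¹) = (t * ((n₀ : T)⁻¹ * n * (n₀ : T)) * t⁻¹) * (t * (n₀ : T)⁻¹) := by rw [← this]
      _ = t * (n₀ : T)⁻¹ * n := by group

end Cfsg.Agent.S4222
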