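import Mathlib
import Cfsg.Statements.S4223
-- import your own Cfsg.Agent.* helpers here

set_option autoImplicit false
open Cfsg

namespace Cfsg.Agent.S4223

open Function

universe u v w x

section fitting

variable {G : Type*} [Group G]

/-- normal endomorphism -/
def IsNE (φ : G →* G) : Prop := ∀ x a, φ (x * a * x⁻¹) = x * φ a * x⁻¹

/-- directly indecomposable -/
def Indec (G : Type*) [Group G] : Prop :=
  ∀ H K : Subgroup G, H.Normal → K.Normal → H ⊓ K = ⊥ → H ⊔ K = ⊤ → H = ⊥ ∨ K = ⊥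

/-- iterates as homs -/
def pw (φ : G →* G) : ℕ → (G →* G)
  | 0 => MonoidHom.id G
  | k+1 => (pw φ k).comp φ

theorem pw_zero (φ : G →* G) (a : G) : pw φ 0 a = a := rfl

theorem pw_succ (φ : G →* G) (k : ℕ) (a : G) : pw φ (k+1) a = pw φ k (φ a) := rfl

theorem pw_succ' (φ : G →* G) (k : ℕ) (a : G) : pw φ (k+1) a = φ (pw φ k a) := by
  induction k generalizing a with
  | zero => rfl
  | succ k ih => rw [pw_succ, ih, pw_succ]

theorem pw_add (φ : G →* G) (j k : ℕ) (a : G) : pw φ (j + k) a = pw φ j (pw φ k a) := by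
  induction k generalizing a with
  | zero => rfl
  | succ k ih => rw [← add_assoc, pw_succ, ih, pw_succ]

theorem pw_isNE {φ : G →* G} (h : IsNE φ) (k : ℕ) : IsNE (pw φ k) := by
  induction k with
  | zero => intro x a; rfl
  | succ k ih => intro x a; rw [pw_succ, h, ih, pw_succ]

theorem pw_fixed {φ : G →* G} {a : G} (h : φ a = a) (k : ℕ) : pw φ k a = a := by
  induction k with
  | zero => rfl
  | succ k ih => rw [pw_succ, h, ih]

theorem fitting [Finite G] (hG : Indec G) {φ : G →* G} (hφ : IsNE φ) :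
    Function.Bijective φ ∨ ∃ k, ∀ a, pw φ k a = 1 := by
  classical
  have hR : Antitone (fun k => (pw φ k).range) := antitone_nat_of_succ_le (fun k => by
    rintro _ ⟨a, rfl⟩; exact ⟨φ a, rfl⟩)
  have hK : Monotone (fun k => (pw φ k).ker) := monotone_nat_of_le_succ (fun k x hx => by
    rw [MonoidHom.mem_ker] at hx ⊢; rw [pw_succ', hx, map_one])
  obtain ⟨n₁, h₁⟩ := WellFoundedGT.monotone_chain_condition (α := (Subgroup G)ᵒᵈ)
    ⟨fun k => OrderDual.toDual ((pw φ k).range), fun a b hab => hR hab⟩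
  obtain ⟨n₂, h₂⟩ := WellFoundedGT.monotone_chain_condition ⟨fun k => (pw φ k).ker, hK⟩
  have hRK : (pw φ ((n₁ + n₂ + 1) + (n₁ + n₂ + 1))).range = (pw φ (n₁ + n₂ + 1)).range := by
    have e1 := h₁ (n₁ + n₂ + 1) (by omega)
    have e2 := h₁ ((n₁ + n₂ + 1) + (n₁ + n₂ + 1)) (by omega)
    exact (OrderDual.toDual.injective (e2.symm.trans e1))
  have hKK : (pw φ ((n₁ + n₂ + 1) + (n₁ + n₂ + 1))).ker = (pw φ (n₁ + n₂ + 1)).ker := by
    have e1 := h₂ (n₁ + n₂ + 1) (by omega)
    have e2 := h₂ ((n₁ + n₂ + 1) + (n₁ + n₂ + 1)) (by omega)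
    exact e2.symm.trans e1
  generalize n₁ + n₂ = N at hRK hKK
  have hnr : (pw φ (N + 1)).range.Normal :=
    ⟨fun y hy x => by obtain ⟨a, rfl⟩ := hy; exact ⟨x * a * x⁻¹, pw_isNE hφ _ x a⟩⟩
  have hinf : (pw φ (N + 1)).ker ⊓ (pw φ (N + 1)).range = ⊥ := by
    rw [eq_bot_iff]
    rintro x ⟨hx1, ⟨y, rfl⟩⟩
    have hy : y ∈ (pw φ ((N + 1) + (N + 1))).ker := by
      rw [MonoidHom.mem_ker, pw_add]; exact hx1
    rw [hKK] at hy
    exact hy
  have hsup : (pw φ (N + 1)).ker ⊔ (pw φ (N + 1)).range = ⊤ := by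
    rw [eq_top_iff]
    intro g _
    have hg : pw φ (N + 1) g ∈ (pw φ ((N + 1) + (N + 1))).range := by
      rw [hRK]; exact ⟨g, rfl⟩
    obtain ⟨h, hh⟩ := hg
    rw [pw_add] at hh
    have : g = (g * (pw φ (N + 1) h)⁻¹) * pw φ (N + 1) h := by group
    rw [this]
    refine Subgroup.mul_mem_sup ?_ ⟨h, rfl⟩
    rw [MonoidHom.mem_ker, map_mul, map_inv, hh, mul_inv_cancel]
  rcases hG _ _ (MonoidHom.normal_ker _) hnr hinf hsup with h | h
  · left
    have hinj : Function.Injective (pw φ (N + 1)) := (MonoidHom.ker_eq_bot_iff _).mp h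
    have : Function.Injective φ := by
      intro a b hab
      apply hinj
      rw [pw_succ, pw_succ, hab]
    exact Finite.injective_iff_bijective.mp this
  · right
    refine ⟨N + 1, fun a => ?_⟩
    have : pw φ (N + 1) a ∈ (pw φ (N + 1)).range := ⟨a, rfl⟩
    rw [h] at this
    exact this

theorem lemmaN [Finite G] [Nontrivial G] (hG : Indec G) {ι : Type*} [DecidableEq ι]
    (s : Finset ι) :
    ∀ (θ : ι → G →* G), (∀ j ∈ s, IsNE (θ j)) →
      (∀ i ∈ s, ∀ j ∈ s, i ≠ j → ∀ a b, Commute (θ i a) (θ j b)) →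
      (∀ a, ∃ comm, s.noncommProd (fun j => θ j a) comm = a) →
      ∃ j ∈ s, Function.Bijective (θ j) := by
  induction s using Finset.induction_on with
  | empty =>
    intro θ _ _ h
    exfalso
    obtain ⟨a, ha⟩ := exists_ne (1 : G)
    obtain ⟨comm, hc⟩ := h a
    rw [Finset.noncommProd_empty] at hc
    exact ha hc.symm
  | insert i₀ s hi₀ ih =>
    intro θ hn hc hsum
    have hQ : ∀ a, ∃ comm, s.noncommProd (fun j => θ j a) comm = (θ i₀ a)⁻¹ * a := by
      intro a
      obtain ⟨comm, h⟩ := hsum a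
      rw [Finset.noncommProd_insert_of_notMem _ _ _ _ hi₀] at h
      exact ⟨_, by rw [eq_inv_mul_iff_mul_eq]; exact h⟩
    have hcomm : ∀ a b, Commute (θ i₀ b) ((θ i₀ a)⁻¹ * a) := by
      intro a b
      obtain ⟨comm, h⟩ := hQ a
      rw [← h]
      apply Finset.noncommProd_commute
      intro j hj
      exact hc i₀ (Finset.mem_insert_self _ _) j (Finset.mem_insert_of_mem hj)
        (by rintro rfl; exact hi₀ hj) b a
    have hmul : ∀ a b, (θ i₀ (a * b))⁻¹ * (a * b)
        = ((θ i₀ a)⁻¹ * a) * ((θ i₀ b)⁻¹ * b) := by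
      intro a b
      have h1 := ((hcomm a b).inv_left).eq
      calc (θ i₀ (a * b))⁻¹ * (a * b)
          = ((θ i₀ b)⁻¹ * ((θ i₀ a)⁻¹ * a)) * b := by
            rw [map_mul, mul_inv_rev]; group
        _ = ((θ i₀ a)⁻¹ * a) * ((θ i₀ b)⁻¹ * b) := by rw [h1]; group
    let Qh : G →* G := MonoidHom.mk' (fun a => (θ i₀ a)⁻¹ * a) hmul
    have hQh : ∀ a, Qh a = (θ i₀ a)⁻¹ * a := fun a => rfl
    have hi₀n := hn i₀ (Finset.mem_insert_self _ _)
    have hQn : IsNE Qh := by
      intro y a
      rw [hQh, hQh, hi₀n]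
      group
    rcases fitting hG hi₀n with hb | ⟨k, hk⟩
    · exact ⟨i₀, Finset.mem_insert_self _ _, hb⟩
    · have hQinj : Function.Injective Qh := by
        rw [injective_iff_map_eq_one]
        intro a ha
        rw [hQh, inv_mul_eq_one] at ha
        exact (pw_fixed ha k).symm.trans (hk a)
      have hQbij : Function.Bijective Qh := Finite.injective_iff_bijective.mp hQinj
      let Qe : G ≃* G := MulEquiv.ofBijective Qh hQbij
      have hQe : ∀ a, Qe a = Qh a := fun a => rfl
      obtain ⟨j, hj, hjb⟩ := ih (fun j => Qe.symm.toMonoidHom.comp (θ j)) (by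
          intro j hj y a
          show Qe.symm (θ j (y * a * y⁻¹)) = y * Qe.symm (θ j a) * y⁻¹
          rw [hn j (Finset.mem_insert_of_mem hj), MulEquiv.symm_apply_eq, hQe, hQn, ← hQe,
            MulEquiv.apply_symm_apply]) (by
          intro i hi j hj hij a b
          exact (hc i (Finset.mem_insert_of_mem hi) j (Finset.mem_insert_of_mem hj) hij a b).map
            Qe.symm.toMonoidHom) (by
          intro a
          obtain ⟨comm, h⟩ := hQ a
          refine ⟨_, (Finset.map_noncommProd s _ comm Qe.symm).symm.trans ?_⟩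
          rw [h, ← hQh, ← hQe, MulEquiv.symm_apply_apply])
      refine ⟨j, Finset.mem_insert_of_mem hj, ?_⟩
      have : (θ j : G → G) = Qe ∘ (Qe.symm.toMonoidHom.comp (θ j)) := by
        funext a
        show θ j a = Qe (Qe.symm (θ j a))
        rw [MulEquiv.apply_symm_apply]
      rw [this]
      exact Qe.bijective.comp hjb

end fitting


section exchange

theorem mulSingle_conj {κ : Type*} [DecidableEq κ] {B : κ → Type*} [∀ j, Group (B j)]
    (u : ∀ j, B j) (j : κ) (v : B j) :
    Pi.mulSingle j (u j * v * (u j)⁻¹) = u * Pi.mulSingle j v * u⁻¹ := by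
  ext l
  by_cases h : l = j
  · subst h; simp
  · simp [Pi.mulSingle_eq_of_ne h]

/-- splitting off one factor, as a group isomorphism -/
def splitAt {ι : Type*} [DecidableEq ι] (i₀ : ι) (A : ι → Type*) [∀ i, Group (A i)] :
    (∀ i, A i) ≃* A i₀ × ∀ i : {i // i ≠ i₀}, A i :=
  { Equiv.piSplitAt i₀ A with map_mul' := fun _ _ => rfl }

theorem exchange {A : Type u} {A' : Type v} {κ : Type w} [Fintype κ] [DecidableEq κ]
    {B : κ → Type x} [Group A] [Group A'] [∀ j, Group (B j)] [Finite A] [Finite A']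
    [∀ j, Finite (B j)] [Nontrivial A] (hA : Indec A) (hB : ∀ j, Indec (B j))
    (e : A × A' ≃* ∀ j, B j) :
    ∃ j₀, Nonempty (A ≃* B j₀) ∧ Nonempty (A' ≃* ∀ j : {j // j ≠ j₀}, B j) := by
  classical
  let ιA : A →* ∀ j, B j := e.toMonoidHom.comp (MonoidHom.inl A A')
  let πA : (∀ j, B j) →* A := (MonoidHom.fst A A').comp e.symm.toMonoidHom
  have hι : ∀ a, ιA a = e (a, 1) := fun a => rfl
  have hπ : ∀ u, πA u = (e.symm u).1 := fun u => rfl
  have hπι : ∀ a, πA (ιA a) = a := by
    intro a; rw [hπ, hι, MulEquiv.symm_apply_apply]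
  have hconj : ∀ u a, ιA (πA (u * ιA a * u⁻¹)) = u * ιA a * u⁻¹ := by
    intro u a
    apply e.symm.injective
    rw [hι, MulEquiv.symm_apply_apply, hπ, map_mul, map_mul, map_inv, hι,
      MulEquiv.symm_apply_apply]
    ext <;> simp
  let θ : κ → A →* A := fun j =>
    πA.comp ((MonoidHom.mulSingle B j).comp ((Pi.evalMonoidHom B j).comp ιA))
  have hθ : ∀ j a, θ j a = πA (Pi.mulSingle j (ιA a j)) := fun j a => rfl
  obtain ⟨j₀, -, hj₀⟩ := lemmaN hA (Finset.univ : Finset κ) θ (by
      intro j _ y a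
      rw [hθ, hθ, map_mul, map_mul, map_inv, Pi.mul_apply, Pi.mul_apply, Pi.inv_apply,
        mulSingle_conj, map_mul, map_mul, map_inv, hπι]) (by
      intro i _ j _ hij a b
      rw [hθ, hθ]
      exact (Pi.mulSingle_commute hij _ _).map πA) (by
      intro a
      refine ⟨fun i _ j _ hij => ?_, ?_⟩
      · show Commute (θ i a) (θ j a)
        rw [hθ, hθ]
        exact (Pi.mulSingle_commute hij _ _).map πA
      · have h1 := Finset.noncommProd_mulSingle (ιA a)
        have h2 := Finset.map_noncommProd Finset.univ (fun i => Pi.mulSingle i (ιA a i))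
          (fun i _ j _ _ => Pi.mulSingle_apply_commute (ιA a) i j) πA
        rw [h1, hπι] at h2
        exact h2.symm)
  refine ⟨j₀, ?_, ?_⟩
  all_goals
    let α : A →* B j₀ := (Pi.evalMonoidHom B j₀).comp ιA
    let β : B j₀ →* A := πA.comp (MonoidHom.mulSingle B j₀)
    have hα : ∀ a, α a = ιA a j₀ := fun a => rfl
    have hβ : ∀ b, β b = πA (Pi.mulSingle j₀ b) := fun b => rfl
    have hβα : ∀ a, β (α a) = θ j₀ a := fun a => rfl
    have hαinj : Function.Injective α := by
      intro a b hab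
      apply hj₀.1
      rw [← hβα, ← hβα, hab]
    have hnr : α.range.Normal := by
      refine ⟨fun y hy b => ?_⟩
      obtain ⟨a, rfl⟩ := hy
      refine ⟨πA (Pi.mulSingle j₀ b * ιA a * (Pi.mulSingle j₀ b)⁻¹), ?_⟩
      rw [hα, hconj]
      simp [hα]
    have hinf : α.range ⊓ β.ker = ⊥ := by
      rw [eq_bot_iff]
      rintro _ ⟨⟨a, rfl⟩, h2⟩
      replace h2 : β (α a) = 1 := h2
      rw [hβα] at h2
      have : a = 1 := hj₀.1 (h2.trans (map_one _).symm)
      rw [this, map_one]
      exact Subgroup.mem_bot.mpr rfl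
    have hsup : α.range ⊔ β.ker = ⊤ := by
      rw [eq_top_iff]
      intro b _
      obtain ⟨a, ha⟩ := hj₀.2 (β b)
      have : b = α a * ((α a)⁻¹ * b) := by group
      rw [this]
      refine Subgroup.mul_mem_sup ⟨a, rfl⟩ ?_
      rw [MonoidHom.mem_ker, map_mul, map_inv, hβα, ha, inv_mul_cancel]
    have hne : α.range ≠ ⊥ := by
      obtain ⟨a, ha⟩ := exists_ne (1 : A)
      intro h
      have : α a ∈ α.range := ⟨a, rfl⟩
      rw [h, Subgroup.mem_bot] at this
      exact ha (hαinj (this.trans (map_one _).symm))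
    have hker : β.ker = ⊥ := by
      rcases hB j₀ _ _ hnr (MonoidHom.normal_ker _) hinf hsup with h | h
      · exact absurd h hne
      · exact h
    have hβinj : Function.Injective β := (MonoidHom.ker_eq_bot_iff _).mp hker
    have hβsurj : Function.Surjective β := by
      intro a
      obtain ⟨a', ha'⟩ := hj₀.2 a
      exact ⟨α a', ha'⟩
    have eAB : B j₀ ≃* A := MulEquiv.ofBijective β ⟨hβinj, hβsurj⟩
  · exact ⟨eAB.symm⟩
  · let γ : A' →* ∀ j : {j // j ≠ j₀}, B j :=
      MonoidHom.pi fun j => (Pi.evalMonoidHom B j.1).comp (e.toMonoidHom.comp (MonoidHom.inr A A'))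
    have hγ : ∀ a' j, γ a' j = e (1, a') j.1 := fun a' j => rfl
    have hγinj : Function.Injective γ := by
      rw [injective_iff_map_eq_one]
      intro a' ha'
      have h1 : e (1, a') = Pi.mulSingle j₀ (e (1, a') j₀) := by
        ext l
        by_cases hl : l = j₀
        · subst hl; simp
        · rw [Pi.mulSingle_eq_of_ne hl]
          have := congrFun ha' ⟨l, hl⟩
          rw [hγ] at this
          exact this
      have h2 : β (e (1, a') j₀) = 1 := by
        rw [hβ, ← h1, hπ, MulEquiv.symm_apply_apply]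
      have h3 : e (1, a') j₀ = 1 := hβinj (h2.trans (map_one _).symm)
      rw [h3, Pi.mulSingle_one] at h1
      have h4 : ((1 : A), a') = 1 := e.injective (h1.trans (map_one _).symm)
      exact congrArg Prod.snd h4
    have hcard : Nat.card A' = Nat.card (∀ j : {j // j ≠ j₀}, B j) := by
      have h1 : Nat.card (A × A') = Nat.card (B j₀ × ∀ j : {j // j ≠ j₀}, B j) :=
        (Nat.card_congr e.toEquiv).trans (Nat.card_congr (Equiv.piSplitAt j₀ B))
      rw [Nat.card_prod, Nat.card_prod, Nat.card_congr eAB.toEquiv] at h1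
      exact Nat.eq_of_mul_eq_mul_left Nat.card_pos h1
    exact ⟨MulEquiv.ofBijective γ ((Nat.bijective_iff_injective_and_card γ).mpr ⟨hγinj, hcard⟩)⟩

end exchange


theorem krs_aux : ∀ (k : ℕ) {ι κ : Type} [Fintype ι] [Fintype κ] [DecidableEq ι] [DecidableEq κ]
    (A : ι → Type u) (B : κ → Type v) [∀ i, Group (A i)] [∀ j, Group (B j)]
    [∀ i, Finite (A i)] [∀ j, Finite (B j)], Fintype.card ι = k →
    (∀ i, Nontrivial (A i) ∧ Indec (A i)) → (∀ j, Nontrivial (B j) ∧ Indec (B j)) →
    ((∀ i, A i) ≃* (∀ j, B j)) → ∃ σ : ι ≃ κ, ∀ i, Nonempty (A i ≃* B (σ i)) := by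
  intro k
  induction k with
  | zero =>
    intro ι κ _ _ _ _ A B _ _ _ _ hcard hA hB e
    have hι : IsEmpty ι := Fintype.card_eq_zero_iff.mp hcard
    have hκ : IsEmpty κ := by
      by_contra hne
      rw [not_isEmpty_iff] at hne
      obtain ⟨j₀⟩ := hne
      haveI := (hB j₀).1
      obtain ⟨b, hb⟩ := exists_ne (1 : B j₀)
      have h1 : e.symm (Pi.mulSingle j₀ b) = e.symm 1 := Subsingleton.elim _ _
      have h2 := e.symm.injective h1
      have h3 := congrFun h2 j₀
      rw [Pi.mulSingle_eq_same, Pi.one_apply] at h3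
      exact hb h3
    exact ⟨Equiv.equivOfIsEmpty ι κ, fun i => isEmptyElim i⟩
  | succ k ih =>
    intro ι κ _ _ _ _ A B _ _ _ _ hcard hA hB e
    have hne : Nonempty ι := by
      rw [← Fintype.card_pos_iff]; omega
    obtain ⟨i₀⟩ := hne
    haveI := (hA i₀).1
    obtain ⟨j₀, ⟨e₀⟩, ⟨e'⟩⟩ := exchange (hA i₀).2 (fun j => (hB j).2)
      ((splitAt i₀ A).symm.trans e)
    have hcard' : Fintype.card {i // i ≠ i₀} = k := by
      have := Fintype.card_congr (Equiv.optionSubtypeNe i₀)
      rw [Fintype.card_option, hcard] at this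
      omega
    obtain ⟨σ', hσ'⟩ := ih (fun i : {i // i ≠ i₀} => A i.1) (fun j : {j // j ≠ j₀} => B j.1)
      hcard' (fun i => hA i.1) (fun j => hB j.1) e'
    refine ⟨(Equiv.optionSubtypeNe i₀).symm.trans
      ((Equiv.optionCongr σ').trans (Equiv.optionSubtypeNe j₀)), fun i => ?_⟩
    by_cases hi : i = i₀
    · subst hi
      have : ((Equiv.optionSubtypeNe i).symm.trans
        ((Equiv.optionCongr σ').trans (Equiv.optionSubtypeNe j₀))) i = j₀ := by
        simp
      rw [this]
      exact ⟨e₀⟩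
    · have : ((Equiv.optionSubtypeNe i₀).symm.trans
        ((Equiv.optionCongr σ').trans (Equiv.optionSubtypeNe j₀))) i = (σ' ⟨i, hi⟩).1 := by
        simp [hi]
      rw [this]
      exact hσ' ⟨i, hi⟩


/-- If a finite group is isomorphic both to a direct product of `m` directly indecomposable nontrivial groups and to a direct product of `n` such groups (a group is directly indecomposable when it is not the internal direct product of two nontrivial normal subgroups), then `m = n` and the factors are isomorphic in pairs after a suitable matching. -/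
theorem result {m n : ℕ} {A : Fin m → Type*} {B : Fin n → Type*} [∀ i, Group (A i)] [∀ j, Group (B j)] [∀ i, Finite (A i)] [∀ j, Finite (B j)] (hA : ∀ i, Nontrivial (A i) ∧ ∀ H K : Subgroup (A i), H.Normal → K.Normal → H ⊓ K = ⊥ → H ⊔ K = ⊤ → H = ⊥ ∨ K = ⊥) (hB : ∀ j, Nontrivial (B j) ∧ ∀ H K : Subgroup (B j), H.Normal → K.Normal → H ⊓ K = ⊥ → H ⊔ K = ⊤ → H = ⊥ ∨ K = ⊥) (e : ((i : Fin m) → A i) ≃* ((j : Fin n) → B j)) : ∃ σ : Fin m ≃ Fin n, ∀ i, Nonempty (A i ≃* B (σ i)) := by
  exact krs_aux m A B (Fintype.card_fin m) hA hB e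

end Cfsg.Agent.S4223
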