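import Mathlib
import Cfsg.Statements.S4230

set_option autoImplicit false
open Cfsg

namespace Cfsg.Agent.S4230

open Polynomial

/-- Let p be an odd prime, q a natural number not divisible by p, and e the multiplicative order of q modulo p. For a natural number f, p divides the value at q of the f-th cyclotomic polynomial if and only if f = e·p^j for some j ≥ 0. -/
theorem result (p q f : ℕ) (hp : p.Prime) (hp2 : p ≠ 2) (hpq : ¬ p ∣ q) :
    ((p : ℤ) ∣ (Polynomial.cyclotomic f ℤ).eval (q : ℤ)) ↔ ∃ j : ℕ, f = orderOf (q : ZMod p) * p ^ j := by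
  have : Fact p.Prime := ⟨hp⟩
  have hq0 : (q : ZMod p) ≠ 0 := by
    intro h
    exact hpq ((ZMod.natCast_eq_zero_iff q p).mp h)
  set e := orderOf (q : ZMod p) with he
  have hedvd : e ∣ p - 1 := ZMod.orderOf_dvd_card_sub_one hq0
  have hepos : 0 < e := by
    rcases Nat.eq_zero_or_pos e with h | h
    · rw [h] at hedvd
      have := Nat.eq_zero_of_zero_dvd hedvd
      have := hp.two_le
      omega
    · exact h
  have hpe : ¬ p ∣ e := by
    intro h
    have := Nat.le_of_dvd (by have := hp.two_le; omega) (dvd_trans h hedvd)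
    have := hp.two_le
    omega
  -- Step 1: reduce to a root statement in ZMod p
  have step1 : ((p : ℤ) ∣ (Polynomial.cyclotomic f ℤ).eval (q : ℤ)) ↔
      IsRoot (cyclotomic f (ZMod p)) (q : ZMod p) := by
    rw [← ZMod.intCast_zmod_eq_zero_iff_dvd, IsRoot.def, ← map_cyclotomic_int f (ZMod p)]
    have : ((q : ℤ) : ZMod p) = (q : ZMod p) := by simp
    rw [← this]
    have key : ((eval (q : ℤ) (cyclotomic f ℤ) : ℤ) : ZMod p) =
        eval (((q : ℤ) : ZMod p)) (map (Int.castRingHom (ZMod p)) (cyclotomic f ℤ)) := by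
      rw [eval_map]
      have := Polynomial.eval₂_hom (Int.castRingHom (ZMod p)) (q : ℤ) (p := cyclotomic f ℤ)
      simpa using this.symm
    rw [key]
  rw [step1]
  rcases Nat.eq_zero_or_pos f with hf0 | hfpos
  · subst hf0
    simp only [cyclotomic_zero, IsRoot.def, eval_one, one_ne_zero, false_iff]
    rintro ⟨j, hj⟩
    have : 0 < e * p ^ j := Nat.mul_pos hepos (pow_pos hp.pos j)
    omega
  · obtain ⟨j, m, hm, hfm⟩ := Nat.exists_eq_pow_mul_and_not_dvd hfpos.ne' p hp.ne_one
    have hmne : NeZero ((m : ℕ) : ZMod p) := ⟨by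
      intro h
      exact hm ((ZMod.natCast_eq_zero_iff m p).mp h)⟩
    have hroot : IsRoot (cyclotomic f (ZMod p)) (q : ZMod p) ↔ e = m := by
      have base : IsRoot (cyclotomic m (ZMod p)) (q : ZMod p) ↔ e = m := by
        rw [isRoot_cyclotomic_iff, IsPrimitiveRoot.iff_orderOf]
      rcases Nat.eq_zero_or_pos j with hj0 | hjpos
      · subst hj0
        rw [hfm, pow_zero, one_mul]
        exact base
      · rw [hfm, cyclotomic_mul_prime_pow_eq (ZMod p) hm hjpos, IsRoot.def, eval_pow,
          pow_eq_zero_iff, ← IsRoot.def]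
        · exact base
        · have : p ^ (j - 1) < p ^ j := Nat.pow_lt_pow_right hp.one_lt (by omega)
          omega
    rw [hroot]
    constructor
    · intro h
      exact ⟨j, by rw [hfm, h, mul_comm]⟩
    · rintro ⟨j', hj'⟩
      -- p^j * m = e * p^j'
      have heq : p ^ j * m = e * p ^ j' := by rw [← hfm, hj']
      have hcop_e : Nat.Coprime (p ^ j) e := Nat.Coprime.pow_left j ((Nat.Prime.coprime_iff_not_dvd hp).mpr hpe)
      have hcop_m : Nat.Coprime (p ^ j') m := Nat.Coprime.pow_left j' ((Nat.Prime.coprime_iff_not_dvd hp).mpr hm)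
      have h1 : p ^ j ∣ p ^ j' := by
        have : p ^ j ∣ e * p ^ j' := ⟨m, heq.symm⟩
        exact hcop_e.dvd_of_dvd_mul_left this
      have h2 : p ^ j' ∣ p ^ j := by
        have : p ^ j' ∣ p ^ j * m := ⟨e, by rw [heq, mul_comm]⟩
        exact hcop_m.dvd_of_dvd_mul_right this
      have h3 : p ^ j = p ^ j' := Nat.dvd_antisymm h1 h2
      rw [h3, mul_comm] at heq
      exact (Nat.eq_of_mul_eq_mul_right (pow_pos hp.pos j') heq).symm

end Cfsg.Agent.S4230
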