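import Mathlib
import Cfsg.Statements.S4237
import Cfsg.Agent.Lib.Helper20.SubCountD
import Cfsg.Agent.Lib.Helper20.SubCountG

set_option autoImplicit false
open Cfsg

namespace Cfsg.Agent.S4237

open Cfsg.Agent.Helper20.SubCount in
/-- Let G be a finite group, p a prime and a a natural number such that p^(a+1) divides the order of G. Then the number of subgroups of G of order p^a is congruent to 1 or to 1 + p modulo p². -/
theorem result {G : Type*} [Group G] [Finite G] (p a : ℕ) (hp : p.Prime) (hdvd : p ^ (a + 1) ∣ Nat.card G) :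
    Nat.card {H : Subgroup G // Nat.card H = p ^ a} ≡ 1 [MOD p ^ 2] ∨
      Nat.card {H : Subgroup G // Nat.card H = p ^ a} ≡ 1 + p [MOD p ^ 2] := by
  haveI : Fact p.Prime := ⟨hp⟩
  obtain ⟨P⟩ : Nonempty (Sylow p G) := inferInstance
  have hn : Nat.card (P : Subgroup G) = p ^ (Nat.card G).factorization p :=
    Sylow.card_eq_multiplicity P
  set n := (Nat.card G).factorization p with hn'
  have han : a < n := by
    have := (Nat.Prime.pow_dvd_iff_le_factorization hp Nat.card_pos.ne').mp hdvd
    omega
  have hred := cnt_modEq_sylow P n hn a han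
  change cnt G (p ^ a) ≡ 1 [MOD p ^ 2] ∨ cnt G (p ^ a) ≡ 1 + p [MOD p ^ 2]
  have key : cnt ↥(P : Subgroup G) (p ^ a) ≡ 1 [MOD p ^ 2] ∨
      cnt ↥(P : Subgroup G) (p ^ a) ≡ 1 + p [MOD p ^ 2] := by
    rcases Nat.eq_zero_or_pos a with rfl | ha0
    · left
      rw [pow_zero, cnt_one]
    by_cases hcyc : IsCyclic ↥(P : Subgroup G)
    · left
      haveI := hcyc
      rw [cnt_pow_of_isCyclic _ p a (by rw [hn]; exact pow_dvd_pow p han.le)]
    by_cases hp2 : p = 2
    · subst hp2
      have h1 : cnt ↥(P : Subgroup G) (2 ^ a) ≡ 1 [MOD 2] := cnt_modEq_one n _ 2 hn a han.le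
      unfold Nat.ModEq at h1 ⊢
      norm_num at h1 ⊢
      omega
    · right
      exact kulakoff n _ p hp2 hn hcyc a ha0 han
  rcases key with h | h
  · left
    exact hred.trans h
  · right
    exact hred.trans h

end Cfsg.Agent.S4237
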