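import Mathlib
import Cfsg.Statements.S4238
import Cfsg.Agent.Lib.Helper10.Frobenius3
import Cfsg.Agent.Lib.Helper7.Coprime

set_option autoImplicit false
open Cfsg

namespace Cfsg.Agent.S4238

open Cfsg.Agent.Helper10

section LemmaA

variable {K : Type*} [Group K] [Finite K]

/-- elements of `V ⊔ zpowers y` for `V` normal -/
theorem exists_mul_pow (V : Subgroup K) [V.Normal] (y : K)
    (hVy : V ⊔ Subgroup.zpowers y = ⊤) (k : K) :
    ∃ v ∈ V, ∃ i : ℕ, k = v * y ^ i := by
  have hk : k ∈ ((V ⊔ Subgroup.zpowers y : Subgroup K) : Set K) := by rw [hVy]; trivial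
  rw [Subgroup.normal_mul] at hk
  obtain ⟨v, hv, z, hz, rfl⟩ := Set.mem_mul.mp hk
  have hz' : z ∈ Submonoid.powers y :=
    (isOfFinOrder_of_finite y).mem_powers_iff_mem_zpowers.mpr hz
  obtain ⟨i, rfl⟩ := hz'
  exact ⟨v, hv, i, rfl⟩

/-- in a group generated by ... powers of an element of prime order generate it -/
theorem exists_pow_pow_eq {q : ℕ} (hq : q.Prime) (y : K) (hyq : y ^ q = 1) (i : ℕ)
    (hi : y ^ i ≠ 1) : ∃ j : ℕ, (y ^ i) ^ j = y := by
  have hy1 : y ≠ 1 := by
    rintro rfl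
    exact hi (one_pow i)
  have ho : orderOf y = q := by
    have hd : orderOf y ∣ q := orderOf_dvd_of_pow_eq_one hyq
    rcases (Nat.dvd_prime hq).mp hd with h | h
    · exact absurd (orderOf_eq_one_iff.mp h) hy1
    · exact h
  have hqi : ¬ q ∣ i := by
    intro hd
    apply hi
    rw [← ho] at hd
    exact orderOf_dvd_iff_pow_eq_one.mp hd
  have hcop : Nat.Coprime i q := ((Nat.Prime.coprime_iff_not_dvd hq).mpr hqi).symm
  obtain ⟨m, -, hm⟩ := Nat.exists_mul_mod_eq_one_of_coprime hcop hq.one_lt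
  refine ⟨m, ?_⟩
  rw [← pow_mul, ← pow_mod_orderOf, ho, hm, pow_one]

theorem commute_of_commute_pow {q : ℕ} (hq : q.Prime) (y : K) (hyq : y ^ q = 1) (i : ℕ)
    (hi : y ^ i ≠ 1) (c : K) (hc : Commute c (y ^ i)) : Commute c y := by
  obtain ⟨j, hj⟩ := exists_pow_pow_eq hq y hyq i hi
  rw [← hj]
  exact hc.pow_right j

theorem orderOf_mem_pgroup {p : ℕ} [hp : Fact p.Prime] (V : Subgroup K) (hV : IsPGroup p V)
    (v : K) (hv : v ∈ V) : ∃ a : ℕ, orderOf v = p ^ a := by
  obtain ⟨a, ha⟩ := (IsPGroup.iff_orderOf.mp hV) ⟨v, hv⟩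
  exact ⟨a, by rw [← ha, Subgroup.orderOf_mk]⟩

theorem eq_one_of_mem_pgroup_of_coprime {p : ℕ} [hp : Fact p.Prime] (V : Subgroup K)
    (hV : IsPGroup p V) (v : K) (hv : v ∈ V) (n : ℕ) (hn : n.Coprime p) (hvn : orderOf v ∣ n) :
    v = 1 := by
  obtain ⟨a, ha⟩ := orderOf_mem_pgroup V hV v hv
  have h1 : (p ^ a).Coprime n := (Nat.Coprime.pow_right a hn).symm
  rw [← ha] at h1
  have := Nat.Coprime.eq_one_of_dvd h1 hvn
  exact orderOf_eq_one_iff.mp this

theorem abelian_of_minimal {p : ℕ} [hp : Fact p.Prime] (V : Subgroup K) [hVn : V.Normal]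
    (hV : IsPGroup p V) (hV1 : V ≠ ⊥)
    (hmin : ∀ W : Subgroup K, W.Normal → W ≤ V → W = ⊥ ∨ W = V) :
    ∀ a ∈ V, ∀ b ∈ V, a * b = b * a := by
  have hnt : Nontrivial V := (Subgroup.nontrivial_iff_ne_bot V).mpr hV1
  have hcn : Nontrivial (Subgroup.center V) := hV.center_nontrivial
  have hZn : ((Subgroup.center V).map V.subtype).Normal := inferInstance
  have hZle : (Subgroup.center V).map V.subtype ≤ V := Subgroup.map_subtype_le _
  rcases hmin _ hZn hZle with h | h
  · exfalso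
    rw [Subgroup.map_eq_bot_iff_of_injective _ V.subtype_injective] at h
    exact (Subgroup.nontrivial_iff_ne_bot _).mp hcn h
  · intro a ha b hb
    have ha' : a ∈ (Subgroup.center V).map V.subtype := by rw [h]; exact ha
    obtain ⟨c, hc, rfl⟩ := ha'
    replace hc : c ∈ Subgroup.center V := hc
    rw [Subgroup.mem_center_iff] at hc
    have := hc ⟨b, hb⟩
    have h2 := congrArg Subtype.val this
    simpa using h2.symm

theorem lemmaA {p q : ℕ} [hp : Fact p.Prime] (hq : q.Prime) (hqp : q ≠ p) (V : Subgroup K)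
    [hVn : V.Normal] (hV : IsPGroup p V) (y : K)
    (hVy : V ⊔ Subgroup.zpowers y = ⊤) (hyq : y ^ q = 1)
    (hyV : ∃ v ∈ V, y * v ≠ v * y)
    (hmin : ∀ W : Subgroup K, W.Normal → W ≤ V → W = ⊥ ∨ W = V) :
    Cfsg.pPrimeCore p K = ⊥ ∧ ∀ k : K, orderOf k ≠ Monoid.exponent K := by
  obtain ⟨v₁, hv₁, hyv₁⟩ := hyV
  have hv₁1 : v₁ ≠ 1 := by
    rintro rfl
    simp at hyv₁
  have hV1 : V ≠ ⊥ := by
    intro h
    rw [h, Subgroup.mem_bot] at hv₁
    exact hv₁1 hv₁
  have hab := abelian_of_minimal V hV hV1 hmin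
  have hy1 : y ≠ 1 := by
    rintro rfl
    simp at hyv₁
  have hoy : orderOf y = q := by
    have hd : orderOf y ∣ q := orderOf_dvd_of_pow_eq_one hyq
    rcases (Nat.dvd_prime hq).mp hd with h | h
    · exact absurd (orderOf_eq_one_iff.mp h) hy1
    · exact h
  -- the centralizer of y in V is trivial
  have hC : ∀ c ∈ V, y * c = c * y → c = 1 := by
    let C : Subgroup K := V ⊓ Subgroup.centralizer {y}
    have hCmem : ∀ c, c ∈ C ↔ c ∈ V ∧ y * c = c * y := by
      intro c
      simp only [C, Subgroup.mem_inf, Subgroup.mem_centralizer_iff, Set.mem_singleton_iff,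
        forall_eq]
    have hCn : C.Normal := by
      refine ⟨fun c hc k => ?_⟩
      obtain ⟨hcV, hcy⟩ := (hCmem c).mp hc
      obtain ⟨v, hv, i, rfl⟩ := exists_mul_pow V y hVy k
      have h1 : y ^ i * c * (y ^ i)⁻¹ = c := by
        have : Commute (y ^ i) c := (show Commute y c from hcy).pow_left i
        rw [this.eq]; group
      have h2 : v * y ^ i * c * (v * y ^ i)⁻¹ = v * (y ^ i * c * (y ^ i)⁻¹) * v⁻¹ := by group
      rw [h2, h1, hab v hv c hcV]
      simpa using hc
    rcases hmin C hCn inf_le_left with h | h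
    · intro c hcV hcy
      have : c ∈ C := (hCmem c).mpr ⟨hcV, hcy⟩
      rw [h, Subgroup.mem_bot] at this
      exact this
    · exfalso
      have : v₁ ∈ C := by rw [h]; exact hv₁
      exact hyv₁ ((hCmem v₁).mp this).2
  constructor
  · -- the p'-core is trivial
    unfold Cfsg.pPrimeCore
    rw [sSup_eq_bot]
    rintro M ⟨hMn, hMc⟩
    have hMV : ∀ g, g ∈ M → g ∈ V → g = 1 := by
      intro g hgM hgV
      exact eq_one_of_mem_pgroup_of_coprime V hV g hgV _ hMc (Subgroup.orderOf_dvd_natCard M hgM)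
    rw [eq_bot_iff]
    intro m hm
    rw [Subgroup.mem_bot]
    have hmV : ∀ v ∈ V, m * v = v * m := by
      intro v hv
      have h1 : m * v * m⁻¹ * v⁻¹ ∈ M := by
        have : m * v * m⁻¹ * v⁻¹ = m * (v * m⁻¹ * v⁻¹) := by group
        rw [this]
        exact M.mul_mem hm (hMn.conj_mem _ (M.inv_mem hm) v)
      have h2 : m * v * m⁻¹ * v⁻¹ ∈ V := V.mul_mem (hVn.conj_mem _ hv m) (V.inv_mem hv)
      have h3 := hMV _ h1 h2
      calc m * v = (m * v * m⁻¹ * v⁻¹) * v * m := by group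
        _ = v * m := by rw [h3, one_mul]
    obtain ⟨v₀, hv₀, i, hmi⟩ := exists_mul_pow V y hVy m
    by_cases hyi : y ^ i = 1
    · rw [hyi, mul_one] at hmi
      exact hMV m hm (hmi ▸ hv₀)
    · exfalso
      have hcomm : ∀ v ∈ V, Commute v (y ^ i) := by
        intro v hv
        have h1 : y ^ i = v₀⁻¹ * m := by rw [hmi]; group
        have h2 : Commute v v₀⁻¹ := (show Commute v v₀ from hab v hv v₀ hv₀).inv_right
        have h3 : Commute v m := (hmV v hv).symm
        rw [h1]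
        exact h2.mul_right h3
      have := commute_of_commute_pow hq y hyq i hyi v₁ (hcomm v₁ hv₁)
      exact hyv₁ this.eq.symm
  · -- no element has order the exponent
    intro k hk
    have hdvd : ∀ g : K, orderOf g ∣ orderOf k := fun g => hk ▸ Monoid.order_dvd_exponent g
    have hqk : q ∣ orderOf k := hoy ▸ hdvd y
    have hpk : p ∣ orderOf k := by
      obtain ⟨a, ha⟩ := orderOf_mem_pgroup V hV v₁ hv₁
      have ha0 : a ≠ 0 := by
        rintro rfl
        rw [pow_zero, orderOf_eq_one_iff] at ha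
        exact hv₁1 ha
      exact (dvd_pow_self p ha0).trans (ha ▸ hdvd v₁)
    obtain ⟨v₀, hv₀, i, hki⟩ := exists_mul_pow V y hVy k
    by_cases hyi : y ^ i = 1
    · rw [hyi, mul_one] at hki
      obtain ⟨a, ha⟩ := orderOf_mem_pgroup V hV k (hki ▸ hv₀)
      rw [ha] at hqk
      exact hqp ((Nat.prime_dvd_prime_iff_eq hq hp.out).mp (hq.dvd_of_dvd_pow hqk))
    · have hkq : k ^ q ∈ V := by
        have h1 : (QuotientGroup.mk' V) (k ^ q) = 1 := by
          have h0 : (QuotientGroup.mk' V) v₀ = 1 := (QuotientGroup.eq_one_iff v₀).mpr hv₀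
          rw [map_pow, hki, map_mul, h0, one_mul, ← map_pow,
            ← pow_mul, mul_comm, pow_mul, hyq, one_pow, map_one]
        exact (QuotientGroup.eq_one_iff _).mp h1
      have h1 : Commute (k ^ q) k := (Commute.refl k).pow_left q
      have h2 : Commute (k ^ q) v₀⁻¹ :=
        (show Commute (k ^ q) v₀ from hab _ hkq v₀ hv₀).inv_right
      have h3 : Commute (k ^ q) (y ^ i) := by
        have : y ^ i = v₀⁻¹ * k := by rw [hki]; group
        rw [this]
        exact h2.mul_right h1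
      have h4 := commute_of_commute_pow hq y hyq i hyi _ h3
      have h5 := hC _ hkq h4.eq.symm
      have h6 : orderOf k ∣ q := orderOf_dvd_of_pow_eq_one h5
      have h7 : p ∣ q := hpk.trans h6
      exact hqp ((Nat.prime_dvd_prime_iff_eq hp.out hq).mp h7).symm

end LemmaA

section LemmaB

variable {G : Type*} [Group G] [Finite G]

theorem lemmaB {p q : ℕ} [hp : Fact p.Prime] (hq : q.Prime) (hqp : q ≠ p)
    (U : Subgroup G) [hUn : U.Normal] (hU : IsPGroup p U) (x : G)
    (hUx : U ⊔ Subgroup.zpowers x = ⊤) (hxo : (orderOf x).Coprime p)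
    (hxq : ∀ u ∈ U, x ^ q * u = u * x ^ q)
    (D : Subgroup G) [hDn : D.Normal] (hDU : D ≤ U)
    (hmax : ∀ E : Subgroup G, E.Normal → D ≤ E → E ≤ U → E = D ∨ E = U)
    (hu : ∃ u ∈ U, u⁻¹ * (x * u * x⁻¹) ∉ D) :
    ∃ N : Subgroup G, ∃ _ : N.Normal, Cfsg.pPrimeCore p (G ⧸ N) = ⊥ ∧
      ∀ k : G ⧸ N, orderOf k ≠ Monoid.exponent (G ⧸ N) := by
  have hcent : x ^ q ∈ Subgroup.center G := by
    rw [Subgroup.mem_center_iff]
    intro g
    obtain ⟨u, hu', i, rfl⟩ := exists_mul_pow U x hUx g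
    have h1 : Commute (x ^ i) (x ^ q) := (Commute.refl x).pow_pow i q
    calc u * x ^ i * x ^ q = u * (x ^ i * x ^ q) := by group
      _ = u * (x ^ q * x ^ i) := by rw [h1.eq]
      _ = (u * x ^ q) * x ^ i := by group
      _ = (x ^ q * u) * x ^ i := by rw [hxq u hu']
      _ = x ^ q * (u * x ^ i) := by group
  have hZn : (Subgroup.zpowers (x ^ q)).Normal := by
    refine ⟨fun n hn g => ?_⟩
    have h1 : n ∈ Subgroup.center G := (Subgroup.zpowers_le.mpr hcent) hn
    rw [Subgroup.mem_center_iff] at h1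
    rw [h1 g]
    simpa using hn
  let N : Subgroup G := D ⊔ Subgroup.zpowers (x ^ q)
  have hNn : N.Normal := Subgroup.sup_normal D (Subgroup.zpowers (x ^ q))
  -- `N ∩ U = D`
  have hNU : ∀ n ∈ N, n ∈ U → n ∈ D := by
    intro n hn hnU
    have hn' : n ∈ ((D ⊔ Subgroup.zpowers (x ^ q) : Subgroup G) : Set G) := hn
    rw [Subgroup.normal_mul] at hn'
    obtain ⟨d, hd, z, hz, rfl⟩ := Set.mem_mul.mp hn'
    have hzx : z ∈ Subgroup.zpowers x :=
      (Subgroup.zpowers_le.mpr (Subgroup.pow_mem _ (Subgroup.mem_zpowers x) q)) hz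
    have hzU : z ∈ U := by
      have : z = d⁻¹ * (d * z) := by group
      rw [this]
      exact U.mul_mem (U.inv_mem (hDU hd)) hnU
    have hz1 : z = 1 :=
      eq_one_of_mem_pgroup_of_coprime U hU z hzU _ hxo (orderOf_dvd_of_mem_zpowers hzx)
    rw [hz1, mul_one]
    exact hd
  refine ⟨N, hNn, ?_⟩
  have hsurj : Function.Surjective (QuotientGroup.mk' N) := QuotientGroup.mk'_surjective N
  have hVn : (U.map (QuotientGroup.mk' N)).Normal := hUn.map _ hsurj
  have hker : ∀ g : G, (QuotientGroup.mk' N) g = 1 ↔ g ∈ N := fun g => QuotientGroup.eq_one_iff g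
  refine lemmaA (K := G ⧸ N) hq hqp (U.map (QuotientGroup.mk' N)) (hU.map _)
    ((QuotientGroup.mk' N) x) ?_ ?_ ?_ ?_
  · rw [← MonoidHom.map_zpowers, ← Subgroup.map_sup, hUx]
    exact Subgroup.map_top_of_surjective _ hsurj
  · rw [← map_pow, hker]
    exact (le_sup_right : Subgroup.zpowers (x ^ q) ≤ N) (Subgroup.mem_zpowers _)
  · obtain ⟨u, huU, huD⟩ := hu
    refine ⟨(QuotientGroup.mk' N) u, Subgroup.mem_map_of_mem _ huU, ?_⟩
    intro h
    apply huD
    apply hNU
    · rw [← hker, map_mul, map_inv, map_mul, map_mul, map_inv, h]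
      group
    · exact U.mul_mem (U.inv_mem huU) (hUn.conj_mem _ huU x)
  · intro W hWn hWV
    have hEn : (W.comap (QuotientGroup.mk' N) ⊓ U).Normal :=
      Subgroup.normal_inf_normal _ _
    have hDE : D ≤ W.comap (QuotientGroup.mk' N) ⊓ U := by
      intro d hd
      refine ⟨?_, hDU hd⟩
      show (QuotientGroup.mk' N) d ∈ W
      rw [(hker d).mpr ((le_sup_left : D ≤ N) hd)]
      exact W.one_mem
    rcases hmax _ hEn hDE inf_le_right with h | h
    · left
      rw [eq_bot_iff]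
      intro w hw
      obtain ⟨u, huU, rfl⟩ := hWV hw
      have : u ∈ W.comap (QuotientGroup.mk' N) ⊓ U := ⟨hw, huU⟩
      rw [h] at this
      rw [Subgroup.mem_bot, hker]
      exact (le_sup_left : D ≤ N) this
    · right
      apply le_antisymm hWV
      rintro v ⟨u, huU, rfl⟩
      have : u ∈ W.comap (QuotientGroup.mk' N) ⊓ U := by rw [h]; exact huU
      exact this.1

end LemmaB

section Main

variable {G : Type*} [Group G] [Finite G]

/-- bad pairs: a `p`-subgroup and a `p'`-element normalizing but not centralizing it -/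
def Bad (p : ℕ) (P : Subgroup G × G) : Prop :=
  IsPGroup p P.1 ∧ P.2 ∈ Subgroup.normalizer (P.1 : Set G) ∧ (orderOf P.2).Coprime p ∧
    P.2 ∉ Subgroup.centralizer (P.1 : Set G)

theorem exists_orderOf_eq_exponent {K : Type*} [Group K] [Finite K] {p : ℕ} [hp : Fact p.Prime]
    (hK : IsPGroup p K) : ∃ k : K, orderOf k = Monoid.exponent K := by
  obtain ⟨k, hk⟩ := Finite.exists_max (fun g : K => orderOf g)
  refine ⟨k, Nat.dvd_antisymm (Monoid.order_dvd_exponent k) ?_⟩
  apply Monoid.exponent_dvd_of_forall_pow_eq_one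
  intro g
  obtain ⟨a, ha⟩ := IsPGroup.iff_orderOf.mp hK g
  obtain ⟨b, hb⟩ := IsPGroup.iff_orderOf.mp hK k
  have hab : a ≤ b := by
    have := hk g
    rw [ha, hb] at this
    exact (Nat.pow_le_pow_iff_right hp.out.one_lt).mp this
  rw [hb]
  apply orderOf_dvd_iff_pow_eq_one.mp
  rw [ha]
  exact pow_dvd_pow p hab

theorem frobCond_of_sections (p : ℕ) [hp : Fact p.Prime]
    (h : ∀ (H : Subgroup G) (N : Subgroup H) [N.Normal], Cfsg.pPrimeCore p (H ⧸ N) = ⊥ →
        ∃ k : H ⧸ N, orderOf k = Monoid.exponent (H ⧸ N)) : FrobCond p G := by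
  by_contra hF
  have hne : {P : Subgroup G × G | Bad p P}.Nonempty := by
    unfold FrobCond at hF
    push Not at hF
    obtain ⟨Q, hQ, g, hg, hc, hgc⟩ := hF
    exact ⟨(Q, g), hQ, hg, hc, hgc⟩
  obtain ⟨⟨U, g₀⟩, hUg₀, hUmin⟩ := Set.exists_min_image _
    (fun P : Subgroup G × G => Nat.card P.1) (Set.toFinite _) hne
  have hne2 : {g : G | Bad p (U, g)}.Nonempty := ⟨g₀, hUg₀⟩
  obtain ⟨x, hx, hxmin⟩ := Set.exists_min_image _ (fun g : G => orderOf g) (Set.toFinite _) hne2
  obtain ⟨hU, hxN, hxo, hxC⟩ := hx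
  simp only at hU hxN hxo hxC
  have hx1 : x ≠ 1 := by
    rintro rfl
    exact hxC (Subgroup.one_mem _)
  have hox1 : orderOf x ≠ 1 := fun h => hx1 (orderOf_eq_one_iff.mp h)
  have hq : (orderOf x).minFac.Prime := Nat.minFac_prime hox1
  have hqd : (orderOf x).minFac ∣ orderOf x := Nat.minFac_dvd _
  generalize (orderOf x).minFac = q at hq hqd
  have hpx : ¬ p ∣ orderOf x := (Nat.Prime.coprime_iff_not_dvd hp.out).mp hxo.symm
  have hqp : q ≠ p := by
    rintro rfl
    exact hpx hqd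
  -- `x ^ q` centralizes `U`
  have hxq : x ^ q ∈ Subgroup.centralizer (U : Set G) := by
    by_contra hcon
    have hbad : Bad p (U, x ^ q) :=
      ⟨hU, Subgroup.pow_mem _ hxN q, Nat.Coprime.coprime_dvd_left (orderOf_pow_dvd q) hxo, hcon⟩
    have h1 : orderOf x ≤ orderOf (x ^ q) := hxmin _ hbad
    rw [orderOf_pow_of_dvd hq.ne_zero hqd] at h1
    exact absurd h1 (not_le.mpr (Nat.div_lt_self (orderOf_pos x) hq.one_lt))
  -- a maximal proper invariant subgroup
  have hUbot : U ≠ ⊥ := by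
    rintro rfl
    apply hxC
    rw [Subgroup.coe_bot, Subgroup.centralizer_eq_top_iff_subset.mpr (by simp)]
    trivial
  let 𝒟 : Subgroup G → Prop := fun E => E ≤ U ∧ E ≠ U ∧
    U ≤ Subgroup.normalizer (E : Set G) ∧ x ∈ Subgroup.normalizer (E : Set G)
  have hnb : Subgroup.normalizer ((⊥ : Subgroup G) : Set G) = ⊤ :=
    Subgroup.normalizer_eq_top_iff.mpr inferInstance
  have hbot : 𝒟 ⊥ := ⟨bot_le, fun h => hUbot h.symm, by rw [hnb]; exact le_top, by
    rw [hnb]; trivial⟩
  obtain ⟨D, -, hDmax⟩ := Finite.exists_le_maximal hbot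
  obtain ⟨⟨hDU, hDne, hUD, hxDN⟩, hDmax'⟩ := hDmax
  have hDp : IsPGroup p D := hU.to_le hDU
  have hxD : x ∈ Subgroup.centralizer (D : Set G) := by
    by_contra hcon
    have hbad : Bad p (D, x) := ⟨hDp, hxDN, hxo, hcon⟩
    have h1 : Nat.card U ≤ Nat.card D := hUmin _ hbad
    exact hDne (Subgroup.eq_of_le_of_card_ge hDU h1)
  have hu : ∃ u ∈ U, u⁻¹ * (x * u * x⁻¹) ∉ D := by
    by_contra hcon
    push Not at hcon
    apply hxC
    rw [Subgroup.mem_centralizer_iff]
    intro u hu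
    have hz := hcon u hu
    have hza : x * (u⁻¹ * (x * u * x⁻¹)) * x⁻¹ = u⁻¹ * (x * u * x⁻¹) := by
      have := (Subgroup.mem_centralizer_iff.mp hxD) _ hz
      rw [← this]; group
    obtain ⟨a, ha⟩ := orderOf_mem_pgroup D hDp _ hz
    have hcop : (orderOf x).Coprime (orderOf (u⁻¹ * (x * u * x⁻¹))) := by
      rw [ha]; exact Nat.Coprime.pow_right a hxo
    have := Cfsg.Agent.Helper7.conj_eq_self_of_coprime x u (isOfFinOrder_of_finite x) hza hcop
    calc u * x = (x * u * x⁻¹) * x := by rw [this]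
      _ = x * u := by group
  -- pass to `H = U ⊔ ⟨x⟩`
  let H : Subgroup G := U ⊔ Subgroup.zpowers x
  have hUH : U ≤ H := le_sup_left
  have hxH : x ∈ H := (le_sup_right : Subgroup.zpowers x ≤ H) (Subgroup.mem_zpowers x)
  have hHU : H ≤ Subgroup.normalizer (U : Set G) :=
    sup_le Subgroup.le_normalizer (Subgroup.zpowers_le.mpr hxN)
  have hHD : H ≤ Subgroup.normalizer (D : Set G) :=
    sup_le hUD (Subgroup.zpowers_le.mpr hxDN)
  have hUn : (U.subgroupOf H).Normal := (Subgroup.normal_subgroupOf_iff_le_normalizer hUH).mpr hHU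
  have hDn : (D.subgroupOf H).Normal :=
    (Subgroup.normal_subgroupOf_iff_le_normalizer (hDU.trans hUH)).mpr hHD
  have hUx' : U.subgroupOf H ⊔ Subgroup.zpowers (⟨x, hxH⟩ : H) = ⊤ := by
    apply Subgroup.map_injective H.subtype_injective
    rw [Subgroup.map_sup, Subgroup.map_subgroupOf_eq_of_le hUH, MonoidHom.map_zpowers,
      ← MonoidHom.range_eq_map, Subgroup.range_subtype]
    rfl
  have hxo' : (orderOf (⟨x, hxH⟩ : H)).Coprime p := by
    rw [Subgroup.orderOf_mk]; exact hxo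
  have hxq' : ∀ u ∈ U.subgroupOf H, (⟨x, hxH⟩ : H) ^ q * u = u * (⟨x, hxH⟩ : H) ^ q := by
    intro u hu'
    apply Subtype.ext
    have := (Subgroup.mem_centralizer_iff.mp hxq) (u : G) (Subgroup.mem_subgroupOf.mp hu')
    simpa using this.symm
  have hmax' : ∀ E : Subgroup H, E.Normal → D.subgroupOf H ≤ E → E ≤ U.subgroupOf H →
      E = D.subgroupOf H ∨ E = U.subgroupOf H := by
    intro E hEn hDE hEU
    have hE₀U : E.map H.subtype ≤ U := by
      rintro _ ⟨e, he, rfl⟩
      exact Subgroup.mem_subgroupOf.mp (hEU he)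
    have hDE₀ : D ≤ E.map H.subtype := by
      intro d hd
      exact ⟨⟨d, hUH (hDU hd)⟩, hDE (Subgroup.mem_subgroupOf.mpr hd), rfl⟩
    have hHE₀ : H ≤ Subgroup.normalizer ((E.map H.subtype : Subgroup G) : Set G) := by
      have h1 := Subgroup.le_normalizer_map (H := E) H.subtype
      rw [Subgroup.normalizer_eq_top_iff.mpr hEn, ← MonoidHom.range_eq_map,
        Subgroup.range_subtype] at h1
      exact h1
    by_cases hE₀ : E.map H.subtype = U
    · right
      ext e
      constructor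
      · intro he; exact hEU he
      · intro he
        have : (e : G) ∈ E.map H.subtype := by rw [hE₀]; exact Subgroup.mem_subgroupOf.mp he
        obtain ⟨e', he', hee'⟩ := this
        have : e' = e := Subtype.ext hee'
        rw [← this]; exact he'
    · left
      have h𝒟 : 𝒟 (E.map H.subtype) := ⟨hE₀U, hE₀, hUH.trans hHE₀, hHE₀ hxH⟩
      have h1 : E.map H.subtype ≤ D := hDmax' h𝒟 hDE₀
      apply le_antisymm _ hDE
      intro e he
      exact Subgroup.mem_subgroupOf.mpr (h1 ⟨e, he, rfl⟩)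
  have hu' : ∃ u ∈ U.subgroupOf H, u⁻¹ * ((⟨x, hxH⟩ : H) * u * (⟨x, hxH⟩ : H)⁻¹) ∉
      D.subgroupOf H := by
    obtain ⟨u, huU, huD⟩ := hu
    exact ⟨⟨u, hUH huU⟩, Subgroup.mem_subgroupOf.mpr huU, fun hcon => huD
      (Subgroup.mem_subgroupOf.mp hcon)⟩
  obtain ⟨N, hN, h1, h2⟩ := lemmaB (G := H) hq hqp (U.subgroupOf H) hU.comap_subtype ⟨x, hxH⟩
    hUx' hxo' hxq' (D.subgroupOf H)
    (fun d hd => Subgroup.mem_subgroupOf.mpr (hDU (Subgroup.mem_subgroupOf.mp hd))) hmax' hu'
  obtain ⟨k, hk⟩ := @h H N hN h1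
  exact h2 k hk

end Main

/-- Let G be a finite group and p a prime. Then G has a normal p-complement if and only if every section K = H/N of G (N a normal subgroup of a subgroup H) whose largest normal subgroup of order prime to p is trivial contains an element whose order equals the exponent of K. -/
theorem result {G : Type*} [Group G] [Finite G] (p : ℕ) [Fact p.Prime] :
    Cfsg.HasNormalPComplement p G ↔
      ∀ (H : Subgroup G) (N : Subgroup H) [N.Normal], Cfsg.pPrimeCore p (H ⧸ N) = ⊥ →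
        ∃ k : H ⧸ N, orderOf k = Monoid.exponent (H ⧸ N) := by
  constructor
  · intro hnpc H N _ hcore
    obtain ⟨M, hMn, hMc, k, hk⟩ := (npc_of_hasNormalPComplement hnpc).subgroup H
    have hsurj : Function.Surjective (QuotientGroup.mk' N) := QuotientGroup.mk'_surjective N
    have hM' : M.map (QuotientGroup.mk' N) ≤ Cfsg.pPrimeCore p (H ⧸ N) :=
      le_sSup ⟨hMn.map _ hsurj, Nat.Coprime.coprime_dvd_left (Subgroup.card_map_dvd _ _) hMc⟩
    rw [hcore, le_bot_iff, Subgroup.map_eq_bot_iff, QuotientGroup.ker_mk'] at hM'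
    have h1 : N.index ∣ p ^ k := hk ▸ Subgroup.index_dvd_of_le hM'
    obtain ⟨j, -, hj⟩ := (Nat.dvd_prime_pow (Fact.out : p.Prime)).mp h1
    have hK : IsPGroup p (H ⧸ N) := IsPGroup.of_card (n := j) (by rw [← hj, Subgroup.index_eq_card])
    exact exists_orderOf_eq_exponent hK
  · intro h
    exact (npc_of_frobCond _ G rfl (frobCond_of_sections p h)).hasNormalPComplement

end Cfsg.Agent.S4238
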