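import Mathlib
import Cfsg.Statements.S4242
import Cfsg.Agent.Lib.Helper10.Frobenius3
import Cfsg.Agent.Lib.Helper7.Coprime
import Cfsg.Agent.Lib.Helper21.PiSubgroup
import Cfsg.Agent.Lib.Helper1.CoprimeSylow

set_option autoImplicit false
open Cfsg

namespace Cfsg.Agent.S4242

variable {G : Type*} [Group G]

/-- an element of a subgroup whose order is coprime to the order of the subgroup -/
theorem eq_one_of_mem_of_coprime [Finite G] {K : Subgroup G} {y : G} (hy : y ∈ K) {m : ℕ}
    (hm : orderOf y ∣ m) (hcop : Nat.Coprime m (Nat.card K)) : y = 1 := by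
  have h1 : orderOf y ∣ Nat.card K := by
    have := orderOf_dvd_natCard (⟨y, hy⟩ : K)
    rwa [Subgroup.orderOf_mk] at this
  have h2 : orderOf y ∣ 1 := by
    rw [← hcop.gcd_eq_one]
    exact Nat.dvd_gcd hm h1
  exact orderOf_eq_one_iff.mp (Nat.dvd_one.mp h2)

/-- a nilpotent subgroup isomorphic image -/
theorem isNilpotent_of_map_subtype {K : Subgroup G} (L : Subgroup K)
    (h : Group.IsNilpotent ↥(L.map K.subtype)) : Group.IsNilpotent ↥L := by
  have := h
  exact Group.nilpotent_of_mulEquiv (Subgroup.equivMapOfInjective L K.subtype K.subtype_injective).symm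

/-- the internal direct product of a central-type normal subgroup and a nilpotent subgroup -/
theorem isNilpotent_sup_of_commute (Z L : Subgroup G) (hZ : Group.IsNilpotent Z)
    (hL : Group.IsNilpotent L) (hcomm : ∀ z ∈ Z, ∀ l ∈ L, Commute z l) :
    Group.IsNilpotent ↥(Z ⊔ L) := by
  have := hZ
  have := hL
  have hc : ∀ (m : Z) (n : L), Commute (Z.subtype m) (L.subtype n) :=
    fun z l => hcomm z.1 z.2 l.1 l.2
  have hr : (MonoidHom.noncommCoprod Z.subtype L.subtype hc).range = Z ⊔ L := by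
    rw [MonoidHom.noncommCoprod_range, Subgroup.range_subtype, Subgroup.range_subtype]
  rw [← hr]
  exact Group.nilpotent_of_surjective (MonoidHom.rangeRestrict _)
    (MonoidHom.rangeRestrict_surjective _)


theorem assemble [Finite G] (p : ℕ) [hp : Fact p.Prime]
    (F0 : ∀ H : Subgroup G, H ≠ ⊤ → p ∣ Nat.card H → Group.IsNilpotent H)
    (K : Subgroup G) (hK : IsCoatom K) (hKnil : ¬ Group.IsNilpotent K) (hpK : ¬ p ∣ Nat.card K)
    (x : G) (hx : orderOf x = p) (hcomm : ∀ k ∈ K, Commute k x) :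
    ∃ Z K : Subgroup G, Z.Normal ∧ K.Normal ∧ Z ⊓ K = ⊥ ∧ Z ⊔ K = ⊤ ∧ Nat.card Z = p ∧
          Cfsg.IsMinimalNonNilpotent K ∧ ¬ p ∣ Nat.card K := by
  have hcop : Nat.Coprime p (Nat.card K) := (Nat.Prime.coprime_iff_not_dvd hp.out).mpr hpK
  have hZcard : Nat.card (Subgroup.zpowers x) = p := by rw [Nat.card_zpowers, hx]
  have hxK : x ∉ K := by
    intro hxK
    have := eq_one_of_mem_of_coprime hxK (dvd_of_eq hx) hcop
    rw [this, orderOf_one] at hx
    exact hp.out.one_lt.ne hx
  have hinf : Subgroup.zpowers x ⊓ K = ⊥ := by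
    rw [eq_bot_iff]
    intro y hy
    rw [Subgroup.mem_inf] at hy
    rw [Subgroup.mem_bot]
    apply eq_one_of_mem_of_coprime hy.2 _ hcop
    rw [← hZcard]
    have := orderOf_dvd_natCard (⟨y, hy.1⟩ : Subgroup.zpowers x)
    rwa [Subgroup.orderOf_mk] at this
  have hsup : Subgroup.zpowers x ⊔ K = ⊤ := by
    apply hK.2
    apply lt_of_le_of_ne le_sup_right
    intro h
    apply hxK
    rw [h]
    exact Subgroup.mem_sup_left (Subgroup.mem_zpowers x)
  have hKcent : K ≤ Subgroup.centralizer (Subgroup.zpowers x : Set G) := by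
    intro k hk
    rw [Subgroup.mem_centralizer_iff]
    intro y hy
    rw [SetLike.mem_coe, Subgroup.mem_zpowers_iff] at hy
    obtain ⟨i, rfl⟩ := hy
    exact ((hcomm k hk).zpow_right i).eq.symm
  have hZcent : Subgroup.zpowers x ≤ Subgroup.centralizer (K : Set G) := by
    rw [Subgroup.le_centralizer_iff]
    exact hKcent
  have hZn : (Subgroup.zpowers x).Normal := by
    rw [← Subgroup.normalizer_eq_top_iff, eq_top_iff, ← hsup]
    exact sup_le Subgroup.le_normalizer
      (hKcent.trans (Subgroup.centralizer_le_normalizer _))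
  have hKn : K.Normal := by
    rw [← Subgroup.normalizer_eq_top_iff, eq_top_iff, ← hsup]
    exact sup_le (hZcent.trans (Subgroup.centralizer_le_normalizer _)) Subgroup.le_normalizer
  refine ⟨Subgroup.zpowers x, K, hZn, hKn, hinf, hsup, hZcard, ⟨hKnil, ?_⟩, hpK⟩
  intro L hL
  apply isNilpotent_of_map_subtype
  have hne : L.map K.subtype ⊔ Subgroup.zpowers x ≠ ⊤ := by
    intro htop
    apply hL
    rw [eq_top_iff]
    intro k _
    have hk : (k : G) ∈ L.map K.subtype ⊔ Subgroup.zpowers x := by rw [htop]; trivial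
    rw [Subgroup.mem_sup_of_normal_right] at hk
    obtain ⟨l, hl, z, hz, hlz⟩ := hk
    have hlK : l ∈ K := by
      obtain ⟨l', _, rfl⟩ := hl
      exact l'.2
    have hzK : z ∈ K := by
      have : z = l⁻¹ * k := by rw [← hlz]; group
      rw [this]
      exact K.mul_mem (K.inv_mem hlK) k.2
    have hz1 : z = 1 := by
      have : z ∈ Subgroup.zpowers x ⊓ K := ⟨hz, hzK⟩
      rw [hinf, Subgroup.mem_bot] at this
      exact this
    rw [hz1, mul_one] at hlz
    obtain ⟨l', hl', hl'k⟩ := hl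
    have : l' = k := Subtype.ext (by rw [← hlz]; exact hl'k)
    rw [← this]
    exact hl'
  have hdvd : p ∣ Nat.card ↥(L.map K.subtype ⊔ Subgroup.zpowers x) := by
    rw [← hZcard]
    exact Subgroup.card_dvd_of_le le_sup_right
  exact Cfsg.Agent.Helper7.isNilpotent_of_le le_sup_left (F0 _ hne hdvd)


/-- if `H` normalizes `W`, the elements of `W ⊔ H` are products `w * h` -/
theorem exists_mul_of_mem_sup_norm {H W : Subgroup G}
    (hn : ∀ h ∈ H, ∀ w ∈ W, h * w * h⁻¹ ∈ W) {x : G} (hx : x ∈ W ⊔ H) :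
    ∃ w ∈ W, ∃ h ∈ H, x = w * h := by
  rw [Subgroup.sup_eq_closure] at hx
  refine Subgroup.closure_induction ?_ ?_ ?_ ?_ hx
  · rintro x (hx | hx)
    · exact ⟨x, hx, 1, H.one_mem, by simp⟩
    · exact ⟨1, W.one_mem, x, hx, by simp⟩
  · exact ⟨1, W.one_mem, 1, H.one_mem, by simp⟩
  · rintro _ _ _ _ ⟨w₁, hw₁, h₁, hh₁, rfl⟩ ⟨w₂, hw₂, h₂, hh₂, rfl⟩
    exact ⟨w₁ * (h₁ * w₂ * h₁⁻¹), W.mul_mem hw₁ (hn h₁ hh₁ w₂ hw₂), h₁ * h₂, H.mul_mem hh₁ hh₂,
      by group⟩
  · rintro _ _ ⟨w, hw, h, hh, rfl⟩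
    refine ⟨h⁻¹ * w⁻¹ * h⁻¹⁻¹, hn h⁻¹ (H.inv_mem hh) w⁻¹ (W.inv_mem hw), h⁻¹, H.inv_mem hh, by group⟩

/-- order of an element of a `p`-subgroup is coprime to anything coprime to `p` -/
theorem coprime_orderOf_of_mem_pgroup {p : ℕ} {Q : Subgroup G}
    (hQ : IsPGroup p Q) {y : G} (hy : y ∈ Q) {m : ℕ} (hm : Nat.Coprime m p) :
    Nat.Coprime m (orderOf y) := by
  obtain ⟨j, hj⟩ := hQ ⟨y, hy⟩
  have h1 : y ^ (p ^ j) = 1 := by
    have := congrArg Subtype.val hj
    rwa [Subgroup.coe_pow, Subgroup.coe_one] at this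
  exact Nat.Coprime.coprime_dvd_right (orderOf_dvd_of_pow_eq_one h1) (Nat.Coprime.pow_right j hm)

theorem isNilpotent_zpowers (k : G) : Group.IsNilpotent ↥(Subgroup.zpowers k) := by
  letI : CommGroup ↥(Subgroup.zpowers k) := IsCyclic.commGroup
  infer_instance

theorem exists_elt_of_not_frobCond [Finite G] (p : ℕ) [hp : Fact p.Prime]
    (F0 : ∀ H : Subgroup G, H ≠ ⊤ → p ∣ Nat.card H → Group.IsNilpotent H)
    (K : Subgroup G) (hKnil : ¬ Group.IsNilpotent K) (hpK : ¬ p ∣ Nat.card K)
    (hF : ¬ Cfsg.Agent.Helper10.FrobCond p G) :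
    ∃ x : G, orderOf x = p ∧ ∀ k ∈ K, Commute k x := by
  have hcop : Nat.Coprime p (Nat.card K) := (Nat.Prime.coprime_iff_not_dvd hp.out).mpr hpK
  unfold Cfsg.Agent.Helper10.FrobCond at hF
  push Not at hF
  obtain ⟨Q, hQ, g, hgN, hgcop, hgC⟩ := hF
  have hQbot : Q ≠ ⊥ := by
    rintro rfl
    apply hgC
    rw [Subgroup.mem_centralizer_iff]
    intro h hh
    rw [SetLike.mem_coe, Subgroup.mem_bot] at hh
    rw [hh, one_mul, mul_one]
  have hpQ : p ∣ Nat.card Q := by
    rcases hQ.card_eq_or_dvd with h | h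
    · exact absurd (Subgroup.card_eq_one.mp h) hQbot
    · exact h
  have hNtop : Subgroup.normalizer (Q : Set G) = ⊤ := by
    by_contra hne
    have hnil := F0 _ hne (hpQ.trans (Subgroup.card_dvd_of_le Subgroup.le_normalizer))
    apply hgC
    rw [Subgroup.mem_centralizer_iff]
    intro y hy
    exact (Cfsg.Agent.Helper21.commute_of_mem_of_nilpotent hnil hgN (Subgroup.le_normalizer hy)
      (coprime_orderOf_of_mem_pgroup hQ hy hgcop)).symm
  have hQn : Q.Normal := Subgroup.normalizer_eq_top_iff.mp hNtop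
  -- every element of `K` centralizes `Q`
  have hKQ : ∀ k ∈ K, ∀ y ∈ Q, Commute k y := by
    intro k hk y hy
    have hne : Subgroup.zpowers k ⊔ Q ≠ ⊤ := by
      intro htop
      apply hKnil
      have hle : K ≤ Subgroup.zpowers k := by
        intro k' hk'
        have h1 : k' ∈ Subgroup.zpowers k ⊔ Q := by rw [htop]; trivial
        rw [Subgroup.mem_sup_of_normal_right] at h1
        obtain ⟨c, hc, q, hq, hcq⟩ := h1
        have hcK : c ∈ K := (Subgroup.zpowers_le.mpr hk) hc
        have hqK : q ∈ K := by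
          have : q = c⁻¹ * k' := by rw [← hcq]; group
          rw [this]
          exact K.mul_mem (K.inv_mem hcK) hk'
        have hq1 : q = 1 := by
          have h2 := coprime_orderOf_of_mem_pgroup hQ hq (hcop.symm)
          exact eq_one_of_mem_of_coprime hqK (dvd_refl _) h2.symm
        rw [hq1, mul_one] at hcq
        rw [← hcq]
        exact hc
      exact Cfsg.Agent.Helper7.isNilpotent_of_le hle (isNilpotent_zpowers k)
    have hnil := F0 _ hne (hpQ.trans (Subgroup.card_dvd_of_le le_sup_right))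
    have hko : (orderOf k).Coprime p := by
      have h1 : orderOf k ∣ Nat.card K := by
        have := orderOf_dvd_natCard (⟨k, hk⟩ : K)
        rwa [Subgroup.orderOf_mk] at this
      exact Nat.Coprime.coprime_dvd_left h1 hcop.symm
    exact Cfsg.Agent.Helper21.commute_of_mem_of_nilpotent hnil
      (Subgroup.mem_sup_left (Subgroup.mem_zpowers k)) (Subgroup.mem_sup_right hy)
      (coprime_orderOf_of_mem_pgroup hQ hy hko)
  obtain ⟨x, hx⟩ := exists_prime_orderOf_dvd_card' (G := Q) p hpQ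
  refine ⟨x.1, ?_, fun k hk => hKQ k hk x.1 x.2⟩
  rw [Subgroup.orderOf_coe]
  exact hx


universe u

theorem exists_elt_of_frobCond {G : Type u} [Group G] [Finite G] (p : ℕ) [hp : Fact p.Prime]
    (hpG : p ∣ Nat.card G)
    (F0 : ∀ H : Subgroup G, H ≠ ⊤ → p ∣ Nat.card H → Group.IsNilpotent H)
    (K : Subgroup G) (hK : IsCoatom K) (hKnil : ¬ Group.IsNilpotent K) (hpK : ¬ p ∣ Nat.card K)
    (hF : Cfsg.Agent.Helper10.FrobCond p G) :
    ∃ x : G, orderOf x = p ∧ ∀ k ∈ K, Commute k x := by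
  have hcop : Nat.Coprime p (Nat.card K) := (Nat.Prime.coprime_iff_not_dvd hp.out).mpr hpK
  obtain ⟨N, hNn, hNcop, e, he⟩ := Cfsg.Agent.Helper10.npc_of_frobCond (Nat.card G) G rfl hF
  have hKN : K ≤ N := Cfsg.Agent.Helper10.le_of_coprime_of_index_pow ⟨e, he⟩ hcop.symm
  have hNtop : N ≠ ⊤ := by
    rintro rfl
    rw [Subgroup.card_top] at hNcop
    exact (Nat.Prime.coprime_iff_not_dvd hp.out).mp hNcop.symm hpG
  have hKeq : K = N := by
    rcases eq_or_lt_of_le hKN with h | h
    · exact h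
    · exact absurd (hK.2 N h) hNtop
  subst hKeq
  obtain ⟨x, hx⟩ := exists_prime_orderOf_dvd_card' (G := G) p hpG
  have hZcard : Nat.card (Subgroup.zpowers x) = p := by rw [Nat.card_zpowers, hx]
  have hAK : Subgroup.zpowers x ≤ Subgroup.normalizer (K : Set G) := by
    rw [Subgroup.normalizer_eq_top_iff.mpr hNn]
    exact le_top
  have hcopA : (Nat.card (Subgroup.zpowers x)).Coprime (Nat.card K) := by
    rw [hZcard]; exact hcop
  have hinf : ∀ z ∈ Subgroup.zpowers x, z ∈ K → z = 1 := by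
    intro z hz hzK
    apply eq_one_of_mem_of_coprime hzK _ hcop
    rw [← hZcard]
    have := orderOf_dvd_natCard (⟨z, hz⟩ : Subgroup.zpowers x)
    rwa [Subgroup.orderOf_mk] at this
  have hsolv : Group.IsSolvable (Subgroup.zpowers x) := by
    letI : CommGroup ↥(Subgroup.zpowers x) := IsCyclic.commGroup
    infer_instance
  -- each invariant Sylow subgroup is centralized by `x`
  have hsyl : ∀ (q : ℕ) [Fact q.Prime] (P : Sylow q K),
      Subgroup.zpowers x ≤ Subgroup.normalizer
        (((P : Subgroup K).map K.subtype : Subgroup G) : Set G) →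
      ∀ y ∈ (P : Subgroup K).map K.subtype, Commute y x := by
    intro q _ P hP y hy
    have hQK : (P : Subgroup K).map K.subtype ≤ K := by
      rintro _ ⟨k, _, rfl⟩
      exact k.2
    have hne : (P : Subgroup K).map K.subtype ⊔ Subgroup.zpowers x ≠ ⊤ := by
      intro htop
      apply hKnil
      have hall : ∀ k : K, k ∈ (P : Subgroup K) := by
        intro k
        have h1 : (k : G) ∈ (P : Subgroup K).map K.subtype ⊔ Subgroup.zpowers x := by
          rw [htop]; trivial
        obtain ⟨w, hw, h, hh, hwh⟩ := exists_mul_of_mem_sup_norm (fun h hh w hw => by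
          have := (Subgroup.mem_normalizer_iff.mp (hP hh)) w
          exact this.mp hw) h1
        have hhK : h ∈ K := by
          have : h = w⁻¹ * k := by rw [hwh]; group
          rw [this]
          exact K.mul_mem (K.inv_mem (hQK hw)) k.2
        have hh1 := hinf h hh hhK
        rw [hh1, mul_one] at hwh
        obtain ⟨k', hk', hk'w⟩ := hw
        have : k' = k := Subtype.ext (by rw [hwh]; exact hk'w)
        rw [← this]
        exact hk'
      have hPK : IsPGroup q K := by
        intro k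
        obtain ⟨j, hj⟩ := P.isPGroup' ⟨k, hall k⟩
        refine ⟨j, ?_⟩
        have := congrArg Subtype.val hj
        rwa [Subgroup.coe_pow, Subgroup.coe_one] at this
      exact hPK.isNilpotent
    have hdvd : p ∣ Nat.card ↥((P : Subgroup K).map K.subtype ⊔ Subgroup.zpowers x) := by
      rw [← hZcard]
      exact Subgroup.card_dvd_of_le le_sup_right
    have hnil := F0 _ hne hdvd
    have hyo : (orderOf y).Coprime (orderOf x) := by
      rw [hx]
      have h1 : orderOf y ∣ Nat.card K := by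
        have := orderOf_dvd_natCard (⟨y, hQK hy⟩ : K)
        rwa [Subgroup.orderOf_mk] at this
      exact Nat.Coprime.coprime_dvd_left h1 hcop.symm
    exact Cfsg.Agent.Helper21.commute_of_mem_of_nilpotent hnil (Subgroup.mem_sup_left hy)
      (Subgroup.mem_sup_right (Subgroup.mem_zpowers x)) hyo
  -- the centralizer of `x` in `K` is everything
  have hCtop : (Subgroup.centralizer ({x} : Set G)).subgroupOf K = ⊤ := by
    apply Subgroup.eq_top_of_le_card
    apply Nat.le_of_dvd Nat.card_pos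
    rw [Nat.dvd_iff_prime_pow_dvd_dvd]
    intro q j hq hqj
    haveI : Fact q.Prime := ⟨hq⟩
    obtain ⟨P, hP⟩ := Cfsg.Agent.Helper1.exists_invariant_sylow (p := q) (K := K)
      (Subgroup.zpowers x) hAK hcopA (Or.inl hsolv)
    have hPC : (P : Subgroup K) ≤ (Subgroup.centralizer ({x} : Set G)).subgroupOf K := by
      intro k hk
      rw [Subgroup.mem_subgroupOf, Subgroup.mem_centralizer_iff]
      intro z hz
      rw [Set.mem_singleton_iff] at hz
      subst hz
      exact ((hsyl q P hP k.1 ⟨k, hk, rfl⟩).eq).symm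
    exact (P.pow_dvd_card_of_pow_dvd_card hqj).trans (Subgroup.card_dvd_of_le hPC)
  refine ⟨x, hx, ?_⟩
  intro k hk
  have h1 : (⟨k, hk⟩ : K) ∈ (Subgroup.centralizer ({x} : Set G)).subgroupOf K := by
    rw [hCtop]; trivial
  rw [Subgroup.mem_subgroupOf, Subgroup.mem_centralizer_iff] at h1
  exact (h1 x rfl).symm


theorem forward {G : Type u} [Group G] [Finite G] (p : ℕ) [hp : Fact p.Prime]
    (hpG : p ∣ Nat.card G)
    (h : ∀ M : Subgroup G, IsCoatom M → p ∣ Nat.card M → Group.IsNilpotent M) :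
    (Group.IsNilpotent G ∨ Cfsg.IsMinimalNonNilpotent G ∨
        ∃ Z K : Subgroup G, Z.Normal ∧ K.Normal ∧ Z ⊓ K = ⊥ ∧ Z ⊔ K = ⊤ ∧ Nat.card Z = p ∧
          Cfsg.IsMinimalNonNilpotent K ∧ ¬ p ∣ Nat.card K) := by
  by_cases hnil : Group.IsNilpotent G
  · exact Or.inl hnil
  right
  by_cases hmin : ∀ M : Subgroup G, IsCoatom M → Group.IsNilpotent M
  · left
    refine ⟨hnil, ?_⟩
    intro H hH
    obtain ⟨M, hM, hHM⟩ := (eq_top_or_exists_le_coatom H).resolve_left hH
    exact Cfsg.Agent.Helper7.isNilpotent_of_le hHM (hmin M hM)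
  right
  push Not at hmin
  obtain ⟨K, hK, hKnil⟩ := hmin
  have hpK : ¬ p ∣ Nat.card K := fun hd => hKnil (h K hK hd)
  have F0 : ∀ H : Subgroup G, H ≠ ⊤ → p ∣ Nat.card H → Group.IsNilpotent H := by
    intro H hH hd
    obtain ⟨M, hM, hHM⟩ := (eq_top_or_exists_le_coatom H).resolve_left hH
    exact Cfsg.Agent.Helper7.isNilpotent_of_le hHM
      (h M hM (hd.trans (Subgroup.card_dvd_of_le hHM)))
  have hx : ∃ x : G, orderOf x = p ∧ ∀ k ∈ K, Commute k x := by
    by_cases hF : Cfsg.Agent.Helper10.FrobCond p G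
    · exact exists_elt_of_frobCond p hpG F0 K hK hKnil hpK hF
    · exact exists_elt_of_not_frobCond p F0 K hKnil hpK hF
  obtain ⟨x, hxo, hxc⟩ := hx
  exact assemble p F0 K hK hKnil hpK x hxo hxc

theorem backward {G : Type u} [Group G] [Finite G] (p : ℕ) [hp : Fact p.Prime] :
    (Group.IsNilpotent G ∨ Cfsg.IsMinimalNonNilpotent G ∨
        ∃ Z K : Subgroup G, Z.Normal ∧ K.Normal ∧ Z ⊓ K = ⊥ ∧ Z ⊔ K = ⊤ ∧ Nat.card Z = p ∧
          Cfsg.IsMinimalNonNilpotent K ∧ ¬ p ∣ Nat.card K) →
    ∀ M : Subgroup G, IsCoatom M → p ∣ Nat.card M → Group.IsNilpotent M := by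
  rintro (hnil | hmin | ⟨Z, K, hZn, hKn, hinf, hsup, hZp, hKmin, hpK⟩) M hM hpM
  · have := hnil
    infer_instance
  · exact hmin.2 M hM.1
  · have hcop : Nat.Coprime p (Nat.card K) := (Nat.Prime.coprime_iff_not_dvd hp.out).mpr hpK
    have hcomm : ∀ z ∈ Z, ∀ k ∈ K, Commute z k := fun z hz k hk =>
      Subgroup.commute_of_normal_of_disjoint Z K hZn hKn (disjoint_iff.mpr hinf) z k hz hk
    -- an element of order `p` in `M` lies in `Z`
    obtain ⟨x, hx⟩ := exists_prime_orderOf_dvd_card' (G := M) p hpM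
    have hxo : orderOf (x : G) = p := by rw [Subgroup.orderOf_coe]; exact hx
    have hxtop : (x : G) ∈ Z ⊔ K := by rw [hsup]; trivial
    rw [Subgroup.mem_sup_of_normal_right] at hxtop
    obtain ⟨z, hz, k, hk, hzk⟩ := hxtop
    have hk1 : k = 1 := by
      have h1 : (z * k) ^ p = z ^ p * k ^ p := (hcomm z hz k hk).mul_pow p
      rw [hzk, ← hxo, pow_orderOf_eq_one] at h1
      have h2 : k ^ orderOf (x : G) ∈ Z ⊓ K := by
        refine ⟨?_, K.pow_mem hk _⟩
        have : k ^ orderOf (x : G) = (z ^ orderOf (x : G))⁻¹ :=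
          eq_inv_of_mul_eq_one_right h1.symm
        rw [this]
        exact Z.inv_mem (Z.pow_mem hz _)
      rw [hinf, Subgroup.mem_bot, hxo] at h2
      exact eq_one_of_mem_of_coprime hk (orderOf_dvd_of_pow_eq_one h2) hcop
    rw [hk1, mul_one] at hzk
    have hzM : z ∈ M := by rw [hzk]; exact x.2
    have hz1 : z ≠ 1 := by
      intro h1
      rw [← hzk, h1, orderOf_one] at hxo
      exact hp.out.one_lt.ne hxo
    have hZM : Z ≤ M := by
      have htop : Subgroup.zpowers (⟨z, hz⟩ : Z) = ⊤ :=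
        zpowers_eq_top_of_prime_card hZp (fun h => hz1 (congrArg Subtype.val h))
      intro w hw
      have : (⟨w, hw⟩ : Z) ∈ Subgroup.zpowers (⟨z, hz⟩ : Z) := by rw [htop]; trivial
      rw [Subgroup.mem_zpowers_iff] at this
      obtain ⟨i, hi⟩ := this
      have hi' : z ^ i = w := by
        have := congrArg Subtype.val hi
        rwa [Subgroup.coe_zpow] at this
      rw [← hi']
      exact M.zpow_mem hzM i
    have hMeq : M = Z ⊔ (M ⊓ K) := by
      apply le_antisymm
      · intro m hm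
        have hmtop : m ∈ Z ⊔ K := by rw [hsup]; trivial
        rw [Subgroup.mem_sup_of_normal_right] at hmtop
        obtain ⟨z', hz', k', hk', hzk'⟩ := hmtop
        rw [← hzk']
        refine Subgroup.mul_mem_sup hz' ⟨?_, hk'⟩
        have : k' = z'⁻¹ * m := by rw [← hzk']; group
        rw [this]
        exact M.mul_mem (M.inv_mem (hZM hz')) hm
      · exact sup_le hZM inf_le_left
    have hLne : (M ⊓ K).subgroupOf K ≠ ⊤ := by
      intro htop
      apply hM.1
      rw [eq_top_iff, ← hsup]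
      apply sup_le hZM
      intro k' hk'
      have : (⟨k', hk'⟩ : K) ∈ (M ⊓ K).subgroupOf K := by rw [htop]; trivial
      rw [Subgroup.mem_subgroupOf] at this
      exact this.1
    have hLnil : Group.IsNilpotent ↥(M ⊓ K) := by
      have := hKmin.2 _ hLne
      exact Group.nilpotent_of_mulEquiv (Subgroup.subgroupOfEquivOfLe (inf_le_right : M ⊓ K ≤ K))
    have hZnil : Group.IsNilpotent ↥Z := by
      have hcyc : IsCyclic Z := isCyclic_of_prime_card hZp
      letI : CommGroup ↥Z := IsCyclic.commGroup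
      infer_instance
    rw [hMeq]
    exact isNilpotent_sup_of_commute Z (M ⊓ K) hZnil hLnil
      (fun z' hz' l hl => hcomm z' hz' l hl.2)

/-- Let G be a finite group and p a prime dividing its order. Every maximal subgroup of G of order divisible by p is nilpotent if and only if G is nilpotent, or G is a minimal non-nilpotent group, or G is the internal direct product of a normal subgroup of order p and a normal minimal non-nilpotent subgroup of order prime to p. -/
theorem result {G : Type*} [Group G] [Finite G] (p : ℕ) (hp : p.Prime) (hpG : p ∣ Nat.card G) :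
    (∀ M : Subgroup G, IsCoatom M → p ∣ Nat.card M → Group.IsNilpotent M) ↔
      (Group.IsNilpotent G ∨ Cfsg.IsMinimalNonNilpotent G ∨
        ∃ Z K : Subgroup G, Z.Normal ∧ K.Normal ∧ Z ⊓ K = ⊥ ∧ Z ⊔ K = ⊤ ∧ Nat.card Z = p ∧
          Cfsg.IsMinimalNonNilpotent K ∧ ¬ p ∣ Nat.card K) := by
  haveI : Fact p.Prime := ⟨hp⟩
  constructor
  · exact forward p hpG
  · exact backward p

end Cfsg.Agent.S4242
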