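import Mathlib
import Cfsg.Statements.S4244
import Cfsg.Agent.Lib.Helper21.FittingSubgroup

set_option autoImplicit false
open Cfsg

namespace Cfsg.Agent.S4244

/-- Let H be a subnormal subgroup of a finite group G. Then for every subgroup K of G the index of H ∩ K in H divides the index of K in G. -/
theorem result {G : Type*} [Group G] [Finite G] (H : Subgroup G) (hH : H.IsSubnormal) (K : Subgroup G) :
    (H ⊓ K).relIndex H ∣ K.index := by
  induction hH with
  | top => rw [top_inf_eq, Subgroup.relIndex_top_right]
  | step H M hle hM hN ih =>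
    -- X = M ⊓ K
    have e1 : (H ⊓ K).relIndex H = (M ⊓ K).relIndex H := by
      have h0 : H ⊓ K = M ⊓ K ⊓ H := by
        apply le_antisymm
        · exact le_inf (le_inf (inf_le_left.trans hle) inf_le_right) inf_le_left
        · exact le_inf inf_le_right (inf_le_left.trans inf_le_right)
      rw [h0, Subgroup.inf_relIndex_right]
    rw [e1]
    have e2 : ((M ⊓ K).subgroupOf M).relIndex (H.subgroupOf M) = (M ⊓ K).relIndex H :=
      Subgroup.relIndex_subgroupOf hle
    have e3 := Cfsg.Agent.Helper21.relIndex_dvd_index_of_normal_right
      ((M ⊓ K).subgroupOf M) (H.subgroupOf M)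
    rw [e2] at e3
    exact dvd_trans e3 ih

end Cfsg.Agent.S4244
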