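import Mathlib
import Cfsg.Statements.S4249
import Cfsg.Agent.Lib.Helper1.HughesNilpotent
import Cfsg.Agent.Lib.Helper1.HughesIndex

set_option autoImplicit false
open Cfsg

namespace Cfsg.Agent.S4249

open Cfsg.Agent.Helper1.Hughes in
theorem hs_closure {G : Type*} [Group G] (p : ℕ)
    (hH : Subgroup.closure {g : G | g ^ p ≠ 1} ≠ ⊤) :
    HS p (Subgroup.closure {g : G | g ^ p ≠ 1}) := by
  refine ⟨⟨?_⟩, hH, ?_⟩
  · intro n hn g
    induction hn using Subgroup.closure_induction with
    | mem x hx =>
      apply Subgroup.subset_closure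
      change (g * x * g⁻¹) ^ p ≠ 1
      rw [conj_pow]
      intro h
      apply hx
      have : x ^ p = g⁻¹ * (g * x ^ p * g⁻¹) * g := by group
      rw [this, h]; group
    | one => simp
    | mul x y _ _ hx hy =>
      have : g * (x * y) * g⁻¹ = (g * x * g⁻¹) * (g * y * g⁻¹) := by group
      rw [this]
      exact mul_mem hx hy
    | inv x _ hx =>
      have : g * x⁻¹ * g⁻¹ = (g * x * g⁻¹)⁻¹ := by group
      rw [this]
      exact inv_mem hx
  · intro g hg
    by_contra h
    exact hg (Subgroup.subset_closure h)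

/-- Let G be a finite group and p a prime such that G is not a p-group, and suppose the Hughes subgroup H_p(G), generated by all elements g with g^p ≠ 1, is a proper subgroup. Then H_p(G) is nilpotent and has index p in G. -/
theorem result {G : Type*} [Group G] [Finite G] (p : ℕ) (hp : p.Prime) (hG : ¬ IsPGroup p G)
    (hH : Subgroup.closure {g : G | g ^ p ≠ 1} ≠ ⊤) :
    Group.IsNilpotent (Subgroup.closure {g : G | g ^ p ≠ 1}) ∧ (Subgroup.closure {g : G | g ^ p ≠ 1}).index = p := by
  have hS := hs_closure p hH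
  exact ⟨Cfsg.Agent.Helper1.Hughes.nilpotent hp _ hS,
    Cfsg.Agent.Helper1.Hughes.index_eq hp _ hS hG⟩

end Cfsg.Agent.S4249
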