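import Mathlib
import Cfsg.Statements.S4251
import Cfsg.Agent.Lib.Helper10.Frobenius3
-- import your own Cfsg.Agent.* helpers here

set_option autoImplicit false
open Cfsg

namespace Cfsg.Agent.S4251

/-- Let P be a Sylow p-subgroup of a finite group G. Call an intersection H = P ∩ Q with a Sylow p-subgroup Q tame when N_P(H) and N_Q(H) are Sylow p-subgroups of N_G(H). If N_G(H)/C_G(H) is a p-group for every nontrivial tame intersection H = P ∩ Q, then G has a normal p-complement. -/
theorem result {G : Type*} [Group G] [Finite G] (p : ℕ) [Fact p.Prime] (P : Sylow p G)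
    (h : ∀ Q : Sylow p G, (P : Subgroup G) ⊓ (Q : Subgroup G) ≠ ⊥ → (¬ p ∣ ((P : Subgroup G) ⊓ Subgroup.normalizer (((P : Subgroup G) ⊓ (Q : Subgroup G) : Subgroup G) : Set G)).relIndex (Subgroup.normalizer (((P : Subgroup G) ⊓ (Q : Subgroup G) : Subgroup G) : Set G)) ∧ ¬ p ∣ ((Q : Subgroup G) ⊓ Subgroup.normalizer (((P : Subgroup G) ⊓ (Q : Subgroup G) : Subgroup G) : Set G)).relIndex (Subgroup.normalizer (((P : Subgroup G) ⊓ (Q : Subgroup G) : Subgroup G) : Set G))) →
      IsPGroup p (Subgroup.normalizer (((P : Subgroup G) ⊓ (Q : Subgroup G) : Subgroup G) : Set G) ⧸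
        (Subgroup.centralizer (((P : Subgroup G) ⊓ (Q : Subgroup G) : Subgroup G) : Set G)).subgroupOf
          (Subgroup.normalizer (((P : Subgroup G) ⊓ (Q : Subgroup G) : Subgroup G) : Set G)))) :
    Cfsg.HasNormalPComplement p G := by
  have hFC : Cfsg.Agent.Helper10.ControlsOwnFusion (P : Subgroup G) := by
    apply Cfsg.Agent.Helper10.fc_of_tame_quotient P
    intro T x hSt hT
    obtain ⟨Q, hQ, h2, h3, -⟩ := hSt
    subst hQ
    exact h Q hT ⟨h2, h3⟩
  have hF : Cfsg.Agent.Helper10.FrobCond p G :=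
    Cfsg.Agent.Helper10.frobCond_of_sylow P (Cfsg.Agent.Helper10.sylow_cond_of_fc P hFC)
  exact (Cfsg.Agent.Helper10.npc_of_frobCond _ G rfl hF).hasNormalPComplement

end Cfsg.Agent.S4251
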