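import Mathlib
import Cfsg.Statements.S4257
import Cfsg.Agent.Lib.Helper21.ClassSize
import Cfsg.Agent.Lib.Helper21.IsolatedClasses

set_option autoImplicit false
open Cfsg

namespace Cfsg.Agent.S4257

open Subgroup Cfsg.Agent.Helper21.ClassSize Cfsg.Agent.Helper21.IsolatedClasses

variable {G : Type*} [Group G]

theorem max_lemma [Finite G] (p q : ℕ) (x₀ y₀ : G)
    (hx₀max : ∀ x : G, p ∣ idx x → idx x ≤ idx x₀) (hy₀max : ∀ y : G, q ∣ idx y → idx y ≤ idx y₀)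
    (hlt : idx y₀ < idx x₀)
    (hcopXY : ∀ x y : G, p ∣ idx x → q ∣ idx y → Nat.Coprime (idx x) (idx y))
    (hno : ∀ r b : ℕ, r.Prime → b.Prime → r ∣ idx x₀ → (∃ y : G, q ∣ idx y ∧ b ∣ idx y) →
      ∀ g : G, ¬ r * b ∣ idx g)
    (hp : p ∣ idx x₀) :
    ∀ y : G, q ∣ idx y → idx (x₀ * y) ≤ idx x₀ := by
  intro y hy
  have hcop := hcopXY x₀ y hp hy
  have hdvd := idx_mul_dvd hcop
  by_cases h1 : p ∣ idx (x₀ * y)
  · exact hx₀max _ h1
  by_cases h2 : q ∣ idx (x₀ * y)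
  · exact (hy₀max _ h2).trans hlt.le
  by_cases h3 : Nat.Coprime (idx (x₀ * y)) (idx y)
  · exact Nat.le_of_dvd (idx_pos x₀) (Nat.Coprime.dvd_of_dvd_mul_right h3 hdvd)
  by_cases h4 : Nat.Coprime (idx (x₀ * y)) (idx x₀)
  · have h5 := Nat.le_of_dvd (idx_pos y) (Nat.Coprime.dvd_of_dvd_mul_left h4 hdvd)
    exact (h5.trans (hy₀max y hy)).trans hlt.le
  exfalso
  obtain ⟨b, hb, hbz, hby⟩ := Nat.Prime.not_coprime_iff_dvd.mp h3
  obtain ⟨r, hr, hrz, hrx⟩ := Nat.Prime.not_coprime_iff_dvd.mp h4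
  have hne : r ≠ b := by
    intro h
    have := Nat.dvd_gcd hrx (h ▸ hby)
    rw [hcop] at this
    exact hr.one_lt.ne' (Nat.dvd_one.mp this)
  exact hno r b hr hb hrx ⟨y, hy, hby⟩ (x₀ * y)
    (Nat.Coprime.mul_dvd_of_dvd_of_dvd ((Nat.coprime_primes hr hb).2 hne) hrz hbz)

/-- all class sizes in `{1,k,n}` contradicts connectivity -/
theorem not_conn_of_three_sizes [Finite G]
    (hconn : ∀ S : Set ℕ, (∃ p ∈ S, (p.Prime ∧ ∃ g : G, p ∣ idx g)) →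
      (∃ q ∉ S, (q.Prime ∧ ∃ g : G, q ∣ idx g)) →
      ∃ p q : ℕ, (p.Prime ∧ ∃ g : G, p ∣ idx g) ∧ (q.Prime ∧ ∃ g : G, q ∣ idx g) ∧ p ∈ S ∧ q ∉ S ∧
        (∃ g : G, p * q ∣ idx g))
    (h : ∃ k n : ℕ, Nat.Coprime k n ∧ 1 < k ∧ 1 < n ∧ (∃ g : G, idx g = k) ∧ (∃ g : G, idx g = n) ∧
      ∀ g : G, idx g = 1 ∨ idx g = k ∨ idx g = n) : False := by
  obtain ⟨k, n, hkn, hk1, hn1, ⟨g₁, hg₁⟩, ⟨g₂, hg₂⟩, hall⟩ := h
  obtain ⟨r, hr, hrk⟩ := Nat.exists_prime_and_dvd hk1.ne'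
  obtain ⟨b, hb, hbn⟩ := Nat.exists_prime_and_dvd hn1.ne'
  have hbk : ¬ b ∣ k := by
    intro h
    have := Nat.dvd_gcd h hbn
    rw [hkn] at this
    exact hb.one_lt.ne' (Nat.dvd_one.mp this)
  obtain ⟨p', q', ⟨hp', _⟩, ⟨hq', _⟩, hp'S, hq'S, g, hg⟩ := hconn {r | r ∣ k}
    ⟨r, hrk, hr, g₁, hg₁ ▸ hrk⟩ ⟨b, hbk, hb, g₂, hg₂ ▸ hbn⟩
  have hp'k : p' ∣ k := hp'S
  have hq'k : ¬ q' ∣ k := hq'S
  rcases hall g with h1 | h1 | h1
  · rw [h1] at hg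
    exact hp'.one_lt.ne' (Nat.dvd_one.mp ((dvd_mul_right p' q').trans hg))
  · rw [h1] at hg
    exact hq'k ((dvd_mul_left q' p').trans hg)
  · rw [h1] at hg
    have := Nat.dvd_gcd hp'k ((dvd_mul_right p' q').trans hg)
    rw [hkn] at this
    exact hp'.one_lt.ne' (Nat.dvd_one.mp this)

/-- Let G be a finite group. Call a prime a vertex if it divides some conjugacy class size of G, and two distinct vertices adjacent if their product divides some class size. If this graph is connected, then its diameter is at most 3: any two distinct vertices p and q are adjacent, or joined through one or two intermediate vertices. -/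
theorem result {G : Type*} [Group G] [Finite G]
    (hconn : ∀ S : Set ℕ, (∃ p ∈ S, (p.Prime ∧ ∃ g : G, p ∣ (Subgroup.centralizer ({g} : Set G)).index)) → (∃ q ∉ S, (q.Prime ∧ ∃ g : G, q ∣ (Subgroup.centralizer ({g} : Set G)).index)) →
      ∃ p q : ℕ, (p.Prime ∧ ∃ g : G, p ∣ (Subgroup.centralizer ({g} : Set G)).index) ∧ (q.Prime ∧ ∃ g : G, q ∣ (Subgroup.centralizer ({g} : Set G)).index) ∧ p ∈ S ∧ q ∉ S ∧ (∃ g : G, p * q ∣ (Subgroup.centralizer ({g} : Set G)).index))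
    (p q : ℕ) (hp : (p.Prime ∧ ∃ g : G, p ∣ (Subgroup.centralizer ({g} : Set G)).index)) (hq : (q.Prime ∧ ∃ g : G, q ∣ (Subgroup.centralizer ({g} : Set G)).index)) (hpq : p ≠ q) :
    (∃ g : G, p * q ∣ (Subgroup.centralizer ({g} : Set G)).index) ∨ (∃ r : ℕ, (r.Prime ∧ ∃ g : G, r ∣ (Subgroup.centralizer ({g} : Set G)).index) ∧ r ≠ p ∧ r ≠ q ∧ (∃ g : G, p * r ∣ (Subgroup.centralizer ({g} : Set G)).index) ∧ (∃ g : G, r * q ∣ (Subgroup.centralizer ({g} : Set G)).index)) ∨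
      (∃ r s : ℕ, (r.Prime ∧ ∃ g : G, r ∣ (Subgroup.centralizer ({g} : Set G)).index) ∧ (s.Prime ∧ ∃ g : G, s ∣ (Subgroup.centralizer ({g} : Set G)).index) ∧ r ≠ p ∧ s ≠ q ∧ r ≠ s ∧ r ≠ q ∧ s ≠ p ∧
        (∃ g : G, p * r ∣ (Subgroup.centralizer ({g} : Set G)).index) ∧ (∃ g : G, r * s ∣ (Subgroup.centralizer ({g} : Set G)).index) ∧ (∃ g : G, s * q ∣ (Subgroup.centralizer ({g} : Set G)).index)) := by
  classical
  by_contra hcon
  push_neg at hcon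
  obtain ⟨n1, n2, n3⟩ := hcon
  have hconn' : ∀ S : Set ℕ, (∃ p ∈ S, (p.Prime ∧ ∃ g : G, p ∣ idx g)) →
      (∃ q ∉ S, (q.Prime ∧ ∃ g : G, q ∣ idx g)) →
      ∃ p q : ℕ, (p.Prime ∧ ∃ g : G, p ∣ idx g) ∧ (q.Prime ∧ ∃ g : G, q ∣ idx g) ∧ p ∈ S ∧ q ∉ S ∧
        (∃ g : G, p * q ∣ idx g) := hconn
  -- the key non-adjacency
  have hAB : ∀ r b : ℕ, r.Prime → b.Prime → (r = p ∨ ∃ g : G, p * r ∣ idx g) →
      (b = q ∨ ∃ g : G, b * q ∣ idx g) → r ≠ b ∧ ∀ g : G, ¬ r * b ∣ idx g := by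
    intro r b hr hb hrA hbB
    have vtx_r : ∀ g : G, p * r ∣ idx g → (r.Prime ∧ ∃ g : G, r ∣ (centralizer ({g} : Set G)).index) :=
      fun g hg => ⟨hr, g, (dvd_mul_left r p).trans hg⟩
    have vtx_b : ∀ g : G, b * q ∣ idx g → (b.Prime ∧ ∃ g : G, b ∣ (centralizer ({g} : Set G)).index) :=
      fun g hg => ⟨hb, g, (dvd_mul_right b q).trans hg⟩
    by_cases hrp : r = p
    · subst hrp
      by_cases hbq : b = q
      · subst hbq
        exact ⟨hpq, fun g hg => n1 g hg⟩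
      · obtain ⟨g₁, hg₁⟩ := hbB.resolve_left hbq
        have hbp : b ≠ r := by
          intro h; subst h; exact n1 g₁ hg₁
        refine ⟨fun h => hbp h.symm, fun g hg => ?_⟩
        exact n2 b (vtx_b g₁ hg₁) hbp hbq ⟨g, hg⟩ g₁ hg₁
    · obtain ⟨g₀, hg₀⟩ := hrA.resolve_left hrp
      have hrq : r ≠ q := by
        intro h; subst h; exact n1 g₀ hg₀
      by_cases hbq : b = q
      · subst hbq
        refine ⟨hrq, fun g hg => ?_⟩
        exact n2 r (vtx_r g₀ hg₀) hrp hrq ⟨g₀, hg₀⟩ g hg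
      · obtain ⟨g₁, hg₁⟩ := hbB.resolve_left hbq
        have hbp : b ≠ p := by
          intro h; subst h; exact n1 g₁ hg₁
        have hrb : r ≠ b := by
          intro h; subst h
          exact n2 r (vtx_r g₀ hg₀) hrp hrq ⟨g₀, hg₀⟩ g₁ hg₁
        refine ⟨hrb, fun g hg => ?_⟩
        exact n3 r b (vtx_r g₀ hg₀) (vtx_b g₁ hg₁) hrp hbq hrb hrq hbp ⟨g₀, hg₀⟩ ⟨g, hg⟩ g₁ hg₁
  have hA_of : ∀ x : G, p ∣ idx x → ∀ r : ℕ, r.Prime → r ∣ idx x → (r = p ∨ ∃ g : G, p * r ∣ idx g) := by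
    intro x hx r hr hrx
    by_cases h : r = p
    · exact Or.inl h
    · right
      exact ⟨x, Nat.Coprime.mul_dvd_of_dvd_of_dvd ((Nat.coprime_primes hp.1 hr).2 (Ne.symm h)) hx hrx⟩
  have hB_of : ∀ y : G, q ∣ idx y → ∀ b : ℕ, b.Prime → b ∣ idx y → (b = q ∨ ∃ g : G, b * q ∣ idx g) := by
    intro y hy b hb hby
    by_cases h : b = q
    · exact Or.inl h
    · right
      exact ⟨y, Nat.Coprime.mul_dvd_of_dvd_of_dvd ((Nat.coprime_primes hb hq.1).2 h) hby hy⟩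
  have hcopXY : ∀ x y : G, p ∣ idx x → q ∣ idx y → Nat.Coprime (idx x) (idx y) := by
    intro x y hx hy
    apply Nat.coprime_of_dvd
    intro k hk hkx hky
    exact (hAB k k hk hk (hA_of x hx k hk hkx) (hB_of y hy k hk hky)).1 rfl
  -- maximal elements
  haveI := Fintype.ofFinite G
  obtain ⟨gp, hgp'⟩ := hp.2
  obtain ⟨gq, hgq'⟩ := hq.2
  have hgp : p ∣ idx gp := hgp'
  have hgq : q ∣ idx gq := hgq'
  obtain ⟨x₀, hx₀mem, hx₀max'⟩ := Finset.exists_max_image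
    (Finset.univ.filter (fun x : G => p ∣ idx x)) (fun x => idx x) ⟨gp, by simpa using hgp⟩
  obtain ⟨y₀, hy₀mem, hy₀max'⟩ := Finset.exists_max_image
    (Finset.univ.filter (fun y : G => q ∣ idx y)) (fun y => idx y) ⟨gq, by simpa using hgq⟩
  have hx₀ : p ∣ idx x₀ := by simpa using hx₀mem
  have hy₀ : q ∣ idx y₀ := by simpa using hy₀mem
  have hx₀max : ∀ x : G, p ∣ idx x → idx x ≤ idx x₀ := fun x hx => hx₀max' x (by simpa using hx)
  have hy₀max : ∀ y : G, q ∣ idx y → idx y ≤ idx y₀ := fun y hy => hy₀max' y (by simpa using hy)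
  have hx₀1 : idx x₀ ≠ 1 := by
    intro h; rw [h] at hx₀; exact hp.1.one_lt.ne' (Nat.dvd_one.mp hx₀)
  have hy₀1 : idx y₀ ≠ 1 := by
    intro h; rw [h] at hy₀; exact hq.1.one_lt.ne' (Nat.dvd_one.mp hy₀)
  have hcop0 := hcopXY x₀ y₀ hx₀ hy₀
  rcases lt_trichotomy (idx y₀) (idx x₀) with hlt | heq | hlt
  · apply not_conn_of_three_sizes hconn'
    apply three_sizes x₀ y₀ hx₀1 q hq.1 hy₀ (fun y hy => hcopXY x₀ y hx₀ hy)
    · apply max_lemma p q x₀ y₀ hx₀max hy₀max hlt hcopXY _ hx₀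
      intro r b hr hb hrx ⟨y, hy, hby⟩ g
      exact (hAB r b hr hb (hA_of x₀ hx₀ r hr hrx) (hB_of y hy b hb hby)).2 g
    · intro r b hr hb hrx hby g
      exact (hAB r b hr hb (hA_of x₀ hx₀ r hr hrx) (hB_of y₀ hy₀ b hb hby)).2 g
  · rw [heq] at hcop0
    exact hx₀1 ((Nat.coprime_self _).mp hcop0)
  · apply not_conn_of_three_sizes hconn'
    apply three_sizes y₀ x₀ hy₀1 p hp.1 hx₀ (fun x hx => (hcopXY x y₀ hx hy₀).symm)
    · apply max_lemma q p y₀ x₀ hy₀max hx₀max hlt (fun y x hy hx => (hcopXY x y hx hy).symm) _ hy₀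
      intro r b hr hb hry ⟨x, hx, hbx⟩ g hg
      rw [mul_comm] at hg
      exact (hAB b r hb hr (hA_of x hx b hb hbx) (hB_of y₀ hy₀ r hr hry)).2 g hg
    · intro r b hr hb hry hbx g hg
      rw [mul_comm] at hg
      exact (hAB b r hb hr (hA_of x₀ hx₀ b hb hbx) (hB_of y₀ hy₀ r hr hry)).2 g hg

end Cfsg.Agent.S4257
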