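import Mathlib
import Cfsg.Statements.S4260

set_option autoImplicit false
open Cfsg

namespace Cfsg.Agent.S4260

/-- Let H be a Hall subgroup of a finite group G (the order of H is coprime to its index) such that x^[G : H] lies in H for every x in G. Then H is normal in G. -/
theorem result {G : Type*} [Group G] [Finite G] (H : Subgroup G) (hHall : (Nat.card H).Coprime H.index)
    (hexp : ∀ x : G, x ^ H.index ∈ H) : H.Normal := by
  constructor
  intro h hh g
  set y := g * h * g⁻¹ with hy
  -- y ^ card H = 1
  have h1 : h ^ Nat.card H = 1 := by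
    have e := pow_card_eq_one' (G := H) (x := ⟨h, hh⟩)
    have e2 := congrArg Subtype.val e
    rw [Subgroup.coe_pow, Subgroup.coe_one] at e2
    exact e2
  have hy1 : y ^ Nat.card H = 1 := by
    rw [hy, conj_pow, h1]; simp
  -- Bezout
  have hcop : Nat.Coprime H.index (Nat.card H) := hHall.symm
  obtain ⟨a, b, hab⟩ : ∃ a b : ℤ, (H.index : ℤ) * a + (Nat.card H : ℤ) * b = 1 := by
    have := Nat.isCoprime_iff_coprime.mpr hcop
    obtain ⟨a, b, hab⟩ := this
    exact ⟨a, b, by linarith⟩
  have : y = (y ^ H.index) ^ a := by
    have e : y ^ (1 : ℤ) = y := zpow_one y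
    rw [← hab, zpow_add, zpow_mul, zpow_mul] at e
    simp only [zpow_natCast] at e
    rw [hy1] at e
    simp at e
    exact e.symm
  rw [this]
  exact H.zpow_mem (hexp y) a

end Cfsg.Agent.S4260
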