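import Mathlib
import Cfsg.Statements.S4261
import Cfsg.Agent.Lib.Helper21.FittingSubgroup

set_option autoImplicit false
open Cfsg

namespace Cfsg.Agent.S4261

universe u

open scoped commutatorElement

theorem isCoatom_map {G H : Type*} [Group G] [Group H] (f : G →* H) (hf : Function.Surjective f)
    (M : Subgroup G) (hM : IsCoatom M) (hker : f.ker ≤ M) : IsCoatom (M.map f) := by
  have hcm : (M.map f).comap f = M := by
    rw [Subgroup.comap_map_eq, sup_of_le_left hker]
  constructor
  · intro h
    apply hM.1
    rw [← hcm, h, Subgroup.comap_top]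
  · intro L hL
    have h1 : M < L.comap f := by
      rw [← hcm]
      exact Subgroup.comap_lt_comap_of_surjective hf |>.mpr hL
    have h2 := hM.2 _ h1
    rw [← Subgroup.map_comap_eq_self_of_surjective hf L, h2, ← MonoidHom.range_eq_map,
      MonoidHom.range_eq_top.mpr hf]

theorem aux (n : ℕ) : ∀ (G : Type u) [Group G] [Finite G], Nat.card G = n → Group.IsSolvable G →
    ∀ M : Subgroup G, IsCoatom M → (∀ x : G, x ^ M.index ∈ M) → M.Normal := by
  induction n using Nat.strong_induction_on with
  | _ n ih =>
  intro G _ _ hcard hG M hM hexp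
  haveI := hG
  -- quotient step
  have quot_step : ∀ K : Subgroup G, K.Normal → K ≠ ⊥ → K ≤ M → M.Normal := by
    intro K hKn hKbot hKM
    haveI := hKn
    have hs : Function.Surjective (QuotientGroup.mk' K) := QuotientGroup.mk'_surjective K
    have hker : (QuotientGroup.mk' K).ker ≤ M := by rw [QuotientGroup.ker_mk']; exact hKM
    have hcm : (M.map (QuotientGroup.mk' K)).comap (QuotientGroup.mk' K) = M := by
      rw [Subgroup.comap_map_eq, sup_of_le_left hker]
    have hidx : (M.map (QuotientGroup.mk' K)).index = M.index := by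
      rw [Subgroup.index_map, sup_of_le_left hker,
        MonoidHom.range_eq_top.mpr hs, Subgroup.index_top, mul_one]
    have hlt : Nat.card (G ⧸ K) < n := by
      rw [← hcard, Subgroup.card_eq_card_quotient_mul_card_subgroup K]
      have hKcard : 1 < Nat.card K := by
        rw [Subgroup.one_lt_card_iff_ne_bot]
        exact hKbot
      have : 0 < Nat.card (G ⧸ K) := Nat.card_pos
      nlinarith
    have hn := ih _ hlt (G ⧸ K) rfl (Group.isSolvable_of_surjective hs)
      (M.map (QuotientGroup.mk' K)) (isCoatom_map _ hs M hM hker) (by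
        intro x
        obtain ⟨g, rfl⟩ := hs x
        rw [hidx, ← map_pow]
        exact Subgroup.mem_map_of_mem _ (hexp g))
    rw [← hcm]
    exact hn.comap _
  have hnt : Nontrivial G := by
    by_contra h
    rw [not_nontrivial_iff_subsingleton] at h
    exact hM.1 (Subsingleton.elim _ _)
  -- minimal normal subgroup
  set S : Set (Subgroup G) := {N : Subgroup G | N.Normal ∧ N ≠ ⊥} with hS
  have hSne : S.Nonempty := ⟨⊤, inferInstance, top_ne_bot⟩
  obtain ⟨A, hAmin⟩ := S.toFinite.exists_minimal hSne
  obtain ⟨hAn, hAbot⟩ := hAmin.1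
  haveI := hAn
  have hmin : ∀ K : Subgroup G, K.Normal → K ≠ ⊥ → K ≤ A → A ≤ K :=
    fun K hK1 hK2 hK3 => hAmin.2 ⟨hK1, hK2⟩ hK3
  by_cases hAM : A ≤ M
  · exact quot_step A hAn hAbot hAM
  -- A is abelian
  have hAab : ∀ a ∈ A, ∀ b ∈ A, a * b = b * a := by
    have hlt : ⁅A, A⁆ < A := Group.IsSolvable.commutator_lt_of_ne_bot hAbot
    have hbot : ⁅A, A⁆ = ⊥ := by
      by_contra hne
      exact (lt_irrefl _ (lt_of_le_of_lt (hmin _ inferInstance hne hlt.le) hlt))
    intro a ha b hb
    have : ⁅a, b⁆ ∈ ⁅A, A⁆ := Subgroup.commutator_mem_commutator ha hb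
    rw [hbot, Subgroup.mem_bot] at this
    exact commutatorElement_eq_one_iff_mul_comm.mp this
  have hsup : A ⊔ M = ⊤ := by
    by_contra hne
    have hlt : M < A ⊔ M := lt_of_le_of_ne le_sup_right (by
      intro h
      apply hAM
      rw [h]
      exact le_sup_left)
    exact hne (hM.2 _ hlt)
  -- a subgroup normalized by A and M is normal
  have normal_of : ∀ K : Subgroup G, (∀ a ∈ A, ∀ k ∈ K, a * k * a⁻¹ ∈ K) →
      (∀ m ∈ M, ∀ k ∈ K, m * k * m⁻¹ ∈ K) → K.Normal := by
    intro K h1 h2
    rw [← Subgroup.normalizer_eq_top_iff, eq_top_iff, ← hsup]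
    apply sup_le
    · intro a ha
      exact Subgroup.mem_normalizer_fintype (fun k hk => h1 a ha k hk)
    · intro m hm
      exact Subgroup.mem_normalizer_fintype (fun k hk => h2 m hm k hk)
  -- A ⊓ M = ⊥
  have hinf : A ⊓ M = ⊥ := by
    by_contra hne
    have hnorm : (A ⊓ M).Normal := by
      apply normal_of
      · intro a ha k hk
        have : a * k * a⁻¹ = k := by
          rw [hAab a ha k hk.1, mul_inv_cancel_right]
        rw [this]
        exact hk
      · intro m hm k hk
        exact ⟨hAn.conj_mem k hk.1 m, M.mul_mem (M.mul_mem hm hk.2) (M.inv_mem hm)⟩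
    exact hAM ((hmin _ hnorm hne inf_le_left).trans inf_le_right)
  -- A is a p-group
  have hAcard : 1 < Nat.card A := by
    rw [Subgroup.one_lt_card_iff_ne_bot]
    exact hAbot
  obtain ⟨p, hp, hpd⟩ := Nat.exists_prime_and_dvd (by omega : Nat.card A ≠ 1)
  haveI : Fact p.Prime := ⟨hp⟩
  have hAp : ∀ a ∈ A, a ^ p = 1 := by
    let B : Subgroup G :=
      { carrier := {a | a ∈ A ∧ a ^ p = 1}
        one_mem' := ⟨A.one_mem, one_pow _⟩
        mul_mem' := by
          rintro a b ⟨ha, ha1⟩ ⟨hb, hb1⟩
          refine ⟨A.mul_mem ha hb, ?_⟩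
          rw [(show Commute a b from hAab a ha b hb).mul_pow, ha1, hb1, one_mul]
        inv_mem' := by
          rintro a ⟨ha, ha1⟩
          exact ⟨A.inv_mem ha, by rw [inv_pow, ha1, inv_one]⟩ }
    have hBn : B.Normal := by
      constructor
      rintro a ⟨ha, ha1⟩ g
      refine ⟨hAn.conj_mem a ha g, ?_⟩
      rw [conj_pow, ha1, mul_one, mul_inv_cancel]
    have hBbot : B ≠ ⊥ := by
      obtain ⟨x, hx⟩ := exists_prime_orderOf_dvd_card' (G := A) p hpd
      intro h0
      have hxB : (x : G) ∈ B := by
        refine ⟨x.2, ?_⟩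
        have := pow_orderOf_eq_one x
        rw [hx] at this
        have := congrArg Subtype.val this
        simpa using this
      rw [h0, Subgroup.mem_bot] at hxB
      have : x = 1 := Subtype.ext hxB
      rw [this, orderOf_one] at hx
      exact hp.one_lt.ne hx
    have hBA : B ≤ A := fun a ha => ha.1
    intro a ha
    exact (hmin B hBn hBbot hBA ha).2
  have hApg : IsPGroup p A := by
    intro a
    refine ⟨1, ?_⟩
    rw [pow_one]
    exact Subtype.ext (by simpa using hAp a a.2)
  obtain ⟨k, hk⟩ := hApg.exists_card_eq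
  -- index of M
  have hidx : M.index = Nat.card A := by
    have h1 := Cfsg.Agent.Helper21.relIndex_sup_eq_of_normal M A
    rw [sup_comm, hsup, Subgroup.relIndex_top_right] at h1
    rw [h1]
    have h2 : M.subgroupOf A = ⊥ := by
      rw [Subgroup.subgroupOf_eq_bot, disjoint_iff, inf_comm]
      exact hinf
    show (M.subgroupOf A).index = _
    rw [h2, Subgroup.index_bot]
  set n := M.index with hn
  -- y ^ n centralizes A for y ∈ M
  have hcent : ∀ y ∈ M, ∀ v ∈ A, y ^ n * v = v * y ^ n := by
    intro y hy v hv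
    have h1 : (v * y) ^ n ∈ M := hexp (v * y)
    have h2 : y ^ n ∈ M := M.pow_mem hy n
    have h3 : (v * y) ^ n * (y ^ n)⁻¹ ∈ A := by
      have : (QuotientGroup.mk' A) ((v * y) ^ n * (y ^ n)⁻¹) = 1 := by
        rw [map_mul, map_pow, map_mul, map_inv, map_pow]
        have : (QuotientGroup.mk' A) v = 1 := (QuotientGroup.eq_one_iff v).mpr hv
        rw [this, one_mul, mul_inv_cancel]
      exact (QuotientGroup.eq_one_iff _).mp this
    have h4 : (v * y) ^ n * (y ^ n)⁻¹ ∈ A ⊓ M := ⟨h3, M.mul_mem h1 (M.inv_mem h2)⟩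
    rw [hinf, Subgroup.mem_bot, mul_inv_eq_one] at h4
    have h5 : (v * y) ^ n * (v * y) = (v * y) * (v * y) ^ n := by
      rw [← pow_succ, ← pow_succ']
    rw [h4] at h5
    -- y^n * (v * y) = v * y * y^n
    have h6 : y ^ n * v * y = v * y ^ n * y := by
      calc y ^ n * v * y = y ^ n * (v * y) := by group
        _ = v * y * y ^ n := h5
        _ = v * y ^ n * y := by
          rw [mul_assoc, mul_assoc, ← pow_succ', ← pow_succ]
    exact mul_right_cancel h6
  -- C = centralizer A ⊓ M
  set C : Subgroup G := Subgroup.centralizer (A : Set G) ⊓ M with hC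
  have hCn : C.Normal := by
    apply normal_of
    · intro a ha c hc
      have : a * c * a⁻¹ = c := by
        have := hc.1 a ha
        rw [this, mul_inv_cancel_right]
      rw [this]
      exact hc
    · intro m hm c hc
      refine ⟨?_, M.mul_mem (M.mul_mem hm hc.2) (M.inv_mem hm)⟩
      have : (Subgroup.centralizer (A : Set G)).Normal := inferInstance
      exact this.conj_mem c hc.1 m
  by_cases hCbot : C = ⊥
  · -- M is a p-group, so G is a p-group
    have hMp : IsPGroup p M := by
      intro y
      refine ⟨k, ?_⟩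
      have hyC : (y : G) ^ n ∈ C := by
        refine ⟨?_, M.pow_mem y.2 n⟩
        show (y : G) ^ n ∈ Subgroup.centralizer (A : Set G)
        rw [Subgroup.mem_centralizer_iff]
        intro v hv
        exact (hcent y y.2 v hv).symm
      rw [hCbot, Subgroup.mem_bot, hidx, hk] at hyC
      exact Subtype.ext (by simpa using hyC)
    obtain ⟨j, hj⟩ := hMp.exists_card_eq
    have hGp : IsPGroup p G := by
      apply IsPGroup.of_card (n := k + j)
      rw [← Subgroup.index_mul_card M, ← hn, hidx, hk, hj, pow_add]
    haveI := hGp.isNilpotent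
    exact Subgroup.NormalizerCondition.normal_of_coatom M Group.normalizerCondition_of_isNilpotent hM
  · exact quot_step C hCn hCbot inf_le_right

/-- Let M be a maximal subgroup of a finite solvable group G such that x^[G : M] lies in M for every x in G. Then M is normal in G. -/
theorem result {G : Type*} [Group G] [Finite G] (hG : Group.IsSolvable G) (M : Subgroup G) (hM : IsCoatom M)
    (hexp : ∀ x : G, x ^ M.index ∈ M) : M.Normal :=
  aux _ G rfl hG M hM hexp

end Cfsg.Agent.S4261
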