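import Mathlib
import Cfsg.Statements.S4262
import Cfsg.Agent.Lib.Helper21.MaxCent

set_option autoImplicit false
open Cfsg

namespace Cfsg.Agent.S4262

open Cfsg.Agent.Helper21.MaxCent

/-- Let G be a finite group in which the centralizer of every non-central element is a maximal subgroup of G. Then G is solvable. -/
theorem result {G : Type*} [Group G] [Finite G]
    (h : ∀ g : G, g ∉ Subgroup.center G → IsCoatom (Subgroup.centralizer ({g} : Set G))) :
    Group.IsSolvable G := by
  haveI hQ : Group.IsSolvable (G ⧸ Subgroup.center G) := by
    by_cases hab : ∀ a b : G ⧸ Subgroup.center G, a * b = b * a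
    · exact isSolvable_of_comm hab
    · push_neg at hab
      have hCM := cm_quotient h hab
      obtain ⟨a, b, hab⟩ := hab
      have ha1 : a ≠ 1 := by
        rintro rfl
        simp at hab
      obtain ⟨h₀, hh₀, hn⟩ := exists_normal_cent hCM ha1
      exact case1_solvable hCM hh₀ hn
  haveI hZ : Group.IsSolvable ↥(Subgroup.center G) :=
    isSolvable_of_comm (fun a b => Subtype.ext ((Subgroup.mem_center_iff.mp b.2) a))
  exact solvable_of_ker_le_range (Subgroup.center G).subtype
    (QuotientGroup.mk' (Subgroup.center G))
    (by rw [QuotientGroup.ker_mk', Subgroup.range_subtype])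

end Cfsg.Agent.S4262
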