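import Mathlib
import Cfsg.Statements.S4263
import Cfsg.Agent.Lib.Helper21.FittingSubgroup

set_option autoImplicit false
open Cfsg

namespace Cfsg.Agent.S4263

/-- Let G be a finite group. An element x lies in the Fitting subgroup F(G) if and only if, for every subgroup H of G, the power x^[G : H] lies in H. -/
theorem result {G : Type*} [Group G] [Finite G] (x : G) :
    x ∈ Cfsg.fittingSubgroup G ↔ ∀ H : Subgroup G, x ^ H.index ∈ H := by
  constructor
  · intro hx H
    exact Cfsg.Agent.Helper21.pow_index_mem_of_mem_fittingSubgroup hx H
  · intro h
    set F := Cfsg.fittingSubgroup G with hF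
    have hFn : F.Normal := Cfsg.Agent.Helper21.fittingSubgroup_normal G
    -- for each prime p, x ^ (index of a Sylow p) ∈ F
    have key : ∀ (p : ℕ) [Fact p.Prime] (P : Sylow p G), x ^ (P : Subgroup G).index ∈ F := by
      intro p _ P
      have hcore : x ^ (P : Subgroup G).index ∈ (P : Subgroup G).normalCore := by
        intro b
        -- apply h to the conjugate subgroup
        set Q : Subgroup G := (P : Subgroup G).map (MulAut.conj b⁻¹).toMonoidHom with hQ
        have hidx : Q.index = (P : Subgroup G).index :=
          Subgroup.index_map_equiv (P : Subgroup G) (MulAut.conj b⁻¹)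
        have hmem := h Q
        rw [hidx, hQ, Subgroup.mem_map] at hmem
        obtain ⟨y, hy, hyx⟩ := hmem
        have : b * x ^ (P : Subgroup G).index * b⁻¹ = y := by
          rw [← hyx]
          simp
          group
        rw [this]; exact hy
      have hpg : IsPGroup p (P : Subgroup G).normalCore :=
        P.isPGroup'.to_le (Subgroup.normalCore_le _)
      have hnil : Group.IsNilpotent (P : Subgroup G).normalCore := hpg.isNilpotent
      have hle : (P : Subgroup G).normalCore ≤ F :=
        le_sSup ⟨inferInstance, hnil⟩
      exact hle hcore
    -- pass to the quotient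
    have hq : (QuotientGroup.mk x : G ⧸ F) = 1 := by
      rw [← orderOf_eq_one_iff]
      by_contra hne
      obtain ⟨p, hp, hpd⟩ := Nat.exists_prime_and_dvd hne
      have : Fact p.Prime := ⟨hp⟩
      obtain ⟨P⟩ : Nonempty (Sylow p G) := inferInstance
      have h1 : (QuotientGroup.mk x : G ⧸ F) ^ (P : Subgroup G).index = 1 := by
        rw [← QuotientGroup.mk_pow, QuotientGroup.eq_one_iff]
        exact key p P
      have h2 := orderOf_dvd_of_pow_eq_one h1
      exact P.not_dvd_index (dvd_trans hpd h2)
    exact (QuotientGroup.eq_one_iff x).mp hq

end Cfsg.Agent.S4263
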