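import Mathlib
import Cfsg.Statements.S4334
import Cfsg.Agent.Lib.Helper21.PiSubgroup
import Cfsg.Agent.Lib.Helper10.Frobenius3

set_option autoImplicit false
open Cfsg

namespace Cfsg.Agent.S4334

open Subgroup Pointwise Cfsg.Agent.Helper21 Cfsg.Agent.Helper10

variable {G : Type*} [Group G]

theorem card_mul_relIndex_of_le {K L : Subgroup G} (h : K ≤ L) :
    Nat.card K * K.relIndex L = Nat.card L := by
  have := Subgroup.relIndex_mul_relIndex (⊥ : Subgroup G) K L bot_le h
  rwa [Subgroup.relIndex_bot_left, Subgroup.relIndex_bot_left] at this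

/-- elements of a join of two elementwise commuting subgroups are products -/
theorem exists_mul_of_mem_sup {Hs Ht : Subgroup G} (hcomm : ∀ a ∈ Hs, ∀ b ∈ Ht, a * b = b * a)
    {h : G} (hh : h ∈ Hs ⊔ Ht) : ∃ a ∈ Hs, ∃ b ∈ Ht, h = a * b := by
  have hr := MonoidHom.noncommCoprod_range Hs.subtype Ht.subtype
    (fun a b => hcomm a a.2 b b.2)
  rw [Subgroup.range_subtype, Subgroup.range_subtype] at hr
  rw [← hr] at hh
  obtain ⟨⟨a, b⟩, rfl⟩ := hh
  exact ⟨a, a.2, b, b.2, rfl⟩

theorem card_sup_dvd [Finite G] {Hs Ht : Subgroup G} (hcomm : ∀ a ∈ Hs, ∀ b ∈ Ht, a * b = b * a) :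
    Nat.card ↥(Hs ⊔ Ht) ∣ Nat.card Hs * Nat.card Ht := by
  have hr := MonoidHom.noncommCoprod_range Hs.subtype Ht.subtype
    (fun a b => hcomm a a.2 b b.2)
  rw [Subgroup.range_subtype, Subgroup.range_subtype] at hr
  rw [← hr, ← Nat.card_prod]
  exact Subgroup.card_range_dvd _

theorem relIndex_right_dvd [Finite G] {Hs Ht : Subgroup G}
    (hcomm : ∀ a ∈ Hs, ∀ b ∈ Ht, a * b = b * a) : Ht.relIndex (Hs ⊔ Ht) ∣ Nat.card Hs := by
  have h1 := card_mul_relIndex_of_le (le_sup_right : Ht ≤ Hs ⊔ Ht)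
  have h2 := card_sup_dvd hcomm
  rw [← h1, mul_comm (Nat.card Hs)] at h2
  exact Nat.dvd_of_mul_dvd_mul_left Nat.card_pos h2

theorem relIndex_left_dvd [Finite G] {Hs Ht : Subgroup G}
    (hcomm : ∀ a ∈ Hs, ∀ b ∈ Ht, a * b = b * a) : Hs.relIndex (Hs ⊔ Ht) ∣ Nat.card Ht := by
  have h1 := card_mul_relIndex_of_le (le_sup_left : Hs ≤ Hs ⊔ Ht)
  have h2 := card_sup_dvd hcomm
  rw [← h1] at h2
  exact Nat.dvd_of_mul_dvd_mul_left Nat.card_pos h2

/-- the hypotheses of the theorem, with `π = σ ∪ τ` and `H = Hs ⊔ Ht` substituted -/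
structure Setup [Finite G] (σ τ : Set ℕ) (Hs Ht : Subgroup G) : Prop where
  hd : Disjoint σ τ
  hH : Cfsg.IsPiHall (σ ∪ τ) (Hs ⊔ Ht)
  hs : Cfsg.IsPiSubgroup σ Hs
  ht : Cfsg.IsPiSubgroup τ Ht
  hsn : Group.IsNilpotent Hs
  hcomm : ∀ a ∈ Hs, ∀ b ∈ Ht, a * b = b * a
  hD : Cfsg.IsDPiGroup τ G

variable [Finite G] {σ τ : Set ℕ} {Hs Ht : Subgroup G}

theorem Setup.not_mem_both (S : Setup σ τ Hs Ht) {q : ℕ} (h1 : q ∈ σ) (h2 : q ∈ τ) : False :=
  (Set.disjoint_left.mp S.hd h1 h2)

theorem Setup.ht_hall (S : Setup σ τ Hs Ht) (q : ℕ) (hq : q.Prime) (hqτ : q ∈ τ) :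
    ¬ q ∣ Ht.index := by
  intro hdvd
  rw [← Subgroup.relIndex_mul_index (le_sup_right : Ht ≤ Hs ⊔ Ht)] at hdvd
  rcases (Nat.Prime.dvd_mul hq).mp hdvd with h1 | h1
  · have h2 := h1.trans (relIndex_right_dvd S.hcomm)
    exact S.not_mem_both (S.hs q hq h2) hqτ
  · exact S.hH.2 q hq (Or.inr hqτ) h1

theorem Setup.hs_hall (S : Setup σ τ Hs Ht) (q : ℕ) (hq : q.Prime) (hqσ : q ∈ σ) :
    ¬ q ∣ Hs.index := by
  intro hdvd
  rw [← Subgroup.relIndex_mul_index (le_sup_left : Hs ≤ Hs ⊔ Ht)] at hdvd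
  rcases (Nat.Prime.dvd_mul hq).mp hdvd with h1 | h1
  · have h2 := h1.trans (relIndex_left_dvd S.hcomm)
    exact S.not_mem_both hqσ (S.ht q hq h2)
  · exact S.hH.2 q hq (Or.inl hqσ) h1

/-- every `τ`-subgroup lies in a conjugate of `Ht` -/
theorem Setup.tau_conj (S : Setup σ τ Hs Ht) (L : Subgroup G) (hL : Cfsg.IsPiSubgroup τ L) :
    ∃ g : G, L ≤ MulAut.conj g • Ht := by
  obtain ⟨M, hLM, hM⟩ := exists_le_maximal_piSubgroup hL
  have hT : Maximal (Cfsg.IsPiSubgroup τ) Ht := maximal_of_hall S.ht S.ht_hall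
  obtain ⟨g, hg⟩ := S.hD Ht M hT hM
  exact ⟨g, hLM.trans (le_of_eq hg)⟩

theorem Setup.coprime_card (S : Setup σ τ Hs Ht) : (Nat.card Hs).Coprime (Nat.card Ht) := by
  apply Nat.coprime_of_dvd
  intro k hk h1 h2
  exact S.not_mem_both (S.hs k hk h1) (S.ht k hk h2)

/-- a Sylow `p`-subgroup of `G` inside `Hs`, for `p ∈ σ` -/
theorem Setup.exists_sylow (S : Setup σ τ Hs Ht) (p : ℕ) [hp : Fact p.Prime] (hpσ : p ∈ σ) :
    ∃ P : Subgroup G, P ≤ Hs ∧ IsPGroup p P ∧ ¬ p ∣ P.index := by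
  obtain ⟨P₀⟩ : Nonempty (Sylow p Hs) := inferInstance
  refine ⟨(P₀ : Subgroup Hs).map Hs.subtype, Subgroup.map_subtype_le _, P₀.isPGroup'.map _, ?_⟩
  rw [Subgroup.index_map_subtype]
  intro hdvd
  rcases (Nat.Prime.dvd_mul hp.out).mp hdvd with h1 | h1
  · exact P₀.not_dvd_index h1
  · exact S.hs_hall p hp.out hpσ h1

/-- a `p`-subgroup of `Hs` commutes with every `p'`-element of `H` -/
theorem Setup.commute (S : Setup σ τ Hs Ht) (p : ℕ) [hp : Fact p.Prime] (P : Subgroup G)
    (hPs : P ≤ Hs) (hP : IsPGroup p P) {a n : G} (ha : a ∈ P) (hn : n ∈ Hs ⊔ Ht)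
    (hpn : ¬ p ∣ orderOf n) : a * n = n * a := by
  obtain ⟨ns, hns, nt, hnt, rfl⟩ := exists_mul_of_mem_sup S.hcomm hn
  have hcop : (orderOf ns).Coprime (orderOf nt) :=
    Nat.Coprime.of_dvd (Subgroup.orderOf_dvd_natCard Hs hns) (Subgroup.orderOf_dvd_natCard Ht hnt)
      S.coprime_card
  have hord := Commute.orderOf_mul_eq_mul_orderOf_of_coprime
    (show Commute ns nt from S.hcomm ns hns nt hnt) hcop
  have hpns : ¬ p ∣ orderOf ns := fun h => hpn (by rw [hord]; exact h.mul_right _)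
  obtain ⟨k, hk⟩ := (IsPGroup.iff_orderOf.mp hP) ⟨a, ha⟩
  rw [Subgroup.orderOf_mk] at hk
  have hcop2 : (orderOf a).Coprime (orderOf ns) := by
    rw [hk]
    exact Nat.Coprime.pow_left k ((Nat.Prime.coprime_iff_not_dvd hp.out).mpr hpns)
  have h1 := commute_of_mem_of_nilpotent S.hsn (hPs ha) hns hcop2
  have h2 := S.hcomm a (hPs ha) nt hnt
  calc a * (ns * nt) = (a * ns) * nt := by group
    _ = (ns * a) * nt := by rw [h1]
    _ = ns * (a * nt) := by group
    _ = ns * (nt * a) := by rw [h2]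
    _ = ns * nt * a := by group

/-- for a prime `q ≠ p` in `π`, the centralizer of a `p`-subgroup of `Hs` contains a Sylow
`q`-subgroup of `G` -/
theorem Setup.exists_sylow_centralizer (S : Setup σ τ Hs Ht) (p : ℕ) [hp : Fact p.Prime]
    (P : Subgroup G) (hPs : P ≤ Hs) (hP : IsPGroup p P) (q : ℕ) [hq : Fact q.Prime] (hqp : q ≠ p)
    (hqπ : q ∈ σ ∪ τ) : ∃ T : Subgroup G, T ≤ centralizer (P : Set G) ∧ ¬ q ∣ T.index := by
  obtain ⟨S₀⟩ : Nonempty (Sylow q ↥(Hs ⊔ Ht)) := inferInstance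
  refine ⟨(S₀ : Subgroup ↥(Hs ⊔ Ht)).map (Hs ⊔ Ht).subtype, ?_, ?_⟩
  · rintro _ ⟨s, hs, rfl⟩
    rw [Subgroup.mem_centralizer_iff]
    intro a ha
    apply S.commute p P hPs hP ha s.2
    obtain ⟨k, hk⟩ := (IsPGroup.iff_orderOf.mp S₀.isPGroup') ⟨s, hs⟩
    rw [Subgroup.orderOf_mk] at hk
    rw [Subgroup.orderOf_coe, hk]
    intro hdvd
    exact hqp ((Nat.prime_dvd_prime_iff_eq hp.out hq.out).mp (hp.out.dvd_of_dvd_pow hdvd)).symm
  · rw [Subgroup.index_map_subtype]
    intro hdvd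
    rcases (Nat.Prime.dvd_mul hq.out).mp hdvd with h1 | h1
    · exact S₀.not_dvd_index h1
    · exact S.hH.2 q hq.out hqπ h1

/-- Frobenius' condition holds at `p ∈ σ` in every `π`-subgroup -/
theorem Setup.frobCond (S : Setup σ τ Hs Ht) (p : ℕ) [hp : Fact p.Prime] (hpσ : p ∈ σ)
    (K : Subgroup G) (hK : Cfsg.IsPiSubgroup (σ ∪ τ) K) : FrobCond p K := by
  obtain ⟨P, hPs, hP, hPi⟩ := S.exists_sylow p hpσ
  intro Q hQ g hg hcop
  set Q' := Q.map K.subtype with hQ'
  have hQ'p : IsPGroup p Q' := hQ.map _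
  obtain ⟨x, -, hx⟩ := exists_conj_mem_of_relIndex ⊤ P Q' le_top hP
    (by rw [relIndex_top_right]; exact hPi) le_top hQ'p
  have hgN : (g : G) ∈ normalizer (Q' : Set G) := by
    rw [mem_normalizer_iff]
    intro y
    constructor
    · rintro ⟨h, hh, rfl⟩
      exact ⟨g * h * g⁻¹, (mem_normalizer_iff.mp hg h).mp hh, by simp⟩
    · rintro ⟨h', hh', hy⟩
      refine ⟨g⁻¹ * h' * g, ?_, ?_⟩
      · rw [SetLike.mem_coe, mem_normalizer_iff.mp hg]
        have : g * (g⁻¹ * h' * g) * g⁻¹ = h' := by group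
        rw [this]; exact hh'
      · have : K.subtype (g⁻¹ * h' * g) = (g : G)⁻¹ * K.subtype h' * (g : G) := by simp
        rw [this, hy]; group
  -- coprimality of the order of g with the index of the centralizer in the normalizer
  have hcop' : (orderOf (g : G)).Coprime
      ((centralizer (Q' : Set G)).relIndex (normalizer (Q' : Set G))) := by
    apply Nat.coprime_of_dvd
    intro q hq hq1 hq2
    haveI : Fact q.Prime := ⟨hq⟩
    have hqK : q ∣ Nat.card K := by
      rw [Subgroup.orderOf_coe] at hq1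
      exact hq1.trans (orderOf_dvd_natCard g)
    have hqπ : q ∈ σ ∪ τ := hK q hq hqK
    have hqp : q ≠ p := by
      rintro rfl
      rw [Subgroup.orderOf_coe] at hq1
      have := Nat.Coprime.eq_one_of_dvd hcop.symm hq1
      exact hq.one_lt.ne' this
    obtain ⟨T, hTc, hTi⟩ := S.exists_sylow_centralizer p P hPs hP q hqp hqπ
    have hT' : MulAut.conj x • T ≤ centralizer (Q' : Set G) := by
      intro t ht
      rw [mem_conj_smul'] at ht
      rw [Subgroup.mem_centralizer_iff]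
      intro y hy
      have hy' := hx hy
      rw [mem_conj_smul'] at hy'
      have h1 := (Subgroup.mem_centralizer_iff.mp (hTc ht)) _ hy'
      have : y * t = x * ((x⁻¹ * y * x) * (x⁻¹ * t * x)) * x⁻¹ := by group
      rw [this, h1]; group
    apply hTi
    have h1 : (centralizer (Q' : Set G)).relIndex (normalizer (Q' : Set G)) ∣
        (centralizer (Q' : Set G)).index :=
      Subgroup.relIndex_dvd_index_of_le (centralizer_le_normalizer _)
    have h2 : (centralizer (Q' : Set G)).index ∣ (MulAut.conj x • T).index :=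
      Subgroup.index_dvd_of_le hT'
    rw [index_conj_smul] at h2
    exact hq2.trans (h1.trans h2)
  have hgC : (g : G) ∈ centralizer (Q' : Set G) :=
    mem_of_coprime_relIndex _ _ (centralizer_le_normalizer _)
      ((Subgroup.normal_subgroupOf_iff_le_normalizer (centralizer_le_normalizer _)).mp inferInstance)
      hgN hcop'
  rw [Subgroup.mem_centralizer_iff]
  intro h hh
  have := (Subgroup.mem_centralizer_iff.mp hgC) (h : G) ⟨h, hh, rfl⟩
  exact Subtype.ext this

/-- every `π`-subgroup lies in a conjugate of `H` -/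
theorem Setup.exists_conj (S : Setup σ τ Hs Ht) : ∀ (n : ℕ) (K : Subgroup G), Nat.card K = n →
    Cfsg.IsPiSubgroup (σ ∪ τ) K → ∃ g : G, K ≤ MulAut.conj g • (Hs ⊔ Ht) := by
  intro n
  induction n using Nat.strong_induction_on with
  | _ n ih =>
    intro K hn hK
    by_cases hτ : Cfsg.IsPiSubgroup τ K
    · obtain ⟨g, hg⟩ := S.tau_conj K hτ
      exact ⟨g, hg.trans (conj_smul_mono g le_sup_right)⟩
    · unfold Cfsg.IsPiSubgroup at hτ
      push Not at hτ
      obtain ⟨p, hp, hpK, hpτ⟩ := hτ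
      haveI : Fact p.Prime := ⟨hp⟩
      have hpσ : p ∈ σ := by
        rcases hK p hp hpK with h | h
        · exact h
        · exact absurd h hpτ
      obtain ⟨N₀, hN₀n, hN₀c, k, hN₀i⟩ := npc_of_frobCond (Nat.card K) K rfl (S.frobCond p hpσ K hK)
      set N' := N₀.map K.subtype with hN'
      have hcardN' : Nat.card N' = Nat.card N₀ :=
        Subgroup.card_map_of_injective K.subtype_injective
      have hmul : Nat.card N₀ * p ^ k = Nat.card K := by rw [← hN₀i]; exact N₀.card_mul_index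
      have hk : k ≠ 0 := by
        rintro rfl
        rw [pow_zero, mul_one] at hmul
        rw [← hmul] at hpK
        have := Nat.Coprime.eq_one_of_dvd hN₀c.symm hpK
        exact hp.one_lt.ne' this
      have hlt : Nat.card N' < n := by
        rw [hcardN', ← hn, ← hmul]
        have h1 : 1 < p ^ k := Nat.one_lt_pow hk hp.one_lt
        have h2 : 0 < Nat.card N₀ := Nat.card_pos
        nlinarith
      have hN'K : N' ≤ K := Subgroup.map_subtype_le _
      obtain ⟨g, hg⟩ := ih (Nat.card N') hlt N' rfl (isPiSubgroup_of_le hK hN'K)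
      obtain ⟨P, hPs, hP, hPi⟩ := S.exists_sylow p hpσ
      have hcopN' : (Nat.card N').Coprime p := by rw [hcardN']; exact hN₀c
      -- the conjugate of P centralizes N'
      have hPC : MulAut.conj g • P ≤ centralizer (N' : Set G) := by
        intro a ha
        rw [mem_conj_smul'] at ha
        rw [Subgroup.mem_centralizer_iff]
        intro y hy
        have hy' := hg hy
        rw [mem_conj_smul'] at hy'
        have hord : ¬ p ∣ orderOf (g⁻¹ * y * g) := by
          have h1 : g⁻¹ * y * g = MulAut.conj g⁻¹ y := by simp [MulAut.conj_apply]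
          rw [h1, MulEquiv.orderOf_eq]
          intro hdvd
          have h2 : p ∣ Nat.card N' := hdvd.trans (Subgroup.orderOf_dvd_natCard N' hy)
          have := Nat.Coprime.eq_one_of_dvd hcopN'.symm h2
          exact hp.one_lt.ne' this
        have h1 := S.commute p P hPs hP ha hy' hord
        have : y * a = g * ((g⁻¹ * y * g) * (g⁻¹ * a * g)) * g⁻¹ := by group
        rw [this, ← h1]; group
      obtain ⟨A₀⟩ : Nonempty (Sylow p K) := inferInstance
      set A := (A₀ : Subgroup K).map K.subtype with hA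
      have hAp : IsPGroup p A := A₀.isPGroup'.map _
      have hKN : K ≤ normalizer (N' : Set G) := by
        intro a ha
        rw [mem_normalizer_iff]
        intro y
        constructor
        · rintro ⟨y₀, hy₀, rfl⟩
          exact ⟨⟨a, ha⟩ * y₀ * ⟨a, ha⟩⁻¹, hN₀n.conj_mem y₀ hy₀ ⟨a, ha⟩, by simp⟩
        · rintro ⟨z₀, hz₀, hz⟩
          refine ⟨⟨a, ha⟩⁻¹ * z₀ * ⟨a, ha⟩, ?_, ?_⟩
          · have := hN₀n.conj_mem z₀ hz₀ (⟨a, ha⟩⁻¹)
            rwa [inv_inv] at this
          · have : K.subtype (⟨a, ha⟩⁻¹ * z₀ * ⟨a, ha⟩) = a⁻¹ * K.subtype z₀ * a := by simp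
            rw [this, hz]; group
      have hAK : A ≤ K := Subgroup.map_subtype_le _
      have hidx : ¬ p ∣ (centralizer (N' : Set G)).relIndex (normalizer (N' : Set G)) := by
        intro hdvd
        apply hPi
        have h1 : (centralizer (N' : Set G)).relIndex (normalizer (N' : Set G)) ∣
            (centralizer (N' : Set G)).index :=
          Subgroup.relIndex_dvd_index_of_le (centralizer_le_normalizer _)
        have h2 : (centralizer (N' : Set G)).index ∣ (MulAut.conj g • P).index :=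
          Subgroup.index_dvd_of_le hPC
        rw [index_conj_smul] at h2
        exact hdvd.trans (h1.trans h2)
      have hAC : A ≤ centralizer (N' : Set G) := by
        intro a ha
        apply mem_of_coprime_relIndex _ _ (centralizer_le_normalizer _)
          ((Subgroup.normal_subgroupOf_iff_le_normalizer (centralizer_le_normalizer _)).mp
            inferInstance) (hKN (hAK ha))
        obtain ⟨j, hj⟩ := (IsPGroup.iff_orderOf.mp hAp) ⟨a, ha⟩
        rw [Subgroup.orderOf_mk] at hj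
        rw [hj]
        exact Nat.Coprime.pow_left j ((Nat.Prime.coprime_iff_not_dvd hp).mpr hidx)
      have hidx2 : ¬ p ∣ (MulAut.conj g • P).relIndex (centralizer (N' : Set G)) := by
        intro hdvd
        apply hPi
        have h1 := hdvd.trans (Subgroup.relIndex_dvd_index_of_le hPC)
        rwa [index_conj_smul] at h1
      have hPp : IsPGroup p ↥(MulAut.conj g • P) := hP.map _
      obtain ⟨c, hcC, hc⟩ := exists_conj_mem_of_relIndex (centralizer (N' : Set G))
        (MulAut.conj g • P) A hPC hPp hidx2 hAC hAp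
      refine ⟨c * g, ?_⟩
      rw [← conj_smul_smul]
      have hKsup : K ≤ N' ⊔ A := by
        have h1 : N₀ ⊔ (A₀ : Subgroup K) = ⊤ :=
          (isComplement'_of_npc hN₀c ⟨k, hN₀i⟩ A₀).sup_eq_top
        have h2 : (N₀ ⊔ (A₀ : Subgroup K)).map K.subtype = N' ⊔ A := Subgroup.map_sup _ _ _
        rw [h1, ← MonoidHom.range_eq_map, Subgroup.range_subtype] at h2
        exact le_of_eq h2
      refine hKsup.trans (sup_le ?_ ?_)
      · intro y hy
        rw [mem_conj_smul']
        have h1 := (Subgroup.mem_centralizer_iff.mp hcC) y hy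
        have : c⁻¹ * y * c = y := by
          calc c⁻¹ * y * c = c⁻¹ * (y * c) := by group
            _ = c⁻¹ * (c * y) := by rw [h1]
            _ = y := by group
        rw [this]
        exact hg hy
      · exact hc.trans (conj_smul_mono c (conj_smul_mono g (hPs.trans le_sup_left)))

/-- Let σ and τ be disjoint sets of primes with union π. Suppose a finite group G has a Hall π-subgroup H which is the direct product of a nilpotent σ-subgroup and a τ-subgroup (two elementwise-commuting subgroups generating H), and that the maximal τ-subgroups of G are pairwise conjugate. Then the maximal π-subgroups of G are pairwise conjugate. -/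
theorem result {G : Type*} [Group G] [Finite G]
    (σ τ π : Set ℕ) (hπ : π = σ ∪ τ) (hd : Disjoint σ τ) (H Hs Ht : Subgroup G) (hH : Cfsg.IsPiHall π H)
    (hs : Cfsg.IsPiSubgroup σ Hs) (ht : Cfsg.IsPiSubgroup τ Ht) (hsn : Group.IsNilpotent Hs)
    (hjoin : Hs ⊔ Ht = H) (hcomm : ∀ a ∈ Hs, ∀ b ∈ Ht, a * b = b * a) (hD : Cfsg.IsDPiGroup τ G) :
    Cfsg.IsDPiGroup π G := by
  subst hπ
  subst hjoin
  have S : Setup σ τ Hs Ht := ⟨hd, hH, hs, ht, hsn, hcomm, hD⟩
  have hHpi : Cfsg.IsPiSubgroup (σ ∪ τ) (Hs ⊔ Ht) := hH.1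
  have key : ∀ K : Subgroup G, Maximal (Cfsg.IsPiSubgroup (σ ∪ τ)) K →
      ∃ g : G, K = MulAut.conj g • (Hs ⊔ Ht) := by
    intro K hK
    obtain ⟨g, hg⟩ := S.exists_conj _ K rfl hK.prop
    exact ⟨g, le_antisymm hg (hK.2 (isPiSubgroup_conj hHpi g) hg)⟩
  intro K₁ K₂ hK₁ hK₂
  obtain ⟨g₁, rfl⟩ := key K₁ hK₁
  obtain ⟨g₂, rfl⟩ := key K₂ hK₂
  refine ⟨g₂ * g₁⁻¹, ?_⟩
  change _ = MulAut.conj (g₂ * g₁⁻¹) • (MulAut.conj g₁ • (Hs ⊔ Ht))
  rw [conj_smul_smul, inv_mul_cancel_right]

end Cfsg.Agent.S4334
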