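import Mathlib
import Cfsg.Statements.S4269
import Cfsg.Agent.Lib.Helper19.Conj
import Cfsg.Agent.S4334

set_option autoImplicit false
open Cfsg

namespace Cfsg.Agent.S4269

open Cfsg.Agent.Helper19
open scoped commutatorElement

variable {G : Type*} [Group G]

/-- if `H` normalizes `W`, the elements of `W ⊔ H` are products `w * h` -/
theorem exists_mul_of_mem_sup' {H W : Subgroup G}
    (hn : ∀ h ∈ H, ∀ w ∈ W, h * w * h⁻¹ ∈ W) {x : G} (hx : x ∈ W ⊔ H) :
    ∃ w ∈ W, ∃ h ∈ H, x = w * h := by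
  rw [Subgroup.sup_eq_closure] at hx
  refine Subgroup.closure_induction ?_ ?_ ?_ ?_ hx
  · rintro x (hx | hx)
    · exact ⟨x, hx, 1, H.one_mem, by simp⟩
    · exact ⟨1, W.one_mem, x, hx, by simp⟩
  · exact ⟨1, W.one_mem, 1, H.one_mem, by simp⟩
  · rintro _ _ _ _ ⟨w₁, hw₁, h₁, hh₁, rfl⟩ ⟨w₂, hw₂, h₂, hh₂, rfl⟩
    exact ⟨w₁ * (h₁ * w₂ * h₁⁻¹), W.mul_mem hw₁ (hn h₁ hh₁ w₂ hw₂), h₁ * h₂, H.mul_mem hh₁ hh₂,
      by group⟩
  · rintro _ _ ⟨w, hw, h, hh, rfl⟩
    refine ⟨h⁻¹ * w⁻¹ * h⁻¹⁻¹, hn h⁻¹ (H.inv_mem hh) w⁻¹ (W.inv_mem hw), h⁻¹, H.inv_mem hh, by group⟩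

theorem conj_mem_of_map_eq {U : Subgroup G} {h : G}
    (hU : U.map (MulAut.conj h).toMonoidHom = U) {u : G} (hu : u ∈ U) : h * u * h⁻¹ ∈ U := by
  have := conj_mem_map_conj U h u hu
  rwa [hU] at this

theorem commutator_le_of_invariant {H U : Subgroup G}
    (hU : ∀ h ∈ H, U.map (MulAut.conj h).toMonoidHom = U) : ⁅H, U⁆ ≤ U := by
  rw [Subgroup.commutator_le]
  intro h hh u hu
  rw [commutatorElement_def]
  exact U.mul_mem (conj_mem_of_map_eq (hU h hh) hu) (U.inv_mem hu)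

theorem commutator_invariant {H U : Subgroup G}
    (hU : ∀ h ∈ H, U.map (MulAut.conj h).toMonoidHom = U) (h : G) (hh : h ∈ H) :
    (⁅H, U⁆).map (MulAut.conj h).toMonoidHom = ⁅H, U⁆ := by
  rw [Subgroup.map_commutator, map_conj_eq_self_of_mem H h hh, hU h hh]

/-- Let G be a finite group, V an abelian normal subgroup and H a subgroup with HV = G. Then H is pronormal in G (H and gHg⁻¹ are conjugate inside the subgroup they generate, for every g) if and only if every H-invariant subgroup U of V satisfies U = N_U(H)·[H, U], that is, U is the join of U ∩ N_G(H) and the commutator subgroup [H, U]. -/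
theorem result {G : Type*} [Group G] [Finite G]
    (V : Subgroup G) [V.Normal] (hV : IsMulCommutative ↥V) (H : Subgroup G) (hHV : H ⊔ V = ⊤) :
    Cfsg.IsPronormal H ↔
      ∀ U : Subgroup G, U ≤ V → (∀ h ∈ H, U.map (MulAut.conj h).toMonoidHom = U) →
        U = (U ⊓ Subgroup.normalizer (H : Set G)) ⊔ ⁅H, U⁆ := by
  have hVn : V.Normal := inferInstance
  have hcomm : ∀ a ∈ V, ∀ b ∈ V, a * b = b * a := by
    intro a ha b hb
    exact congrArg Subtype.val (hV.is_comm.comm ⟨a, ha⟩ ⟨b, hb⟩)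
  constructor
  · intro hP U hUV hUinv
    have hWU : ⁅H, U⁆ ≤ U := commutator_le_of_invariant hUinv
    apply le_antisymm _ (sup_le inf_le_left hWU)
    intro u hu
    obtain ⟨x, hx, hxe⟩ := hP u
    have hsub : H ⊔ H.map (MulAut.conj u).toMonoidHom ≤ ⁅H, U⁆ ⊔ H := by
      apply sup_le le_sup_right
      intro y hy
      rw [mem_map_conj] at hy
      have h1 : ⁅u⁻¹ * y * u, u⁆ ∈ ⁅H, U⁆ := Subgroup.commutator_mem_commutator hy hu
      have h2 : y = (⁅u⁻¹ * y * u, u⁆)⁻¹ * (u⁻¹ * y * u) := by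
        rw [commutatorElement_def]; group
      rw [h2]
      exact Subgroup.mul_mem_sup (Subgroup.inv_mem _ h1) hy
    obtain ⟨w, hw, h, hh, rfl⟩ := exists_mul_of_mem_sup'
      (fun h hh w hw => conj_mem_of_map_eq (commutator_invariant hUinv h hh) hw) (hsub hx)
    rw [map_conj_mul H w h, map_conj_eq_self_of_mem H h hh] at hxe
    have hn : w⁻¹ * u ∈ Subgroup.normalizer (H : Set G) := by
      rw [mem_normalizer_iff_map_conj, map_conj_mul, hxe, map_conj_inv_map_conj]
    have hnU : w⁻¹ * u ∈ U := U.mul_mem (U.inv_mem (hWU hw)) hu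
    have : u = w * (w⁻¹ * u) := by group
    rw [this, sup_comm]
    exact Subgroup.mul_mem_sup hw ⟨hnU, hn⟩
  · intro hcrit g
    have hg : g ∈ V ⊔ H := by rw [sup_comm, hHV]; trivial
    rw [Subgroup.mem_sup_of_normal_left] at hg
    obtain ⟨v, hv, h, hh, rfl⟩ := hg
    have e : H.map (MulAut.conj (v * h)).toMonoidHom = H.map (MulAut.conj v).toMonoidHom := by
      rw [map_conj_mul, map_conj_eq_self_of_mem H h hh]
    rw [e]
    -- the smallest `H`-invariant subgroup containing `v`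
    let S : Set G := {y | ∃ k ∈ H, y = k * v * k⁻¹}
    let U : Subgroup G := Subgroup.closure S
    have hSV : S ⊆ V := by
      rintro _ ⟨k, -, rfl⟩
      exact hVn.conj_mem v hv k
    have hUV : U ≤ V := (Subgroup.closure_le V).mpr hSV
    have hvU : v ∈ U := Subgroup.subset_closure ⟨1, H.one_mem, by simp⟩
    have hUle : ∀ k ∈ H, U.map (MulAut.conj k).toMonoidHom ≤ U := by
      intro k hk
      rw [MonoidHom.map_closure, Subgroup.closure_le]
      rintro _ ⟨_, ⟨k', hk', rfl⟩, rfl⟩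
      apply Subgroup.subset_closure
      exact ⟨k * k', H.mul_mem hk hk', by simp [mul_assoc]⟩
    have hUinv : ∀ k ∈ H, U.map (MulAut.conj k).toMonoidHom = U := by
      intro k hk
      apply le_antisymm (hUle k hk)
      have h1 := Subgroup.map_mono (f := (MulAut.conj k).toMonoidHom) (hUle k⁻¹ (H.inv_mem hk))
      rwa [map_conj_map_conj_inv] at h1
    have hUeq := hcrit U hUV hUinv
    -- `[H, U] ≤ ⟨H, H^v⟩`
    have hJ : ∀ k ∈ H, ∀ u ∈ U, ⁅k, u⁆ ∈ H ⊔ H.map (MulAut.conj v).toMonoidHom := by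
      intro k hk u hu
      induction hu using Subgroup.closure_induction generalizing k with
      | mem y hy =>
        obtain ⟨k', hk', rfl⟩ := hy
        have h1 : ⁅k, k' * v * k'⁻¹⁆ = k' * ((k'⁻¹ * k * k') * (v * (k'⁻¹ * k * k')⁻¹ * v⁻¹)) * k'⁻¹ := by
          rw [commutatorElement_def]; group
        rw [h1]
        have hkk : k'⁻¹ * k * k' ∈ H := H.mul_mem (H.mul_mem (H.inv_mem hk') hk) hk'
        have h2 : v * (k'⁻¹ * k * k')⁻¹ * v⁻¹ ∈ H.map (MulAut.conj v).toMonoidHom :=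
          conj_mem_map_conj H v _ (H.inv_mem hkk)
        have h3 : k' ∈ H ⊔ H.map (MulAut.conj v).toMonoidHom :=
          (le_sup_left : H ≤ _) hk'
        exact Subgroup.mul_mem _ (Subgroup.mul_mem _ h3 (Subgroup.mul_mem_sup hkk h2))
          (Subgroup.inv_mem _ h3)
      | one => simp
      | mul a b ha hb iha ihb =>
        have haV : a ∈ V := hUV ha
        have hbV : b ∈ V := hUV hb
        have h1 : ⁅k, b⁆ ∈ V := by
          rw [commutatorElement_def]
          exact V.mul_mem (hVn.conj_mem b hbV k) (V.inv_mem hbV)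
        have h2 : ⁅k, a * b⁆ = ⁅k, a⁆ * ⁅k, b⁆ := by
          have h3 := hcomm _ h1 a⁻¹ (V.inv_mem haV)
          calc ⁅k, a * b⁆ = (k * a * k⁻¹) * (⁅k, b⁆ * a⁻¹) := by
                rw [commutatorElement_def, commutatorElement_def]; group
            _ = (k * a * k⁻¹) * (a⁻¹ * ⁅k, b⁆) := by rw [h3]
            _ = ⁅k, a⁆ * ⁅k, b⁆ := by
                rw [commutatorElement_def, commutatorElement_def]; group
        rw [h2]
        exact Subgroup.mul_mem _ (iha k hk) (ihb k hk)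
      | inv a ha iha =>
        have haV : a ∈ V := hUV ha
        have h1 : k * a⁻¹ * k⁻¹ ∈ V := hVn.conj_mem _ (V.inv_mem haV) k
        have h2 : ⁅k, a⁻¹⁆ = (⁅k, a⁆)⁻¹ := by
          have h3 := hcomm _ h1 a haV
          calc ⁅k, a⁻¹⁆ = (k * a⁻¹ * k⁻¹) * a := by rw [commutatorElement_def]; group
            _ = a * (k * a⁻¹ * k⁻¹) := h3
            _ = (⁅k, a⁆)⁻¹ := by rw [commutatorElement_def]; group
        rw [h2]
        exact Subgroup.inv_mem _ (iha k hk)
    have hWJ : ⁅H, U⁆ ≤ H ⊔ H.map (MulAut.conj v).toMonoidHom :=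
      Subgroup.commutator_le.mpr hJ
    have hWU : ⁅H, U⁆ ≤ U := commutator_le_of_invariant hUinv
    -- decompose `v`
    have hv' : v ∈ (U ⊓ Subgroup.normalizer (H : Set G)) ⊔ ⁅H, U⁆ := by rw [← hUeq]; exact hvU
    obtain ⟨n, hn, w, hw, hvnw⟩ := Cfsg.Agent.S4334.exists_mul_of_mem_sup
      (Hs := U ⊓ Subgroup.normalizer (H : Set G)) (Ht := ⁅H, U⁆)
      (fun a ha b hb => hcomm a (hUV (Subgroup.mem_inf.mp ha).1) b (hUV (hWU hb))) hv'
    have hvwn : v = w * n := by
      rw [hvnw]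
      exact hcomm n (hUV hn.1) w (hUV (hWU hw))
    refine ⟨w, hWJ hw, ?_⟩
    rw [hvwn, map_conj_mul, (mem_normalizer_iff_map_conj H n).mp hn.2]

end Cfsg.Agent.S4269
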