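import Cfsg.Statements.S4274
import Cfsg.Agent.Lib.Helper10.J1Sieve
import Cfsg.Agent.Lib.Helper24.J1RED
import Cfsg.Agent.Lib.Helper1.Ord15960
import Cfsg.Agent.Lib.Helper24.Ord7980
import Cfsg.Agent.Lib.Helper26.Ord87780

set_option autoImplicit false
open Cfsg

namespace Cfsg.Agent.S4274

/-- A finite group of order 175560 = 2³·3·5·7·11·19 is either simple or has a normal Sylow 19-subgroup. -/
theorem result {G : Type*} [Group G] [Finite G] (hG : Nat.card G = 175560) : IsSimpleGroup G ∨ ∀ P : Sylow 19 G, (P : Subgroup G).Normal := by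
  by_cases hs : IsSimpleGroup G
  · exact Or.inl hs
  · right
    intro P
    exact Cfsg.Agent.Helper10.J1Ord.normal_sylow19_of_no_simple
      (fun d hd hne X _ _ _ hX => Cfsg.Agent.Helper10.J1Ord.no_simple_19_mul
        (fun h => Cfsg.Agent.Helper3.SmallOrd.no_simple_7980 h)
        (fun h => Cfsg.Agent.Helper3.SmallOrd.no_simple_15960 h)
        (fun h => Cfsg.Agent.Helper3.SmallOrd.no_simple_87780 h) d hd hne X hX) hG hs P

end Cfsg.Agent.S4274
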