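import Mathlib
import Cfsg.Statements.S4275

set_option autoImplicit false
open Cfsg

namespace Cfsg.Agent.S4275

open MulAction

/-- Let G be a transitive group of permutations of a finite set Ω, let o ∈ Ω, and let α be an automorphism of G. Then α is induced by conjugation by a permutation of Ω normalizing G if and only if the image under α of the stabilizer of o fixes some point of Ω. -/
theorem result {Ω : Type*} [Fintype Ω] (G : Subgroup (Equiv.Perm Ω)) (htr : MulAction.IsPretransitive G Ω) (o : Ω) (α : G ≃* G) : (∃ σ : Equiv.Perm Ω, σ ∈ Subgroup.normalizer (G : Set (Equiv.Perm Ω)) ∧ ∀ g : G, ((α g : G) : Equiv.Perm Ω) = σ * (g : Equiv.Perm Ω) * σ⁻¹) ↔ ∃ ω : Ω, ∀ g ∈ (MulAction.stabilizer G o).map α.toMonoidHom, g • ω = ω := by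
  classical
  constructor
  · rintro ⟨σ, -, hσ⟩
    refine ⟨σ o, ?_⟩
    rintro _ ⟨h, hh, rfl⟩
    have hho : (h : Equiv.Perm Ω) o = o := hh
    show ((α h : G) : Equiv.Perm Ω) (σ o) = σ o
    rw [hσ h]
    simp [hho]
  · rintro ⟨ω, hω⟩
    have hle : (stabilizer G o).map α.toMonoidHom ≤ stabilizer G ω := fun g hg => hω g hg
    have hcard : Nat.card (stabilizer G ω) = Nat.card (stabilizer G o) := by
      obtain ⟨g, hg⟩ := MulAction.exists_smul_eq G o ω
      exact (Nat.card_congr (stabilizerEquivStabilizer hg.symm).toEquiv).symm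
    have heq : (stabilizer G o).map α.toMonoidHom = stabilizer G ω := by
      apply Subgroup.eq_of_le_of_card_ge hle
      rw [hcard]
      exact le_of_eq (Nat.card_congr (Subgroup.equivMapOfInjective _ _
        α.injective).toEquiv)
    have hmem : ∀ x : G, x ∈ stabilizer G o ↔ α x ∈ stabilizer G ω := by
      intro x
      rw [← heq]
      constructor
      · intro hx
        exact ⟨x, hx, rfl⟩
      · rintro ⟨y, hy, hyx⟩
        have : y = x := α.injective hyx
        rwa [← this]
    have key : ∀ g g' : G, g • o = g' • o ↔ α g • ω = α g' • ω := by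
      intro g g'
      have h1 : g • o = g' • o ↔ g⁻¹ * g' ∈ stabilizer G o := by
        rw [mem_stabilizer_iff, mul_smul, inv_smul_eq_iff]
        exact eq_comm
      have h2 : α g • ω = α g' • ω ↔ α (g⁻¹ * g') ∈ stabilizer G ω := by
        rw [mem_stabilizer_iff, map_mul, map_inv, mul_smul, inv_smul_eq_iff]
        exact eq_comm
      rw [h1, h2]
      exact hmem _
    have hex : ∀ x : Ω, ∃ g : G, g • o = x := fun x => MulAction.exists_smul_eq G o x
    let f : Ω → Ω := fun x => α (Classical.choose (hex x)) • ω
    have hf : ∀ g : G, f (g • o) = α g • ω := by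
      intro g
      have := Classical.choose_spec (hex (g • o))
      exact (key _ _).mp this
    have hinj : Function.Injective f := by
      intro x y hxy
      have hx := Classical.choose_spec (hex x)
      have hy := Classical.choose_spec (hex y)
      have : Classical.choose (hex x) • o = Classical.choose (hex y) • o := (key _ _).mpr hxy
      rw [hx, hy] at this
      exact this
    have hbij : Function.Bijective f := Finite.injective_iff_bijective.mp hinj
    let σ : Equiv.Perm Ω := Equiv.ofBijective f hbij
    have hσ : ∀ (g : G) (x : Ω), σ (g • x) = α g • σ x := by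
      intro g x
      obtain ⟨h, rfl⟩ := hex x
      show f (g • h • o) = α g • f (h • o)
      rw [← mul_smul, hf, hf, map_mul, mul_smul]
    have hconj : ∀ g : G, ((α g : G) : Equiv.Perm Ω) = σ * (g : Equiv.Perm Ω) * σ⁻¹ := by
      intro g
      ext x
      have := hσ g (σ⁻¹ x)
      have h3 : σ (σ⁻¹ x) = x := by simp
      rw [h3] at this
      show ((α g : G) : Equiv.Perm Ω) x = σ ((g : Equiv.Perm Ω) (σ⁻¹ x))
      exact this.symm
    refine ⟨σ, ?_, hconj⟩
    apply Subgroup.mem_normalizer_fintype
    intro n hn
    have := hconj ⟨n, hn⟩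
    show σ * n * σ⁻¹ ∈ G
    rw [← this]
    exact (α ⟨n, hn⟩).2

end Cfsg.Agent.S4275
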