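import Mathlib
import Cfsg.Statements.S4277
import Cfsg.Agent.Lib.Helper1.OutPrimeB

set_option autoImplicit false
open Cfsg

namespace Cfsg.Agent.S4277

open Cfsg.Agent.Helper1.OutPrime

/-- A case of the Schreier conjecture: if a finite simple group G has a subgroup of prime index, then the outer automorphism group of G is solvable. -/
theorem result {G : Type*} [Group G] [Finite G] [IsSimpleGroup G] (H : Subgroup G) (hH : H.index.Prime) : Group.IsSolvable (Cfsg.Out G) := by
  classical
  by_cases hsol : Group.IsSolvable G
  · -- the commutative case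
    have hcomm : ∀ a b : G, a * b = b * a := IsSimpleGroup.comm_iff_isSolvable.mpr hsol
    have hHn : H.Normal := ⟨fun n hn g => by rw [hcomm g n, mul_inv_cancel_right]; exact hn⟩
    have hHbot : H = ⊥ := by
      rcases hHn.eq_bot_or_eq_top with h | h
      · exact h
      · rw [h, Subgroup.index_top] at hH
        exact absurd hH Nat.not_prime_one
    have hcard : (Nat.card G).Prime := by
      rw [← Subgroup.index_bot, ← hHbot]
      exact hH
    haveI : Fact (Nat.card G).Prime := ⟨hcard⟩
    haveI : IsCyclic G := isCyclic_of_prime_card rfl
    exact out_isSolvable_of_isCyclic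
  · -- the nonabelian case
    haveI : Fintype (G ⧸ H) := Fintype.ofFinite _
    have hker : (MulAction.toPermHom G (G ⧸ H)).ker = ⊥ := by
      rcases (MulAction.toPermHom G (G ⧸ H)).normal_ker.eq_bot_or_eq_top with h | h
      · exact h
      · exfalso
        have hHtop : H = ⊤ := by
          rw [eq_top_iff]
          intro g _
          have hg : g ∈ (MulAction.toPermHom G (G ⧸ H)).ker := by rw [h]; trivial
          have h1 : MulAction.toPermHom G (G ⧸ H) g = 1 := MonoidHom.mem_ker.mp hg
          have h2 : g • (QuotientGroup.mk 1 : G ⧸ H) = QuotientGroup.mk 1 := by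
            have := congrArg (fun s : Equiv.Perm (G ⧸ H) => s (QuotientGroup.mk 1)) h1
            simpa using this
          rw [MulAction.Quotient.smul_mk, smul_eq_mul, mul_one] at h2
          have h3 := QuotientGroup.eq.mp h2
          simpa using h3
        rw [hHtop, Subgroup.index_top] at hH
        exact Nat.not_prime_one hH
    have hinj : Function.Injective (MulAction.toPermHom G (G ⧸ H)) :=
      (MonoidHom.ker_eq_bot_iff _).mp hker
    have hcardΩ : Fintype.card (G ⧸ H) = H.index := by
      rw [← Nat.card_eq_fintype_card]
      rfl
    haveI : MulAction.IsPretransitive (MulAction.toPermHom G (G ⧸ H)).range (G ⧸ H) := by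
      constructor
      intro x y
      obtain ⟨g, hg⟩ := MulAction.exists_smul_eq G x y
      exact ⟨⟨MulAction.toPermHom G (G ⧸ H) g, g, rfl⟩, hg⟩
    have hns : ¬ Group.IsSolvable (MulAction.toPermHom G (G ⧸ H)).range := fun h =>
      hsol (Group.isSolvable_of_isSolvable_injective (MonoidHom.ofInjective hinj).injective)
    haveI := out_solvable_perm (hcardΩ ▸ hH) (MulAction.toPermHom G (G ⧸ H)).range hns
    exact out_isSolvable_of_mulEquiv (MonoidHom.ofInjective hinj)

end Cfsg.Agent.S4277
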