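import Mathlib
import Cfsg.Statements.S4282
import Cfsg.Agent.Lib.Helper4.ThBRep

set_option maxHeartbeats 800000

namespace Cfsg.Agent.S4282

open Cfsg.Agent.Helper4.ThB Module

theorem result {G : Type*} [Group G] [Finite G] (p q : ℕ) [Fact p.Prime] [Fact q.Prime] (hpq : p ≠ q) (Q : Subgroup G) [Q.Normal] (hQ : IsPGroup q Q) (x : G) (hx : IsPGroup p (Subgroup.zpowers x)) (hgen : Q ⊔ Subgroup.zpowers x = ⊤) (hC : ∀ y ∈ Subgroup.zpowers x, y ≠ 1 → Subgroup.centralizer ({y} : Set G) = Subgroup.zpowers x ⊔ Subgroup.center G) {K : Type*} [Field K] [IsAlgClosed K] [CharP K p] {V : Type*} [AddCommGroup V] [Module K V] [FiniteDimensional K V] [Nontrivial V] (ρ : Representation K G V) (hfaith : Function.Injective ρ) (hirr : ∀ W : Submodule K V, (∀ g ∈ Q, Submodule.map (ρ g) W ≤ W) → W = ⊥ ∨ W = ⊤) (s : ℕ) (hs : (ρ x - 1) ^ s = 0) (hmin : ∀ k < s, (ρ x - 1) ^ k ≠ 0) : Nat.card (Subgroup.zpowers x) - 1 ≤ s ∧ s ≤ Nat.card (Subgroup.zpowers x) ∧ (s = Nat.card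 (Subgroup.zpowers x) - 1 → (∃ b : ℕ, Nat.card (Subgroup.zpowers x) - 1 = q ^ b) ∧ ¬ IsMulCommutative Q) := by
  classical
  have hpp : p.Prime := Fact.out
  have hqp : q.Prime := Fact.out
  set r := repEquiv ρ with hr
  have hrinj : Function.Injective r := repEquiv_injective ρ hfaith
  set QQ : Subgroup (V ≃ₗ[K] V) := Q.map r with hQQ
  haveI : Finite QQ := by
    rw [hQQ]
    exact Finite.of_surjective (fun g : Q => (⟨r g, ⟨g, g.2, rfl⟩⟩ : Q.map r))
      (by rintro ⟨_, g, hg, rfl⟩; exact ⟨⟨g, hg⟩, rfl⟩)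
  have hQQp : IsPGroup q QQ := hQ.map r
  obtain ⟨n, hn⟩ := (IsPGroup.iff_card (p := p)).mp hx
  rw [Nat.card_zpowers] at hn
  have hcardP : Nat.card (Subgroup.zpowers x) = p ^ n := by rw [Nat.card_zpowers]; exact hn
  have hPpos : 0 < p ^ n := pos_of_ne_zero (pow_ne_zero _ hpp.ne_zero)
  -- coprimality
  have hcop : (Nat.card QQ).Coprime p := by
    obtain ⟨m, hm⟩ := (IsPGroup.iff_card (p := q)).mp hQQp
    rw [hm]
    exact Nat.Coprime.pow_left _ ((Nat.coprime_primes hqp hpp).mpr (Ne.symm hpq))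
  -- irreducibility
  have hirr' : Irr (QQ : Set (V ≃ₗ[K] V)) := by
    intro W hW
    apply hirr W
    intro g hg
    rintro _ ⟨w, hw, rfl⟩
    exact hW (r g) ⟨g, hg, rfl⟩ w hw
  -- the acting element
  have hnorm : ∀ g ∈ QQ, r x * g * (r x)⁻¹ ∈ QQ := by
    rintro _ ⟨g, hg, rfl⟩
    refine ⟨x * g * x⁻¹, ‹Q.Normal›.conj_mem g hg x, ?_⟩
    rw [map_mul, map_mul, map_inv]
  have haP : r x ^ (p ^ n) = 1 := by
    rw [← map_pow, ← hn, pow_orderOf_eq_one, map_one]
  -- scalars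
  have hcenter : ∀ g : G, g ∈ Subgroup.center G → ∃ c : K, op (r g) = c • (1 : Module.End K V) := by
    intro g hg
    apply schur hirr'
    rintro _ ⟨h, _, rfl⟩
    rw [← op_mul, ← op_mul, ← map_mul, ← map_mul]
    congr 2
    exact (Subgroup.mem_center_iff.mp hg h).symm
  have hfix : ∀ g ∈ QQ, ∀ i, 0 < i → i < p ^ n → r x ^ i * g * (r x ^ i)⁻¹ = g →
      ∃ c : K, op g = c • (1 : Module.End K V) := by
    rintro _ ⟨g, hg, rfl⟩ i hi0 hiP hcomm
    apply hcenter
    have hcomm' : x ^ i * g * (x ^ i)⁻¹ = g := by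
      apply hrinj
      rw [map_mul, map_mul, map_inv, map_pow]
      exact hcomm
    have hxi : x ^ i ≠ 1 := by
      intro h
      have := orderOf_dvd_of_pow_eq_one h
      rw [hn] at this
      exact absurd (Nat.le_of_dvd hi0 this) (not_le.mpr hiP)
    have hmem : g ∈ Subgroup.centralizer ({x ^ i} : Set G) := by
      rw [Subgroup.mem_centralizer_iff]
      intro y hy
      rw [Set.mem_singleton_iff] at hy
      subst hy
      have : x ^ i * g = g * x ^ i := by
        have := congrArg (· * x ^ i) hcomm'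
        simpa [mul_assoc] using this
      exact this
    rw [hC (x ^ i) (Subgroup.pow_mem _ (Subgroup.mem_zpowers x) i) hxi] at hmem
    have hmem' : g ∈ ((Subgroup.zpowers x ⊔ Subgroup.center G : Subgroup G) : Set G) := hmem
    rw [Subgroup.mul_normal] at hmem'
    obtain ⟨y, hy, z, hz, hyzg⟩ := hmem'
    change y * z = g at hyzg
    subst hyzg
    -- `(y z) ^ (p ^ n) = z ^ (p ^ n)` is central, and `y z` is a `q`-element
    have hyP : y ^ (p ^ n) = 1 := by
      obtain ⟨k, rfl⟩ := Subgroup.mem_zpowers_iff.mp hy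
      rw [← zpow_natCast, ← zpow_mul, mul_comm, zpow_mul, zpow_natCast, ← hn, pow_orderOf_eq_one,
        one_zpow]
    have hyz : Commute y z := (Subgroup.mem_center_iff.mp hz y)
    have hpowc : (y * z) ^ (p ^ n) ∈ Subgroup.center G := by
      rw [hyz.mul_pow, hyP, one_mul]
      exact Subgroup.pow_mem _ hz _
    obtain ⟨m, hm⟩ := hQ ⟨y * z, hg⟩
    have hm' : (y * z) ^ (q ^ m) = 1 := by
      have := congrArg Subtype.val hm
      simpa using this
    have hcop' : Nat.Coprime (p ^ n) (q ^ m) :=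
      Nat.Coprime.pow _ _ ((Nat.coprime_primes hpp hqp).mpr hpq)
    -- Bezout
    have hgcd : ((y * z) ^ (p ^ n)) ^ (Nat.gcdA (p ^ n) (q ^ m)) = y * z := by
      have hb := Nat.gcd_eq_gcd_ab (p ^ n) (q ^ m)
      rw [hcop'] at hb
      have h1 : (y * z) ^ ((1 : ℕ) : ℤ) = (y * z) ^ ((p ^ n : ℕ) * Nat.gcdA (p ^ n) (q ^ m)
          + (q ^ m : ℕ) * Nat.gcdB (p ^ n) (q ^ m)) := by rw [hb]
      rw [zpow_add, zpow_mul, zpow_mul, zpow_natCast, zpow_natCast, zpow_natCast, hm', one_zpow,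
        mul_one, pow_one] at h1
      exact h1.symm
    rw [← hgcd]
    exact Subgroup.zpow_mem _ hpowc _
  have hs' : (op (r x) - 1) ^ s = 0 := hs
  have hmin' : ∀ k < s, (op (r x) - 1) ^ k ≠ 0 := hmin
  have hmain := crit_main QQ hirr' hcop (r x) hnorm n haP hfix s hs' hmin'
  rw [hcardP]
  -- the case `s = 1`
  have hs1 : s = 1 → p ^ n = 1 := by
    intro h1
    rw [h1, pow_one, sub_eq_zero] at hs
    have hx1 : x = 1 := hfaith (by rw [hs, map_one])
    rw [← hn, hx1, orderOf_one]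
  rcases hmain with h | ⟨hdim, h | h⟩
  · refine ⟨by omega, by omega, fun h' => by omega⟩
  · have := hs1 h
    refine ⟨by omega, by omega, fun h' => by omega⟩
  · refine ⟨by omega, by omega, fun _ => ⟨?_, ?_⟩⟩
    · obtain ⟨b, hb⟩ := finrank_eq_prime_pow (K := K) q _ V QQ rfl hQQp hirr'
      exact ⟨b, by omega⟩
    · intro hcommQ
      have hsc : ∀ g ∈ (QQ : Set (V ≃ₗ[K] V)), ∃ c : K, op g = c • (1 : Module.End K V) := by
        rintro _ ⟨g, hg, rfl⟩
        apply schur hirr'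
        rintro _ ⟨h', hh', rfl⟩
        rw [← op_mul, ← op_mul, ← map_mul, ← map_mul]
        congr 2
        have := hcommQ.is_comm.comm (⟨g, hg⟩ : Q) ⟨h', hh'⟩
        exact congrArg Subtype.val this
      have h1 := finrank_eq_one_of_scalar hirr' hsc
      have := hs1 (by omega)
      omega

end Cfsg.Agent.S4282
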