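import Mathlib
import Cfsg.Statements.S4283
import Cfsg.Agent.S0035
import Cfsg.Agent.S4253
import Cfsg.Agent.Lib.Helper21.FreeAction

set_option autoImplicit false
open Cfsg

namespace Cfsg.Agent.S4283

open Pointwise Cfsg.Agent.S4253

section Frob

variable {Q : Type*} [Group Q]

/-- Basic Frobenius property for two conjugates. -/
theorem frob_conj {Hb : Subgroup Q} (hF : IsFrobeniusComplement Hb) (a b y : Q)
    (hya : y ∈ MulAut.conj a • Hb) (hyb : y ∈ MulAut.conj b • Hb) (hy : y ≠ 1) :
    a⁻¹ * b ∈ Hb := by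
  by_contra hg
  have h := hF.2.2 (a⁻¹ * b) hg
  rw [mem_conj_smul] at hya hyb
  have hz : a⁻¹ * y * a ∈ Hb ⊓ MulAut.conj (a⁻¹ * b) • Hb := by
    refine ⟨hya, ?_⟩
    apply (mem_conj_smul _ _ _).mpr
    have : (a⁻¹ * b)⁻¹ * (a⁻¹ * y * a) * (a⁻¹ * b) = b⁻¹ * y * b := by group
    rw [this]
    exact hyb
  rw [h, Subgroup.mem_bot] at hz
  apply hy
  have : y = a * (a⁻¹ * y * a) * a⁻¹ := by group
  rw [this, hz]
  group

theorem centralizer_kernel {Hb Kb : Subgroup Q} (hF : IsFrobeniusComplement Hb)
    (hK : frobeniusKernel Hb = (Kb : Set Q)) (x : Q) (hx : x ∈ Kb) (hx1 : x ≠ 1) (g : Q)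
    (hg : g * x = x * g) : g ∈ Kb := by
  by_contra hgK
  have hgK' : g ∉ frobeniusKernel Hb := by rw [hK]; exact hgK
  simp only [frobeniusKernel, Set.mem_ofPred_eq, not_or, not_forall, not_not] at hgK'
  obtain ⟨hg1, t, ht⟩ := hgK'
  have ht2 : g ∈ MulAut.conj (x * t) • Hb := by
    rw [mem_conj_smul] at ht ⊢
    have : (x * t)⁻¹ * g * (x * t) = t⁻¹ * (x⁻¹ * (g * x)) * t := by group
    rw [this, hg]
    have : t⁻¹ * (x⁻¹ * (x * g)) * t = t⁻¹ * g * t := by group
    rw [this]
    exact ht
  have h3 := frob_conj hF t (x * t) g ht ht2 hg1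
  have hx' : x ∈ frobeniusKernel Hb := by rw [hK]; exact hx
  rcases hx' with h | h
  · exact hx1 h
  · apply h t
    rw [mem_conj_smul]
    have : t⁻¹ * x * t = t⁻¹ * (x * t) := by group
    rw [this]
    exact h3

theorem centralizer_conj {Hb : Subgroup Q} (hF : IsFrobeniusComplement Hb) (t x : Q)
    (hx : x ∈ MulAut.conj t • Hb) (hx1 : x ≠ 1) (g : Q) (hg : g * x = x * g) :
    g ∈ MulAut.conj t • Hb := by
  have hx2 : x ∈ MulAut.conj (g * t) • Hb := by
    rw [mem_conj_smul] at hx ⊢
    have : (g * t)⁻¹ * x * (g * t) = t⁻¹ * (g⁻¹ * (x * g)) * t := by group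
    rw [this, ← hg]
    have : t⁻¹ * (g⁻¹ * (g * x)) * t = t⁻¹ * x * t := by group
    rw [this]
    exact hx
  have h3 := frob_conj hF t (g * t) x hx hx2 hx1
  rw [mem_conj_smul]
  have : t⁻¹ * g * t = t⁻¹ * (g * t) := by group
  rw [this]
  exact h3

/-- The order of a Frobenius complement divides the order of the kernel minus one. -/
theorem card_dvd_card_sub_one [Finite Q] {Hb Kb : Subgroup Q} (hF : IsFrobeniusComplement Hb)
    (hKn : Kb.Normal) (hdisj : Hb ⊓ Kb = ⊥) : Nat.card Hb ∣ Nat.card Kb - 1 := by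
  classical
  let T := {k : Q // k ∈ Kb ∧ k ≠ 1}
  letI : MulAction Hb T :=
    { smul := fun h k => ⟨(h : Q) * k.1 * (h : Q)⁻¹, hKn.conj_mem k.1 k.2.1 h, by
        intro h1
        apply k.2.2
        have : k.1 = (h : Q)⁻¹ * ((h : Q) * k.1 * (h : Q)⁻¹) * (h : Q) := by group
        rw [this, h1]
        group⟩
      one_smul := fun k => by
        apply Subtype.ext
        show ((1 : Hb) : Q) * k.1 * ((1 : Hb) : Q)⁻¹ = k.1
        simp
      mul_smul := fun a b k => by
        apply Subtype.ext
        show ((a * b : Hb) : Q) * k.1 * ((a * b : Hb) : Q)⁻¹ =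
          (a : Q) * ((b : Q) * k.1 * (b : Q)⁻¹) * (a : Q)⁻¹
        simp only [Subgroup.coe_mul]
        group }
  have hfree : ∀ (a : Hb) (k : T), a • k = k → a = 1 := by
    intro a k hak
    have h1 : (a : Q) * k.1 * (a : Q)⁻¹ = k.1 := congrArg Subtype.val hak
    by_contra ha
    have hkH : k.1 ∉ Hb := by
      intro hk
      have : k.1 ∈ Hb ⊓ Kb := ⟨hk, k.2.1⟩
      rw [hdisj, Subgroup.mem_bot] at this
      exact k.2.2 this
    have h2 := hF.2.2 k.1 hkH
    have h3 : (a : Q) ∈ Hb ⊓ MulAut.conj k.1 • Hb := by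
      refine ⟨a.2, ?_⟩
      apply (mem_conj_smul _ _ _).mpr
      have : k.1⁻¹ * (a : Q) * k.1 = (a : Q) := by
        calc k.1⁻¹ * (a : Q) * k.1 = k.1⁻¹ * ((a : Q) * k.1 * (a : Q)⁻¹) * (a : Q) := by group
          _ = (a : Q) := by rw [h1]; group
      rw [this]
      exact a.2
    rw [h2, Subgroup.mem_bot] at h3
    exact ha (Subtype.ext h3)
  have h := Cfsg.Agent.Helper21.card_dvd_of_free (A := Hb) (T := T) hfree
  have hT : Nat.card T = Nat.card Kb - 1 := by
    have e : T ≃ {k : Kb // k ≠ 1} :=
      { toFun := fun k => ⟨⟨k.1, k.2.1⟩, fun h => k.2.2 (congrArg Subtype.val h)⟩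
        invFun := fun k => ⟨k.1.1, k.1.2, fun h => k.2 (Subtype.ext h)⟩
        left_inv := fun k => rfl
        right_inv := fun k => rfl }
    rw [Nat.card_congr e]
    haveI := Fintype.ofFinite Kb
    rw [Nat.card_eq_fintype_card, Nat.card_eq_fintype_card]
    have := Fintype.card_subtype_compl (fun x : Kb => x = 1)
    rw [Fintype.card_subtype_eq] at this
    convert this
  rwa [hT] at h

end Frob

/-- Let G be a finite group with centre Z and let K, H be abelian subgroups of G containing Z such that G/Z is a Frobenius group with complement H/Z and kernel K/Z. Then the conjugacy class sizes of G are exactly 1, [G : K] and [G : H], and these two indices are coprime. (This is the converse half of the characterization of finite groups whose conjugacy class sizes are exactly 1, m and n with m and n coprime.) -/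
theorem result {G : Type*} [Group G] [Finite G] (K H : Subgroup G) (hZK : Subgroup.center G ≤ K) (hZH : Subgroup.center G ≤ H) (hK : IsMulCommutative K) (hH : IsMulCommutative H) (hFrob : Cfsg.IsFrobeniusComplement (H.map (QuotientGroup.mk' (Subgroup.center G)))) (hker : Cfsg.frobeniusKernel (H.map (QuotientGroup.mk' (Subgroup.center G))) = (K.map (QuotientGroup.mk' (Subgroup.center G)) : Set (G ⧸ Subgroup.center G))) : Set.range (fun x : G => (Subgroup.centralizer ({x} : Set G)).index) = ({1, K.index, H.index} : Set ℕ) ∧ K.index.Coprime H.index := by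
  classical
  set Z := Subgroup.center G with hZ
  set π := QuotientGroup.mk' Z with hπ
  set Hb := H.map π with hHb
  set Kb := K.map π with hKb
  have hπs : Function.Surjective π := QuotientGroup.mk'_surjective Z
  have hπker : π.ker = Z := QuotientGroup.ker_mk' Z
  -- Frobenius theorem
  obtain ⟨N, hN1, hN2, hN3⟩ := Cfsg.Agent.S0035.result Hb hFrob
  have hNK : N = Kb := SetLike.coe_injective (hN1.trans hker)
  rw [hNK] at hN2 hN3
  have hdisj : Hb ⊓ Kb = ⊥ := by
    rw [inf_comm]
    exact hN3.disjoint.eq_bot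
  -- membership lemmas
  have memK : ∀ g : G, π g ∈ Kb ↔ g ∈ K := by
    intro g
    constructor
    · rintro ⟨k, hk, hkg⟩
      have : k⁻¹ * g ∈ Z := by
        rw [← hπker, MonoidHom.mem_ker, map_mul, map_inv, hkg, inv_mul_cancel]
      have h2 : g = k * (k⁻¹ * g) := by group
      rw [h2]
      exact K.mul_mem hk (hZK this)
    · intro hg
      exact Subgroup.mem_map_of_mem π hg
  have memH : ∀ g : G, π g ∈ Hb ↔ g ∈ H := by
    intro g
    constructor
    · rintro ⟨k, hk, hkg⟩
      have : k⁻¹ * g ∈ Z := by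
        rw [← hπker, MonoidHom.mem_ker, map_mul, map_inv, hkg, inv_mul_cancel]
      have h2 : g = k * (k⁻¹ * g) := by group
      rw [h2]
      exact H.mul_mem hk (hZH this)
    · intro hg
      exact Subgroup.mem_map_of_mem π hg
  have memHt : ∀ t g : G, π g ∈ MulAut.conj (π t) • Hb ↔ t⁻¹ * g * t ∈ H := by
    intro t g
    rw [mem_conj_smul, ← memH, map_mul, map_mul, map_inv]
  have mem1 : ∀ g : G, π g = 1 ↔ g ∈ Z := by
    intro g
    exact QuotientGroup.eq_one_iff g
  -- indices
  have hKidx : K.index = Nat.card Hb := by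
    have h1 : Kb.index = K.index := by
      rw [hKb, Subgroup.index_map, hπker, sup_of_le_left hZK,
        MonoidHom.range_eq_top.mpr hπs, Subgroup.index_top, mul_one]
    rw [← h1]
    exact hN3.symm.index_eq_card
  have hHidx : H.index = Nat.card Kb := by
    have h1 : Hb.index = H.index := by
      rw [hHb, Subgroup.index_map, hπker, sup_of_le_left hZH,
        MonoidHom.range_eq_top.mpr hπs, Subgroup.index_top, mul_one]
    rw [← h1]
    exact hN3.index_eq_card
  have hdvd := card_dvd_card_sub_one hFrob hN2 hdisj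
  have hcop : K.index.Coprime H.index := by
    rw [hKidx, hHidx]
    have hpos : 0 < Nat.card Kb := Nat.card_pos
    have h1 : Nat.Coprime (Nat.card Kb - 1) (Nat.card Kb) := by
      have : Nat.card Kb = (Nat.card Kb - 1) + 1 := by omega
      rw [this, Nat.add_sub_cancel]
      simp
    exact Nat.Coprime.coprime_dvd_left hdvd h1
  refine ⟨?_, hcop⟩
  -- centralizers
  have hcentZ : ∀ x ∈ Z, (Subgroup.centralizer ({x} : Set G)).index = 1 := by
    intro x hx
    rw [Subgroup.index_eq_one, eq_top_iff]
    intro g _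
    rw [Subgroup.mem_centralizer_iff]
    intro y hy
    rw [Set.mem_singleton_iff] at hy
    rw [hy]
    exact (Subgroup.mem_center_iff.mp hx g).symm
  have hcentK : ∀ x ∈ K, x ∉ Z → Subgroup.centralizer ({x} : Set G) = K := by
    intro x hxK hxZ
    ext g
    rw [Subgroup.mem_centralizer_singleton_iff]
    constructor
    · intro hg
      rw [← memK]
      apply centralizer_kernel hFrob hker (π x) ((memK x).mpr hxK) (fun h => hxZ ((mem1 x).mp h))
      rw [← map_mul, ← map_mul, hg]
    · intro hg
      have := mul_comm' (⟨g, hg⟩ : K) ⟨x, hxK⟩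
      exact congrArg Subtype.val this
  have hcentH : ∀ t x : G, t⁻¹ * x * t ∈ H → x ∉ Z →
      (Subgroup.centralizer ({x} : Set G)).index = H.index := by
    intro t x hxH hxZ
    have : Subgroup.centralizer ({x} : Set G) = H.map ((MulAut.conj t).toMonoidHom) := by
      ext g
      rw [Subgroup.mem_centralizer_singleton_iff]
      constructor
      · intro hg
        have h1 : π g ∈ MulAut.conj (π t) • Hb := by
          apply centralizer_conj hFrob (π t) (π x) ((memHt t x).mpr hxH)
            (fun h => hxZ ((mem1 x).mp h))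
          rw [← map_mul, ← map_mul, hg]
        rw [memHt] at h1
        refine ⟨t⁻¹ * g * t, h1, ?_⟩
        simp only [MulEquiv.coe_toMonoidHom, MulAut.conj_apply]
        group
      · rintro ⟨h, hh, rfl⟩
        have := mul_comm' (⟨h, hh⟩ : H) ⟨t⁻¹ * x * t, hxH⟩
        have h2 : h * (t⁻¹ * x * t) = (t⁻¹ * x * t) * h := congrArg Subtype.val this
        simp only [MulEquiv.coe_toMonoidHom, MulAut.conj_apply]
        calc t * h * t⁻¹ * x = t * (h * (t⁻¹ * x * t)) * t⁻¹ := by group
          _ = t * ((t⁻¹ * x * t) * h) * t⁻¹ := by rw [h2]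
          _ = x * (t * h * t⁻¹) := by group
    rw [this]
    exact Subgroup.index_map_equiv H (MulAut.conj t)
  ext n
  simp only [Set.mem_range, Set.mem_insert_iff, Set.mem_singleton_iff]
  constructor
  · rintro ⟨x, rfl⟩
    by_cases hxZ : x ∈ Z
    · left; exact hcentZ x hxZ
    by_cases hxK : x ∈ K
    · right; left; rw [hcentK x hxK hxZ]
    · right; right
      have hxKb : π x ∉ frobeniusKernel Hb := by
        rw [hker]
        intro h
        exact hxK ((memK x).mp h)
      simp only [frobeniusKernel, Set.mem_ofPred_eq, not_or, not_forall, not_not] at hxKb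
      obtain ⟨_, tb, htb⟩ := hxKb
      obtain ⟨t, rfl⟩ := hπs tb
      exact hcentH t x ((memHt t x).mp htb) hxZ
  · rintro (rfl | rfl | rfl)
    · exact ⟨1, hcentZ 1 (Subgroup.one_mem _)⟩
    · -- an element of K outside Z
      have hKbne : Kb ≠ ⊥ := by
        intro h0
        have h1 : Nat.card Kb = 1 := by rw [h0]; exact Subgroup.card_bot
        rw [← hHidx] at h1
        have h2 : Hb.index = 1 := by
          rw [hHb, Subgroup.index_map, hπker, sup_of_le_left hZH,
            MonoidHom.range_eq_top.mpr hπs, Subgroup.index_top, mul_one, h1]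
        exact hFrob.2.1 (Subgroup.index_eq_one.mp h2)
      obtain ⟨⟨kb, hkb⟩, hkb1⟩ := (Subgroup.ne_bot_iff_exists_ne_one.mp hKbne)
      obtain ⟨x, hxK, rfl⟩ := hkb
      have hxZ : x ∉ Z := by
        intro h
        apply hkb1
        exact Subtype.ext ((mem1 x).mpr h)
      exact ⟨x, by rw [hcentK x hxK hxZ]⟩
    · -- an element of H outside Z
      obtain ⟨⟨hb, hhb⟩, hhb1⟩ := (Subgroup.ne_bot_iff_exists_ne_one.mp hFrob.1)
      obtain ⟨x, hxH, rfl⟩ := hhb
      have hxZ : x ∉ Z := by
        intro h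
        apply hhb1
        exact Subtype.ext ((mem1 x).mpr h)
      refine ⟨x, hcentH 1 x ?_ hxZ⟩
      simpa using hxH

end Cfsg.Agent.S4283
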