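import Cfsg.Statements.S4291
import Cfsg.Agent.Lib.Helper19.FC5Defs
import Cfsg.Agent.Lib.Helper19.FC5Uniq
import Cfsg.Agent.Lib.Helper19.FC5X
import Cfsg.Agent.Lib.Helper4.FC5U1
import Cfsg.Agent.Lib.Helper4.FC5U2
import Cfsg.Agent.Lib.Helper17.FC5QD
import Cfsg.Agent.Lib.Helper17.FC5CYC
import Cfsg.Agent.Lib.Helper1.FC5SOLVAux
import Cfsg.Agent.Lib.Helper16.FC5NS
import Cfsg.Agent.Lib.Helper5.FCQuot

set_option autoImplicit false
open Cfsg

namespace Cfsg.Agent.S4291

open Cfsg.Agent.Helper5 Cfsg.Agent.Helper16 Cfsg.Agent.Helper19.FC5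

/-- Let G be a finite group that occurs as a Frobenius complement. Then G has exactly one normal subgroup N such that every Sylow subgroup of N is cyclic and the quotient of G by N is trivial or isomorphic to one of the following five groups: the Klein four-group, the alternating group of degree 4, the symmetric group of degree 4, the alternating group of degree 5, the symmetric group of degree 5. (The quotient is described by a surjective homomorphism with kernel N; the Klein four-group is written as the dihedral group of order 4.) -/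
theorem result {G : Type*} [Group G] [Finite G]
    (hFC : (∃ (L : Type) (_ : Group L) (_ : Finite L) (H : Subgroup L), Cfsg.IsFrobeniusComplement H ∧ Nonempty (G ≃* H))) :
    ∃! N : Subgroup G, N.Normal ∧ (∀ (p : ℕ) [Fact p.Prime] (P : Sylow p N), IsCyclic P) ∧
      (N = ⊤ ∨
        (∃ f : G →* DihedralGroup 2, Function.Surjective f ∧ f.ker = N) ∨
        (∃ f : G →* alternatingGroup (Fin 4), Function.Surjective f ∧ f.ker = N) ∨
        (∃ f : G →* Equiv.Perm (Fin 4), Function.Surjective f ∧ f.ker = N) ∨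
        (∃ f : G →* alternatingGroup (Fin 5), Function.Surjective f ∧ f.ker = N) ∨
        (∃ f : G →* Equiv.Perm (Fin 5), Function.Surjective f ∧ f.ker = N)) := by
  have hF : FCFacts G := by
    obtain ⟨L, hLg, hLf, H, hH, ⟨e⟩⟩ := hFC
    exact fcFacts_of_embedding H hH (H.subtype.comp e.toMonoidHom)
      (H.subtype_injective.comp e.injective) (fun g => (e g).2)
  have hex : ∃ N : Subgroup G, N.Normal ∧ CycSyl N ∧ QuotAlt N := by
    by_cases hc : ∀ S : Sylow 2 G, IsCyclic S
    · exact ⟨⊤, inferInstance, Cfsg.Agent.Helper17.FC5CYC.cycSyl_top hF hc, Or.inl rfl⟩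
    · push Not at hc
      by_cases hsol : Group.IsSolvable G
      · exact Cfsg.Agent.Helper1.FC5SOLV.exists_of_solvable_aux
          (fun hC S' hU hnc => two_structure_core
            Cfsg.Agent.Helper17.FC5QD.exists_hom_dihedral_two hC S' hU hnc) hsol hF hc
      · obtain ⟨N, hNn, hNc, hq⟩ := Cfsg.Agent.Helper16.FC5NS.exists_of_nonsolvable hsol hFC
        refine ⟨N, hNn, hNc, ?_⟩
        rcases hq with hq | hq
        · exact Or.inr (Or.inr (Or.inr (Or.inr (Or.inl hq))))
        · exact Or.inr (Or.inr (Or.inr (Or.inr (Or.inr hq))))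
  obtain ⟨N, hNn, hNc, hq⟩ := hex
  refine ⟨N, ⟨hNn, hNc, hq⟩, ?_⟩
  rintro N' ⟨hNn', hNc', hq'⟩
  exact unique_core Cfsg.Agent.Helper4.FC5U.normal_cyc_a4 Cfsg.Agent.Helper4.FC5U.normal_cyc_s4
    Cfsg.Agent.Helper4.FC5U.normal_cyc_a5 Cfsg.Agent.Helper4.FC5U.normal_cyc_s5
    (fun M _ h => Cfsg.Agent.Helper4.FC5U.index_le_four hF M h) hNn' hNn hNc' hNc hq' hq

end Cfsg.Agent.S4291
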