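import Mathlib
import Cfsg.Statements.S4292
import Cfsg.Agent.Lib.Helper21.FrobLiftFrob
import Cfsg.Agent.Lib.Helper21.FrobProd
import Cfsg.Agent.Lib.Helper1.FpfAction

set_option autoImplicit false
open Cfsg

namespace Cfsg.Agent.S4292

open Cfsg.Agent.Helper21.FrobLift
open scoped Pointwise

/-- a nontrivial subgroup `H₁` of a Frobenius complement `H` (with kernel `K`) is a Frobenius
complement in `K ⊔ H₁` -/
theorem sub_complement {L : Type} [Group L] [Finite L] (H K H₁ : Subgroup L) [hKn : K.Normal]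
    (hH : Cfsg.IsFrobeniusComplement H) (hKH : K ⊓ H = ⊥) (hK : K ≠ ⊥) (hle : H₁ ≤ H)
    (hH₁ : H₁ ≠ ⊥) :
    Cfsg.IsFrobeniusComplement (H₁.subgroupOf (K ⊔ H₁)) := by
  have hdisj : ∀ x, x ∈ K → x ∈ H → x = 1 := by
    intro x hxK hxH
    have : x ∈ K ⊓ H := ⟨hxK, hxH⟩
    rwa [hKH, Subgroup.mem_bot] at this
  refine ⟨?_, ?_, ?_⟩
  · intro h
    apply hH₁
    rw [eq_bot_iff]
    intro x hx
    have h1 : (⟨x, (le_sup_right : H₁ ≤ K ⊔ H₁) hx⟩ : ↥(K ⊔ H₁)) ∈ H₁.subgroupOf (K ⊔ H₁) := by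
      rw [Subgroup.mem_subgroupOf]; exact hx
    rw [h, Subgroup.mem_bot] at h1
    rw [Subgroup.mem_bot]
    exact congrArg Subtype.val h1
  · intro h
    apply hK
    rw [eq_bot_iff]
    intro x hx
    have h1 : (⟨x, (le_sup_left : K ≤ K ⊔ H₁) hx⟩ : ↥(K ⊔ H₁)) ∈ H₁.subgroupOf (K ⊔ H₁) := by
      rw [h]; trivial
    rw [Subgroup.mem_subgroupOf] at h1
    rw [Subgroup.mem_bot]
    exact hdisj x hx (hle h1)
  · intro g hg
    rw [Subgroup.mem_subgroupOf] at hg
    -- `g ∉ H`
    have hgH : (g : L) ∉ H := by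
      intro hgH
      apply hg
      obtain ⟨k, hk, a, ha, hka⟩ := Subgroup.mem_sup_of_normal_left.mp g.2
      have h1 : k = (g : L) * a⁻¹ := by rw [← hka]; group
      have h2 : k ∈ H := by rw [h1]; exact H.mul_mem hgH (H.inv_mem (hle ha))
      have h3 : k = 1 := hdisj k hk h2
      rw [h3, one_mul] at hka
      rw [← hka]; exact ha
    have h4 := hH.2.2 (g : L) hgH
    rw [eq_bot_iff]
    rintro x ⟨hx1, hx2⟩
    rw [Subgroup.mem_bot]
    apply Subtype.ext
    have hx1' : (x : L) ∈ H₁ := Subgroup.mem_subgroupOf.mp hx1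
    have hx2' : x ∈ MulAut.conj g • H₁.subgroupOf (K ⊔ H₁) := hx2
    rw [Cfsg.Agent.S0039.mem_conj_smul, Subgroup.mem_subgroupOf] at hx2'
    have h5 : (x : L) ∈ H ⊓ MulAut.conj (g : L) • H := by
      refine ⟨hle hx1', ?_⟩
      show (x : L) ∈ MulAut.conj (g : L) • H
      rw [Cfsg.Agent.S0039.mem_conj_smul]
      have := hle hx2'
      simpa using this
    rw [h4, Subgroup.mem_bot] at h5
    exact h5

/-- the forward direction for one factor -/
theorem exists_sub {L : Type} [Group L] [Finite L] (H : Subgroup L)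
    (hH : Cfsg.IsFrobeniusComplement H) {A : Type*} [Group A] [Nontrivial A] (f : A →* H)
    (hf : Function.Injective f) :
    ∃ (L' : Type) (_ : Group L') (_ : Finite L') (H' : Subgroup L'),
      Cfsg.IsFrobeniusComplement H' ∧ Nonempty (A ≃* H') := by
  obtain ⟨K, hKn, hc, hK1, -, -⟩ := frobenius_kernel_data H hH
  haveI := hKn
  let f' : A →* L := H.subtype.comp f
  have hf' : Function.Injective f' := Subtype.val_injective.comp hf
  let H₁ : Subgroup L := f'.range
  have hle : H₁ ≤ H := by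
    rintro x ⟨a, rfl⟩
    exact (f a).2
  have hH₁ : H₁ ≠ ⊥ := by
    intro h
    obtain ⟨a, ha⟩ := exists_ne (1 : A)
    have h1 : f' a ∈ H₁ := ⟨a, rfl⟩
    rw [h, Subgroup.mem_bot] at h1
    apply ha
    apply hf'
    rw [h1, map_one]
  have hKH : K ⊓ H = ⊥ := hc.disjoint.eq_bot
  refine ⟨↥(K ⊔ H₁), inferInstance, inferInstance, H₁.subgroupOf (K ⊔ H₁),
    sub_complement H K H₁ hH hKH hK1 hle hH₁, ⟨?_⟩⟩
  exact (MonoidHom.ofInjective hf').trans
    (Subgroup.subgroupOfEquivOfLe (le_sup_right : H₁ ≤ K ⊔ H₁)).symm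

/-- Let A and B be nontrivial finite groups. Then the direct product A × B occurs as a Frobenius complement if and only if A and B both occur as Frobenius complements and the orders of A and B are coprime. -/
theorem result {A B : Type*} [Group A] [Finite A] [Nontrivial A] [Group B] [Finite B] [Nontrivial B] :
    (∃ (L : Type) (_ : Group L) (_ : Finite L) (H : Subgroup L), Cfsg.IsFrobeniusComplement H ∧ Nonempty ((A × B) ≃* H)) ↔
    ((∃ (L : Type) (_ : Group L) (_ : Finite L) (H : Subgroup L), Cfsg.IsFrobeniusComplement H ∧ Nonempty (A ≃* H)) ∧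
     (∃ (L : Type) (_ : Group L) (_ : Finite L) (H : Subgroup L), Cfsg.IsFrobeniusComplement H ∧ Nonempty (B ≃* H)) ∧
     (Nat.card A).Coprime (Nat.card B)) := by
  constructor
  · rintro ⟨L, _, _, H, hH, ⟨e⟩⟩
    refine ⟨?_, ?_, ?_⟩
    · exact exists_sub H hH (e.toMonoidHom.comp (MonoidHom.inl A B))
        (e.injective.comp (fun a a' h => (Prod.mk.inj h).1))
    · exact exists_sub H hH (e.toMonoidHom.comp (MonoidHom.inr A B))
        (e.injective.comp (fun b b' h => (Prod.mk.inj h).2))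
    · -- coprimality
      obtain ⟨K, hKn, hc, hK1, -, hfpf⟩ := frobenius_kernel_data H hH
      haveI := hKn
      by_contra hcop
      obtain ⟨p, hp, hpA, hpB⟩ := Nat.Prime.not_coprime_iff_dvd.mp hcop
      haveI : Fact p.Prime := ⟨hp⟩
      obtain ⟨a, ha⟩ := exists_prime_orderOf_dvd_card' p hpA
      obtain ⟨b, hb⟩ := exists_prime_orderOf_dvd_card' p hpB
      let z : L := (e (a, 1) : H)
      let w : L := (e (1, b) : H)
      have hzo : orderOf z = p := by
        show orderOf ((e (a, 1) : H) : L) = p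
        rw [Subgroup.orderOf_coe, e.orderOf_eq, Prod.orderOf_mk]
        simp [ha]
      have hwo : orderOf w = p := by
        show orderOf ((e (1, b) : H) : L) = p
        rw [Subgroup.orderOf_coe, e.orderOf_eq, Prod.orderOf_mk]
        simp [hb]
      have hzw : z * w = w * z := by
        show ((e (a, 1) : H) : L) * ((e (1, b) : H) : L) = ((e (1, b) : H) : L) * ((e (a, 1) : H) : L)
        rw [← Subgroup.coe_mul, ← Subgroup.coe_mul, ← map_mul, ← map_mul]
        simp
      have hHK : H ≤ Subgroup.normalizer (K : Set L) := by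
        rw [Subgroup.normalizer_eq_top]; exact le_top
      have h1 := Cfsg.Agent.Helper1.mem_zpowers_of_fpf_of_commute hHK hK1 hfpf
        (e (a, 1) : H).2 (e (1, b) : H).2 hzo hwo hzw
      obtain ⟨j, hj⟩ := Subgroup.mem_zpowers_iff.mp h1
      have h2 : (e ((a, 1) ^ j) : H) = e (1, b) := by
        apply Subtype.ext
        rw [map_zpow, Subgroup.coe_zpow]
        exact hj
      have h3 := e.injective h2
      have h4 : (1 : B) ^ j = b := by
        have := congrArg Prod.snd h3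
        simpa using this
      rw [one_zpow] at h4
      rw [← h4, orderOf_one] at hb
      exact hp.one_lt.ne hb
  · rintro ⟨⟨L₁, _, _, H₁, hH₁, ⟨e₁⟩⟩, ⟨L₂, _, _, H₂, hH₂, ⟨e₂⟩⟩, hcop⟩
    obtain ⟨v₁, hv₁, hnv₁⟩ := exists_int_nv_of_frobenius H₁ hH₁
    obtain ⟨v₂, hv₂, hnv₂⟩ := exists_int_nv_of_frobenius H₂ hH₂
    haveI : Nontrivial H₁ := e₁.injective.nontrivial
    have hcop' : (Nat.card H₁).Coprime (Nat.card H₂) := by
      rw [← Nat.card_congr e₁.toEquiv, ← Nat.card_congr e₂.toEquiv]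
      exact hcop
    obtain ⟨L, hL1, hL2, C, hC, ⟨e⟩⟩ :=
      exists_frobenius_prod_of_nv hcop' v₁ hv₁ hnv₁ v₂ hv₂ hnv₂
    exact ⟨L, hL1, hL2, C, hC, ⟨(MulEquiv.prodCongr e₁ e₂).trans e⟩⟩

end Cfsg.Agent.S4292
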