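import Mathlib
import Cfsg.Statements.S4296
import Cfsg.Agent.S0035
import Cfsg.Agent.S0040
import Cfsg.Agent.S4283
import Cfsg.Agent.Lib.Helper21.QuaternionSquare

set_option autoImplicit false
set_option linter.style.haveILetI false
open Cfsg

namespace Cfsg.Agent.S4296

open Subgroup
open scoped IsMulCommutative

/-- A copy of the relations of `Q₈` inside a generalized quaternion group. -/
theorem exists_quaternion_relations (m : ℕ) [NeZero m] :
    ∃ i j t : QuaternionGroup (2 * m), i * i = t ∧ j * j = t ∧ t * t = 1 ∧ t ≠ 1 ∧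
      i * j = t * (j * i) := by
  refine ⟨QuaternionGroup.a (m : ZMod (2 * (2 * m))), QuaternionGroup.xa 0,
    QuaternionGroup.a ((2 * m : ℕ) : ZMod (2 * (2 * m))), ?_, ?_, ?_, ?_, ?_⟩
  · rw [QuaternionGroup.a_mul_a]
    congr 1
    push_cast
    ring
  · rw [QuaternionGroup.xa_mul_xa]
    congr 1
    ring
  · rw [QuaternionGroup.a_mul_a, QuaternionGroup.one_def]
    congr 1
    have : (((2 * m : ℕ) : ZMod (2 * (2 * m))) + ((2 * m : ℕ) : ZMod (2 * (2 * m)))) =
        ((2 * (2 * m) : ℕ) : ZMod (2 * (2 * m))) := by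
      push_cast
      ring
    rw [this, ZMod.natCast_self]
  · rw [QuaternionGroup.one_def]
    intro h
    have h1 : ((2 * m : ℕ) : ZMod (2 * (2 * m))) = 0 := by
      injection h
    rw [ZMod.natCast_eq_zero_iff] at h1
    have hm : 0 < m := Nat.pos_of_ne_zero (NeZero.ne m)
    have := Nat.le_of_dvd (by omega) h1
    omega
  · rw [QuaternionGroup.a_mul_xa, QuaternionGroup.xa_mul_a, QuaternionGroup.a_mul_xa]
    congr 1
    push_cast
    ring

/-- A fixed-point-free involution inverts. -/
theorem inverts_of_fpf_involution {L : Type*} [Group L] (N : Subgroup L) [N.Normal] [Finite N]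
    (t : L) (ht : t * t = 1) (hfpf : N ⊓ centralizer {t} = ⊥) :
    ∀ x ∈ N, t * x * t⁻¹ = x⁻¹ := by
  have htinv : t⁻¹ = t := inv_eq_of_mul_eq_one_left ht
  let f : N → N := fun x => ⟨(x : L)⁻¹ * (t * x * t⁻¹),
    N.mul_mem (N.inv_mem x.2) (Normal.conj_mem inferInstance _ x.2 t)⟩
  have hinj : Function.Injective f := by
    intro x y hxy
    have h1 : (x : L)⁻¹ * (t * x * t⁻¹) = (y : L)⁻¹ * (t * y * t⁻¹) := congrArg Subtype.val hxy
    have h2 : (y : L) * (x : L)⁻¹ ∈ N ⊓ centralizer {t} := by
      refine ⟨N.mul_mem y.2 (N.inv_mem x.2), ?_⟩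
      refine mem_centralizer_singleton_iff.mpr ?_
      have h3 : (y : L) * ((x : L)⁻¹ * (t * x * t⁻¹)) * t * (x : L)⁻¹ =
          (y : L) * ((y : L)⁻¹ * (t * y * t⁻¹)) * t * (x : L)⁻¹ := by rw [h1]
      have h4 : (y : L) * ((x : L)⁻¹ * (t * x * t⁻¹)) * t * (x : L)⁻¹ = (y : L) * (x : L)⁻¹ * t := by
        group
      have h5 : (y : L) * ((y : L)⁻¹ * (t * y * t⁻¹)) * t * (x : L)⁻¹ = t * ((y : L) * (x : L)⁻¹) := by
        group
      rw [h4, h5] at h3
      exact h3
    rw [hfpf, mem_bot] at h2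
    have h6 : (y : L) = x := by
      have := congrArg (fun z => z * (x : L)) h2
      simpa using this
    exact Subtype.ext h6.symm
  have hsurj : Function.Surjective f := Finite.injective_iff_surjective.mp hinj
  intro z hz
  obtain ⟨x, hx⟩ := hsurj ⟨z, hz⟩
  have hz' : z = (x : L)⁻¹ * (t * x * t⁻¹) := (congrArg Subtype.val hx).symm
  rw [hz', htinv]
  have e1 : t * ((x : L)⁻¹ * (t * x * t)) * t = (t * (x : L)⁻¹ * t) * x * (t * t) := by group
  have e2 : ((x : L)⁻¹ * (t * x * t))⁻¹ = t⁻¹ * (x : L)⁻¹ * t⁻¹ * x := by group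
  rw [e1, e2, ht, mul_one, htinv]

/-- Non-identity elements of a Frobenius complement act fixed-point-freely on the kernel. -/
theorem fpf_of_frobenius {L : Type*} [Group L] (H N : Subgroup L)
    (hF : Cfsg.IsFrobeniusComplement H) (hNset : (N : Set L) = Cfsg.frobeniusKernel H)
    (hdisj : N ⊓ H = ⊥) : ∀ h ∈ H, h ≠ 1 → N ⊓ centralizer {h} = ⊥ := by
  intro h hh hh1
  rw [eq_bot_iff]
  rintro x ⟨hxN, hxc⟩
  rw [mem_bot]
  by_contra hx1
  have hcomm : h * x = x * h :=
    (mem_centralizer_singleton_iff.mp (show x ∈ centralizer ({h} : Set L) from hxc)).symm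
  have hhN : h ∈ N := Cfsg.Agent.S4283.centralizer_kernel hF hNset.symm x hxN hx1 h hcomm
  have : h ∈ N ⊓ H := ⟨hhN, hh⟩
  rw [hdisj, mem_bot] at this
  exact hh1 this

theorem exists_quaternion_relations' (n m : ℕ) [NeZero m] (h : n = 2 * m) :
    ∃ i j t : QuaternionGroup n, i * i = t ∧ j * j = t ∧ t * t = 1 ∧ t ≠ 1 ∧
      i * j = t * (j * i) := by
  subst h
  exact exists_quaternion_relations m

/-- The kernel has odd square order once the complement contains `i`, `j`, `t` satisfying the
quaternion relations. -/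
theorem odd_square_of_relations {L : Type*} [Group L] [Finite L] (H N : Subgroup L)
    (hF : Cfsg.IsFrobeniusComplement H) (hNset : (N : Set L) = Cfsg.frobeniusKernel H)
    (hNn : N.Normal) (hNc : Subgroup.IsComplement' N H)
    (i j t : L) (hi : i ∈ H) (hj : j ∈ H) (hii : i * i = t) (hjj : j * j = t) (htt : t * t = 1)
    (ht1 : t ≠ 1) (hij : i * j = t * (j * i)) :
    Odd (Nat.card N) ∧ IsSquare (Nat.card N) := by
  haveI := hNn
  have htH : t ∈ H := hii ▸ H.mul_mem hi hi
  have hdisj : N ⊓ H = ⊥ := hNc.disjoint.eq_bot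
  have hfpf : ∀ h ∈ H, h ≠ 1 → N ⊓ centralizer {h} = ⊥ := by
    intro h hh hh1
    rw [eq_bot_iff]
    rintro x ⟨hxN, hxc⟩
    rw [mem_bot]
    by_contra hx1
    have hcomm : h * x = x * h :=
      (mem_centralizer_singleton_iff.mp (show x ∈ centralizer ({h} : Set L) from hxc)).symm
    have hhN : h ∈ N := Cfsg.Agent.S4283.centralizer_kernel hF hNset.symm x hxN hx1 h hcomm
    have : h ∈ N ⊓ H := ⟨hhN, hh⟩
    rw [hdisj, mem_bot] at this
    exact hh1 this
  -- `t` inverts `N`
  have hinv := inverts_of_fpf_involution N t htt (hfpf t htH ht1)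
  have htinv : t⁻¹ = t := inv_eq_of_mul_eq_one_left htt
  -- `N` is abelian
  have hcomm : ∀ x ∈ N, ∀ y ∈ N, x * y = y * x := by
    intro x hx y hy
    have h1 := hinv (x * y) (N.mul_mem hx hy)
    have h2 : t * (x * y) * t⁻¹ = (t * x * t⁻¹) * (t * y * t⁻¹) := by group
    rw [h2, hinv x hx, hinv y hy, mul_inv_rev] at h1
    have h3 := congrArg (fun z => z⁻¹) h1
    simp only [mul_inv_rev, inv_inv] at h3
    exact h3.symm
  haveI hNcomm : IsMulCommutative N := ⟨⟨fun a b => Subtype.ext (hcomm a a.2 b b.2)⟩⟩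
  -- oddness
  have hodd : Odd (Nat.card N) := by
    have h1 : Nat.card H ∣ Nat.card N - 1 :=
      Cfsg.Agent.S4283.card_dvd_card_sub_one hF hNn (by rw [inf_comm]; exact hdisj)
    have h2 : orderOf t = 2 := by
      apply orderOf_eq_prime
      · rw [pow_two]; exact htt
      · exact ht1
    have h3 : 2 ∣ Nat.card H := by
      have h4 : orderOf (⟨t, htH⟩ : H) ∣ Nat.card H := orderOf_dvd_natCard _
      rwa [Subgroup.orderOf_mk, h2] at h4
    have h5 : 2 ∣ Nat.card N - 1 := h3.trans h1
    have h6 : 0 < Nat.card N := Nat.card_pos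
    rw [Nat.odd_iff]
    omega
  refine ⟨hodd, ?_⟩
  -- the endomorphisms
  let I : Additive N →+ Additive N := MonoidHom.toAdditive (MulAut.conjNormal i : MulAut N).toMonoidHom
  let J : Additive N →+ Additive N := MonoidHom.toAdditive (MulAut.conjNormal j : MulAut N).toMonoidHom
  have hIapp : ∀ x : Additive N, I x = Additive.ofMul (MulAut.conjNormal i (Additive.toMul x)) :=
    fun x => rfl
  have hJapp : ∀ x : Additive N, J x = Additive.ofMul (MulAut.conjNormal j (Additive.toMul x)) :=
    fun x => rfl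
  have hneg : ∀ x : Additive N, -x = Additive.ofMul (MulAut.conjNormal t (Additive.toMul x)) := by
    intro x
    apply congrArg Additive.ofMul
    apply Subtype.ext
    rw [MulAut.conjNormal_apply]
    exact (hinv _ (Additive.toMul x).2).symm
  have hI : ∀ x, I (I x) = -x := by
    intro x
    rw [hIapp, hIapp, hneg, ← hii, map_mul, MulAut.mul_apply]
    rfl
  have hJ : ∀ x, J (J x) = -x := by
    intro x
    rw [hJapp, hJapp, hneg, ← hjj, map_mul, MulAut.mul_apply]
    rfl
  have hIJ : ∀ x, I (J x) = -J (I x) := by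
    intro x
    rw [hneg, hIapp, hJapp, hJapp, hIapp]
    apply congrArg Additive.ofMul
    have h1 : (MulAut.conjNormal i) ((MulAut.conjNormal j) (Additive.toMul x)) =
        (MulAut.conjNormal (i * j)) (Additive.toMul x) := by
      rw [map_mul, MulAut.mul_apply]
    have h2 : (MulAut.conjNormal t) ((MulAut.conjNormal j) ((MulAut.conjNormal i) (Additive.toMul x))) =
        (MulAut.conjNormal (t * (j * i))) (Additive.toMul x) := by
      rw [map_mul, map_mul, MulAut.mul_apply, MulAut.mul_apply]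
    show (MulAut.conjNormal i) ((MulAut.conjNormal j) (Additive.toMul x)) =
      (MulAut.conjNormal t) ((MulAut.conjNormal j) ((MulAut.conjNormal i) (Additive.toMul x)))
    rw [h1, h2, hij]
  have hoddA : Odd (Nat.card (Additive N)) := hodd
  show IsSquare (Nat.card (Additive N))
  exact Cfsg.Agent.Helper21.isSquare_card_of_quaternion_action (N := Additive N) I J hI hJ hIJ hoddA

/-- Let H be a Frobenius complement in a finite group, and suppose some Sylow subgroup of H is not cyclic. Then the number of elements of the Frobenius kernel (the identity together with the elements lying in no conjugate of H) is an odd perfect square. -/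
theorem result {L : Type*} [Group L] [Finite L] (H : Subgroup L) (hF : Cfsg.IsFrobeniusComplement H)
    (hZ : ∃ (p : ℕ) (_ : Fact p.Prime) (P : Sylow p H), ¬ IsCyclic P) :
    Odd (Nat.card (Cfsg.frobeniusKernel H)) ∧ IsSquare (Nat.card (Cfsg.frobeniusKernel H)) := by
  obtain ⟨p, hp, P, hPnc⟩ := hZ
  obtain ⟨N, hNset, hNn, hNc⟩ := Cfsg.Agent.S0035.result H hF
  haveI := hNn
  have hN0 : N ≠ ⊥ := by
    intro h0
    apply hF.2.1
    have := hNc.card_mul
    rw [h0, Subgroup.card_bot, one_mul] at this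
    exact Subgroup.eq_top_of_card_eq H this
  have hdisj : N ⊓ H = ⊥ := hNc.disjoint.eq_bot
  have hfpf := fpf_of_frobenius H N hF hNset hdisj
  have hcardK : Nat.card (Cfsg.frobeniusKernel H) = Nat.card N := by
    rw [← hNset]
    rfl
  rw [hcardK]
  rcases Cfsg.Agent.S0040.result N H hNc hN0 hfpf p P with hcyc | ⟨n, ⟨e⟩⟩
  · exact absurd hcyc hPnc
  · have hn0 : n ≠ 0 := by
      rintro rfl
      apply hPnc
      haveI : IsCyclic (QuaternionGroup (2 ^ 0)) := QuaternionGroup.quaternionGroup_one_isCyclic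
      exact isCyclic_of_surjective e.symm e.symm.surjective
    obtain ⟨k, rfl⟩ := Nat.exists_eq_succ_of_ne_zero hn0
    haveI : NeZero (2 ^ k) := ⟨pow_ne_zero _ two_ne_zero⟩
    obtain ⟨i₀, j₀, t₀, hii, hjj, htt, ht1, hij⟩ :=
      exists_quaternion_relations' (2 ^ (k + 1)) (2 ^ k) (by ring)
    let φ : QuaternionGroup (2 ^ (k + 1)) →* L :=
      (H.subtype.comp (P : Subgroup H).subtype).comp e.symm.toMonoidHom
    have hφinj : Function.Injective φ := by
      intro x y hxy
      have h1 : ((e.symm x : (P : Subgroup H)) : H) = ((e.symm y : (P : Subgroup H)) : H) :=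
        Subtype.ext hxy
      exact e.symm.injective (Subtype.ext h1)
    have hφH : ∀ x, φ x ∈ H := fun x => ((e.symm x : (P : Subgroup H)) : H).2
    refine odd_square_of_relations H N hF hNset hNn hNc (φ i₀) (φ j₀) (φ t₀) (hφH _) (hφH _)
      ?_ ?_ ?_ ?_ ?_
    · rw [← map_mul, hii]
    · rw [← map_mul, hjj]
    · rw [← map_mul, htt, map_one]
    · intro h
      apply ht1
      apply hφinj
      rw [h, map_one]
    · rw [← map_mul, hij, map_mul, map_mul]

end Cfsg.Agent.S4296
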