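import Mathlib
import Cfsg.Statements.S4295
import Cfsg.Agent.S4296
import Cfsg.Agent.S4299
import Cfsg.Agent.Lib.Helper6.QuaternionLift

set_option autoImplicit false
set_option linter.style.haveILetI false
open Cfsg

namespace Cfsg.Agent.S4295

open Subgroup QuaternionGroup

section Action

variable {A : Type} [AddCommGroup A]

/-- The automorphism of `Multiplicative A` attached to an endomorphism squaring to `-1`. -/
def autOf (f : A →+ A) (hf : ∀ x, f (f x) = -x) : MulAut (Multiplicative A) where
  toFun v := Multiplicative.ofAdd (f (Multiplicative.toAdd v))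
  invFun v := Multiplicative.ofAdd (-f (Multiplicative.toAdd v))
  left_inv v := by
    show Multiplicative.ofAdd (-f (f (Multiplicative.toAdd v))) = v
    rw [hf, neg_neg]
    rfl
  right_inv v := by
    show Multiplicative.ofAdd (f (-f (Multiplicative.toAdd v))) = v
    rw [map_neg, hf, neg_neg]
    rfl
  map_mul' v w := by
    show Multiplicative.ofAdd (f (Multiplicative.toAdd v + Multiplicative.toAdd w)) =
      Multiplicative.ofAdd (f (Multiplicative.toAdd v)) * Multiplicative.ofAdd (f (Multiplicative.toAdd w))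
    rw [map_add]
    rfl

theorem autOf_apply (f : A →+ A) (hf : ∀ x, f (f x) = -x) (v : Multiplicative A) :
    autOf f hf v = Multiplicative.ofAdd (f (Multiplicative.toAdd v)) := rfl

theorem autOf_mul_self (f : A →+ A) (hf : ∀ x, f (f x) = -x) :
    autOf f hf * autOf f hf = MulEquiv.inv (Multiplicative A) := by
  ext v
  rw [MulAut.mul_apply, autOf_apply, autOf_apply]
  show Multiplicative.ofAdd (f (f (Multiplicative.toAdd v))) = v⁻¹
  rw [hf]
  rfl

theorem inv_mul_inv : (MulEquiv.inv (Multiplicative A) : MulAut (Multiplicative A)) *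
    MulEquiv.inv (Multiplicative A) = 1 := by
  ext v
  rw [MulAut.mul_apply]
  show (v⁻¹)⁻¹ = v
  rw [inv_inv]

theorem quat_cases : ∀ g : QuaternionGroup 2, g ≠ 1 → g = a 2 ∨ g * g = a 2 := by
  decide

theorem exists_fpf_action (I J : A →+ A) (hI : ∀ x, I (I x) = -x) (hJ : ∀ x, J (J x) = -x)
    (hIJ : ∀ x, I (J x) = -J (I x)) (h2 : ∀ w : A, w + w = 0 → w = 0) :
    ∃ φ : QuaternionGroup 2 →* MulAut (Multiplicative A),
      ∀ g : QuaternionGroup 2, g ≠ 1 → ∀ v : Multiplicative A, φ g v = v → v = 1 := by
  set x := autOf I hI with hx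
  set s := autOf J hJ with hs
  set ν : MulAut (Multiplicative A) := MulEquiv.inv (Multiplicative A) with hν
  have hxx : x * x = ν := autOf_mul_self I hI
  have hss : s * s = ν := autOf_mul_self J hJ
  have hνν : ν * ν = 1 := inv_mul_inv
  have hx4 : x ^ (2 * 2) = 1 := by
    have : x ^ (2 * 2) = (x * x) * (x * x) := by
      rw [show (2 * 2 : ℕ) = 2 + 2 from rfl, pow_add, pow_two]
    rw [this, hxx, hνν]
  have hs2 : s * s = x ^ 2 := by rw [pow_two, hxx, hss]
  have hxsx : x * s * x = s := by
    ext v
    rw [MulAut.mul_apply, MulAut.mul_apply, hx, hs, autOf_apply, autOf_apply, autOf_apply]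
    show Multiplicative.ofAdd (I (J (I (Multiplicative.toAdd v)))) =
      Multiplicative.ofAdd (J (Multiplicative.toAdd v))
    have key : ∀ w : A, I (J (I w)) = J w := by
      intro w
      rw [hIJ, hI, map_neg, neg_neg]
    rw [key]
  have hsx : s * x * s⁻¹ = x⁻¹ := by
    calc s * x * s⁻¹ = x⁻¹ * (x * s * x) * s⁻¹ := by group
      _ = x⁻¹ * s * s⁻¹ := by rw [hxsx]
      _ = x⁻¹ := by group
  let φ := Cfsg.Agent.Helper6.quaternionLift x s hx4 hs2 hsx
  have hφ2 : φ (a 2) = ν := by
    show Cfsg.Agent.Helper3.zmodPow x (2 : ZMod (2 * 2)) = ν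
    unfold Cfsg.Agent.Helper3.zmodPow
    have : (2 : ZMod (2 * 2)).val = 2 := rfl
    rw [this, pow_two, hxx]
  have hνfix : ∀ v : Multiplicative A, ν v = v → v = 1 := by
    intro v hv
    have h1 : v⁻¹ = v := hv
    have h3 : Multiplicative.toAdd v + Multiplicative.toAdd v = 0 := by
      have h4 : v * v = 1 := by
        nth_rewrite 1 [← h1]
        exact inv_mul_cancel v
      exact congrArg Multiplicative.toAdd h4
    have := h2 _ h3
    exact congrArg Multiplicative.ofAdd this
  refine ⟨φ, ?_⟩
  intro g hg v hv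
  rcases quat_cases g hg with h | h
  · rw [h, hφ2] at hv
    exact hνfix v hv
  · have h5 : φ (g * g) v = v := by
      rw [map_mul, MulAut.mul_apply, hv, hv]
    rw [h, hφ2] at h5
    exact hνfix v h5

end Action

/-- There is an abelian group of order `k²` with a quaternion action. -/
def HasQAction (k : ℕ) : Prop :=
  ∃ (A : Type) (_ : AddCommGroup A) (_ : Finite A) (I J : A →+ A),
    (∀ x, I (I x) = -x) ∧ (∀ x, J (J x) = -x) ∧ (∀ x, I (J x) = -J (I x)) ∧ Nat.card A = k ^ 2

theorem hasQAction_one : HasQAction 1 :=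
  ⟨PUnit, inferInstance, inferInstance, 0, 0, fun _ => rfl, fun _ => rfl, fun _ => rfl, by simp⟩

theorem hasQAction_prime (r : ℕ) (hr : r.Prime) : HasQAction r := by
  haveI : Fact r.Prime := ⟨hr⟩
  obtain ⟨a, b, hab⟩ := ZMod.sq_add_sq r (-1)
  let I : ZMod r × ZMod r →+ ZMod r × ZMod r :=
    AddMonoidHom.mk' (fun w => (a * w.1 + b * w.2, b * w.1 - a * w.2)) (by
      intro w w'
      ext
      · simp only [Prod.fst_add, Prod.snd_add]; ring
      · simp only [Prod.snd_add, Prod.fst_add]; ring)
  let J : ZMod r × ZMod r →+ ZMod r × ZMod r :=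
    AddMonoidHom.mk' (fun w => (-w.2, w.1)) (by
      intro w w'
      ext
      · simp only [Prod.fst_add, Prod.snd_add]; ring
      · simp only [Prod.fst_add, Prod.snd_add])
  have hIapp : ∀ w, I w = (a * w.1 + b * w.2, b * w.1 - a * w.2) := fun w => rfl
  have hJapp : ∀ w, J w = (-w.2, w.1) := fun w => rfl
  refine ⟨ZMod r × ZMod r, inferInstance, inferInstance, I, J, ?_, ?_, ?_, ?_⟩
  · intro w
    rw [hIapp, hIapp]
    ext
    · simp only [Prod.fst_neg]
      linear_combination w.1 * hab
    · simp only [Prod.snd_neg]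
      linear_combination w.2 * hab
  · intro w
    rw [hJapp, hJapp]
    ext <;> simp
  · intro w
    rw [hJapp, hIapp, hIapp, hJapp]
    ext
    · simp only [Prod.fst_neg]; ring
    · simp only [Prod.snd_neg]; ring
  · rw [Nat.card_prod, Nat.card_zmod, pow_two]

theorem hasQAction_mul {k₁ k₂ : ℕ} (h₁ : HasQAction k₁) (h₂ : HasQAction k₂) :
    HasQAction (k₁ * k₂) := by
  obtain ⟨A₁, _, _, I₁, J₁, hI₁, hJ₁, hIJ₁, hc₁⟩ := h₁
  obtain ⟨A₂, _, _, I₂, J₂, hI₂, hJ₂, hIJ₂, hc₂⟩ := h₂
  refine ⟨A₁ × A₂, inferInstance, inferInstance, I₁.prodMap I₂, J₁.prodMap J₂, ?_, ?_, ?_, ?_⟩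
  · intro w
    ext
    · simp [hI₁]
    · simp [hI₂]
  · intro w
    ext
    · simp [hJ₁]
    · simp [hJ₂]
  · intro w
    ext
    · simp [hIJ₁]
    · simp [hIJ₂]
  · rw [Nat.card_prod, hc₁, hc₂, mul_pow]

theorem hasQAction_of_odd : ∀ n : ℕ, Odd n → HasQAction n := by
  intro n
  induction n using induction_on_primes with
  | zero => intro h; exact absurd h (by decide)
  | one => intro _; exact hasQAction_one
  | prime_mul p a hp ih =>
    intro h
    have ha : Odd a := (Nat.odd_mul.mp h).2
    exact hasQAction_mul (hasQAction_prime p hp) (ih ha)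

/-- For a natural number m the following are equivalent: (a) some finite group has a Frobenius complement isomorphic to the quaternion group of order 8 whose Frobenius kernel (the identity together with the elements lying in no conjugate of the complement) has exactly m elements; (b) m is an odd perfect square greater than 1. -/
theorem result (m : ℕ) :
    (∃ (L : Type) (_ : Group L) (_ : Finite L) (H : Subgroup L), Cfsg.IsFrobeniusComplement H ∧
        Nonempty (H ≃* QuaternionGroup 2) ∧ Nat.card (Cfsg.frobeniusKernel H) = m) ↔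
    (Odd m ∧ IsSquare m ∧ 1 < m) := by
  constructor
  · rintro ⟨L, _, _, H, hF, ⟨e⟩, hm⟩
    obtain ⟨N, hNset, hNn, hNc⟩ := Cfsg.Agent.S0035.result H hF
    have hN0 : N ≠ ⊥ := by
      intro h0
      apply hF.2.1
      have := hNc.card_mul_card
      rw [h0, Subgroup.card_bot, one_mul] at this
      exact Subgroup.eq_top_of_card_eq H this
    have hcardK : Nat.card (Cfsg.frobeniusKernel H) = Nat.card N := by
      rw [← hNset]
      rfl
    obtain ⟨i₀, j₀, t₀, hii, hjj, htt, ht1, hij⟩ :=
      Cfsg.Agent.S4296.exists_quaternion_relations' 2 1 rfl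
    let φ : QuaternionGroup 2 →* L := H.subtype.comp e.symm.toMonoidHom
    have hφinj : Function.Injective φ := by
      intro x y hxy
      exact e.symm.injective (Subtype.ext hxy)
    have hφH : ∀ x, φ x ∈ H := fun x => (e.symm x).2
    have hres := Cfsg.Agent.S4296.odd_square_of_relations H N hF hNset hNn hNc (φ i₀) (φ j₀) (φ t₀)
      (hφH _) (hφH _) (by rw [← map_mul, hii]) (by rw [← map_mul, hjj])
      (by rw [← map_mul, htt, map_one])
      (by
        intro h
        apply ht1
        apply hφinj
        rw [h, map_one])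
      (by rw [← map_mul, hij, map_mul, map_mul])
    rw [← hm, hcardK]
    refine ⟨hres.1, hres.2, ?_⟩
    rw [Subgroup.one_lt_card_iff_ne_bot]
    exact hN0
  · rintro ⟨hodd, ⟨n, rfl⟩, hm1⟩
    have hnodd : Odd n := (Nat.odd_mul.mp hodd).1
    obtain ⟨A, _, _, I, J, hI, hJ, hIJ, hcard⟩ := hasQAction_of_odd n hnodd
    have hAodd : Odd (Nat.card A) := by rw [hcard, pow_two]; exact hodd
    have h2 : ∀ w : A, w + w = 0 → w = 0 := by
      intro w hw
      by_contra hw0
      have h3 : addOrderOf w = 2 := by
        apply addOrderOf_eq_prime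
        · rw [two_nsmul]; exact hw
        · exact hw0
      have h4 : 2 ∣ Nat.card A := h3 ▸ addOrderOf_dvd_natCard w
      exact (Nat.not_even_iff_odd.mpr hAodd) (even_iff_two_dvd.mpr h4)
    obtain ⟨φ, hφ⟩ := exists_fpf_action I J hI hJ hIJ h2
    let L := Multiplicative A ⋊[φ] QuaternionGroup 2
    have hfinL : Finite L := Finite.of_equiv _ (SemidirectProduct.equivProd (φ := φ)).symm
    let H : Subgroup L := (SemidirectProduct.inr : QuaternionGroup 2 →* L).range
    have e2 : QuaternionGroup 2 ≃* H := MonoidHom.ofInjective SemidirectProduct.inr_injective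
    have hHcard : Nat.card H = 8 := by
      rw [← Nat.card_congr e2.toEquiv, Nat.card_eq_fintype_card, QuaternionGroup.card]
    have hLcard : Nat.card L = Nat.card A * 8 := by
      rw [Nat.card_congr (SemidirectProduct.equivProd (φ := φ)), Nat.card_prod,
        Nat.card_eq_fintype_card (α := QuaternionGroup 2), QuaternionGroup.card]
      rfl
    have hA1 : 1 < Nat.card A := by rw [hcard, pow_two]; exact hm1
    have hF : Cfsg.IsFrobeniusComplement H := by
      refine ⟨?_, ?_, ?_⟩
      · intro hbot
        have : Nat.card H = 1 := by rw [hbot]; exact Subgroup.card_bot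
        omega
      · intro htop
        have : Nat.card H = Nat.card L := by rw [htop]; exact Subgroup.card_top
        rw [hHcard, hLcard] at this
        nlinarith
      · intro g hg
        exact Cfsg.Agent.S4299.frob φ hφ g hg
    refine ⟨L, inferInstance, hfinL, H, hF, ⟨e2.symm⟩, ?_⟩
    obtain ⟨N, hNset, hNn, hNc⟩ := Cfsg.Agent.S0035.result H hF
    have hcardK : Nat.card (Cfsg.frobeniusKernel H) = Nat.card N := by
      rw [← hNset]
      rfl
    have h5 := hNc.card_mul_card
    rw [hHcard, hLcard] at h5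
    rw [hcardK, ← pow_two, ← hcard]
    omega

end Cfsg.Agent.S4295
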