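import Mathlib
import Cfsg.Statements.S4297
import Cfsg.Agent.S4299

set_option autoImplicit false
open Cfsg

namespace Cfsg.Agent.S4297

open QuaternionGroup SemidirectProduct

/-- A "character" of `ZMod (2n)` of exact order `2n` with values in a field. -/
structure Coef (n : ℕ) (K : Type) [Field K] where
  c : ZMod (2 * n) → K
  c_zero : c 0 = 1
  c_add : ∀ i j, c (i + j) = c i * c j
  c_n : c (n : ZMod (2 * n)) = -1
  c_inj : ∀ i, c i = 1 → i = 0

namespace Coef

variable {n : ℕ} {K : Type} [Field K] (C : Coef n K)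

theorem c_neg_mul (i : ZMod (2 * n)) : C.c (-i) * C.c i = 1 := by
  rw [← C.c_add, neg_add_cancel, C.c_zero]

theorem c_mul_neg (i : ZMod (2 * n)) : C.c i * C.c (-i) = 1 := by
  rw [mul_comm, C.c_neg_mul]

theorem c_neg_n : C.c (-(n : ZMod (2 * n))) = -1 := by
  have := C.c_neg_mul (n : ZMod (2 * n))
  rw [C.c_n] at this
  have h2 : C.c (-(n : ZMod (2 * n))) = -(C.c (-(n : ZMod (2 * n))) * -1) := by ring
  rw [h2, this]

/-- The action of the dicyclic group on `K × K`. -/
def T : QuaternionGroup n → K × K → K × K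
  | a i => fun w => (C.c i * w.1, C.c (-i) * w.2)
  | xa i => fun w => (C.c (-i) * w.2, -(C.c i * w.1))

theorem T_one (w : K × K) : C.T 1 w = w := by
  rw [one_def]
  simp [T, C.c_zero]

theorem T_mul (g h : QuaternionGroup n) (w : K × K) : C.T (g * h) w = C.T g (C.T h w) := by
  rcases g with i | i <;> rcases h with j | j
  · simp only [a_mul_a, T, neg_add, C.c_add]
    ext <;> simp <;> ring
  · simp only [a_mul_xa, T, sub_eq_add_neg, neg_add, neg_neg, C.c_add]
    ext <;> simp <;> ring
  · simp only [xa_mul_a, T, neg_add, C.c_add]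
    ext <;> simp <;> ring
  · simp only [xa_mul_xa, T, sub_eq_add_neg, neg_add, neg_neg, C.c_add, C.c_n, C.c_neg_n]
    ext <;> simp <;> ring

theorem T_add (g : QuaternionGroup n) (w w' : K × K) : C.T g (w + w') = C.T g w + C.T g w' := by
  rcases g with i | i
  · simp only [T]
    ext <;> simp <;> ring
  · simp only [T]
    ext <;> simp <;> ring

theorem T_fpf (h2 : (2 : K) ≠ 0) (g : QuaternionGroup n) (hg : g ≠ 1) (w : K × K)
    (hw : C.T g w = w) : w = 0 := by
  rcases g with i | i
  · have hi : i ≠ 0 := by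
      rintro rfl
      exact hg rfl
    simp only [T] at hw
    have h1 : C.c i * w.1 = w.1 := congrArg Prod.fst hw
    have h2' : C.c (-i) * w.2 = w.2 := congrArg Prod.snd hw
    have hw1 : w.1 = 0 := by
      by_contra hne
      have : C.c i = 1 := by
        have : (C.c i - 1) * w.1 = 0 := by rw [sub_mul, h1, one_mul, sub_self]
        rcases mul_eq_zero.mp this with h | h
        · exact sub_eq_zero.mp h
        · exact absurd h hne
      exact hi (C.c_inj i this)
    have hw2 : w.2 = 0 := by
      by_contra hne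
      have : C.c (-i) = 1 := by
        have : (C.c (-i) - 1) * w.2 = 0 := by rw [sub_mul, h2', one_mul, sub_self]
        rcases mul_eq_zero.mp this with h | h
        · exact sub_eq_zero.mp h
        · exact absurd h hne
      exact hi (neg_eq_zero.mp (C.c_inj (-i) this))
    exact Prod.ext hw1 hw2
  · simp only [T] at hw
    have h1 : C.c (-i) * w.2 = w.1 := congrArg Prod.fst hw
    have h2' : -(C.c i * w.1) = w.2 := congrArg Prod.snd hw
    have h3 : w.1 = -w.1 := by
      calc w.1 = C.c (-i) * w.2 := h1.symm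
        _ = C.c (-i) * -(C.c i * w.1) := by rw [h2']
        _ = -((C.c (-i) * C.c i) * w.1) := by ring
        _ = -w.1 := by rw [C.c_neg_mul, one_mul]
    have hw1 : w.1 = 0 := by
      have : (2 : K) * w.1 = 0 := by
        rw [two_mul]
        nth_rewrite 2 [h3]
        ring
      rcases mul_eq_zero.mp this with h | h
      · exact absurd h h2
      · exact h
    have hw2 : w.2 = 0 := by rw [← h2', hw1, mul_zero, neg_zero]
    exact Prod.ext hw1 hw2

/-- The action as a homomorphism into the automorphism group of the (multiplicative) module. -/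
def phi : QuaternionGroup n →* MulAut (Multiplicative (K × K)) where
  toFun g :=
    { toFun := fun x => Multiplicative.ofAdd (C.T g (Multiplicative.toAdd x))
      invFun := fun x => Multiplicative.ofAdd (C.T g⁻¹ (Multiplicative.toAdd x))
      left_inv := fun x => by
        show Multiplicative.ofAdd (C.T g⁻¹ (C.T g (Multiplicative.toAdd x))) = x
        rw [← C.T_mul, inv_mul_cancel, C.T_one]
        rfl
      right_inv := fun x => by
        show Multiplicative.ofAdd (C.T g (C.T g⁻¹ (Multiplicative.toAdd x))) = x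
        rw [← C.T_mul, mul_inv_cancel, C.T_one]
        rfl
      map_mul' := fun x y => by
        show Multiplicative.ofAdd (C.T g (Multiplicative.toAdd x + Multiplicative.toAdd y)) = _
        rw [C.T_add]
        rfl }
  map_one' := by
    apply MulEquiv.ext
    intro x
    show Multiplicative.ofAdd (C.T 1 (Multiplicative.toAdd x)) = x
    rw [C.T_one]
    rfl
  map_mul' := fun g h => by
    apply MulEquiv.ext
    intro x
    show Multiplicative.ofAdd (C.T (g * h) (Multiplicative.toAdd x)) =
      Multiplicative.ofAdd (C.T g (C.T h (Multiplicative.toAdd x)))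
    rw [C.T_mul]

theorem phi_apply (g : QuaternionGroup n) (x : Multiplicative (K × K)) :
    C.phi g x = Multiplicative.ofAdd (C.T g (Multiplicative.toAdd x)) := rfl

theorem phi_fpf (h2 : (2 : K) ≠ 0) (g : QuaternionGroup n) (hg : g ≠ 1)
    (x : Multiplicative (K × K)) (hx : C.phi g x = x) : x = 1 := by
  rw [phi_apply] at hx
  have h1 : C.T g (Multiplicative.toAdd x) = Multiplicative.toAdd x :=
    congrArg Multiplicative.toAdd hx
  have := C.T_fpf h2 g hg _ h1
  have h3 : x = Multiplicative.ofAdd (Multiplicative.toAdd x) := rfl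
  rw [h3, this]
  rfl

end Coef

/-- Existence of a coefficient function over a prime field. -/
theorem exists_coef (n : ℕ) (hn : 2 ≤ n) :
    ∃ (p : ℕ) (_ : Fact p.Prime), (2 : ZMod p) ≠ 0 ∧ Nonempty (Coef n (ZMod p)) := by
  have hn0 : 2 * n ≠ 0 := by omega
  obtain ⟨p, hp, -, hpmod⟩ := Nat.exists_prime_gt_modEq_one (k := 2 * n) 0 hn0
  haveI : Fact p.Prime := ⟨hp⟩
  haveI : NeZero (2 * n) := ⟨hn0⟩
  have hdvd : 2 * n ∣ p - 1 := (Nat.modEq_iff_dvd' hp.one_lt.le).mp hpmod.symm
  have hp5 : 5 ≤ p := by
    have := Nat.le_of_dvd (by have := hp.one_lt; omega) hdvd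
    omega
  obtain ⟨ζ, hζ⟩ := IsCyclic.exists_generator (α := (ZMod p)ˣ)
  have hordζ : orderOf ζ = p - 1 := by
    rw [orderOf_eq_card_of_forall_mem_zpowers hζ, Nat.card_eq_fintype_card, ZMod.card_units]
  obtain ⟨m, hm⟩ := hdvd
  have hm0 : m ≠ 0 := by
    rintro rfl
    rw [mul_zero] at hm
    omega
  set ω : (ZMod p)ˣ := ζ ^ m with hω
  have hord : orderOf ω = 2 * n := by
    rw [orderOf_pow_of_dvd hm0 (by rw [hordζ, hm]; exact dvd_mul_left m (2 * n)), hordζ, hm]
    exact Nat.mul_div_cancel _ (Nat.pos_of_ne_zero hm0)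
  have hω2n : ω ^ (2 * n) = 1 := by rw [← hord]; exact pow_orderOf_eq_one ω
  have h2 : (2 : ZMod p) ≠ 0 := by
    intro h
    have h' : ((2 : ℕ) : ZMod p) = 0 := by exact_mod_cast h
    rw [ZMod.natCast_eq_zero_iff] at h'
    have := Nat.le_of_dvd (by norm_num) h'
    omega
  refine ⟨p, inferInstance, h2, ⟨?_⟩⟩
  have hc_add : ∀ i j : ZMod (2 * n), ω ^ (i + j).val = ω ^ i.val * ω ^ j.val := by
    intro i j
    rw [← pow_add, ZMod.val_add, ← pow_eq_pow_mod _ hω2n]
  have hnval : ((n : ZMod (2 * n))).val = n := ZMod.val_natCast_of_lt (by omega)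
  refine
    { c := fun i => ((ω ^ i.val : (ZMod p)ˣ) : ZMod p)
      c_zero := by simp
      c_add := fun i j => by rw [hc_add, Units.val_mul]
      c_n := ?_
      c_inj := ?_ }
  · rw [hnval]
    have hsq : ((ω ^ n : (ZMod p)ˣ) : ZMod p) * ((ω ^ n : (ZMod p)ˣ) : ZMod p) = 1 := by
      rw [← Units.val_mul, ← pow_add, ← two_mul, hω2n, Units.val_one]
    rcases mul_self_eq_one_iff.mp hsq with h | h
    · exfalso
      have h1 : ω ^ n = 1 := Units.ext (by simpa using h)
      have := orderOf_dvd_of_pow_eq_one h1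
      rw [hord] at this
      have := Nat.le_of_dvd (by omega) this
      omega
    · exact h
  · intro i hi
    have h1 : ω ^ i.val = 1 := Units.ext (by simpa using hi)
    have h3 := orderOf_dvd_of_pow_eq_one h1
    rw [hord] at h3
    have h4 : i.val = 0 := Nat.eq_zero_of_dvd_of_lt h3 (ZMod.val_lt i)
    exact (ZMod.val_eq_zero i).mp h4

/-- For every n ≥ 2 the dicyclic group of order 4n (generated by an element a of order 2n and an element x with x² = aⁿ and x a x⁻¹ = a⁻¹) occurs as a Frobenius complement of some finite Frobenius group. -/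
theorem result (n : ℕ) (hn : 2 ≤ n) :
    ∃ (L : Type) (_ : Group L) (_ : Finite L) (H : Subgroup L), Cfsg.IsFrobeniusComplement H ∧ Nonempty (H ≃* QuaternionGroup n) := by
  classical
  obtain ⟨p, hp, h2, ⟨C⟩⟩ := exists_coef n hn
  haveI := hp
  haveI : NeZero n := ⟨by omega⟩
  let φ := C.phi
  let L := Multiplicative (ZMod p × ZMod p) ⋊[φ] QuaternionGroup n
  have hfinL : Finite L := Finite.of_equiv _ (SemidirectProduct.equivProd (φ := φ)).symm
  let H : Subgroup L := (SemidirectProduct.inr : QuaternionGroup n →* L).range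
  have e2 : QuaternionGroup n ≃* H := MonoidHom.ofInjective SemidirectProduct.inr_injective
  refine ⟨L, inferInstance, hfinL, H, ⟨?_, ?_, ?_⟩, ⟨e2.symm⟩⟩
  · intro hbot
    have : Nat.card H = 1 := by rw [hbot]; exact Subgroup.card_bot
    rw [← Nat.card_congr e2.toEquiv, Nat.card_eq_fintype_card, QuaternionGroup.card] at this
    omega
  · intro htop
    have hmem : (SemidirectProduct.inl (Multiplicative.ofAdd ((1, 0) : ZMod p × ZMod p)) : L) ∈ H := by
      rw [htop]; trivial
    obtain ⟨u, hu⟩ := hmem
    have := congrArg SemidirectProduct.left hu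
    rw [left_inr, left_inl] at this
    have h1 : (0 : ZMod p × ZMod p) = (1, 0) := congrArg Multiplicative.toAdd this
    have h3 : (0 : ZMod p) = 1 := congrArg Prod.fst h1
    exact zero_ne_one h3
  · intro g hg
    exact Cfsg.Agent.S4299.frob φ (C.phi_fpf h2) g hg

end Cfsg.Agent.S4297
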