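import Mathlib
import Cfsg.Statements.S4298
import Cfsg.Agent.S4299

set_option autoImplicit false
open Cfsg

namespace Cfsg.Agent.S4298

open SemidirectProduct

/-- An explicit embedding of `SL(2,3)` into `SL(2,5)`, as a table on matrix entries. -/
def tab (a b c d : ZMod 3) : ZMod 5 × ZMod 5 × ZMod 5 × ZMod 5 :=
  match a.val, b.val, c.val, d.val with
  | 0, 1, 2, 0 => (0, 4, 1, 0)
  | 0, 1, 2, 1 => (2, 4, 3, 4)
  | 0, 1, 2, 2 => (3, 2, 1, 1)
  | 0, 2, 1, 0 => (0, 1, 4, 0)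
  | 0, 2, 1, 1 => (2, 3, 4, 4)
  | 0, 2, 1, 2 => (3, 1, 2, 1)
  | 1, 0, 0, 1 => (1, 0, 0, 1)
  | 1, 0, 1, 1 => (1, 2, 1, 3)
  | 1, 0, 2, 1 => (3, 3, 4, 1)
  | 1, 1, 0, 1 => (1, 1, 2, 3)
  | 1, 1, 1, 2 => (0, 2, 2, 0)
  | 1, 1, 2, 0 => (4, 2, 1, 2)
  | 1, 2, 0, 1 => (3, 4, 3, 1)
  | 1, 2, 1, 0 => (4, 1, 2, 2)
  | 1, 2, 2, 2 => (3, 0, 0, 2)
  | 2, 0, 0, 2 => (4, 0, 0, 4)
  | 2, 0, 1, 2 => (2, 2, 1, 4)
  | 2, 0, 2, 2 => (4, 3, 4, 2)
  | 2, 1, 0, 2 => (2, 1, 2, 4)
  | 2, 1, 1, 1 => (2, 0, 0, 3)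
  | 2, 1, 2, 0 => (1, 4, 3, 3)
  | 2, 2, 0, 2 => (4, 4, 3, 2)
  | 2, 2, 1, 0 => (1, 3, 4, 3)
  | 2, 2, 2, 1 => (0, 3, 3, 0)
  | _, _, _, _ => (1, 0, 0, 1)

/-- product of 2×2 matrices written as 4-tuples -/
def prod4 (m m' : ZMod 5 × ZMod 5 × ZMod 5 × ZMod 5) : ZMod 5 × ZMod 5 × ZMod 5 × ZMod 5 :=
  (m.1 * m'.1 + m.2.1 * m'.2.2.1, m.1 * m'.2.1 + m.2.1 * m'.2.2.2,
   m.2.2.1 * m'.1 + m.2.2.2 * m'.2.2.1, m.2.2.1 * m'.2.1 + m.2.2.2 * m'.2.2.2)

set_option maxRecDepth 100000 in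
theorem tab_mul : ∀ a b c d a' b' c' d' : ZMod 3, a * d - b * c = 1 → a' * d' - b' * c' = 1 →
    tab (a * a' + b * c') (a * b' + b * d') (c * a' + d * c') (c * b' + d * d') =
      prod4 (tab a b c d) (tab a' b' c' d') := by
  decide +kernel

set_option maxRecDepth 100000 in
theorem tab_fpf : ∀ a b c d : ZMod 3, a * d - b * c = 1 → ¬ (a = 1 ∧ b = 0 ∧ c = 0 ∧ d = 1) →
    ∀ u v : ZMod 5, (tab a b c d).1 * u + (tab a b c d).2.1 * v = u →
      (tab a b c d).2.2.1 * u + (tab a b c d).2.2.2 * v = v → u = 0 ∧ v = 0 := by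
  decide +kernel

abbrev S := Matrix.SpecialLinearGroup (Fin 2) (ZMod 3)

def m (g : S) : ZMod 5 × ZMod 5 × ZMod 5 × ZMod 5 := tab (g 0 0) (g 0 1) (g 1 0) (g 1 1)

theorem det_eq (g : S) : g 0 0 * g 1 1 - g 0 1 * g 1 0 = 1 := by
  have := g.2
  rw [Matrix.det_fin_two] at this
  exact this

theorem m_one : m 1 = (1, 0, 0, 1) := by
  simp [m, tab]
  rfl

theorem m_mul (g h : S) : m (g * h) = prod4 (m g) (m h) := by
  have := tab_mul (g 0 0) (g 0 1) (g 1 0) (g 1 1) (h 0 0) (h 0 1) (h 1 0) (h 1 1) (det_eq g) (det_eq h)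
  rw [m, m, m, ← this]
  simp [Matrix.SpecialLinearGroup.coe_mul, Matrix.mul_apply, Fin.sum_univ_two]

/-- The action on `ZMod 5 × ZMod 5`. -/
def T (g : S) (w : ZMod 5 × ZMod 5) : ZMod 5 × ZMod 5 :=
  ((m g).1 * w.1 + (m g).2.1 * w.2, (m g).2.2.1 * w.1 + (m g).2.2.2 * w.2)

theorem T_one (w : ZMod 5 × ZMod 5) : T 1 w = w := by
  simp [T, m_one]

theorem T_mul (g h : S) (w : ZMod 5 × ZMod 5) : T (g * h) w = T g (T h w) := by
  simp only [T, m_mul, prod4]
  ext <;> simp <;> ring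

theorem T_add (g : S) (w w' : ZMod 5 × ZMod 5) : T g (w + w') = T g w + T g w' := by
  simp only [T]
  ext <;> simp <;> ring

theorem T_fpf (g : S) (hg : g ≠ 1) (w : ZMod 5 × ZMod 5) (hw : T g w = w) : w = 0 := by
  have hne : ¬ (g 0 0 = 1 ∧ g 0 1 = 0 ∧ g 1 0 = 0 ∧ g 1 1 = 1) := by
    rintro ⟨h1, h2, h3, h4⟩
    apply hg
    ext i j
    fin_cases i <;> fin_cases j <;> simp [h1, h2, h3, h4]
  have h1 : (m g).1 * w.1 + (m g).2.1 * w.2 = w.1 := congrArg Prod.fst hw
  have h2 : (m g).2.2.1 * w.1 + (m g).2.2.2 * w.2 = w.2 := congrArg Prod.snd hw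
  obtain ⟨hu, hv⟩ := tab_fpf (g 0 0) (g 0 1) (g 1 0) (g 1 1) (det_eq g) hne w.1 w.2 h1 h2
  exact Prod.ext hu hv

/-- The action as a homomorphism into the automorphism group of the (multiplicative) module. -/
def phi : S →* MulAut (Multiplicative (ZMod 5 × ZMod 5)) where
  toFun g :=
    { toFun := fun x => Multiplicative.ofAdd (T g (Multiplicative.toAdd x))
      invFun := fun x => Multiplicative.ofAdd (T g⁻¹ (Multiplicative.toAdd x))
      left_inv := fun x => by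
        show Multiplicative.ofAdd (T g⁻¹ (T g (Multiplicative.toAdd x))) = x
        rw [← T_mul, inv_mul_cancel, T_one]
        rfl
      right_inv := fun x => by
        show Multiplicative.ofAdd (T g (T g⁻¹ (Multiplicative.toAdd x))) = x
        rw [← T_mul, mul_inv_cancel, T_one]
        rfl
      map_mul' := fun x y => by
        show Multiplicative.ofAdd (T g (Multiplicative.toAdd x + Multiplicative.toAdd y)) = _
        rw [T_add]
        rfl }
  map_one' := by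
    apply MulEquiv.ext
    intro x
    show Multiplicative.ofAdd (T 1 (Multiplicative.toAdd x)) = x
    rw [T_one]
    rfl
  map_mul' := fun g h => by
    apply MulEquiv.ext
    intro x
    show Multiplicative.ofAdd (T (g * h) (Multiplicative.toAdd x)) =
      Multiplicative.ofAdd (T g (T h (Multiplicative.toAdd x)))
    rw [T_mul]

theorem phi_apply (g : S) (x : Multiplicative (ZMod 5 × ZMod 5)) :
    phi g x = Multiplicative.ofAdd (T g (Multiplicative.toAdd x)) := rfl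

theorem phi_fpf (g : S) (hg : g ≠ 1)
    (x : Multiplicative (ZMod 5 × ZMod 5)) (hx : phi g x = x) : x = 1 := by
  rw [phi_apply] at hx
  have h1 : T g (Multiplicative.toAdd x) = Multiplicative.toAdd x :=
    congrArg Multiplicative.toAdd hx
  have := T_fpf g hg _ h1
  have h3 : x = Multiplicative.ofAdd (Multiplicative.toAdd x) := rfl
  rw [h3, this]
  rfl

/-- The group SL(2,3) of order 24 (the binary tetrahedral group) occurs as a Frobenius complement of some finite Frobenius group. -/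
theorem result :
    ∃ (L : Type) (_ : Group L) (_ : Finite L) (H : Subgroup L), Cfsg.IsFrobeniusComplement H ∧ Nonempty (H ≃* Matrix.SpecialLinearGroup (Fin 2) (ZMod 3)) := by
  classical
  let φ := phi
  let L := Multiplicative (ZMod 5 × ZMod 5) ⋊[φ] S
  have hfinL : Finite L := Finite.of_equiv _ (SemidirectProduct.equivProd (φ := φ)).symm
  let H : Subgroup L := (SemidirectProduct.inr : S →* L).range
  have e2 : S ≃* H := MonoidHom.ofInjective SemidirectProduct.inr_injective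
  refine ⟨L, inferInstance, hfinL, H, ⟨?_, ?_, ?_⟩, ⟨e2.symm⟩⟩
  · intro hbot
    -- a nontrivial element of S
    let t : S := ⟨!![1, 1; 0, 1], by decide⟩
    have ht : t ≠ 1 := by
      intro h
      have := congrArg (fun g : S => g 0 1) h
      revert this
      decide
    have hmem : (SemidirectProduct.inr t : L) ∈ H := ⟨t, rfl⟩
    rw [hbot, Subgroup.mem_bot] at hmem
    have := congrArg SemidirectProduct.right hmem
    rw [right_inr] at this
    exact ht this
  · intro htop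
    have hmem : (SemidirectProduct.inl (Multiplicative.ofAdd ((1, 0) : ZMod 5 × ZMod 5)) : L) ∈ H := by
      rw [htop]; trivial
    obtain ⟨u, hu⟩ := hmem
    have := congrArg SemidirectProduct.left hu
    rw [left_inr, left_inl] at this
    have h1 : (0 : ZMod 5 × ZMod 5) = (1, 0) := congrArg Multiplicative.toAdd this
    have h3 : (0 : ZMod 5) = 1 := congrArg Prod.fst h1
    revert h3
    decide
  · intro g hg
    exact Cfsg.Agent.S4299.frob φ phi_fpf g hg

end Cfsg.Agent.S4298
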