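import Mathlib
import Cfsg.Statements.S4300

set_option autoImplicit false
open Cfsg

namespace Cfsg.Agent.S4300

/-- Let G act faithfully and primitively on a set X, and suppose the stabilizer of some point is a simple group. Then either G is simple, or G has a normal subgroup, neither trivial nor the whole group, that acts regularly on X (transitively with trivial point stabilizers). -/
theorem result {G : Type*} [Group G] {X : Type*} [MulAction G X] [FaithfulSMul G X]
    (hprim : MulAction.IsPreprimitive G X) (x : X) (hsimple : IsSimpleGroup (MulAction.stabilizer G x)) :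
    IsSimpleGroup G ∨ ∃ N : Subgroup G, N.Normal ∧ N ≠ ⊥ ∧ N ≠ ⊤ ∧
      MulAction.IsPretransitive N X ∧ ∀ y : X, MulAction.stabilizer N y = ⊥ := by
  by_cases hex : ∃ N : Subgroup G, N.Normal ∧ N ≠ ⊥ ∧ N ≠ ⊤
  · right
    obtain ⟨N, hNn, hNbot, hNtop⟩ := hex
    have hquasi : MulAction.IsQuasiPreprimitive G X := inferInstance
    -- N acts transitively
    have hNtrans : MulAction.IsPretransitive N X := by
      apply hquasi.isPretransitive_of_normal
      intro hfix
      apply hNbot
      rw [Subgroup.eq_bot_iff_forall]
      intro n hn
      apply FaithfulSMul.eq_of_smul_eq_smul (α := X)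
      intro y
      have : y ∈ MulAction.fixedPoints N X := by rw [hfix]; trivial
      rw [one_smul]
      exact this ⟨n, hn⟩
    refine ⟨N, hNn, hNbot, hNtop, hNtrans, ?_⟩
    -- N ∩ G_x as a normal subgroup of G_x
    have hKn : (N.subgroupOf (MulAction.stabilizer G x)).Normal := inferInstance
    have hinter : ∀ m : G, m ∈ N → m • x = x → m = 1 := by
      rcases hKn.eq_bot_or_eq_top with hb | ht
      · intro m hmN hmx
        have : (⟨m, hmx⟩ : MulAction.stabilizer G x) ∈ N.subgroupOf (MulAction.stabilizer G x) := by
          rw [Subgroup.mem_subgroupOf]; exact hmN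
        rw [hb, Subgroup.mem_bot] at this
        exact congrArg Subtype.val this
      · exfalso
        apply hNtop
        rw [eq_top_iff]
        intro g _
        obtain ⟨n, hn⟩ := hNtrans.exists_smul_eq x (g • x)
        have hstab : (n : G)⁻¹ * g ∈ MulAction.stabilizer G x := by
          rw [MulAction.mem_stabilizer_iff, mul_smul]
          have : (n : G) • x = g • x := hn
          rw [← this, inv_smul_smul]
        have : (⟨(n : G)⁻¹ * g, hstab⟩ : MulAction.stabilizer G x) ∈
            N.subgroupOf (MulAction.stabilizer G x) := by rw [ht]; trivial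
        rw [Subgroup.mem_subgroupOf] at this
        have h2 := N.mul_mem n.2 this
        simpa using h2
    intro y
    rw [Subgroup.eq_bot_iff_forall]
    rintro ⟨m, hmN⟩ hm
    rw [MulAction.mem_stabilizer_iff] at hm
    have hm' : m • y = y := hm
    obtain ⟨n, hn⟩ := hNtrans.exists_smul_eq x y
    have hn' : (n : G) • x = y := hn
    have h1 : ((n : G)⁻¹ * m * n) • x = x := by
      rw [mul_smul, mul_smul, hn', hm', ← hn', inv_smul_smul]
    have h2 : (n : G)⁻¹ * m * n ∈ N := N.mul_mem (N.mul_mem (N.inv_mem n.2) hmN) n.2
    have h3 := hinter _ h2 h1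
    apply Subtype.ext
    show m = 1
    have : m = (n : G) * ((n : G)⁻¹ * m * n) * (n : G)⁻¹ := by group
    rw [this, h3]; group
  · left
    push Not at hex
    have : Nontrivial G := by
      have h1 : Nontrivial (MulAction.stabilizer G x) := hsimple.toNontrivial
      obtain ⟨a, b, hab⟩ := h1
      exact ⟨a, b, fun h => hab (Subtype.ext h)⟩
    refine ⟨fun N hN => ?_⟩
    by_contra hcon
    push Not at hcon
    exact hcon.2 (hex N hN hcon.1)

end Cfsg.Agent.S4300
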