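import Mathlib
import Cfsg.Statements.S4301

set_option autoImplicit false
open Cfsg

namespace Cfsg.Agent.S4301

variable {X : Type*}

/-- an embedding with prescribed first value -/
theorem exists_emb1 {k : ℕ} (hk : 1 ≤ k) (e : Fin k ↪ X) (x : X) :
    ∃ a : Fin k ↪ X, a ⟨0, hk⟩ = x := by
  classical
  refine ⟨e.trans (Equiv.swap (e ⟨0, hk⟩) x).toEmbedding, ?_⟩
  simp

/-- an embedding with prescribed first two values -/
theorem exists_emb2 {k : ℕ} (hk : 2 ≤ k) (e : Fin k ↪ X) (x y : X) (hxy : x ≠ y) :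
    ∃ a : Fin k ↪ X, a ⟨0, by omega⟩ = x ∧ a ⟨1, by omega⟩ = y := by
  classical
  obtain ⟨a1, ha1⟩ := exists_emb1 (by omega : 1 ≤ k) e x
  have hne : a1 ⟨1, by omega⟩ ≠ x := by
    intro h
    rw [← ha1] at h
    have := a1.injective h
    simp [Fin.ext_iff] at this
  refine ⟨a1.trans (Equiv.swap (a1 ⟨1, by omega⟩) y).toEmbedding, ?_, ?_⟩
  · simp only [Function.Embedding.trans_apply, Equiv.coe_toEmbedding, ha1]
    exact Equiv.swap_apply_of_ne_of_ne hne.symm hxy
  · simp


/-- the union of `G` and the double coset `G h G` -/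
def dc (G : Subgroup (Equiv.Perm (Option X))) (h : Equiv.Perm (Option X)) :
    Set (Equiv.Perm (Option X)) :=
  {f | f ∈ G ∨ ∃ u ∈ G, ∃ v ∈ G, f = u * h * v}

section

variable (G : Subgroup (Equiv.Perm (Option X))) (hfix : ∀ f ∈ G, f none = none)
    (k : ℕ) (hk : 2 ≤ k) (hkX : Nonempty (Fin k ↪ X))
    (htrans : ∀ a b : Fin k ↪ X, ∃ f ∈ G, ∀ i, f (some (a i)) = some (b i))
    (h g : Equiv.Perm (Option X)) (hg : g ∈ G) (x y : X)
    (h1 : h none = some x) (h2 : h (some x) = none) (h3 : h (some y) = some y)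
    (h4 : g (some x) = some y) (h5 : g (some y) = some x)
    (h6 : (g * h) ^ 3 ∈ G) (h7 : h ^ 2 ∈ G)
    (h8 : ∀ f ∈ G, f (some x) = some x → h * f * h ∈ G ∧ (h * f * h) (some x) = some x)

include hfix hk hkX htrans hg h2 h3 h4 h6 h7 h8

theorem hwh_mem (w : Equiv.Perm (Option X)) (hw : w ∈ G) : h * w * h ∈ dc G h := by
  have hs : h * h ∈ G := by rw [← pow_two]; exact h7
  have hxy : x ≠ y := by
    intro e
    rw [← e, h2] at h3
    cases h3
  by_cases hwx : w (some x) = some x
  · exact Or.inl (h8 w hw hwx).1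
  · have hne : w (some x) ≠ none := by
      intro h0
      rw [← hfix w hw] at h0
      have := w.injective h0
      cases this
    obtain ⟨z, hz⟩ := Option.ne_none_iff_exists'.mp hne
    have hzx : x ≠ z := fun e => hwx (by rw [hz, e])
    obtain ⟨e⟩ := hkX
    obtain ⟨a, ha0, ha1⟩ := exists_emb2 hk e x y hxy
    obtain ⟨b, hb0, hb1⟩ := exists_emb2 hk e x z hzx
    obtain ⟨f2, hf2, hf2ab⟩ := htrans a b
    have hf2x : f2 (some x) = some x := by
      have := hf2ab ⟨0, by omega⟩
      rwa [ha0, hb0] at this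
    have hf2y : f2 (some y) = some z := by
      have := hf2ab ⟨1, by omega⟩
      rwa [ha1, hb1] at this
    have hf3 : (f2 * g)⁻¹ * w ∈ G := G.mul_mem (G.inv_mem (G.mul_mem hf2 hg)) hw
    have hf3x : ((f2 * g)⁻¹ * w) (some x) = some x := by
      rw [Equiv.Perm.mul_apply, hz, Equiv.Perm.inv_eq_iff_eq, Equiv.Perm.mul_apply, h4, hf2y]
    have hA := (h8 f2 hf2 hf2x).1
    have hB := (h8 _ hf3 hf3x).1
    right
    refine ⟨(h * f2 * h) * (h * h)⁻¹ * g⁻¹ * (g * h) ^ 3 * (h * h)⁻¹, ?_,
      g⁻¹ * (h * h)⁻¹ * (h * ((f2 * g)⁻¹ * w) * h), ?_, ?_⟩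
    · exact G.mul_mem (G.mul_mem (G.mul_mem (G.mul_mem hA (G.inv_mem hs)) (G.inv_mem hg)) h6)
        (G.inv_mem hs)
    · exact G.mul_mem (G.mul_mem (G.inv_mem hg) (G.inv_mem hs)) hB
    · rw [show (g * h) ^ 3 = g * h * (g * h) * (g * h) from by rw [pow_succ, pow_succ, pow_one]]
      group


theorem closure_subset :
    ∀ f ∈ Subgroup.closure ((G : Set (Equiv.Perm (Option X))) ∪ {h}), f ∈ dc G h := by
  have hs : h * h ∈ G := by rw [← pow_two]; exact h7
  have hinv : h⁻¹ = (h * h)⁻¹ * h := by group
  have key := hwh_mem G hfix k hk hkX htrans h g hg x y h2 h3 h4 h6 h7 h8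
  intro f hf
  induction hf using Subgroup.closure_induction with
  | mem f hf =>
    rcases hf with hf | hf
    · exact Or.inl hf
    · rw [Set.mem_singleton_iff] at hf
      subst hf
      exact Or.inr ⟨1, G.one_mem, 1, G.one_mem, by group⟩
  | one => exact Or.inl G.one_mem
  | mul f1 f2 _ _ ih1 ih2 =>
    rcases ih1 with h1' | ⟨u1, hu1, v1, hv1, rfl⟩
    · rcases ih2 with h2' | ⟨u2, hu2, v2, hv2, rfl⟩
      · exact Or.inl (G.mul_mem h1' h2')
      · exact Or.inr ⟨f1 * u2, G.mul_mem h1' hu2, v2, hv2, by group⟩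
    · rcases ih2 with h2' | ⟨u2, hu2, v2, hv2, rfl⟩
      · exact Or.inr ⟨u1, hu1, v1 * f2, G.mul_mem hv1 h2', by group⟩
      · rcases key (v1 * u2) (G.mul_mem hv1 hu2) with h3' | ⟨u3, hu3, v3, hv3, h3'⟩
        · left
          have : u1 * h * v1 * (u2 * h * v2) = u1 * (h * (v1 * u2) * h) * v2 := by group
          rw [this]
          exact G.mul_mem (G.mul_mem hu1 h3') hv2
        · right
          refine ⟨u1 * u3, G.mul_mem hu1 hu3, v3 * v2, G.mul_mem hv3 hv2, ?_⟩
          have : u1 * h * v1 * (u2 * h * v2) = u1 * (h * (v1 * u2) * h) * v2 := by group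
          rw [this, h3']
          group
  | inv f _ ih =>
    rcases ih with h1' | ⟨u, hu, v, hv, rfl⟩
    · exact Or.inl (G.inv_mem h1')
    · right
      refine ⟨v⁻¹ * (h * h)⁻¹, G.mul_mem (G.inv_mem hv) (G.inv_mem hs), u⁻¹, G.inv_mem hu, ?_⟩
      group

end

/-- One-point extension of a multiply transitive group. Let X be a set and G a group of permutations of Option X (the set X with one extra point ∗ = none) all of whose elements fix ∗, such that G is k-transitive on the points of X for some k ≥ 2, X having at least k points. Suppose a permutation h of Option X and an element g of G satisfy: h interchanges ∗ with a point x of X and fixes a point y of X; g interchanges x and y; (g h)³ and h² lie in G; and for every f in G fixing x, the product h f h lies in G and fixes x. Then an element of the group generated by G and h fixes ∗ exactly when it lies in G, and that group acts (k+1)-transitively on Option X. -/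
theorem result {X : Type*} (G : Subgroup (Equiv.Perm (Option X))) (hfix : ∀ f ∈ G, f none = none)
    (k : ℕ) (hk : 2 ≤ k) (hkX : Nonempty (Fin k ↪ X))
    (htrans : ∀ a b : Fin k ↪ X, ∃ f ∈ G, ∀ i, f (some (a i)) = some (b i))
    (h g : Equiv.Perm (Option X)) (hg : g ∈ G) (x y : X)
    (h1 : h none = some x) (h2 : h (some x) = none) (h3 : h (some y) = some y)
    (h4 : g (some x) = some y) (h5 : g (some y) = some x)
    (h6 : (g * h) ^ 3 ∈ G) (h7 : h ^ 2 ∈ G)
    (h8 : ∀ f ∈ G, f (some x) = some x → h * f * h ∈ G ∧ (h * f * h) (some x) = some x) :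
    (∀ f ∈ Subgroup.closure ((G : Set (Equiv.Perm (Option X))) ∪ {h}), f none = none ↔ f ∈ G) ∧
      MulAction.IsMultiplyPretransitive (Subgroup.closure ((G : Set (Equiv.Perm (Option X))) ∪ {h})) (Option X) (k + 1) := by
  have hsub := closure_subset G hfix k hk hkX htrans h g hg x y h2 h3 h4 h6 h7 h8
  have hGle : G ≤ Subgroup.closure ((G : Set (Equiv.Perm (Option X))) ∪ {h}) := by
    intro f hf
    exact Subgroup.subset_closure (Or.inl hf)
  have hhmem : h ∈ Subgroup.closure ((G : Set (Equiv.Perm (Option X))) ∪ {h}) :=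
    Subgroup.subset_closure (Or.inr rfl)
  constructor
  · intro f hf
    constructor
    · intro hfn
      rcases hsub f hf with hG | ⟨u, hu, v, hv, rfl⟩
      · exact hG
      · exfalso
        rw [Equiv.Perm.mul_apply, Equiv.Perm.mul_apply, hfix v hv, h1] at hfn
        rw [← hfix u hu] at hfn
        have := u.injective hfn
        cases this
    · exact hfix f
  · rw [MulAction.isMultiplyPretransitive_iff]
    -- moving any point to `none`
    have hmove : ∀ w : Option X, ∃ f ∈ Subgroup.closure ((G : Set (Equiv.Perm (Option X))) ∪ {h}),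
        f w = none := by
      intro w
      cases w with
      | none => exact ⟨1, Subgroup.one_mem _, rfl⟩
      | some w' =>
        obtain ⟨e⟩ := hkX
        obtain ⟨a, ha⟩ := exists_emb1 (by omega : 1 ≤ k) e w'
        obtain ⟨b, hb⟩ := exists_emb1 (by omega : 1 ≤ k) e x
        obtain ⟨f1, hf1, hf1ab⟩ := htrans a b
        refine ⟨h * f1, Subgroup.mul_mem _ hhmem (hGle hf1), ?_⟩
        have := hf1ab ⟨0, by omega⟩
        rw [ha, hb] at this
        rw [Equiv.Perm.mul_apply, this, h2]
    intro a b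
    obtain ⟨fa, hfa, hfa0⟩ := hmove (a 0)
    obtain ⟨fb, hfb, hfb0⟩ := hmove (b 0)
    have hsa : ∀ i : Fin k, (fa (a i.succ)).isSome := by
      intro i
      rw [Option.isSome_iff_ne_none]
      intro h0
      rw [← hfa0] at h0
      have := a.injective (fa.injective h0)
      exact Fin.succ_ne_zero i this
    have hsb : ∀ i : Fin k, (fb (b i.succ)).isSome := by
      intro i
      rw [Option.isSome_iff_ne_none]
      intro h0
      rw [← hfb0] at h0
      have := b.injective (fb.injective h0)
      exact Fin.succ_ne_zero i this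
    let abar : Fin k ↪ X := ⟨fun i => Option.get _ (hsa i), by
      intro i j hij
      have h1 : fa (a i.succ) = fa (a j.succ) := by
        rw [← Option.some_get (hsa i), ← Option.some_get (hsa j)]
        exact congrArg some hij
      exact Fin.succ_injective _ (a.injective (fa.injective h1))⟩
    let bbar : Fin k ↪ X := ⟨fun i => Option.get _ (hsb i), by
      intro i j hij
      have h1 : fb (b i.succ) = fb (b j.succ) := by
        rw [← Option.some_get (hsb i), ← Option.some_get (hsb j)]
        exact congrArg some hij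
      exact Fin.succ_injective _ (b.injective (fb.injective h1))⟩
    obtain ⟨f, hf, hfab⟩ := htrans abar bbar
    refine ⟨⟨fb⁻¹ * f * fa, Subgroup.mul_mem _ (Subgroup.mul_mem _ (Subgroup.inv_mem _ hfb)
      (hGle hf)) hfa⟩, ?_⟩
    ext i : 1
    rw [Function.Embedding.smul_apply]
    show (fb⁻¹ * f * fa) (a i) = b i
    rw [Equiv.Perm.mul_apply, Equiv.Perm.mul_apply, Equiv.Perm.inv_eq_iff_eq]
    refine Fin.cases ?_ ?_ i
    · rw [hfa0, hfb0, hfix f hf]
    · intro j
      have h1 : fa (a j.succ) = some (abar j) := (Option.some_get (hsa j)).symm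
      have h2 : fb (b j.succ) = some (bbar j) := (Option.some_get (hsb j)).symm
      rw [h1, h2, hfab j]

end Cfsg.Agent.S4301
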