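import Mathlib
import Cfsg.Statements.S4314

set_option autoImplicit false
open Cfsg

namespace Cfsg.Agent.S4314

open Subgroup
open scoped commutatorElement

/-- A finite group with a core-free nontrivial subgroup of prime index `p`, all of whose class sizes
are `1` or prime, has order `p * q` for a prime `q` and is non-commutative. -/
theorem card_of_corefree {Q : Type*} [Group Q] [Finite Q] (D : Subgroup Q) (p : ℕ) (hp : p.Prime)
    (hDi : D.index = p) (hcore : D.normalCore = ⊥) (hD : D ≠ ⊥)
    (hQ : ∀ y : Q, (centralizer ({y} : Set Q)).index = 1 ∨ ((centralizer ({y} : Set Q)).index).Prime) :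
    ∃ q : ℕ, q.Prime ∧ Nat.card Q = p * q ∧ ¬ IsMulCommutative Q ∧ center Q = ⊥ := by
  haveI : Fact p.Prime := ⟨hp⟩
  have hnc : ¬ IsMulCommutative Q := by
    intro hc
    have hn : D.Normal := by
      constructor
      intro n hn g
      have : g * n * g⁻¹ = n := by
        rw [hc.is_comm.comm g n, mul_assoc, mul_inv_cancel, mul_one]
      rw [this]; exact hn
    have : D ≤ D.normalCore := Subgroup.normal_le_normalCore.mpr le_rfl
    rw [hcore] at this
    exact hD (le_bot_iff.mp this)
  have hpdvd : p ∣ Nat.card Q := by rw [← hDi]; exact D.index_dvd_card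
  obtain ⟨σ₀, hσ₀⟩ := exists_prime_orderOf_dvd_card' p hpdvd
  have hσ₀1 : σ₀ ≠ 1 := by
    intro h1
    rw [h1, orderOf_one] at hσ₀
    exact hp.one_lt.ne hσ₀
  -- a conjugate of σ₀ outside D
  have : ∃ b : Q, b * σ₀ * b⁻¹ ∉ D := by
    by_contra hcon
    push Not at hcon
    have : σ₀ ∈ D.normalCore := hcon
    rw [hcore, Subgroup.mem_bot] at this
    exact hσ₀1 this
  obtain ⟨b, hb⟩ := this
  set σ := b * σ₀ * b⁻¹ with hσdef
  have hσ : orderOf σ = p := by
    have : σ = MulAut.conj b σ₀ := by simp [hσdef, MulAut.conj_apply]
    rw [this, MulEquiv.orderOf_eq, hσ₀]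
  have hScard : Nat.card (zpowers σ) = p := by rw [Nat.card_zpowers, hσ]
  have hdisj : Disjoint (zpowers σ) D := by
    rw [Subgroup.disjoint_def]
    intro y hyS hyD
    by_contra hy1
    have h1 : (⟨σ, mem_zpowers σ⟩ : zpowers σ) ∈ zpowers (⟨y, hyS⟩ : zpowers σ) :=
      mem_zpowers_of_prime_card hScard (by
        intro h; apply hy1; exact congrArg Subtype.val h)
    obtain ⟨k, hk⟩ := Subgroup.mem_zpowers_iff.mp h1
    have h2 : y ^ k = σ := by
      have := congrArg Subtype.val hk
      simpa using this
    apply hb
    rw [← h2]
    exact D.zpow_mem hyD k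
  have hcardQ : Nat.card (zpowers σ) * Nat.card D = Nat.card Q := by
    rw [hScard, ← hDi, mul_comm]; exact D.card_mul_index
  have hcompl : (zpowers σ).IsComplement' D := isComplement'_of_card_mul_and_disjoint hcardQ hdisj
  have hcompl' : D.IsComplement' (zpowers σ) := hcompl.symm
  -- the centralizer of σ is ⟨σ⟩
  have hcent : centralizer ({σ} : Set Q) = zpowers σ := by
    apply le_antisymm
    · intro c hc
      rw [mem_centralizer_singleton_iff] at hc
      obtain ⟨⟨⟨s, hs⟩, ⟨d, hd⟩⟩, hsd, -⟩ := (isComplement'_def.mp hcompl).existsUnique c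
      simp only at hsd
      have hsσ : s * σ = σ * s := by
        obtain ⟨k, rfl⟩ := Subgroup.mem_zpowers_iff.mp hs
        exact ((Commute.refl σ).zpow_left k).eq
      have hdσ : d * σ = σ * d := by
        have hd' : d = s⁻¹ * c := by rw [← hsd]; group
        have h1 : Commute s σ := hsσ
        have h2 : Commute c σ := hc
        rw [hd']
        exact (h1.inv_left.mul_left h2).eq
      have hdcore : d ∈ D.normalCore := by
        intro g
        obtain ⟨⟨⟨d', hd'⟩, ⟨s', hs'⟩⟩, hg, -⟩ := (isComplement'_def.mp hcompl').existsUnique g
        simp only at hg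
        have hs'd : s' * d = d * s' := by
          obtain ⟨k, rfl⟩ := Subgroup.mem_zpowers_iff.mp hs'
          exact ((Commute.zpow_left (show Commute σ d from hdσ.symm) k)).eq
        have : g * d * g⁻¹ = d' * d * d'⁻¹ := by
          rw [← hg]
          have : d' * s' * d * (d' * s')⁻¹ = d' * (s' * d) * s'⁻¹ * d'⁻¹ := by group
          rw [this, hs'd]; group
        rw [this]
        exact D.mul_mem (D.mul_mem hd' hd) (D.inv_mem hd')
      rw [hcore, Subgroup.mem_bot] at hdcore
      rw [← hsd, hdcore, mul_one]
      exact hs
    · rw [zpowers_le]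
      rw [mem_centralizer_singleton_iff]
  have hidx : (centralizer ({σ} : Set Q)).index = Nat.card D := by
    rw [hcent]
    have h1 := (zpowers σ).card_mul_index
    rw [hScard] at h1
    have h2 := D.card_mul_index
    rw [hDi] at h2
    have : p * (zpowers σ).index = p * Nat.card D := by rw [h1, ← h2, mul_comm]
    exact Nat.eq_of_mul_eq_mul_left hp.pos this
  have hD1 : Nat.card D ≠ 1 := by
    intro h1
    exact hD (Subgroup.card_eq_one.mp h1)
  have hZ : center Q = ⊥ := by
    rw [eq_bot_iff]
    intro z hz
    rw [Subgroup.mem_bot]
    by_contra hz1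
    have hzS : z ∈ zpowers σ := by
      rw [← hcent, mem_centralizer_singleton_iff]
      exact (Subgroup.mem_center_iff.mp hz σ).symm
    have h1 : (⟨σ, mem_zpowers σ⟩ : zpowers σ) ∈ zpowers (⟨z, hzS⟩ : zpowers σ) :=
      mem_zpowers_of_prime_card hScard (by
        intro h; apply hz1; exact congrArg Subtype.val h)
    obtain ⟨k, hk⟩ := Subgroup.mem_zpowers_iff.mp h1
    have h2 : z ^ k = σ := by
      have := congrArg Subtype.val hk
      simpa using this
    have hσZ : σ ∈ center Q := by rw [← h2]; exact (center Q).zpow_mem hz k
    have htop : centralizer ({σ} : Set Q) = ⊤ := by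
      rw [eq_top_iff]
      intro g _
      rw [mem_centralizer_singleton_iff]
      exact (Subgroup.mem_center_iff.mp hσZ g)
    have : (centralizer ({σ} : Set Q)).index = 1 := by rw [htop, index_top]
    rw [hidx] at this
    exact hD1 this
  rcases hQ σ with h1 | h1
  · rw [hidx] at h1; exact absurd h1 hD1
  · rw [hidx] at h1
    refine ⟨Nat.card D, h1, ?_, hnc, hZ⟩
    rw [← hDi, mul_comm]; exact D.card_mul_index.symm

theorem index_centralizer_mk_dvd {G : Type*} [Group G] [Finite G] (N : Subgroup G) [N.Normal] (y : G) :
    (centralizer ({(QuotientGroup.mk' N y)} : Set (G ⧸ N))).index ∣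
      (centralizer ({y} : Set G) ⊔ N).index := by
  have h1 : (centralizer ({y} : Set G)).map (QuotientGroup.mk' N) ≤
      centralizer ({(QuotientGroup.mk' N y)} : Set (G ⧸ N)) := by
    rintro _ ⟨c, hc, rfl⟩
    rw [SetLike.mem_coe, mem_centralizer_singleton_iff] at hc
    rw [mem_centralizer_singleton_iff, ← map_mul, ← map_mul, hc]
  have h2 := Subgroup.index_dvd_of_le h1
  rw [Subgroup.index_map, QuotientGroup.ker_mk', MonoidHom.range_eq_top.mpr (QuotientGroup.mk'_surjective N),
    index_top, mul_one] at h2
  exact h2

theorem quot_class {G : Type*} [Group G] [Finite G] (N : Subgroup G) [N.Normal]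
    (h : ∀ x : G, (centralizer ({x} : Set G)).index = 1 ∨ ((centralizer ({x} : Set G)).index).Prime)
    (y : G ⧸ N) :
    (centralizer ({y} : Set (G ⧸ N))).index = 1 ∨ ((centralizer ({y} : Set (G ⧸ N))).index).Prime := by
  induction y using QuotientGroup.induction_on with
  | H y =>
    have h1 := index_centralizer_mk_dvd N y
    have h2 : (centralizer ({y} : Set G) ⊔ N).index ∣ (centralizer ({y} : Set G)).index :=
      Subgroup.index_dvd_of_le le_sup_left
    have h3 := h1.trans h2
    rcases h y with h4 | h4
    · left
      rw [h4] at h3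
      exact Nat.dvd_one.mp h3
    · rcases (Nat.dvd_prime h4).mp h3 with h5 | h5
      · left; exact h5
      · right; change ((centralizer ({(QuotientGroup.mk' N y)} : Set (G ⧸ N))).index).Prime
        rw [h5]; exact h4

/-- a normal subgroup of index `1` or prime contains all commutators -/
theorem commutator_mem_of_normal {G : Type*} [Group G] [Finite G] (C : Subgroup G) [C.Normal]
    (hC : C.index = 1 ∨ C.index.Prime) (x y : G) : ⁅x, y⁆ ∈ C := by
  rcases hC with h1 | h1
  · rw [Subgroup.index_eq_one.mp h1]; exact mem_top _
  · haveI : Fact (C.index.Prime) := ⟨h1⟩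
    have hcard : Nat.card (G ⧸ C) = C.index := rfl
    haveI : IsCyclic (G ⧸ C) := isCyclic_of_prime_card hcard
    rw [← QuotientGroup.eq_one_iff]
    have : ((⁅x, y⁆ : G) : G ⧸ C) = ⁅(x : G ⧸ C), (y : G ⧸ C)⁆ := by
      simp [commutatorElement_def]
    rw [this, commutatorElement_eq_one_iff_mul_comm]
    exact Std.Commutative.comm (op := (· * ·)) _ _

theorem transport {G : Type*} [Group G] (N : Subgroup G) [N.Normal] (hN : N = center G)
    (P : ∀ (M : Subgroup G) [M.Normal], Prop) (h : P N) : P (center G) := by
  subst hN
  exact h

/-- Let `G` be a finite group every conjugacy class of which has size 1 or a prime. Then either `G` is nilpotent of class at most 2, or `G/Z(G)` is a non-abelian group of order `pq` for distinct primes `p, q` (a Frobenius group of order `pq`). -/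
theorem result {G : Type*} [Group G] [Finite G]
    (h : ∀ x : G, (Subgroup.centralizer ({x} : Set G)).index = 1 ∨ ((Subgroup.centralizer ({x} : Set G)).index).Prime) :
    Subgroup.upperCentralSeries G 2 = ⊤ ∨
      ∃ p q : ℕ, p.Prime ∧ q.Prime ∧ p ≠ q ∧ Nat.card (G ⧸ Subgroup.center G) = p * q ∧ ¬ IsMulCommutative (G ⧸ Subgroup.center G) := by
  by_cases hall : ∀ x : G, (centralizer ({x} : Set G)).Normal
  · left
    rw [eq_top_iff]
    intro x _
    rw [show (2 : ℕ) = 1 + 1 from rfl, Subgroup.mem_upperCentralSeries_succ_iff]
    intro y
    rw [Subgroup.upperCentralSeries_one, Subgroup.mem_center_iff]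
    intro z
    haveI := hall z
    have := commutator_mem_of_normal (centralizer ({z} : Set G)) (h z) x y
    rw [mem_centralizer_singleton_iff] at this
    exact this.symm
  · right
    push Not at hall
    obtain ⟨x, hx⟩ := hall
    set C := centralizer ({x} : Set G) with hC
    have hCtop : C ≠ ⊤ := by
      intro htop; apply hx; rw [htop]; infer_instance
    have hp : C.index.Prime := by
      rcases h x with h1 | h1
      · exact absurd (Subgroup.index_eq_one.mp h1) hCtop
      · exact h1
    set p := C.index with hpdef
    set N := C.normalCore with hN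
    have hNC : N ≤ C := Subgroup.normalCore_le C
    set f := QuotientGroup.mk' N with hf
    have hker : f.ker = N := QuotientGroup.ker_mk' N
    set D := C.map f with hDdef
    have hDi : D.index = p := by
      rw [hDdef, Subgroup.index_map, hker, sup_eq_left.mpr hNC,
        MonoidHom.range_eq_top.mpr (QuotientGroup.mk'_surjective N), index_top, mul_one]
    have hcomap : D.comap f = C := by
      rw [hDdef, Subgroup.comap_map_eq, hker, sup_eq_left.mpr hNC]
    have hcore : D.normalCore = ⊥ := by
      rw [eq_bot_iff]
      intro y hy
      obtain ⟨y, rfl⟩ := QuotientGroup.mk'_surjective N y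
      rw [Subgroup.mem_bot]
      change f y = 1
      rw [← MonoidHom.mem_ker, hker]
      intro b
      have := hy (f b)
      rw [← map_inv, ← map_mul, ← map_mul, ← Subgroup.mem_comap, hcomap] at this
      exact this
    have hD : D ≠ ⊥ := by
      intro hbot
      apply hx
      have : C ≤ N := by
        intro c hc
        have h1 : f c ∈ D := ⟨c, hc, rfl⟩
        rw [hbot, Subgroup.mem_bot, ← MonoidHom.mem_ker, hker] at h1
        exact h1
      have hCN : C = N := le_antisymm this hNC
      rw [hCN]
      infer_instance
    obtain ⟨q, hq, hcard, hnc, hZ⟩ := card_of_corefree D p hp hDi hcore hD (quot_class N h)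
    -- N is the centre of G
    have hcenN : center G ≤ N :=
      Subgroup.normal_le_normalCore.mpr (Subgroup.center_le_centralizer _)
    have hNtop : N ≠ ⊤ := fun htop => hCtop (top_le_iff.mp (htop ▸ hNC))
    have hcent : ∀ g : G, g ∉ N → N ≤ centralizer ({g} : Set G) := by
      intro g hg
      have hgnc : (centralizer ({g} : Set G)).index ≠ 1 := by
        intro h1
        have h2 := Subgroup.index_eq_one.mp h1
        apply hg
        apply hcenN
        rw [Subgroup.mem_center_iff]
        intro z
        have : z ∈ centralizer ({g} : Set G) := by rw [h2]; exact mem_top _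
        rw [mem_centralizer_singleton_iff] at this
        exact this
      have hr : ((centralizer ({g} : Set G)).index).Prime := by
        rcases h g with h1 | h1
        · exact absurd h1 hgnc
        · exact h1
      have h2 : (centralizer ({g} : Set G) ⊔ N).index ∣ (centralizer ({g} : Set G)).index :=
        Subgroup.index_dvd_of_le le_sup_left
      rcases (Nat.dvd_prime hr).mp h2 with h3 | h3
      · -- then f g is central: impossible
        exfalso
        have h4 := index_centralizer_mk_dvd N g
        rw [h3, Nat.dvd_one, Subgroup.index_eq_one] at h4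
        have h5 : f g ∈ center (G ⧸ N) := by
          rw [Subgroup.mem_center_iff]
          intro z
          have : z ∈ centralizer ({f g} : Set (G ⧸ N)) := by rw [h4]; exact mem_top _
          rw [mem_centralizer_singleton_iff] at this
          exact this
        rw [hZ, Subgroup.mem_bot, ← MonoidHom.mem_ker, hker] at h5
        exact hg h5
      · have h4 : centralizer ({g} : Set G) ⊔ N = centralizer ({g} : Set G) := by
          symm
          apply Subgroup.eq_of_le_of_card_ge le_sup_left
          have e1 := (centralizer ({g} : Set G) ⊔ N).card_mul_index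
          have e2 := (centralizer ({g} : Set G)).card_mul_index
          rw [h3] at e1
          have : Nat.card ↥(centralizer ({g} : Set G) ⊔ N) = Nat.card ↥(centralizer ({g} : Set G)) := by
            apply Nat.eq_of_mul_eq_mul_right hr.pos
            rw [e1, e2]
          exact this.le
        rw [← h4]
        exact le_sup_right
    have hNcen : N ≤ center G := by
      intro n hn
      rw [Subgroup.mem_center_iff]
      intro g
      by_cases hg : g ∈ N
      · obtain ⟨k, hk⟩ : ∃ k : G, k ∉ N := by
          by_contra hcon
          push Not at hcon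
          exact hNtop (eq_top_iff.mpr (fun k _ => hcon k))
        have hkg : k * g ∉ N := by
          intro hkg
          apply hk
          have := N.mul_mem hkg (N.inv_mem hg)
          rwa [mul_assoc, mul_inv_cancel, mul_one] at this
        have h1 := hcent k hk hn
        have h2 := hcent (k * g) hkg hn
        rw [mem_centralizer_singleton_iff] at h1 h2
        -- n k = k n, n (k g) = (k g) n
        have : k * (g * n) = k * (n * g) := by
          calc k * (g * n) = (k * g) * n := by group
            _ = n * (k * g) := h2.symm
            _ = (n * k) * g := by group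
            _ = (k * n) * g := by rw [h1]
            _ = k * (n * g) := by group
        exact mul_left_cancel this
      · have h1 := hcent g hg hn
        rw [mem_centralizer_singleton_iff] at h1
        exact h1.symm
    have hNeq : N = center G := le_antisymm hNcen hcenN
    have hpq : p ≠ q := by
      intro hpq
      apply hnc
      haveI : Fact p.Prime := ⟨hp⟩
      apply IsPGroup.isMulCommutative_of_card_eq_prime_sq (p := p)
      rw [hcard, ← hpq, sq]
    exact transport N hNeq
      (fun M _ => ∃ p q : ℕ, p.Prime ∧ q.Prime ∧ p ≠ q ∧ Nat.card (G ⧸ M) = p * q ∧ ¬ IsMulCommutative (G ⧸ M))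
      ⟨p, q, hp, hq, hpq, hcard, hnc⟩

end Cfsg.Agent.S4314
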