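import Mathlib
import Cfsg.Statements.S4320

set_option autoImplicit false
set_option linter.unusedSectionVars false
open Cfsg

namespace Cfsg.Agent.S4320


section Adj

variable {R : Type*} [CommRing R] {F : Type*} [AddCommGroup F] [Module R F]
  {I : Type*} [Fintype I] [DecidableEq I]

theorem det_smul_eq_zero (M : Matrix I I R) (v : I → F)
    (h : ∀ i, ∑ l, M i l • v l = 0) (l : I) : M.det • v l = 0 := by
  have h1 : ∑ i, M.adjugate l i • (∑ l', M i l' • v l') = 0 := by
    apply Finset.sum_eq_zero
    intro i _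
    rw [h i, smul_zero]
  have h2 : ∑ i, M.adjugate l i • (∑ l', M i l' • v l') =
      ∑ l', (M.adjugate * M) l l' • v l' := by
    simp_rw [Finset.smul_sum, smul_smul]
    rw [Finset.sum_comm]
    refine Finset.sum_congr rfl ?_
    intro l' _
    rw [← Finset.sum_smul, Matrix.mul_apply]
  rw [h2, Matrix.adjugate_mul] at h1
  simp only [Matrix.smul_apply, Matrix.one_apply, smul_eq_mul, mul_ite, mul_one, mul_zero,
    ite_smul, zero_smul, Finset.sum_ite_eq, Finset.mem_univ, if_true] at h1
  exact h1

end Adj

section GroupRing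

variable {Γ : Type*} [CommGroup Γ] [Fintype Γ] [DecidableEq Γ]

/-- the norm element of the group ring -/
noncomputable def Nm (Γ : Type*) [CommGroup Γ] [Fintype Γ] : MonoidAlgebra ℤ Γ :=
  ∑ γ : Γ, MonoidAlgebra.of ℤ Γ γ

/-- the augmentation -/
noncomputable def aug (Γ : Type*) [CommGroup Γ] : MonoidAlgebra ℤ Γ →ₐ[ℤ] ℤ :=
  MonoidAlgebra.lift ℤ ℤ Γ (1 : Γ →* ℤ)

omit [Fintype Γ] [DecidableEq Γ] in
theorem aug_of (γ : Γ) : aug Γ (MonoidAlgebra.of ℤ Γ γ) = 1 := by
  rw [aug, MonoidAlgebra.lift_of]
  rfl

theorem aug_Nm : aug Γ (Nm Γ) = Fintype.card Γ := by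
  rw [Nm, map_sum]
  rw [Finset.sum_congr rfl (fun γ _ => aug_of γ)]
  simp

theorem Nm_coeff (δ : Γ) : (Nm Γ).coeff δ = 1 := by
  rw [Nm, MonoidAlgebra.coeff_sum, Finsupp.finsetSum_apply]
  simp [MonoidAlgebra.of_apply, Finsupp.single_apply]

theorem eq_smul_Nm (D : MonoidAlgebra ℤ Γ) (h : ∀ γ : Γ, D * MonoidAlgebra.of ℤ Γ γ = D) :
    D = (D.coeff 1) • Nm Γ := by
  apply MonoidAlgebra.ext
  ext δ
  have h1 := congrArg (fun x => x.coeff δ) (h δ)
  simp only [MonoidAlgebra.of_apply, MonoidAlgebra.coeff_mul_single_apply, mul_inv_cancel,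
    mul_one] at h1
  rw [MonoidAlgebra.coeff_smul, Finsupp.smul_apply, Nm_coeff, smul_eq_mul, mul_one, h1]

end GroupRing



section Abstract

variable {Γ : Type*} [CommGroup Γ] [Fintype Γ] [DecidableEq Γ]
  {F : Type*} [AddCommGroup F] [Module (MonoidAlgebra ℤ Γ) F]
  {I : Type*} [Fintype I] [DecidableEq I]

theorem abstract_det (v : I → F) (x : I → Γ) (n : I → ℕ) (M : Matrix I I (MonoidAlgebra ℤ Γ))
    (ha : ∀ i, ∑ l, M i l • v l = 0)
    (hb : ∀ i, ∑ l, M i l * (MonoidAlgebra.of ℤ Γ (x l) - 1) = 0)
    (hc : ∀ i l, aug Γ (M i l) = if i = l then (n i : ℤ) else 0)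
    (hd : ∏ i, n i = Fintype.card Γ)
    (he : Submonoid.closure (Set.range x) = ⊤) (l : I) : Nm Γ • v l = 0 := by
  have h1 : ∀ l, M.det • v l = 0 := det_smul_eq_zero M v ha
  have h2 : ∀ l, M.det * (MonoidAlgebra.of ℤ Γ (x l) - 1) = 0 := by
    intro l
    have := det_smul_eq_zero M (fun l => MonoidAlgebra.of ℤ Γ (x l) - 1) hb l
    simpa [smul_eq_mul] using this
  have h3 : ∀ γ : Γ, M.det * MonoidAlgebra.of ℤ Γ γ = M.det := by
    intro γ
    have hγ : γ ∈ Submonoid.closure (Set.range x) := by rw [he]; trivial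
    induction hγ using Submonoid.closure_induction with
    | mem y hy =>
      obtain ⟨l, rfl⟩ := hy
      have := h2 l
      rw [mul_sub, mul_one, sub_eq_zero] at this
      exact this
    | one => rw [map_one, mul_one]
    | mul a b _ _ iha ihb => rw [map_mul, ← mul_assoc, iha, ihb]
  have h4 := eq_smul_Nm M.det h3
  have h5 : aug Γ M.det = ∏ i, (n i : ℤ) := by
    rw [AlgHom.map_det]
    have : (aug Γ).mapMatrix M = Matrix.diagonal (fun i => (n i : ℤ)) := by
      ext i l
      simp only [AlgHom.mapMatrix_apply, Matrix.map_apply, Matrix.diagonal_apply]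
      exact hc i l
    rw [this, Matrix.det_diagonal]
  have h6 : aug Γ M.det = (M.det.coeff 1) * Fintype.card Γ := by
    conv_lhs => rw [h4]
    rw [map_smul, aug_Nm, smul_eq_mul]
  have h7 : (M.det.coeff 1) = 1 := by
    have hcard : ((Fintype.card Γ : ℕ) : ℤ) ≠ 0 := by
      exact_mod_cast Fintype.card_ne_zero
    have : (M.det.coeff 1) * (Fintype.card Γ : ℤ) = 1 * (Fintype.card Γ : ℤ) := by
      rw [← h6, h5, one_mul, ← hd]
      push_cast
      rfl
    exact mul_right_cancel₀ hcard this
  rw [h7, one_smul] at h4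
  rw [← h4]
  exact h1 l

end Abstract



section Mod
variable (Γ : Type*) [CommGroup Γ] (A : Type*) [AddCommGroup A]

/-- translation by `γ` on functions `Γ → A` -/
def trans (γ : Γ) : Module.End ℤ (Γ → A) where
  toFun v := fun q => v (γ⁻¹ * q)
  map_add' := by intro v w; rfl
  map_smul' := by intro c v; rfl

/-- translations form a monoid homomorphism -/
def transHom : Γ →* Module.End ℤ (Γ → A) where
  toFun := trans Γ A
  map_one' := by
    ext v q
    simp [trans]
  map_mul' := by
    intro γ δ
    ext v q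
    show v ((γ * δ)⁻¹ * q) = v (δ⁻¹ * (γ⁻¹ * q))
    rw [mul_inv_rev, mul_assoc]

/-- the action of the group ring -/
noncomputable def rho : MonoidAlgebra ℤ Γ →ₐ[ℤ] Module.End ℤ (Γ → A) :=
  MonoidAlgebra.lift ℤ _ Γ (transHom Γ A)

/-- `Γ → A` as a module over the group ring -/
@[instance_reducible]
noncomputable def modF : Module (MonoidAlgebra ℤ Γ) (Γ → A) :=
  Module.compHom (Γ → A) (rho Γ A).toRingHom

attribute [local instance] modF

theorem smul_def' (r : MonoidAlgebra ℤ Γ) (v : Γ → A) : r • v = rho Γ A r v := rfl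

theorem of_smul (γ : Γ) (v : Γ → A) (q : Γ) :
    (MonoidAlgebra.of ℤ Γ γ • v) q = v (γ⁻¹ * q) := by
  rw [smul_def', rho, MonoidAlgebra.lift_of]
  rfl



theorem Nm_smul [Fintype Γ] (v : Γ → A) (q : Γ) : (Nm Γ • v) q = ∑ q', v q' := by
  rw [Nm, Finset.sum_smul, Finset.sum_apply]
  simp_rw [of_smul]
  exact Fintype.sum_equiv ((Equiv.inv Γ).trans (Equiv.mulRight q)) _ _ (fun γ => rfl)

end Mod

section Transfer
open Subgroup MonoidHom



variable {G : Type*} [Group G]

/-- a fixed section of `G → G ⧸ commutator G` -/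
noncomputable def sec (q : Abelianization G) : G := Quotient.out q

theorem mk_sec (q : Abelianization G) : (Abelianization.of (sec q) : Abelianization G) = q :=
  Quotient.out_eq' q

theorem mem_aux (g : G) (q : Abelianization G) :
    (sec q)⁻¹ * g * sec ((Abelianization.of g)⁻¹ * q) ∈ commutator G := by
  rw [← Abelianization.ker_of, MonoidHom.mem_ker]
  simp only [map_mul, map_inv, mk_sec]
  have : q⁻¹ * Abelianization.of g * ((Abelianization.of g)⁻¹ * q) = 1 := by group
  exact this

/-- the wreath-product cocycle (additively) -/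
noncomputable def ff (g : G) (q : Abelianization G) : Additive (Abelianization (commutator G)) :=
  Additive.ofMul (Abelianization.of (⟨(sec q)⁻¹ * g * sec ((Abelianization.of g)⁻¹ * q), mem_aux g q⟩ :
    commutator G))

theorem ff_mul (g h : G) (q : Abelianization G) :
    ff (g * h) q = ff g q + ff h ((Abelianization.of g)⁻¹ * q) := by
  unfold ff
  rw [← ofMul_mul, ← map_mul]
  congr 2
  apply Subtype.ext
  simp only [Subgroup.coe_mul, map_mul, mul_inv_rev]
  have : (Abelianization.of h : Abelianization G)⁻¹ * ((Abelianization.of g)⁻¹ * q) =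
      (Abelianization.of h)⁻¹ * (Abelianization.of g)⁻¹ * q := by rw [mul_assoc]
  rw [this]
  group




/-- the identity map `Abelianization G → G ⧸ commutator G` -/
def toQ (q : Abelianization G) : G ⧸ commutator G := q
/-- the identity map `G ⧸ commutator G → Abelianization G` -/
def ofQ (q : G ⧸ commutator G) : Abelianization G := q

theorem smul_eq_mul_of (g : G) (q : G ⧸ commutator G) :
    ofQ (g • q) = (Abelianization.of g : Abelianization G) * ofQ q := by
  obtain ⟨x, rfl⟩ := QuotientGroup.mk_surjective q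
  rfl

theorem transfer_eq [Finite G] [Fintype (Abelianization G)] (g : G) :
    Additive.ofMul (transfer (Abelianization.of : commutator G →* Abelianization (commutator G)) g) =
      ∑ q : Abelianization G, ff g q := by
  classical
  let T : (commutator G).LeftTransversal :=
    ⟨Set.range (fun q : G ⧸ commutator G => sec (ofQ q)), isComplement_range_left (fun q => mk_sec (ofQ q))⟩
  rw [transfer_def _ T g]
  unfold leftTransversals.diff
  simp only
  rw [ofMul_prod]
  refine Finset.sum_congr ?_ ?_
  · congr 1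
    exact Subsingleton.elim _ _
  · intro q _
    unfold ff
    congr 2
    apply Subtype.ext
    simp only
    have h1 : ((T.2.leftQuotientEquiv q : G)) = sec (ofQ q) :=
      IsComplement.leftQuotientEquiv_apply (f := fun q : G ⧸ commutator G => sec (ofQ q))
        (fun q => mk_sec (ofQ q)) q
    have h2 : (((g • T).2.leftQuotientEquiv q : G)) =
        g * sec ((Abelianization.of g)⁻¹ * ofQ q) := by
      rw [smul_apply_eq_smul_apply_inv_smul]
      have h3 : ((T.2.leftQuotientEquiv (g⁻¹ • q) : G)) = sec (ofQ (g⁻¹ • q)) :=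
        IsComplement.leftQuotientEquiv_apply (f := fun q : G ⧸ commutator G => sec (ofQ q))
          (fun q => mk_sec (ofQ q)) _
      rw [h3, smul_eq_mul_of, map_inv]
      rfl
    rw [h1, h2, mul_assoc]
    rfl


end Transfer

section Crossed
open scoped commutatorElement
variable {G : Type*} [Group G]
attribute [local instance] modF

/-- the group ring of the abelianization -/
abbrev RR (G : Type*) [Group G] := MonoidAlgebra ℤ (Abelianization G)

/-- the class of `g` as an element of the group ring -/
noncomputable def ob (g : G) : RR G :=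
  MonoidAlgebra.of ℤ (Abelianization G) (Abelianization.of g)

theorem ob_mul (g h : G) : ob (g * h) = ob g * ob h := by
  rw [ob, ob, ob, map_mul, map_mul]

theorem ob_one : ob (1 : G) = 1 := by
  rw [ob, map_one, map_one]

theorem ob_pow (g : G) (k : ℕ) : ob (g ^ k) = ob g ^ k := by
  rw [ob, ob, map_pow, map_pow]

theorem ob_of_mem {h : G} (hh : h ∈ commutator G) : ob h = 1 := by
  rw [ob]
  have : (Abelianization.of h : Abelianization G) = 1 := by
    rw [← MonoidHom.mem_ker, Abelianization.ker_of]
    exact hh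
  rw [this, map_one]

theorem aug_ob (g : G) : aug (Abelianization G) (ob g) = 1 := aug_of _

theorem ff_mul' (g h : G) : ff (g * h) = ff g + ob g • ff h := by
  funext q
  rw [Pi.add_apply, ob, of_smul, ff_mul]

theorem ff_one : ff (1 : G) = 0 := by
  have := ff_mul' (1 : G) 1
  rw [mul_one, ob_one, one_smul] at this
  exact left_eq_add.mp this

theorem ff_pow (g : G) (k : ℕ) : ff (g ^ k) = (∑ j ∈ Finset.range k, ob g ^ j) • ff g := by
  induction k with
  | zero => simp [ff_one]
  | succ k ih =>
    rw [pow_succ, ff_mul', ih, Finset.sum_range_succ, add_smul]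
    rw [ob_pow]

theorem ff_commutator (x y : G) :
    ff ⁅x, y⁆ = (1 - ob y) • ff x - (1 - ob x) • ff y := by
  have h1 : ⁅x, y⁆ * (y * x) = x * y := by
    rw [commutatorElement_def]; group
  have h2 := ff_mul' ⁅x, y⁆ (y * x)
  rw [h1, ff_mul', ff_mul', ob_of_mem (Subgroup.commutator_mem_commutator (Subgroup.mem_top x)
    (Subgroup.mem_top y)), one_smul] at h2
  rw [sub_smul, sub_smul, one_smul, one_smul]
  have h3 : ff ⁅x, y⁆ = ff x + ob x • ff y - (ff y + ob y • ff x) := by
    rw [h2]; abel
  rw [h3]; abel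

end Crossed

section Family
open scoped commutatorElement
variable {G : Type*} [Group G] {I : Type*} [Fintype I] [DecidableEq I]
attribute [local instance] modF

/-- `ff g` is a combination of the `ff (x l)` compatible with the augmentation-ideal images -/
def Rep (x : I → G) (g : G) : Prop :=
  ∃ c : I → RR G, ff g = ∑ l, c l • ff (x l) ∧ ob g - 1 = ∑ l, c l * (ob (x l) - 1)

theorem Rep_one (x : I → G) : Rep x 1 :=
  ⟨fun _ => 0, by simp [ff_one], by simp [ob_one]⟩

theorem Rep_gen (x : I → G) (l : I) : Rep x (x l) := by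
  refine ⟨fun l' => if l' = l then 1 else 0, ?_, ?_⟩
  · simp
  · simp

theorem Rep_mul (x : I → G) {g h : G} (hg : Rep x g) (hh : Rep x h) : Rep x (g * h) := by
  obtain ⟨c, hc1, hc2⟩ := hg
  obtain ⟨d, hd1, hd2⟩ := hh
  refine ⟨fun l => c l + ob g * d l, ?_, ?_⟩
  · rw [ff_mul', hc1, hd1, Finset.smul_sum, ← Finset.sum_add_distrib]
    refine Finset.sum_congr rfl ?_
    intro l _
    rw [add_smul, mul_smul]
  · have : ob (g * h) - 1 = (ob g - 1) + ob g * (ob h - 1) := by
      rw [ob_mul]; ring
    rw [this, hc2, hd2, Finset.mul_sum, ← Finset.sum_add_distrib]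
    refine Finset.sum_congr rfl ?_
    intro l _
    ring

theorem Rep_all (x : I → G) (hgen : Submonoid.closure (Set.range x) = ⊤) (g : G) : Rep x g := by
  have hg : g ∈ Submonoid.closure (Set.range x) := by rw [hgen]; trivial
  induction hg using Submonoid.closure_induction with
  | mem y hy =>
    obtain ⟨l, rfl⟩ := hy
    exact Rep_gen x l
  | one => exact Rep_one x
  | mul a b _ _ iha ihb => exact Rep_mul x iha ihb

/-- combinations with coefficients in the augmentation ideal and vanishing "boundary" -/
def Good (x : I → G) (w : Abelianization G → Additive (Abelianization (commutator G))) : Prop :=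
  ∃ m : I → RR G, (∀ l, aug (Abelianization G) (m l) = 0) ∧
    ∑ l, m l * (ob (x l) - 1) = 0 ∧ w = ∑ l, m l • ff (x l)

theorem Good_zero (x : I → G) : Good x 0 :=
  ⟨fun _ => 0, by simp, by simp, by simp⟩

theorem Good_add (x : I → G) {w w' : Abelianization G → Additive (Abelianization (commutator G))}
    (h : Good x w) (h' : Good x w') : Good x (w + w') := by
  obtain ⟨m, h1, h2, h3⟩ := h
  obtain ⟨m', h1', h2', h3'⟩ := h'
  refine ⟨fun l => m l + m' l, ?_, ?_, ?_⟩
  · intro l; rw [map_add, h1, h1', add_zero]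
  · simp_rw [add_mul]
    rw [Finset.sum_add_distrib, h2, h2', add_zero]
  · simp_rw [add_smul]
    rw [Finset.sum_add_distrib, h3, h3']

theorem Good_neg (x : I → G) {w : Abelianization G → Additive (Abelianization (commutator G))}
    (h : Good x w) : Good x (-w) := by
  obtain ⟨m, h1, h2, h3⟩ := h
  refine ⟨fun l => - m l, ?_, ?_, ?_⟩
  · intro l; rw [map_neg, h1, neg_zero]
  · simp_rw [neg_mul]
    rw [Finset.sum_neg_distrib, h2, neg_zero]
  · simp_rw [neg_smul]
    rw [Finset.sum_neg_distrib, h3]

theorem Good_commutator (x : I → G) {a b : G} (ha : Rep x a) (hb : Rep x b) :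
    Good x (ff ⁅a, b⁆) := by
  obtain ⟨c, hc1, hc2⟩ := ha
  obtain ⟨d, hd1, hd2⟩ := hb
  refine ⟨fun l => (1 - ob b) * c l - (1 - ob a) * d l, ?_, ?_, ?_⟩
  · intro l
    rw [map_sub, map_mul, map_mul, map_sub, map_sub, map_one, aug_ob, aug_ob]
    ring
  · have h1 : ∑ l, ((1 - ob b) * c l - (1 - ob a) * d l) * (ob (x l) - 1) =
        (1 - ob b) * ∑ l, c l * (ob (x l) - 1) - (1 - ob a) * ∑ l, d l * (ob (x l) - 1) := by
      rw [Finset.mul_sum, Finset.mul_sum, ← Finset.sum_sub_distrib]
      refine Finset.sum_congr rfl ?_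
      intro l _
      ring
    rw [h1, ← hc2, ← hd2]
    ring
  · rw [ff_commutator, hc1, hd1, Finset.smul_sum, Finset.smul_sum, ← Finset.sum_sub_distrib]
    refine Finset.sum_congr rfl ?_
    intro l _
    show (1 - ob b) • c l • ff (x l) - (1 - ob a) • d l • ff (x l) =
      ((1 - ob b) * c l - (1 - ob a) * d l) • ff (x l)
    rw [sub_smul ((1 - ob b) * c l), mul_smul, mul_smul]

theorem ff_mul_of_mem {h h' : G} (hh : h ∈ commutator G) : ff (h * h') = ff h + ff h' := by
  rw [ff_mul', ob_of_mem hh, one_smul]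

theorem ff_inv_of_mem {h : G} (hh : h ∈ commutator G) : ff h⁻¹ = - ff h := by
  have := ff_mul_of_mem (h' := h⁻¹) hh
  rw [mul_inv_cancel, ff_one] at this
  exact eq_neg_of_add_eq_zero_right this.symm

theorem Good_of_mem (x : I → G) (hgen : Submonoid.closure (Set.range x) = ⊤) {h : G}
    (hh : h ∈ commutator G) : Good x (ff h) := by
  have hh' := hh
  rw [commutator_eq_closure] at hh'
  induction hh' using Subgroup.closure_induction with
  | mem y hy =>
    obtain ⟨a, b, rfl⟩ := hy
    exact Good_commutator x (Rep_all x hgen a) (Rep_all x hgen b)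
  | one => rw [ff_one]; exact Good_zero x
  | mul a b ha hb iha ihb =>
    have ha' : a ∈ commutator G := by rw [commutator_eq_closure]; exact ha
    have hb' : b ∈ commutator G := by rw [commutator_eq_closure]; exact hb
    rw [ff_mul_of_mem ha']
    exact Good_add x (iha ha') (ihb hb')
  | inv a ha iha =>
    have ha' : a ∈ commutator G := by rw [commutator_eq_closure]; exact ha
    rw [ff_inv_of_mem ha']
    exact Good_neg x (iha ha')

theorem transfer_gen_eq_one [Finite G] (x : I → G) (nn : I → ℕ)
    (hpow : ∀ l, x l ^ nn l ∈ commutator G)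
    (hprod : ∏ l, nn l = Nat.card (Abelianization G))
    (hgen : Submonoid.closure (Set.range x) = ⊤) (l : I) :
    MonoidHom.transfer (Abelianization.of : ↥(commutator G) →* Abelianization ↥(commutator G))
      (x l) = 1 := by
  classical
  have : Fintype (Abelianization G) := Fintype.ofFinite _
  have hG : ∀ l, Good x (ff (x l ^ nn l)) := fun l => Good_of_mem x hgen (hpow l)
  choose m hm1 hm2 hm3 using hG
  let ν : I → RR G := fun l => ∑ j ∈ Finset.range (nn l), ob (x l) ^ j
  let M : Matrix I I (RR G) := fun l l' => (if l = l' then ν l else 0) - m l l'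
  have ha : ∀ i, ∑ l, M i l • ff (x l) = 0 := by
    intro i
    simp only [M, sub_smul]
    rw [Finset.sum_sub_distrib, ← hm3 i, ff_pow]
    simp only [ite_smul, zero_smul, Finset.sum_ite_eq, Finset.mem_univ, if_true]
    exact sub_self _
  have hb : ∀ i, ∑ l, M i l * (MonoidAlgebra.of ℤ (Abelianization G) (Abelianization.of (x l)) - 1)
      = 0 := by
    intro i
    show ∑ l, M i l * (ob (x l) - 1) = 0
    simp only [M, sub_mul]
    rw [Finset.sum_sub_distrib, hm2 i, sub_zero]
    simp only [ite_mul, zero_mul, Finset.sum_ite_eq, Finset.mem_univ, if_true]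
    show (∑ j ∈ Finset.range (nn i), ob (x i) ^ j) * (ob (x i) - 1) = 0
    rw [geom_sum_mul, ← ob_pow, ob_of_mem (hpow i), sub_self]
  have hc : ∀ i l, aug (Abelianization G) (M i l) = if i = l then (nn i : ℤ) else 0 := by
    intro i l
    simp only [M]
    rw [map_sub, hm1 i l, sub_zero]
    by_cases hil : i = l
    · rw [if_pos hil, if_pos hil]
      show aug (Abelianization G) (∑ j ∈ Finset.range (nn i), ob (x i) ^ j) = nn i
      rw [map_sum]
      simp [aug_ob]
    · rw [if_neg hil, if_neg hil, map_zero]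
  have hd : ∏ i, nn i = Fintype.card (Abelianization G) := by
    rw [hprod, Nat.card_eq_fintype_card]
  have he : Submonoid.closure (Set.range (fun l => (Abelianization.of (x l) : Abelianization G)))
      = ⊤ := by
    have h1 : Set.range (fun l => (Abelianization.of (x l) : Abelianization G)) =
        (Abelianization.of : G →* Abelianization G) '' Set.range x := by
      rw [← Set.range_comp]; rfl
    rw [h1, ← MonoidHom.map_mclosure, hgen, ← MonoidHom.mrange_eq_map,
      MonoidHom.mrange_eq_top_of_surjective _ (QuotientGroup.mk_surjective)]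
  have key := abstract_det (Γ := Abelianization G) (fun l => ff (x l))
    (fun l => (Abelianization.of (x l) : Abelianization G)) nn M ha hb hc hd he l
  have h2 := congrFun key 1
  rw [Nm_smul] at h2
  have h3 := transfer_eq (x l)
  rw [h2] at h3
  exact h3

theorem transfer_eq_one_of_family [Finite G] (x : I → G) (nn : I → ℕ)
    (hpow : ∀ l, x l ^ nn l ∈ commutator G)
    (hprod : ∏ l, nn l = Nat.card (Abelianization G))
    (hgen : Submonoid.closure (Set.range x) = ⊤) :
    MonoidHom.transfer (Abelianization.of : ↥(commutator G) →* Abelianization ↥(commutator G)) =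
      1 := by
  ext g
  have hg : g ∈ Submonoid.closure (Set.range x) := by rw [hgen]; trivial
  induction hg using Submonoid.closure_induction with
  | mem y hy =>
    obtain ⟨l, rfl⟩ := hy
    rw [transfer_gen_eq_one x nn hpow hprod hgen l]
    rfl
  | one => rw [map_one, map_one]
  | mul a b _ _ iha ihb => rw [map_mul, iha, ihb, map_mul]

end Family

section Final
variable {G : Type*} [Group G]

theorem basis_gen {ι : Type} [Fintype ι] [DecidableEq ι] (n : ι → ℕ) (hn : ∀ i, 1 < n i) {Γ : Type*} [CommGroup Γ]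
    (e : Γ ≃* ((i : ι) → Multiplicative (ZMod (n i)))) (S : Submonoid Γ)
    (hS : ∀ i, e.symm (Pi.mulSingle i (Multiplicative.ofAdd (1 : ZMod (n i)))) ∈ S) (γ : Γ) :
    γ ∈ S := by
  have hne : ∀ i, NeZero (n i) := fun i => ⟨by have := hn i; omega⟩
  have h1 : e γ = ∏ i, Pi.mulSingle i (e γ i) := (Finset.univ_prod_mulSingle (e γ)).symm
  have h2 : ∀ i, e γ i = (Multiplicative.ofAdd (1 : ZMod (n i))) ^
      (ZMod.val (Multiplicative.toAdd (e γ i))) := by
    intro i
    rw [← ofAdd_nsmul, nsmul_eq_mul, mul_one, ZMod.natCast_zmod_val]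
    rfl
  have h3 : e γ = ∏ i : ι, (Pi.mulSingle i (Multiplicative.ofAdd (1 : ZMod (n i))) :
      (j : ι) → Multiplicative (ZMod (n j))) ^ (ZMod.val (Multiplicative.toAdd (e γ i))) := by
    conv_lhs => rw [h1]
    refine Finset.prod_congr rfl ?_
    intro i _
    rw [← Pi.mulSingle_pow, ← h2 i]
  have h4 : γ = ∏ i, (e.symm (Pi.mulSingle i (Multiplicative.ofAdd (1 : ZMod (n i))))) ^
      (ZMod.val (Multiplicative.toAdd (e γ i))) := by
    apply e.injective
    refine h3.trans ?_
    rw [map_prod]
    refine Finset.prod_congr rfl ?_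
    intro i _
    rw [map_pow, MulEquiv.apply_symm_apply]
  rw [h4]
  exact Submonoid.prod_mem S (fun i _ => Submonoid.pow_mem S (hS i) _)

theorem basis_pow {ι : Type} [Fintype ι] [DecidableEq ι] (n : ι → ℕ) {Γ : Type*} [CommGroup Γ]
    (e : Γ ≃* ((i : ι) → Multiplicative (ZMod (n i)))) (i : ι) :
    (e.symm (Pi.mulSingle i (Multiplicative.ofAdd (1 : ZMod (n i))))) ^ (n i) = 1 := by
  apply e.injective
  rw [map_pow, MulEquiv.apply_symm_apply, map_one e, ← Pi.mulSingle_pow, ← ofAdd_nsmul, nsmul_eq_mul,
    mul_one, ZMod.natCast_self, ofAdd_zero, Pi.mulSingle_one]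

theorem basis_card {ι : Type} [Fintype ι] (n : ι → ℕ) {Γ : Type*} [CommGroup Γ]
    (e : Γ ≃* ((i : ι) → Multiplicative (ZMod (n i)))) : ∏ i, n i = Nat.card Γ := by
  rw [Nat.card_congr e.toEquiv, Nat.card_pi]
  refine Finset.prod_congr rfl ?_
  intro i _
  exact (Nat.card_zmod (n i)).symm

theorem pit [Finite G] :
    MonoidHom.transfer (Abelianization.of : ↥(commutator G) →* Abelianization ↥(commutator G)) =
      (1 : G →* Abelianization ↥(commutator G)) := by
  classical
  obtain ⟨ι, _, n, hn, ⟨e⟩⟩ := CommGroup.equiv_prod_multiplicative_zmod_of_finite (Abelianization G)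
  have : Fintype ↥(commutator G) := Fintype.ofFinite _
  let γ : ι → Abelianization G :=
    fun i => e.symm (Pi.mulSingle i (Multiplicative.ofAdd (1 : ZMod (n i))))
  let x : ι ⊕ ↥(commutator G) → G := Sum.elim (fun i => sec (γ i)) (fun h => (h : G))
  let nn : ι ⊕ ↥(commutator G) → ℕ := Sum.elim n (fun _ => 1)
  apply transfer_eq_one_of_family x nn
  · rintro (i | h)
    · show (sec (γ i)) ^ (n i) ∈ commutator G
      rw [← Abelianization.ker_of, MonoidHom.mem_ker, map_pow, mk_sec]
      exact basis_pow n e i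
    · show (h : G) ^ 1 ∈ commutator G
      rw [pow_one]
      exact h.2
  · rw [Fintype.prod_sum_type]
    simp only [nn, Sum.elim_inl, Sum.elim_inr, Finset.prod_const_one, mul_one]
    exact basis_card n e
  · rw [eq_top_iff]
    intro g _
    set S := Submonoid.closure (Set.range x) with hS
    have hH : ∀ h : G, h ∈ commutator G → h ∈ S := by
      intro h hh
      apply Submonoid.subset_closure
      exact ⟨Sum.inr ⟨h, hh⟩, rfl⟩
    have hγ : ∀ i, γ i ∈ S.map (Abelianization.of : G →* Abelianization G) := by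
      intro i
      refine ⟨sec (γ i), ?_, mk_sec (γ i)⟩
      apply Submonoid.subset_closure
      exact ⟨Sum.inl i, rfl⟩
    have hall := basis_gen n hn e (S.map (Abelianization.of : G →* Abelianization G)) hγ
      (Abelianization.of g)
    obtain ⟨s, hs, hsg⟩ := hall
    have h1 : s⁻¹ * g ∈ commutator G := by
      rw [← Abelianization.ker_of, MonoidHom.mem_ker, map_mul, map_inv, hsg, inv_mul_cancel]
    have h2 : g = s * (s⁻¹ * g) := by group
    rw [h2]
    exact S.mul_mem hs (hH _ h1)

end Final


/-- The Principal Ideal Theorem of class field theory in its group-theoretic form: for every finite group `G`, the transfer homomorphism from `G` into the abelianization `G'/G''` of its derived subgroup `G'` is the trivial homomorphism. -/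
theorem result {G : Type*} [Group G] [Finite G] :
    MonoidHom.transfer (Abelianization.of : ↥(commutator G) →* Abelianization ↥(commutator G)) =
      (1 : G →* Abelianization ↥(commutator G)) := by
  exact pit

end Cfsg.Agent.S4320
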