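import Mathlib
import Cfsg.Statements.S4321
import Cfsg.Agent.Lib.Helper19.PSingC
-- import your own Cfsg.Agent.* helpers here

set_option autoImplicit false
open Cfsg

namespace Cfsg.Agent.S4321

/-- Let `G` be a finite group and `p` a prime not dividing the order of the centre of `G`. Consider the primes dividing the size of some conjugacy class of a `p`-singular element (an element of order divisible by `p`), two of them adjacent when their product divides such a class size. Then any two distinct such primes are joined by a path with at most 3 edges (the graph is connected of diameter at most 3). -/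
theorem result {G : Type*} [Group G] [Finite G] (p : ℕ) [Fact p.Prime]
    (hZ : ¬ p ∣ Nat.card ↥(Subgroup.center G)) (r s : ℕ) (hr : (r.Prime ∧ ∃ x : G, p ∣ orderOf x ∧ r ∣ (Subgroup.centralizer ({x} : Set G)).index)) (hs : (s.Prime ∧ ∃ x : G, p ∣ orderOf x ∧ s ∣ (Subgroup.centralizer ({x} : Set G)).index)) (hrs : r ≠ s) :
    (∃ x : G, p ∣ orderOf x ∧ r * s ∣ (Subgroup.centralizer ({x} : Set G)).index) ∨ (∃ t : ℕ, (t.Prime ∧ ∃ x : G, p ∣ orderOf x ∧ t ∣ (Subgroup.centralizer ({x} : Set G)).index) ∧ t ≠ r ∧ t ≠ s ∧ (∃ x : G, p ∣ orderOf x ∧ r * t ∣ (Subgroup.centralizer ({x} : Set G)).index) ∧ (∃ x : G, p ∣ orderOf x ∧ t * s ∣ (Subgroup.centralizer ({x} : Set G)).index)) ∨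
      (∃ t u : ℕ, (t.Prime ∧ ∃ x : G, p ∣ orderOf x ∧ t ∣ (Subgroup.centralizer ({x} : Set G)).index) ∧ (u.Prime ∧ ∃ x : G, p ∣ orderOf x ∧ u ∣ (Subgroup.centralizer ({x} : Set G)).index) ∧ t ≠ r ∧ u ≠ s ∧ t ≠ u ∧ (∃ x : G, p ∣ orderOf x ∧ r * t ∣ (Subgroup.centralizer ({x} : Set G)).index) ∧ (∃ x : G, p ∣ orderOf x ∧ t * u ∣ (Subgroup.centralizer ({x} : Set G)).index) ∧ (∃ x : G, p ∣ orderOf x ∧ u * s ∣ (Subgroup.centralizer ({x} : Set G)).index)) := by
  classical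
  by_contra hne
  obtain ⟨hrp, xr, hxr, hrxr⟩ := hr
  obtain ⟨hsp, ys, hys, hsys⟩ := hs
  have S1 : ∀ x y : G, p ∣ orderOf x → p ∣ orderOf y → r ∣ Cfsg.Agent.Helper19.PSing.cs x →
      s ∣ Cfsg.Agent.Helper19.PSing.cs y →
      ∀ t u : ℕ, t.Prime → u.Prime → t ∣ Cfsg.Agent.Helper19.PSing.cs x →
        u ∣ Cfsg.Agent.Helper19.PSing.cs y →
        t ≠ u ∧ ¬ ∃ w : G, p ∣ orderOf w ∧ t * u ∣ Cfsg.Agent.Helper19.PSing.cs w := by
    intro x y hx hy hrx hsy t u ht hu htx huy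
    refine ⟨fun h => hne ?_, fun h => hne ?_⟩
    · exact Cfsg.Agent.Helper19.PSing.path_of_link hrp hsp hrs hx hy hrx hsy ht hu htx huy
        (Or.inl h)
    · exact Cfsg.Agent.Helper19.PSing.path_of_link hrp hsp hrs hx hy hrx hsy ht hu htx huy
        (Or.inr h)
  by_cases hex : ∃ x₀ : G, p ∣ orderOf x₀ ∧ r ∣ Cfsg.Agent.Helper19.PSing.cs x₀ ∧
      p ∣ Cfsg.Agent.Helper19.PSing.cs x₀
  · obtain ⟨x₀, hx₀, hrx₀, hpx₀⟩ := hex
    apply Cfsg.Agent.Helper19.PSing.side_false hZ hrp hsp hxr hrxr hys hsys S1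
    intro y hy hsy hpy
    exact (S1 x₀ y hx₀ hy hrx₀ hsy p p (Fact.out) (Fact.out) hpx₀ hpy).1 rfl
  · push Not at hex
    apply Cfsg.Agent.Helper19.PSing.side_false hZ hsp hrp hys hsys hxr hrxr
    · intro x y hx hy hsx hry t u ht hu htx huy
      obtain ⟨h1, h2⟩ := S1 y x hy hx hry hsx u t hu ht huy htx
      refine ⟨fun h => h1 h.symm, ?_⟩
      rintro ⟨w, hw, hwd⟩
      exact h2 ⟨w, hw, by rw [mul_comm]; exact hwd⟩
    · intro y hy hry
      exact hex y hy hry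

end Cfsg.Agent.S4321
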