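import Mathlib
import Cfsg.Statements.S4325

set_option autoImplicit false
open Cfsg

namespace Cfsg.Agent.S4325

/-- Let r be a prime and m a natural number with m + 1 < r, and let π be a set of primes containing every prime below r but not r itself. Then in the symmetric group of degree r any m transpositions generate a π-subgroup, while O_π of the symmetric group is trivial. (So no bound on the number of conjugates that works for all π exists in the π-radical analogue of the Baer–Suzuki Theorem.) -/
theorem result (r m : ℕ) (hr : r.Prime)
    (hm : m + 1 < r) (π : Set ℕ) (hπ : ∀ q : ℕ, q.Prime → q < r → q ∈ π) (hrπ : r ∉ π)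
    (t : Fin m → Equiv.Perm (Fin r)) (ht : ∀ i, (t i).IsSwap) :
    Cfsg.IsPiSubgroup π (Subgroup.closure (Set.range t)) ∧ Cfsg.piCore π (Equiv.Perm (Fin r)) = ⊥ := by
  classical
  haveI : Fact r.Prime := ⟨hr⟩
  constructor
  · intro p hp hpK
    set K := Subgroup.closure (Set.range t) with hK
    have h1 : Nat.card K ∣ Nat.card (Equiv.Perm (Fin r)) := Subgroup.card_subgroup_dvd_card K
    have h2 : Nat.card (Equiv.Perm (Fin r)) = r.factorial := by
      rw [Nat.card_eq_fintype_card, Fintype.card_perm, Fintype.card_fin]
    have h3 : p ≤ r := (Nat.Prime.dvd_factorial hp).mp (h2 ▸ hpK.trans h1)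
    rcases lt_or_eq_of_le h3 with h4 | h4
    · exact hπ p hp h4
    · exfalso
      subst h4
      obtain ⟨σ, hσ⟩ := exists_prime_orderOf_dvd_card' p hpK
      choose a b hab htab using ht
      let e : Fin m → Sym2 (Fin p) := fun i => s(a i, b i)
      let Γ : SimpleGraph (Fin p) := SimpleGraph.fromEdgeSet (Set.range e)
      have hreach : ∀ τ ∈ K, ∀ x, Γ.Reachable x (τ x) := by
        intro τ hτ
        induction hτ using Subgroup.closure_induction with
        | mem τ hτ =>
          obtain ⟨i, rfl⟩ := hτ
          intro x
          rw [htab i]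
          by_cases hxa : x = a i
          · subst hxa
            rw [Equiv.swap_apply_left]
            apply SimpleGraph.Adj.reachable
            rw [SimpleGraph.fromEdgeSet_adj]
            exact ⟨⟨i, rfl⟩, hab i⟩
          · by_cases hxb : x = b i
            · subst hxb
              rw [Equiv.swap_apply_right]
              apply SimpleGraph.Adj.reachable
              rw [SimpleGraph.fromEdgeSet_adj]
              exact ⟨⟨i, Sym2.eq_swap⟩, (hab i).symm⟩
            · rw [Equiv.swap_apply_of_ne_of_ne hxa hxb]
        | one => intro x; exact SimpleGraph.Reachable.refl x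
        | mul σ τ _ _ hσ hτ => intro x; exact (hτ x).trans (hσ (τ x))
        | inv τ _ hτ =>
          intro x
          have := hτ (τ⁻¹ x)
          have e : τ (τ⁻¹ x) = x := by simp
          rw [e] at this
          exact this.symm
      -- σ is a full cycle
      have hord : orderOf (σ : Equiv.Perm (Fin p)) = p := by
        rw [Subgroup.orderOf_coe, hσ]
      have hcyc : (σ : Equiv.Perm (Fin p)).IsCycle := by
        apply Equiv.Perm.isCycle_of_prime_order''
        · rw [Fintype.card_fin]; exact hp
        · rw [Fintype.card_fin]; exact hord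
      have hsupp : (σ : Equiv.Perm (Fin p)).support = Finset.univ := by
        apply Finset.eq_univ_of_card
        rw [← hcyc.orderOf, hord, Fintype.card_fin]
      have hmoved : ∀ x, (σ : Equiv.Perm (Fin p)) x ≠ x := by
        intro x
        rw [← Equiv.Perm.mem_support, hsupp]
        exact Finset.mem_univ x
      have hconn : Γ.Connected := by
        haveI : Nonempty (Fin p) := ⟨⟨0, hp.pos⟩⟩
        refine ⟨?_⟩
        intro x y
        obtain ⟨i, hi⟩ := hcyc.sameCycle (hmoved x) (hmoved y)
        have hmem : (σ : Equiv.Perm (Fin p)) ^ i ∈ K := K.zpow_mem σ.2 i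
        have := hreach _ hmem x
        rwa [hi] at this
      have hcard := hconn.card_vert_le_card_edgeSet_add_one
      have hedge : Nat.card Γ.edgeSet ≤ m := by
        have hsub : Γ.edgeSet ⊆ Set.range e := by
          rw [SimpleGraph.edgeSet_fromEdgeSet]
          exact Set.sdiff_subset
        calc Nat.card Γ.edgeSet ≤ Nat.card (Set.range e) :=
              Nat.card_mono (Set.finite_range e) hsub
          _ ≤ Nat.card (Fin m) := Finite.card_range_le e
          _ = m := by rw [Nat.card_eq_fintype_card, Fintype.card_fin]
      rw [Nat.card_eq_fintype_card, Fintype.card_fin] at hcard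
      omega
  · rw [Cfsg.piCore, sSup_eq_bot]
    rintro N ⟨hN, hNπ⟩
    by_contra hne
    haveI := hN
    have hfix : MulAction.fixedPoints N (Fin r) ≠ Set.univ := by
      intro h
      apply hne
      rw [eq_bot_iff]
      intro σ hσ
      rw [Subgroup.mem_bot]
      ext x
      have hx : x ∈ MulAction.fixedPoints N (Fin r) := by rw [h]; trivial
      have h2 : (⟨σ, hσ⟩ : N) • x = x := hx ⟨σ, hσ⟩
      have h3 : σ x = x := h2
      rw [h3]
      rfl
    have htr : MulAction.IsPretransitive N (Fin r) :=
      MulAction.IsQuasiPreprimitive.isPretransitive_of_normal hfix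
    have hidx := MulAction.index_stabilizer_of_transitive (G := N) (x := (⟨0, hr.pos⟩ : Fin r))
    have : r ∣ Nat.card N := by
      have h5 := Subgroup.index_dvd_card (MulAction.stabilizer N (⟨0, hr.pos⟩ : Fin r))
      rw [hidx, Nat.card_eq_fintype_card, Fintype.card_fin] at h5
      exact h5
    exact hrπ (hNπ r hr this)

end Cfsg.Agent.S4325
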