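import Mathlib
import Cfsg.Statements.S4326
import Cfsg.Agent.S4253

set_option autoImplicit false
open Cfsg

namespace Cfsg.Agent.S4326

open scoped Pointwise

/-- Let G be a finite group, p a prime, x an automorphism of G of p-power order and M the subgroup of fixed points of x. Suppose that p divides the index of M and that either M is self-normalizing or M has trivial center. Then some conjugate of M is mapped onto itself by x but is not fixed elementwise by x. -/
theorem result {G : Type*} [Group G] [Finite G]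
    (p : ℕ) [Fact p.Prime] (x : MulAut G) (hx : ∃ k : ℕ, orderOf x = p ^ k) (M : Subgroup G)
    (hM : ∀ g : G, g ∈ M ↔ x g = g) (hp : p ∣ M.index)
    (hself : Subgroup.normalizer (M : Set G) = M ∨ Subgroup.center M = ⊥) :
    ∃ g : G, (∀ y ∈ MulAut.conj g • M, x y ∈ MulAut.conj g • M) ∧ ∃ y ∈ MulAut.conj g • M, x y ≠ y := by
  classical
  obtain ⟨k, hk⟩ := hx
  set K : Subgroup (MulAut G) := Subgroup.zpowers x with hK
  have hKp : IsPGroup p K := by
    apply IsPGroup.of_card (n := k)
    rw [hK, Nat.card_zpowers, hk]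
  -- every element of K fixes M elementwise
  have hKM : ∀ b : K, ∀ m ∈ M, (b : MulAut G) m = m := by
    rintro ⟨b, hb⟩ m hm
    obtain ⟨i, rfl⟩ := Subgroup.mem_zpowers_iff.mp hb
    have hxm : x m = m := (hM m).mp hm
    show (x ^ i) m = m
    have hfix : m ∈ MulAction.fixedBy G x := hxm
    have : m ∈ MulAction.fixedBy G (x ^ i) := MulAction.mem_fixedBy_zpow hfix i
    exact this
  haveI : MulAction.QuotientAction K M := by
    constructor
    intro b a a' h
    have e : (b • a)⁻¹ * b • a' = (b : MulAut G) (a⁻¹ * a') := by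
      show ((b : MulAut G) a)⁻¹ * (b : MulAut G) a' = _
      rw [map_mul, map_inv]
    rw [e, hKM b _ h]
    exact h
  have hcard : p ∣ Nat.card (G ⧸ M) := hp
  have h1fix : (QuotientGroup.mk 1 : G ⧸ M) ∈ MulAction.fixedPoints K (G ⧸ M) := by
    intro b
    rw [MulAction.Quotient.smul_mk]
    congr 1
    show (b : MulAut G) 1 = 1
    exact map_one _
  obtain ⟨q, hq, hq1⟩ := hKp.exists_fixed_point_of_prime_dvd_card_of_fixed_point (G ⧸ M) hcard h1fix
  induction q using QuotientGroup.induction_on with
  | H g =>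
  have hgM : g ∉ M := by
    intro hg
    apply hq1
    rw [QuotientGroup.eq, inv_one, one_mul]
    exact hg
  have hxg : g⁻¹ * x g ∈ M := by
    have := hq ⟨x, Subgroup.mem_zpowers x⟩
    rw [MulAction.Quotient.smul_mk] at this
    have h2 : (QuotientGroup.mk (x g) : G ⧸ M) = QuotientGroup.mk g := this
    rw [← QuotientGroup.eq, h2]
  set m := g⁻¹ * x g with hm
  have hxg' : x g = g * m := by rw [hm]; group
  have hxm : ∀ y ∈ M, x y = y := fun y hy => (hM y).mp hy
  have hconj : ∀ y' ∈ M, x (g * y' * g⁻¹) = g * (m * y' * m⁻¹) * g⁻¹ := by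
    intro y' hy'
    rw [map_mul, map_mul, map_inv, hxg', hxm y' hy']
    group
  refine ⟨g, ?_, ?_⟩
  · intro y hy
    rw [Cfsg.Agent.S4253.mem_conj_smul] at hy ⊢
    have e : y = g * (g⁻¹ * y * g) * g⁻¹ := by group
    rw [e, hconj _ hy]
    have : g⁻¹ * (g * (m * (g⁻¹ * y * g) * m⁻¹) * g⁻¹) * g = m * (g⁻¹ * y * g) * m⁻¹ := by group
    rw [this]
    exact M.mul_mem (M.mul_mem hxg hy) (M.inv_mem hxg)
  · by_contra hcon
    push Not at hcon
    have hall : ∀ y' ∈ M, x (g * y' * g⁻¹) = g * y' * g⁻¹ := by
      intro y' hy'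
      apply hcon
      rw [Cfsg.Agent.S4253.mem_conj_smul]
      have : g⁻¹ * (g * y' * g⁻¹) * g = y' := by group
      rw [this]; exact hy'
    have hcomm : ∀ y' ∈ M, m * y' * m⁻¹ = y' := by
      intro y' hy'
      have h1 := hall y' hy'
      rw [hconj y' hy'] at h1
      have h2 := congrArg (fun z => g⁻¹ * z * g) h1
      beta_reduce at h2
      have e1 : g⁻¹ * (g * (m * y' * m⁻¹) * g⁻¹) * g = m * y' * m⁻¹ := by group
      have e2 : g⁻¹ * (g * y' * g⁻¹) * g = y' := by group
      rw [e1, e2] at h2
      exact h2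
    have hnorm : ∀ y' ∈ M, g * y' * g⁻¹ ∈ M := by
      intro y' hy'
      rw [hM]
      exact hall y' hy'
    rcases hself with hN | hZ
    · apply hgM
      have : g ∈ Subgroup.normalizer (M : Set G) := by
        apply Subgroup.mem_normalizer_fintype
        intro n hn
        exact hnorm n hn
      rw [hN] at this
      exact this
    · have hmc : (⟨m, hxg⟩ : M) ∈ Subgroup.center M := by
        rw [Subgroup.mem_center_iff]
        intro y
        apply Subtype.ext
        have := hcomm y.1 y.2
        show (y : G) * m = m * (y : G)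
        have h3 : m * (y : G) = (m * (y : G) * m⁻¹) * m := by group
        rw [h3, this]
      rw [hZ, Subgroup.mem_bot] at hmc
      have hm1 : m = 1 := congrArg Subtype.val hmc
      apply hgM
      rw [hM, hxg', hm1, mul_one]

end Cfsg.Agent.S4326
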