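import Cfsg.Statements.S4330
import Cfsg.Agent.Lib.Helper8.RegOrbF
import Cfsg.Agent.Lib.Helper25.S4330P2
import Cfsg.Agent.Lib.Helper16.S4330P3

set_option autoImplicit false
open Pointwise
open Cfsg

namespace Cfsg.Agent.S4330

/-- Let G be a finite solvable group, p an odd prime and A a p-subgroup of G such that every conjugacy class of G contains an element g for which A is subnormal in the subgroup generated by A and its conjugate by g. Then A is contained in O_p(G). (The hypothesis that p is odd is needed.) -/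
theorem result {G : Type*} [Group G] [Finite G]
    (hG : Group.IsSolvable G) (p : ℕ) [Fact p.Prime] (hp : p ≠ 2) (A : Subgroup G) (hA : IsPGroup p A)
    (h : ∀ c : G, ∃ g : G, IsConj c g ∧ (A.subgroupOf (A ⊔ MulAut.conj g • A)).IsSubnormal) :
    A ≤ Cfsg.pCore p G := by
  refine Cfsg.Agent.Helper16.S4330P3.s4330_of_key ?_ hG p hp A hA h
  intro N _ _ q _ hq2 hcop H M hMH hnorm hMp a ha ha1
  exact Cfsg.Agent.Helper8.RegOrb.key_of_reg hq2
    (fun N' _ _ _ hcop' W hW z hzW hzp hzc hzfix hcomm hcen =>
      Cfsg.Agent.Helper25.S4330P2.regular_orbit hq2 hcop' W hW z hzW hzp hzc hzfix hcomm hcen)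
    (Nat.card N) N rfl hcop H M hMH hnorm hMp a ha ha1

end Cfsg.Agent.S4330
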