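import Mathlib
import Cfsg.Statements.S4331
import Cfsg.Agent.Lib.Helper14.Basic

set_option autoImplicit false
open Cfsg

namespace Cfsg.Agent.S4331

/-- the field with nine elements, as `F_3[i]` -/
abbrev F9 := QuadraticAlgebra (ZMod 3) (-1) 0

instance : Fintype F9 := Fintype.ofEquiv (ZMod 3 × ZMod 3) (QuadraticAlgebra.equivProd _ _).symm

/-- the semilinear twist -/
def tw (j : Bool) (z : F9) : F9 := if j then star z else z

/-- the semilinear twist on units -/
def twU (j : Bool) (u : F9ˣ) : F9ˣ := if j then star u else u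

@[simp] theorem tw_false (z : F9) : tw false z = z := rfl
@[simp] theorem tw_true (z : F9) : tw true z = star z := rfl
@[simp] theorem twU_false (z : F9ˣ) : twU false z = z := rfl
@[simp] theorem twU_true (z : F9ˣ) : twU true z = star z := rfl

/-- the group of semilinear affine maps `z ↦ u * σ^j z + b` of the field with nine elements -/
@[ext]
structure AG where
  u : F9ˣ
  j : Bool
  b : F9
deriving DecidableEq, Fintype

instance : Mul AG := ⟨fun x y => ⟨x.u * twU x.j y.u, xor x.j y.j, x.u * tw x.j y.b + x.b⟩⟩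
instance : One AG := ⟨⟨1, false, 0⟩⟩
instance : Inv AG := ⟨fun x => ⟨twU x.j x.u⁻¹, x.j, - tw x.j (x.u⁻¹ * x.b)⟩⟩

theorem mul_def (x y : AG) :
    x * y = ⟨x.u * twU x.j y.u, xor x.j y.j, x.u * tw x.j y.b + x.b⟩ := rfl
theorem one_def : (1 : AG) = ⟨1, false, 0⟩ := rfl
theorem inv_def (x : AG) : x⁻¹ = ⟨twU x.j x.u⁻¹, x.j, - tw x.j (x.u⁻¹ * x.b)⟩ := rfl

instance : Group AG :=
  Group.ofLeftAxioms
    (by
      rintro ⟨u1, j1, b1⟩ ⟨u2, j2, b2⟩ ⟨u3, j3, b3⟩
      cases j1 <;> cases j2 <;> cases j3 <;>
      · simp only [mul_def]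
        refine AG.ext ?_ ?_ ?_
        · simp [mul_assoc]
        · simp
        · simp [Units.coe_star]
          ring)
    (by
      rintro ⟨u, j, b⟩
      simp [mul_def, one_def])
    (by
      rintro ⟨u, j, b⟩
      cases j <;>
      · simp only [mul_def, inv_def, one_def]
        refine AG.ext ?_ ?_ ?_
        · simp
        · simp
        · simp)

/-- the field automorphism, an involution -/
def aa : AG := ⟨1, true, 0⟩

/-- the elements that visibly generate a subgroup with `aa` in which `⟨aa⟩` is subnormal -/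
def good (g : AG) : Prop := aa * g = g * aa ∨ g.b = 0

instance (g : AG) : Decidable (good g) := by unfold good; infer_instance

set_option maxRecDepth 100000 in
theorem pgrp : ∀ x : AG, x.b = 0 → x ^ 16 = 1 := by decide

set_option maxRecDepth 100000 in
theorem classcond : ∀ c : AG, ∃ x : AG, good (x * c * x⁻¹) := by decide +kernel

/-- the stabilizer of zero -/
def stab0 : Subgroup AG where
  carrier := {x | x.b = 0}
  one_mem' := rfl
  mul_mem' := by
    intro x y hx hy
    rw [Set.mem_setOf_eq] at hx hy ⊢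
    rw [mul_def]
    show x.u * tw x.j y.b + x.b = 0
    rw [hx, hy]
    cases x.j <;> simp
  inv_mem' := by
    intro x hx
    rw [Set.mem_setOf_eq] at hx ⊢
    rw [inv_def]
    show - tw x.j (x.u⁻¹ * x.b) = 0
    rw [hx]
    cases x.j <;> simp

theorem mem_stab0 (x : AG) : x ∈ stab0 ↔ x.b = 0 := Iff.rfl

theorem isPGroup_stab0 : IsPGroup 2 stab0 := by
  rintro ⟨x, hx⟩
  refine ⟨4, ?_⟩
  apply Subtype.ext
  rw [Subgroup.coe_pow, Subgroup.coe_one]
  exact pgrp x hx

/-- Every subgroup of a finite nilpotent group is subnormal. -/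
theorem isSubnormal_of_nilpotent {H : Type*} [Group H] [Finite H] [Group.IsNilpotent H]
    (K : Subgroup H) : K.IsSubnormal := by
  induction K using WellFoundedGT.induction with
  | ind K ih =>
    by_cases hK : K = ⊤
    · rw [hK]; exact Subgroup.IsSubnormal.top
    · have hlt : K < Subgroup.normalizer (K : Set H) :=
        Group.normalizerCondition_of_isNilpotent K (lt_top_iff_ne_top.mpr hK)
      exact Subgroup.IsSubnormal.step K _ Subgroup.le_normalizer (ih _ hlt)
        Subgroup.normal_in_normalizer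

/-- the projection onto the stabilizer of zero -/
def proj : AG →* AG where
  toFun x := ⟨x.u, x.j, 0⟩
  map_one' := rfl
  map_mul' := by
    intro x y
    rw [mul_def, mul_def]
    refine AG.ext rfl rfl ?_
    show (0 : F9) = x.u * tw x.j 0 + 0
    cases x.j <;> simp

theorem isSolvable_AG : Group.IsSolvable AG := by
  haveI : Fact (Nat.Prime 2) := ⟨Nat.prime_two⟩
  have h1 : Group.IsSolvable proj.ker := by
    apply isSolvable_of_comm
    rintro ⟨x, hx⟩ ⟨y, hy⟩
    apply Subtype.ext
    rw [MonoidHom.mem_ker] at hx hy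
    have hxu : x.u = 1 := congrArg AG.u hx
    have hxj : x.j = false := congrArg AG.j hx
    have hyu : y.u = 1 := congrArg AG.u hy
    have hyj : y.j = false := congrArg AG.j hy
    show x * y = y * x
    rw [mul_def, mul_def, hxu, hxj, hyu, hyj]
    refine AG.ext rfl rfl ?_
    simp [add_comm]
  have h2 : Group.IsSolvable proj.range := by
    have hle : proj.range ≤ stab0 := by
      rintro _ ⟨x, rfl⟩
      rfl
    have hP : IsPGroup 2 proj.range := isPGroup_stab0.to_le hle
    haveI := hP.isNilpotent
    infer_instance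
  refine solvable_of_ker_le_range proj.ker.subtype proj.rangeRestrict ?_
  rw [MonoidHom.ker_rangeRestrict, Subgroup.range_subtype]

theorem subnormal_of_good (g : AG) (hg : good g) :
    ((Subgroup.zpowers aa).subgroupOf (Subgroup.zpowers aa ⊔ Subgroup.zpowers g)).IsSubnormal := by
  haveI : Fact (Nat.Prime 2) := ⟨Nat.prime_two⟩
  rcases hg with h | h
  · apply Subgroup.Normal.isSubnormal
    apply Subgroup.normal_subgroupOf_of_le_normalizer
    apply sup_le Subgroup.le_normalizer
    rw [Subgroup.zpowers_le]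
    apply Subgroup.centralizer_le_normalizer
    rw [Subgroup.mem_centralizer_iff]
    intro y hy
    rw [SetLike.mem_coe, Subgroup.mem_zpowers_iff] at hy
    obtain ⟨k, rfl⟩ := hy
    have hc : Commute aa g := h
    exact (hc.zpow_left k).eq
  · have hle : Subgroup.zpowers aa ⊔ Subgroup.zpowers g ≤ stab0 := by
      apply sup_le
      · rw [Subgroup.zpowers_le]; rfl
      · rw [Subgroup.zpowers_le]; exact h
    have hP : IsPGroup 2 (Subgroup.zpowers aa ⊔ Subgroup.zpowers g : Subgroup AG) :=
      isPGroup_stab0.to_le hle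
    haveI := hP.isNilpotent
    exact isSubnormal_of_nilpotent _

/-- There is a finite solvable group G with a subgroup A of order 2 such that every conjugacy class of G contains an element g for which A is subnormal in the subgroup generated by A and g, and yet A is not contained in O_2(G). (So the corresponding criteria for odd primes fail at the prime 2, even for solvable groups.) -/
theorem result :
    ∃ (G : Type) (_ : Group G) (_ : Finite G) (A : Subgroup G), Group.IsSolvable G ∧ Nat.card A = 2 ∧
      (∀ c : G, ∃ g : G, IsConj c g ∧ (A.subgroupOf (A ⊔ Subgroup.zpowers g)).IsSubnormal) ∧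
      ¬ A ≤ Cfsg.pCore 2 G := by
  refine ⟨AG, inferInstance, inferInstance, Subgroup.zpowers aa, isSolvable_AG, ?_, ?_, ?_⟩
  · rw [Nat.card_zpowers]
    haveI : Fact (Nat.Prime 2) := ⟨Nat.prime_two⟩
    apply orderOf_eq_prime
    · decide
    · decide
  · intro c
    obtain ⟨x, hx⟩ := classcond c
    exact ⟨x * c * x⁻¹, isConj_iff.mpr ⟨x, rfl⟩, subnormal_of_good _ hx⟩
  · intro hle
    have haQ : aa ∈ Cfsg.pCore 2 AG := hle (Subgroup.mem_zpowers aa)
    have hQn : (Cfsg.pCore 2 AG).Normal := inferInstance
    have hP := Cfsg.Agent.Helper14.pCore_isPGroup 2 AG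
    -- a translation
    let t : AG := ⟨1, false, ⟨0, 1⟩⟩
    have hy : t * aa * t⁻¹ * aa⁻¹ ∈ Cfsg.pCore 2 AG :=
      (Cfsg.pCore 2 AG).mul_mem (hQn.conj_mem aa haQ t) ((Cfsg.pCore 2 AG).inv_mem haQ)
    obtain ⟨k, hk⟩ := hP ⟨_, hy⟩
    have hk' : (t * aa * t⁻¹ * aa⁻¹) ^ (2 ^ k) = 1 := by
      have := congrArg Subtype.val hk
      rwa [Subgroup.coe_pow, Subgroup.coe_one] at this
    have h3 : (t * aa * t⁻¹ * aa⁻¹) ^ 3 = 1 := by decide
    have hcop : Nat.Coprime (2 ^ k) 3 := Nat.Coprime.pow_left k (by norm_num)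
    have h1 := Cfsg.Agent.Helper14.eq_one_of_pow_eq_one_of_coprime hk' h3 hcop
    revert h1
    decide

end Cfsg.Agent.S4331
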