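import Mathlib
import Cfsg.Statements.S4332
import Cfsg.Agent.Lib.Helper14.Basic

set_option autoImplicit false
open Pointwise
open Cfsg

namespace Cfsg.Agent.S4332

open Equiv Equiv.Perm

variable {α : Type*} [DecidableEq α]

theorem conj_tau (c : Perm α) (a b d : α) :
    c * (swap a b * swap a d) * c⁻¹ = swap (c a) (c b) * swap (c a) (c d) := by
  rw [swap_apply_apply, swap_apply_apply]
  group

theorem commute_of_fixed (c : Perm α) {a b d : α} (ha : c a = a) (hb : c b = b) (hd : c d = d) :
    Commute (c * (swap a b * swap a d) * c⁻¹) (swap a b * swap a d) := by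
  rw [conj_tau, ha, hb, hd]

theorem three_cycle_rotate {a b d : α} (hab : a ≠ b) (had : a ≠ d) (hbd : b ≠ d) :
    swap b d * swap b a = swap a b * swap a d := by
  ext z
  by_cases hza : z = a
  · subst hza
    rw [Perm.mul_apply, Perm.mul_apply, swap_apply_right, swap_apply_left, swap_apply_left,
      swap_apply_of_ne_of_ne had.symm hbd.symm]
  · by_cases hzb : z = b
    · subst hzb
      rw [Perm.mul_apply, Perm.mul_apply, swap_apply_left, swap_apply_of_ne_of_ne hab had,
        swap_apply_of_ne_of_ne hab.symm hbd, swap_apply_right]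
    · by_cases hzd : z = d
      · subst hzd
        rw [Perm.mul_apply, Perm.mul_apply, swap_apply_of_ne_of_ne hbd.symm had.symm,
          swap_apply_right, swap_apply_right, swap_apply_left]
      · rw [Perm.mul_apply, Perm.mul_apply, swap_apply_of_ne_of_ne hzb hza,
          swap_apply_of_ne_of_ne hzb hzd, swap_apply_of_ne_of_ne hza hzd,
          swap_apply_of_ne_of_ne hza hzb]

theorem commute_of_orbit (c : Perm α) {a b d : α} (hab : a ≠ b) (had : a ≠ d) (hbd : b ≠ d)
    (ha : c a = b) (hb : c b = d) (hd : c d = a) :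
    Commute (c * (swap a b * swap a d) * c⁻¹) (swap a b * swap a d) := by
  rw [conj_tau, ha, hb, hd, three_cycle_rotate hab had hbd]

theorem tau_apply_of_ne {a b d z : α} (hza : z ≠ a) (hzb : z ≠ b) (hzd : z ≠ d) :
    (swap a b * swap a d) z = z := by
  rw [Perm.mul_apply, swap_apply_of_ne_of_ne hza hzd, swap_apply_of_ne_of_ne hza hzb]

theorem commute_of_indep (c : Perm α) {a b d : α}
    (h1 : c a ≠ a) (h2 : c a ≠ b) (h3 : c a ≠ d)
    (h4 : c b ≠ a) (h5 : c b ≠ b) (h6 : c b ≠ d)
    (h7 : c d ≠ a) (h8 : c d ≠ b) (h9 : c d ≠ d) :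
    Commute (c * (swap a b * swap a d) * c⁻¹) (swap a b * swap a d) := by
  rw [conj_tau]
  apply Equiv.Perm.Disjoint.commute
  intro z
  by_cases hz : z = a ∨ z = b ∨ z = d
  · left
    apply tau_apply_of_ne
    · rcases hz with rfl | rfl | rfl
      · exact h1.symm
      · exact h2.symm
      · exact h3.symm
    · rcases hz with rfl | rfl | rfl
      · exact h4.symm
      · exact h5.symm
      · exact h6.symm
    · rcases hz with rfl | rfl | rfl
      · exact h7.symm
      · exact h8.symm
      · exact h9.symm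
  · right
    push Not at hz
    exact tau_apply_of_ne hz.1 hz.2.1 hz.2.2


theorem exists_tau [Fintype α] (hα : Fintype.card α = 8) (c : Perm α) :
    ∃ a b d : α, a ≠ b ∧ a ≠ d ∧ b ≠ d ∧
      Commute (c * (swap a b * swap a d) * c⁻¹) (swap a b * swap a d) := by
  by_cases hF : 2 < (c.supportᶜ).card
  · -- three fixed points
    obtain ⟨a, ha, b, hb, d, hd, hab, had, hbd⟩ := Finset.two_lt_card.mp hF
    rw [Finset.mem_compl, Perm.notMem_support] at ha hb hd
    exact ⟨a, b, d, hab, had, hbd, commute_of_fixed c ha hb hd⟩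
  have hM : 6 ≤ c.support.card := by
    have h1 := Finset.card_add_card_compl c.support
    rw [hα] at h1
    omega
  by_cases h2 : ∃ x ∈ c.support, c (c x) = x
  · -- a 2-cycle
    obtain ⟨x, hx, hxx⟩ := h2
    have hxm : c x ≠ x := Perm.mem_support.mp hx
    obtain ⟨y, hyM, hy⟩ := Finset.exists_mem_notMem_of_card_lt_card
      (s := ({x, c x} : Finset α)) (t := c.support)
      (lt_of_le_of_lt Finset.card_le_two (by omega))
    have hym : c y ≠ y := Perm.mem_support.mp hyM
    obtain ⟨z, hzM, hz⟩ := Finset.exists_mem_notMem_of_card_lt_card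
      (s := ({x, c x, y, c y, c⁻¹ y} : Finset α)) (t := c.support)
      (lt_of_le_of_lt Finset.card_le_five (by omega))
    have hzm : c z ≠ z := Perm.mem_support.mp hzM
    simp only [Finset.mem_insert, Finset.mem_singleton, not_or] at hy hz
    obtain ⟨hyx, hycx⟩ := hy
    obtain ⟨hzx, hzcx, hzy, hzcy, hzciy⟩ := hz
    refine ⟨x, y, z, fun h => hyx h.symm, fun h => hzx h.symm, fun h => hzy h.symm, ?_⟩
    apply commute_of_indep
    · exact hxm
    · exact fun h => hycx h.symm
    · exact fun h => hzcx h.symm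
    · intro h
      apply hycx
      apply c.injective
      rw [hxx, h]
    · exact hym
    · exact fun h => hzcy h.symm
    · intro h
      apply hzcx
      apply c.injective
      rw [hxx, h]
    · intro h
      apply hzciy
      rw [← h]
      exact (c.symm_apply_apply z).symm
    · exact hzm
  push Not at h2
  by_cases h3 : ∃ x ∈ c.support, c (c (c x)) = x
  · -- a 3-cycle
    obtain ⟨x, hx, hxxx⟩ := h3
    have hxm : c x ≠ x := Perm.mem_support.mp hx
    have hxx : c (c x) ≠ x := h2 x hx
    refine ⟨x, c x, c (c x), hxm.symm, hxx.symm, ?_, ?_⟩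
    · intro h
      exact hxm (c.injective h.symm)
    · apply commute_of_orbit c hxm.symm hxx.symm
      · intro h
        exact hxm (c.injective h.symm)
      · rfl
      · rfl
      · exact hxxx
  push Not at h3
  -- all orbits of moved points have length at least 4
  have hne : c.support.Nonempty := by
    rw [← Finset.card_pos]; omega
  obtain ⟨x, hx⟩ := hne
  have hxm : c x ≠ x := Perm.mem_support.mp hx
  have hxx : c (c x) ≠ x := h2 x hx
  have hxxx : c (c (c x)) ≠ x := h3 x hx
  obtain ⟨w, hwM, hw⟩ := Finset.exists_mem_notMem_of_card_lt_card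
    (s := ({x, c x, c (c x), c (c (c x)), c⁻¹ x} : Finset α)) (t := c.support)
    (lt_of_le_of_lt Finset.card_le_five (by omega))
  have hwm : c w ≠ w := Perm.mem_support.mp hwM
  simp only [Finset.mem_insert, Finset.mem_singleton, not_or] at hw
  obtain ⟨hw0, hw1, hw2, hw3, hwi⟩ := hw
  refine ⟨x, c (c x), w, hxx.symm, fun h => hw0 h.symm, fun h => hw2 h.symm, ?_⟩
  apply commute_of_indep
  · exact hxm
  · intro h
    exact hxm (c.injective h.symm)
  · exact fun h => hw1 h.symm
  · exact hxxx
  · intro h
    exact hxm (c.injective (c.injective h))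
  · exact fun h => hw3 h.symm
  · intro h
    apply hwi
    rw [← h]
    exact (c.symm_apply_apply w).symm
  · intro h
    exact hw1 (c.injective h)
  · exact hwm


theorem subnormal_of_commute {G : Type*} [Group G] (s g : G) (h : Commute (g * s * g⁻¹) s) :
    ((Subgroup.zpowers s).subgroupOf
      (Subgroup.zpowers s ⊔ MulAut.conj g • Subgroup.zpowers s)).IsSubnormal := by
  apply Subgroup.Normal.isSubnormal
  apply Subgroup.normal_subgroupOf_of_le_normalizer
  apply sup_le Subgroup.le_normalizer
  have h1 : MulAut.conj g • Subgroup.zpowers s = Subgroup.zpowers (g * s * g⁻¹) := by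
    show Subgroup.map (MulAut.conj g).toMonoidHom (Subgroup.zpowers s) = _
    rw [MonoidHom.map_zpowers]
    rfl
  rw [h1, Subgroup.zpowers_le]
  apply Subgroup.centralizer_le_normalizer
  rw [Subgroup.mem_centralizer_iff]
  intro y hy
  rw [SetLike.mem_coe, Subgroup.mem_zpowers_iff] at hy
  obtain ⟨k, rfl⟩ := hy
  exact ((h.zpow_right k).eq).symm

/-- In the symmetric group of degree 8, let A be the subgroup generated by a 3-cycle. Then every conjugacy class contains an element g for which A is subnormal in the subgroup generated by A and its conjugate by g, although O_3 of the symmetric group of degree 8 is trivial. -/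
theorem result
    (σ : Equiv.Perm (Fin 8)) (hσ : σ.IsThreeCycle) :
    (∀ c : Equiv.Perm (Fin 8), ∃ g : Equiv.Perm (Fin 8), IsConj c g ∧
      ((Subgroup.zpowers σ).subgroupOf (Subgroup.zpowers σ ⊔ MulAut.conj g • Subgroup.zpowers σ)).IsSubnormal) ∧
    Cfsg.pCore 3 (Equiv.Perm (Fin 8)) = ⊥ := by
  constructor
  · intro c
    obtain ⟨a, b, d, hab, had, hbd, hcomm⟩ := exists_tau (α := Fin 8) (by simp) c
    have hτ : (swap a b * swap a d).IsThreeCycle := isThreeCycle_swap_mul_swap_same hab had hbd
    have hconj : IsConj (swap a b * swap a d) σ :=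
      isConj_of_cycleType_eq (hτ.cycleType.trans hσ.cycleType.symm)
    obtain ⟨x, hx⟩ := isConj_iff.mp hconj
    refine ⟨x * c * x⁻¹, isConj_iff.mpr ⟨x, rfl⟩, ?_⟩
    apply subnormal_of_commute
    have h1 : x * c * x⁻¹ * σ * (x * c * x⁻¹)⁻¹ =
        x * (c * (swap a b * swap a d) * c⁻¹) * x⁻¹ := by
      rw [← hx]; group
    rw [h1]
    show _ * _ = _ * _
    rw [← hx]
    calc x * (c * (swap a b * swap a d) * c⁻¹) * x⁻¹ * (x * (swap a b * swap a d) * x⁻¹)
        = x * ((c * (swap a b * swap a d) * c⁻¹) * (swap a b * swap a d)) * x⁻¹ := by group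
      _ = x * ((swap a b * swap a d) * (c * (swap a b * swap a d) * c⁻¹)) * x⁻¹ := by
          rw [hcomm.eq]
      _ = _ := by group
  · by_contra hne
    have hnt : Nontrivial (Cfsg.pCore 3 (Equiv.Perm (Fin 8))) :=
      (Subgroup.nontrivial_iff_ne_bot _).mpr hne
    have hle := Equiv.Perm.alternatingGroup_le_of_normal (α := Fin 8) (by simp) hnt
    have hP := Cfsg.Agent.Helper14.pCore_isPGroup 3 (Equiv.Perm (Fin 8))
    -- an involution in the alternating group
    have hmem : (swap (0 : Fin 8) 1 * swap 2 3) ∈ alternatingGroup (Fin 8) := by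
      rw [Equiv.Perm.mem_alternatingGroup]
      decide
    have hmem' := hle hmem
    obtain ⟨k, hk⟩ := hP ⟨_, hmem'⟩
    have hk' : (swap (0 : Fin 8) 1 * swap 2 3) ^ (3 ^ k) = 1 := by
      have := congrArg Subtype.val hk
      simpa using this
    have h2 : (swap (0 : Fin 8) 1 * swap 2 3) ^ 2 = 1 := by decide
    have h3 : orderOf (swap (0 : Fin 8) 1 * swap 2 3) ∣ 2 := orderOf_dvd_of_pow_eq_one h2
    have h4 : orderOf (swap (0 : Fin 8) 1 * swap 2 3) ∣ 3 ^ k := orderOf_dvd_of_pow_eq_one hk'
    have h5 : orderOf (swap (0 : Fin 8) 1 * swap 2 3) ∣ 1 := by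
      have hc : Nat.Coprime 2 (3 ^ k) := Nat.Coprime.pow_right k (by norm_num)
      have := Nat.dvd_gcd h3 h4
      rwa [hc.gcd_eq_one] at this
    have h6 : swap (0 : Fin 8) 1 * swap 2 3 = 1 := by
      rw [← orderOf_eq_one_iff]
      exact Nat.dvd_one.mp h5
    revert h6
    decide

end Cfsg.Agent.S4332
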