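import Mathlib
import Cfsg.Statements.S4333
import Cfsg.Agent.Lib.Helper1.RelSubnormal

set_option autoImplicit false
open Pointwise
open Cfsg

namespace Cfsg.Agent.S4333

open Cfsg.Agent.Helper1 Subgroup

theorem conj_isMaxIn {G : Type*} [Group G] [Finite G] {M H : Subgroup G} (x : G) (hx : x ∈ H)
    (hM : IsMaxIn M H) : IsMaxIn (MulAut.conj x • M) H := by
  have hH : MulAut.conj x • H = H := Subgroup.conj_smul_eq_self_of_mem hx
  have hH' : MulAut.conj x⁻¹ • H = H := Subgroup.conj_smul_eq_self_of_mem (H.inv_mem hx)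
  refine ⟨?_, ?_⟩
  · have h1 : MulAut.conj x • M < MulAut.conj x • H := by
      refine lt_of_le_of_ne (Subgroup.pointwise_smul_le_pointwise_smul_iff.mpr hM.1.le) ?_
      intro heq
      exact hM.1.ne (smul_left_cancel _ heq)
    rwa [hH] at h1
  · intro L hML hLH
    have h1 : M < MulAut.conj x⁻¹ • L := by
      have h2 : MulAut.conj x⁻¹ • (MulAut.conj x • M) < MulAut.conj x⁻¹ • L := by
        refine lt_of_le_of_ne (Subgroup.pointwise_smul_le_pointwise_smul_iff.mpr hML.le) ?_
        intro heq
        exact hML.ne (smul_left_cancel _ heq)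
      rw [map_inv, inv_smul_smul] at h2
      rwa [map_inv]
    have h3 : MulAut.conj x⁻¹ • L ≤ H := by
      have := Subgroup.pointwise_smul_le_pointwise_smul_iff (a := MulAut.conj x⁻¹).mpr hLH
      rwa [hH'] at this
    have h4 := hM.2 _ h1 h3
    have h5 : MulAut.conj x • (MulAut.conj x⁻¹ • L) = MulAut.conj x • H := by rw [h4]
    rwa [map_inv, smul_inv_smul, hH] at h5

theorem aux {G : Type*} [Group G] [Finite G] (A : Subgroup G)
    (h : ∀ a ∈ A, ∀ g : G, (A.subgroupOf (A ⊔ MulAut.conj (g⁻¹ * a * g) • A)).IsSubnormal) :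
    ∀ (n : ℕ) (H : Subgroup G), Nat.card H = n → A ≤ H → (A.subgroupOf H).IsSubnormal := by
  intro n
  induction n using Nat.strong_induction_on with
  | _ n ih =>
    intro H hn hAH
    by_contra hnot
    have hyp : ∀ L : Subgroup G, A ≤ L → L < H → (A.subgroupOf L).IsSubnormal := by
      intro L hAL hLH
      exact ih (Nat.card L) (by rw [← hn]; exact card_lt_of_lt hLH) L rfl hAL
    obtain ⟨M, hAM, hM, huniq⟩ := zipper H _ A hAH rfl hyp hnot
    -- conjugates of A by H-conjugates of elements of A lie in M
    have hconj : ∀ a ∈ A, ∀ g ∈ H, MulAut.conj (g⁻¹ * a * g) • A ≤ M := by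
      intro a ha g hg
      have hx : g⁻¹ * a * g ∈ H := H.mul_mem (H.mul_mem (H.inv_mem hg) (hAH ha)) hg
      have hgA : MulAut.conj (g⁻¹ * a * g) • A ≤ H := by
        have h1 : MulAut.conj (g⁻¹ * a * g) • A ≤ MulAut.conj (g⁻¹ * a * g) • H :=
          Subgroup.pointwise_smul_le_pointwise_smul_iff.mpr hAH
        rwa [Subgroup.conj_smul_eq_self_of_mem hx] at h1
      have hJH : A ⊔ MulAut.conj (g⁻¹ * a * g) • A ≤ H := sup_le hAH hgA
      have hJne : A ⊔ MulAut.conj (g⁻¹ * a * g) • A ≠ H := by
        intro heq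
        apply hnot
        have := h a ha g
        rwa [heq] at this
      obtain ⟨K, hJK, hK⟩ := exists_isMaxIn H _ _ (lt_of_le_of_ne hJH hJne) rfl
      have hKM : K = M := huniq K (le_sup_left.trans hJK) hK
      rw [← hKM]
      exact le_sup_right.trans hJK
    -- such elements normalize M
    have hnorm : ∀ a ∈ A, ∀ g ∈ H, g⁻¹ * a * g ∈ normalizer (M : Set G) := by
      intro a ha g hg
      have hx : g⁻¹ * a * g ∈ H := H.mul_mem (H.mul_mem (H.inv_mem hg) (hAH ha)) hg
      have h1 := hconj a ha g hg
      have h2 : A ≤ MulAut.conj (g⁻¹ * a * g)⁻¹ • M := by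
        have := Subgroup.pointwise_smul_le_pointwise_smul_iff
          (a := MulAut.conj (g⁻¹ * a * g)⁻¹).mpr h1
        rwa [map_inv, inv_smul_smul, ← map_inv] at this
      have h3 := huniq _ h2 (conj_isMaxIn _ (H.inv_mem hx) hM)
      have h4 := conj_smul_eq_self_iff.mp h3
      have := (normalizer (M : Set G)).inv_mem h4
      rwa [inv_inv] at this
    by_cases hcase : H ≤ normalizer (M : Set G)
    · -- M is normal in H
      have h1 : (M.subgroupOf H).IsSubnormal := sn_of_le_normalizer hM.1.le hcase
      have h2 : (A.subgroupOf M).IsSubnormal :=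
        ih (Nat.card M) (by rw [← hn]; exact card_lt_of_lt hM.1) M rfl hAM
      exact hnot (sn_trans hAM hM.1.le h2 h1)
    · -- the normalizer of M in H is M
      have hNM : H ⊓ normalizer (M : Set G) = M := by
        by_contra hne
        have hle : M ≤ H ⊓ normalizer (M : Set G) := le_inf hM.1.le le_normalizer
        have hlt : M < H ⊓ normalizer (M : Set G) := lt_of_le_of_ne hle (Ne.symm hne)
        have := hM.2 _ hlt inf_le_left
        apply hcase
        rw [← this]
        exact inf_le_right
      have hconjM : ∀ a ∈ A, ∀ g ∈ H, g⁻¹ * a * g ∈ M := by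
        intro a ha g hg
        rw [← hNM]
        exact ⟨H.mul_mem (H.mul_mem (H.inv_mem hg) (hAH ha)) hg, hnorm a ha g hg⟩
      set N' : Subgroup H := Subgroup.normalClosure ((A.subgroupOf H : Subgroup H) : Set H) with hN'
      set N : Subgroup G := N'.map H.subtype with hN
      have hAN : A ≤ N := by
        intro a ha
        exact ⟨⟨a, hAH ha⟩, Subgroup.subset_normalClosure (mem_subgroupOf.mpr ha), rfl⟩
      have hNM' : N ≤ M := by
        rw [hN, Subgroup.map_le_iff_le_comap, hN', Subgroup.normalClosure, Subgroup.closure_le]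
        intro y hy
        obtain ⟨a, ha, hconj'⟩ := Group.mem_conjugatesOfSet_iff.mp hy
        obtain ⟨c, hc⟩ := isConj_iff.mp hconj'
        rw [SetLike.mem_coe, Subgroup.mem_comap]
        have h5 := hconjM (a : G) (mem_subgroupOf.mp ha) ((c : G)⁻¹) (H.inv_mem c.2)
        have : H.subtype y = ((c : G)⁻¹)⁻¹ * (a : G) * (c : G)⁻¹ := by
          rw [← hc]
          simp
        rw [this]
        exact h5
      have hNH : N ≤ H := hNM'.trans hM.1.le
      have hNlt : N < H := lt_of_le_of_lt hNM' hM.1
      have hsnN : (N.subgroupOf H).IsSubnormal := by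
        have h1 : N.subgroupOf H = N' := by
          rw [hN, Subgroup.subgroupOf, Subgroup.comap_map_eq_self_of_injective H.subtype_injective]
        rw [h1]
        exact (Subgroup.normalClosure_normal).isSubnormal
      have hsnA : (A.subgroupOf N).IsSubnormal :=
        ih (Nat.card N) (by rw [← hn]; exact card_lt_of_lt hNlt) N rfl hAN
      exact hnot (sn_trans hAN hNH hsnA hsnN)

/-- Let A be a subgroup of a finite group G. If A is subnormal in the subgroup generated by A and its conjugate by g⁻¹ a g, for every a ∈ A and every g ∈ G, then A is subnormal in G. (A sharpening of Wielandt's subnormality criterion: only conjugates of A by conjugates of elements of A are needed.) -/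
theorem result {G : Type*} [Group G] [Finite G]
    (A : Subgroup G)
    (h : ∀ a ∈ A, ∀ g : G, (A.subgroupOf (A ⊔ MulAut.conj (g⁻¹ * a * g) • A)).IsSubnormal) :
    A.IsSubnormal := by
  exact sn_top (aux A h _ ⊤ rfl le_top)

end Cfsg.Agent.S4333
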