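import Mathlib
import Cfsg.Statements.S4342

set_option autoImplicit false
open Cfsg

namespace Cfsg.Agent.S4342

/-- If `H` is normal of index prime to `p`, every `p`-subgroup lies in `H`. -/
theorem le_of_normal_of_not_dvd_index {G : Type*} [Group G] [Finite G] (p : ℕ) [Fact p.Prime]
    (H : Subgroup G) [H.Normal] (hp : ¬ p ∣ H.index) (Q : Subgroup G) (hQ : IsPGroup p Q) : Q ≤ H := by
  intro x hx
  obtain ⟨k, hk⟩ := hQ ⟨x, hx⟩
  have hk' : x ^ p ^ k = 1 := by
    have := congrArg Subtype.val hk
    rwa [Subgroup.coe_pow, Subgroup.coe_one] at this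
  rw [← QuotientGroup.eq_one_iff, ← orderOf_eq_one_iff]
  have h1 : orderOf (QuotientGroup.mk x : G ⧸ H) ∣ p ^ k := by
    apply orderOf_dvd_of_pow_eq_one
    rw [← QuotientGroup.mk_pow, hk']; rfl
  have h2 : orderOf (QuotientGroup.mk x : G ⧸ H) ∣ H.index := orderOf_dvd_natCard _
  have hcop : Nat.Coprime (p ^ k) H.index :=
    Nat.Coprime.pow_left k ((Nat.Prime.coprime_iff_not_dvd Fact.out).mpr hp)
  exact Nat.eq_one_of_dvd_coprimes hcop h1 h2

/-- Sylow counts agree for a normal subgroup of index prime to `p`. -/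
theorem card_sylow_eq_of_normal {G : Type*} [Group G] [Finite G] (p : ℕ) [Fact p.Prime]
    (H : Subgroup G) [H.Normal] (hp : ¬ p ∣ H.index) :
    Nat.card (Sylow p H) = Nat.card (Sylow p G) := by
  have hle : ∀ Q : Sylow p G, (Q : Subgroup G) ≤ H := fun Q =>
    le_of_normal_of_not_dvd_index p H hp Q Q.isPGroup'
  symm
  apply Nat.card_congr
  refine Equiv.ofBijective (fun Q => Q.subtype (hle Q)) ⟨?_, ?_⟩
  · intro Q₁ Q₂ h
    exact Sylow.subtype_injective h
  · intro P'
    have hpg : IsPGroup p ((P' : Subgroup H).map H.subtype) := P'.isPGroup'.map _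
    have hidx : ¬ p ∣ ((P' : Subgroup H).map H.subtype).index := by
      rw [Subgroup.index_map_subtype]
      exact Nat.Prime.not_dvd_mul Fact.out P'.not_dvd_index hp
    refine ⟨hpg.toSylow hidx, ?_⟩
    apply Sylow.ext
    rw [Sylow.coe_subtype]
    ext ⟨x, hx⟩
    simp only [Subgroup.mem_subgroupOf, IsPGroup.toSylow_coe, Subgroup.mem_map, Subgroup.subtype_apply]
    constructor
    · rintro ⟨y, hy, hyx⟩
      have : y = ⟨x, hx⟩ := Subtype.ext hyx
      rw [← this]; exact hy
    · intro h
      exact ⟨⟨x, hx⟩, h, rfl⟩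

/-- Sylow counts agree with those of the quotient by the centre. -/
theorem card_sylow_quotient_center {H : Type*} [Group H] [Finite H] (p : ℕ) [Fact p.Prime] :
    Nat.card (Sylow p (H ⧸ Subgroup.center H)) = Nat.card (Sylow p H) := by
  symm
  apply Nat.card_congr
  have hsurj := QuotientGroup.mk'_surjective (Subgroup.center H)
  refine Equiv.ofBijective (Sylow.mapSurjective hsurj) ⟨?_, Sylow.mapSurjective_surjective hsurj p⟩
  intro P Q h
  have h' : (P : Subgroup H).map (QuotientGroup.mk' (Subgroup.center H)) =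
      (Q : Subgroup H).map (QuotientGroup.mk' (Subgroup.center H)) := by
    have := congrArg (fun R : Sylow p (H ⧸ Subgroup.center H) => (R : Subgroup (H ⧸ Subgroup.center H))) h
    simpa using this
  have h2 : (P : Subgroup H) ⊔ Subgroup.center H = (Q : Subgroup H) ⊔ Subgroup.center H := by
    have := congrArg (Subgroup.comap (QuotientGroup.mk' (Subgroup.center H))) h'
    rwa [Subgroup.comap_map_eq, Subgroup.comap_map_eq, QuotientGroup.ker_mk'] at this
  -- Q ≤ P ⊔ Z ≤ N(P)
  have hQN : (Q : Subgroup H) ≤ Subgroup.normalizer ((P : Subgroup H) : Set H) := by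
    have h3 : (Q : Subgroup H) ≤ (P : Subgroup H) ⊔ Subgroup.center H := by
      rw [h2]; exact le_sup_left
    refine le_trans h3 (sup_le Subgroup.le_normalizer ?_)
    intro z hz
    rw [Subgroup.mem_normalizer_iff]
    intro y
    have : z * y * z⁻¹ = y := by
      rw [Subgroup.mem_center_iff] at hz
      rw [← hz y]; group
    rw [this]
  have h4 := IsPGroup.inf_normalizer_sylow Q.isPGroup' P
  have hQN' : (Q : Subgroup H) ≤ Subgroup.normalizer (P : Set H) := hQN
  rw [inf_of_le_left hQN'] at h4
  -- h4 : Q = Q ⊓ P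
  have hQP : (Q : Subgroup H) ≤ P := by
    rw [h4]; exact inf_le_right
  exact Sylow.ext (Q.is_maximal' P.isPGroup' hQP)

/-- Let H be a normal subgroup of a finite group G and p a prime not dividing the index of H. Then the number of Sylow p-subgroups of H/Z(H) equals the number of Sylow p-subgroups of G. -/
theorem result {G : Type*} [Group G] [Finite G]
    (p : ℕ) [Fact p.Prime] (H : Subgroup G) [H.Normal] (hp : ¬ p ∣ H.index) :
    Nat.card (Sylow p (H ⧸ Subgroup.center H)) = Nat.card (Sylow p G) := by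
  rw [card_sylow_quotient_center, card_sylow_eq_of_normal p H hp]

end Cfsg.Agent.S4342
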