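import Mathlib
import Cfsg.Statements.S4343

set_option autoImplicit false
set_option linter.style.haveILetI false
open Cfsg

namespace Cfsg.Agent.S4343

open Subgroup
open scoped Pointwise

variable {S : Type*} [Group S] [Finite S]

/-- When there are fewer than `p²` Sylow `p`-subgroups, two distinct ones meet in a subgroup of
index `p`. -/
theorem relIndex_eq {p : ℕ} [Fact p.Prime] (hn : Nat.card (Sylow p S) < p ^ 2)
    (P Q : Sylow p S) (hPQ : P ≠ Q) : (Q : Subgroup S).relIndex P = p := by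
  have hp : p.Prime := Fact.out
  have h1 : MulAction.stabilizer (P : Subgroup S) Q =
      (normalizer ((Q : Subgroup S) : Set S)).subgroupOf P := by
    ext x
    rw [MulAction.mem_stabilizer_iff, mem_subgroupOf, Subgroup.smul_def,
      Sylow.smul_eq_iff_mem_normalizer]
    exact Iff.rfl
  have h2 := MulAction.index_stabilizer (P : Subgroup S) Q
  have h3 : (MulAction.orbit (P : Subgroup S) Q).ncard ≤ Nat.card (Sylow p S) :=
    Set.ncard_le_card _
  have h4 : (normalizer ((Q : Subgroup S) : Set S)).relIndex P = (Q : Subgroup S).relIndex P := by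
    have h0 : (P : Subgroup S) ⊓ normalizer ((Q : Subgroup S) : Set S) = (P : Subgroup S) ⊓ Q :=
      P.2.inf_normalizer_sylow Q
    rw [← inf_relIndex_right, inf_comm, h0, inf_relIndex_left]
  rw [h1] at h2
  have h5 : (Q : Subgroup S).relIndex P < p ^ 2 := by
    rw [← h4]
    calc _ = (MulAction.orbit (P : Subgroup S) Q).ncard := h2
      _ ≤ _ := h3
      _ < _ := hn
  obtain ⟨k, hk⟩ := P.2.exists_card_eq
  have h6 : (Q : Subgroup S).relIndex P ∣ p ^ k := hk ▸ relIndex_dvd_card _ _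
  obtain ⟨j, -, hj⟩ := (Nat.dvd_prime_pow hp).mp h6
  rw [hj] at h5 ⊢
  have hj2 : j < 2 := (Nat.pow_lt_pow_iff_right hp.one_lt).mp h5
  have hj0 : j ≠ 0 := by
    rintro rfl
    rw [pow_zero, relIndex_eq_one] at hj
    exact hPQ (Sylow.ext (P.is_maximal' Q.2 hj)).symm
  have : j = 1 := by omega
  rw [this, pow_one]

theorem le_normalizer_inf {p : ℕ} [Fact p.Prime] (P Q : Sylow p S)
    (h : (Q : Subgroup S).relIndex P = p) :
    (P : Subgroup S) ≤ normalizer (((P : Subgroup S) ⊓ Q : Subgroup S) : Set S) := by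
  have hp : p.Prime := Fact.out
  have hle : (P : Subgroup S) ⊓ Q ≤ P := inf_le_left
  rw [← normal_subgroupOf_iff_le_normalizer hle]
  apply normal_of_index_eq_minFac_card
  obtain ⟨k, hk⟩ := P.2.exists_card_eq
  have hk0 : k ≠ 0 := by
    rintro rfl
    rw [pow_zero] at hk
    have h1 : (Q : Subgroup S).relIndex P ∣ Nat.card (P : Subgroup S) := relIndex_dvd_card _ _
    rw [hk, h] at h1
    exact hp.one_lt.ne' (Nat.dvd_one.mp h1)
  rw [hk, Nat.pow_minFac hk0, hp.minFac_eq]
  show ((P : Subgroup S) ⊓ Q).relIndex P = p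
  rw [inf_relIndex_left, h]

/-- Sylow's theorem inside a subgroup `N` containing a Sylow subgroup `Q` of the whole group. -/
theorem exists_conj_le {p : ℕ} [Fact p.Prime] (N : Subgroup S) (Q : Sylow p S)
    (hQN : (Q : Subgroup S) ≤ N) (U : Subgroup S) (hU : IsPGroup p U) (hUN : U ≤ N) :
    ∃ n ∈ N, ∀ x ∈ U, n * x * n⁻¹ ∈ (Q : Subgroup S) := by
  obtain ⟨T, hT⟩ := (hU.comap_subtype (K := N)).exists_le_sylow
  obtain ⟨n, hn⟩ := MulAction.exists_smul_eq N T (Q.subtype hQN)
  refine ⟨n, n.2, ?_⟩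
  intro x hx
  have h1 : (⟨x, hUN hx⟩ : N) ∈ (T : Subgroup N) := hT (by
    show (⟨x, hUN hx⟩ : N) ∈ U.subgroupOf N
    rw [mem_subgroupOf]; exact hx)
  have h2 : n * ⟨x, hUN hx⟩ * n⁻¹ ∈ ((n • T : Sylow p N) : Subgroup N) := by
    rw [Sylow.smul_def, Sylow.pointwise_smul_def]
    rw [Subgroup.mem_pointwise_smul_iff_inv_smul_mem]
    have h3 : (MulAut.conj n)⁻¹ • (n * ⟨x, hUN hx⟩ * n⁻¹) = (⟨x, hUN hx⟩ : N) := by
      rw [MulAut.smul_def, ← map_inv, MulAut.conj_apply]
      group
    rw [h3]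
    exact h1
  rw [hn, Sylow.coe_subtype, mem_subgroupOf] at h2
  simpa using h2

/-- Let S be a finite non-abelian simple group and p a prime dividing its order. If S has fewer than p² Sylow p-subgroups, then its Sylow p-subgroups have order p. -/
theorem result {S : Type*} [Group S] [Finite S]
    [IsSimpleGroup S] (hS : ¬ IsMulCommutative S) (p : ℕ) [Fact p.Prime] (hp : p ∣ Nat.card S)
    (hn : Nat.card (Sylow p S) < p ^ 2) (P : Sylow p S) : Nat.card P = p := by
  have hpp : p.Prime := Fact.out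
  -- there are two distinct Sylow subgroups
  have hex : ∃ P₁ P₂ : Sylow p S, P₁ ≠ P₂ := by
    by_contra hcon
    push Not at hcon
    have hnorm : (P : Subgroup S).Normal := by
      rw [← normalizer_eq_top_iff]
      rw [eq_top_iff]
      intro g _
      exact Sylow.smul_eq_iff_mem_normalizer.mp (hcon _ _)
    rcases IsSimpleGroup.eq_bot_or_eq_top_of_normal _ hnorm with h | h
    · exact P.ne_bot_of_dvd_card hp h
    · -- `S` is a `p`-group, hence has nontrivial centre, hence is abelian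
      have hSp : IsPGroup p S := by
        have h1 := P.2
        rw [h] at h1
        exact h1.of_equiv Subgroup.topEquiv
      haveI : Nontrivial S := IsSimpleGroup.toNontrivial
      have hc : Nontrivial (Subgroup.center S) := hSp.center_nontrivial
      have hc2 : Subgroup.center S ≠ ⊥ := by
        exact (Subgroup.nontrivial_iff_ne_bot _).mp hc
      rcases IsSimpleGroup.eq_bot_or_eq_top_of_normal (Subgroup.center S) inferInstance with h' | h'
      · exact hc2 h'
      · apply hS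
        refine ⟨⟨fun a b => ?_⟩⟩
        have hb : b ∈ Subgroup.center S := h' ▸ Subgroup.mem_top b
        exact (Subgroup.mem_center_iff.mp hb a)
  obtain ⟨P₁, P₂, h12⟩ := hex
  obtain ⟨⟨Q₁, Q₂⟩, hQ, hmin⟩ := Set.exists_min_image {x : Sylow p S × Sylow p S | x.1 ≠ x.2}
    (fun x => Nat.card ((x.1 : Subgroup S) ⊓ x.2 : Subgroup S)) (Set.toFinite _) ⟨(P₁, P₂), h12⟩
  have hQ12 : Q₁ ≠ Q₂ := hQ
  have hr1 : (Q₂ : Subgroup S).relIndex Q₁ = p := relIndex_eq hn Q₁ Q₂ hQ12
  have hr2 : (Q₁ : Subgroup S).relIndex Q₂ = p := relIndex_eq hn Q₂ Q₁ hQ12.symm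
  set D : Subgroup S := (Q₁ : Subgroup S) ⊓ Q₂ with hD
  set N : Subgroup S := normalizer (D : Set S) with hN
  have hQ₁N : (Q₁ : Subgroup S) ≤ N := le_normalizer_inf Q₁ Q₂ hr1
  have hQ₂N : (Q₂ : Subgroup S) ≤ N := by
    have := le_normalizer_inf Q₂ Q₁ hr2
    rwa [inf_comm] at this
  have hmem : ∀ (g : S) (R : Sylow p S) (x : S), x ∈ g • R ↔ g⁻¹ * x * g ∈ R := by
    intro g R x
    show x ∈ ((g • R : Sylow p S) : Subgroup S) ↔ _
    rw [Sylow.smul_def, Sylow.pointwise_smul_def, Subgroup.mem_pointwise_smul_iff_inv_smul_mem,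
      MulAut.smul_def, ← map_inv, MulAut.conj_apply, inv_inv]
    rfl
  have hclaim : ∀ R : Sylow p S, D ≤ R := by
    intro R
    obtain ⟨n, hnN, hconj⟩ := exists_conj_le N Q₂ hQ₂N ((R : Subgroup S) ⊓ N)
      (R.2.to_le inf_le_left) inf_le_right
    have hle : (Q₁ : Subgroup S) ⊓ ((n • R : Sylow p S) : Subgroup S) ≤ D := by
      rintro x ⟨hx1, hx2⟩
      have hx2' : n⁻¹ * x * n ∈ R := (hmem n R x).mp hx2
      have hxN : x ∈ N := hQ₁N hx1
      have hyN : n⁻¹ * x * n ∈ N := N.mul_mem (N.mul_mem (N.inv_mem hnN) hxN) hnN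
      have := hconj (n⁻¹ * x * n) ⟨hx2', hyN⟩
      have h3 : n * (n⁻¹ * x * n) * n⁻¹ = x := by group
      rw [h3] at this
      exact ⟨hx1, this⟩
    have hne : Q₁ ≠ n • R := by
      intro h
      have h4 : (Q₁ : Subgroup S) ≤ D := by
        have : (Q₁ : Subgroup S) ⊓ ((n • R : Sylow p S) : Subgroup S) = Q₁ := by
          rw [← h]; exact inf_idem _
        rw [← this]; exact hle
      have h5 : (Q₁ : Subgroup S) ≤ Q₂ := h4.trans inf_le_right
      exact hQ12 (Sylow.ext (Q₁.is_maximal' Q₂.2 h5)).symm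
    have hcard := hmin (Q₁, n • R) hne
    have heq : (Q₁ : Subgroup S) ⊓ ((n • R : Sylow p S) : Subgroup S) = D :=
      Subgroup.eq_of_le_of_card_ge hle hcard
    intro d hd
    have hd' : n * d * n⁻¹ ∈ D := by
      have := (mem_normalizer_iff.mp hnN d).mp hd
      exact this
    have h6 : n * d * n⁻¹ ∈ ((n • R : Sylow p S) : Subgroup S) := by
      have : n * d * n⁻¹ ∈ (Q₁ : Subgroup S) ⊓ ((n • R : Sylow p S) : Subgroup S) := heq ▸ hd'
      exact this.2
    have h7 := (hmem n R _).mp h6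
    have h8 : n⁻¹ * (n * d * n⁻¹) * n = d := by group
    rw [h8] at h7
    exact h7
  have hcore : D ≤ Subgroup.normalCore (Q₁ : Subgroup S) := by
    intro d hd b
    have := hclaim (b⁻¹ • Q₁) hd
    have h9 := (hmem b⁻¹ Q₁ d).mp this
    rw [inv_inv] at h9
    exact h9
  have hD0 : D = ⊥ := by
    rcases IsSimpleGroup.eq_bot_or_eq_top_of_normal (Subgroup.normalCore (Q₁ : Subgroup S))
      (Subgroup.normalCore_normal _) with h | h
    · rw [h] at hcore
      exact le_bot_iff.mp hcore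
    · exfalso
      have h10 : (Q₁ : Subgroup S) = ⊤ := top_le_iff.mp (h ▸ Subgroup.normalCore_le _)
      have h11 : (Q₂ : Subgroup S) ≤ Q₁ := h10 ▸ le_top
      exact hQ12 (Sylow.ext (Q₂.is_maximal' Q₁.2 h11))
  have hQ₁card : Nat.card (Q₁ : Subgroup S) = p := by
    rw [← inf_relIndex_left, ← hD, hD0, relIndex_bot_left] at hr1
    exact hr1
  have e1 := P.card_eq_multiplicity
  have e2 := Q₁.card_eq_multiplicity
  show Nat.card (P : Subgroup S) = p
  rw [e1, ← e2, hQ₁card]

end Cfsg.Agent.S4343
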