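import Mathlib
import Cfsg.Statements.S4344
import Cfsg.Agent.S4347

set_option autoImplicit false
open Cfsg

namespace Cfsg.Agent.S4344

/-- Let S be a finite non-abelian simple group, M a maximal subgroup of S and C a cyclic normal subgroup of M. If a Sylow p-subgroup P of S (for a prime p dividing the order of S) is contained in C, then the number of Sylow p-subgroups of S equals the index of M. -/
theorem result {S : Type*} [Group S] [Finite S]
    [IsSimpleGroup S] (hS : ¬ IsMulCommutative S) (p : ℕ) [Fact p.Prime] (hp : p ∣ Nat.card S)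
    (M : Subgroup S) (hM : IsCoatom M) (C : Subgroup S) (hCM : C ≤ M) (hCn : (C.subgroupOf M).Normal)
    (hC : IsCyclic C) (P : Sylow p S) (hP : (P : Subgroup S) ≤ C) :
    Nat.card (Sylow p S) = M.index := by
  -- C is commutative
  have hCcomm : ∀ a ∈ C, ∀ b ∈ C, a * b = b * a := by
    intro a ha b hb
    have := (IsCyclic.commGroup (α := C)).mul_comm ⟨a, ha⟩ ⟨b, hb⟩
    exact congrArg Subtype.val this
  -- M ≤ normalizer P
  have hMN : M ≤ Subgroup.normalizer ((P : Subgroup S) : Set S) := by
    intro m hm
    -- Q = m • P is contained in C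
    have hQC : ((m • P : Sylow p S) : Subgroup S) ≤ C := by
      intro x hx
      have hx' : m⁻¹ * x * m ∈ P := (Cfsg.Agent.S4347.mem_smul_sylow m x P).mp hx
      have hxC : m⁻¹ * x * m ∈ C := hP hx'
      have := hCn.conj_mem ⟨m⁻¹ * x * m, hCM hxC⟩ (by simpa [Subgroup.mem_subgroupOf] using hxC) ⟨m, hm⟩
      rw [Subgroup.mem_subgroupOf] at this
      simp only [Subgroup.coe_mul, Subgroup.coe_inv] at this
      rw [show m * (m⁻¹ * x * m) * m⁻¹ = x by group] at this
      exact this
    have hnorm : (P : Subgroup S) ≤ Subgroup.normalizer (((m • P : Sylow p S) : Subgroup S) : Set S) := by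
      intro x hx
      rw [Subgroup.mem_normalizer_iff]
      intro y
      constructor
      · intro hy
        have : x * y * x⁻¹ = y := by
          rw [hCcomm x (hP hx) y (hQC hy)]; group
        rw [this]; exact hy
      · intro hy
        have hyC : x * y * x⁻¹ ∈ C := hQC hy
        have hyC' : y ∈ C := by
          have := C.mul_mem (C.mul_mem (C.inv_mem (hP hx)) hyC) (hP hx)
          rwa [show x⁻¹ * (x * y * x⁻¹) * x = y by group] at this
        have : x * y * x⁻¹ = y := by
          rw [hCcomm x (hP hx) y hyC']; group
        rw [this] at hy; exact hy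
    have hpg := IsPGroup.to_sup_of_normal_right' P.isPGroup' (m • P : Sylow p S).isPGroup' hnorm
    have h1 := P.is_maximal' hpg le_sup_left
    have hle : ((m • P : Sylow p S) : Subgroup S) ≤ P := by
      rw [← h1]; exact le_sup_right
    have heq : ((m • P : Sylow p S) : Subgroup S) = P :=
      ((m • P : Sylow p S).is_maximal' P.isPGroup' hle).symm
    have : m • P = P := Sylow.ext heq
    exact Sylow.smul_eq_iff_mem_normalizer.mp this
  -- normalizer ≠ ⊤
  have hNtop : Subgroup.normalizer ((P : Subgroup S) : Set S) ≠ ⊤ := by
    intro h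
    rw [Subgroup.normalizer_eq_top_iff] at h
    rcases h.eq_bot_or_eq_top with hb | ht
    · exact P.ne_bot_of_dvd_card hp hb
    · apply hS
      apply IsMulCommutative.of_comm
      intro a b
      have ha : a ∈ (P : Subgroup S) := by rw [ht]; trivial
      have hb : b ∈ (P : Subgroup S) := by rw [ht]; trivial
      exact hCcomm a (hP ha) b (hP hb)
  have hMeq : M = Subgroup.normalizer ((P : Subgroup S) : Set S) := by
    rcases eq_or_lt_of_le hMN with h | h
    · exact h
    · exact absurd (hM.2 _ h) hNtop
  rw [P.card_eq_index_normalizer, hMeq]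
  rfl

end Cfsg.Agent.S4344
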