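import Cfsg.Statements.S4348
-- import your own Cfsg.Agent.* helpers here

set_option autoImplicit false
open Cfsg

namespace Cfsg.Agent.S4348

theorem normal_pgroup_le_sylow {G : Type*} [Group G] [Finite G] (p : ℕ) [Fact p.Prime]
    (N : Subgroup G) (hN : N.Normal) (hp : IsPGroup p N) (Q : Sylow p G) : N ≤ Q := by
  obtain ⟨R, hR⟩ := hp.exists_le_sylow
  obtain ⟨g, hg⟩ := MulAction.exists_smul_eq G R Q
  intro n hn
  have h1 : g⁻¹ * n * g ∈ N := by
    have := hN.conj_mem n hn g⁻¹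
    simpa using this
  have h2 : g⁻¹ * n * g ∈ (R : Subgroup G) := hR h1
  have h3 : g * (g⁻¹ * n * g) * g⁻¹ ∈ ((g • R : Sylow p G) : Subgroup G) := by
    rw [Sylow.coe_subgroup_smul]
    exact ⟨g⁻¹ * n * g, h2, rfl⟩
  rw [hg] at h3
  have h4 : g * (g⁻¹ * n * g) * g⁻¹ = n := by group
  rw [h4] at h3
  exact h3

theorem pCore_le_sylow {G : Type*} [Group G] [Finite G] (p : ℕ) [Fact p.Prime] (Q : Sylow p G) :
    Cfsg.pCore p G ≤ Q := by
  unfold Cfsg.pCore
  apply sSup_le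
  rintro N ⟨hN, hp⟩
  exact normal_pgroup_le_sylow p N hN hp Q


/-- Let G be a finite group, p a prime and P a Sylow p-subgroup of G, and let O_p(G) be the largest normal p-subgroup of G. If P/O_p(G) is cyclic, then some element of p-power order of G lies in exactly one Sylow p-subgroup. -/
theorem result {G : Type*} [Group G] [Finite G]
    (p : ℕ) [Fact p.Prime] (P : Sylow p G)
    [hn : ((Cfsg.pCore p G).subgroupOf (P : Subgroup G)).Normal]
    (hc : IsCyclic ((P : Subgroup G) ⧸ (Cfsg.pCore p G).subgroupOf (P : Subgroup G))) :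
    ∃ x : G, (∃ k : ℕ, orderOf x = p ^ k) ∧ ∃! Q : Sylow p G, x ∈ Q := by
  obtain ⟨⟨gbar, hgbar⟩⟩ := hc
  obtain ⟨g, rfl⟩ := QuotientGroup.mk_surjective gbar
  refine ⟨(g : G), ?_, P, g.2, ?_⟩
  · have := P.isPGroup' g
    obtain ⟨k, hk⟩ := this
    have h2 : orderOf (g : G) ∣ p ^ k := by
      apply orderOf_dvd_of_pow_eq_one
      have := congrArg Subtype.val hk
      simpa using this
    obtain ⟨j, _, hj⟩ := (Nat.dvd_prime_pow (Fact.out)).1 h2
    exact ⟨j, hj⟩
  · intro Q hQ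
    have hPQ : (P : Subgroup G) ≤ Q := by
      intro y hy
      obtain ⟨k, hk⟩ := Subgroup.mem_zpowers_iff.1 (hgbar (QuotientGroup.mk ⟨y, hy⟩))
      rw [← QuotientGroup.mk_zpow, QuotientGroup.eq] at hk
      rw [Subgroup.mem_subgroupOf] at hk
      have h3 : ((g ^ k)⁻¹ * ⟨y, hy⟩ : (P : Subgroup G)).1 ∈ (Q : Subgroup G) := pCore_le_sylow p Q hk
      have h4 : ((g : G) ^ k) ∈ (Q : Subgroup G) := Subgroup.zpow_mem _ hQ k
      have h5 : y = ((g : G) ^ k) * ((g ^ k)⁻¹ * ⟨y, hy⟩ : (P : Subgroup G)).1 := by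
        simp
      rw [h5]
      exact Subgroup.mul_mem _ h4 h3
    exact Sylow.ext (P.is_maximal' Q.isPGroup' hPQ)

end Cfsg.Agent.S4348
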