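import Mathlib
import Cfsg.Statements.S4355
import Cfsg.Agent.Lib.Helper25.FusionSylow3
import Cfsg.Agent.Lib.Helper3.HenkeLocal

set_option autoImplicit false
set_option linter.style.haveILetI false

open Cfsg

namespace Cfsg.Agent.S4355

/-- A 2-element with centralizer of odd index is conjugate to an element centralizing the Sylow subgroup. -/
theorem exists_conj_central {G : Type*} [Group G] [Finite G] (P : Sylow 2 G) (x : G)
    (hx : ¬ 2 ∣ (Subgroup.centralizer ({x} : Set G)).index) :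
    ∃ g : G, ∀ y ∈ P, (g * x * g⁻¹) * y = y * (g * x * g⁻¹) := by
  haveI : Fact (Nat.Prime 2) := ⟨Nat.prime_two⟩
  set C := Subgroup.centralizer ({x} : Set G) with hC
  have hcard : ¬ 2 ∣ Nat.card (G ⧸ C) := by
    rw [← Subgroup.index_eq_card]; exact hx
  obtain ⟨q, hq⟩ := P.isPGroup'.nonempty_fixed_point_of_prime_not_dvd_card (G ⧸ C) hcard
  obtain ⟨g, rfl⟩ := QuotientGroup.mk_surjective q
  refine ⟨g, fun y hy => ?_⟩
  have h1 := hq ⟨y, hy⟩
  have h2 : ((y * g : G) : G ⧸ C) = (g : G ⧸ C) := h1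
  rw [QuotientGroup.eq] at h2
  have h3 : (y * g)⁻¹ * g ∈ C := h2
  rw [hC, Subgroup.mem_centralizer_iff] at h3
  have h4 := h3 x (Set.mem_singleton x)
  -- x * ((y g)⁻¹ g) = ((y g)⁻¹ g) * x
  have h5 : g * x * g⁻¹ = y * (g * x * g⁻¹) * y⁻¹ := by
    have e : (y * g)⁻¹ * g = g⁻¹ * y⁻¹ * g := by group
    rw [e] at h4
    calc g * x * g⁻¹ = y * (g * (g⁻¹ * y⁻¹ * g * x) * g⁻¹) := by group
      _ = y * (g * (x * (g⁻¹ * y⁻¹ * g)) * g⁻¹) := by rw [h4]
      _ = y * (g * x * g⁻¹) * y⁻¹ := by group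
  calc g * x * g⁻¹ * y = y * (g * x * g⁻¹) * y⁻¹ * y := by rw [← h5]
    _ = y * (g * x * g⁻¹) := by group

/-- A 2-element centralizing a Sylow 2-subgroup lies in it. -/
theorem mem_of_centralizes {G : Type*} [Group G] [Finite G] (P : Sylow 2 G) (z : G)
    (hz : ∃ k : ℕ, orderOf z = 2 ^ k) (hc : ∀ y ∈ P, z * y = y * z) : z ∈ P := by
  haveI : Fact (Nat.Prime 2) := ⟨Nat.prime_two⟩
  have hp1 : IsPGroup 2 (Subgroup.zpowers z) := by
    obtain ⟨k, hk⟩ := hz
    apply IsPGroup.of_card (n := k)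
    rw [Nat.card_zpowers, hk]
  have hnorm : Subgroup.zpowers z ≤ Subgroup.normalizer ((P : Subgroup G) : Set G) := by
    rw [Subgroup.zpowers_le, Subgroup.mem_normalizer_iff]
    intro y
    constructor
    · intro hy
      have : z * y * z⁻¹ = y := by rw [hc y hy]; group
      rw [this]; exact hy
    · intro hy
      have h1 := hc _ hy
      have : y = z * y * z⁻¹ := by
        have h2 : z * (z * y * z⁻¹) = z * y := by rw [h1]; group
        exact (mul_left_cancel h2).symm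
      rw [this]; exact hy
  have hp : IsPGroup 2 (Subgroup.zpowers z ⊔ (P : Subgroup G) : Subgroup G) :=
    IsPGroup.to_sup_of_normal_right' hp1 P.isPGroup' hnorm
  have := P.is_maximal' hp le_sup_right
  have hz' : z ∈ Subgroup.zpowers z ⊔ (P : Subgroup G) :=
    Subgroup.mem_sup_left (Subgroup.mem_zpowers z)
  rw [this] at hz'
  exact hz'

/-- If every element of 2-power order of a finite group has a conjugacy class of odd size, then the Sylow 2-subgroups of the group are abelian. -/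
theorem result {G : Type*} [Group G] [Finite G]
    (h : ∀ x : G, (∃ k : ℕ, orderOf x = 2 ^ k) → ¬ 2 ∣ (Subgroup.centralizer ({x} : Set G)).index) (P : Sylow 2 G) :
    IsMulCommutative P := by
  haveI : Fact (Nat.Prime 2) := ⟨Nat.prime_two⟩
  set S : Subgroup G := (P : Subgroup G) with hSdef
  haveI : Finite S := inferInstance
  have hS : IsPGroup 2 S := P.isPGroup'
  set F := Cfsg.groupFusionSystem S with hF
  have hsat : F.IsSaturated 2 := Cfsg.Agent.Helper25.groupFusionSystem_isSaturated 2 P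
  have hH : ∀ x ∈ S, ∃ z ∈ Cfsg.FusionSystem.centralizerIn S S, F.IsConjElt x z := by
    intro x hx
    have hx2 : ∃ k : ℕ, orderOf x = 2 ^ k := by
      obtain ⟨k, hk⟩ := (IsPGroup.iff_orderOf.mp hS) ⟨x, hx⟩
      exact ⟨k, by rw [← hk]; exact (Subgroup.orderOf_coe (⟨x, hx⟩ : S))⟩
    obtain ⟨g, hg⟩ := exists_conj_central P x (h x hx2)
    have hz2 : ∃ k : ℕ, orderOf (g * x * g⁻¹) = 2 ^ k := by
      obtain ⟨k, hk⟩ := hx2
      refine ⟨k, ?_⟩
      rw [← hk]
      exact MulEquiv.orderOf_eq (MulAut.conj g) x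
    have hzP : g * x * g⁻¹ ∈ S := mem_of_centralizes P _ hz2 hg
    refine ⟨g * x * g⁻¹, ?_, ?_⟩
    · rw [Cfsg.Agent.Helper3.Henke.mem_ZS]
      exact ⟨hzP, fun s hs => (hg s hs).symm⟩
    · refine ⟨Cfsg.conjHom (Subgroup.zpowers x) g, ⟨(Subgroup.zpowers_le).mpr hx, ?_, g, fun y => rfl⟩, rfl⟩
      rintro ⟨y, hy⟩
      obtain ⟨k, rfl⟩ := Subgroup.mem_zpowers_iff.mp hy
      show g * x ^ k * g⁻¹ ∈ S
      rw [← conj_zpow]
      exact Subgroup.zpow_mem _ hzP k
  have hcomm := Cfsg.Agent.Helper3.Henke.henke_main hS F hsat hH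
  exact ⟨⟨fun a b => hcomm a b⟩⟩

end Cfsg.Agent.S4355
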