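import Mathlib
import Cfsg.Statements.S4357
import Cfsg.Agent.Lib.Helper4.RedSylC

set_option autoImplicit false
open Cfsg

namespace Cfsg.Agent.S4357

/-- Let F be a finite field with q elements, p a prime and G = SL(2, F). Say a Sylow p-subgroup Q of G is redundant when every element of p-power order lies in some Sylow p-subgroup other than Q. Then G has a redundant Sylow p-subgroup if and only if p = 2 and q is not of any of the forms 2ᵏ - 1, 2ᵏ, 2ᵏ + 1. -/
theorem result {F : Type*} [Field F] [Fintype F] (p : ℕ) [Fact p.Prime] :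
    (∃ Q : Sylow p (Matrix.SpecialLinearGroup (Fin 2) F), ∀ x : Matrix.SpecialLinearGroup (Fin 2) F,
        (∃ k : ℕ, orderOf x = p ^ k) → ∃ P : Sylow p (Matrix.SpecialLinearGroup (Fin 2) F), P ≠ Q ∧ x ∈ P) ↔
      (p = 2 ∧ (¬ ∃ k : ℕ, Fintype.card F + 1 = 2 ^ k) ∧ (¬ ∃ k : ℕ, Fintype.card F = 2 ^ k) ∧
        ¬ ∃ k : ℕ, Fintype.card F = 2 ^ k + 1) := by
  classical
  have hqpos : 2 ≤ Fintype.card F := Fintype.one_lt_card
  constructor
  · rintro ⟨Q, hQ⟩
    have hA : ¬ (p ≠ 2 ∨ (2 : F) = 0) := by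
      intro hp
      obtain ⟨x, -, hxk, huniq⟩ := Cfsg.Agent.Helper4.RedSyl.unique_sylow_of_central hp Q
      obtain ⟨P, hPQ, hxP⟩ := hQ x hxk
      exact hPQ (huniq P hxP)
    push Not at hA
    obtain ⟨rfl, h2⟩ := hA
    have hF : ringChar F ≠ 2 := by
      intro h
      apply h2
      have := (ringChar.spec F 2).2 (by rw [h])
      exact_mod_cast this
    have hodd : Odd (Fintype.card F) := by
      rw [Nat.odd_iff]
      by_contra hcon
      apply hF
      rw [FiniteField.even_card_iff_char_two]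
      omega
    have hodd' : Fintype.card F % 2 = 1 := Nat.odd_iff.1 hodd
    obtain ⟨c, h⟩ := Cfsg.Agent.Helper12.exists_quatData hodd Q
    have htr := Cfsg.Agent.Helper12.trace_sq_ne_of_sq h2 h.sq
    obtain ⟨hr, hcyc, hcard⟩ := Cfsg.Agent.Helper12.regular_of_trace_sq_ne hF c htr
    have h4 := Cfsg.Agent.Helper12.four_dvd_card_torus h2 h.sq
    have hfour : ∀ k : ℕ, 2 ≤ k → 4 ∣ 2 ^ k := by
      intro k hk
      have : (4 : ℕ) = 2 ^ 2 := by norm_num
      rw [this]
      exact pow_dvd_pow 2 hk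
    have hcontra : ∀ j : ℕ, Nat.card (Cfsg.Agent.Helper12.torus c) ≠ 2 ^ j := by
      intro j hj
      obtain ⟨x, -, hxk, huniq⟩ :=
        Cfsg.Agent.Helper4.RedSyl.unique_sylow_of_two_pow hodd Q c h j hj
      obtain ⟨P, hPQ, hxP⟩ := hQ x hxk
      exact hPQ (huniq P hxP)
    refine ⟨rfl, ?_, ?_, ?_⟩
    · rintro ⟨k, hk⟩
      rcases hcard with h1 | h1
      · have hk2 : 2 ≤ k := by
          by_contra hcon
          push Not at hcon
          have : k = 0 ∨ k = 1 := by omega
          rcases this with rfl | rfl <;> omega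
        have h5 := hfour k hk2
        rw [← hk] at h5
        rw [h1] at h4
        omega
      · exact hcontra k (by rw [h1, hk])
    · rintro ⟨k, hk⟩
      have hk0 : k ≠ 0 := by
        rintro rfl
        omega
      have : 2 ∣ 2 ^ k := dvd_pow_self 2 hk0
      rw [← hk] at this
      omega
    · rintro ⟨k, hk⟩
      rcases hcard with h1 | h1
      · exact hcontra k (by rw [h1, hk]; omega)
      · by_cases hk2 : 2 ≤ k
        · have h5 := hfour k hk2
          rw [h1] at h4
          omega
        · push Not at hk2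
          have : k = 0 ∨ k = 1 := by omega
          rcases this with rfl | rfl
          · omega
          · apply hcontra 2
            rw [h1, hk]
            norm_num
  · rintro ⟨rfl, h1, h2, h3⟩
    have hodd : Odd (Fintype.card F) := by
      obtain ⟨p', hp'⟩ := CharP.exists F
      haveI := hp'
      obtain ⟨n, hpp, hq⟩ := FiniteField.card F p'
      rcases hpp.eq_two_or_odd' with rfl | hoddp
      · exact absurd ⟨(n : ℕ), hq⟩ h2
      · rw [hq]
        exact hoddp.pow
    obtain ⟨Q⟩ : Nonempty (Sylow 2 (Matrix.SpecialLinearGroup (Fin 2) F)) := inferInstance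
    refine ⟨Q, ?_⟩
    rintro x ⟨k, hk⟩
    exact Cfsg.Agent.Helper4.RedSyl.redundant_two hodd (fun k hk => h1 ⟨k, hk⟩)
      (fun k hk => h3 ⟨k, hk⟩) Q x k hk

end Cfsg.Agent.S4357
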