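import Mathlib
import Cfsg.Statements.S4364
import Cfsg.Agent.Lib.Helper16.KazarinD

set_option autoImplicit false
open Cfsg

namespace Cfsg.Agent.S4364

open Cfsg.Agent.Helper16 Cfsg.Agent.Helper16.Kazarin

/-- Let G be a finite group, p a prime and x an element whose conjugacy class has p-power size. Then for any two conjugates y and z of x, the commutator y z y⁻¹ z⁻¹ lies in O_p(G), the largest normal p-subgroup of G. -/
theorem result {G : Type*} [Group G] [Finite G] (p : ℕ) [Fact p.Prime]
    (x : G) (hx : ∃ a : ℕ, (Subgroup.centralizer ({x} : Set G)).index = p ^ a) (g h : G) :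
    (g * x * g⁻¹) * (h * x * h⁻¹) * (g * x * g⁻¹)⁻¹ * (h * x * h⁻¹)⁻¹ ∈ Cfsg.pCore p G := by
  have hp : p.Prime := Fact.out
  haveI hOn : (pCore p G).Normal := pCore_normal' p G
  have hO : pCore p (G ⧸ pCore p G) = ⊥ := pCore_quotient_pCore_eq_bot p
  have hxbar : ClassPow p ((QuotientGroup.mk' (pCore p G)) x) :=
    ClassPow.map hp (QuotientGroup.mk' (pCore p G)) (QuotientGroup.mk'_surjective _) hx
  have hcomm := comm_normalClosure hO hxbar
  have hNn : (Subgroup.normalClosure
      ({(QuotientGroup.mk' (pCore p G)) x} : Set (G ⧸ pCore p G))).Normal :=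
    Subgroup.normalClosure_normal
  have hmem : ∀ c : G, (QuotientGroup.mk' (pCore p G)) (c * x * c⁻¹) ∈
      Subgroup.normalClosure ({(QuotientGroup.mk' (pCore p G)) x} : Set (G ⧸ pCore p G)) := by
    intro c
    rw [map_mul, map_mul, map_inv]
    exact hNn.conj_mem _ (Subgroup.subset_normalClosure (Set.mem_singleton _)) _
  have hab := congrArg Subtype.val (hcomm ⟨_, hmem g⟩ ⟨_, hmem h⟩)
  simp only [Subgroup.coe_mul] at hab
  rw [← QuotientGroup.eq_one_iff, ← QuotientGroup.mk'_apply, map_mul, map_mul, map_mul, map_inv,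
    map_inv, hab]
  group

end Cfsg.Agent.S4364
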