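import Mathlib
import Cfsg.Statements.S4365
-- import your own Cfsg.Agent.* helpers here

set_option autoImplicit false
open Cfsg

namespace Cfsg.Agent.S4365

section Aux

variable {P : Type*} [Group P] [Finite P]

/-- Notation: the centralizer of a single element. -/
abbrev Cn (y : P) : Subgroup P := Subgroup.centralizer ({y} : Set P)

omit [Finite P] in
theorem mem_Cn {y k : P} : k ∈ Cn y ↔ k * y = y * k := Subgroup.mem_centralizer_singleton_iff

theorem Cn_eq_of_le {n : ℕ} (H : ∀ y : P, y ∉ Subgroup.center P → (Cn y).index = n)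
    {u v : P} (hu : u ∉ Subgroup.center P) (hv : v ∉ Subgroup.center P) (h : Cn u ≤ Cn v) :
    Cn u = Cn v := by
  apply le_antisymm h
  rw [← Subgroup.relIndex_eq_one]
  have h1 := Subgroup.relIndex_mul_index h
  rw [H u hu, H v hv] at h1
  have hn : n ≠ 0 := by
    rw [← H u hu]; exact Subgroup.index_ne_zero_of_finite
  have : (Cn u).relIndex (Cn v) * n = 1 * n := by rw [one_mul]; exact h1
  exact Nat.eq_of_mul_eq_mul_right (Nat.pos_of_ne_zero hn) this

theorem Cn_le_pow (u : P) (k : ℕ) : Cn u ≤ Cn (u ^ k) := by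
  intro g hg
  rw [mem_Cn] at hg ⊢
  have : Commute g u := hg
  exact (this.pow_right k)

theorem Cn_pow {n : ℕ} (H : ∀ y : P, y ∉ Subgroup.center P → (Cn y).index = n)
    {u : P} {k : ℕ} (huk : u ^ k ∉ Subgroup.center P) : Cn (u ^ k) = Cn u := by
  have hu : u ∉ Subgroup.center P := fun h => huk (Subgroup.pow_mem _ h k)
  exact (Cn_eq_of_le H hu huk (Cn_le_pow u k)).symm

theorem Cn_central_mul {u z : P} (hz : z ∈ Subgroup.center P) : Cn (z * u) = Cn u := by
  ext g
  rw [mem_Cn, mem_Cn]
  have hzg : g * z = z * g := (Subgroup.mem_center_iff.1 hz g)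
  constructor
  · intro h
    have : z * (g * u) = z * (u * g) := by
      rw [← mul_assoc, ← hzg, mul_assoc, h, mul_assoc]
    exact mul_left_cancel this
  · intro h
    rw [← mul_assoc, hzg, mul_assoc, h, mul_assoc]

/-- Kegel-type lemma: commuting noncentral elements with different centralizers have the same
order modulo the centre. -/
theorem pow_mem_center_of_commute {n : ℕ}
    (H : ∀ y : P, y ∉ Subgroup.center P → (Cn y).index = n)
    {u v : P} (hu : u ∉ Subgroup.center P) (hv : v ∉ Subgroup.center P) (huv : Commute u v)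
    (hne : Cn u ≠ Cn v) (m : ℕ) (hum : u ^ m ∈ Subgroup.center P) :
    v ^ m ∈ Subgroup.center P := by
  by_contra hvm
  have h1 : (u * v) ^ m = u ^ m * v ^ m := huv.mul_pow m
  have h2 : Cn ((u * v) ^ m) = Cn v := by
    rw [h1, Cn_central_mul hum, Cn_pow H hvm]
  have h3 : (u * v) ^ m ∉ Subgroup.center P := by
    intro hc
    apply hvm
    have : v ^ m = (u ^ m)⁻¹ * (u * v) ^ m := by rw [h1]; group
    rw [this]
    exact Subgroup.mul_mem _ (Subgroup.inv_mem _ hum) hc
  have h4 : Cn (u * v) = Cn v := by rw [← Cn_pow H h3, h2]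
  apply hne
  symm
  apply Cn_eq_of_le H hv hu
  intro g hg
  have hg' : g ∈ Cn (u * v) := by rw [h4]; exact hg
  rw [mem_Cn] at hg hg' ⊢
  have : g * u * v = u * g * v := by
    calc g * u * v = g * (u * v) := by rw [mul_assoc]
    _ = u * v * g := hg'
    _ = u * (v * g) := by rw [mul_assoc]
    _ = u * (g * v) := by rw [hg]
    _ = u * g * v := by rw [mul_assoc]
  exact mul_right_cancel this


omit [Finite P] in
theorem conj_pow_left_central {k x z : P} (hz : z ∈ Subgroup.center P)
    (h : k * x * k⁻¹ = z * x) (n : ℕ) : k ^ n * x * (k ^ n)⁻¹ = z ^ n * x := by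
  induction n with
  | zero => simp
  | succ n ih =>
    have hzc : ∀ g : P, g * z ^ n = z ^ n * g :=
      fun g => Subgroup.mem_center_iff.1 (Subgroup.pow_mem _ hz n) g
    calc k ^ (n + 1) * x * (k ^ (n + 1))⁻¹ = k * (k ^ n * x * (k ^ n)⁻¹) * k⁻¹ := by
          rw [pow_succ']; group
      _ = k * (z ^ n * x) * k⁻¹ := by rw [ih]
      _ = z ^ n * (k * x * k⁻¹) := by
          rw [← mul_assoc k, hzc k]; group
      _ = z ^ (n + 1) * x := by rw [h, pow_succ]; group

omit [Finite P] in
theorem conj_pow_right_central {k x z : P} (hz : z ∈ Subgroup.center P)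
    (h : k * x * k⁻¹ = z * x) (n : ℕ) : k * x ^ n * k⁻¹ = z ^ n * x ^ n := by
  have hzx : Commute z x := (Subgroup.mem_center_iff.1 hz x).symm
  rw [← conj_pow, h, hzx.mul_pow]

/-- If `C(x ^ p) = C(x)` then an element that centralizes `x` modulo the centre centralizes `x`. -/
theorem eq_one_of_conj_eq_central_mul (p : ℕ) {x : P} (hxp : Cn (x ^ p) = Cn x) :
    ∀ (i : ℕ) (k z : P), z ∈ Subgroup.center P → k * x * k⁻¹ = z * x → z ^ (p ^ i) = 1 → z = 1 := by
  intro i
  induction i with
  | zero =>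
    intro k z _ _ h
    simpa using h
  | succ i ih =>
    intro k z hz h hzi
    have h1 := conj_pow_left_central hz h p
    have h2 : (z ^ p) ^ (p ^ i) = 1 := by rw [← pow_mul, ← pow_succ']; exact hzi
    have h3 : z ^ p = 1 := ih (k ^ p) (z ^ p) (Subgroup.pow_mem _ hz p) h1 h2
    have h4 := conj_pow_right_central hz h p
    rw [h3, one_mul] at h4
    have h5 : k ∈ Cn (x ^ p) := by
      rw [mem_Cn]
      have : k * x ^ p = (k * x ^ p * k⁻¹) * k := by group
      rw [this, h4]
    rw [hxp, mem_Cn] at h5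
    have h6 : k * x * k⁻¹ = x := by rw [h5]; group
    rw [h6] at h
    have : 1 * x = z * x := by rw [one_mul]; exact h
    exact (mul_right_cancel this).symm

end Aux

/-- Let P be a finite p-group whose conjugacy class sizes are exactly 1 and pᵃ for some a ≥ 1. Then every element of P has its p-th power in the center of P (P/Z(P) has exponent p). -/
theorem result {P : Type*} [Group P] [Finite P] (p : ℕ) [Fact p.Prime]
    (hP : IsPGroup p P) (a : ℕ) (ha : 1 ≤ a)
    (hcs : {k : ℕ | ∃ x : P, (Subgroup.centralizer ({x} : Set P)).index = k} = {1, p ^ a}) (x : P) :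
    x ^ p ∈ Subgroup.center P := by
  classical
  have hpp : p.Prime := Fact.out
  have H : ∀ y : P, y ∉ Subgroup.center P → (Cn y).index = p ^ a := by
    intro y hy
    have hmem : (Cn y).index ∈ ({1, p ^ a} : Set ℕ) := by rw [← hcs]; exact ⟨y, rfl⟩
    rcases hmem with h1 | h1
    · exfalso
      apply hy
      rw [Subgroup.index_eq_one] at h1
      rw [Subgroup.mem_center_iff]
      intro g
      have : g ∈ Cn y := by rw [h1]; trivial
      exact mem_Cn.1 this
    · exact h1
  by_contra hx
  have hx0 : x ∉ Subgroup.center P := fun h => hx (Subgroup.pow_mem _ h p)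
  have hCp : Cn (x ^ p) = Cn x := Cn_pow H hx
  -- every noncentral element of C(x) has centralizer C(x)
  have fact3 : ∀ v ∈ Cn x, v ∉ Subgroup.center P → Cn v = Cn x := by
    intro v hvC hvZ
    by_contra hne
    have hcomm : Commute v x := mem_Cn.1 hvC
    have hex : ∃ j, x ^ (p ^ j) ∈ Subgroup.center P := by
      obtain ⟨j, hj⟩ := hP x
      exact ⟨j, by rw [hj]; exact Subgroup.one_mem _⟩
    have hj1 : x ^ (p ^ (Nat.find hex)) ∈ Subgroup.center P := Nat.find_spec hex
    have hj2 : 2 ≤ Nat.find hex := by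
      by_contra hlt
      have h01 : Nat.find hex = 0 ∨ Nat.find hex = 1 := by omega
      rcases h01 with h0 | h0
      · rw [h0, pow_zero, pow_one] at hj1; exact hx0 hj1
      · rw [h0, pow_one] at hj1; exact hx hj1
    have h1 : (x ^ p) ^ (p ^ (Nat.find hex - 1)) ∈ Subgroup.center P := by
      rw [← pow_mul, ← pow_succ']
      have : Nat.find hex - 1 + 1 = Nat.find hex := by omega
      rw [this]; exact hj1
    have hne' : Cn (x ^ p) ≠ Cn v := by
      rw [hCp]; exact fun h => hne h.symm
    have h2 : v ^ (p ^ (Nat.find hex - 1)) ∈ Subgroup.center P :=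
      pow_mem_center_of_commute H hx hvZ (hcomm.symm.pow_left p) hne' _ h1
    have h3 : x ^ (p ^ (Nat.find hex - 1)) ∈ Subgroup.center P :=
      pow_mem_center_of_commute H hvZ hx0 hcomm hne _ h2
    exact Nat.find_min hex (by omega : Nat.find hex - 1 < Nat.find hex) h3
  -- an element of order p in the centre of P / Z(P)
  have hnt : Nontrivial (P ⧸ Subgroup.center P) := by
    refine ⟨⟨(x : P ⧸ Subgroup.center P), 1, ?_⟩⟩
    intro h
    exact hx0 ((QuotientGroup.eq_one_iff x).1 h)
  have hQ : IsPGroup p (P ⧸ Subgroup.center P) := hP.to_quotient _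
  have hcn : Nontrivial (Subgroup.center (P ⧸ Subgroup.center P)) := hQ.center_nontrivial
  have hdvd : p ∣ Nat.card (Subgroup.center (P ⧸ Subgroup.center P)) := by
    obtain ⟨n, hn⟩ := (hQ.to_subgroup (Subgroup.center _)).exists_card_eq
    rcases n with _ | n
    · exfalso
      rw [pow_zero] at hn
      have := Finite.one_lt_card (α := Subgroup.center (P ⧸ Subgroup.center P))
      omega
    · rw [hn, pow_succ]; exact dvd_mul_left p _
  obtain ⟨⟨wbar, hwc⟩, hword⟩ := exists_prime_orderOf_dvd_card' p hdvd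
  obtain ⟨w, rfl⟩ := QuotientGroup.mk_surjective wbar
  have hword' : orderOf (w : P ⧸ Subgroup.center P) = p := by
    rw [← hword]; exact (Subgroup.orderOf_mk _ _).symm
  have hwZ : w ∉ Subgroup.center P := by
    intro h
    have : (w : P ⧸ Subgroup.center P) = 1 := (QuotientGroup.eq_one_iff w).2 h
    rw [this, orderOf_one] at hword'
    exact hpp.one_lt.ne hword'
  have hwp : w ^ p ∈ Subgroup.center P := by
    have : (w : P ⧸ Subgroup.center P) ^ p = 1 := by
      rw [← hword']; exact pow_orderOf_eq_one _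
    rw [← QuotientGroup.mk_pow] at this
    exact (QuotientGroup.eq_one_iff _).1 this
  have hwcomm : ∀ g : P, g * w * g⁻¹ * w⁻¹ ∈ Subgroup.center P := by
    intro g
    rw [← QuotientGroup.eq_one_iff]
    have := Subgroup.mem_center_iff.1 hwc (g : P ⧸ Subgroup.center P)
    simp only [QuotientGroup.mk_mul, QuotientGroup.mk_inv]
    rw [this]; group
  -- w centralizes x
  have hwC : w ∈ Cn x := by
    have hz := hwcomm x
    have h : x * w * x⁻¹ = (x * w * x⁻¹ * w⁻¹) * w := by group
    have h1 := conj_pow_right_central hz h p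
    have h2 : x * w ^ p * x⁻¹ = w ^ p := by
      rw [Subgroup.mem_center_iff.1 hwp x]; group
    rw [h2] at h1
    have h3 : (x * w * x⁻¹ * w⁻¹) ^ p = 1 := by
      have : 1 * w ^ p = (x * w * x⁻¹ * w⁻¹) ^ p * w ^ p := by rw [one_mul]; exact h1
      exact (mul_right_cancel this).symm
    have h4 := conj_pow_left_central hz h p
    rw [h3, one_mul] at h4
    rw [← hCp, mem_Cn]
    have : x ^ p * w = (x ^ p * w * (x ^ p)⁻¹) * x ^ p := by group
    rw [this, h4]
  have hCw : Cn w = Cn x := fact3 w hwC hwZ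
  -- C(x) is normal
  have hCn : ∀ g c : P, c ∈ Cn x → g * c * g⁻¹ ∈ Cn x := by
    intro g c hc
    rw [← hCw] at hc ⊢
    rw [mem_Cn] at hc ⊢
    have hz := hwcomm g⁻¹
    rw [inv_inv] at hz
    have hzc : c * (g⁻¹ * w * g * w⁻¹) = (g⁻¹ * w * g * w⁻¹) * c :=
      Subgroup.mem_center_iff.1 hz c
    have e1 : g * c * g⁻¹ * w = g * (c * (g⁻¹ * w * g * w⁻¹) * w) * g⁻¹ := by group
    have e2 : w * (g * c * g⁻¹) = g * ((g⁻¹ * w * g * w⁻¹) * w * c) * g⁻¹ := by group
    have e3 : c * (g⁻¹ * w * g * w⁻¹) * w = (g⁻¹ * w * g * w⁻¹) * w * c := by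
      rw [hzc, mul_assoc, hc, ← mul_assoc]
    rw [e1, e2, e3]
  -- stabilizer
  have hstab : ∀ k : P, k * x * k⁻¹ * x⁻¹ ∈ Subgroup.center P → k ∈ Cn x := by
    intro k hk
    obtain ⟨i, hi⟩ := hP (k * x * k⁻¹ * x⁻¹)
    have h : k * x * k⁻¹ = (k * x * k⁻¹ * x⁻¹) * x := by group
    have h1 := eq_one_of_conj_eq_central_mul p hCp i k _ hk h hi
    rw [mem_Cn]
    have : k * x = (k * x * k⁻¹ * x⁻¹) * (x * k) := by group
    rw [this, h1, one_mul]
  have hZC : Subgroup.center P ≤ Cn x := by
    intro z hz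
    rw [mem_Cn]
    exact (Subgroup.mem_center_iff.1 hz x).symm
  -- the injection
  let f : (P ⧸ Cn x) × Subgroup.center P → P :=
    fun qz => qz.1.out * x * (qz.1.out)⁻¹ * (qz.2 : P)
  have hf : Function.Injective f := by
    rintro ⟨q, z⟩ ⟨q', z'⟩ h
    simp only [f] at h
    have hk : q'.out⁻¹ * q.out ∈ Cn x := by
      apply hstab
      have hzz : (z' : P) * (z : P)⁻¹ ∈ Subgroup.center P :=
        Subgroup.mul_mem _ z'.2 (Subgroup.inv_mem _ z.2)
      have : q'.out⁻¹ * q.out * x * (q'.out⁻¹ * q.out)⁻¹ * x⁻¹ = (z' : P) * (z : P)⁻¹ := by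
        have e : q.out * x * q.out⁻¹ = q'.out * x * q'.out⁻¹ * ((z' : P) * (z : P)⁻¹) := by
          have : q.out * x * q.out⁻¹ = (q.out * x * q.out⁻¹ * (z : P)) * (z : P)⁻¹ := by group
          rw [this, h]; group
        have e2 : q'.out⁻¹ * q.out * x * (q'.out⁻¹ * q.out)⁻¹ * x⁻¹ =
            q'.out⁻¹ * (q.out * x * q.out⁻¹) * q'.out * x⁻¹ := by group
        rw [e2, e]
        have hc : ∀ g : P, g * ((z' : P) * (z : P)⁻¹) = ((z' : P) * (z : P)⁻¹) * g :=
          fun g => Subgroup.mem_center_iff.1 hzz g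
        calc q'.out⁻¹ * (q'.out * x * q'.out⁻¹ * ((z' : P) * (z : P)⁻¹)) * q'.out * x⁻¹
            = x * (q'.out⁻¹ * ((z' : P) * (z : P)⁻¹)) * q'.out * x⁻¹ := by group
          _ = x * (((z' : P) * (z : P)⁻¹) * q'.out⁻¹) * q'.out * x⁻¹ := by rw [hc]
          _ = x * ((z' : P) * (z : P)⁻¹) * x⁻¹ := by group
          _ = ((z' : P) * (z : P)⁻¹) * x * x⁻¹ := by rw [hc]
          _ = (z' : P) * (z : P)⁻¹ := by group
      rw [this]; exact hzz
    have hqq : q' = q := by
      rw [← QuotientGroup.out_eq' q', ← QuotientGroup.out_eq' q]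
      exact QuotientGroup.eq.2 hk
    subst hqq
    have hz : (z : P) = (z' : P) := mul_left_cancel h
    rw [Subtype.ext hz]
  have hrange : Set.range f ⊆ (Cn x : Set P) \ (Subgroup.center P : Set P) := by
    rintro _ ⟨⟨q, z⟩, rfl⟩
    simp only [f]
    constructor
    · exact Subgroup.mul_mem _ (hCn _ _ (by rw [mem_Cn])) (hZC z.2)
    · intro hmem
      apply hx0
      have h1 : q.out * x * q.out⁻¹ ∈ Subgroup.center P := by
        have : q.out * x * q.out⁻¹ = (q.out * x * q.out⁻¹ * (z : P)) * (z : P)⁻¹ := by group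
        rw [this]
        exact Subgroup.mul_mem _ hmem (Subgroup.inv_mem _ z.2)
      have h2 : x = q.out⁻¹ * (q.out * x * q.out⁻¹) * q.out := by group
      have h3 : q.out⁻¹ * (q.out * x * q.out⁻¹) * q.out = q.out * x * q.out⁻¹ := by
        rw [Subgroup.mem_center_iff.1 h1 q.out⁻¹]; group
      rw [h2, h3]; exact h1
  -- counting
  have hidx : (Cn x).index = p ^ a := H x hx0
  have hn1 : 1 ≤ p ^ a := Nat.one_le_pow _ _ hpp.pos
  have h1 : (Set.range f).ncard = Nat.card ((P ⧸ Cn x) × Subgroup.center P) :=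
    Set.ncard_range_of_injective hf
  have h2 : (Set.range f).ncard ≤ ((Cn x : Set P) \ (Subgroup.center P : Set P)).ncard :=
    Set.ncard_le_ncard hrange (Set.toFinite _)
  have h3 : ((Cn x : Set P) \ (Subgroup.center P : Set P)).ncard =
      (Cn x : Set P).ncard - (Subgroup.center P : Set P).ncard :=
    Set.ncard_sdiff hZC (Set.toFinite _)
  rw [Nat.card_prod, ← Subgroup.index_eq_card, hidx] at h1
  have hcC : (Cn x : Set P).ncard = Nat.card (Cn x) := (Nat.card_coe_set_eq _).symm
  have hcZ : (Subgroup.center P : Set P).ncard = Nat.card (Subgroup.center P) :=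
    (Nat.card_coe_set_eq _).symm
  rw [h3, h1, hcC, hcZ] at h2
  obtain ⟨g, hg⟩ : ∃ g : P, g ∉ Cn x := by
    by_contra hall
    push Not at hall
    apply hx0
    rw [Subgroup.mem_center_iff]
    intro g
    exact mem_Cn.1 (hall g)
  have hgZ : g ∉ Subgroup.center P := fun h => hg (hZC h)
  have hinf : Cn g ⊓ Cn x = Subgroup.center P := by
    apply le_antisymm
    · intro v hv
      by_contra hvZ
      have h5 := fact3 v hv.2 hvZ
      apply hg
      rw [← h5, mem_Cn]
      exact (mem_Cn.1 hv.1).symm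
    · apply le_inf _ hZC
      intro z hz
      rw [mem_Cn]
      exact (Subgroup.mem_center_iff.1 hz g).symm
  have hb : (Subgroup.center P).index ≤ p ^ a * p ^ a := by
    rw [← hinf]
    calc (Cn g ⊓ Cn x).index ≤ (Cn g).index * (Cn x).index := Subgroup.index_inf_le
    _ = p ^ a * p ^ a := by rw [H g hgZ, hidx]
  have e1 := (Subgroup.center P).card_mul_index
  have e2 := (Cn x).card_mul_index
  rw [hidx] at e2
  have hcZpos : 0 < Nat.card (Subgroup.center P) := Nat.card_pos
  have h4 : p ^ a * Nat.card (Subgroup.center P) + Nat.card (Subgroup.center P) ≤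
      Nat.card (Cn x) := by
    have : 0 < p ^ a * Nat.card (Subgroup.center P) := Nat.mul_pos hn1 hcZpos
    omega
  have h5 : (p ^ a * Nat.card (Subgroup.center P) + Nat.card (Subgroup.center P)) * p ^ a ≤
      Nat.card (Cn x) * p ^ a := Nat.mul_le_mul_right _ h4
  have h6 : Nat.card (Subgroup.center P) * (Subgroup.center P).index ≤
      Nat.card (Subgroup.center P) * (p ^ a * p ^ a) := Nat.mul_le_mul_left _ hb
  rw [e2, ← e1] at h5
  have h7 := h5.trans h6
  nlinarith

end Cfsg.Agent.S4365
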