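import Mathlib
import Cfsg.Agent.Lib.Helper16.UniqueInvolution
import Cfsg.Agent.Lib.Helper16.OddUnique
import Cfsg.Agent.Lib.Helper22.PPrimeCore
import Cfsg.Agent.Lib.Helper22.CyclicChain
import Cfsg.Statements.S4370
-- import your own Cfsg.Agent.* helpers here

set_option autoImplicit false
open Cfsg

namespace Cfsg.Agent.S4370

open Subgroup Cfsg.Agent.Helper16 Cfsg.Agent.Helper22

theorem eq_top_of_sylow_le {G : Type*} [Group G] [Finite G] (K : Subgroup G)
    (h : ∀ (p : ℕ) [Fact p.Prime], ∃ P : Sylow p G, (P : Subgroup G) ≤ K) : K = ⊤ := by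
  rw [← Subgroup.index_eq_one, Nat.eq_one_iff_not_exists_prime_dvd]
  intro p hp hdvd
  haveI : Fact p.Prime := ⟨hp⟩
  obtain ⟨P, hP⟩ := h p
  exact P.not_dvd_index (hdvd.trans (Subgroup.index_dvd_of_le hP))

theorem coprime_card_sylow {G : Type*} [Group G] [Finite G] {q r : ℕ} [hq : Fact q.Prime]
    [hr : Fact r.Prime] (hqr : q ≠ r) (Q : Sylow q G) (R : Sylow r G) :
    (Nat.card Q).Coprime (Nat.card R) := by
  obtain ⟨a, ha⟩ := Q.isPGroup'.exists_card_eq
  obtain ⟨b, hb⟩ := R.isPGroup'.exists_card_eq
  rw [ha, hb]
  exact Nat.Coprime.pow _ _ ((Nat.coprime_primes hq.out hr.out).mpr hqr)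

theorem exists_nonabelian_sylow {G : Type*} [Group G] [Finite G] (hG : Group.IsNilpotent G)
    (hna : ¬ IsMulCommutative G) :
    ∃ (p : ℕ) (_ : Fact p.Prime) (P : Sylow p G), ∃ x ∈ P, ∃ y ∈ P, x * y ≠ y * x := by
  by_contra hcon
  push Not at hcon
  apply hna
  have hZ : center G = ⊤ := by
    apply eq_top_of_sylow_le
    intro q _
    let Q : Sylow q G := default
    refine ⟨Q, fun g hg => ?_⟩
    have hC : centralizer ({g} : Set G) = ⊤ := by
      apply eq_top_of_sylow_le
      intro r _
      let R : Sylow r G := default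
      refine ⟨R, fun h hh => ?_⟩
      rw [Subgroup.mem_centralizer_singleton_iff]
      by_cases hqr : q = r
      · subst hqr
        have hle : (Q : Subgroup G) ≤ R := Q.isPGroup'.le_sylow_of_normal R
        exact hcon q inferInstance R h hh g (hle hg)
      · have hd : Disjoint (Q : Subgroup G) R :=
          Subgroup.disjoint_of_coprime_natCard (coprime_card_sylow hqr Q R)
        exact (Subgroup.commute_of_normal_of_disjoint _ _ inferInstance inferInstance hd g h
          hg hh).eq.symm
    rw [Subgroup.mem_center_iff]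
    intro h
    have : h ∈ centralizer ({g} : Set G) := by rw [hC]; trivial
    rw [Subgroup.mem_centralizer_singleton_iff] at this
    exact this
  refine ⟨⟨fun a b => ?_⟩⟩
  have : b ∈ center G := by rw [hZ]; trivial
  rw [Subgroup.mem_center_iff] at this
  exact this a

theorem mem_zpowers_of_commute {G : Type*} [Group G] [Finite G] (w a b : G)
    (hcyc : IsCyclic (centralizer ({w} : Set G))) (ha : a * w = w * a) (hb : b * w = w * b)
    (hab : orderOf a = orderOf b) : b ∈ zpowers a := by
  have haC : a ∈ centralizer ({w} : Set G) := by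
    rw [mem_centralizer_singleton_iff]; exact ha
  have hbC : b ∈ centralizer ({w} : Set G) := by
    rw [mem_centralizer_singleton_iff]; exact hb
  have key := mem_of_pow_card_eq_one_of_isCyclic (P := centralizer ({w} : Set G))
    (zpowers ⟨a, haC⟩) ⟨b, hbC⟩ ?_
  · rw [mem_zpowers_iff] at key ⊢
    obtain ⟨i, hi⟩ := key
    refine ⟨i, ?_⟩
    have := congrArg Subtype.val hi
    simpa using this
  · rw [Nat.card_zpowers]
    have : orderOf (⟨a, haC⟩ : centralizer ({w} : Set G)) = orderOf a := by
      rw [← Subgroup.orderOf_coe]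
    rw [this, hab]
    apply Subtype.ext
    simp [pow_orderOf_eq_one]

theorem sup_mulEquiv_prod {H : Type*} [Group H] (A B : Subgroup H)
    (hd : A ⊓ B = ⊥) (hc : ∀ a ∈ A, ∀ b ∈ B, a * b = b * a) :
    Nonempty ((A ⊔ B : Subgroup H) ≃* A × B) := by
  have comm : ∀ (a : A) (b : B), Commute (A.subtype a) (B.subtype b) := fun a b => hc a a.2 b b.2
  set f := MonoidHom.noncommCoprod A.subtype B.subtype comm with hf
  have hinj : Function.Injective f := by
    rw [MonoidHom.noncommCoprod_injective]
    refine ⟨A.subtype_injective, B.subtype_injective, ?_⟩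
    rw [Subgroup.range_subtype, Subgroup.range_subtype, disjoint_iff, hd]
  have hrange : f.range = A ⊔ B := by
    rw [hf, MonoidHom.noncommCoprod_range, Subgroup.range_subtype, Subgroup.range_subtype]
  exact ⟨((MonoidHom.ofInjective hinj).trans (MulEquiv.subgroupCongr hrange)).symm⟩

theorem forward {G : Type*} [Group G] [Finite G] (hG : Group.IsNilpotent G)
    (hna : ¬ IsMulCommutative G)
    (h : ∀ x : G, x ∉ center G → IsCyclic (centralizer ({x} : Set G))) :
    ∃ (k m : ℕ), 1 ≤ k ∧ Odd m ∧
      Nonempty (G ≃* QuaternionGroup (2 ^ k) × Multiplicative (ZMod m)) := by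
  obtain ⟨p, hp, P, x, hxP, y, hyP, hxy⟩ := exists_nonabelian_sylow hG hna
  haveI := hp
  set O := Cfsg.pPrimeCore p G with hO
  haveI hOn : O.Normal := pPrimeCore_normal p
  haveI hPn : (P : Subgroup G).Normal := inferInstance
  have hOc : (Nat.card O).Coprime p := card_pPrimeCore_coprime p
  obtain ⟨a, ha⟩ := P.isPGroup'.exists_card_eq
  have hdisj : (P : Subgroup G) ⊓ O = ⊥ := by
    rw [← disjoint_iff]
    exact Subgroup.disjoint_of_coprime_natCard (by rw [ha]; exact (Nat.Coprime.pow_left a hOc.symm))
  have hsup : (P : Subgroup G) ⊔ O = ⊤ := by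
    apply eq_top_of_sylow_le
    intro r _
    by_cases hrp : r = p
    · subst hrp; exact ⟨P, le_sup_left⟩
    · let R : Sylow r G := default
      have hRO : (R : Subgroup G) ≤ O := by
        apply le_pPrimeCore p (R : Subgroup G) inferInstance
        obtain ⟨b, hb⟩ := R.isPGroup'.exists_card_eq
        rw [hb]
        exact Nat.Coprime.pow_left b ((Nat.coprime_primes Fact.out Fact.out).mpr hrp)
      exact ⟨R, le_sup_of_le_right hRO⟩
  have hcomm : ∀ a ∈ (P : Subgroup G), ∀ b ∈ O, a * b = b * a := fun a ha b hb =>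
    (commute_of_normal_of_disjoint _ _ hPn hOn (disjoint_iff.mpr hdisj) a b ha hb).eq
  have hxZ : x ∉ center G := fun hx => hxy ((mem_center_iff.mp hx y).symm)
  have hCx := h x hxZ
  have hOcyc : IsCyclic O := by
    have : O ≤ centralizer ({x} : Set G) := fun b hb => by
      rw [mem_centralizer_singleton_iff]; exact (hcomm x hxP b hb).symm
    exact Subgroup.isCyclic_of_le this
  -- unique subgroup of order p
  have hu : UniqueOrderP p (P : Subgroup G) := by
    haveI hPnt : Nontrivial (P : Subgroup G) := by
      refine ⟨⟨⟨x, hxP⟩, ⟨y, hyP⟩, fun hh => hxy ?_⟩⟩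
      have := congrArg Subtype.val hh
      simp only at this
      rw [this]
    obtain ⟨z, hzo⟩ : ∃ z : center (P : Subgroup G), orderOf z = p := by
      haveI := P.isPGroup'.center_nontrivial
      have hZp : IsPGroup p (center (P : Subgroup G)) := P.isPGroup'.to_subgroup _
      obtain ⟨n, hn⟩ := hZp.exists_card_eq
      have hn0 : n ≠ 0 := by
        intro h0
        rw [h0, pow_zero] at hn
        have := Finite.one_lt_card (α := center (P : Subgroup G))
        omega
      apply exists_prime_orderOf_dvd_card' p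
      rw [hn]
      exact dvd_pow_self p hn0
    have key : ∀ a : (P : Subgroup G), ∃ w : (P : Subgroup G), (w : G) ∉ center G ∧ a * w = w * a := by
      intro a
      by_cases hac : a ∈ center (P : Subgroup G)
      · exact ⟨⟨x, hxP⟩, hxZ, (mem_center_iff.mp hac _).symm⟩
      · refine ⟨a, ?_, rfl⟩
        intro haZ
        apply hac
        rw [mem_center_iff]
        intro g
        apply Subtype.ext
        rw [Subgroup.coe_mul, Subgroup.coe_mul]
        exact mem_center_iff.mp haZ g
    have claim : ∀ a : (P : Subgroup G), orderOf a = p →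
        (z : (P : Subgroup G)) ∈ zpowers a ∧ a ∈ zpowers (z : (P : Subgroup G)) := by
      intro a hao
      obtain ⟨w, hwZ, haw⟩ := key a
      have hzw : (z : (P : Subgroup G)) * w = w * z := (mem_center_iff.mp z.2 w).symm
      have hcyc := h w hwZ
      have hzo' : orderOf (((z : (P : Subgroup G)) : G)) = p := by
        rw [Subgroup.orderOf_coe, Subgroup.orderOf_coe, hzo]
      have hao' : orderOf (a : G) = p := by rw [Subgroup.orderOf_coe, hao]
      have haw' : (a : G) * w = w * a := by
        have := congrArg Subtype.val haw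
        rwa [Subgroup.coe_mul, Subgroup.coe_mul] at this
      have hzw' : ((z : (P : Subgroup G)) : G) * w = w * (z : (P : Subgroup G)) := by
        have := congrArg Subtype.val hzw
        rwa [Subgroup.coe_mul, Subgroup.coe_mul] at this
      have h1 := mem_zpowers_of_commute (w : G) (a : G) ((z : (P : Subgroup G)) : G) hcyc haw' hzw'
        (by rw [hao', hzo'])
      have h2 := mem_zpowers_of_commute (w : G) ((z : (P : Subgroup G)) : G) (a : G) hcyc hzw' haw'
        (by rw [hao', hzo'])
      constructor
      · rw [mem_zpowers_iff] at h1 ⊢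
        obtain ⟨i, hi⟩ := h1
        exact ⟨i, Subtype.ext (by rw [Subgroup.coe_zpow]; exact hi)⟩
      · rw [mem_zpowers_iff] at h2 ⊢
        obtain ⟨i, hi⟩ := h2
        exact ⟨i, Subtype.ext (by rw [Subgroup.coe_zpow]; exact hi)⟩
    intro a b hao hbo
    have h1 := (claim a hao).1
    have h2 := (claim b hbo).2
    exact (zpowers_le.mpr h1) h2
  have hPnc : ¬ IsCyclic (P : Subgroup G) := by
    intro hc
    have h3 := (hc.isMulCommutative).is_comm.comm (⟨x, hxP⟩ : (P : Subgroup G)) ⟨y, hyP⟩
    apply hxy
    have := congrArg Subtype.val h3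
    rwa [Subgroup.coe_mul, Subgroup.coe_mul] at this
  have hp2 : p = 2 := by
    by_contra hp2
    have hodd : Odd p := hp.out.odd_of_ne_two hp2
    exact absurd (isCyclic_of_uniqueOrderP_odd hodd P.isPGroup' hu) hPnc
  subst hp2
  obtain ⟨k, hk1, ⟨e1⟩⟩ : ∃ k : ℕ, 1 ≤ k ∧ Nonempty ((P : Subgroup G) ≃* QuaternionGroup (2 ^ k)) := by
    rcases cyclic_or_quaternion_of_uniqueOrderP_two P.isPGroup' hu with h1 | ⟨n, ⟨e⟩⟩
    · exact absurd h1 hPnc
    · refine ⟨n, ?_, ⟨e⟩⟩
      by_contra hn
      have hn0 : n = 0 := by omega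
      subst hn0
      apply hPnc
      have := QuaternionGroup.quaternionGroup_one_isCyclic
      exact isCyclic_of_injective e.toMonoidHom e.injective
  refine ⟨k, Nat.card O, hk1, Nat.Coprime.odd_of_right hOc, ?_⟩
  obtain ⟨e3⟩ := sup_mulEquiv_prod (P : Subgroup G) O hdisj hcomm
  have e2 : Multiplicative (ZMod (Nat.card O)) ≃* O := zmodCyclicMulEquiv hOcyc
  exact ⟨(Subgroup.topEquiv.symm.trans (MulEquiv.subgroupCongr hsup.symm)).trans
    (e3.trans (MulEquiv.prodCongr e1 e2.symm))⟩
theorem zmod_add_self_eq_zero {n : ℕ} [NeZero n] (j : ZMod (2 * n)) (h : j + j = 0) :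
    j = 0 ∨ j = (n : ZMod (2 * n)) := by
  have hv := ZMod.val_lt j
  have h1 : ((j.val + j.val : ℕ) : ZMod (2 * n)) = 0 := by
    push_cast
    rw [ZMod.natCast_zmod_val]
    exact h
  rw [ZMod.natCast_eq_zero_iff] at h1
  obtain ⟨c, hc⟩ := h1
  have hn := NeZero.pos n
  have hc2 : c < 2 := by nlinarith
  interval_cases c
  · left
    rw [← ZMod.val_eq_zero]
    omega
  · right
    have : j.val = n := by omega
    rw [← ZMod.natCast_zmod_val j, this]

open QuaternionGroup in
theorem quat_centralizer_le {n : ℕ} [NeZero n] (q : QuaternionGroup n)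
    (hq : q ∉ center (QuaternionGroup n)) :
    ∃ u : QuaternionGroup n, centralizer ({q} : Set (QuaternionGroup n)) ≤ zpowers u ∧
      (orderOf u = 2 * n ∨ orderOf u = 4) := by
  have hnn : (n : ZMod (2 * n)) + n = 0 := by
    rw [← Nat.cast_add, ← two_mul, ZMod.natCast_self]
  cases q with
  | a i =>
    refine ⟨a 1, ?_, Or.inl orderOf_a_one⟩
    intro w hw
    rw [mem_centralizer_singleton_iff] at hw
    cases w with
    | a j =>
      rw [mem_zpowers_iff]
      refine ⟨(j.val : ℤ), ?_⟩
      rw [zpow_natCast, a_one_pow, ZMod.natCast_zmod_val]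
    | xa j =>
      exfalso
      apply hq
      rw [xa_mul_a, a_mul_xa] at hw
      have hii : i + i = 0 := by
        have := QuaternionGroup.xa.inj hw
        linear_combination this
      rw [mem_center_iff]
      intro g
      cases g with
      | a l => rw [a_mul_a, a_mul_a, add_comm]
      | xa l =>
        rw [xa_mul_a, a_mul_xa]
        congr 1
        linear_combination hii
  | xa i =>
    refine ⟨xa i, ?_, Or.inr (orderOf_xa i)⟩
    intro w hw
    rw [mem_centralizer_singleton_iff] at hw
    cases w with
    | a j =>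
      rw [a_mul_xa, xa_mul_a] at hw
      have hjj : j + j = 0 := by
        have := QuaternionGroup.xa.inj hw
        linear_combination -this
      rcases zmod_add_self_eq_zero j hjj with rfl | rfl
      · rw [a_zero]; exact one_mem _
      · rw [← xa_sq i]; exact pow_mem (mem_zpowers _) 2
    | xa j =>
      rw [xa_mul_xa, xa_mul_xa] at hw
      have hd : (j - i) + (j - i) = 0 := by
        have := QuaternionGroup.a.inj hw
        linear_combination -this
      rcases zmod_add_self_eq_zero (j - i) hd with h0 | h0
      · have : j = i := sub_eq_zero.mp h0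
        rw [this]; exact mem_zpowers _
      · have : xa j = (xa i) ^ 3 := by
          rw [pow_succ, xa_sq, a_mul_xa]
          congr 1
          linear_combination h0 + hnn
        rw [this]; exact pow_mem (mem_zpowers _) 3

theorem backward_aux {k m : ℕ} (hm : Odd m)
    (y : QuaternionGroup (2 ^ k) × Multiplicative (ZMod m))
    (hy : y ∉ center (QuaternionGroup (2 ^ k) × Multiplicative (ZMod m))) :
    IsCyclic (centralizer ({y} : Set (QuaternionGroup (2 ^ k) × Multiplicative (ZMod m)))) := by
  haveI : NeZero (2 ^ k) := ⟨by positivity⟩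
  obtain ⟨q, c⟩ := y
  have hq : q ∉ center (QuaternionGroup (2 ^ k)) := by
    intro hq
    apply hy
    rw [mem_center_iff] at hq ⊢
    rintro ⟨g, d⟩
    rw [Prod.mk_mul_mk, Prod.mk_mul_mk, hq g, mul_comm d c]
  obtain ⟨u, hu, huo⟩ := quat_centralizer_le q hq
  set K : Subgroup (QuaternionGroup (2 ^ k) × Multiplicative (ZMod m)) :=
    (zpowers u).prod ⊤ with hK
  have hle : centralizer {(q, c)} ≤ K := by
    rintro ⟨w1, w2⟩ hw
    rw [mem_centralizer_singleton_iff, Prod.mk_mul_mk, Prod.mk_mul_mk, Prod.mk.injEq] at hw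
    rw [hK, Subgroup.mem_prod]
    exact ⟨hu (by rw [mem_centralizer_singleton_iff]; exact hw.1), trivial⟩
  have hKc : IsCyclic K := by
    have hprod : IsCyclic ((zpowers u) × (⊤ : Subgroup (Multiplicative (ZMod m)))) := by
      rw [Group.isCyclic_prod_iff]
      refine ⟨inferInstance, inferInstance, ?_⟩
      have h1 : Nat.card (⊤ : Subgroup (Multiplicative (ZMod m))) = m := by
        rw [Subgroup.card_top, Nat.card_congr Multiplicative.toAdd, Nat.card_zmod]
      rw [Nat.card_zpowers, h1]
      rcases huo with h2 | h2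
      · rw [h2, ← pow_succ']
        exact Nat.Coprime.pow_left _ (Nat.coprime_two_left.mpr hm)
      · rw [h2]
        exact Nat.Coprime.pow_left 2 (Nat.coprime_two_left.mpr hm)
    have e0 : K ≃* (zpowers u) × (⊤ : Subgroup (Multiplicative (ZMod m))) :=
      Subgroup.prodEquiv (zpowers u) (⊤ : Subgroup (Multiplicative (ZMod m)))
    exact isCyclic_of_injective e0.toMonoidHom e0.injective
  exact Subgroup.isCyclic_of_le hle

theorem backward {G : Type*} [Group G] {k m : ℕ} (hm : Odd m)
    (e : G ≃* QuaternionGroup (2 ^ k) × Multiplicative (ZMod m)) (x : G)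
    (hx : x ∉ center G) : IsCyclic (centralizer ({x} : Set G)) := by
  have hex : e x ∉ center (QuaternionGroup (2 ^ k) × Multiplicative (ZMod m)) := by
    intro h
    apply hx
    rw [mem_center_iff] at h ⊢
    intro g
    apply e.injective
    rw [map_mul, map_mul]
    exact h (e g)
  haveI := backward_aux hm (e x) hex
  let f : centralizer ({x} : Set G) →*
      centralizer ({e x} : Set (QuaternionGroup (2 ^ k) × Multiplicative (ZMod m))) :=
    MonoidHom.codRestrict (e.toMonoidHom.comp (centralizer ({x} : Set G)).subtype) _ (by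
      intro g
      rw [mem_centralizer_singleton_iff]
      have := g.2
      rw [mem_centralizer_singleton_iff] at this
      simp only [MonoidHom.comp_apply, Subgroup.coe_subtype, MulEquiv.toMonoidHom_eq_coe,
        MonoidHom.coe_coe]
      rw [← map_mul, ← map_mul, this])
  apply isCyclic_of_injective f
  intro g1 g2 h12
  have := congrArg Subtype.val h12
  simp only [f, MonoidHom.codRestrict_apply, MonoidHom.comp_apply, Subgroup.coe_subtype,
    MulEquiv.toMonoidHom_eq_coe, MonoidHom.coe_coe] at this
  exact Subtype.ext (e.injective this)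

/-- Let G be a finite non-abelian nilpotent group. Then the centralizer of every non-central element of G is cyclic if and only if G is isomorphic to the direct product of a generalized quaternion group and a cyclic group of odd order. -/
theorem result {G : Type*} [Group G] [Finite G] (hG : Group.IsNilpotent G)
    (hna : ¬ IsMulCommutative G) :
    (∀ x : G, x ∉ Subgroup.center G → IsCyclic (Subgroup.centralizer ({x} : Set G))) ↔
      ∃ (k m : ℕ), 1 ≤ k ∧ Odd m ∧ Nonempty (G ≃* QuaternionGroup (2 ^ k) × Multiplicative (ZMod m)) := by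
  constructor
  · intro h
    exact forward hG hna h
  · rintro ⟨k, m, -, hm, ⟨e⟩⟩ x hx
    exact backward hm e x hx

end Cfsg.Agent.S4370
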