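import Mathlib
import Cfsg.Statements.S4378
import Cfsg.Agent.Lib.Helper5.MaxPNilp
import Cfsg.Agent.Lib.Helper1.SolvableBasic

set_option autoImplicit false
open Cfsg

namespace Cfsg.Agent.S4378

open Cfsg.Agent.Helper5.MaxPNilp in
/-- Let G be a finite solvable group in which every maximal subgroup either has a normal 2-complement or has prime index. Then G has a chain of normal subgroups 1 ≤ A ≤ B ≤ C ≤ G in which A and C/B have odd order and B/A and G/C are 2-groups (so the 2-length of G is at most 2). -/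
theorem result {G : Type*} [Group G] [Finite G]
    (hG : Group.IsSolvable G)
    (hmax : ∀ M : Subgroup G, IsCoatom M → (∃ K : Subgroup ↥M, K.Normal ∧ ¬ 2 ∣ Nat.card K ∧ ∃ k : ℕ, K.index = 2 ^ k) ∨ (M.index).Prime) :
    ∃ A B C : Subgroup G, A.Normal ∧ B.Normal ∧ C.Normal ∧ A ≤ B ∧ B ≤ C ∧ Odd (Nat.card A) ∧
      (∃ k : ℕ, A.relIndex B = 2 ^ k) ∧ Odd (B.relIndex C) ∧ ∃ k : ℕ, C.index = 2 ^ k := by
  haveI : Fact (Nat.Prime 2) := ⟨Nat.prime_two⟩
  have hM := maxHyp_of_stmt 2 hmax
  have h := main (p := 2) (fun H _ => Group.IsSolvable H)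
    (fun H _ _ N _ h => by
      haveI : Group.IsSolvable H := h
      infer_instance)
    (fun H _ _ h hnt => by
      haveI : Group.IsSolvable H := h
      haveI := hnt
      obtain ⟨q, hq, P, hPn, hP0, hPq⟩ := Cfsg.Agent.Helper1.exists_normal_pSubgroup_of_solvable H
      refine ⟨P, hPn, hP0, ?_⟩
      by_cases hq2 : q = 2
      · left
        rw [← hq2]
        exact hPq
      · right
        haveI : Fact q.Prime := ⟨hq⟩
        obtain ⟨k, hk⟩ := IsPGroup.iff_card.mp hPq
        rw [hk]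
        intro hdvd
        have := Nat.Prime.dvd_of_dvd_pow Nat.prime_two hdvd
        exact hq2 ((Nat.prime_dvd_prime_iff_eq Nat.prime_two hq).mp this).symm)
    (Nat.card G) G rfl hG hM
  obtain ⟨A, B, C, D, hA, hB, hC, hD, -, hAB, hBC, hCD, hpA, hpB, hpC, hpD, hpG, h2⟩ := h
  have hDtop : D = ⊤ := h2 rfl
  subst hDtop
  refine ⟨A, B, C, hA, hB, hC, hAB, hBC, ?_, hpB, ?_, ?_⟩
  · rw [Subgroup.relIndex_bot_left] at hpA
    rw [← Nat.not_even_iff_odd, even_iff_two_dvd]
    exact hpA
  · rw [← Nat.not_even_iff_odd, even_iff_two_dvd]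
    exact hpC
  · rwa [Subgroup.relIndex_top_right] at hpD

end Cfsg.Agent.S4378
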