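import Mathlib
import Cfsg.Statements.S4379
import Cfsg.Agent.Lib.Helper5.MaxPNilp
import Cfsg.Agent.Lib.Helper23.PSolvable

set_option autoImplicit false
open Cfsg

namespace Cfsg.Agent.S4379

theorem exists_normal_of_isPSolvable {p : ℕ} [hp : Fact p.Prime] (H : Type*) [Group H]
    [Finite H] (h : Cfsg.IsPSolvable p H) (hnt : Nontrivial H) :
    ∃ L : Subgroup H, L.Normal ∧ L ≠ ⊥ ∧ (IsPGroup p L ∨ ¬ p ∣ Nat.card L) := by
  obtain ⟨n, Hc, h0, hn, hmono, hnorm, hfac⟩ := h
  have key : ∀ i : Fin (n + 1), Hc i ≠ ⊥ →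
      ∃ L : Subgroup H, L.Normal ∧ L ≠ ⊥ ∧ (IsPGroup p L ∨ ¬ p ∣ Nat.card L) := by
    intro i
    induction i using Fin.induction with
    | zero => intro h; exact absurd h0 h
    | succ i ih =>
      intro hne
      by_cases hb : Hc i.castSucc = ⊥
      · refine ⟨Hc i.succ, hnorm _, hne, ?_⟩
        have hf := hfac i
        rw [hb, Subgroup.relIndex_bot_left] at hf
        rcases hf with ⟨m, hm⟩ | hc
        · left
          exact IsPGroup.of_card hm
        · right
          exact (Nat.Prime.coprime_iff_not_dvd hp.out).mp hc.symm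
      · exact ih hb
  apply key (Fin.last n)
  rw [hn]
  exact top_ne_bot

open Cfsg.Agent.Helper5.MaxPNilp in
/-- Let p be an odd prime and G a finite p-solvable group in which every maximal subgroup either has a normal p-complement or has prime index. Then G has a chain of normal subgroups 1 ≤ A ≤ B ≤ C ≤ D ≤ G in which A, C/B and G/D have order prime to p and B/A and D/C are p-groups (so the p-length of G is at most 2). -/
theorem result {G : Type*} [Group G] [Finite G]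
    (p : ℕ) [Fact p.Prime] (hp : p ≠ 2) (hG : Cfsg.IsPSolvable p G)
    (hmax : ∀ M : Subgroup G, IsCoatom M → (∃ K : Subgroup ↥M, K.Normal ∧ ¬ p ∣ Nat.card K ∧ ∃ k : ℕ, K.index = p ^ k) ∨ (M.index).Prime) :
    ∃ A B C D : Subgroup G, A.Normal ∧ B.Normal ∧ C.Normal ∧ D.Normal ∧ A ≤ B ∧ B ≤ C ∧ C ≤ D ∧ ¬ p ∣ Nat.card A ∧
      (∃ k : ℕ, A.relIndex B = p ^ k) ∧ ¬ p ∣ B.relIndex C ∧ (∃ k : ℕ, C.relIndex D = p ^ k) ∧ ¬ p ∣ D.index := by
  have hM := maxHyp_of_stmt p hmax
  have h := main (p := p) (fun H _ => Cfsg.IsPSolvable p H)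
    (fun H _ _ N _ h => Cfsg.Agent.Helper23.PSolv.isPSolvable_quotient N h)
    (fun H _ _ h hnt => exists_normal_of_isPSolvable H h hnt)
    (Nat.card G) G rfl hG hM
  obtain ⟨A, B, C, D, hA, hB, hC, hD, -, hAB, hBC, hCD, hpA, hpB, hpC, hpD, hpG, -⟩ := h
  rw [Subgroup.relIndex_bot_left] at hpA
  exact ⟨A, B, C, D, hA, hB, hC, hD, hAB, hBC, hCD, hpA, hpB, hpC, hpD, hpG⟩

end Cfsg.Agent.S4379
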