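import Mathlib
import Cfsg.Agent.Lib.Helper1.CoprimeSylow
import Cfsg.Agent.Lib.Helper15.AmbMaschke
import Cfsg.Agent.Lib.Helper21.PGroupFrattini
import Cfsg.Statements.S4381
-- import your own Cfsg.Agent.* helpers here

set_option autoImplicit false
open Pointwise
open Cfsg

namespace Cfsg.Agent.S4381

open SemidirectProduct

section defs

variable (A : Type*) {G : Type*} [Group A] [Group G] [MulDistribMulAction A G]

/-- invariant subgroups -/
def Inv (L : Subgroup G) : Prop := ∀ a : A, ∀ x ∈ L, a • x ∈ L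

/-- maximal invariant subgroups -/
def IsMaxInv (M : Subgroup G) : Prop :=
  M ≠ ⊤ ∧ (∀ a : A, ∀ x ∈ M, a • x ∈ M) ∧
    ∀ L : Subgroup G, M < L → (∀ a : A, ∀ x ∈ L, a • x ∈ L) → L = ⊤

theorem inv_bot : Inv A (⊥ : Subgroup G) := by
  intro a x hx
  rw [Subgroup.mem_bot] at hx ⊢
  rw [hx, smul_one]

theorem inv_top : Inv A (⊤ : Subgroup G) := fun _ _ _ => Subgroup.mem_top _

variable {A}

theorem Inv.sup {L₁ L₂ : Subgroup G} (h₁ : Inv A L₁) (h₂ : Inv A L₂) : Inv A (L₁ ⊔ L₂) := by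
  intro a x hx
  have hle : L₁ ⊔ L₂ ≤ (L₁ ⊔ L₂).comap (MulDistribMulAction.toMonoidHom G a) := by
    refine sup_le ?_ ?_
    · intro y hy
      rw [Subgroup.mem_comap]
      exact (le_sup_left : L₁ ≤ L₁ ⊔ L₂) (h₁ a y hy)
    · intro y hy
      rw [Subgroup.mem_comap]
      exact (le_sup_right : L₂ ≤ L₁ ⊔ L₂) (h₂ a y hy)
  exact hle hx

variable (A)

theorem inv_frattini : Inv A (frattini G) := by
  intro a x hx
  have h := (Subgroup.characteristic_iff_map_le.mp
    (inferInstance : (frattini G).Characteristic)) (MulDistribMulAction.toMulAut A G a)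
  exact h ⟨x, hx, rfl⟩

variable {A}

theorem exists_isMaxInv_ge [Finite G] {L : Subgroup G} (hL : Inv A L) (hne : L ≠ ⊤) :
    ∃ M, IsMaxInv A M ∧ L ≤ M := by
  obtain ⟨M, hM, hmax⟩ := (Set.toFinite {M : Subgroup G | Inv A M ∧ M ≠ ⊤ ∧ L ≤ M}).exists_maximal
    ⟨L, hL, hne, le_rfl⟩
  refine ⟨M, ⟨hM.2.1, hM.1, fun L' hL' hinv => ?_⟩, hM.2.2⟩
  by_contra hne'
  exact absurd (hmax ⟨hinv, hne', hM.2.2.trans hL'.le⟩ hL'.le) (not_le_of_gt hL')

theorem frattini_le_of_isMaxInv [Finite G] {M : Subgroup G} (hM : IsMaxInv A M) :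
    frattini G ≤ M := by
  have h1 : M ⊔ frattini G ≠ ⊤ := fun h => hM.1 (frattini_nongenerating h)
  by_contra hle
  have h2 : M < M ⊔ frattini G := by
    refine lt_of_le_of_ne le_sup_left fun h => hle ?_
    rw [h]; exact le_sup_right
  exact h1 (hM.2.2 _ h2 (Inv.sup hM.2.1 (inv_frattini A)))

theorem eq_frattini_of_isMaxInv [Finite G]
    (h2 : ∀ L : Subgroup G, frattini G < L → (∀ a : A, ∀ x ∈ L, a • x ∈ L) → L = ⊤)
    {M : Subgroup G} (hM : IsMaxInv A M) : M = frattini G := by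
  by_contra hne
  exact hM.1 (h2 M (lt_of_le_of_ne (frattini_le_of_isMaxInv hM) (Ne.symm hne)) hM.2.1)

theorem isMaxInv_frattini
    (h2 : ∀ L : Subgroup G, frattini G < L → (∀ a : A, ∀ x ∈ L, a • x ∈ L) → L = ⊤)
    (hne : frattini G ≠ ⊤) : IsMaxInv A (frattini G) :=
  ⟨hne, inv_frattini A, h2⟩

end defs

section semidirect

variable (A : Type*) {G : Type*} [Group A] [Group G] [MulDistribMulAction A G]

theorem inr_conj (a : A) (x : G) :
    ((inr a : G ⋊[MulDistribMulAction.toMulAut A G] A) * inl x * (inr a)⁻¹) = inl (a • x) := by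
  rw [← map_inv, ← inl_aut]; rfl

/-- image of a subgroup in the semidirect product -/
def hat (L : Subgroup G) : Subgroup (G ⋊[MulDistribMulAction.toMulAut A G] A) := L.map inl

/-- image of the acting group -/
def Ah : Subgroup (G ⋊[MulDistribMulAction.toMulAut A G] A) := (inr : A →* _).range

variable {A}

theorem Ah_le_normalizer_hat {L : Subgroup G} (hL : Inv A L) :
    Ah A ≤ Subgroup.normalizer (hat A L : Set (G ⋊[MulDistribMulAction.toMulAut A G] A)) := by
  rintro _ ⟨a, rfl⟩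
  rw [Subgroup.mem_normalizer_iff]
  intro n
  constructor
  · rintro ⟨x, hx, rfl⟩
    exact ⟨a • x, hL a x hx, (inr_conj A a x).symm⟩
  · rintro ⟨y, hy, h⟩
    refine ⟨a⁻¹ • y, hL a⁻¹ y hy, ?_⟩
    rw [← inr_conj, h, map_inv]; group

theorem inv_comap {W : Subgroup (G ⋊[MulDistribMulAction.toMulAut A G] A)}
    (h : Ah A ≤ Subgroup.normalizer (W : Set (G ⋊[MulDistribMulAction.toMulAut A G] A))) :
    Inv A (W.comap inl) := by
  intro a x hx
  rw [Subgroup.mem_comap] at hx ⊢
  rw [← inr_conj]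
  exact (Subgroup.mem_normalizer_iff.mp (h ⟨a, rfl⟩) _).mp hx

theorem hat_top_le_normalizer_hat {L : Subgroup G} (hL : L.Normal) :
    hat A (⊤ : Subgroup G) ≤
      Subgroup.normalizer (hat A L : Set (G ⋊[MulDistribMulAction.toMulAut A G] A)) := by
  rintro _ ⟨g, -, rfl⟩
  rw [Subgroup.mem_normalizer_iff]
  intro n
  constructor
  · rintro ⟨x, hx, rfl⟩
    exact ⟨g * x * g⁻¹, hL.conj_mem x hx g, by simp⟩
  · rintro ⟨y, hy, h⟩
    refine ⟨g⁻¹ * y * g, ?_, ?_⟩
    · have := hL.conj_mem y hy g⁻¹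
      simpa using this
    · rw [map_mul, map_mul, h, map_inv]; group

instance finite_sd [Finite A] [Finite G] : Finite (G ⋊[MulDistribMulAction.toMulAut A G] A) :=
  Finite.of_equiv _ equivProd.symm

theorem card_Ah : Nat.card (Ah A (G := G)) = Nat.card A :=
  (Nat.card_congr (MonoidHom.ofInjective (inr_injective
    (φ := MulDistribMulAction.toMulAut A G))).toEquiv).symm

theorem card_hat (L : Subgroup G) : Nat.card (hat A L) = Nat.card L :=
  Subgroup.card_map_of_injective inl_injective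

theorem exists_inv_sylow [Finite A] [Finite G] (hcop : (Nat.card A).Coprime (Nat.card G))
    (hsol : Group.IsSolvable A ∨ Group.IsSolvable G) (p : ℕ) [Fact p.Prime] :
    ∃ Q : Subgroup G, Inv A Q ∧ Nat.card Q = p ^ (Nat.card G).factorization p := by
  have hAK : Ah A ≤ Subgroup.normalizer
      (hat A (⊤ : Subgroup G) : Set (G ⋊[MulDistribMulAction.toMulAut A G] A)) :=
    Ah_le_normalizer_hat (inv_top A)
  have hcK : Nat.card (hat A (⊤ : Subgroup G)) = Nat.card G := by
    rw [card_hat, Subgroup.card_top]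
  have hcop' : (Nat.card (Ah A (G := G))).Coprime (Nat.card (hat A (⊤ : Subgroup G))) := by
    rw [card_Ah, hcK]; exact hcop
  have hsol' : Group.IsSolvable (Ah A (G := G)) ∨ Group.IsSolvable (hat A (⊤ : Subgroup G)) := by
    rcases hsol with h | h
    · left
      exact Group.isSolvable_of_isSolvable_injective
        (f := (MonoidHom.ofInjective (inr_injective
          (φ := MulDistribMulAction.toMulAut A G))).symm.toMonoidHom)
        (MulEquiv.injective _)
    · right
      have e : G ≃* hat A (⊤ : Subgroup G) :=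
        (Subgroup.topEquiv (G := G)).symm.trans
          ((⊤ : Subgroup G).equivMapOfInjective inl inl_injective)
      exact Group.isSolvable_of_isSolvable_injective (f := e.symm.toMonoidHom)
        (MulEquiv.injective _)
  obtain ⟨P', hP'⟩ := Cfsg.Agent.Helper1.exists_invariant_sylow (p := p) (Ah A) hAK hcop' hsol'
  refine ⟨(((P' : Subgroup (hat A (⊤ : Subgroup G))).map
    (hat A (⊤ : Subgroup G)).subtype).comap inl), inv_comap hP', ?_⟩
  have h1 : ((((P' : Subgroup (hat A (⊤ : Subgroup G))).map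
      (hat A (⊤ : Subgroup G)).subtype).comap inl).map inl) =
      (P' : Subgroup (hat A (⊤ : Subgroup G))).map (hat A (⊤ : Subgroup G)).subtype := by
    apply Subgroup.map_comap_eq_self
    refine (Subgroup.map_subtype_le _).trans ?_
    rintro _ ⟨g, -, rfl⟩
    exact ⟨g, rfl⟩
  have h2 := Subgroup.card_map_of_injective (inl_injective (φ := MulDistribMulAction.toMulAut A G))
    (K := (((P' : Subgroup (hat A (⊤ : Subgroup G))).map
      (hat A (⊤ : Subgroup G)).subtype).comap inl))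
  rw [← h2, h1, Subgroup.card_map_of_injective (Subgroup.subtype_injective _),
    Sylow.card_eq_multiplicity, hcK]

end semidirect

section main

variable {A G : Type*} [Group A] [Group G] [MulDistribMulAction A G] [Finite A] [Finite G]

omit [Finite G] in
theorem card_conj_smul (c : G) (M : Subgroup G) :
    Nat.card (MulAut.conj c • M : Subgroup G) = Nat.card M :=
  (Nat.card_congr (Subgroup.equivSMul (MulAut.conj c) M).toEquiv).symm

theorem isPGroup_of_conj (hcop : (Nat.card A).Coprime (Nat.card G))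
    (hsol : Group.IsSolvable A ∨ Group.IsSolvable G)
    (h : ∀ M N : Subgroup G, IsMaxInv A M → IsMaxInv A N →
      ∃ c : G, (∀ a : A, a • c = c) ∧ N = MulAut.conj c • M) :
    ∃ p : ℕ, p.Prime ∧ IsPGroup p G := by
  by_contra hno
  have hnt : (⊥ : Subgroup G) ≠ ⊤ := by
    intro hbt
    apply hno
    refine ⟨2, Nat.prime_two, IsPGroup.of_card (n := 0) ?_⟩
    rw [← Subgroup.card_top (G := G), ← hbt, Subgroup.card_bot, pow_zero]
  obtain ⟨M₀, hM₀, -⟩ := exists_isMaxInv_ge (inv_bot A) hnt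
  have hdvd : Nat.card G ∣ Nat.card M₀ := by
    rw [← Nat.factorization_prime_le_iff_dvd Nat.card_pos.ne' Nat.card_pos.ne']
    intro p hp
    haveI : Fact p.Prime := ⟨hp⟩
    rw [← hp.pow_dvd_iff_le_factorization Nat.card_pos.ne']
    obtain ⟨Q, hQinv, hQcard⟩ := exists_inv_sylow hcop hsol p
    have hQne : Q ≠ ⊤ := by
      intro hQ
      apply hno
      refine ⟨p, hp, IsPGroup.of_card (n := (Nat.card G).factorization p) ?_⟩
      rw [← hQcard, hQ, Subgroup.card_top]
    obtain ⟨Mp, hMp, hQM⟩ := exists_isMaxInv_ge hQinv hQne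
    obtain ⟨c, -, hc⟩ := h M₀ Mp hM₀ hMp
    rw [← hQcard, ← card_conj_smul c M₀, ← hc]
    exact Subgroup.card_dvd_of_le hQM
  have hcard : Nat.card M₀ = Nat.card G :=
    Nat.dvd_antisymm (Subgroup.card_subgroup_dvd_card M₀) hdvd
  exact hM₀.1 (Subgroup.eq_top_of_card_eq M₀ hcard)

theorem frattini_max (hcop : (Nat.card A).Coprime (Nat.card G)) {p : ℕ} [hp : Fact p.Prime]
    (hG : IsPGroup p G)
    (h : ∀ M N : Subgroup G, IsMaxInv A M → IsMaxInv A N →
      ∃ c : G, (∀ a : A, a • c = c) ∧ N = MulAut.conj c • M) :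
    ∀ L : Subgroup G, frattini G < L → (∀ a : A, ∀ x ∈ L, a • x ∈ L) → L = ⊤ := by
  intro L hL hLinv
  by_contra hLne
  obtain ⟨M, hM, hLM⟩ := exists_isMaxInv_ge (A := A) hLinv hLne
  have hΦM : frattini G ≤ M := hL.le.trans hLM
  have hΦne : frattini G ≠ M := fun h' => absurd hLM (h' ▸ not_le_of_gt hL)
  have hMn : M.Normal := by
    refine ⟨fun m hm g => ?_⟩
    have h1 : g * m * g⁻¹ * m⁻¹ ∈ M :=
      hΦM (Cfsg.Agent.Helper21.commutator_mem_frattini_of_isPGroup hG g m)
    have := M.mul_mem h1 hm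
    simpa using this
  have huniq : ∀ N : Subgroup G, IsMaxInv A N → N = M := by
    intro N hN
    obtain ⟨c, -, hc⟩ := h M N hM hN
    rw [hc, Subgroup.Normal.conj_smul_eq_self]
  -- coprimality with p
  have hpdvd : p ∣ Nat.card G := by
    obtain ⟨n, hn⟩ := hG.exists_card_eq
    rcases Nat.eq_zero_or_pos n with h0 | hpos
    · exfalso
      rw [h0, pow_zero] at hn
      haveI : Subsingleton G := (Nat.card_eq_one_iff_unique.mp hn).1
      exact hLne (Subsingleton.elim _ _)
    · rw [hn]; exact dvd_pow_self p hpos.ne'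
  have hco : (Nat.card (Ah A (G := G))).Coprime p := by
    rw [card_Ah]; exact Nat.Coprime.coprime_dvd_right hpdvd hcop
  obtain ⟨W, hDW, hWY, hTW, hinf, hsup⟩ := Cfsg.Agent.Helper15.AmbMaschke.amb_maschke
    (T := Ah A) (D := hat A (frattini G)) (M := hat A M) (Y := hat A (⊤ : Subgroup G))
    (r := p) (Subgroup.map_mono hΦM) (Subgroup.map_mono le_top)
    (Ah_le_normalizer_hat (inv_frattini A)) (Ah_le_normalizer_hat hM.2.1)
    (Ah_le_normalizer_hat (inv_top A)) (hat_top_le_normalizer_hat inferInstance) (by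
      rw [Subgroup.commutator_le]
      rintro _ ⟨g₁, -, rfl⟩ _ ⟨g₂, -, rfl⟩
      refine ⟨g₁ * g₂ * g₁⁻¹ * g₂⁻¹,
        Cfsg.Agent.Helper21.commutator_mem_frattini_of_isPGroup hG g₁ g₂, ?_⟩
      simp [commutatorElement_def]) (by
      rintro _ ⟨g, -, rfl⟩
      exact ⟨g ^ p, Cfsg.Agent.Helper21.pow_mem_frattini_of_isPGroup hG g, by simp⟩) hco
  have hW₀inv : Inv A (W.comap inl) := inv_comap hTW
  have hW₀ne : W.comap (inl : G →* G ⋊[MulDistribMulAction.toMulAut A G] A) ≠ ⊤ := by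
    intro htop
    have hYW : hat A (⊤ : Subgroup G) ≤ W := by
      rintro _ ⟨g, -, rfl⟩
      have : g ∈ W.comap (inl : G →* G ⋊[MulDistribMulAction.toMulAut A G] A) := by
        rw [htop]; exact Subgroup.mem_top g
      exact this
    have hWeq : W = hat A (⊤ : Subgroup G) := le_antisymm hWY hYW
    have hMY : hat A M ⊓ hat A (⊤ : Subgroup G) = hat A M :=
      inf_eq_left.mpr (Subgroup.map_mono le_top)
    rw [hWeq, hMY] at hinf
    exact hΦne (Subgroup.map_injective inl_injective hinf).symm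
  obtain ⟨N, hN, hWN⟩ := exists_isMaxInv_ge hW₀inv hW₀ne
  rw [huniq N hN] at hWN
  have hWM : W ≤ hat A M := by
    intro w hw
    obtain ⟨g, -, rfl⟩ := hWY hw
    exact ⟨g, hWN hw, rfl⟩
  rw [sup_eq_left.mpr hWM] at hsup
  exact hM.1 (Subgroup.map_injective inl_injective hsup)

end main


/-- Let the finite group A act by automorphisms on the finite group G with the orders of A and G coprime, and assume that A or G is solvable. Call a proper A-invariant subgroup of G maximal A-invariant when no A-invariant subgroup lies strictly between it and G. Then all maximal A-invariant subgroups of G are conjugate under elements of the fixed-point subgroup C_G(A) if and only if G is a p-group for some prime p and A leaves invariant no subgroup strictly between the Frattini subgroup of G and G. In that case, if G is nontrivial, the Frattini subgroup is the only maximal A-invariant subgroup (a trivial G has none). -/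
theorem result {A G : Type*} [Group A] [Finite A]
    [Group G] [Finite G] [MulDistribMulAction A G] (hcop : (Nat.card A).Coprime (Nat.card G)) (hsol : Group.IsSolvable A ∨ Group.IsSolvable G) :
    ((∀ M N : Subgroup G, (M ≠ ⊤ ∧ (∀ a : A, ∀ x ∈ M, a • x ∈ M) ∧ ∀ L : Subgroup G, M < L → (∀ a : A, ∀ x ∈ L, a • x ∈ L) → L = ⊤) → (N ≠ ⊤ ∧ (∀ a : A, ∀ x ∈ N, a • x ∈ N) ∧ ∀ L : Subgroup G, N < L → (∀ a : A, ∀ x ∈ L, a • x ∈ L) → L = ⊤) →
        ∃ c : G, (∀ a : A, a • c = c) ∧ N = MulAut.conj c • M) ↔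
      ((∃ p : ℕ, p.Prime ∧ IsPGroup p G) ∧ ∀ L : Subgroup G, frattini G < L → (∀ a : A, ∀ x ∈ L, a • x ∈ L) → L = ⊤)) ∧
    (((∃ p : ℕ, p.Prime ∧ IsPGroup p G) ∧ ∀ L : Subgroup G, frattini G < L → (∀ a : A, ∀ x ∈ L, a • x ∈ L) → L = ⊤) →
      ∀ M : Subgroup G, (M ≠ ⊤ ∧ (∀ a : A, ∀ x ∈ M, a • x ∈ M) ∧ ∀ L : Subgroup G, M < L → (∀ a : A, ∀ x ∈ L, a • x ∈ L) → L = ⊤) ↔ (M = frattini G ∧ M ≠ ⊤)) := by
  have key : ((∃ p : ℕ, p.Prime ∧ IsPGroup p G) ∧ ∀ L : Subgroup G, frattini G < L →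
      (∀ a : A, ∀ x ∈ L, a • x ∈ L) → L = ⊤) →
      ∀ M : Subgroup G, IsMaxInv A M ↔ (M = frattini G ∧ M ≠ ⊤) := by
    rintro ⟨-, h2⟩ M
    constructor
    · intro hM
      exact ⟨eq_frattini_of_isMaxInv h2 hM, hM.1⟩
    · rintro ⟨rfl, hne⟩
      exact isMaxInv_frattini h2 hne
  refine ⟨⟨fun h => ?_, fun h M N hM hN => ?_⟩, key⟩
  · obtain ⟨p, hp, hG⟩ := isPGroup_of_conj hcop hsol h
    haveI : Fact p.Prime := ⟨hp⟩
    exact ⟨⟨p, hp, hG⟩, frattini_max hcop hG h⟩
  · refine ⟨1, fun a => smul_one a, ?_⟩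
    rw [map_one, one_smul, ((key h M).mp hM).1, ((key h N).mp hN).1]

end Cfsg.Agent.S4381
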