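import Cfsg.Statements.S4383
import Cfsg.Agent.Lib.Helper22.TwoMaxSimple
import Cfsg.Agent.Lib.Helper27.TwoMaxKEY
import Cfsg.Agent.Lib.Helper27.TwoMaxREL
import Cfsg.Agent.Lib.Helper4.TwoMaxB2
import Cfsg.Agent.Lib.Helper18.TwoMaxPGRP
import Cfsg.Agent.Lib.Helper18.TwoMaxQUOT
import Cfsg.Agent.Lib.Helper18.TwoMaxB1

set_option autoImplicit false
open Pointwise
open Cfsg

namespace Cfsg.Agent.S4383

open Cfsg.Agent.Helper22.TwoMax

universe u

theorem not_simple {G : Type*} [Group G] [Finite G] {M₁ M₂ : Subgroup G} (h : TwoCls M₁ M₂)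
    (hs : ∀ N : Subgroup G, N.Normal → N = ⊥ ∨ N = ⊤) : False := by
  have half : ∀ A B : Subgroup G, TwoCls A B → B.index ∣ A.index - 1 := by
    intro A B hAB
    have hcop := coprime_index hAB hs
    have hkey : ∀ r : ℕ, r.Prime → r ∣ B.index → ∀ Y : Subgroup G, IsPGroup r Y → Y ≠ ⊥ →
        (∀ g : G, ¬ Y ≤ MulAut.conj g • B) → ∀ L L' : Subgroup G, IsCoatom L → IsCoatom L' →
        Y ≤ L → Y ≤ L' → L = L' := by
      intro r hr hd Y hY hY1 hY2 L L' hL hL' hYL hYL'
      have : Fact r.Prime := ⟨hr⟩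
      exact unique_coatom_of_pgroup hAB hs hcop hd Y hY hY1 hY2 L L' hL hL' hYL hYL'
    exact index_dvd_pred_of hAB hs
      (fun g hg => index_dvd_relIndex hAB (card_inf_conj hAB hs) hkey g hg)
  have hd12 := half M₁ M₂ h
  have hd21 := half M₂ M₁ h.symm
  have h1 : M₁.index ≠ 1 := by
    rw [Ne, Subgroup.index_eq_one]; exact h.h1.1
  have h2 : M₂.index ≠ 1 := by
    rw [Ne, Subgroup.index_eq_one]; exact h.h2.1
  have h10 : M₁.index ≠ 0 := Subgroup.index_ne_zero_of_finite
  have h20 : M₂.index ≠ 0 := Subgroup.index_ne_zero_of_finite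
  have := Nat.le_of_dvd (by omega) hd12
  have := Nat.le_of_dvd (by omega) hd21
  omega

theorem main_aux : ∀ (n : ℕ) (G : Type u) [Group G] [Finite G], Nat.card G = n →
    ∀ M₁ M₂ : Subgroup G, TwoCls M₁ M₂ →
      Group.IsSolvable G ∧ (Nat.card G).primeFactors.card = 2 := by
  intro n
  induction n using Nat.strong_induction_on with
  | _ n ih =>
    intro G _ _ hn M₁ M₂ h
    classical
    by_cases hs : ∀ N : Subgroup G, N.Normal → N = ⊥ ∨ N = ⊤
    · exact (not_simple h hs).elim
    · push Not at hs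
      obtain ⟨N₀, hN₀n, hN₀b, hN₀t⟩ := hs
      have hex : ∃ k, ∃ N : Subgroup G, N.Normal ∧ N ≠ ⊥ ∧ N ≠ ⊤ ∧ Nat.card N = k :=
        ⟨_, N₀, hN₀n, hN₀b, hN₀t, rfl⟩
      obtain ⟨N, hNn, hNbot, hNtop, hNcard⟩ := Nat.find_spec hex
      have hmin : ∀ K : Subgroup G, K.Normal → K ≤ N → K = ⊥ ∨ K = N := by
        intro K hKn hKN
        by_cases hKb : K = ⊥
        · left; exact hKb
        · right
          have hKt : K ≠ ⊤ := fun e => hNtop (top_le_iff.1 (e ▸ hKN))
          have hle : Nat.find hex ≤ Nat.card K := Nat.find_min' hex ⟨K, hKn, hKb, hKt, rfl⟩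
          exact Subgroup.eq_of_le_of_card_ge hKN (by rw [hNcard]; exact hle)
      rcases eq_top_or_exists_le_coatom N with h0 | ⟨L, hL, hNL⟩
      · exact absurd h0 hNtop
      have := hNn
      have hpg : ∀ p : ℕ, p.Prime → ¬ IsPGroup p G := by
        intro p hp hpG
        have : Fact p.Prime := ⟨hp⟩
        exact not_pgroup h p hpG
      have aux : ∀ A B : Subgroup G, TwoCls A B → N ≤ A →
          Group.IsSolvable G ∧ (Nat.card G).primeFactors.card = 2 := by
        intro A B hAB hNA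
        by_cases hNB : N ≤ B
        · have hq := twoCls_quot hAB N hNA hNB
          have hlt : Nat.card (G ⧸ N) < n := by
            have h1 : Nat.card G = Nat.card (G ⧸ N) * Nat.card N :=
              Subgroup.card_eq_card_quotient_mul_card_subgroup N
            have h2 : 1 < Nat.card N := (Subgroup.one_lt_card_iff_ne_bot N).2 hNbot
            have h3 : 0 < Nat.card (G ⧸ N) := Nat.card_pos
            rw [← hn, h1]
            nlinarith
          exact caseB1 hAB N hNbot hmin hNA hNB (ih _ hlt (G ⧸ N) rfl _ _ hq)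
        · have hpgAB : ∀ p : ℕ, p.Prime → ¬ IsPGroup p G := hpg
          exact caseB2 hAB hpgAB N hNbot hmin hNA hNB
      rcases h.normal_le N hL hNL with h1 | h2
      · exact aux M₁ M₂ h h1
      · exact aux M₂ M₁ h.symm h2

/-- A finite group with exactly two conjugacy classes of maximal subgroups is solvable and its order has exactly two prime divisors. -/
theorem result {G : Type*} [Group G] [Finite G]
    (M₁ M₂ : Subgroup G) (h1 : IsCoatom M₁) (h2 : IsCoatom M₂) (hne : ∀ g : G, M₂ ≠ MulAut.conj g • M₁)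
    (hall : ∀ M : Subgroup G, IsCoatom M → ∃ g : G, M = MulAut.conj g • M₁ ∨ M = MulAut.conj g • M₂) :
    Group.IsSolvable G ∧ (Nat.card G).primeFactors.card = 2 := by
  exact main_aux (Nat.card G) G rfl M₁ M₂ ⟨h1, h2, hne, hall⟩

end Cfsg.Agent.S4383
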