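import Cfsg.Statements.S4387
-- import your own Cfsg.Agent.* helpers here

set_option autoImplicit false
open Pointwise
open Cfsg

namespace Cfsg.Agent.S4387

theorem mem_conj_smul_iff {G : Type*} [Group G] (H : Subgroup G) (g x : G) :
    x ∈ MulAut.conj g • H ↔ g⁻¹ * x * g ∈ H := by
  rw [Subgroup.mem_pointwise_smul_iff_inv_smul_mem]
  simp [MulAut.smul_def]

/-- A finite group is not the union of the conjugates of a proper subgroup. -/
theorem exists_not_mem_conj {G : Type*} [Group G] [Finite G] (H : Subgroup G) (hH : H ≠ ⊤) :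
    ∃ x : G, ∀ g : G, x ∉ MulAut.conj g • H := by
  classical
  by_contra hcon
  push Not at hcon
  have := Fintype.ofFinite G
  have : Fintype (G ⧸ H) := Fintype.ofFinite _
  have : Fintype (Quotient (MulAction.orbitRel G (G ⧸ H))) := Fintype.ofFinite _
  have hburn := MulAction.sum_card_fixedBy_eq_card_orbits_mul_card_group G (G ⧸ H)
  have hsub : Subsingleton (MulAction.orbitRel.Quotient G (G ⧸ H)) :=
    (MulAction.pretransitive_iff_subsingleton_quotient G (G ⧸ H)).1 inferInstance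
  have hΩ : Fintype.card (Quotient (MulAction.orbitRel G (G ⧸ H))) ≤ 1 :=
    Fintype.card_le_one_iff_subsingleton.2 hsub
  have h1 : ∀ x : G, 1 ≤ Fintype.card (MulAction.fixedBy (G ⧸ H) x) := by
    intro x
    obtain ⟨g, hg⟩ := hcon x
    rw [mem_conj_smul_iff] at hg
    apply Fintype.card_pos_iff.2
    refine ⟨⟨(g : G ⧸ H), ?_⟩⟩
    rw [MulAction.mem_fixedBy]
    show ((x * g : G) : G ⧸ H) = g
    rw [QuotientGroup.eq]
    have := H.inv_mem hg
    convert this using 1
    group
  have h2 : 1 < Fintype.card (MulAction.fixedBy (G ⧸ H) (1 : G)) := by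
    have e : Fintype.card (MulAction.fixedBy (G ⧸ H) (1 : G)) = Fintype.card (G ⧸ H) := by
      apply Fintype.card_congr
      exact Equiv.subtypeUnivEquiv (fun q => by simp)
    rw [e, ← Nat.card_eq_fintype_card]
    have hidx : H.index ≠ 1 := fun h => hH (Subgroup.index_eq_one.1 h)
    have hidx0 : H.index ≠ 0 := Subgroup.index_ne_zero_of_finite
    show 1 < H.index
    omega
  have hlt : ∑ _g : G, 1 < ∑ g : G, Fintype.card (MulAction.fixedBy (G ⧸ H) g) :=
    Finset.sum_lt_sum (fun g _ => h1 g) ⟨1, Finset.mem_univ _, h2⟩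
  rw [hburn] at hlt
  simp only [Finset.sum_const, Finset.card_univ, smul_eq_mul, mul_one] at hlt
  have : Fintype.card (Quotient (MulAction.orbitRel G (G ⧸ H))) * Fintype.card G ≤ 1 * Fintype.card G :=
    Nat.mul_le_mul_right _ hΩ
  omega


/-- Let G be a non-trivial finite group in which any two maximal subgroups are conjugate. Then G is cyclic of prime-power order. -/
theorem result {G : Type*} [Group G] [Finite G] [Nontrivial G]
    (h : ∀ M N : Subgroup G, IsCoatom M → IsCoatom N → ∃ g : G, N = MulAut.conj g • M) :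
    IsCyclic G ∧ IsPrimePow (Nat.card G) := by
  classical
  -- existence of a coatom
  obtain ⟨M, hM⟩ : ∃ M : Subgroup G, IsCoatom M := by
    rcases eq_top_or_exists_le_coatom (⊥ : Subgroup G) with h0 | ⟨M, hM, _⟩
    · exact absurd h0 bot_ne_top
    · exact ⟨M, hM⟩
  -- G is cyclic
  obtain ⟨x, hx⟩ := exists_not_mem_conj M hM.1
  have hxtop : Subgroup.zpowers x = ⊤ := by
    rcases eq_top_or_exists_le_coatom (Subgroup.zpowers x) with h0 | ⟨N, hN, hxN⟩
    · exact h0
    · obtain ⟨g, hg⟩ := h M N hM hN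
      exact absurd (hg ▸ hxN (Subgroup.mem_zpowers x)) (hx g)
  have hgen : ∀ y : G, y ∈ Subgroup.zpowers x := fun y => hxtop ▸ Subgroup.mem_top y
  have hcyc : IsCyclic G := ⟨⟨x, hgen⟩⟩
  refine ⟨hcyc, ?_⟩
  have hcomm : ∀ a b : G, a * b = b * a := by
    intro a b
    obtain ⟨i, rfl⟩ := Subgroup.mem_zpowers_iff.1 (hgen a)
    obtain ⟨j, rfl⟩ := Subgroup.mem_zpowers_iff.1 (hgen b)
    rw [← zpow_add, ← zpow_add, add_comm]
  -- unique coatom
  have huniq : ∀ N : Subgroup G, IsCoatom N → N = M := by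
    intro N hN
    obtain ⟨g, hg⟩ := h M N hM hN
    rw [hg]
    ext y
    rw [mem_conj_smul_iff]
    have : g⁻¹ * y * g = y := by rw [hcomm g⁻¹ y, mul_assoc, inv_mul_cancel, mul_one]
    rw [this]
  have hord : orderOf x = Nat.card G := orderOf_eq_card_of_forall_mem_zpowers hgen
  -- for each prime p dividing the order, x^p ∈ M
  have hpM : ∀ p : ℕ, p.Prime → p ∣ Nat.card G → x ^ p ∈ M := by
    intro p hp hpd
    rcases eq_top_or_exists_le_coatom (Subgroup.zpowers (x ^ p)) with h0 | ⟨N, hN, hxN⟩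
    · exfalso
      have hxm : x ∈ Subgroup.zpowers (x ^ p) := h0 ▸ Subgroup.mem_top x
      obtain ⟨k, hk⟩ := Subgroup.mem_zpowers_iff.1 hxm
      have h3 : x ^ ((p : ℤ) * k - 1) = 1 := by
        rw [zpow_sub, zpow_mul, zpow_natCast, hk, zpow_one, mul_inv_cancel]
      have h4 : (orderOf x : ℤ) ∣ (p : ℤ) * k - 1 := orderOf_dvd_iff_zpow_eq_one.2 h3
      rw [hord] at h4
      have h5 : (p : ℤ) ∣ (p : ℤ) * k - 1 := dvd_trans (Int.natCast_dvd_natCast.2 hpd) h4
      have h6 : (p : ℤ) ∣ 1 := by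
        have := dvd_sub (dvd_mul_right (p : ℤ) k) h5
        simpa using this
      have h7 : p ∣ 1 := by exact_mod_cast h6
      exact hp.one_lt.ne' (Nat.dvd_one.1 h7)
    · rw [← huniq N hN]
      exact hxN (Subgroup.mem_zpowers _)
  rw [isPrimePow_iff_unique_prime_dvd]
  have hcard1 : Nat.card G ≠ 1 := by
    intro h1
    have := (Nat.card_eq_one_iff_unique.1 h1).1
    exact not_subsingleton G this
  obtain ⟨p, hp, hpd⟩ := Nat.exists_prime_and_dvd hcard1
  refine ⟨p, ⟨hp, hpd⟩, ?_⟩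
  rintro q ⟨hq, hqd⟩
  by_contra hne
  have hcop : Nat.Coprime p q := (Nat.coprime_primes hp hq).2 (fun h => hne h.symm)
  have hx1 : x ∈ M := by
    have hb : (p : ℤ) * Nat.gcdA p q + (q : ℤ) * Nat.gcdB p q = 1 := by
      have := Nat.gcd_eq_gcd_ab p q
      rw [hcop] at this
      simpa using this.symm
    have hx' : x = (x ^ p) ^ (Nat.gcdA p q) * (x ^ q) ^ (Nat.gcdB p q) := by
      rw [← zpow_natCast, ← zpow_natCast, ← zpow_mul, ← zpow_mul, ← zpow_add, hb, zpow_one]
    rw [hx']
    exact M.mul_mem (M.zpow_mem (hpM p hp hpd) _) (M.zpow_mem (hpM q hq hqd) _)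
  apply hM.1
  rw [eq_top_iff, ← hxtop]
  exact (Subgroup.zpowers_le).2 hx1

end Cfsg.Agent.S4387
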