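import Cfsg.Statements.S4394
import Cfsg.Agent.S0635
import Cfsg.Agent.Lib.Helper19.PLength
import Cfsg.Agent.Lib.Helper22.SchPLAsm

set_option autoImplicit false
open Cfsg

namespace Cfsg.Agent.S4394

open Cfsg.Agent.Helper22.SchPL

theorem core_aux {p : ℕ} [Fact p.Prime] (G : Type*) [Group G] [Finite G]
    (hG : IsPSolvable p G) (hO : pPrimeCore p G = ⊥)
    (Q : Sylow p G) (hse : SEData p ↥(Q : Subgroup G))
    (hmin : ∀ H : Subgroup G, (Q : Subgroup G) ≤ H → H ≠ ⊤ →
      H ≤ Subgroup.normalizer ((Q : Subgroup G) : Set G)) : (Q : Subgroup G).Normal :=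
  sylow_normal_core hG hO Q _ (SEData.toSESub (Q : Subgroup G) hse) hmin

/-- Let X be a finite minimal non-nilpotent group (not nilpotent, every proper subgroup nilpotent) with a nontrivial normal Sylow p-subgroup P. If G is a finite p-solvable group whose Sylow p-subgroups are isomorphic to P, then G has p-length at most 1. -/
theorem result {G X : Type*} [Group G] [Finite G] [Group X] [Finite X] (p : ℕ) [Fact p.Prime]
    (hX : Cfsg.IsMinimalNonNilpotent X) (P : Sylow p X) (hPn : (P : Subgroup X).Normal) (hP1 : (P : Subgroup X) ≠ ⊥)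
    (hG : Cfsg.IsPSolvable p G) (Q : Sylow p G) (hQ : Nonempty (↥(Q : Subgroup G) ≃* ↥(P : Subgroup X))) : Cfsg.PLengthLE p 1 G := by
  obtain ⟨q, α, hα⟩ := exists_schAct p hX P hPn hP1
  obtain ⟨e⟩ := hQ
  rcases hα.seData P.2 with hab | hse
  · -- abelian case
    have hQab : ∀ a b : ↥(Q : Subgroup G), a * b = b * a := by
      intro a b
      apply e.injective
      rw [map_mul, map_mul]
      exact hab _ _
    have h1 := Cfsg.Agent.S0635.result hG Q
    have hcl : Group.nilpotencyClass ↥(Q : Subgroup G) ≤ 1 := by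
      have hnil : Group.IsNilpotent ↥(Q : Subgroup G) := Q.2.isNilpotent
      rw [Group.IsNilpotent.nilpotencyClass_le_one_iff]
      exact ⟨⟨fun a b => hQab a b⟩⟩
    exact Cfsg.Agent.Helper19.PLen.plengthLE_mono hcl h1
  · have hseQ : SEData p ↥(Q : Subgroup G) := SEData.of_mulEquiv e.symm hse
    exact plength_main p (fun G _ _ hG hO Q hse hmin => core_aux G hG hO Q hse hmin)
      (fun A B _ _ e h => SEData.of_mulEquiv e h) (Nat.card G) G rfl hG Q hseQ

end Cfsg.Agent.S4394
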