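import Mathlib
import Cfsg.Agent.Lib.Helper22.FrobFreeG
import Cfsg.Statements.S4396
-- import your own Cfsg.Agent.* helpers here

set_option autoImplicit false
open Cfsg

namespace Cfsg.Agent.S4396

open scoped Pointwise in
theorem fpf_of_frobenius {A : Type*} [Group A] (Fk Hc : Subgroup A) [Fk.Normal]
    (hHc : Cfsg.IsFrobeniusComplement Hc) (hker : Cfsg.frobeniusKernel Hc = (Fk : Set A)) :
    ∀ h : Hc, h ≠ 1 → ∀ f : Fk, MulAut.conjNormal (h : A) f = f → f = 1 := by
  intro h hh f hf
  by_contra hf1
  have hfA : (h : A) * f * (h : A)⁻¹ = f := by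
    have := congrArg Subtype.val hf
    rwa [MulAut.conjNormal_apply] at this
  have hfker : (f : A) ∈ Cfsg.frobeniusKernel Hc := by
    rw [hker]
    exact f.2
  rcases hfker with h1 | h2
  · exact hf1 (Subtype.ext h1)
  · have hfH : (f : A) ∉ Hc := by
      intro hmem
      apply h2 1
      rw [map_one, one_smul]
      exact hmem
    have hbot := hHc.2.2 (f : A) hfH
    have hmem : (h : A) ∈ Hc ⊓ (MulAut.conj (f : A) • Hc) := by
      refine ⟨h.2, ?_⟩
      have h3 : MulAut.conj (f : A) • (h : A) = (h : A) := by
        show (f : A) * h * (f : A)⁻¹ = h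
        calc (f : A) * h * (f : A)⁻¹ = ((h : A) * f * (h : A)⁻¹) * h * (f : A)⁻¹ := by rw [hfA]
          _ = h := by group
      rw [← h3]
      exact Subgroup.smul_mem_pointwise_smul _ _ _ h.2
    rw [hbot, Subgroup.mem_bot] at hmem
    exact hh (Subtype.ext hmem)


/-- Let the finite group A act faithfully and linearly on a finite-dimensional vector space V over a field k, and suppose A is a Frobenius group with nilpotent kernel F (every Frobenius kernel is nilpotent) and complement H such that F fixes no nonzero vector. Then V is free as a module for H: there is a subspace W with V the direct sum of the translates hW, h ∈ H. (No assumption on the characteristic of k.) -/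
theorem result {k V A : Type*} [Field k] [AddCommGroup V] [Module k V] [FiniteDimensional k V] [Group A] [Finite A] [DecidableEq A]
    (ρ : Representation k A V) (hρ : Function.Injective ρ)
    (Fk Hc : Subgroup A) [Fk.Normal] (hHc : Cfsg.IsFrobeniusComplement Hc) (hker : Cfsg.frobeniusKernel Hc = (Fk : Set A)) (hnil : Group.IsNilpotent ↥Fk)
    (hCF : ∀ v : V, (∀ f ∈ Fk, ρ f v = v) → v = 0) :
    ∃ W : Submodule k V, DirectSum.IsInternal (fun h : ↥Hc => W.map (ρ (h : A))) := by
  classical
  have hfpf := fpf_of_frobenius Fk Hc hHc hker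
  let D : Cfsg.Agent.Helper22.FrobFree.FrobData k V Fk Hc :=
    { α := (ρ : A →* Module.End k V).comp Fk.subtype
      β := (ρ : A →* Module.End k V).comp Hc.subtype
      c := fun h => MulAut.conjNormal (h : A)
      compat := by
        intro h f
        show ρ (h : A) * ρ (f : A) = ρ ((MulAut.conjNormal (h : A) f : Fk) : A) * ρ (h : A)
        rw [MulAut.conjNormal_apply, ← map_mul, ← map_mul]
        congr 1
        group
      fpf := hfpf
      nofix := fun v hv => hCF v (fun f hf => hv ⟨f, hf⟩) }
  haveI := hnil
  obtain ⟨W, hind, hsup⟩ := Cfsg.Agent.Helper22.FrobFree.main D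
  refine ⟨W, ?_⟩
  rw [DirectSum.isInternal_submodule_iff_iSupIndep_and_iSup_eq_top]
  exact ⟨hind, hsup⟩

end Cfsg.Agent.S4396
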