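import Mathlib
import Cfsg.Agent.Lib.Helper19.PGroupBasic
import Cfsg.Agent.Lib.Helper23.PGroup
import Cfsg.Agent.Lib.Helper22.MetacyclicCrit
import Cfsg.Agent.Lib.Helper22.ClassTwo
import Cfsg.Statements.S4400
-- import your own Cfsg.Agent.* helpers here

set_option autoImplicit false
open Cfsg

namespace Cfsg.Agent.S4400

open scoped commutatorElement

section
variable {S : Type*} [Group S] [Finite S]

theorem card_mul_relIndex {K L : Subgroup S} (h : K ≤ L) :
    Nat.card K * K.relIndex L = Nat.card L := by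
  have := Subgroup.relIndex_mul_relIndex (H := ⊥) (K := K) (L := L) bot_le h
  rwa [Subgroup.relIndex_bot_left, Subgroup.relIndex_bot_left] at this

theorem card_sup_of_inf_eq_bot (P Q : Subgroup S) [Q.Normal] (h : P ⊓ Q = ⊥) :
    Nat.card (P ⊔ Q : Subgroup S) = Nat.card P * Nat.card Q := by
  have h1 := card_mul_relIndex (le_sup_right : Q ≤ P ⊔ Q)
  rw [Subgroup.relIndex_sup_right, ← Subgroup.inf_relIndex_right, inf_comm, h,
    Subgroup.relIndex_bot_left] at h1
  rw [← h1, mul_comm]

theorem center_map_eq_zpowers (P : Subgroup S) (hZP : Nat.card (Subgroup.center P) = 2) (z : S)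
    (hzP : z ∈ P) (hz1 : z ≠ 1) (hzc : ∀ x ∈ P, x * z = z * x) :
    (Subgroup.center P).map P.subtype = Subgroup.zpowers z := by
  symm
  apply Subgroup.eq_of_le_of_card_ge
  · rw [Subgroup.zpowers_le]
    refine ⟨⟨z, hzP⟩, ?_, rfl⟩
    rw [SetLike.mem_coe, Subgroup.mem_center_iff]
    intro g
    apply Subtype.ext
    exact hzc g g.2
  · rw [Subgroup.card_map_of_injective P.subtype_injective, hZP, Nat.card_zpowers]
    have h1 := orderOf_pos z
    have h2 : orderOf z ≠ 1 := by rwa [Ne, orderOf_eq_one_iff]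
    omega

theorem exists_sq_mem (h2 : IsPGroup 2 S) (C K : Subgroup S) (h : ¬ C ≤ K) :
    ∃ c ∈ C, c ∉ K ∧ c ^ 2 ∈ K := by
  classical
  obtain ⟨c0, hc0C, hc0K⟩ := SetLike.not_le_iff_exists.mp h
  obtain ⟨k, hk⟩ := h2 c0
  have hex : ∃ j, c0 ^ 2 ^ j ∈ K := ⟨k, by rw [hk]; exact K.one_mem⟩
  have hjspec := Nat.find_spec hex
  have hj0 : Nat.find hex ≠ 0 := by
    intro h0
    rw [h0, pow_zero, pow_one] at hjspec
    exact hc0K hjspec
  obtain ⟨i, hi⟩ := Nat.exists_eq_succ_of_ne_zero hj0
  refine ⟨c0 ^ 2 ^ i, C.pow_mem hc0C _, ?_, ?_⟩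
  · exact Nat.find_min hex (by omega)
  · rw [← pow_mul, ← pow_succ, ← Nat.succ_eq_add_one, ← hi]
    exact hjspec

/-- the centre of a nonabelian `2`-group with centre of order two lies in its Frattini subgroup -/
theorem center_le_frattini (P : Type*) [Group P] [Finite P] (hP2 : IsPGroup 2 P)
    (hnc : ¬ IsMulCommutative P) (hZ : Nat.card (Subgroup.center P) = 2) :
    Subgroup.center P ≤ frattini P := by
  have : Fact (Nat.Prime 2) := ⟨Nat.prime_two⟩
  have hcne : commutator P ≠ ⊥ := by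
    intro h
    apply hnc
    constructor
    constructor
    intro a b
    have : ⁅a, b⁆ ∈ commutator P := Subgroup.commutator_mem_commutator (Subgroup.mem_top a) (Subgroup.mem_top b)
    rw [h, Subgroup.mem_bot, commutatorElement_eq_one_iff_mul_comm] at this
    exact this
  have h1 := Cfsg.Agent.Helper19.normal_inf_center_ne_bot hP2 (commutator P) hcne
  obtain ⟨z, hz1⟩ := (Subgroup.ne_bot_iff_exists_ne_one).mp h1
  have hzmem := z.2
  rw [Subgroup.mem_inf] at hzmem
  have hz1' : (z : P) ≠ 1 := fun h => hz1 (Subtype.ext h)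
  have heq : Subgroup.center P = Subgroup.zpowers (z : P) := by
    symm
    apply Subgroup.eq_of_le_of_card_ge
    · rw [Subgroup.zpowers_le]; exact hzmem.2
    · rw [hZ, Nat.card_zpowers]
      have h1 := orderOf_pos (z : P)
      have h2 : orderOf (z : P) ≠ 1 := by rwa [Ne, orderOf_eq_one_iff]
      omega
  rw [heq, Subgroup.zpowers_le]
  exact Cfsg.Agent.Helper23.commutator_le_frattini_pgroup 2 hP2 hzmem.1

end

/-- Let S be a finite 2-group of sectional 2-rank at most 4, and let P and Q be normal non-abelian subgroups of S whose centres have order 2 and are different. Then P and Q commute elementwise and intersect trivially, and PQ contains its own centralizer in S. -/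
theorem result {S : Type*} [Group S] [Finite S] (h2 : IsPGroup 2 S) (hr : Cfsg.SectionalPRankLE 2 4 S)
    (P Q : Subgroup S) [P.Normal] [Q.Normal] (hP : ¬ IsMulCommutative ↥P) (hQ : ¬ IsMulCommutative ↥Q)
    (hZP : Nat.card ↥(Subgroup.center ↥P) = 2) (hZQ : Nat.card ↥(Subgroup.center ↥Q) = 2)
    (hne : (Subgroup.center ↥P).map P.subtype ≠ (Subgroup.center ↥Q).map Q.subtype) :
    ⁅P, Q⁆ = ⊥ ∧ P ⊓ Q = ⊥ ∧ Subgroup.centralizer ((P ⊔ Q : Subgroup S) : Set S) ≤ P ⊔ Q := by
  classical
  have hfact : Fact (Nat.Prime 2) := ⟨Nat.prime_two⟩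
  -- P ⊓ Q = ⊥
  have hinf : P ⊓ Q = ⊥ := by
    by_contra hne'
    have h1 := Cfsg.Agent.Helper19.normal_inf_center_ne_bot h2 (P ⊓ Q) hne'
    obtain ⟨z, hz1⟩ := (Subgroup.ne_bot_iff_exists_ne_one).mp h1
    have hzmem := z.2
    rw [Subgroup.mem_inf, Subgroup.mem_inf] at hzmem
    have hz1' : (z : S) ≠ 1 := fun h => hz1 (Subtype.ext h)
    have hzc : ∀ x : S, x * (z : S) = z * x := fun x => (Subgroup.mem_center_iff.mp hzmem.2 x)
    apply hne
    rw [center_map_eq_zpowers P hZP z hzmem.1.1 hz1' (fun x _ => hzc x),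
      center_map_eq_zpowers Q hZQ z hzmem.1.2 hz1' (fun x _ => hzc x)]
  have hcomm : ⁅P, Q⁆ = ⊥ := by
    rw [eq_bot_iff, ← hinf]
    exact Subgroup.commutator_le_inf P Q
  refine ⟨hcomm, hinf, ?_⟩
  have hPQc : ∀ x ∈ P, ∀ y ∈ Q, x * y = y * x := by
    intro x hx y hy
    have : ⁅x, y⁆ ∈ ⁅P, Q⁆ := Subgroup.commutator_mem_commutator hx hy
    rw [hcomm, Subgroup.mem_bot, commutatorElement_eq_one_iff_mul_comm] at this
    exact this
  by_contra hnot
  obtain ⟨c, hcC, hcK, hc2⟩ := exists_sq_mem h2 _ _ hnot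
  have hcc : ∀ w ∈ P ⊔ Q, w * c = c * w := fun w hw => Subgroup.mem_centralizer_iff.mp hcC w hw
  have hP2 : IsPGroup 2 ↥P := h2.to_subgroup P
  have hQ2 : IsPGroup 2 ↥Q := h2.to_subgroup Q
  set ΦP : Subgroup S := (frattini ↥P).map P.subtype with hΦP
  set ΦQ : Subgroup S := (frattini ↥Q).map Q.subtype with hΦQ
  have hΦPn : ΦP.Normal := inferInstance
  have hΦQn : ΦQ.Normal := inferInstance
  set N' : Subgroup S := ΦP ⊔ ΦQ with hN'
  have hN'n : N'.Normal := inferInstance
  -- squares and commutators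
  have hsqP : ∀ x ∈ P, x ^ 2 ∈ N' := by
    intro x hx
    apply Subgroup.mem_sup_left
    exact ⟨⟨x, hx⟩ ^ 2, Cfsg.Agent.Helper22.pow_prime_mem_frattini hP2 ⟨x, hx⟩, rfl⟩
  have hsqQ : ∀ x ∈ Q, x ^ 2 ∈ N' := by
    intro x hx
    apply Subgroup.mem_sup_right
    exact ⟨⟨x, hx⟩ ^ 2, Cfsg.Agent.Helper22.pow_prime_mem_frattini hQ2 ⟨x, hx⟩, rfl⟩
  have hcoP : ∀ x ∈ P, ∀ x' ∈ P, ⁅x, x'⁆ ∈ N' := by
    intro x hx x' hx'
    apply Subgroup.mem_sup_left
    refine ⟨⁅(⟨x, hx⟩ : ↥P), (⟨x', hx'⟩ : ↥P)⁆, ?_, rfl⟩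
    apply Cfsg.Agent.Helper23.commutator_le_frattini_pgroup 2 hP2
    exact Subgroup.commutator_mem_commutator (Subgroup.mem_top _) (Subgroup.mem_top _)
  have hcoQ : ∀ x ∈ Q, ∀ x' ∈ Q, ⁅x, x'⁆ ∈ N' := by
    intro x hx x' hx'
    apply Subgroup.mem_sup_right
    refine ⟨⁅(⟨x, hx⟩ : ↥Q), (⟨x', hx'⟩ : ↥Q)⁆, ?_, rfl⟩
    apply Cfsg.Agent.Helper23.commutator_le_frattini_pgroup 2 hQ2
    exact Subgroup.commutator_mem_commutator (Subgroup.mem_top _) (Subgroup.mem_top _)
  -- c ^ 2 ∈ N'
  have hc2N : c ^ 2 ∈ N' := by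
    obtain ⟨x, hx, y, hy, hxy⟩ := Subgroup.mem_sup_of_normal_right.mp hc2
    have hc2C : ∀ w ∈ P ⊔ Q, w * c ^ 2 = c ^ 2 * w := by
      intro w hw
      have := hcc w hw
      rw [pow_two, ← mul_assoc, this, mul_assoc, this, ← mul_assoc]
    have hxZ : (⟨x, hx⟩ : ↥P) ∈ Subgroup.center ↥P := by
      rw [Subgroup.mem_center_iff]
      intro g
      apply Subtype.ext
      have h1 := hc2C g (Subgroup.mem_sup_left g.2)
      rw [← hxy] at h1
      have h3 := hPQc g g.2 y hy
      show (g : S) * x = x * g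
      have : (g : S) * x * y = x * g * y := by
        calc (g : S) * x * y = g * (x * y) := by group
          _ = x * y * g := h1
          _ = x * (y * g) := by group
          _ = x * (g * y) := by rw [h3]
          _ = x * g * y := by group
      exact mul_right_cancel this
    have hyZ : (⟨y, hy⟩ : ↥Q) ∈ Subgroup.center ↥Q := by
      rw [Subgroup.mem_center_iff]
      intro g
      apply Subtype.ext
      have h1 := hc2C g (Subgroup.mem_sup_right g.2)
      rw [← hxy] at h1
      have h3 := hPQc x hx g g.2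
      show (g : S) * y = y * g
      have : x * ((g : S) * y) = x * (y * g) := by
        calc x * ((g : S) * y) = (x * g) * y := by group
          _ = (g * x) * y := by rw [h3]
          _ = g * (x * y) := by group
          _ = x * y * g := h1
          _ = x * (y * g) := by group
      exact mul_left_cancel this
    rw [← hxy]
    apply N'.mul_mem
    · apply Subgroup.mem_sup_left
      exact ⟨⟨x, hx⟩, center_le_frattini ↥P hP2 hP hZP hxZ, rfl⟩
    · apply Subgroup.mem_sup_right
      exact ⟨⟨y, hy⟩, center_le_frattini ↥Q hQ2 hQ hZQ hyZ, rfl⟩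
  -- the subgroup H
  set H : Subgroup S := Subgroup.zpowers c ⊔ (P ⊔ Q) with hH
  have hPQH : P ⊔ Q ≤ H := le_sup_right
  have hcH : c ∈ H := Subgroup.mem_sup_left (Subgroup.mem_zpowers c)
  have hlt : P ⊔ Q < H := lt_of_le_of_ne hPQH (fun h => hcK (h ▸ hcH))
  have hN'PQ : N' ≤ P ⊔ Q := by
    apply sup_le_sup
    · exact Subgroup.map_subtype_le _
    · exact Subgroup.map_subtype_le _
  have hN'H : N' ≤ H := hN'PQ.trans hPQH
  -- cardinalities
  have hcard1 : 2 * Nat.card (P ⊔ Q : Subgroup S) ≤ Nat.card H :=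
    Cfsg.Agent.Helper22.mul_card_le_card_of_lt h2 hlt
  have hcard2 : Nat.card (P ⊔ Q : Subgroup S) = Nat.card P * Nat.card Q :=
    card_sup_of_inf_eq_bot P Q hinf
  have hncP : ¬ IsCyclic ↥P := fun h => hP inferInstance
  have hncQ : ¬ IsCyclic ↥Q := fun h => hQ inferInstance
  have hcard3 : 2 ^ 2 * Nat.card (frattini ↥P) ≤ Nat.card ↥P :=
    Cfsg.Agent.Helper22.sq_mul_card_frattini_le hP2 hncP
  have hcard4 : 2 ^ 2 * Nat.card (frattini ↥Q) ≤ Nat.card ↥Q :=
    Cfsg.Agent.Helper22.sq_mul_card_frattini_le hQ2 hncQ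
  have hcard5 : Nat.card N' ≤ Nat.card (frattini ↥P) * Nat.card (frattini ↥Q) := by
    have hdis : ΦP ⊓ ΦQ = ⊥ := by
      rw [eq_bot_iff, ← hinf]
      exact inf_le_inf (Subgroup.map_subtype_le _) (Subgroup.map_subtype_le _)
    rw [hN', card_sup_of_inf_eq_bot ΦP ΦQ hdis, hΦP, hΦQ,
      Subgroup.card_map_of_injective P.subtype_injective,
      Subgroup.card_map_of_injective Q.subtype_injective]
  have hcard6 : Nat.card N' * N'.relIndex H = Nat.card H := card_mul_relIndex hN'H
  have hN'pos : 0 < Nat.card N' := Nat.card_pos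
  have hidx : 32 ≤ N'.relIndex H := by
    by_contra hlt32
    push Not at hlt32
    have h7 : Nat.card H ≤ Nat.card N' * 31 := by
      rw [← hcard6]
      exact Nat.mul_le_mul_left _ (by omega)
    have h8 : 32 * Nat.card N' ≤ Nat.card H := by
      calc 32 * Nat.card N' ≤ 32 * (Nat.card (frattini ↥P) * Nat.card (frattini ↥Q)) :=
            Nat.mul_le_mul_left _ hcard5
        _ = 2 * ((2 ^ 2 * Nat.card (frattini ↥P)) * (2 ^ 2 * Nat.card (frattini ↥Q))) := by ring
        _ ≤ 2 * (Nat.card ↥P * Nat.card ↥Q) :=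
            Nat.mul_le_mul_left _ (Nat.mul_le_mul hcard3 hcard4)
        _ = 2 * Nat.card (P ⊔ Q : Subgroup S) := by rw [hcard2]
        _ ≤ Nat.card H := hcard1
    omega
  -- the quotient S ⧸ N' and the image of H
  let π : S →* S ⧸ N' := QuotientGroup.mk' N'
  have hπ1 : ∀ s : S, π s = 1 ↔ s ∈ N' := fun s => QuotientGroup.eq_one_iff s
  let gens : Set S := {c} ∪ ((P : Set S) ∪ (Q : Set S))
  have hHgens : H = Subgroup.closure gens := by
    rw [hH, Subgroup.closure_union, Subgroup.closure_union, Subgroup.closure_eq, Subgroup.closure_eq,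
      Subgroup.zpowers_eq_closure]
  have hcommπ : ∀ a b : S, ⁅a, b⁆ ∈ N' → π a * π b = π b * π a := by
    intro a b hab
    have : π ⁅a, b⁆ = 1 := (hπ1 _).mpr hab
    rw [map_commutatorElement, commutatorElement_eq_one_iff_mul_comm] at this
    exact this
  have hcommeq : ∀ a b : S, a * b = b * a → π a * π b = π b * π a := by
    intro a b hab
    rw [← map_mul, ← map_mul, hab]
  have hgc : ∀ a ∈ gens, ∀ b ∈ gens, π a * π b = π b * π a := by
    intro a ha b hb
    rcases ha with ha | ha | ha <;> rcases hb with hb | hb | hb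
    · rw [Set.mem_singleton_iff] at ha hb
      rw [ha, hb]
    · rw [Set.mem_singleton_iff] at ha
      rw [ha]
      exact (hcommeq b c (hcc b (Subgroup.mem_sup_left hb))).symm
    · rw [Set.mem_singleton_iff] at ha
      rw [ha]
      exact (hcommeq b c (hcc b (Subgroup.mem_sup_right hb))).symm
    · rw [Set.mem_singleton_iff] at hb
      rw [hb]
      exact hcommeq a c (hcc a (Subgroup.mem_sup_left ha))
    · exact hcommπ a b (hcoP a ha b hb)
    · exact hcommeq a b (hPQc a ha b hb)
    · rw [Set.mem_singleton_iff] at hb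
      rw [hb]
      exact hcommeq a c (hcc a (Subgroup.mem_sup_right ha))
    · exact (hcommeq b a (hPQc b hb a ha)).symm
    · exact hcommπ a b (hcoQ a ha b hb)
  have hgsq : ∀ a ∈ gens, π a ^ 2 = 1 := by
    intro a ha
    rw [← map_pow, hπ1]
    rcases ha with ha | ha | ha
    · rw [Set.mem_singleton_iff] at ha
      rw [ha]; exact hc2N
    · exact hsqP a ha
    · exact hsqQ a ha
  -- commutativity on H
  have hHc1 : ∀ a ∈ H, ∀ b ∈ gens, Commute (π a) (π b) := by
    intro a ha b hb
    rw [hHgens] at ha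
    induction ha using Subgroup.closure_induction with
    | mem x hx => exact hgc x hx b hb
    | one => rw [map_one]; exact Commute.one_left _
    | mul x y _ _ ihx ihy => rw [map_mul]; exact Commute.mul_left ihx ihy
    | inv x _ ihx => rw [map_inv]; exact Commute.inv_left ihx
  have hHc : ∀ a ∈ H, ∀ b ∈ H, Commute (π a) (π b) := by
    intro a ha b hb
    rw [hHgens] at hb
    induction hb using Subgroup.closure_induction with
    | mem x hx => exact hHc1 a ha x hx
    | one => rw [map_one]; exact Commute.one_right _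
    | mul x y _ _ ihx ihy => rw [map_mul]; exact Commute.mul_right ihx ihy
    | inv x _ ihx => rw [map_inv]; exact Commute.inv_right ihx
  have hHsq : ∀ a ∈ H, π a ^ 2 = 1 := by
    intro a ha
    rw [hHgens] at ha
    induction ha using Subgroup.closure_induction with
    | mem x hx => exact hgsq x hx
    | one => rw [map_one, one_pow]
    | mul x y hx hy ihx ihy =>
      have hxy : Commute (π x) (π y) := hHc x (hHgens ▸ hx) y (hHgens ▸ hy)
      rw [map_mul, hxy.mul_pow, ihx, ihy, one_mul]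
    | inv x _ ihx => rw [map_inv, inv_pow, ihx, inv_one]
  -- the section H / N'
  have hmemN'' : ∀ h : ↥H, h ∈ N'.subgroupOf H ↔ π (h : S) = 1 := by
    intro h
    rw [Subgroup.mem_subgroupOf, hπ1]
  have hcommQ : ∀ u v : ↥H ⧸ N'.subgroupOf H, u * v = v * u := by
    intro u v
    induction u using QuotientGroup.induction_on with
    | H h1 =>
      induction v using QuotientGroup.induction_on with
      | H h2 =>
        rw [← QuotientGroup.mk_mul, ← QuotientGroup.mk_mul, QuotientGroup.eq, hmemN'']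
        have := hHc h1 h1.2 h2 h2.2
        simp only [Subgroup.coe_mul, Subgroup.coe_inv, map_mul, map_inv]
        rw [this.eq]
        group
  have hexpQ : ∀ u : ↥H ⧸ N'.subgroupOf H, u ^ 2 = 1 := by
    intro u
    induction u using QuotientGroup.induction_on with
    | H h =>
      rw [← QuotientGroup.mk_pow, QuotientGroup.eq_one_iff, hmemN'']
      simp only [Subgroup.coe_pow, map_pow]
      exact hHsq h h.2
  have hrank := hr H (N'.subgroupOf H) ⊤ ⟨⟨fun a b => Subtype.ext (hcommQ a b)⟩⟩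
    (fun a _ => hexpQ a)
  have hcardtop : Nat.card (⊤ : Subgroup (↥H ⧸ N'.subgroupOf H)) = N'.relIndex H := by
    rw [Subgroup.card_top, ← Subgroup.index_eq_card]
    rfl
  rw [hcardtop] at hrank
  norm_num at hrank
  omega

end Cfsg.Agent.S4400
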