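import Mathlib
import Cfsg.Agent.Lib.Helper22.SecRank
import Cfsg.Statements.S4401
-- import your own Cfsg.Agent.* helpers here

set_option autoImplicit false
open Cfsg

namespace Cfsg.Agent.S4401

open Subgroup Cfsg.Agent.Helper22.SecRank in
theorem exists_sq_mem' {S : Type*} [Group S] (h2 : IsPGroup 2 S) (C K : Subgroup S) (h : ¬ C ≤ K) :
    ∃ c ∈ C, c ∉ K ∧ c ^ 2 ∈ K := by
  classical
  obtain ⟨c0, hc0C, hc0K⟩ := SetLike.not_le_iff_exists.mp h
  obtain ⟨k, hk⟩ := h2 c0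
  have hex : ∃ j, c0 ^ 2 ^ j ∈ K := ⟨k, by rw [hk]; exact K.one_mem⟩
  have hjspec := Nat.find_spec hex
  have hj0 : Nat.find hex ≠ 0 := by
    intro h0
    rw [h0, pow_zero, pow_one] at hjspec
    exact hc0K hjspec
  obtain ⟨i, hi⟩ := Nat.exists_eq_succ_of_ne_zero hj0
  refine ⟨c0 ^ 2 ^ i, C.pow_mem hc0C _, ?_, ?_⟩
  · exact Nat.find_min hex (by omega)
  · rw [← pow_mul, ← pow_succ, ← Nat.succ_eq_add_one, ← hi]
    exact hjspec

/-- Let S be a finite 2-group of sectional 2-rank at most 4 and P a proper non-abelian subgroup whose centre has order 2. Let S₀ be the centralizer in S of Z(P) and suppose P is normal in S₀. Then either S₀ = S, or P has sectional 2-rank at most 2 and S₀ has index 2 in S. -/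
theorem result {S : Type*} [Group S] [Finite S] (h2 : IsPGroup 2 S) (hr : Cfsg.SectionalPRankLE 2 4 S)
    (P : Subgroup S) (hPlt : P ≠ ⊤) (hP : ¬ IsMulCommutative ↥P) (hZP : Nat.card ↥(Subgroup.center ↥P) = 2)
    (S₀ : Subgroup S) (hS₀ : S₀ = Subgroup.centralizer (((Subgroup.center ↥P).map P.subtype : Subgroup S) : Set S))
    (hPn : ∀ s ∈ S₀, ∀ x ∈ P, s * x * s⁻¹ ∈ P) :
    S₀ = ⊤ ∨ (Cfsg.SectionalPRankLE 2 2 ↥P ∧ S₀.index = 2) := by
  classical
  have hfact : Fact (Nat.Prime 2) := ⟨Nat.prime_two⟩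
  obtain ⟨z, hz⟩ := Cfsg.Agent.Helper22.SecRank.exists_cenTwo P hZP
  have hna := Cfsg.Agent.Helper22.SecRank.nonAb_of P hP
  have hS₀mem : ∀ g, g ∈ S₀ ↔ g * z = z * g := by
    intro g
    rw [hS₀, Subgroup.mem_centralizer_iff]
    constructor
    · intro h
      have hzmem : z ∈ ((Subgroup.center ↥P).map P.subtype : Subgroup S) := by
        rw [Subgroup.mem_map]
        refine ⟨⟨z, hz.1⟩, ?_, rfl⟩
        rw [Subgroup.mem_center_iff]
        intro x
        apply Subtype.ext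
        exact (hz.2.2.1 x x.2)
      exact (h z hzmem).symm
    · intro h w hw
      obtain ⟨w0, hw0, rfl⟩ := Subgroup.mem_map.mp hw
      rw [Subgroup.mem_center_iff] at hw0
      have hcen : ∀ x ∈ P, x * (w0 : S) = (w0 : S) * x := by
        intro x hx
        have := hw0 ⟨x, hx⟩
        exact congrArg Subtype.val this
      rcases hz.2.2.2 (w0 : S) w0.2 hcen with h1 | h1
      · show (w0 : S) * g = g * (w0 : S)
        rw [h1, one_mul, mul_one]
      · show (w0 : S) * g = g * (w0 : S)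
        rw [h1]
        exact h.symm
  by_cases htop : S₀ = ⊤
  · exact Or.inl htop
  right
  have hnil : Group.IsNilpotent S := h2.isNilpotent
  have hlt : S₀ < ⊤ := lt_top_iff_ne_top.mpr htop
  have hN : S₀ < Subgroup.normalizer (S₀ : Set S) := Group.normalizerCondition_of_isNilpotent S₀ hlt
  obtain ⟨s, hsN, hsS₀, hs2⟩ := exists_sq_mem' h2 (Subgroup.normalizer (S₀ : Set S)) S₀ (not_le_of_gt hN)
  have hs : ∀ g ∈ S₀, s * g * s⁻¹ ∈ S₀ := fun g hg => (Subgroup.mem_normalizer_iff.mp hsN g).mp hg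
  obtain ⟨hPS₀, hQS₀, hsinv, hQn, hz', hne, hinf, hcomm⟩ :=
    Cfsg.Agent.Helper22.SecRank.conj_facts h2 P S₀ z hz hS₀mem hPn s hs hs2 hsS₀
  refine ⟨Cfsg.Agent.Helper22.SecRank.sectionalPRankLE_two_of_double hr P s hcomm hinf, ?_⟩
  have hT := Cfsg.Agent.Helper22.SecRank.ext2_eq_top h2 hr P S₀ z hz hna hS₀mem hPn s hs hs2 hsS₀
  rw [Subgroup.index_eq_two_iff]
  refine ⟨s⁻¹, fun b => ?_⟩
  have hb : b ∈ Cfsg.Agent.Helper22.SecRank.ext2 S₀ s hs hs2 := by rw [hT]; exact Subgroup.mem_top b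
  rw [Cfsg.Agent.Helper22.SecRank.mem_ext2] at hb
  have hnot : ¬ (b ∈ S₀ ∧ b * s⁻¹ ∈ S₀) := by
    rintro ⟨h1, h2'⟩
    apply hsS₀
    have e : s = (b * s⁻¹)⁻¹ * b := by group
    rw [e]
    exact S₀.mul_mem (S₀.inv_mem h2') h1
  unfold Xor
  rcases hb with hb | hb
  · right
    exact ⟨hb, fun h => hnot ⟨hb, h⟩⟩
  · left
    exact ⟨hb, fun h => hnot ⟨h, hb⟩⟩

end Cfsg.Agent.S4401
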