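import Cfsg.Statements.S4402
import Cfsg.Agent.Lib.S02.S02Defs
import Cfsg.Agent.Lib.S02.MODEL
import Cfsg.Agent.Lib.S02.MODELBACK
import Cfsg.Agent.Lib.S02.MCARD
import Cfsg.Agent.Lib.S02.MCENT
import Cfsg.Agent.Lib.S02.MCLS
import Cfsg.Agent.Lib.S02.MLE
import Cfsg.Agent.Lib.S02.KMUL
import Cfsg.Agent.Lib.S02.N2
import Cfsg.Agent.Lib.S02.N3
import Cfsg.Agent.Lib.S02.N4
import Cfsg.Agent.Lib.S02.N5
import Cfsg.Agent.Lib.S02.N6
import Cfsg.Agent.Lib.S02.YN
import Cfsg.Agent.Lib.S02.RELMAIN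
import Cfsg.Agent.Lib.S02.QUOT

set_option autoImplicit false
open Cfsg

namespace Cfsg.Agent.S4402

open Cfsg.Agent.Helper12.S02 in
/-- Let S be a finite 2-group of sectional 2-rank at most 4 and P a proper subgroup isomorphic to the wreath product of the dihedral group of order 8 by a group of order 2 (equivalently, to a Sylow 2-subgroup of the symmetric group of degree 8; order 128). Then Z(S) = Z(P) has order 2, P has index 2 in its normalizer N_S(P), N_S(P)/Z(S) is again isomorphic to that wreath product, and every elementary abelian subgroup V of order 16 that is normal in P satisfies N_S(V) = P. -/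
theorem result {S : Type*} [Group S] [Finite S] (h2 : IsPGroup 2 S) (hr : Cfsg.SectionalPRankLE 2 4 S)
    (P : Subgroup S) (hPlt : P ≠ ⊤) (hP : ∃ T : Sylow 2 (Equiv.Perm (Fin 8)), Nonempty (↥P ≃* ↥(T : Subgroup (Equiv.Perm (Fin 8))))) :
    Subgroup.center S = (Subgroup.center ↥P).map P.subtype ∧ Nat.card ↥(Subgroup.center S) = 2 ∧
    P.relIndex (Subgroup.normalizer (P : Set S)) = 2 ∧
    (∃ (_ : ((Subgroup.center S).subgroupOf (Subgroup.normalizer (P : Set S))).Normal) (T : Sylow 2 (Equiv.Perm (Fin 8))),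
      Nonempty (↥(Subgroup.normalizer (P : Set S)) ⧸ (Subgroup.center S).subgroupOf (Subgroup.normalizer (P : Set S)) ≃*
        ↥(T : Subgroup (Equiv.Perm (Fin 8))))) ∧
    ∀ V : Subgroup S, V ≤ P → (∀ g ∈ P, ∀ v ∈ V, g * v * g⁻¹ ∈ V) → Cfsg.IsElementaryAbelian 2 V → Nat.card ↥V = 16 →
      Subgroup.normalizer (V : Set S) = P := by
  obtain ⟨φ, hφ⟩ := exists_model P hP
  have hZ : Subgroup.center S = Zs φ := center_eq h2 hr hφ
  have hcards := card_facts hφ
  -- index 2
  obtain ⟨y, hyN, hyP⟩ := exists_normalizer_not_mem h2 P hPlt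
  have hidx : P.relIndex (Subgroup.normalizer (P : Set S)) = 2 := by
    refine relIndex_eq_two P _ Subgroup.le_normalizer ⟨y, hyN, hyP⟩ ?_
    intro y₁ hy₁ y₂ hy₂ hn₁ hn₂
    exact inv_mul_mem h2 hr hφ y₁ y₂ (normBy_of_mem_normalizer hy₁) (normBy_of_mem_normalizer hy₂)
      hn₁ hn₂
  refine ⟨?_, ?_, hidx, ?_, ?_⟩
  · rw [hZ, center_P hφ]
  · rw [hZ]; exact hcards.2.2.2.1
  · -- the quotient
    obtain ⟨u, huP, hun, hY⟩ := exists_yform h2 hr hφ y (normBy_of_mem_normalizer hyN) hyP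
    have hq : QRel φ (u * (φ a0')⁻¹) := qrel hφ u hY
    have huN : u ∈ Subgroup.normalizer (P : Set S) := mem_normalizer_of_normBy huP
    have ha'P : φ a0' ∈ P := by
      rw [← hφ.range_eq]; exact ⟨a0', rfl⟩
    have hsN : u * (φ a0')⁻¹ ∈ Subgroup.normalizer (P : Set S) :=
      Subgroup.mul_mem _ huN (Subgroup.inv_mem _ (Subgroup.le_normalizer ha'P))
    have hcardN : Nat.card ↥(Subgroup.normalizer (P : Set S)) = 256 := by
      have h1 := (P.subgroupOf (Subgroup.normalizer (P : Set S))).index_mul_card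
      have h3 : Nat.card ↥(P.subgroupOf (Subgroup.normalizer (P : Set S))) = Nat.card ↥P :=
        Nat.card_congr (Subgroup.subgroupOfEquivOfLe (Subgroup.le_normalizer (H := P))).toEquiv
      rw [h3, hcards.1] at h1
      have h4 : (P.subgroupOf (Subgroup.normalizer (P : Set S))).index = 2 := hidx
      rw [h4] at h1
      omega
    have hiso := quot_equiv hφ hZ hcardN _ hsN hq
    obtain ⟨T, hT⟩ := equiv_sylow_of_equiv_W3 hiso
    exact ⟨inferInstance, T, hT⟩
  · intro V hVP hVn hVe hVc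
    have hcl : V = V1s φ ∨ V = V2s φ := by
      refine cls hφ V hVP (fun g hg v hv => hVn g hg v hv) ?_ hVe.2 hVc
      intro x hx y hy
      have := hVe.1
      have h := this.is_comm.comm (⟨x, hx⟩ : V) ⟨y, hy⟩
      exact congrArg Subtype.val h
    exact normalizer_V h2 hr hφ V hcl

end Cfsg.Agent.S4402
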