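import Mathlib
import Cfsg.Agent.Lib.Helper7.FStar2
import Cfsg.Agent.Lib.Helper7.Layer
import Cfsg.Agent.Lib.Helper7.Cores
import Cfsg.Agent.Lib.Helper7.PLocal4
import Cfsg.Agent.Lib.Helper7.PLocal2
import Cfsg.Agent.Lib.Helper7.PComp3
import Cfsg.Agent.Lib.Helper7.FStar3
import Cfsg.Agent.Lib.Helper22.CyclicChain
import Cfsg.Agent.Lib.Helper22.PPrimeCore
import Cfsg.Agent.Lib.Helper22.PResidual
import Cfsg.Agent.S0009
import Cfsg.Agent.S0082
import Cfsg.Agent.S0088
import Cfsg.Statements.S4403
-- import your own Cfsg.Agent.* helpers here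

set_option autoImplicit false
open Cfsg

namespace Cfsg.Agent.S4403

open Cfsg.Agent.Helper7 Cfsg.Agent.Helper22
open scoped commutatorElement

universe u

/-- With trivial `p'`-core the Fitting subgroup is a `p`-group. -/
theorem fitting_isPGroup {K : Type u} [Group K] [Finite K] (p : ℕ) [hp : Fact p.Prime]
    (hO : Cfsg.pPrimeCore p K = ⊥) : IsPGroup p (Cfsg.fittingSubgroup K) := by
  have hle : Cfsg.fittingSubgroup K ≤ Cfsg.pCore p K := by
    rw [Cfsg.Agent.S0009.result]
    apply iSup_le
    intro q
    by_cases hqp : (q : ℕ) = p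
    · rw [hqp]
    · haveI : Fact (q : ℕ).Prime := ⟨q.2⟩
      have h1 : IsPGroup (q : ℕ) (Cfsg.pCore (q : ℕ) K) := Cfsg.Agent.S0009.pCore_isPGroup _
      obtain ⟨n, hn⟩ := h1.exists_card_eq
      have h2 : (Nat.card (Cfsg.pCore (q : ℕ) K)).Coprime p := by
        rw [hn]
        apply Nat.Coprime.pow_left
        exact (Nat.coprime_primes q.2 hp.out).mpr hqp
      have h3 := le_pPrimeCore p _ (Cfsg.Agent.S0009.pCore_normal (G := K) (q : ℕ)) h2
      rw [hO] at h3
      exact h3.trans bot_le
  exact (Cfsg.Agent.S0009.pCore_isPGroup p).to_le hle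

/-- All Sylow subgroups are cyclic if one is. -/
theorem sylow_isCyclic {K : Type u} [Group K] [Finite K] {p : ℕ} [Fact p.Prime]
    (P : Sylow p K) (hP : IsCyclic ↥(P : Subgroup K)) (Q : Sylow p K) :
    IsCyclic ↥(Q : Subgroup K) := by
  have e : ↥(P : Subgroup K) ≃* ↥(Q : Subgroup K) := Sylow.equiv P Q
  exact isCyclic_of_surjective e e.surjective

/-- In a cyclic subgroup, subgroups of equal order coincide. -/
theorem eq_of_card_eq_of_le_isCyclic {K : Type u} [Group K] [Finite K] (Q : Subgroup K)
    [IsCyclic Q] (A B : Subgroup K) (hA : A ≤ Q) (hB : B ≤ Q) (h : Nat.card A = Nat.card B) :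
    A = B := by
  have h1 : Nat.card (A.subgroupOf Q) = Nat.card A := card_subgroupOf_of_le hA
  have h2 : Nat.card (B.subgroupOf Q) = Nat.card B := card_subgroupOf_of_le hB
  have hle1 : A.subgroupOf Q ≤ B.subgroupOf Q :=
    le_of_card_dvd_of_isCyclic _ _ (by rw [h1, h2, h])
  have hle2 : B.subgroupOf Q ≤ A.subgroupOf Q :=
    le_of_card_dvd_of_isCyclic _ _ (by rw [h1, h2, h])
  apply le_antisymm
  · intro x hx
    have : (⟨x, hA hx⟩ : Q) ∈ A.subgroupOf Q := by rw [Subgroup.mem_subgroupOf]; exact hx
    have := hle1 this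
    rw [Subgroup.mem_subgroupOf] at this
    exact this
  · intro x hx
    have : (⟨x, hB hx⟩ : Q) ∈ B.subgroupOf Q := by rw [Subgroup.mem_subgroupOf]; exact hx
    have := hle2 this
    rw [Subgroup.mem_subgroupOf] at this
    exact this

/-- An element of order `p` and a `p`-subgroup normalized by it, in a group with cyclic Sylow
`p`-subgroups: the cyclic group of order `p` is the unique one inside any other. -/
theorem zpowers_eq_of_isPGroup_sup {K : Type u} [Group K] [Finite K] {p : ℕ} [Fact p.Prime]
    (P : Sylow p K) (hP : IsCyclic ↥(P : Subgroup K)) (x z : K) (hx : orderOf x = p)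
    (hz : orderOf z = p) (h : IsPGroup p ↥(Subgroup.zpowers x ⊔ Subgroup.zpowers z)) :
    Subgroup.zpowers x = Subgroup.zpowers z := by
  obtain ⟨Q, hQ⟩ := h.exists_le_sylow
  haveI := sylow_isCyclic P hP Q
  apply eq_of_card_eq_of_le_isCyclic (Q : Subgroup K)
  · exact le_sup_left.trans hQ
  · exact le_sup_right.trans hQ
  · rw [Nat.card_zpowers, Nat.card_zpowers, hx, hz]

theorem isPGroup_zpowers_of_orderOf {K : Type u} [Group K] {p : ℕ} [Fact p.Prime] (x : K)
    (hx : orderOf x = p) : IsPGroup p ↥(Subgroup.zpowers x) := by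
  apply IsPGroup.of_card (n := 1)
  rw [Nat.card_zpowers, hx, pow_one]

/-- Commuting elements of order `p` generate the same subgroup (cyclic Sylow subgroups). -/
theorem zpowers_eq_of_commute {K : Type u} [Group K] [Finite K] {p : ℕ} [Fact p.Prime]
    (P : Sylow p K) (hP : IsCyclic ↥(P : Subgroup K)) (x z : K) (hx : orderOf x = p)
    (hz : orderOf z = p) (hc : Commute x z) :
    Subgroup.zpowers x = Subgroup.zpowers z := by
  apply zpowers_eq_of_isPGroup_sup P hP x z hx hz
  apply IsPGroup.to_sup_of_normal_right' (isPGroup_zpowers_of_orderOf x hx)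
    (isPGroup_zpowers_of_orderOf z hz)
  rw [Subgroup.zpowers_le]
  apply Subgroup.centralizer_le_normalizer
  rw [Subgroup.mem_centralizer_iff]
  intro h hh
  obtain ⟨k, rfl⟩ := Subgroup.mem_zpowers_iff.mp hh
  exact ((hc.symm.zpow_left k).eq)

/-- The normal, self-centralizing case: `K/P` embeds in the automorphism group of `P`. -/
theorem caseA {K : Type u} [Group K] [Finite K] (p : ℕ) [hp : Fact p.Prime]
    (P : Sylow p K) (hP : IsCyclic ↥(P : Subgroup K))
    (hPn : (P : Subgroup K).Normal)
    (hC : Subgroup.centralizer ((P : Subgroup K) : Set K) = (P : Subgroup K)) :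
    IsCyclic (K ⧸ (P : Subgroup K)) ∧ (P : Subgroup K).index ∣ p - 1 := by
  let f : K →* MulAut ↥(P : Subgroup K) := MulAut.conjNormal
  have hker0 : Subgroup.centralizer ((P : Subgroup K) : Set K) = f.ker := by
    ext g
    rw [MonoidHom.mem_ker, Subgroup.mem_centralizer_iff]
    constructor
    · intro hg
      ext h
      rw [MulAut.conjNormal_apply, MulAut.one_apply]
      have := hg h h.2
      rw [← this]
      group
    · intro hg h hh
      have h1 : (f g) ⟨h, hh⟩ = ⟨h, hh⟩ := by rw [hg]; rfl
      have h2 := congrArg Subtype.val h1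
      rw [MulAut.conjNormal_apply] at h2
      have h3 : g * h = g * h * g⁻¹ * g := by group
      rw [h3, h2]
  have hker : (P : Subgroup K) = f.ker := by
    rw [← hker0]; exact hC.symm
  let e : K ⧸ (P : Subgroup K) ≃* f.range :=
    (QuotientGroup.quotientMulEquivOfEq hker).trans (QuotientGroup.quotientKerEquivRange f)
  have hcard : (P : Subgroup K).index = Nat.card f.range := by
    rw [Subgroup.index_eq_card]
    exact Nat.card_congr e.toEquiv
  obtain ⟨n, hn⟩ := P.isPGroup'.exists_card_eq
  have hdvd : (P : Subgroup K).index ∣ (p ^ n).totient := by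
    rw [hcard, ← hn, ← IsCyclic.card_mulAut]
    exact Subgroup.card_subgroup_dvd_card _
  have hcop : ((P : Subgroup K).index).Coprime p := by
    rw [Nat.coprime_comm, Nat.Prime.coprime_iff_not_dvd hp.out]
    exact P.not_dvd_index
  have hidx : (P : Subgroup K).index ∣ p - 1 := by
    rcases Nat.eq_zero_or_pos n with h0 | hpos
    · rw [h0, pow_zero, Nat.totient_one] at hdvd
      exact hdvd.trans (one_dvd _)
    · rw [Nat.totient_prime_pow hp.out hpos] at hdvd
      exact (Nat.Coprime.pow_right (n - 1) hcop).dvd_of_dvd_mul_left hdvd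
  refine ⟨?_, hidx⟩
  by_cases hp2 : p = 2
  · have h0 : p - 1 = 1 := by omega
    rw [h0] at hidx
    have h1 : (P : Subgroup K).index = 1 := Nat.dvd_one.mp hidx
    have h2 : Nat.card (K ⧸ (P : Subgroup K)) = 1 := by rw [← Subgroup.index_eq_card]; exact h1
    haveI : Subsingleton (K ⧸ (P : Subgroup K)) := (Nat.card_eq_one_iff_unique.mp h2).1
    exact isCyclic_of_subsingleton
  · have h1 : IsCyclic (ZMod (Nat.card ↥(P : Subgroup K)))ˣ := by
      rw [hn]
      exact ZMod.isCyclic_units_of_prime_pow p hp.out hp2 n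
    have e2 := IsCyclic.mulAutMulEquiv ↥(P : Subgroup K)
    haveI : IsCyclic (MulAut ↥(P : Subgroup K)) := isCyclic_of_surjective e2.symm e2.symm.surjective
    haveI : IsCyclic f.range := Subgroup.isCyclic _
    exact isCyclic_of_surjective e.symm e.symm.surjective

/-- `p` divides the order of every component when the `p'`-core is trivial. -/
theorem dvd_card_component {K : Type u} [Group K] [Finite K] (p : ℕ) [hp : Fact p.Prime]
    (hO : Cfsg.pPrimeCore p K = ⊥) {L : Subgroup K} (hL : Cfsg.IsComponent L) :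
    p ∣ Nat.card L := by
  by_contra h
  have hc : (Nat.card L).Coprime p :=
    ((Nat.Prime.coprime_iff_not_dvd hp.out).mpr h).symm
  have := subnormal_coprime_le_pPrimeCore p L hL.1 hc
  rw [hO] at this
  exact component_ne_bot hL (le_bot_iff.mp this)

/-- The centre of a component is trivial (cyclic Sylow `p`-subgroups, trivial `p'`-core). -/
theorem component_center_eq_bot {K : Type u} [Group K] [Finite K] (p : ℕ) [hp : Fact p.Prime]
    (hO : Cfsg.pPrimeCore p K = ⊥) (P : Sylow p K) (hP : IsCyclic ↥(P : Subgroup K))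
    {L : Subgroup K} (hL : Cfsg.IsComponent L) : Subgroup.center ↥L = ⊥ := by
  have h1 : IsPGroup p (Subgroup.center ↥L) := by
    apply isPGroup_of_forall_coprime_eq_one
    intro c hc hcop
    set Z : Subgroup ↥L := Subgroup.zpowers c with hZ
    have hZn : Z.Normal := by
      constructor
      intro n hn g
      have hcen : n ∈ Subgroup.center ↥L :=
        (Subgroup.zpowers_le.mpr hc) hn
      have : g * n * g⁻¹ = n := by
        rw [Subgroup.mem_center_iff.mp hcen g]
        group
      rw [this]
      exact hn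
    have hsn : (Z.map L.subtype).IsSubnormal := by
      apply Subgroup.IsSubnormal.step (Z.map L.subtype) L _ hL.1
      · rw [subgroupOf_map_subtype_self]
        exact hZn
      · rintro _ ⟨y, _, rfl⟩
        exact y.2
    have hcard : (Nat.card ↥(Z.map L.subtype)).Coprime p := by
      rw [card_map_subtype, hZ, Nat.card_zpowers]
      exact hcop
    have hle := subnormal_coprime_le_pPrimeCore p _ hsn hcard
    rw [hO] at hle
    have hcm : (c : K) ∈ Z.map L.subtype := ⟨c, Subgroup.mem_zpowers c, rfl⟩
    have := hle hcm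
    rw [Subgroup.mem_bot] at this
    exact Subtype.ext this
  obtain S : Sylow p ↥L := default
  have hSc : IsMulCommutative ↥(S : Subgroup ↥L) := by
    have hSp : IsPGroup p ↥((S : Subgroup ↥L).map L.subtype) := S.isPGroup'.map _
    obtain ⟨Q, hQ⟩ := hSp.exists_le_sylow
    haveI := sylow_isCyclic P hP Q
    refine ⟨⟨fun a b => ?_⟩⟩
    have ha : ((a : ↥L) : K) ∈ (Q : Subgroup K) := hQ ⟨a, a.2, rfl⟩
    have hb : ((b : ↥L) : K) ∈ (Q : Subgroup K) := hQ ⟨b, b.2, rfl⟩
    have hcomm := (IsCyclic.isMulCommutative (α := ↥(Q : Subgroup K))).is_comm.comm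
      ⟨_, ha⟩ ⟨_, hb⟩
    have h2 : ((a : ↥L) : K) * ((b : ↥L) : K) = ((b : ↥L) : K) * ((a : ↥L) : K) :=
      congrArg Subtype.val hcomm
    apply Subtype.ext
    apply Subtype.ext
    exact h2
  have h88 := Cfsg.Agent.S0088.result (S : Subgroup ↥L) hSc S.card_coprime_index
  rw [quasisimple_commutator_eq_top hL.2, inf_top_eq] at h88
  have hle : Subgroup.center ↥L ≤ (S : Subgroup ↥L) := h1.le_sylow_of_normal S
  rw [eq_bot_iff, ← h88]
  exact le_inf hle le_rfl

theorem component_inf_centralizer {K : Type u} [Group K] [Finite K] (p : ℕ) [hp : Fact p.Prime]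
    (hO : Cfsg.pPrimeCore p K = ⊥) (P : Sylow p K) (hP : IsCyclic ↥(P : Subgroup K))
    {L : Subgroup K} (hL : Cfsg.IsComponent L) :
    L ⊓ Subgroup.centralizer (L : Set K) = ⊥ := by
  rw [← map_subtype_center, component_center_eq_bot p hO P hP hL, Subgroup.map_bot]

theorem exists_orderOf_eq_of_component {K : Type u} [Group K] [Finite K] (p : ℕ)
    [hp : Fact p.Prime] (hO : Cfsg.pPrimeCore p K = ⊥) {L : Subgroup K}
    (hL : Cfsg.IsComponent L) : ∃ x ∈ L, orderOf x = p := by
  obtain ⟨x, hx⟩ := exists_prime_orderOf_dvd_card' (G := ↥L) p (dvd_card_component p hO hL)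
  exact ⟨x, x.2, by rw [Subgroup.orderOf_coe]; exact hx⟩

theorem fitting_eq_bot_of_component {K : Type u} [Group K] [Finite K] (p : ℕ)
    [hp : Fact p.Prime] (hO : Cfsg.pPrimeCore p K = ⊥) (P : Sylow p K)
    (hP : IsCyclic ↥(P : Subgroup K)) {L : Subgroup K} (hL : Cfsg.IsComponent L) :
    Cfsg.fittingSubgroup K = ⊥ := by
  by_contra hne
  have hF := fitting_isPGroup p hO
  haveI hFn : (Cfsg.fittingSubgroup K).Normal := fittingSubgroup_normal'
  haveI : Nontrivial ↥(Cfsg.fittingSubgroup K) := (Subgroup.nontrivial_iff_ne_bot _).mpr hne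
  obtain ⟨z, hz⟩ : ∃ z : ↥(Cfsg.fittingSubgroup K), orderOf z = p := by
    obtain ⟨n, hn⟩ := hF.exists_card_eq
    have hn0 : n ≠ 0 := by
      rintro rfl
      rw [pow_zero] at hn
      have := Finite.one_lt_card (α := ↥(Cfsg.fittingSubgroup K))
      omega
    exact exists_prime_orderOf_dvd_card' p (by rw [hn]; exact dvd_pow_self p hn0)
  obtain ⟨x, hxL, hx⟩ := exists_orderOf_eq_of_component p hO hL
  have hz' : orderOf (z : K) = p := by rw [Subgroup.orderOf_coe]; exact hz
  have hsup : IsPGroup p ↥(Subgroup.zpowers x ⊔ Subgroup.zpowers (z : K)) := by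
    have h1 : IsPGroup p ↥(Subgroup.zpowers x ⊔ Cfsg.fittingSubgroup K) :=
      IsPGroup.to_sup_of_normal_right (isPGroup_zpowers_of_orderOf x hx) hF
    apply h1.to_le
    exact sup_le_sup_left (Subgroup.zpowers_le.mpr z.2) _
  have heq := zpowers_eq_of_isPGroup_sup P hP x (z : K) hx hz' hsup
  have hxF : x ∈ Cfsg.fittingSubgroup K := by
    have : x ∈ Subgroup.zpowers (z : K) := by rw [← heq]; exact Subgroup.mem_zpowers x
    exact (Subgroup.zpowers_le.mpr z.2) this
  have hcomm : ⁅Cfsg.fittingSubgroup K, L⁆ = ⊥ := by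
    rw [Subgroup.commutator_comm]; exact component_commutator_fittingSubgroup hL
  rw [Subgroup.commutator_eq_bot_iff_le_centralizer] at hcomm
  have hx1 : x ∈ L ⊓ Subgroup.centralizer (L : Set K) := ⟨hxL, hcomm hxF⟩
  rw [component_inf_centralizer p hO P hP hL, Subgroup.mem_bot] at hx1
  rw [hx1, orderOf_one] at hx
  exact hp.out.one_lt.ne hx

theorem component_unique {K : Type u} [Group K] [Finite K] (p : ℕ)
    [hp : Fact p.Prime] (hO : Cfsg.pPrimeCore p K = ⊥) (P : Sylow p K)
    (hP : IsCyclic ↥(P : Subgroup K)) {L L' : Subgroup K} (hL : Cfsg.IsComponent L)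
    (hL' : Cfsg.IsComponent L') : L' = L := by
  by_contra hne
  have hcomm : ⁅L', L⁆ = ⊥ := component_commutator_eq_bot_of_ne hL' hL hne
  rw [Subgroup.commutator_eq_bot_iff_le_centralizer] at hcomm
  obtain ⟨x, hxL, hx⟩ := exists_orderOf_eq_of_component p hO hL
  obtain ⟨x', hxL', hx'⟩ := exists_orderOf_eq_of_component p hO hL'
  have hc : Commute x x' := by
    have := hcomm hxL'
    rw [Subgroup.mem_centralizer_iff] at this
    exact this x hxL
  have heq := zpowers_eq_of_commute P hP x x' hx hx' hc
  have hxL2 : x ∈ L' := by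
    have : x ∈ Subgroup.zpowers x' := by rw [← heq]; exact Subgroup.mem_zpowers x
    exact (Subgroup.zpowers_le.mpr hxL') this
  have hx1 : x ∈ L ⊓ Subgroup.centralizer (L : Set K) := ⟨hxL, hcomm hxL2⟩
  rw [component_inf_centralizer p hO P hP hL, Subgroup.mem_bot] at hx1
  rw [hx1, orderOf_one] at hx
  exact hp.out.one_lt.ne hx

/-- A perfect normal subgroup of order divisible by `p` contains every cyclic Sylow
`p`-subgroup. -/
theorem sylow_le_of_perfect_normal {K : Type u} [Group K] [Finite K] (p : ℕ) [hp : Fact p.Prime]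
    (P : Sylow p K) (hP : IsCyclic ↥(P : Subgroup K)) (L : Subgroup K) [hLn : L.Normal]
    (hperf : commutator ↥L = ⊤) (hpL : p ∣ Nat.card L) : (P : Subgroup K) ≤ L := by
  set H : Subgroup K := L ⊔ (P : Subgroup K) with hH
  have hPH : (P : Subgroup K) ≤ H := le_sup_right
  have hLH : L ≤ H := le_sup_left
  let PH : Sylow p ↥H := P.subtype hPH
  have hPHc : IsCyclic ↥(PH : Subgroup ↥H) := by
    have e : ↥((P : Subgroup K).subgroupOf H) ≃* ↥(P : Subgroup K) :=
      Subgroup.subgroupOfEquivOfLe hPH
    have h1 : IsCyclic ↥((P : Subgroup K).subgroupOf H) :=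
      isCyclic_of_surjective e.symm e.symm.surjective
    exact h1
  rcases Cfsg.Agent.S0082.result PH hPHc with hnpc | hres
  · exfalso
    obtain ⟨P', N, hNn, hc⟩ := hnpc
    haveI := hNn
    have hidx : N.index = Nat.card ↥(P' : Subgroup ↥H) := hc.symm.index_eq_card
    have hcardN : Nat.card ↥N = (P' : Subgroup ↥H).index := hc.index_eq_card.symm
    have hpg : IsPGroup p (↥H ⧸ N) := by
      obtain ⟨k, hk⟩ := P'.isPGroup'.exists_card_eq
      apply IsPGroup.of_card (n := k)
      rw [← Subgroup.index_eq_card, hidx, hk]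
    set E : Subgroup ↥H := (⊤ : Subgroup ↥L).map (Subgroup.inclusion hLH) with hE
    have hEperf : ⁅E, E⁆ = E := by
      rw [hE, ← Subgroup.map_commutator]
      congr 1
    have hEN : E ≤ N := by
      apply le_of_perfect_of_pow_mem p E N hEperf
      intro x _
      obtain ⟨k, hk⟩ := hpg (QuotientGroup.mk x)
      refine ⟨k, ?_⟩
      rw [← QuotientGroup.mk_pow] at hk
      exact (QuotientGroup.eq_one_iff _).mp hk
    have hcardE : Nat.card ↥E = Nat.card ↥L := by
      rw [hE, Subgroup.card_map_of_injective (Subgroup.inclusion_injective hLH), Subgroup.card_top]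
    have h1 : p ∣ Nat.card ↥N := by
      rw [← hcardE] at hpL
      exact hpL.trans (Subgroup.card_dvd_of_le hEN)
    rw [hcardN] at h1
    exact P'.not_dvd_index h1
  · have hpg : IsPGroup p (↥H ⧸ L.subgroupOf H) := by
      have h1 : (L.subgroupOf H).index ∣ Nat.card ↥(P : Subgroup K) := by
        have : (L.subgroupOf H).index = L.relIndex H := rfl
        rw [this, hH, Subgroup.relIndex_sup_left]
        exact Subgroup.relIndex_dvd_card _ _
      obtain ⟨k, hk⟩ := P.isPGroup'.exists_card_eq
      rw [hk] at h1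
      obtain ⟨j, -, hj⟩ := (Nat.dvd_prime_pow hp.out).1 h1
      apply IsPGroup.of_card (n := j)
      rw [← Subgroup.index_eq_card, hj]
    have h2 := pResidual_le_ker_of_isPGroup (QuotientGroup.mk' (L.subgroupOf H)) hpg
    rw [hres, QuotientGroup.ker_mk', top_le_iff, Subgroup.subgroupOf_eq_top] at h2
    exact hPH.trans h2

/-- Let K be a finite group, p a prime dividing its order with O_{p'}(K) = 1 (no nontrivial normal subgroup of order prime to p), and P a cyclic Sylow p-subgroup of K. Then either P is normal and self-centralizing in K with K/P cyclic of order dividing p − 1 (so K is the semidirect product of P by a group of automorphisms of P of order dividing p − 1), or the generalized Fitting subgroup F*(K) is a non-abelian simple group and p does not divide the index of F*(K) in K. -/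
theorem result {K : Type*} [Group K] [Finite K] (p : ℕ) [Fact p.Prime] (hp : p ∣ Nat.card K) (hO : Cfsg.pPrimeCore p K = ⊥)
    (P : Sylow p K) (hP : IsCyclic ↥(P : Subgroup K)) :
    ((P : Subgroup K).Normal ∧ Subgroup.centralizer ((P : Subgroup K) : Set K) = (P : Subgroup K) ∧
      (∀ (_ : (P : Subgroup K).Normal), IsCyclic (K ⧸ (P : Subgroup K))) ∧ (P : Subgroup K).index ∣ p - 1) ∨
    (IsSimpleGroup ↥(Cfsg.generalizedFittingSubgroup K) ∧ ¬ IsMulCommutative ↥(Cfsg.generalizedFittingSubgroup K) ∧
      ¬ p ∣ (Cfsg.generalizedFittingSubgroup K).index) := by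
  by_cases hE : Cfsg.layer K = ⊥
  · left
    have hF := fitting_isPGroup p hO
    haveI hFn : (Cfsg.fittingSubgroup K).Normal := fittingSubgroup_normal'
    have hFP : Cfsg.fittingSubgroup K ≤ (P : Subgroup K) := hF.le_sylow_of_normal P
    have hFs : Cfsg.generalizedFittingSubgroup K = Cfsg.fittingSubgroup K := by
      unfold Cfsg.generalizedFittingSubgroup
      rw [hE, bot_sup_eq]
    have hC := centralizer_generalizedFittingSubgroup_le (G := K)
    rw [hFs] at hC
    have hcommP : ∀ a ∈ (P : Subgroup K), ∀ b ∈ (P : Subgroup K), a * b = b * a := by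
      intro a ha b hb
      have := (IsCyclic.isMulCommutative (α := ↥(P : Subgroup K))).is_comm.comm ⟨a, ha⟩ ⟨b, hb⟩
      exact congrArg Subtype.val this
    have hPc : (P : Subgroup K) ≤ Subgroup.centralizer (Cfsg.fittingSubgroup K : Set K) := by
      intro g hg
      rw [Subgroup.mem_centralizer_iff]
      intro h hh
      exact hcommP h (hFP hh) g hg
    have hPF : (P : Subgroup K) = Cfsg.fittingSubgroup K := le_antisymm (hPc.trans hC) hFP
    have hPn : (P : Subgroup K).Normal := by rw [hPF]; exact hFn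
    have hCP : Subgroup.centralizer ((P : Subgroup K) : Set K) = (P : Subgroup K) := by
      apply le_antisymm
      · rw [hPF]; exact hC
      · intro g hg
        rw [Subgroup.mem_centralizer_iff]
        intro h hh
        exact hcommP h hh g hg
    obtain ⟨h1, h2⟩ := caseA p P hP hPn hCP
    exact ⟨hPn, hCP, fun _ => h1, h2⟩
  · right
    obtain ⟨L, hL⟩ : ∃ L : Subgroup K, Cfsg.IsComponent L := by
      rw [layer_eq_bot_iff] at hE
      push Not at hE
      exact hE
    have hF0 := fitting_eq_bot_of_component p hO P hP hL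
    have hlayer : Cfsg.layer K = L := by
      unfold Cfsg.layer
      apply le_antisymm
      · apply sSup_le
        intro L' hL'
        rw [component_unique p hO P hP hL hL']
      · exact le_sSup hL
    have hFs : Cfsg.generalizedFittingSubgroup K = L := by
      unfold Cfsg.generalizedFittingSubgroup
      rw [hlayer, hF0, sup_bot_eq]
    rw [hFs]
    haveI hLn : L.Normal := by
      rw [← hlayer]
      haveI := layer_characteristic (G := K)
      exact Subgroup.normal_of_characteristic _
    refine ⟨?_, quasisimple_not_isMulCommutative hL.2, ?_⟩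
    · have hc0 := component_center_eq_bot p hO P hP hL
      haveI := hL.2.2
      let e : ↥L ≃* ↥L ⧸ Subgroup.center ↥L :=
        (QuotientGroup.quotientBot (G := ↥L)).symm.trans
          (QuotientGroup.quotientMulEquivOfEq hc0.symm)
      exact e.isSimpleGroup
    · have hPL := sylow_le_of_perfect_normal p P hP L (quasisimple_commutator_eq_top hL.2)
        (dvd_card_component p hO hL)
      intro hdvd
      exact P.not_dvd_index (hdvd.trans (Subgroup.index_dvd_of_le hPL))

end Cfsg.Agent.S4403
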