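import Mathlib
import Cfsg.Statements.S4404
import Cfsg.Agent.Lib.Helper18.N5E

set_option autoImplicit false
open Cfsg

namespace Cfsg.Agent.S4404

/-- Let S be a finite solvable group and M a normal elementary abelian 2-subgroup of S. Suppose S contains an elementary abelian subgroup of order p³ for some odd prime p, and a cyclic 3-subgroup Q such that the cubes of the elements of Q centralize M and the commutator subgroup [Q, M] has order 4 (a four-group inside M). Then S contains an elementary abelian subgroup F of order r³, for some odd prime r, whose centralizer of [Q, M] in F — the subgroup C_F([Q, M]) — is not cyclic. -/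
theorem result {S : Type*} [Group S] [Finite S]
    [Group.IsSolvable S] (M : Subgroup S) [M.Normal] (hM : Cfsg.IsElementaryAbelian 2 M)
    (p : ℕ) (hp : p.Prime) (hp2 : p ≠ 2) (E : Subgroup S) (hE : Cfsg.IsElementaryAbelian p E) (hE3 : Nat.card ↥E = p ^ 3)
    (Q : Subgroup S) (hQc : IsCyclic ↥Q) (hQ3 : IsPGroup 3 ↥Q)
    (hQ1 : ∀ x ∈ Q, x ^ 3 ∈ Subgroup.centralizer (M : Set S)) (hQM : Nat.card ↥⁅Q, M⁆ = 4) :
    ∃ (r : ℕ) (F : Subgroup S), r.Prime ∧ r ≠ 2 ∧ Cfsg.IsElementaryAbelian r F ∧ Nat.card ↥F = r ^ 3 ∧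
      ¬ IsCyclic ↥(F ⊓ Subgroup.centralizer ((⁅Q, M⁆ : Subgroup S) : Set S)) := by
  classical
  haveI : IsMulCommutative M := hM.1
  haveI : IsMulCommutative E := hE.1
  obtain ⟨x, hxQ, hQz⟩ : ∃ x ∈ Q, Q = Subgroup.zpowers x := by
    obtain ⟨g, hg⟩ := hQc.exists_generator
    refine ⟨(g : S), g.2, le_antisymm ?_ ?_⟩
    · intro q hq
      obtain ⟨k, hk⟩ := Subgroup.mem_zpowers_iff.1 (hg ⟨q, hq⟩)
      exact Subgroup.mem_zpowers_iff.2 ⟨k, by
        have := congrArg Subtype.val hk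
        simpa using this⟩
    · rw [Subgroup.zpowers_le]; exact g.2
  subst hQz
  by_cases hrk : Cfsg.PRankLE 3 2 S
  · obtain ⟨F, hFc, hFe, hFcard, hF⟩ := Cfsg.Agent.Helper18.N5.case2 M hM.2 x hQ3
      (hQ1 x hxQ) hQM hrk p hp hp2 E hE.2 hE3
    exact ⟨p, F, hp, hp2, ⟨hFc, hFe⟩, hFcard, hF⟩
  · obtain ⟨F, hFc, hFe, hFcard, hF⟩ := Cfsg.Agent.Helper18.N5.case1 M hM.2 x hQ3
      (hQ1 x hxQ) hQM hrk
    exact ⟨3, F, Nat.prime_three, by norm_num, ⟨hFc, hFe⟩, hFcard, hF⟩

end Cfsg.Agent.S4404
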