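import Mathlib
import Cfsg.Statements.S4406
-- import your own Cfsg.Agent.* helpers here

set_option autoImplicit false
open Cfsg

namespace Cfsg.Agent.S4406

/-- Local name for the alternating group of degree four. -/
abbrev A4 := ↥(alternatingGroup (Fin 4))

theorem a4_exp : ∀ a : A4, a ^ 6 = 1 := by decide +kernel

theorem a4_card : Nat.card A4 = 12 := by
  rw [Nat.card_eq_fintype_card]; decide +kernel

set_option synthInstance.maxSize 2000 in
set_option synthInstance.maxHeartbeats 400000 in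
set_option maxRecDepth 100000 in
theorem a4_core : ∀ a : A4, a ^ 3 = 1 → a ≠ 1 → ∀ x : A4, x ^ 2 = 1 → x ≠ 1 → ∀ y : A4,
    y ^ 2 = 1 → y ≠ 1 → x ≠ y →
   ((a * x * a⁻¹ = y ∧ a * y * a⁻¹ = x * y) ∧ (a⁻¹ * x * a = x * y ∧ a⁻¹ * y * a = x)) ∨
   ((a * x * a⁻¹ = x * y ∧ a * y * a⁻¹ = x) ∧ (a⁻¹ * x * a = y ∧ a⁻¹ * y * a = x * y)) := by
  decide +kernel

theorem pair_exp (g : A4 × A4) : g ^ 6 = 1 := Prod.ext (a4_exp g.1) (a4_exp g.2)

theorem sq_eq_one_of_pow_two (g : A4 × A4) (k : ℕ) (h : g ^ (2 ^ k) = 1) : g ^ 2 = 1 := by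
  have h1 := orderOf_dvd_of_pow_eq_one h
  have h2 := orderOf_dvd_of_pow_eq_one (pair_exp g)
  have h3 : orderOf g ∣ Nat.gcd (2 ^ k) (2 * 3) := Nat.dvd_gcd h1 h2
  have hc : Nat.Coprime 3 (2 ^ k) := Nat.Coprime.pow_right k (by norm_num)
  rw [Nat.Coprime.gcd_mul_right_cancel_right 2 hc] at h3
  exact orderOf_dvd_iff_pow_eq_one.1 (h3.trans (Nat.gcd_dvd_right _ _))

theorem cube_eq_one_of_pow_three (g : A4 × A4) (k : ℕ) (h : g ^ (3 ^ k) = 1) : g ^ 3 = 1 := by
  have h1 := orderOf_dvd_of_pow_eq_one h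
  have h2 := orderOf_dvd_of_pow_eq_one (pair_exp g)
  have h3 : orderOf g ∣ Nat.gcd (3 ^ k) (3 * 2) := Nat.dvd_gcd h1 h2
  have hc : Nat.Coprime 2 (3 ^ k) := Nat.Coprime.pow_right k (by norm_num)
  rw [Nat.Coprime.gcd_mul_right_cancel_right 3 hc] at h3
  exact orderOf_dvd_iff_pow_eq_one.1 (h3.trans (Nat.gcd_dvd_right _ _))

/-- A Sylow 3-subgroup of `A4 × A4` has order nine. -/
theorem card_sylow_three (Q : Sylow 3 (A4 × A4)) : Nat.card (Q : Subgroup (A4 × A4)) = 9 := by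
  obtain ⟨k, hk⟩ := Q.2.exists_card_eq
  have hidx := (Q : Subgroup (A4 × A4)).card_mul_index
  have hnd := Q.not_dvd_index
  have hG : Nat.card (A4 × A4) = 144 := by rw [Nat.card_prod, a4_card]
  rw [hG, hk] at hidx
  have hk5 : k < 5 := by
    by_contra hge
    have hge' : 5 ≤ k := by omega
    have h1 : 3 ^ 5 ≤ 3 ^ k := Nat.pow_le_pow_right (by norm_num) hge'
    have h2 : 3 ^ k ∣ 144 := Dvd.intro _ hidx
    have h3 := Nat.le_of_dvd (by norm_num) h2
    norm_num at h1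
    omega
  rw [hk]
  interval_cases k
  · exfalso; apply hnd; omega
  · exfalso; apply hnd; omega
  · norm_num
  · exfalso; omega
  · exfalso; omega

/-- A 3-subgroup of `A4` has order at most three. -/
theorem card_three_subgroup_le (H : Subgroup A4) (hH : IsPGroup 3 H) : Nat.card H ≤ 3 := by
  obtain ⟨k, hk⟩ := hH.exists_card_eq
  have hdvd : Nat.card H ∣ 12 := by
    rw [← a4_card]; exact Subgroup.card_subgroup_dvd_card H
  rw [hk] at hdvd ⊢
  have hk2 : k < 2 := by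
    by_contra hge
    have hge' : 2 ≤ k := by omega
    have h1 : 3 ^ 2 ∣ 3 ^ k := pow_dvd_pow 3 hge'
    have h2 : 3 ^ 2 ∣ 12 := h1.trans hdvd
    norm_num at h2
  interval_cases k <;> norm_num

/-- A Sylow 3-subgroup of `A4 × A4` meets the first factor nontrivially. -/
theorem exists_fst_mem (Q : Sylow 3 (A4 × A4)) :
    ∃ a : A4, a ≠ 1 ∧ ((a, 1) : A4 × A4) ∈ (Q : Subgroup (A4 × A4)) := by
  set f : (Q : Subgroup (A4 × A4)) →* A4 :=
    (MonoidHom.snd A4 A4).comp (Q : Subgroup (A4 × A4)).subtype with hf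
  have h1 : Nat.card f.ker * f.ker.index = Nat.card (Q : Subgroup (A4 × A4)) :=
    f.ker.card_mul_index
  rw [Subgroup.index_ker, card_sylow_three] at h1
  have h2 : Nat.card f.range ≤ 3 :=
    card_three_subgroup_le _ (Q.2.of_surjective f.rangeRestrict f.rangeRestrict_surjective)
  have h3 : f.ker ≠ ⊥ := by
    intro hb
    rw [hb, Subgroup.card_bot, one_mul] at h1
    omega
  obtain ⟨⟨⟨q, hqQ⟩, hqk⟩, hq1⟩ := (Subgroup.ne_bot_iff_exists_ne_one).1 h3
  rw [MonoidHom.mem_ker] at hqk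
  have hq2 : q.2 = 1 := hqk
  refine ⟨q.1, ?_, ?_⟩
  · intro h
    apply hq1
    apply Subtype.ext
    apply Subtype.ext
    exact Prod.ext h hq2
  · have : ((q.1, 1) : A4 × A4) = q := Prod.ext rfl hq2.symm
    rw [this]
    exact hqQ

/-- A Sylow 3-subgroup of `A4 × A4` meets the second factor nontrivially. -/
theorem exists_snd_mem (Q : Sylow 3 (A4 × A4)) :
    ∃ b : A4, b ≠ 1 ∧ ((1, b) : A4 × A4) ∈ (Q : Subgroup (A4 × A4)) := by
  set f : (Q : Subgroup (A4 × A4)) →* A4 :=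
    (MonoidHom.fst A4 A4).comp (Q : Subgroup (A4 × A4)).subtype with hf
  have h1 : Nat.card f.ker * f.ker.index = Nat.card (Q : Subgroup (A4 × A4)) :=
    f.ker.card_mul_index
  rw [Subgroup.index_ker, card_sylow_three] at h1
  have h2 : Nat.card f.range ≤ 3 :=
    card_three_subgroup_le _ (Q.2.of_surjective f.rangeRestrict f.rangeRestrict_surjective)
  have h3 : f.ker ≠ ⊥ := by
    intro hb
    rw [hb, Subgroup.card_bot, one_mul] at h1
    omega
  obtain ⟨⟨⟨q, hqQ⟩, hqk⟩, hq1⟩ := (Subgroup.ne_bot_iff_exists_ne_one).1 h3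
  rw [MonoidHom.mem_ker] at hqk
  have hq2 : q.1 = 1 := hqk
  refine ⟨q.2, ?_, ?_⟩
  · intro h
    apply hq1
    apply Subtype.ext
    apply Subtype.ext
    exact Prod.ext hq2 h
  · have : ((1, q.2) : A4 × A4) = q := Prod.ext hq2.symm rfl
    rw [this]
    exact hqQ

/-- The elements of a four-group inside `A4 × A4`. -/
theorem klein_elems (B : Subgroup (A4 × A4)) (hB4 : Nat.card B = 4)
    (hB2 : ∀ g ∈ B, g ^ 2 = 1) :
    ∃ x ∈ B, ∃ y ∈ B, x ≠ 1 ∧ y ≠ 1 ∧ x ≠ y ∧ ∀ g ∈ B, g = 1 ∨ g = x ∨ g = y ∨ g = x * y := by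
  classical
  let _ : Fintype B := Fintype.ofFinite B
  have hcard : Fintype.card B = 4 := by rw [← Nat.card_eq_fintype_card]; exact hB4
  obtain ⟨a, b, c, hab, hac, hbc⟩ := Fintype.two_lt_card_iff.1 (by rw [hcard]; norm_num)
  have hsq : ∀ g : B, g * g = 1 := by
    intro g
    apply Subtype.ext
    rw [Subgroup.coe_mul, Subgroup.coe_one, ← pow_two]
    exact hB2 g g.2
  set x : B := a⁻¹ * b with hx
  set y : B := a⁻¹ * c with hy
  have hx1 : x ≠ 1 := by
    intro h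
    apply hab
    rw [hx, inv_mul_eq_one] at h
    exact h
  have hy1 : y ≠ 1 := by
    intro h
    apply hac
    rw [hy, inv_mul_eq_one] at h
    exact h
  have hxy : x ≠ y := by
    intro h
    apply hbc
    rw [hx, hy] at h
    exact mul_left_cancel h
  have hxy1 : x * y ≠ 1 := by
    intro h
    apply hxy
    have := hsq y
    exact mul_right_cancel (h.trans this.symm)
  have hxyx : x * y ≠ x := by
    intro h
    apply hy1
    have : x * y = x * 1 := by rw [mul_one]; exact h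
    exact mul_left_cancel this
  have hxyy : x * y ≠ y := by
    intro h
    apply hx1
    have : x * y = 1 * y := by rw [one_mul]; exact h
    exact mul_right_cancel this
  have hd : ({1, x, y, x * y} : Finset B).card = 4 := by
    rw [Finset.card_insert_of_notMem, Finset.card_insert_of_notMem,
      Finset.card_insert_of_notMem, Finset.card_singleton]
    · simp only [Finset.mem_singleton]
      exact fun h => hxyy h.symm
    · simp only [Finset.mem_insert, Finset.mem_singleton, not_or]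
      exact ⟨hxy, fun h => hxyx h.symm⟩
    · simp only [Finset.mem_insert, Finset.mem_singleton, not_or]
      exact ⟨fun h => hx1 h.symm, fun h => hy1 h.symm, fun h => hxy1 h.symm⟩
  have huniv : ({1, x, y, x * y} : Finset B) = Finset.univ :=
    Finset.eq_univ_of_card _ (by rw [hd, hcard])
  refine ⟨x, x.2, y, y.2, ?_, ?_, ?_, ?_⟩
  · intro h; apply hx1; exact Subtype.ext h
  · intro h; apply hy1; exact Subtype.ext h
  · intro h; apply hxy; exact Subtype.ext h
  · intro g hg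
    have hmem : (⟨g, hg⟩ : B) ∈ ({1, x, y, x * y} : Finset B) := by
      rw [huniv]; exact Finset.mem_univ _
    simp only [Finset.mem_insert, Finset.mem_singleton] at hmem
    rcases hmem with h | h | h | h
    · left; exact congrArg Subtype.val h
    · right; left; exact congrArg Subtype.val h
    · right; right; left; exact congrArg Subtype.val h
    · right; right; right; exact congrArg Subtype.val h

/-- Packaging the conclusion from a suitable element of order three. -/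
theorem finish (Q : Sylow 3 (A4 × A4)) (B : Subgroup (A4 × A4)) (r : A4 × A4)
    (hrQ : r ∈ (Q : Subgroup (A4 × A4))) (hr1 : r.1 ≠ 1) (hr2 : r.2 ≠ 1) (hr3 : r ^ 3 = 1)
    (x y : A4 × A4) (hall : ∀ g ∈ B, g = 1 ∨ g = x ∨ g = y ∨ g = x * y)
    (hrx : r * x * r⁻¹ ∈ B) (hry : r * y * r⁻¹ ∈ B) :
    ∃ R : Subgroup (A4 × A4), R ≤ (Q : Subgroup _) ∧ Nat.card ↥R = 3 ∧
        R ≠ (Q : Subgroup _) ⊓ Subgroup.prod ⊤ ⊥ ∧ R ≠ (Q : Subgroup _) ⊓ Subgroup.prod ⊥ ⊤ ∧
        R ≤ Subgroup.normalizer (B : Set _) := by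
  have hrne : r ≠ 1 := by
    intro h; apply hr1; rw [h]; rfl
  refine ⟨Subgroup.zpowers r, ?_, ?_, ?_, ?_, ?_⟩
  · rw [Subgroup.zpowers_le]; exact hrQ
  · rw [Nat.card_zpowers]
    have : Fact (Nat.Prime 3) := ⟨by norm_num⟩
    exact orderOf_eq_prime hr3 hrne
  · intro h
    have : r ∈ (Q : Subgroup (A4 × A4)) ⊓ Subgroup.prod ⊤ ⊥ := by
      rw [← h]; exact Subgroup.mem_zpowers r
    have h2 : r ∈ Subgroup.prod (⊤ : Subgroup A4) (⊥ : Subgroup A4) := this.2
    rw [Subgroup.mem_prod] at h2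
    exact hr2 (Subgroup.mem_bot.1 h2.2)
  · intro h
    have : r ∈ (Q : Subgroup (A4 × A4)) ⊓ Subgroup.prod ⊥ ⊤ := by
      rw [← h]; exact Subgroup.mem_zpowers r
    have h2 : r ∈ Subgroup.prod (⊥ : Subgroup A4) (⊤ : Subgroup A4) := this.2
    rw [Subgroup.mem_prod] at h2
    exact hr1 (Subgroup.mem_bot.1 h2.1)
  · rw [Subgroup.zpowers_le]
    apply Subgroup.mem_normalizer_fintype
    intro n hn
    rcases hall n hn with h | h | h | h
    · rw [h, mul_one, mul_inv_cancel]; exact B.one_mem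
    · rw [h]; exact hrx
    · rw [h]; exact hry
    · rw [h]
      have : r * (x * y) * r⁻¹ = (r * x * r⁻¹) * (r * y * r⁻¹) := by group
      rw [this]
      exact B.mul_mem hrx hry

/-- In the direct product P = A₄ × A₄, let X be the Sylow 2-subgroup, X₁ and X₂ its intersections with the two direct factors, Q a Sylow 3-subgroup and Q₁, Q₂ its intersections with the two factors. Then every subgroup B of X of order 4 either meets X₁ or X₂ nontrivially, or is normalized by one of the two subgroups of Q of order 3 other than Q₁ and Q₂. -/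
theorem result
    (X : Sylow 2 (↥(alternatingGroup (Fin 4)) × ↥(alternatingGroup (Fin 4))))
    (Q : Sylow 3 (↥(alternatingGroup (Fin 4)) × ↥(alternatingGroup (Fin 4))))
    (B : Subgroup (↥(alternatingGroup (Fin 4)) × ↥(alternatingGroup (Fin 4)))) (hBX : B ≤ (X : Subgroup _)) (hB4 : Nat.card ↥B = 4) :
    B ⊓ ((X : Subgroup _) ⊓ Subgroup.prod ⊤ ⊥) ≠ ⊥ ∨ B ⊓ ((X : Subgroup _) ⊓ Subgroup.prod ⊥ ⊤) ≠ ⊥ ∨
      ∃ R : Subgroup (↥(alternatingGroup (Fin 4)) × ↥(alternatingGroup (Fin 4))), R ≤ (Q : Subgroup _) ∧ Nat.card ↥R = 3 ∧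
        R ≠ (Q : Subgroup _) ⊓ Subgroup.prod ⊤ ⊥ ∧ R ≠ (Q : Subgroup _) ⊓ Subgroup.prod ⊥ ⊤ ∧ R ≤ Subgroup.normalizer (B : Set _) := by
  classical
  by_cases h1 : B ⊓ ((X : Subgroup (A4 × A4)) ⊓ Subgroup.prod ⊤ ⊥) = ⊥
  swap
  · left; exact h1
  by_cases h2 : B ⊓ ((X : Subgroup (A4 × A4)) ⊓ Subgroup.prod ⊥ ⊤) = ⊥
  swap
  · right; left; exact h2
  right; right
  have hX2 : ∀ g ∈ (X : Subgroup (A4 × A4)), g ^ 2 = 1 := by
    intro g hg
    obtain ⟨k, hk⟩ := X.2 ⟨g, hg⟩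
    apply sq_eq_one_of_pow_two g k
    have := congrArg Subtype.val hk
    rw [Subgroup.coe_pow] at this
    exact this
  have hB2 : ∀ g ∈ B, g ^ 2 = 1 := fun g hg => hX2 g (hBX hg)
  have hF2 : ∀ g ∈ B, g.2 = 1 → g = 1 := by
    intro g hg h
    have : g ∈ B ⊓ ((X : Subgroup (A4 × A4)) ⊓ Subgroup.prod ⊤ ⊥) := by
      have h5 : g ∈ Subgroup.prod (⊤ : Subgroup A4) (⊥ : Subgroup A4) := by
        rw [Subgroup.mem_prod]
        exact ⟨Subgroup.mem_top _, Subgroup.mem_bot.2 h⟩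
      exact ⟨hg, hBX hg, h5⟩
    rw [h1, Subgroup.mem_bot] at this
    exact this
  have hF1 : ∀ g ∈ B, g.1 = 1 → g = 1 := by
    intro g hg h
    have : g ∈ B ⊓ ((X : Subgroup (A4 × A4)) ⊓ Subgroup.prod ⊥ ⊤) := by
      have h5 : g ∈ Subgroup.prod (⊥ : Subgroup A4) (⊤ : Subgroup A4) := by
        rw [Subgroup.mem_prod]
        exact ⟨Subgroup.mem_bot.2 h, Subgroup.mem_top _⟩
      exact ⟨hg, hBX hg, h5⟩
    rw [h2, Subgroup.mem_bot] at this
    exact this
  obtain ⟨x, hxB, y, hyB, hx1, hy1, hxy, hall⟩ := klein_elems B hB4 hB2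
  obtain ⟨a, ha1, haQ⟩ := exists_fst_mem Q
  obtain ⟨b, hb1, hbQ⟩ := exists_snd_mem Q
  have ha3 : a ^ 3 = 1 := by
    obtain ⟨k, hk⟩ := Q.2 ⟨(a, 1), haQ⟩
    have h3 := congrArg Subtype.val hk
    rw [Subgroup.coe_pow] at h3
    have := cube_eq_one_of_pow_three (a, 1) k h3
    exact congrArg Prod.fst this
  have hb3 : b ^ 3 = 1 := by
    obtain ⟨k, hk⟩ := Q.2 ⟨(1, b), hbQ⟩
    have h3 := congrArg Subtype.val hk
    rw [Subgroup.coe_pow] at h3
    have := cube_eq_one_of_pow_three (1, b) k h3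
    exact congrArg Prod.snd this
  have hx1' : x.1 ^ 2 = 1 := congrArg Prod.fst (hB2 x hxB)
  have hx2' : x.2 ^ 2 = 1 := congrArg Prod.snd (hB2 x hxB)
  have hy1' : y.1 ^ 2 = 1 := congrArg Prod.fst (hB2 y hyB)
  have hy2' : y.2 ^ 2 = 1 := congrArg Prod.snd (hB2 y hyB)
  have hx1ne : x.1 ≠ 1 := fun h => hx1 (hF1 x hxB h)
  have hx2ne : x.2 ≠ 1 := fun h => hx1 (hF2 x hxB h)
  have hy1ne : y.1 ≠ 1 := fun h => hy1 (hF1 y hyB h)
  have hy2ne : y.2 ≠ 1 := fun h => hy1 (hF2 y hyB h)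
  have hxyB : x * y ∈ B := B.mul_mem hxB hyB
  have hyy : y * y = 1 := by rw [← pow_two]; exact hB2 y hyB
  have hxy1 : x.1 ≠ y.1 := by
    intro h
    have h3 : (x * y).1 = 1 := by rw [Prod.fst_mul, h, ← pow_two]; exact hy1'
    have h4 := hF1 _ hxyB h3
    exact hxy (mul_right_cancel (h4.trans hyy.symm))
  have hxy2 : x.2 ≠ y.2 := by
    intro h
    have h3 : (x * y).2 = 1 := by rw [Prod.snd_mul, h, ← pow_two]; exact hy2'
    have h4 := hF2 _ hxyB h3
    exact hxy (mul_right_cancel (h4.trans hyy.symm))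
  have habQ : ((a, b) : A4 × A4) ∈ (Q : Subgroup (A4 × A4)) := by
    have : ((a, b) : A4 × A4) = (a, 1) * (1, b) := by
      rw [Prod.mk_mul_mk, mul_one, one_mul]
    rw [this]
    exact Subgroup.mul_mem _ haQ hbQ
  have habQ' : ((a, b⁻¹) : A4 × A4) ∈ (Q : Subgroup (A4 × A4)) := by
    have : ((a, b⁻¹) : A4 × A4) = (a, 1) * (1, b)⁻¹ := by
      rw [Prod.inv_mk, Prod.mk_mul_mk, inv_one, mul_one, one_mul]
    rw [this]
    exact Subgroup.mul_mem _ haQ (Subgroup.inv_mem _ hbQ)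
  have hab3 : ((a, b) : A4 × A4) ^ 3 = 1 := by
    rw [Prod.pow_mk, ha3, hb3]; rfl
  have hab3' : ((a, b⁻¹) : A4 × A4) ^ 3 = 1 := by
    rw [Prod.pow_mk, ha3, inv_pow, hb3, inv_one]; rfl
  have hb1' : b⁻¹ ≠ 1 := fun h => hb1 (inv_eq_one.1 h)
  rcases a4_core a ha3 ha1 x.1 hx1' hx1ne y.1 hy1' hy1ne hxy1 with
    ⟨⟨hA1, hA2⟩, ⟨hA3, hA4⟩⟩ | ⟨⟨hA1, hA2⟩, ⟨hA3, hA4⟩⟩ <;>
  rcases a4_core b hb3 hb1 x.2 hx2' hx2ne y.2 hy2' hy2ne hxy2 with
    ⟨⟨hC1, hC2⟩, ⟨hC3, hC4⟩⟩ | ⟨⟨hC1, hC2⟩, ⟨hC3, hC4⟩⟩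
  · refine finish Q B (a, b) habQ ha1 hb1 hab3 x y hall ?_ ?_
    · have : ((a, b) : A4 × A4) * x * (a, b)⁻¹ = y := by
        apply Prod.ext
        · simpa using hA1
        · simpa using hC1
      rw [this]; exact hyB
    · have : ((a, b) : A4 × A4) * y * (a, b)⁻¹ = x * y := by
        apply Prod.ext
        · simpa using hA2
        · simpa using hC2
      rw [this]; exact hxyB
  · refine finish Q B (a, b⁻¹) habQ' ha1 hb1' hab3' x y hall ?_ ?_
    · have : ((a, b⁻¹) : A4 × A4) * x * (a, b⁻¹)⁻¹ = y := by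
        apply Prod.ext
        · simpa using hA1
        · simpa using hC3
      rw [this]; exact hyB
    · have : ((a, b⁻¹) : A4 × A4) * y * (a, b⁻¹)⁻¹ = x * y := by
        apply Prod.ext
        · simpa using hA2
        · simpa using hC4
      rw [this]; exact hxyB
  · refine finish Q B (a, b⁻¹) habQ' ha1 hb1' hab3' x y hall ?_ ?_
    · have : ((a, b⁻¹) : A4 × A4) * x * (a, b⁻¹)⁻¹ = x * y := by
        apply Prod.ext
        · simpa using hA1
        · simpa using hC3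
      rw [this]; exact hxyB
    · have : ((a, b⁻¹) : A4 × A4) * y * (a, b⁻¹)⁻¹ = x := by
        apply Prod.ext
        · simpa using hA2
        · simpa using hC4
      rw [this]; exact hxB
  · refine finish Q B (a, b) habQ ha1 hb1 hab3 x y hall ?_ ?_
    · have : ((a, b) : A4 × A4) * x * (a, b)⁻¹ = x * y := by
        apply Prod.ext
        · simpa using hA1
        · simpa using hC1
      rw [this]; exact hxyB
    · have : ((a, b) : A4 × A4) * y * (a, b)⁻¹ = x := by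
        apply Prod.ext
        · simpa using hA2
        · simpa using hC2
      rw [this]; exact hxB

end Cfsg.Agent.S4406
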