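import Mathlib
import Cfsg.Statements.S4407
import Cfsg.Agent.Lib.Helper21.D8Mod

set_option autoImplicit false
open Cfsg

namespace Cfsg.Agent.S4407

open Cfsg.Agent.Helper21.D8Mod

/-- Let S be a finite group with a normal elementary abelian subgroup A of order 9 that is self-centralizing (C_S(A) = A), and a dihedral subgroup X of order 8 with S = AX. Let M be a finite-dimensional module for S over the field with two elements that is faithful and irreducible. Then M has 16 elements, and X contains exactly one subgroup B of order 4 and exponent 2 whose fixed points on M form a subspace with exactly 2 elements (equivalently, M is free of rank one over the group algebra of B). -/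
theorem result {S : Type*} [Group S] [Finite S]
    (A : Subgroup S) [A.Normal] (hA : Cfsg.IsElementaryAbelian 3 A) (hA9 : Nat.card ↥A = 9)
    (hAC : Subgroup.centralizer (A : Set S) = A) (X : Subgroup S) (hX : Nonempty (↥X ≃* DihedralGroup 4)) (hAX : A ⊔ X = ⊤)
    {M : Type*} [AddCommGroup M] [Module (ZMod 2) M] [Finite M] (ρ : Representation (ZMod 2) S M)
    (hfaith : Function.Injective ρ)
    (hirr : ∀ N : Submodule (ZMod 2) M, (∀ s : S, ∀ m ∈ N, ρ s m ∈ N) → N = ⊥ ∨ N = ⊤) (hM : Nontrivial M) :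
    Nat.card M = 16 ∧
      ∃! B : Subgroup S, B ≤ X ∧ Nat.card ↥B = 4 ∧ (∀ b ∈ B, b ^ 2 = 1) ∧
        Nat.card {m : M // ∀ b ∈ B, ρ b m = m} = 2 := by
  obtain ⟨φ⟩ := hX
  obtain ⟨r, s, hrX, hsX, hr4, hr2, hs2, hs1, hsz, hsr, hXcl, hB⟩ := d8_data X φ
  have comm : ∀ x ∈ A, ∀ y ∈ A, x * y = y * x := fun x hx y hy => by
    have := (isMulCommutative_iff.mp hA.1) ⟨x, hx⟩ ⟨y, hy⟩
    exact congrArg Subtype.val this
  have exp3 : ∀ x ∈ A, x ^ 3 = 1 := hA.2
  have conj_mem : ∀ x ∈ A, ∀ g : S, g * x * g⁻¹ ∈ A := fun x hx g =>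
    (inferInstance : A.Normal).conj_mem x hx g
  have triv23 : ∀ g : S, g ^ 2 = 1 → g ^ 3 = 1 → g = 1 := fun g h2 h3 => by
    have : g ^ 3 = g ^ 2 * g := pow_succ g 2
    rw [h3, h2, one_mul] at this; exact this.symm
  have cent : ∀ g : S, (∀ x ∈ A, g * x * g⁻¹ = x) → g ∈ A := by
    intro g hg
    rw [← hAC, Subgroup.mem_centralizer_iff]
    intro x hx
    have := hg x hx
    rw [mul_inv_eq_iff_eq_mul] at this; exact this.symm
  -- basic relations
  obtain ⟨z, hz⟩ : ∃ z, z = r ^ 2 := ⟨_, rfl⟩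
  have zz : z * z = 1 := by rw [hz, ← pow_add]; exact hr4
  have zi : z⁻¹ = z := inv_eq_of_mul_eq_one_right zz
  have zrr : z = r * r := by rw [hz, sq]
  have ss : s * s = 1 := by rw [← sq]; exact hs2
  have si : s⁻¹ = s := inv_eq_of_mul_eq_one_right ss
  have z1 : z ≠ 1 := hz ▸ hr2
  have rz : r * z = z * r := by rw [zrr, mul_assoc]
  have sz : s * z = z * s := by
    have h : s * r ^ 2 * s⁻¹ = r ^ 2 := by
      rw [← conj_pow, hsr, inv_pow, ← hz, zi]
    rw [mul_inv_eq_iff_eq_mul, ← hz] at h; exact h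
  have sr' : s * r = r⁻¹ * s := by
    have h := hsr
    rw [mul_inv_eq_iff_eq_mul] at h; exact h
  -- T1: z inverts A
  have hzinv : ∀ x ∈ A, z * x * z⁻¹ = x⁻¹ := by
    have h1 : ∃ x ∈ A, z * x * z⁻¹ ≠ x := by
      by_contra hcon
      push Not at hcon
      have hzA := cent _ hcon
      exact z1 (triv23 _ (by rw [sq]; exact zz) (exp3 _ hzA))
    obtain ⟨x, hx, hxz⟩ := h1
    obtain ⟨v, hv⟩ : ∃ v, v = x * (z * x * z⁻¹)⁻¹ := ⟨_, rfl⟩
    have hvA : v ∈ A := hv ▸ A.mul_mem hx (A.inv_mem (conj_mem x hx z))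
    have hv1 : v ≠ 1 := by
      intro h
      rw [hv, mul_inv_eq_one] at h
      exact hxz h.symm
    have hvz : z * v * z⁻¹ = v⁻¹ := by
      have e0 : (x * (z * x * z⁻¹)⁻¹)⁻¹ = z * x * z⁻¹ * x⁻¹ := by rw [mul_inv_rev, inv_inv]
      rw [hv, e0]
      calc z * (x * (z * x * z⁻¹)⁻¹) * z⁻¹ = (z * x * z⁻¹) * ((z * z) * x * (z * z)⁻¹)⁻¹ := by group
        _ = z * x * z⁻¹ * x⁻¹ := by rw [zz, one_mul, inv_one, mul_one]
    obtain ⟨w, hw⟩ : ∃ w, w = r * v * r⁻¹ := ⟨_, rfl⟩
    have hwA : w ∈ A := hw ▸ conj_mem v hvA r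
    have hwz : z * w * z⁻¹ = w⁻¹ := by
      rw [hw]
      calc z * (r * v * r⁻¹) * z⁻¹ = (z * r) * v * (z * r)⁻¹ := by group
        _ = (r * z) * v * (r * z)⁻¹ := by rw [rz]
        _ = r * (z * v * z⁻¹) * r⁻¹ := by group
        _ = (r * v * r⁻¹)⁻¹ := by rw [hvz]; group
    have hov : orderOf v = 3 := orderOf_eq_prime (exp3 v hvA) hv1
    have hind : ∀ k : ℤ, w ≠ v ^ k := by
      intro k hk
      have e1 : z * v * z⁻¹ = r * w * r⁻¹ := by rw [hw, zrr]; group
      have e2 : r * w * r⁻¹ = v ^ (k * k) := by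
        rw [hk, ← conj_zpow, ← hw, hk, ← zpow_mul]
      have e3 : v ^ (k * k + 1) = 1 := by
        rw [zpow_add, zpow_one, ← e2, ← e1, hvz, inv_mul_cancel]
      have e4 := orderOf_dvd_iff_zpow_eq_one.mpr e3
      rw [hov] at e4
      have h1 : k % 3 = 0 ∨ k % 3 = 1 ∨ k % 3 = 2 := by omega
      have e5 : (k * k + 1) % 3 = 0 := Int.emod_eq_zero_of_dvd (by exact_mod_cast e4)
      rcases h1 with h | h | h <;> simp [Int.add_emod, Int.mul_emod, h] at e5
    intro y hy
    obtain ⟨i, j, hij⟩ := gen_of_ind A comm exp3 hA9 hvA hwA hv1 hind y hy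
    rw [hij, ← conj_mul, ← conj_pow, ← conj_pow, hvz, hwz, inv_pow, inv_pow, mul_inv_rev]
    exact comm _ (A.inv_mem (A.pow_mem hvA i)) _ (A.inv_mem (A.pow_mem hwA j))
  -- T2: a nontrivial element of A centralized by s
  have hexa : ∃ a ∈ A, a ≠ 1 ∧ s * a * s⁻¹ = a := by
    by_contra hcon
    push Not at hcon
    have hsinv : ∀ x ∈ A, s * x * s⁻¹ = x⁻¹ := by
      intro x hx
      have hxs : s * x * s⁻¹ ∈ A := conj_mem x hx s
      have hfix : s * (x * (s * x * s⁻¹)) * s⁻¹ = x * (s * x * s⁻¹) := by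
        calc s * (x * (s * x * s⁻¹)) * s⁻¹ = (s * x * s⁻¹) * ((s * s) * x * (s * s)⁻¹) := by group
          _ = (s * x * s⁻¹) * x := by rw [ss, one_mul, inv_one, mul_one]
          _ = x * (s * x * s⁻¹) := comm _ hxs _ hx
      have h1 : x * (s * x * s⁻¹) = 1 := by
        by_contra h
        exact hcon _ (A.mul_mem hx hxs) h hfix
      exact (eq_inv_of_mul_eq_one_right h1)
    have hzs : z * s ∈ A := by
      apply cent
      intro x hx
      calc z * s * x * (z * s)⁻¹ = z * (s * x * s⁻¹) * z⁻¹ := by group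
        _ = z * x⁻¹ * z⁻¹ := by rw [hsinv x hx]
        _ = x := by rw [hzinv _ (A.inv_mem hx), inv_inv]
    have h2 : (z * s) ^ 2 = 1 := by
      rw [sq]
      calc z * s * (z * s) = z * (s * z) * s := by group
        _ = z * (z * s) * s := by rw [sz]
        _ = (z * z) * (s * s) := by group
        _ = 1 := by rw [zz, ss, one_mul]
    have h3 := triv23 _ h2 (exp3 _ hzs)
    apply hsz
    rw [← hz]
    have : s = z⁻¹ := eq_inv_of_mul_eq_one_right h3
    rw [this, zi]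
  obtain ⟨a, haA, ha1, hsa⟩ := hexa
  have R : Rel A r s a :=
    ⟨comm, exp3, hA9, conj_mem, hr4, hs2, hsr, fun x hx => hz ▸ hzinv x hx, haA, ha1, hsa⟩
  obtain ⟨b, hb⟩ : ∃ b, b = r * a * r⁻¹ := ⟨_, rfl⟩
  have hbA : b ∈ A := hb ▸ R.hb
  have hab : a * b = b * a := comm a haA b hbA
  have hrb : r * b * r⁻¹ = a⁻¹ := hb ▸ R.rb
  have hsb : s * b * s⁻¹ = b⁻¹ := hb ▸ R.sb
  have rsrs : r * s * (r * s) = 1 := by
    calc r * s * (r * s) = r * (s * r) * s := by group
      _ = r * (r⁻¹ * s) * s := by rw [sr']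
      _ = s * s := by group
      _ = 1 := ss
  have R' : Rel A r (r * s) (a * b) := by
    refine ⟨comm, exp3, hA9, conj_mem, hr4, by rw [sq]; exact rsrs, ?_,
      fun x hx => hz ▸ hzinv x hx, A.mul_mem haA hbA, ?_, ?_⟩
    · calc r * s * r * (r * s)⁻¹ = r * (s * r * s⁻¹) * r⁻¹ := by group
        _ = r⁻¹ := by rw [hsr]; group
    · intro h
      have : b = a ^ (-1 : ℤ) := by
        rw [zpow_neg, zpow_one]; exact (eq_inv_of_mul_eq_one_right h)
      exact R.ind (-1) (hb ▸ this)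
    · calc r * s * (a * b) * (r * s)⁻¹
          = r * ((s * a * s⁻¹) * (s * b * s⁻¹)) * r⁻¹ := by group
        _ = r * (a * b⁻¹) * r⁻¹ := by rw [hsa, hsb]
        _ = (r * a * r⁻¹) * (r * b * r⁻¹)⁻¹ := by group
        _ = b * a := by rw [← hb, hrb, inv_inv]
        _ = a * b := hab.symm
  -- irreducibility in terms of generators
  have htop : ∀ g : S, g ∈ Subgroup.closure ((A : Set S) ∪ {r, s}) := by
    intro g
    have h1 : A ≤ Subgroup.closure ((A : Set S) ∪ {r, s}) := fun x hx =>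
      Subgroup.subset_closure (Or.inl hx)
    have h2 : X ≤ Subgroup.closure ((A : Set S) ∪ {r, s}) :=
      hXcl.trans (Subgroup.closure_mono Set.subset_union_right)
    have : (⊤ : Subgroup S) ≤ Subgroup.closure ((A : Set S) ∪ {r, s}) := by
      rw [← hAX]; exact sup_le h1 h2
    exact this (Subgroup.mem_top g)
  have hirr1 : ∀ N : Submodule (ZMod 2) M, (∀ x ∈ A, ∀ m ∈ N, ρ x m ∈ N) →
      (∀ m ∈ N, ρ r m ∈ N) → (∀ m ∈ N, ρ s m ∈ N) → N = ⊥ ∨ N = ⊤ := by
    intro N hNA hNr hNs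
    apply hirr N
    intro g
    induction htop g using Subgroup.closure_induction with
    | mem x hx =>
      rcases hx with hx | hx | hx
      · exact hNA x hx
      · rw [hx]; exact hNr
      · rw [Set.mem_singleton_iff.mp hx]; exact hNs
    | one => intro m hm; rw [rho_one]; exact hm
    | mul x y _ _ ihx ihy => intro m hm; rw [← rho_mul]; exact ihx _ (ihy m hm)
    | inv x _ ih => exact inv_invariant ρ N x ih
  have hirr2 : ∀ N : Submodule (ZMod 2) M, (∀ x ∈ A, ∀ m ∈ N, ρ x m ∈ N) →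
      (∀ m ∈ N, ρ r m ∈ N) → (∀ m ∈ N, ρ (r * s) m ∈ N) → N = ⊥ ∨ N = ⊤ := by
    intro N hNA hNr hNrs
    apply hirr1 N hNA hNr
    intro m hm
    have : s = r⁻¹ * (r * s) := by group
    rw [this, ← rho_mul]
    exact inv_invariant ρ N r hNr _ (hNrs m hm)
  have hρ1 : ∀ g : S, g ≠ 1 → ρ g ≠ 1 := by
    intro g hg h
    apply hg
    apply hfaith
    rw [h, map_one]
  -- the two four-groups
  have hzrs : z * (r * s) = r * s * z := by
    calc z * (r * s) = (z * r) * s := by group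
      _ = (r * z) * s := by rw [rz]
      _ = r * (z * s) := by group
      _ = r * (s * z) := by rw [sz]
      _ = r * s * z := by group
  have hzX : z ∈ X := hz ▸ X.pow_mem hrX 2
  have hsz' : s ≠ z := hz ▸ hsz
  have hrs1 : r * s ≠ 1 := by
    intro h
    have : r = s := by rw [← si]; exact eq_inv_of_mul_eq_one_left h
    apply z1
    rw [zrr, this]; exact ss
  have hrsz : r * s ≠ z := by
    intro h
    rw [zrr] at h
    have : s = r := mul_left_cancel h
    apply z1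
    rw [zrr, ← this]; exact ss
  have hV1X : fourSub z s zz ss sz.symm ≤ X := fourSub_le hzX hsX
  have hV2X : fourSub z (r * s) zz rsrs hzrs ≤ X := fourSub_le hzX (X.mul_mem hrX hsX)
  have hV1c : Nat.card (fourSub z s zz ss sz.symm) = 4 := card_fourSub z1 hs1 hsz'
  have hV2c : Nat.card (fourSub z (r * s) zz rsrs hzrs) = 4 := card_fourSub z1 hrs1 hrsz
  have fixcard : ∀ (t : S) (ht : t * t = 1) (hc : z * t = t * z),
      Nat.card {m : M // ∀ b ∈ fourSub z t zz ht hc, ρ b m = m} =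
        Nat.card {m : M // ρ z m = m ∧ ρ t m = m} := fun t ht hc =>
    Nat.card_congr (Equiv.subtypeEquivRight (fix_fourSub ρ))
  have huniq : ∀ B : Subgroup S, B ≤ X → Nat.card B = 4 → (∀ b ∈ B, b ^ 2 = 1) →
      B = fourSub z s zz ss sz.symm ∨ B = fourSub z (r * s) zz rsrs hzrs := by
    intro B hBX hB4 hBe
    have : Finite B := Nat.finite_of_card_ne_zero (by rw [hB4]; norm_num)
    obtain ⟨hzB, hsB | hrsB⟩ := hB B hBX hB4 hBe
    · left
      exact (Subgroup.eq_of_le_of_card_ge (fourSub_le (hz ▸ hzB) hsB) (by rw [hV1c, hB4])).symm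
    · right
      exact (Subgroup.eq_of_le_of_card_ge (fourSub_le (hz ▸ hzB) hrsB) (by rw [hV2c, hB4])).symm
  -- fixed space transfers
  have g1 : b * r = r * a := by rw [hb]; exact R.g1
  have g2 : a * r = r * b⁻¹ := by rw [hb]; exact R.g2
  have g3 : a * s = s * a := R.g3
  have g4 : b * s = s * b⁻¹ := by rw [hb]; exact R.g4
  have r12 : ∀ m, ρ a m = m → ρ b (ρ r m) = ρ r m := fun m hm => fix_conj ρ g1 hm
  have r21 : ∀ m, ρ b m = m → ρ a (ρ r m) = ρ r m := fun m hm => fix_conj ρ g2 (fix_inv ρ hm)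
  have s11 : ∀ m, ρ a m = m → ρ a (ρ s m) = ρ s m := fun m hm => fix_conj ρ g3 hm
  have s22 : ∀ m, ρ b m = m → ρ b (ρ s m) = ρ s m := fun m hm => fix_conj ρ g4 (fix_inv ρ hm)
  have A11 : ∀ x ∈ A, ∀ m, ρ a m = m → ρ a (ρ x m) = ρ x m := fun x hx m hm =>
    fix_conj ρ (comm a haA x hx) hm
  have A22 : ∀ x ∈ A, ∀ m, ρ b m = m → ρ b (ρ x m) = ρ x m := fun x hx m hm =>
    fix_conj ρ (comm b hbA x hx) hm
  have hN1 : fixS ρ a ⊔ fixS ρ b = ⊥ ∨ fixS ρ a ⊔ fixS ρ b = ⊤ := by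
    apply hirr1
    · intro x hx m hm
      obtain ⟨u, hu, v, hv, rfl⟩ := Submodule.mem_sup.mp hm
      rw [map_add]
      exact add_mem ((le_sup_left : fixS ρ a ≤ _) (A11 x hx u hu))
        ((le_sup_right : fixS ρ b ≤ _) (A22 x hx v hv))
    · intro m hm
      obtain ⟨u, hu, v, hv, rfl⟩ := Submodule.mem_sup.mp hm
      rw [map_add]
      exact add_mem ((le_sup_right : fixS ρ b ≤ _) (r12 u hu))
        ((le_sup_left : fixS ρ a ≤ _) (r21 v hv))
    · intro m hm
      obtain ⟨u, hu, v, hv, rfl⟩ := Submodule.mem_sup.mp hm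
      rw [map_add]
      exact add_mem ((le_sup_left : fixS ρ a ≤ _) (s11 u hu))
        ((le_sup_right : fixS ρ b ≤ _) (s22 v hv))
  rcases hN1 with hN | hN
  · -- case 2: the other pair of lines
    have ha0 : ∀ m, ρ a m = m → m = 0 := fun m hm => by
      have : m ∈ fixS ρ a ⊔ fixS ρ b := (le_sup_left : fixS ρ a ≤ _) hm
      rw [hN] at this; exact (Submodule.mem_bot _).mp this
    have hb0 : ∀ m, ρ b m = m → m = 0 := fun m hm => by
      have : m ∈ fixS ρ a ⊔ fixS ρ b := (le_sup_right : fixS ρ b ≤ _) hm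
      rw [hN] at this; exact (Submodule.mem_bot _).mp this
    have a3 : a * a * a = 1 := by
      have := exp3 a haA; rw [pow_succ, sq] at this; exact this
    have b3 : b * b * b = 1 := by
      have := exp3 b hbA; rw [pow_succ, sq] at this; exact this
    have hconj : r * (a * b) * r⁻¹ = a⁻¹ * b := by
      calc r * (a * b) * r⁻¹ = (r * a * r⁻¹) * (r * b * r⁻¹) := by group
        _ = b * a⁻¹ := by rw [← hb, hrb]
        _ = a⁻¹ * b := comm b hbA _ (A.inv_mem haA)
    have hsum : ∀ m : M, ∃ m₁ m₂ : M, ρ (a * b) m₁ = m₁ ∧ ρ (r * (a * b) * r⁻¹) m₂ = m₂ ∧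
        m = m₁ + m₂ := by
      intro m
      obtain ⟨m₁, m₂, m₃, m₄, h1, h2, h3, h4, rfl⟩ := decomp ρ a b hab a3 b3 m
      refine ⟨m₃, m₄, h3, by rw [hconj]; exact h4, ?_⟩
      rw [ha0 m₁ h1, hb0 m₂ h2, zero_add, zero_add]
    obtain ⟨h16, h4, h2⟩ := main ρ R' (hρ1 _ R'.ha1) hirr2 hsum
    rw [← hz] at h4 h2
    have h2' : Nat.card {m : M // ρ z m = m ∧ ρ s m = m} = 2 := by
      refine (Nat.card_congr ?_).trans h2
      apply Equiv.subtypeEquivRight
      intro m
      have hrrs : r * (r * s) = z * s := by rw [zrr]; group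
      constructor
      · rintro ⟨h1, h2''⟩
        refine ⟨h1, ?_⟩
        rw [hrrs, ← rho_mul, h2'', h1]
      · rintro ⟨h1, h2''⟩
        refine ⟨h1, ?_⟩
        rw [hrrs, ← rho_mul] at h2''
        have : ρ z (ρ z (ρ s m)) = ρ z m := by rw [h2'']
        rw [rho_mul, zz, rho_one, h1] at this
        exact this
    refine ⟨h16, fourSub z s zz ss sz.symm, ⟨hV1X, hV1c, sq_fourSub, ?_⟩, ?_⟩
    · rw [fixcard]; exact h2'
    · rintro B ⟨hBX, hB4, hBe, hBf⟩
      rcases huniq B hBX hB4 hBe with h | h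
      · exact h
      · exfalso
        rw [h, fixcard, h4] at hBf
        norm_num at hBf
  · -- case 1
    have hsum : ∀ m : M, ∃ m₁ m₂ : M, ρ a m₁ = m₁ ∧ ρ (r * a * r⁻¹) m₂ = m₂ ∧
        m = m₁ + m₂ := by
      intro m
      have : m ∈ fixS ρ a ⊔ fixS ρ b := by rw [hN]; trivial
      obtain ⟨u, hu, v, hv, huv⟩ := Submodule.mem_sup.mp this
      exact ⟨u, v, hu, by rw [← hb]; exact hv, huv.symm⟩
    obtain ⟨h16, h4, h2⟩ := main ρ R (hρ1 _ ha1) hirr1 hsum
    rw [← hz] at h4 h2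
    refine ⟨h16, fourSub z (r * s) zz rsrs hzrs, ⟨hV2X, hV2c, sq_fourSub, ?_⟩, ?_⟩
    · rw [fixcard]; exact h2
    · rintro B ⟨hBX, hB4, hBe, hBf⟩
      rcases huniq B hBX hB4 hBe with h | h
      · exfalso
        rw [h, fixcard, h4] at hBf
        norm_num at hBf
      · exact h

end Cfsg.Agent.S4407
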