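import Mathlib
import Cfsg.Statements.S4408
import Cfsg.Agent.Lib.Helper14.InvAb3
import Cfsg.Agent.Lib.Helper7.Coprime
import Cfsg.Agent.Lib.Helper7.Fitting
import Cfsg.Agent.Lib.Helper16.Solvable2

set_option autoImplicit false
open Cfsg

namespace Cfsg.Agent.S4408

open Cfsg.Agent.Helper14.InvAb in
/-- Let S be a finite solvable group whose Fitting subgroup F(S) has odd order, and let I be an elementary abelian 2-subgroup of S of order 2ⁿ with n ≥ 1. Then F(S) contains subgroups A₁, …, Aₙ of prime order, each normalized by I, pairwise commuting and generating a subgroup A of order |A₁|⋯|Aₙ| (their internal direct product), such that no non-identity element of I centralizes A. -/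
theorem result {S : Type*} [Group S] [Finite S]
    [Group.IsSolvable S] (hF : Odd (Nat.card ↥(Cfsg.fittingSubgroup S)))
    (I : Subgroup S) (hI : Cfsg.IsElementaryAbelian 2 I) (n : ℕ) (hn : 1 ≤ n) (hIn : Nat.card ↥I = 2 ^ n) :
    ∃ f : Fin n → Subgroup S, (∀ i, (Nat.card ↥(f i)).Prime) ∧ (∀ i, f i ≤ Cfsg.fittingSubgroup S) ∧
      (∀ i, I ≤ Subgroup.normalizer ((f i) : Set S)) ∧ (∀ i j, i ≠ j → ∀ a ∈ f i, ∀ b ∈ f j, a * b = b * a) ∧
      Nat.card ↥(⨆ i, f i) = ∏ i, Nat.card ↥(f i) ∧ I ⊓ Subgroup.centralizer ((⨆ i, f i : Subgroup S) : Set S) = ⊥ := by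
  classical
  have hIc : ∀ s ∈ I, ∀ t ∈ I, s * t = t * s := by
    intro s hs t ht
    have := hI.1.is_comm.comm (⟨s, hs⟩ : ↥I) ⟨t, ht⟩
    exact congrArg Subtype.val this
  have hI2 : ∀ t ∈ I, t * t = 1 := by
    intro t ht
    rw [← pow_two]; exact hI.2 t ht
  set F := Cfsg.fittingSubgroup S with hFdef
  haveI hFn : F.Normal := Cfsg.Agent.Helper7.fittingSubgroup_normal'
  have hFnil : Group.IsNilpotent ↥F := Cfsg.Agent.Helper7.fittingSubgroup_isNilpotent
  have hFI : Inv I F := fun t _ y hy => hFn.conj_mem y hy t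
  -- a maximal `I`-invariant abelian subgroup of `F`
  let 𝔅 : Set (Subgroup S) := {B | B ≤ F ∧ Inv I B ∧ ∀ x ∈ B, ∀ y ∈ B, x * y = y * x}
  have h𝔅 : 𝔅.Nonempty := by
    refine ⟨⊥, bot_le, ?_, ?_⟩
    · intro t _ y hy
      rw [Subgroup.mem_bot] at hy; subst hy; simp
    · intro x hx y hy
      rw [Subgroup.mem_bot] at hx hy; subst hx; subst hy; rfl
  obtain ⟨B, hB𝔅, hBmax⟩ := Set.exists_max_image 𝔅 (fun Z => Nat.card Z) (Set.toFinite _) h𝔅
  obtain ⟨hBF, hBI, hBab⟩ := hB𝔅
  have hBodd : Odd (Nat.card B) := Odd.of_dvd_nat hF (Subgroup.card_dvd_of_le hBF)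
  have hself : F ⊓ Subgroup.centralizer (B : Set S) ≤ B := by
    apply max_abelian_self_centralizing I F B hIc hI2 hFI hF hFnil hBF hBI hBab
    intro B' hBB' hB'F hB'I hB'ab
    exact (Subgroup.eq_of_le_of_card_ge hBB' (hBmax B' ⟨hB'F, hB'I, hB'ab⟩)).symm
  -- `I` acts faithfully on `B`
  have hfaith : I ⊓ Subgroup.centralizer (B : Set S) = ⊥ := by
    rw [eq_bot_iff]
    intro k hk
    obtain ⟨hkI, hkB⟩ := Subgroup.mem_inf.1 hk
    rw [Subgroup.mem_bot]
    have hk2 : k ^ 2 = 1 := hI.2 k hkI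
    have hord : orderOf k ∣ 2 := orderOf_dvd_of_pow_eq_one hk2
    have hzB : Subgroup.zpowers k ≤ Subgroup.centralizer (B : Set S) :=
      Subgroup.zpowers_le.mpr hkB
    have hcent : F ≤ Subgroup.centralizer (Subgroup.zpowers k : Set S) := by
      apply Cfsg.Agent.Helper7.thompson_AxB F (Subgroup.zpowers k) B
      · rw [Subgroup.normalizer_eq_top]; exact le_top
      · rw [Subgroup.normalizer_eq_top]; exact le_top
      · exact Subgroup.commutator_eq_bot_iff_le_centralizer.mpr hzB
      · rw [Nat.card_zpowers]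
        exact Nat.Coprime.coprime_dvd_left hord (Nat.coprime_two_left.mpr hF)
      · rw [sup_eq_left.mpr hBF]; exact hFnil
      · exact hself.trans (Subgroup.le_centralizer_iff.mp hzB)
    have hkF : k ∈ F := by
      apply Cfsg.Agent.Helper16.centralizer_fittingSubgroup_le_of_isSolvable
        (inferInstance : Group.IsSolvable S)
      exact (Subgroup.le_centralizer_iff.mp hcent) (Subgroup.mem_zpowers k)
    have hodd : Odd (orderOf k) := odd_orderOf_of_mem hF hkF
    have h1 : orderOf k = 1 := by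
      rcases (Nat.dvd_prime Nat.prime_two).mp hord with h | h
      · exact h
      · rw [h] at hodd; exact absurd hodd (by decide)
    exact orderOf_eq_one_iff.mp h1
  obtain ⟨f, hfp, hfB, hfI, hfcard, hK⟩ :=
    family_step I B hIc hI2 hBI hBodd hBab hfaith n hIn n le_rfl
  refine ⟨f, hfp, fun i => (hfB i).trans hBF, ?_, ?_, hfcard, ?_⟩
  · intro i t ht
    rw [Subgroup.mem_normalizer_iff]
    intro h
    constructor
    · intro hh; exact hfI i t ht h hh
    · intro hh
      have := inv_conj_mem (hfI i) ht hh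
      have e : t⁻¹ * (t * h * t⁻¹) * t = h := by group
      rwa [e] at this
  · intro i j _ a ha b hb
    exact hBab a (hfB i ha) b (hfB j hb)
  · rw [Nat.sub_self, pow_zero] at hK
    exact Subgroup.card_eq_one.mp hK

end Cfsg.Agent.S4408
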