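import Mathlib
import Cfsg.Agent.Lib.Helper22.TvSolvA
import Cfsg.Agent.Lib.Helper1.FittingSolvable
import Cfsg.Agent.Lib.Helper14.Basic
import Cfsg.Statements.S4410
-- import your own Cfsg.Agent.* helpers here

set_option autoImplicit false
open Cfsg

namespace Cfsg.Agent.S4410

open Cfsg.Agent.Helper22.TvSolv

theorem odd_card_fitting {G : Type*} [Group G] [Finite G] (hO2 : Cfsg.pCore 2 G = ⊥) :
    Odd (Nat.card (Cfsg.fittingSubgroup G)) := by
  haveI hOn : (Cfsg.fittingSubgroup G).Normal := Cfsg.Agent.Helper7.fittingSubgroup_normal'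
  haveI hOnil : Group.IsNilpotent (Cfsg.fittingSubgroup G) :=
    Cfsg.Agent.Helper7.fittingSubgroup_isNilpotent
  by_contra hodd
  rw [Nat.not_odd_iff_even, even_iff_two_dvd] at hodd
  haveI : Fact (Nat.Prime 2) := ⟨Nat.prime_two⟩
  obtain ⟨T⟩ : Nonempty (Sylow 2 (Cfsg.fittingSubgroup G)) := inferInstance
  have hTne : (T : Subgroup (Cfsg.fittingSubgroup G)) ≠ ⊥ := T.ne_bot_of_dvd_card hodd
  haveI hTn : (T : Subgroup (Cfsg.fittingSubgroup G)).Normal := inferInstance
  haveI : (T : Subgroup (Cfsg.fittingSubgroup G)).Characteristic :=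
    T.characteristic_of_normal hTn
  have hmapn : ((T : Subgroup (Cfsg.fittingSubgroup G)).map
      (Cfsg.fittingSubgroup G).subtype).Normal := inferInstance
  have hp : IsPGroup 2 ((T : Subgroup (Cfsg.fittingSubgroup G)).map
      (Cfsg.fittingSubgroup G).subtype) := T.2.map _
  have hle := Cfsg.Agent.Helper14.le_pCore hmapn hp
  rw [hO2, le_bot_iff] at hle
  apply hTne
  exact (Subgroup.map_eq_bot_iff_of_injective _ (Cfsg.fittingSubgroup G).subtype_injective).mp hle

theorem no_tv_square {V : Type*} [AddCommGroup V] [Module (ZMod 2) V]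
    {G : Type*} [Group G] [Finite G] [Group.IsSolvable G] (hO2 : Cfsg.pCore 2 G = ⊥)
    (ρ : G →* (V ≃ₗ[ZMod 2] V)) (hρ : Function.Injective ρ)
    (x : G) (hx4 : x ^ 4 = 1) (ht1 : x ^ 2 ≠ 1) (c : V) (hc : Tv (ρ (x ^ 2)) c) : False := by
  classical
  set t := x ^ 2 with ht
  have ht2 : t * t = 1 := by
    rw [ht, ← pow_add]
    exact hx4
  have htinv : t⁻¹ = t := inv_eq_of_mul_eq_one_left ht2
  have hxt : x * t = t * x := by
    rw [ht]
    group
  haveI hOn : (Cfsg.fittingSubgroup G).Normal := Cfsg.Agent.Helper7.fittingSubgroup_normal'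
  have hOodd : Odd (Nat.card (Cfsg.fittingSubgroup G)) := odd_card_fitting hO2
  have hCO : Subgroup.centralizer (Cfsg.fittingSubgroup G : Set G) ≤ Cfsg.fittingSubgroup G :=
    Cfsg.Agent.Helper1.centralizer_fittingSubgroup_le_of_isSolvable
  set O := Cfsg.fittingSubgroup G with hO
  set n := Nat.card O with hn
  have hOpow : ∀ o ∈ O, o ^ n = 1 := by
    intro o ho
    have := pow_card_eq_one' (G := O) (x := ⟨o, ho⟩)
    exact congrArg Subtype.val this
  have htO : t ∉ O := by
    intro h
    apply ht1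
    refine eq_one_of_pow_four hOodd (hOpow t h) ?_
    rw [show (4 : ℕ) = 2 + 2 from rfl, pow_add, pow_two, ht2, one_mul]
  obtain ⟨y, hyO, hyt⟩ : ∃ y ∈ O, y * t ≠ t * y := by
    by_contra hcon
    push Not at hcon
    apply htO
    apply hCO
    rw [Subgroup.mem_centralizer_iff]
    intro h hh
    exact hcon h hh
  -- the class
  let InD : G → Prop := fun g => (∃ y : G, g = y⁻¹ * t * y) ∧ t * g ∈ O
  have hD_t : InD t := ⟨⟨1, by group⟩, by rw [ht2]; exact O.one_mem⟩
  have hD_sq : ∀ g, InD g → g * g = 1 := by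
    rintro g ⟨⟨y, rfl⟩, _⟩
    calc y⁻¹ * t * y * (y⁻¹ * t * y) = y⁻¹ * (t * t) * y := by group
      _ = 1 := by rw [ht2]; group
  have hD_inv : ∀ g, InD g → g⁻¹ = g := fun g hg => inv_eq_of_mul_eq_one_left (hD_sq g hg)
  have hD_tv : ∀ g, InD g → ∃ cg, Tv (ρ g) cg := by
    rintro g ⟨⟨y, rfl⟩, _⟩
    refine ⟨(ρ y)⁻¹ c, ?_⟩
    have := hc.conj (ρ y)
    rwa [map_mul, map_mul, map_inv]
  have hD_gt : ∀ g, InD g → g * t ∈ O := by
    rintro g ⟨_, hg⟩
    have := hOn.conj_mem (t * g) hg t⁻¹
    rw [inv_inv, htinv] at this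
    have h2 : t * (t * g) * t = g * t := by
      calc t * (t * g) * t = (t * t) * g * t := by group
        _ = g * t := by rw [ht2, one_mul]
    rwa [h2] at this
  have hD_mul : ∀ d e, InD d → InD e → d * e ∈ O := by
    intro d e hd he
    have h1 := hD_gt d hd
    have h2 := he.2
    have h3 : d * e = (d * t) * (t * e) := by
      calc d * e = d * (t * t) * e := by rw [ht2, mul_one]
        _ = (d * t) * (t * e) := by group
    rw [h3]
    exact O.mul_mem h1 h2
  have hD_odd : ∀ d e, InD d → InD e → (ρ d * ρ e) ^ n = 1 := by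
    intro d e hd he
    rw [← map_mul, ← map_pow, hOpow _ (hD_mul d e hd he), map_one]
  have hD_conj : ∀ d e, InD d → InD e → InD (e * d * e) := by
    intro d e hd he
    refine ⟨?_, ?_⟩
    · obtain ⟨y, hy⟩ := hd.1
      refine ⟨y * e, ?_⟩
      rw [hy, mul_inv_rev, hD_inv e he]
      group
    · have h1 : t * (e * d * e) = (t * e) * (d * e) := by group
      rw [h1]
      exact O.mul_mem he.2 (hD_mul d e hd he)
  have hD_x : ∀ g, InD g → InD (x * g * x⁻¹) := by
    intro g hg
    refine ⟨?_, ?_⟩
    · obtain ⟨y, hy⟩ := hg.1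
      refine ⟨y * x⁻¹, ?_⟩
      rw [hy]
      group
    · have h1 : t * (x * g * x⁻¹) = x * (t * g) * x⁻¹ := by
        calc t * (x * g * x⁻¹) = (t * x) * g * x⁻¹ := by group
          _ = (x * t) * g * x⁻¹ := by rw [hxt]
          _ = x * (t * g) * x⁻¹ := by group
      rw [h1]
      exact hOn.conj_mem _ hg.2 x
  have hthree : ∀ d e f, InD d → InD e → InD f → d ≠ e → f = d ∨ f = e ∨ f = e * d * e := by
    intro d e f hd he hf hne
    obtain ⟨cd, hcd⟩ := hD_tv d hd
    obtain ⟨ce, hce⟩ := hD_tv e he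
    obtain ⟨cf, hcf⟩ := hD_tv f hf
    have hsq : ∀ g, InD g → ρ g * ρ g = 1 := by
      intro g hg
      rw [← map_mul, hD_sq g hg, map_one]
    have h4 : (ρ e * ρ d * ρ e * ρ f) ^ n = 1 := by
      have := hD_odd (e * d * e) f (hD_conj d e hd he) hf
      rwa [map_mul, map_mul] at this
    have := three hcd hce hcf (hsq d hd) (hsq e he) (hsq f hf) hOodd hOodd hOodd hOodd
      (hD_odd d e hd he) (hD_odd d f hd hf) (hD_odd e f he hf) h4 (fun h => hne (hρ h))
    rcases this with h | h | h
    · exact Or.inl (hρ h)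
    · exact Or.inr (Or.inl (hρ h))
    · refine Or.inr (Or.inr (hρ ?_))
      rw [h, map_mul, map_mul]
  -- a second element of the class
  set b := y⁻¹ * t * y with hb
  have hbD : InD b := by
    refine ⟨⟨y, rfl⟩, ?_⟩
    have h1 : t * b = (t * y⁻¹ * t⁻¹) * y := by
      rw [hb, htinv]
      group
    rw [h1]
    exact O.mul_mem (hOn.conj_mem _ (O.inv_mem hyO) t) hyO
  have hbt : b ≠ t := by
    intro h
    apply hyt
    calc y * t = y * b := by rw [h]
      _ = t * y := by rw [hb]; group
  have hb2 : b * b = 1 := hD_sq b hbD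
  -- `t` and `b` do not commute
  have hncomm : t * b * t ≠ b := by
    intro h
    have hcomm : t * b = b * t := by
      calc t * b = (t * b * t) * t⁻¹ := by group
        _ = b * t := by rw [h, htinv]
    have h4 : (t * b) ^ 4 = 1 := by
      have h2 : (t * b) * (t * b) = 1 := by
        calc (t * b) * (t * b) = t * (b * t) * b := by group
          _ = t * (t * b) * b := by rw [hcomm]
          _ = (t * t) * (b * b) := by group
          _ = 1 := by rw [ht2, hb2, one_mul]
      rw [show (4 : ℕ) = 2 + 2 from rfl, pow_add, pow_two, h2, one_mul]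
    have h1 := eq_one_of_pow_four hOodd (hOpow _ (hD_mul t b hD_t hbD)) h4
    apply hbt
    calc b = t⁻¹ * (t * b) := by group
      _ = t := by rw [h1, mul_one, htinv]
  -- braid relation
  have htbt : InD (t * b * t) := hD_conj b t hbD hD_t
  have hbraid : t * b * t = b * t * b := by
    rcases hthree t b (t * b * t) hD_t hbD htbt (Ne.symm hbt) with h | h | h
    · exfalso
      apply hbt
      calc b = t⁻¹ * (t * b * t) * t⁻¹ := by group
        _ = t := by rw [h, htinv, ht2, one_mul]
    · exact absurd h hncomm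
    · exact h
  -- conjugate by `x`
  have hxb : InD (x * b * x⁻¹) := hD_x b hbD
  have hxbt : x * b * x⁻¹ ≠ t := by
    intro h
    apply hbt
    have h1 : x * t * x⁻¹ = t := by
      rw [hxt]
      group
    calc b = x⁻¹ * (x * b * x⁻¹) * x := by group
      _ = x⁻¹ * (x * t * x⁻¹) * x := by rw [h, h1]
      _ = t := by group
  have htx : t = x * x := by rw [ht, pow_two]
  have hxx : t * b * t = x * (x * b * x⁻¹) * x⁻¹ := by
    calc t * b * t = t * b * t⁻¹ := by rw [htinv]
      _ = (x * x) * b * (x * x)⁻¹ := by rw [← htx]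
      _ = x * (x * b * x⁻¹) * x⁻¹ := by group
  rcases hthree t b (x * b * x⁻¹) hD_t hbD hxb (Ne.symm hbt) with h | h | h
  · exact hxbt h
  · apply hncomm
    rw [hxx, h, h]
  · apply hncomm
    rw [hxx, h]
    have h1 : x * t * x⁻¹ = t := by
      rw [hxt]
      group
    have h2 : x * (b * t * b) * x⁻¹ = (x * b * x⁻¹) * (x * t * x⁻¹) * (x * b * x⁻¹) := by group
    rw [h2, h, h1]
    -- (btb) t (btb) = b using the braid relation
    calc b * t * b * t * (b * t * b) = (b * t * b) * t * (b * t * b) := by group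
      _ = (t * b * t) * t * (t * b * t) := by rw [hbraid]
      _ = t * b * (t * t) * (t * b * t) := by group
      _ = t * b * (t * b * t) := by rw [ht2, mul_one]
      _ = t * b * (b * t * b) := by rw [hbraid]
      _ = t * (b * b) * t * b := by group
      _ = b := by rw [hb2, mul_one, ht2, one_mul]


/-- Let V be a finite-dimensional vector space over the field with two elements and S a solvable group of linear automorphisms of V with O₂(S) = 1. If P ∈ S has order 4 and (P − 1)³ = 0 on V, then the image of (P − 1)² has at least 4 elements; equivalently, in the decomposition of V into indecomposable modules for the cyclic group generated by P, at least two summands have dimension 3. -/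
theorem result
    {V : Type*} [AddCommGroup V] [Module (ZMod 2) V] [Finite V]
    (S : Subgroup (V ≃ₗ[ZMod 2] V)) (hS : Group.IsSolvable ↥S) (hO2 : Cfsg.pCore 2 ↥S = ⊥)
    (P : V ≃ₗ[ZMod 2] V) (hPS : P ∈ S) (hP4 : orderOf P = 4)
    (hcub : ((P : V →ₗ[ZMod 2] V) - LinearMap.id) ^ 3 = 0) :
    4 ≤ Nat.card ↥(LinearMap.range (((P : V →ₗ[ZMod 2] V) - LinearMap.id) ^ 2)) := by
  classical
  by_contra hlt
  push Not at hlt
  have hNapp : ∀ v, ((((P : V →ₗ[ZMod 2] V) - LinearMap.id) ^ 2 : V →ₗ[ZMod 2] V)) v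
      = (P * P) v + v := by
    intro v
    have hsub : ∀ a b : V, a - b = a + b := by
      intro a b
      rw [sub_eq_add_neg]
      congr 1
      exact neg_eq_of_add_eq_zero_left (add_self_z2 b)
    simp only [pow_two, Module.End.mul_apply, LinearMap.sub_apply, LinearMap.id_apply,
      LinearEquiv.coe_coe, map_sub, LinearEquiv.mul_apply]
    rw [hsub, hsub, hsub]
    calc P (P v) + P v + (P v + v) = P (P v) + (P v + P v) + v := by abel
      _ = P (P v) + v := by rw [add_self_z2, add_zero]
  have hPow4 : P ^ 4 = 1 := by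
    rw [← hP4]
    exact pow_orderOf_eq_one P
  have hP2 : P ^ 2 ≠ 1 := by
    intro h
    have := orderOf_dvd_of_pow_eq_one h
    rw [hP4] at this
    omega
  have hfr : Module.finrank (ZMod 2)
      (LinearMap.range (((P : V →ₗ[ZMod 2] V) - LinearMap.id) ^ 2)) ≤ 1 := by
    by_contra h
    push Not at h
    have hcard := Module.natCard_eq_pow_finrank (K := ZMod 2)
      (V := LinearMap.range (((P : V →ₗ[ZMod 2] V) - LinearMap.id) ^ 2))
    have h2 : Nat.card (ZMod 2) = 2 := by simp
    rw [h2] at hcard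
    have : 2 ^ 2 ≤ 2 ^ Module.finrank (ZMod 2)
        (LinearMap.range (((P : V →ₗ[ZMod 2] V) - LinearMap.id) ^ 2)) :=
      Nat.pow_le_pow_right (by norm_num) h
    omega
  obtain ⟨⟨c, hcR⟩, hgen⟩ := finrank_le_one_iff.mp hfr
  have hNc : ∀ w, (P * P) w + w = 0 ∨ (P * P) w + w = c := by
    intro w
    obtain ⟨a, ha⟩ := hgen ⟨_, ⟨w, rfl⟩⟩
    have ha' : a • c = (P * P) w + w := by
      rw [← hNapp]
      exact congrArg Subtype.val ha
    rcases (by decide : ∀ a : ZMod 2, a = 0 ∨ a = 1) a with h | h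
    · left
      rw [← ha', h, zero_smul]
    · right
      rw [← ha', h, one_smul]
  have hadd : ∀ a w : V, a + w = 0 → a = w := by
    intro a w h
    calc a = a + (w + w) := by rw [add_self_z2, add_zero]
      _ = (a + w) + w := by abel
      _ = w := by rw [h, zero_add]
  have hadd' : ∀ a w : V, a + w = c → a = w + c := by
    intro a w h
    calc a = a + (w + w) := by rw [add_self_z2, add_zero]
      _ = w + (a + w) := by abel
      _ = w + c := by rw [h]
  have hPP : P * P = P ^ 2 := (pow_two P).symm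
  have hc0 : c ≠ 0 := by
    intro h0
    apply hP2
    rw [← hPP]
    ext v
    rcases hNc v with h | h
    · exact hadd _ _ h
    · rw [h0] at h
      exact hadd _ _ h
  have hTv : Tv (P * P) c := by
    constructor
    · intro v
      rcases hNc v with h | h
      · exact Or.inl (hadd _ _ h)
      · exact Or.inr (hadd' _ _ h)
    · obtain ⟨v₀, hv₀⟩ := hcR
      rw [hNapp] at hv₀
      have h4 : (P * P) ((P * P) v₀) = v₀ := by
        have : (P * P) * (P * P) = 1 := by
          rw [hPP, ← pow_add]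
          exact hPow4
        rw [← LinearEquiv.mul_apply, this]
        rfl
      rw [← hv₀, map_add, h4, add_comm]
  haveI := hS
  haveI : Finite (V ≃ₗ[ZMod 2] V) :=
    Finite.of_injective (fun f : V ≃ₗ[ZMod 2] V => f.toEquiv) LinearEquiv.toEquiv_injective
  have hx2 : S.subtype ((⟨P, hPS⟩ : S) ^ 2) = P * P := by
    rw [pow_two]
    rfl
  refine no_tv_square (G := S) hO2 S.subtype S.subtype_injective ⟨P, hPS⟩ ?_ ?_ c ?_
  · apply Subtype.ext
    rw [Subgroup.coe_pow]
    exact hPow4
  · intro h
    apply hP2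
    have := congrArg Subtype.val h
    rwa [Subgroup.coe_pow] at this
  · rw [hx2]
    exact hTv

end Cfsg.Agent.S4410
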