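import Mathlib
import Cfsg.Statements.S4412
import Cfsg.Agent.Lib.Helper21.TwoCube

set_option autoImplicit false
open Cfsg

namespace Cfsg.Agent.S4412

open Cfsg.Agent.Helper21.TwoCube Cfsg.Agent.Helper1.CoprimeProd

universe u

/-- the fixed points of `T` form a cyclic subgroup -/
def Cyc {P : Type u} [Group P] (T : MulAut P) : Prop :=
  ∃ g : P, ∀ x : P, (T x = x ↔ x ∈ Subgroup.zpowers g)

theorem cyc_iff {P : Type u} [Group P] (T : MulAut P) :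
    Cyc T ↔ ∃ g : P, fixSub T = Subgroup.zpowers g := by
  constructor
  · rintro ⟨g, hg⟩
    exact ⟨g, Subgroup.ext fun x => hg x⟩
  · rintro ⟨g, hg⟩
    refine ⟨g, fun x => ?_⟩
    rw [← hg]
    rfl

theorem main {P : Type u} [Group P] [Finite P] (p : ℕ) (hp : p.Prime) (hp2 : p ≠ 2)
    (hP : IsPGroup p P)
    (I : Subgroup (MulAut P)) (hI : Cfsg.IsElementaryAbelian 2 I) (hI8 : Nat.card ↥I = 8)
    (I₀ : Subgroup (MulAut P)) (hI₀ : I₀ < I)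
    (hdisj : ∀ T ∈ I₀, T ≠ 1 → Cyc T)
    (hprod : ∀ T ∈ I, ∀ T' ∈ I, T ≠ 1 → T' ≠ 1 → ¬ Cyc T → ¬ Cyc T' → T * T' ∈ I₀) :
    IsMulCommutative P ∧ (∃ a b c : P, Subgroup.closure {a, b, c} = ⊤) ∧
      (¬ ∃ a b : P, Subgroup.closure {a, b} = ⊤) ∧
      Nat.card {T : MulAut P // T ∈ I ∧ T ≠ 1 ∧ ¬ Cyc T} = 3 ∧
      Subgroup.closure {T : MulAut P | T ∈ I ∧ T ≠ 1 ∧ ¬ Cyc T} = I ∧
      (I₀ : Set (MulAut P)) = {S : MulAut P | ∃ T T' : MulAut P, T ∈ I ∧ T' ∈ I ∧ T ≠ 1 ∧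
        T' ≠ 1 ∧ ¬ Cyc T ∧ ¬ Cyc T' ∧ S = T * T'} := by
  obtain ⟨τ, hadd, hinj, hmem⟩ := exists_coord I hI.1 hI.2 hI8
  have hodd := not_two_dvd_card hp hp2 hP
  obtain ⟨e₁, e₂, e₃, hInd, hA, hB, hC⟩ := exists_frame hadd hodd hinj
  obtain ⟨n1, n2, n3, n12, n13, n23, s12, s13, s23⟩ := indep_ne e₁ e₂ e₃ hInd
  have htri : Tri (τ e₁) (τ e₂) (τ e₃) :=
    ⟨tau_comm hadd _ _, tau_comm hadd _ _, tau_comm hadd _ _, tau_sq hadd _, tau_sq hadd _,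
      tau_sq hadd _⟩
  have hleFI := le_FI hadd hInd
  have hA' : ¬ fixSub (τ e₂) ⊓ fixSub (τ e₃) ≤ fixSub (τ e₁) := by
    intro h
    apply hA
    exact le_trans (le_inf (le_inf h inf_le_left) inf_le_right) hleFI
  have hB' : ¬ fixSub (τ e₁) ⊓ fixSub (τ e₃) ≤ fixSub (τ e₂) := by
    intro h
    apply hB
    exact le_trans (le_inf (le_inf inf_le_left h) inf_le_right) hleFI
  have hC' : ¬ fixSub (τ e₁) ⊓ fixSub (τ e₂) ≤ fixSub (τ e₃) := by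
    intro h
    apply hC
    exact le_trans (le_inf le_rfl h) hleFI
  have hne1 : ∀ v : V3, v ≠ 0 → τ v ≠ 1 := by
    intro v hv h
    exact hv (hinj (h.trans (tau_zero hadd).symm))
  have hmemI : ∀ v : V3, τ v ∈ I := fun v => (hmem _).mpr ⟨v, rfl⟩
  -- the three broad elements
  have hbr1 : ¬ Cyc (τ e₁) := by
    rw [cyc_iff]
    exact not_cyclic hp hP _ _ _ hB' hC'
  have hbr2 : ¬ Cyc (τ e₂) := by
    rw [cyc_iff]
    refine not_cyclic hp hP (τ e₂) (τ e₁) (τ e₃) hA' ?_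
    rw [inf_comm]; exact hC'
  have hbr3 : ¬ Cyc (τ e₃) := by
    rw [cyc_iff]
    refine not_cyclic hp hP (τ e₃) (τ e₁) (τ e₂) ?_ ?_
    · rw [inf_comm]; exact hA'
    · rw [inf_comm]; exact hB'
  have h12 : τ e₁ * τ e₂ ∈ I₀ :=
    hprod _ (hmemI _) _ (hmemI _) (hne1 _ n1) (hne1 _ n2) hbr1 hbr2
  have h13 : τ e₁ * τ e₃ ∈ I₀ :=
    hprod _ (hmemI _) _ (hmemI _) (hne1 _ n1) (hne1 _ n3) hbr1 hbr3
  have h23 : τ e₂ * τ e₃ ∈ I₀ :=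
    hprod _ (hmemI _) _ (hmemI _) (hne1 _ n2) (hne1 _ n3) hbr2 hbr3
  have h12' : τ e₁ * τ e₂ ≠ 1 := by rw [← hadd]; exact hne1 _ s12
  have h13' : τ e₁ * τ e₃ ≠ 1 := by rw [← hadd]; exact hne1 _ s13
  have h23' : τ e₂ * τ e₃ ≠ 1 := by rw [← hadd]; exact hne1 _ s23
  have c12 := hdisj _ h12 h12'
  have c13 := hdisj _ h13 h13'
  have c23 := hdisj _ h23 h23'
  obtain ⟨g₃, hg₃⟩ := (cyc_iff _).mp c12
  obtain ⟨g₂, hg₂⟩ := (cyc_iff _).mp c13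
  obtain ⟨g₁, hg₁⟩ := (cyc_iff _).mp c23
  obtain ⟨hcomm, hgen, hn2, hm⟩ := struct_main hp hp2 hP htri hA' hB' hC' g₁ g₂ g₃ hg₃ hg₂ hg₁
  have henum : ∀ T ∈ I, T = 1 ∨ T = τ e₁ ∨ T = τ e₂ ∨ T = τ e₃ ∨ T = τ e₁ * τ e₂ ∨
      T = τ e₁ * τ e₃ ∨ T = τ e₂ * τ e₃ ∨ T = τ e₁ * τ e₂ * τ e₃ := by
    intro T hT
    obtain ⟨v, rfl⟩ := (hmem T).mp hT
    rcases indep_span e₁ e₂ e₃ v hInd with rfl | rfl | rfl | rfl | rfl | rfl | rfl | rfl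
    · exact Or.inl (tau_zero hadd)
    · exact Or.inr (Or.inl rfl)
    · exact Or.inr (Or.inr (Or.inl rfl))
    · exact Or.inr (Or.inr (Or.inr (Or.inl rfl)))
    · exact Or.inr (Or.inr (Or.inr (Or.inr (Or.inl (hadd _ _)))))
    · exact Or.inr (Or.inr (Or.inr (Or.inr (Or.inr (Or.inl (hadd _ _))))))
    · exact Or.inr (Or.inr (Or.inr (Or.inr (Or.inr (Or.inr (Or.inl (hadd _ _)))))))
    · exact Or.inr (Or.inr (Or.inr (Or.inr (Or.inr (Or.inr (Or.inr (by rw [hadd, hadd])))))))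
  have cm : Cyc (τ e₁ * τ e₂ * τ e₃) := by
    rw [cyc_iff]
    exact ⟨1, by rw [hm, Subgroup.zpowers_one_eq_bot]⟩
  obtain ⟨f1, f2, f3⟩ := final I I₀ hI₀ (fun T => T ∈ I ∧ T ≠ 1 ∧ ¬ Cyc T) htri henum h12 h13 h23
    ⟨hmemI _, hne1 _ n1, hbr1⟩ ⟨hmemI _, hne1 _ n2, hbr2⟩ ⟨hmemI _, hne1 _ n3, hbr3⟩
    (fun h => h.2.1 rfl) (fun h => h.2.2 c12) (fun h => h.2.2 c13) (fun h => h.2.2 c23)
    (fun h => h.2.2 cm) (fun T h => h.1)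
    ⟨fun h => n12 (hinj h), fun h => n13 (hinj h), fun h => n23 (hinj h)⟩
    (fun T T' hT hT' => hprod T hT.1 T' hT'.1 hT.2.1 hT'.2.1 hT.2.2 hT'.2.2)
  refine ⟨⟨⟨hcomm⟩⟩, ⟨g₁, g₂, g₃, hgen⟩, hn2, f1, f2, ?_⟩
  rw [f3]
  ext S
  simp only [Set.mem_ofPred_eq]
  constructor
  · rintro ⟨T, T', ⟨h1, h2, h3⟩, ⟨h1', h2', h3'⟩, rfl⟩
    exact ⟨T, T', h1, h1', h2, h2', h3, h3', rfl⟩
  · rintro ⟨T, T', h1, h1', h2, h2', h3, h3', rfl⟩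
    exact ⟨T, T', ⟨h1, h2, h3⟩, ⟨h1', h2', h3'⟩, rfl⟩

/-- Let p be an odd prime, P a finite p-group and I an elementary abelian subgroup of order 8 of Aut(P). Call T ∈ I, T ≠ 1, broad when its fixed-point subgroup C_P(T) is not cyclic. Suppose I has a proper subgroup I₀ containing no broad element such that the product of any two broad elements lies in I₀. Then P is abelian of rank exactly 3 (generated by three elements but not by two), there are exactly three broad elements and they generate I, and I₀ is exactly the set of products of two broad elements. -/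
theorem result
    {P : Type*} [Group P] [Finite P] (p : ℕ) (hp : p.Prime) (hp2 : p ≠ 2) (hP : IsPGroup p P)
    (I : Subgroup (MulAut P)) (hI : Cfsg.IsElementaryAbelian 2 I) (hI8 : Nat.card ↥I = 8)
    (I₀ : Subgroup (MulAut P)) (hI₀ : I₀ < I)
    (hdisj : ∀ T ∈ I₀, T ≠ 1 → ∃ g : P, ∀ x : P, (T x = x ↔ x ∈ Subgroup.zpowers g))
    (hprod : ∀ T ∈ I, ∀ T' ∈ I, T ≠ 1 → T' ≠ 1 → (¬ ∃ g : P, ∀ x : P, (T x = x ↔ x ∈ Subgroup.zpowers g)) →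
      (¬ ∃ g : P, ∀ x : P, (T' x = x ↔ x ∈ Subgroup.zpowers g)) → T * T' ∈ I₀) :
    IsMulCommutative P ∧ (∃ a b c : P, Subgroup.closure {a, b, c} = ⊤) ∧ (¬ ∃ a b : P, Subgroup.closure {a, b} = ⊤) ∧
      Nat.card {T : MulAut P // T ∈ I ∧ T ≠ 1 ∧ ¬ ∃ g : P, ∀ x : P, (T x = x ↔ x ∈ Subgroup.zpowers g)} = 3 ∧
      Subgroup.closure {T : MulAut P | T ∈ I ∧ T ≠ 1 ∧ ¬ ∃ g : P, ∀ x : P, (T x = x ↔ x ∈ Subgroup.zpowers g)} = I ∧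
      (I₀ : Set (MulAut P)) = {S : MulAut P | ∃ T T' : MulAut P, T ∈ I ∧ T' ∈ I ∧ T ≠ 1 ∧ T' ≠ 1 ∧
        (¬ ∃ g : P, ∀ x : P, (T x = x ↔ x ∈ Subgroup.zpowers g)) ∧ (¬ ∃ g : P, ∀ x : P, (T' x = x ↔ x ∈ Subgroup.zpowers g)) ∧ S = T * T'} := by
  exact main p hp hp2 hP I hI hI8 I₀ hI₀ hdisj hprod

end Cfsg.Agent.S4412
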