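import Mathlib
import Cfsg.Statements.S4419
import Cfsg.Agent.S0071
import Cfsg.Agent.Lib.Helper20.AutCoprime
import Cfsg.Agent.Lib.Helper20.PSolvableCore
import Cfsg.Agent.Lib.Helper10.Cores
import Cfsg.Agent.Lib.Helper10.PrimaryPart
import Cfsg.Agent.Lib.Helper10.MetacyclicGen
-- import your own Cfsg.Agent.* helpers here

set_option autoImplicit false
open Cfsg

namespace Cfsg.Agent.S4419

/-- Let p be a prime and G a finite group whose Sylow p-subgroups are metacyclic (a cyclic normal subgroup with cyclic quotient). Then G has a normal p-complement if and only if the order of G/O_{p′,p}(G) is coprime to p² − 1. -/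
theorem result {G : Type*} [Group G] [Finite G] (p : ℕ) [Fact p.Prime] (S : Sylow p G) (hS : Cfsg.IsMetacyclic ↥(S : Subgroup G)) : Cfsg.HasNormalPComplement p G ↔ Nat.Coprime (Nat.card (G ⧸ Cfsg.pPrimePCore p G)) (p ^ 2 - 1) := by
  classical
  have hpp := (Fact.out : p.Prime)
  haveI hOn : (pPrimeCore p G).Normal := Cfsg.Agent.Helper10.pPrimeCore_normal p
  haveI hKn : (pPrimePCore p G).Normal := by
    unfold pPrimePCore
    haveI := Cfsg.Agent.Helper10.pCore_normal (G := G ⧸ pPrimeCore p G) p
    exact Subgroup.Normal.comap inferInstance _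
  have hOcop : (Nat.card (pPrimeCore p G)).Coprime p := Cfsg.Agent.Helper10.card_pPrimeCore_coprime p
  constructor
  · rintro ⟨P, N, hN, hc⟩
    have hK : pPrimePCore p G = ⊤ := by
      have hcard : Nat.card N * Nat.card (P : Subgroup G) = Nat.card G := hc.card_mul
      have hNcop : (Nat.card N).Coprime p := by
        have h1 : Nat.card N = (P : Subgroup G).index := by
          have h2 := (P : Subgroup G).card_mul_index
          have hpos : 0 < Nat.card (P : Subgroup G) := Nat.card_pos
          rw [← hcard, mul_comm (Nat.card N)] at h2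
          exact (Nat.eq_of_mul_eq_mul_left hpos h2).symm
        rw [h1, Nat.coprime_comm, Nat.Prime.coprime_iff_not_dvd hpp]
        exact P.not_dvd_index
      have hNO : N ≤ pPrimeCore p G := le_sSup ⟨hN, hNcop⟩
      have hqp : IsPGroup p (G ⧸ pPrimeCore p G) := by
        intro x
        obtain ⟨x, rfl⟩ := QuotientGroup.mk_surjective x
        have hx : x ∈ (⊤ : Subgroup G) := Subgroup.mem_top x
        have htop : N ⊔ (P : Subgroup G) = ⊤ := hc.sup_eq_top
        rw [← htop, Subgroup.mem_sup_of_normal_left] at hx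
        obtain ⟨n, hn, y, hy, rfl⟩ := hx
        obtain ⟨k, hk⟩ := P.2 ⟨y, hy⟩
        refine ⟨k, ?_⟩
        have h1 : (QuotientGroup.mk (n * y) : G ⧸ pPrimeCore p G) = QuotientGroup.mk y := by
          rw [QuotientGroup.mk_mul, (QuotientGroup.eq_one_iff n).mpr (hNO hn), one_mul]
        rw [h1, ← QuotientGroup.mk_pow]
        have h2 : y ^ p ^ k = 1 := by
          have := congrArg Subtype.val hk
          simpa using this
        rw [h2]; rfl
      have hcore : pCore p (G ⧸ pPrimeCore p G) = ⊤ := by
        rw [eq_top_iff]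
        apply le_sSup
        refine ⟨inferInstance, ?_⟩
        exact hqp.to_subgroup ⊤
      unfold pPrimePCore
      rw [hcore, Subgroup.comap_top]
    show Nat.Coprime (pPrimePCore p G).index _
    rw [hK, Subgroup.index_top]
    exact Nat.coprime_one_left _
  · intro hcop
    refine ⟨S, ?_⟩
    rw [Cfsg.Agent.S0071.result S]
    intro Q hQ g hg hgp
    by_contra hgc
    have hQp : IsPGroup p Q := S.2.to_le hQ
    obtain ⟨r, e, k, hr, he, hord, hnot⟩ :=
      Cfsg.Agent.Helper10.exists_primePow_pow_not_mem (Subgroup.centralizer (Q : Set G))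
        (orderOf g) g rfl (orderOf_pos g) hgc
    set h := g ^ k with hh
    have hhN : h ∈ Subgroup.normalizer (Q : Set G) := Subgroup.pow_mem _ hg k
    have hdvd : r ^ e ∣ orderOf g := by rw [← hord]; exact orderOf_pow_dvd k
    have hrp : r ≠ p := by
      intro hrp
      have h1 : p ∣ orderOf g := by
        rw [← hrp]; exact dvd_trans (dvd_pow_self r (by omega)) hdvd
      have := Nat.Coprime.eq_one_of_dvd hgp.symm h1
      exact hpp.one_lt.ne' this
    have hrcop : Nat.Coprime (orderOf h) p := by
      rw [hord]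
      exact Nat.Coprime.pow_left e ((Nat.coprime_primes hr hpp).mpr hrp)
    by_cases hr2 : r ∣ p ^ 2 - 1
    · -- `h` lies in `O_{p',p}(G)`
      have hmk : (QuotientGroup.mk h : G ⧸ pPrimePCore p G) = 1 := by
        rw [← orderOf_eq_one_iff]
        have h1 : orderOf (QuotientGroup.mk h : G ⧸ pPrimePCore p G) ∣ r ^ e := by
          rw [← hord]
          exact orderOf_map_dvd (QuotientGroup.mk' (pPrimePCore p G)) h
        have h2 : orderOf (QuotientGroup.mk h : G ⧸ pPrimePCore p G) ∣
            Nat.card (G ⧸ pPrimePCore p G) := orderOf_dvd_natCard _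
        obtain ⟨i, hi, hi'⟩ := (Nat.dvd_prime_pow hr).mp h1
        by_contra hne
        have hi0 : i ≠ 0 := by
          intro h0; rw [h0, pow_zero] at hi'; exact hne hi'
        have h3 : r ∣ Nat.card (G ⧸ pPrimePCore p G) := by
          refine dvd_trans ?_ h2
          rw [hi']; exact dvd_pow_self r hi0
        have := Nat.Coprime.eq_one_of_dvd (Nat.Coprime.coprime_dvd_left h3 hcop) hr2
        exact hr.one_lt.ne' this
      have hhK : h ∈ pPrimePCore p G := (QuotientGroup.eq_one_iff h).mp hmk
      obtain ⟨j, hj⟩ := Cfsg.Agent.Helper20.exists_pow_mem_pPrimeCore p hhK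
      have hhO : h ∈ pPrimeCore p G := by
        have hc : Nat.Coprime (p ^ j) (orderOf h) := (Nat.Coprime.pow_right j hrcop).symm
        obtain ⟨m, hm⟩ := exists_pow_eq_self_of_coprime hc
        rw [← hm]
        exact Subgroup.pow_mem _ hj m
      apply hnot
      rw [Subgroup.mem_centralizer_iff]
      intro q hq
      have hqQ : q ∈ Q := hq
      have hc1 : h * q * h⁻¹ * q⁻¹ ∈ Q :=
        Q.mul_mem ((Subgroup.mem_normalizer_iff.mp hhN q).mp hqQ) (Q.inv_mem hqQ)
      have hc2 : h * q * h⁻¹ * q⁻¹ ∈ pPrimeCore p G := by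
        have h1 : q * h⁻¹ * q⁻¹ ∈ pPrimeCore p G := hOn.conj_mem _ (Subgroup.inv_mem _ hhO) q
        have h2 := Subgroup.mul_mem _ hhO h1
        have e : h * (q * h⁻¹ * q⁻¹) = h * q * h⁻¹ * q⁻¹ := by group
        rwa [e] at h2
      have hc3 : h * q * h⁻¹ * q⁻¹ = 1 := by
        rw [← orderOf_eq_one_iff]
        obtain ⟨t, ht⟩ := hQp ⟨_, hc1⟩
        have ht' : (h * q * h⁻¹ * q⁻¹) ^ p ^ t = 1 := by
          have := congrArg Subtype.val ht
          simpa using this
        have h1 : orderOf (h * q * h⁻¹ * q⁻¹) ∣ p ^ t := orderOf_dvd_of_pow_eq_one ht'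
        have h2 : orderOf (h * q * h⁻¹ * q⁻¹) ∣ Nat.card (pPrimeCore p G) := by
          have := orderOf_dvd_natCard (⟨_, hc2⟩ : ↥(pPrimeCore p G))
          rwa [Subgroup.orderOf_mk] at this
        exact Nat.eq_one_of_dvd_coprimes (Nat.Coprime.pow_right t hOcop) h2 h1
      have : h * q = q * h := by
        have e : h * q = (h * q * h⁻¹ * q⁻¹) * (q * h) := by group
        rw [e, hc3, one_mul]
      exact this.symm
    · apply hnot
      obtain ⟨T, hT2, hTgen⟩ := Cfsg.Agent.Helper10.exists_two_gen_of_metacyclic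
        (S : Subgroup G) hS Q hQ
      apply Cfsg.Agent.Helper20.mem_centralizer_of_coprime p Q hQp T hTgen 2 hT2 h hhN hrcop
      rw [hord, Finset.prod_range_succ, Finset.prod_range_one]
      apply Nat.Coprime.pow_left
      rw [Nat.Prime.coprime_iff_not_dvd hr]
      intro hd
      have h1 : (p ^ (0 + 1) - 1) ∣ p ^ 2 - 1 := by
        have : p ^ 2 - 1 = (p - 1) * (p + 1) := by
          have h1 : 1 ≤ p := hpp.one_lt.le
          zify [h1, Nat.one_le_pow 2 p h1]
          ring
        rw [this]; simp
      rcases (Nat.Prime.dvd_mul hr).mp hd with h | h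
      · exact hr2 (dvd_trans h h1)
      · exact hr2 h

end Cfsg.Agent.S4419
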