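import Cfsg.Statements.S4420
-- import your own Cfsg.Agent.* helpers here

set_option autoImplicit false
open Cfsg

namespace Cfsg.Agent.S4420

/-- Elements outside `A` invert every element of `A`. -/
theorem inverts {H : Type*} [Group H] (A : Subgroup H) (hD : ∀ x : H, x ∉ A → x ^ 2 = 1)
    (t : H) (ht : t ∉ A) (a : H) (ha : a ∈ A) : t * a * t⁻¹ = a⁻¹ := by
  have hta : t * a ∉ A := fun h => ht (by simpa using A.mul_mem h (A.inv_mem ha))
  have h1 := hD t ht
  have h2 := hD (t * a) hta
  have ht' : t⁻¹ = t := by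
    rw [inv_eq_iff_mul_eq_one, ← pow_two, h1]
  rw [ht']
  rw [pow_two] at h2
  -- t a t a = 1
  have : t * a * t = a⁻¹ := by
    rw [eq_inv_iff_mul_eq_one]
    rw [← h2]; group
  exact this

theorem case_exp_two {H : Type*} [Group H] [Finite H] (hnt : Nontrivial H) (h2 : ∀ x : H, x ^ 2 = 1) :
    ∃ B : Subgroup H, B.Normal ∧ IsMulCommutative ↥B ∧ B.index = 2 ∧
      (∀ x : H, x ∉ B → x ^ 2 = 1 ∧ ∀ b ∈ B, x * b * x⁻¹ = b⁻¹) := by
  have hcomm : ∀ a b : H, a * b = b * a := by
    intro a b
    have ha : a⁻¹ = a := by rw [inv_eq_iff_mul_eq_one, ← pow_two, h2]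
    have hb : b⁻¹ = b := by rw [inv_eq_iff_mul_eq_one, ← pow_two, h2]
    have hab : (a * b)⁻¹ = a * b := by rw [inv_eq_iff_mul_eq_one, ← pow_two, h2]
    rw [← hab, mul_inv_rev, ha, hb]
  have hp : IsPGroup 2 H := fun g => ⟨1, by rw [pow_one]; exact h2 g⟩
  have : Fact (Nat.Prime 2) := ⟨Nat.prime_two⟩
  obtain ⟨n, hn⟩ := (IsPGroup.iff_card).1 hp
  have hn0 : n ≠ 0 := by
    rintro rfl
    rw [pow_zero] at hn
    have := (Nat.card_eq_one_iff_unique.1 hn).1
    exact not_subsingleton H this
  obtain ⟨m, rfl⟩ := Nat.exists_eq_succ_of_ne_zero hn0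
  obtain ⟨B, hB⟩ := Sylow.exists_subgroup_card_pow_prime (G := H) 2 (n := m) (by rw [hn]; exact pow_dvd_pow 2 (Nat.le_succ m))
  have hidx : B.index = 2 := by
    have := B.card_mul_index
    rw [hB, hn, pow_succ] at this
    exact Nat.eq_of_mul_eq_mul_left (pow_pos (by norm_num) m) this
  refine ⟨B, Subgroup.normal_of_index_eq_two hidx, ?_, hidx, ?_⟩
  · rw [isMulCommutative_iff]
    intro a b
    exact Subtype.ext (hcomm a b)
  · intro x _
    refine ⟨h2 x, ?_⟩
    intro b _
    have hb : b⁻¹ = b := by rw [inv_eq_iff_mul_eq_one, ← pow_two, h2]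
    rw [hb, hcomm x b, mul_assoc, mul_inv_cancel, mul_one]


/-- Structure of groups in which every element outside some proper subgroup has square 1. Let H be a finite group with a proper subgroup A such that every element outside A has square 1. Then H has an abelian normal subgroup B of index 2 such that every element outside B is an involution inverting every element of B; and if H is not an elementary abelian 2-group, B is the only abelian normal subgroup of index 2 with this property. -/
theorem result {H : Type*} [Group H] [Finite H] (A : Subgroup H) (hA : A ≠ ⊤) (hD : ∀ x : H, x ∉ A → x ^ 2 = 1) :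
    ∃ B : Subgroup H, B.Normal ∧ IsMulCommutative ↥B ∧ B.index = 2 ∧
      (∀ x : H, x ∉ B → x ^ 2 = 1 ∧ ∀ b ∈ B, x * b * x⁻¹ = b⁻¹) ∧
      (¬ (IsMulCommutative H ∧ ∀ x : H, x ^ 2 = 1) →
        ∀ B' : Subgroup H, B'.Normal → IsMulCommutative ↥B' → B'.index = 2 →
          (∀ x : H, x ∉ B' → x ^ 2 = 1 ∧ ∀ b ∈ B', x * b * x⁻¹ = b⁻¹) → B' = B) := by
  classical
  by_cases hex : ∀ x : H, x ^ 2 = 1
  · -- elementary abelian 2-group
    have hnt : Nontrivial H := by
      by_contra hnt
      rw [not_nontrivial_iff_subsingleton] at hnt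
      exact hA (Subsingleton.elim _ _)
    obtain ⟨B, hBn, hBc, hBi, hBx⟩ := case_exp_two hnt hex
    refine ⟨B, hBn, hBc, hBi, hBx, ?_⟩
    intro hne
    exfalso
    apply hne
    refine ⟨?_, hex⟩
    rw [isMulCommutative_iff]
    intro a b
    have ha : a⁻¹ = a := by rw [inv_eq_iff_mul_eq_one, ← pow_two, hex]
    have hb : b⁻¹ = b := by rw [inv_eq_iff_mul_eq_one, ← pow_two, hex]
    have hab : (a * b)⁻¹ = a * b := by rw [inv_eq_iff_mul_eq_one, ← pow_two, hex]
    rw [← hab, mul_inv_rev, ha, hb]
  · push Not at hex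
    obtain ⟨x₀, hx₀⟩ := hex
    have hx₀A : x₀ ∈ A := by
      by_contra h
      exact hx₀ (hD x₀ h)
    have hx₀inv : x₀⁻¹ ≠ x₀ := by
      intro h
      apply hx₀
      rw [pow_two]
      nth_rewrite 1 [← h]
      exact inv_mul_cancel x₀
    obtain ⟨t, ht⟩ : ∃ t : H, t ∉ A := by
      by_contra h
      push Not at h
      exact hA (eq_top_iff.2 (fun x _ => h x))
    have hinv := inverts A hD
    -- A is commutative
    have hAcomm : ∀ a ∈ A, ∀ b ∈ A, a * b = b * a := by
      intro a ha b hb
      have h1 := hinv t ht (a * b) (A.mul_mem ha hb)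
      have h2 := hinv t ht a ha
      have h3 := hinv t ht b hb
      have h4 : t * (a * b) * t⁻¹ = (t * a * t⁻¹) * (t * b * t⁻¹) := by group
      rw [h4, h2, h3, mul_inv_rev] at h1
      have := congrArg (fun z => z⁻¹) h1
      simp only [mul_inv_rev, inv_inv] at this
      exact this.symm
    -- two elements outside A differ by an element of A
    have hquot : ∀ s : H, s ∉ A → ∀ s' : H, s' ∉ A → s * s' ∈ A := by
      intro s hs s' hs'
      by_contra hss
      have h1 := hinv (s * s') hss x₀ hx₀A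
      have h2 := hinv s' hs' x₀ hx₀A
      have h3 := hinv s hs x₀⁻¹ (A.inv_mem hx₀A)
      have h4 : s * s' * x₀ * (s * s')⁻¹ = s * (s' * x₀ * s'⁻¹) * s⁻¹ := by group
      rw [h4, h2, h3, inv_inv] at h1
      exact hx₀inv h1.symm
    have hidx : A.index = 2 := by
      rw [Subgroup.index_eq_two_iff]
      refine ⟨t, fun b => ?_⟩
      by_cases hb : b ∈ A
      · refine Or.inr ⟨hb, ?_⟩
        intro hbt
        apply ht
        have := A.mul_mem (A.inv_mem hb) hbt
        simpa using this
      · exact Or.inl ⟨hquot b hb t ht, hb⟩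
    refine ⟨A, Subgroup.normal_of_index_eq_two hidx, ?_, hidx, ?_, ?_⟩
    · rw [isMulCommutative_iff]
      intro a b
      exact Subtype.ext (hAcomm a a.2 b b.2)
    · intro x hx
      exact ⟨hD x hx, fun b hb => hinv x hx b hb⟩
    · intro _ B' _ hB'c _ hB'x
      have hB'comm : ∀ a ∈ B', ∀ b ∈ B', a * b = b * a := by
        intro a ha b hb
        have := (isMulCommutative_iff.1 hB'c) ⟨a, ha⟩ ⟨b, hb⟩
        exact congrArg Subtype.val this
      have hx₀B' : x₀ ∈ B' := by
        by_contra h
        exact hx₀ (hB'x x₀ h).1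
      apply le_antisymm
      · intro b hb
        by_contra hbA
        have h1 := hinv b hbA x₀ hx₀A
        have h2 : b * x₀ * b⁻¹ = x₀ := by
          rw [hB'comm b hb x₀ hx₀B', mul_assoc, mul_inv_cancel, mul_one]
        rw [h2] at h1
        exact hx₀inv h1.symm
      · intro a ha
        by_contra haB'
        have h1 := (hB'x a haB').2 x₀ hx₀B'
        have h2 : a * x₀ * a⁻¹ = x₀ := by
          rw [hAcomm a ha x₀ hx₀A, mul_assoc, mul_inv_cancel, mul_one]
        rw [h2] at h1
        exact hx₀inv h1.symm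

end Cfsg.Agent.S4420
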