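import Cfsg.Statements.S4421
-- import your own Cfsg.Agent.* helpers here

set_option autoImplicit false
open Cfsg

namespace Cfsg.Agent.S4421

theorem map_conj_mul {G : Type*} [Group G] (A : Subgroup G) (a b : G) :
    A.map (MulAut.conj (a * b)).toMonoidHom = (A.map (MulAut.conj b).toMonoidHom).map (MulAut.conj a).toMonoidHom := by
  rw [Subgroup.map_map]
  congr 1
  ext x
  simp [MulAut.conj_apply, mul_assoc]

theorem map_conj_one {G : Type*} [Group G] (A : Subgroup G) :
    A.map (MulAut.conj (1 : G)).toMonoidHom = A := by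
  ext x
  simp

theorem map_conj_eq_self_of_mem {G : Type*} [Group G] (S : Subgroup G) (s : G) (hs : s ∈ S) :
    S.map (MulAut.conj s).toMonoidHom = S := by
  ext x
  simp only [Subgroup.mem_map, MulEquiv.coe_toMonoidHom, MulAut.conj_apply]
  constructor
  · rintro ⟨y, hy, rfl⟩
    exact S.mul_mem (S.mul_mem hs hy) (S.inv_mem hs)
  · intro hx
    exact ⟨s⁻¹ * x * s, S.mul_mem (S.mul_mem (S.inv_mem hs) hx) hs, by group⟩

theorem mem_normalizer_iff_map {G : Type*} [Group G] (A : Subgroup G) (x : G) :
    x ∈ Subgroup.normalizer (A : Set G) ↔ A.map (MulAut.conj x).toMonoidHom = A := by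
  rw [Subgroup.mem_normalizer_iff]
  constructor
  · intro h
    ext y
    simp only [Subgroup.mem_map, MulEquiv.coe_toMonoidHom, MulAut.conj_apply]
    constructor
    · rintro ⟨z, hz, rfl⟩
      exact (h z).1 hz
    · intro hy
      refine ⟨x⁻¹ * y * x, ?_, by group⟩
      rw [h]
      convert hy using 1
      group
  · intro h n
    constructor
    · intro hn
      rw [← h]
      exact ⟨n, hn, rfl⟩
    · intro hn
      rw [← h] at hn
      obtain ⟨z, hz, hzz⟩ := hn
      have hzz' : x * z * x⁻¹ = x * n * x⁻¹ := hzz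
      have : z = n := by
        have := congrArg (fun t => x⁻¹ * t * x) hzz'
        calc z = x⁻¹ * (x * z * x⁻¹) * x := by group
          _ = x⁻¹ * (x * n * x⁻¹) * x := this
          _ = n := by group
      rw [← this]
      exact hz


/-- A factorization of a normalizer from two-step control of fusion. Let `G` be a finite group and `A ≤ S ≤ H` subgroups of `G` such that: (i) `S` controls the `G`-fusion of `A` in the sense that every `G`-conjugate of `A` lying in `S` is an `S`-conjugate of `A`; (ii) `H` controls the `G`-fusion of `S` in the same sense; (iii) every conjugate of `S` by an element of the normalizer of `A` lies in `H`. Then `N_G(A) = N_H(A) · (N_G(S) ∩ N_G(A))`: every element of the normalizer of `A` is a product of an element of `H` normalizing `A` and an element normalizing both `S` and `A`. -/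
theorem result {G : Type*} [Group G] [Finite G] (A S H : Subgroup G)
    (hAS : A ≤ S) (hSH : S ≤ H)
    (h1 : ∀ g : G, A.map (MulAut.conj g).toMonoidHom ≤ S → ∃ s ∈ S, A.map (MulAut.conj g).toMonoidHom = A.map (MulAut.conj s).toMonoidHom)
    (h2 : ∀ g : G, S.map (MulAut.conj g).toMonoidHom ≤ H → ∃ y ∈ H, S.map (MulAut.conj g).toMonoidHom = S.map (MulAut.conj y).toMonoidHom)
    (h3 : ∀ x ∈ Subgroup.normalizer (A : Set G), S.map (MulAut.conj x).toMonoidHom ≤ H) :
    ∀ x ∈ Subgroup.normalizer (A : Set G), ∃ y ∈ H ⊓ Subgroup.normalizer (A : Set G),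
      ∃ z ∈ Subgroup.normalizer (S : Set G) ⊓ Subgroup.normalizer (A : Set G), x = y * z := by
  intro x hx
  obtain ⟨y, hyH, hy⟩ := h2 x (h3 x hx)
  -- n = y⁻¹ * x normalizes S
  have hn : S.map (MulAut.conj (y⁻¹ * x)).toMonoidHom = S := by
    rw [map_conj_mul, hy, ← map_conj_mul, inv_mul_cancel, map_conj_one]
  have hxA : A.map (MulAut.conj x).toMonoidHom = A := (mem_normalizer_iff_map A x).1 hx
  -- conj n A ≤ S
  have hnA : A.map (MulAut.conj (y⁻¹ * x)).toMonoidHom ≤ S := by
    calc A.map (MulAut.conj (y⁻¹ * x)).toMonoidHom ≤ S.map (MulAut.conj (y⁻¹ * x)).toMonoidHom :=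
          Subgroup.map_mono hAS
      _ = S := hn
  obtain ⟨s, hsS, hs⟩ := h1 _ hnA
  refine ⟨y * s, ⟨H.mul_mem hyH (hSH hsS), ?_⟩, s⁻¹ * (y⁻¹ * x), ⟨?_, ?_⟩, by group⟩
  · show y * s ∈ Subgroup.normalizer (A : Set G)
    rw [mem_normalizer_iff_map, map_conj_mul, ← hs, ← map_conj_mul, mul_inv_cancel_left]
    exact hxA
  · show s⁻¹ * (y⁻¹ * x) ∈ Subgroup.normalizer (S : Set G)
    rw [mem_normalizer_iff_map, map_conj_mul, hn]
    exact map_conj_eq_self_of_mem S s⁻¹ (S.inv_mem hsS)
  · show s⁻¹ * (y⁻¹ * x) ∈ Subgroup.normalizer (A : Set G)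
    rw [mem_normalizer_iff_map, map_conj_mul, hs, ← map_conj_mul, inv_mul_cancel, map_conj_one]

end Cfsg.Agent.S4421
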