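import Cfsg.Statements.S4422
-- import your own Cfsg.Agent.* helpers here

set_option autoImplicit false
open Cfsg

namespace Cfsg.Agent.S4422

theorem prime_dvd_case (q e m : ℕ) (hq : 2 ≤ q) (he : 1 ≤ e)
    (hm : m ∣ q ^ e - 1) (hcop : ∀ i : ℕ, 1 ≤ i → i < e → Nat.Coprime m (q ^ i - 1))
    (p : ℕ) (hp : p.Prime) (hpm : p ∣ m) : p % e = 1 % e := by
  have : Fact p.Prime := ⟨hp⟩
  have hqe : 1 ≤ q ^ e := Nat.one_le_pow _ _ (by omega)
  have h1 : ((q : ZMod p)) ^ e = 1 := by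
    have h2 : p ∣ q ^ e - 1 := dvd_trans hpm hm
    have h3 : ((q ^ e - 1 : ℕ) : ZMod p) = 0 := (ZMod.natCast_eq_zero_iff _ _).2 h2
    rw [Nat.cast_sub hqe] at h3
    push_cast at h3
    exact sub_eq_zero.1 h3
  have hq0 : (q : ZMod p) ≠ 0 := by
    intro h0
    rw [h0, zero_pow (by omega)] at h1
    exact zero_ne_one h1
  have hd : orderOf (q : ZMod p) ∣ e := orderOf_dvd_of_pow_eq_one h1
  have hdpos : 0 < orderOf (q : ZMod p) := Nat.pos_of_dvd_of_pos hd (by omega)
  have hde : orderOf (q : ZMod p) = e := by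
    by_contra hne
    have hlt : orderOf (q : ZMod p) < e := lt_of_le_of_ne (Nat.le_of_dvd (by omega) hd) hne
    have hc := hcop _ hdpos hlt
    have hqd : 1 ≤ q ^ orderOf (q : ZMod p) := Nat.one_le_pow _ _ (by omega)
    have h4 : p ∣ q ^ orderOf (q : ZMod p) - 1 := by
      rw [← ZMod.natCast_eq_zero_iff, Nat.cast_sub hqd]
      push_cast
      rw [pow_orderOf_eq_one, sub_self]
    have h5 : p ∣ Nat.gcd m (q ^ orderOf (q : ZMod p) - 1) := Nat.dvd_gcd hpm h4
    rw [hc] at h5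
    exact hp.one_lt.ne' (Nat.dvd_one.1 h5)
  have h6 : orderOf (q : ZMod p) ∣ p - 1 := orderOf_dvd_of_pow_eq_one (ZMod.pow_card_sub_one_eq_one hq0)
  rw [hde] at h6
  have hp1 : 1 ≤ p := hp.one_lt.le
  have : p = (p - 1) + 1 := by omega
  rw [this, Nat.add_mod, Nat.mod_eq_zero_of_dvd h6, zero_add, Nat.mod_mod]

theorem list_prod_mod (e : ℕ) (l : List ℕ) (h : ∀ x ∈ l, x % e = 1 % e) : l.prod % e = 1 % e := by
  induction l with
  | nil => simp
  | cons a t ih =>
    rw [List.prod_cons, Nat.mul_mod, h a (by simp), ih (fun x hx => h x (by simp [hx]))]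
    rw [← Nat.mul_mod, one_mul]


/-- Primitive divisors of `q^e - 1` are congruent to 1 modulo `e`. Let `q ≥ 2` and `e ≥ 1` be natural numbers and let `m` be a divisor of `q^e - 1` that is coprime to `q^i - 1` for every `1 ≤ i < e` (so `m` divides the primitive part of `q^e - 1`, the largest such divisor). Then `m ≡ 1 (mod e)`. -/
theorem result (q e m : ℕ) (hq : 2 ≤ q) (he : 1 ≤ e)
    (hm : m ∣ q ^ e - 1) (hcop : ∀ i : ℕ, 1 ≤ i → i < e → Nat.Coprime m (q ^ i - 1)) :
    m % e = 1 % e := by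
  have hqe : 1 ≤ q ^ e := Nat.one_le_pow _ _ (by omega)
  have hm0 : m ≠ 0 := by
    rintro rfl
    have := Nat.eq_zero_of_zero_dvd hm
    have hq2 : 2 ≤ q ^ e := by
      calc 2 ≤ q := hq
        _ = q ^ 1 := (pow_one q).symm
        _ ≤ q ^ e := Nat.pow_le_pow_right (by omega) he
    omega
  rw [← Nat.prod_primeFactorsList hm0]
  apply list_prod_mod
  intro p hp
  exact prime_dvd_case q e m hq he hm hcop p (Nat.prime_of_mem_primeFactorsList hp) (Nat.dvd_of_mem_primeFactorsList hp)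

end Cfsg.Agent.S4422
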