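import Mathlib
import Cfsg.Statements.S4424
import Cfsg.Agent.Lib.Helper23.BlockRank
import Cfsg.Agent.S0961

set_option autoImplicit false
open Cfsg Cfsg.Agent.Helper23.Blk

namespace Cfsg.Agent.S4424

/-- Let χ be an irreducible character of the finite group G lying in the p-block B (relative to a maximal ideal M of the algebraic integers containing p), and let p^a be the p-part of the order of G. Then the class function that equals p^a · χ on the p-regular elements and vanishes on the p-singular elements is an integer combination of the irreducible characters in B: there are integers a_ψ, zero for ψ outside B, with that function equal to Σ a_ψ ψ. -/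
theorem result {G : Type*} [Group G] [Finite G] (p : ℕ) [Fact p.Prime] (M : Ideal Cfsg.AlgInt) (hM : Cfsg.IsPModular p M) (B : Set (Cfsg.IrrCharacter G)) (hB : Cfsg.IsPBlock M B) (χ : Cfsg.IrrCharacter G) (hχ : χ ∈ B) : ∃ a : Cfsg.IrrCharacter G → ℤ, (∀ ψ, ψ ∉ B → a ψ = 0) ∧ (fun x : G => if p ∣ orderOf x then (0 : ℂ) else ((p ^ (Nat.card G).factorization p : ℕ) : ℂ) * (χ : G → ℂ) x) = fun x => ∑ᶠ ψ : Cfsg.IrrCharacter G, (a ψ : ℂ) * (ψ : G → ℂ) x := by
  classical
  haveI : Fintype G := Fintype.ofFinite G
  letI : Fintype (IrrCharacter G) := Cfsg.Agent.Helper24.irrFintype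
  set θ : G → ℂ := fun x : G => if p ∣ orderOf x then (0 : ℂ) else
    ((p ^ (Nat.card G).factorization p : ℕ) : ℂ) * (χ : G → ℂ) x with hθ
  have hgc : IsGeneralizedCharacter G θ := Cfsg.Agent.S0961.result p χ
  have hθ' : θ = ((p ^ (Nat.card G).factorization p : ℕ) : ℂ) • pRegularPart p (χ : G → ℂ) := by
    funext x
    rw [hθ, Pi.smul_apply, pRegularPart_apply, smul_eq_mul]
    by_cases hx : p ∣ orderOf x
    · simp only [if_pos hx, mul_zero]
    · simp only [if_neg hx]
  choose a ha using Cfsg.Agent.Helper8.genChar_inner_int hgc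
  refine ⟨a, ?_, ?_⟩
  · intro ψ hψ
    have h1 : classInner θ (ψ : G → ℂ) = 0 := by
      rw [hθ', Cfsg.Agent.Helper24.classInner_smul_left,
        classInner_pRegularPart_eq_zero p hM
          (fun g => memLocalRing_blockCoeff hM.2.1.isPrime hB g) hχ hψ, mul_zero]
    rw [ha ψ] at h1
    exact_mod_cast h1
  · have hexp := Cfsg.Agent.Helper24.classFunction_expansion
      (Cfsg.Agent.Helper8.isClassFunction_of_isGeneralizedCharacter hgc)
    funext x
    rw [finsum_eq_sum_of_fintype]
    have h2 := congrFun hexp x
    rw [h2, Finset.sum_apply]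
    apply Finset.sum_congr rfl
    intro ψ _
    rw [Pi.smul_apply, smul_eq_mul, ha ψ]

end Cfsg.Agent.S4424
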