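import Mathlib
import Cfsg.Statements.S4427
import Cfsg.Agent.Lib.Helper5.PimMain
import Cfsg.Agent.Lib.Helper25.PimG
import Cfsg.Agent.Lib.Helper24.CharBasic

set_option autoImplicit false
open Cfsg

namespace Cfsg.Agent.S4427

open Cfsg.Agent.Helper5.Pim Cfsg.Agent.Helper24
open scoped ComplexConjugate

/-- Let G be a finite group of order p^a · q^b · r^c with p, q, r distinct primes, and suppose that G has exactly q^b · r^c elements of order not divisible by p. Then G has a normal p-complement: a normal subgroup of order q^b · r^c. -/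
theorem result {G : Type*} [Group G] [Finite G] (p q r a b c : ℕ) (hp : p.Prime) (hq : q.Prime) (hr : r.Prime) (hpq : p ≠ q) (hpr : p ≠ r) (hqr : q ≠ r) (hG : Nat.card G = p ^ a * q ^ b * r ^ c) (hcount : Nat.card {g : G // ¬ p ∣ orderOf g} = q ^ b * r ^ c) : ∃ N : Subgroup G, N.Normal ∧ Nat.card N = q ^ b * r ^ c := by
  classical
  haveI : Fintype G := Fintype.ofFinite G
  haveI := Fact.mk hq
  haveI := Fact.mk hr
  set m : ℕ := q ^ b * r ^ c with hm
  have hmpos : 0 < m := Nat.mul_pos (pow_pos hq.pos b) (pow_pos hr.pos c)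
  have hGm : Nat.card G = p ^ a * m := by rw [hG, hm, mul_assoc]
  obtain ⟨Q, hQc⟩ := Sylow.exists_subgroup_card_pow_prime (G := G) q
    (n := b) (by rw [hG]; exact ⟨p ^ a * r ^ c, by ring⟩)
  obtain ⟨R, hRc⟩ := Sylow.exists_subgroup_card_pow_prime (G := G) r
    (n := c) (by rw [hG]; exact ⟨p ^ a * q ^ b, by ring⟩)
  have hqp : Nat.Coprime q p := (Nat.coprime_primes hq hp).mpr (Ne.symm hpq)
  have hrp : Nat.Coprime r p := (Nat.coprime_primes hr hp).mpr (Ne.symm hpr)
  have hqr' : Nat.Coprime q r := (Nat.coprime_primes hq hr).mpr hqr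
  obtain ⟨A, hA, hAA, hvan, hsum, n, hn, hnorm⟩ := exists_pim p hp Q R
    (by rw [hQc]; exact hqp.pow_left b) (by rw [hRc]; exact hrp.pow_left c)
    (by rw [hQc, hRc]; exact (hqr'.pow_left b).pow_right c)
  rw [hQc, hRc, ← hm, hGm] at hn
  have hnle : n ≤ p ^ a := Nat.le_of_mul_le_mul_right hn hmpos
  set ρ := subRep A hA with hρ
  set χ : G → ℂ := fun g => ρ.character g with hχ
  have hχtr : ∀ g, χ g = (Pm ℂ g * A).trace := fun g => subRep_character A hA hAA g
  -- the set of p-regular elements
  set X : Finset G := Finset.univ.filter fun g : G => ¬ p ∣ orderOf g with hX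
  have hXcard : X.card = m := by
    rw [hX, ← Fintype.card_subtype, ← Nat.card_eq_fintype_card, hcount]
  have hvan' : ∀ g, g ∉ X → χ g = 0 := by
    intro g hg
    rw [hχtr]
    apply hvan
    simpa [hX] using hg
  -- sums
  have hsumχ : ∑ g : G, χ g = (Nat.card G : ℂ) := by
    rw [← hsum]; exact Finset.sum_congr rfl fun g _ => hχtr g
  have hsumX : ∑ g ∈ X, χ g = (Nat.card G : ℂ) := by
    rw [← hsumχ]
    exact Finset.sum_subset (Finset.subset_univ _) fun g _ hg => hvan' g hg
  have hnormSq : ∀ g, χ g * χ g⁻¹ = (Complex.normSq (χ g) : ℂ) := by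
    intro g
    rw [hχ]
    simp only
    rw [char_inv ρ g, Complex.mul_conj]
  have hsum2 : ∑ g : G, (Complex.normSq (χ g) : ℂ) = (Nat.card G : ℂ) * n := by
    rw [← hnorm]
    refine Finset.sum_congr rfl fun g _ => ?_
    rw [← hnormSq, hχtr, hχtr]
  have hsum2R : ∑ g : G, Complex.normSq (χ g) = (Nat.card G : ℝ) * n := by
    have := congrArg Complex.re hsum2
    simpa using this
  have hsum2X : ∑ g ∈ X, Complex.normSq (χ g) ≤ (Nat.card G : ℝ) * n := by
    rw [← hsum2R]
    exact Finset.sum_le_sum_of_subset_of_nonneg (Finset.subset_univ _)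
      fun g _ _ => Complex.normSq_nonneg _
  have hsumXre : ∑ g ∈ X, (χ g).re = (Nat.card G : ℝ) := by
    have := congrArg Complex.re hsumX
    simpa using this
  -- the key inequality
  set t : ℝ := (p : ℝ) ^ a with ht
  have hkey : ∑ g ∈ X, Complex.normSq (χ g - (t : ℂ)) ≤ 0 := by
    have hexp : ∀ g, Complex.normSq (χ g - (t : ℂ)) =
        Complex.normSq (χ g) - 2 * t * (χ g).re + t ^ 2 := by
      intro g
      rw [Complex.normSq_apply, Complex.normSq_apply]
      simp only [Complex.sub_re, Complex.sub_im, Complex.ofReal_re, Complex.ofReal_im]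
      ring
    simp only [hexp]
    rw [Finset.sum_add_distrib, Finset.sum_sub_distrib, ← Finset.mul_sum, hsumXre,
      Finset.sum_const, hXcard, nsmul_eq_mul]
    have hGR : (Nat.card G : ℝ) = t * m := by rw [hGm, ht]; push_cast; ring
    have hnR : (n : ℝ) ≤ t := by rw [ht]; exact_mod_cast hnle
    have htpos : 0 ≤ t := by rw [ht]; positivity
    have hmR : (0 : ℝ) ≤ m := Nat.cast_nonneg m
    have h1 : (Nat.card G : ℝ) * n ≤ t * m * t := by
      rw [hGR]; exact mul_le_mul_of_nonneg_left hnR (mul_nonneg htpos hmR)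
    nlinarith [hsum2X, h1, hGR]
  have hall : ∀ g ∈ X, χ g = (t : ℂ) := by
    intro g hg
    have h0 := (Finset.sum_eq_zero_iff_of_nonneg fun g _ => Complex.normSq_nonneg _).mp
      (le_antisymm hkey (Finset.sum_nonneg fun g _ => Complex.normSq_nonneg _)) g hg
    exact sub_eq_zero.mp (Complex.normSq_eq_zero.mp h0)
  have h1X : (1 : G) ∈ X := by
    simp only [hX, Finset.mem_filter, Finset.mem_univ, true_and, orderOf_one, Nat.dvd_one]
    exact hp.one_lt.ne'
  have hdim : (Module.finrank ℂ (subV A) : ℂ) = (t : ℂ) := by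
    rw [← hall 1 h1X, hχ]
    simp only
    rw [Representation.char_one]
  have htne : (t : ℂ) ≠ 0 := by
    rw [ht]; push_cast; exact pow_ne_zero _ (Nat.cast_ne_zero.mpr hp.ne_zero)
  have hker : ∀ g, ρ g = 1 ↔ g ∈ X := by
    intro g
    rw [← char_eq_finrank_iff ρ g, hdim]
    constructor
    · intro h
      by_contra hg
      have := hvan' g hg
      rw [hχ] at this
      simp only at this
      rw [this] at h
      exact htne h.symm
    · intro hg; exact hall g hg
  -- the kernel as a subgroup
  let N : Subgroup G :=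
    { carrier := {g | ρ g = 1}
      one_mem' := by simp
      mul_mem' := by
        intro x y hx hy
        simp only [Set.mem_setOf_eq] at hx hy ⊢
        rw [map_mul, hx, hy, mul_one]
      inv_mem' := by
        intro x hx
        simp only [Set.mem_setOf_eq] at hx ⊢
        have : ρ x⁻¹ * ρ x = 1 := by rw [← map_mul, inv_mul_cancel, map_one]
        rwa [hx, mul_one] at this }
  refine ⟨N, ⟨?_⟩, ?_⟩
  · intro x hx g
    change ρ (g * x * g⁻¹) = 1
    have hx' : ρ x = 1 := hx
    rw [map_mul, map_mul, hx', mul_one, ← map_mul, mul_inv_cancel, map_one]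
  · rw [← hcount]
    apply Nat.card_congr
    exact Equiv.subtypeEquivRight fun g => by
      change ρ g = 1 ↔ _
      rw [hker g]
      simp [hX]

end Cfsg.Agent.S4427
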