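import Mathlib
import Cfsg.Statements.S4430
import Cfsg.Agent.Lib.Helper18.BlockInduce

set_option autoImplicit false
open Cfsg

namespace Cfsg.Agent.S4430

open Cfsg.Agent.Helper24 Cfsg.Agent.Helper18 Cfsg.Agent.Helper23.Blk
open scoped ComplexConjugate

theorem result {G : Type*} [Group G] [Fintype G] (p : ℕ) [Fact p.Prime] (M : Ideal Cfsg.AlgInt) (hM : Cfsg.IsPModular p M) (H : Subgroup G) [Fintype H] (b : Set (Cfsg.IrrCharacter H)) (B₀ : Set (Cfsg.IrrCharacter G)) (hind : Cfsg.IsInducedBlock M H b B₀) (ξ : Cfsg.IrrCharacter H) (hξ : ξ ∈ b) : (∃ n : ℕ, Cfsg.blockPart B₀ (Cfsg.indFun H (ξ : H → ℂ)) 1 = (n : ℂ) ∧ n ≠ 0 ∧ n.factorization p = (Cfsg.charDegree (Cfsg.indFun H (ξ : H → ℂ))).factorization p) ∧ ∀ B : Set (Cfsg.IrrCharacter G), Cfsg.IsPBlock M B → B ≠ B₀ → ∃ n : ℕ, Cfsg.blockPart B (Cfsg.indFun H (ξ : H → ℂ)) 1 = (n : ℂ) ∧ (n = 0 ∨ (Cfsg.charDegree (Cfsg.indFun H (ξ : H → ℂ))).factorization p < n.factorization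 p) := by
  classical
  have hMp : M.IsPrime := isPrime_of_isPModular hM
  haveI := hMp
  letI : Fintype (IrrCharacter G) := irrFintype
  obtain ⟨hb, hB₀, hcong⟩ := hind
  obtain ⟨χ₀, hχ₀⟩ := hB₀
  have hχ₀B : χ₀ ∈ B₀ := by
    rw [hχ₀]
    exact mem_blockOf_self χ₀
  have hc : ∀ g : G, MemLocalIdeal M
      (inducedCentralChar H (ξ : H → ℂ) g - centralChar (χ₀ : G → ℂ) g) :=
    fun g => hcong ξ hξ χ₀ hχ₀B g
  obtain ⟨φ, hφdef⟩ : ∃ φ : G → ℂ, φ = indFun H (ξ : H → ℂ) := ⟨_, rfl⟩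
  rw [← hφdef]
  have hφ : IsCharacter G φ := by
    rw [hφdef]
    exact isCharacter_indFun H (isCharacter_of_isIrrCharacter ξ.2)
  have hφ1 : φ 1 = (charDegree φ : ℂ) := char_one_eq_charDegree hφ
  have hN0 : charDegree φ ≠ 0 := by
    intro h0
    rw [h0, hφdef, indFun_one] at hφ1
    have hidx0 : (H.index : ℂ) ≠ 0 := by
      have : H.index ≠ 0 := Subgroup.index_ne_zero_of_finite
      exact_mod_cast this
    have := mul_ne_zero hidx0 (irr_one_ne_zero ξ.2)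
    apply this
    rw [hφ1]
    simp
  have hnat : ∀ B : Set (IrrCharacter G), ∃ n : ℕ, blockPart B φ 1 = (n : ℂ) := by
    intro B
    rw [blockPart_apply, finsum_mem_def, finsum_eq_sum_of_fintype]
    have hterm : ∀ χ : IrrCharacter G, ∃ k : ℕ, Set.indicator B
        (fun χ : IrrCharacter G => classInner φ (χ : G → ℂ) * (χ : G → ℂ) 1) χ = (k : ℂ) := by
      intro χ
      obtain ⟨a, ha⟩ := classInner_char_nat hφ (isCharacter_of_isIrrCharacter χ.2)
      by_cases h : χ ∈ B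
      · refine ⟨a * charDegree (χ : G → ℂ), ?_⟩
        rw [Set.indicator_of_mem h, ha, irr_one_eq_charDegree χ.2]
        push_cast
        ring
      · exact ⟨0, by rw [Set.indicator_of_notMem h]; simp⟩
    choose k hk using hterm
    refine ⟨∑ χ : IrrCharacter G, k χ, ?_⟩
    push_cast
    exact Finset.sum_congr rfl (fun χ _ => hk χ)
  constructor
  · obtain ⟨n, hn⟩ := hnat B₀
    have h1 := (memLocalIdeal_blockPart_div_sub H hMp hc ⟨χ₀, hχ₀⟩).1 hχ₀B
    rw [← hφdef, hn, hφ1] at h1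
    obtain ⟨hn0, hfac⟩ := factorization_eq_of_memLocalIdeal_div_sub_one hM hN0 h1
    exact ⟨n, hn, hn0, hfac⟩
  · intro B hB hne
    obtain ⟨n, hn⟩ := hnat B
    have hχ₀notB : χ₀ ∉ B := by
      intro h
      apply hne
      obtain ⟨χ₁, rfl⟩ := hB
      rw [hχ₀]
      exact (blockOf_eq_of_mem h).symm
    have h1 := (memLocalIdeal_blockPart_div_sub H hMp hc hB).2 hχ₀notB
    rw [← hφdef, hn, hφ1] at h1
    refine ⟨n, hn, ?_⟩
    by_cases hn0 : n = 0
    · left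
      exact hn0
    · right
      exact factorization_lt_of_memLocalIdeal_div hM hN0 hn0 h1

end Cfsg.Agent.S4430
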