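import Mathlib
import Cfsg.Statements.S4431
import Cfsg.Agent.Lib.Helper23.BlockHeightZero2

set_option autoImplicit false
open Cfsg Cfsg.Agent.Helper23.Blk Cfsg.Agent.Helper24

namespace Cfsg.Agent.S4431

/-- Let H be a subgroup of the finite group G and b a block of H whose induced block B₀ in G is defined (relative to a maximal ideal M of the algebraic integers containing p). Let χ be an irreducible character of G, ψ ∈ b, and let η be the class function on H equal to p^a · χ on the p-regular elements of H and zero elsewhere, p^a being the p-part of the order of H. Then (a) if χ ∉ B₀, the number [η, ψ]/ψ(1) lies in the local ideal at M; (b) if χ ∈ B₀ has height zero, it does not. -/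
theorem result {G : Type*} [Group G] [Fintype G] (p : ℕ) [Fact p.Prime] (M : Ideal Cfsg.AlgInt) (hM : Cfsg.IsPModular p M) (H : Subgroup G) [Fintype H] (b : Set (Cfsg.IrrCharacter H)) (B₀ : Set (Cfsg.IrrCharacter G)) (hind : Cfsg.IsInducedBlock M H b B₀) (χ : Cfsg.IrrCharacter G) (ψ : Cfsg.IrrCharacter H) (hψ : ψ ∈ b) : (χ ∉ B₀ → Cfsg.MemLocalIdeal M (Cfsg.classInner (fun h : H => if p ∣ orderOf h then (0 : ℂ) else ((p ^ (Nat.card H).factorization p : ℕ) : ℂ) * (χ : G → ℂ) h) (ψ : H → ℂ) / (ψ : H → ℂ) 1)) ∧ (χ ∈ B₀ → Cfsg.blockHeight p B₀ (χ : G → ℂ) = 0 → ¬ Cfsg.MemLocalIdeal M (Cfsg.classInner (fun h : H => if p ∣ orderOf h then (0 : ℂ) else ((p ^ (Nat.card H).factorization p : ℕ) : ℂ) * (χ : G → ℂ) h) (ψ : H → ℂ) / (ψ : H → ℂ) 1)) := by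
  classical
  haveI hMp : M.IsPrime := hM.2.1.isPrime
  letI : Fintype (IrrCharacter H) := irrFintype
  have hkey := omega_restrict_conjReg hM H hind χ hψ
  obtain ⟨hu1, hu2⟩ := unit_card_part (G := H) hM
  have hωR : MemLocalRing M (omega (ψ : H → ℂ)
      (fun h : H => conjReg p (χ : G → ℂ) (h : G))) := by
    apply memLocalRing_omega ψ
    · exact isClassFunction_comp_subtype H
        (isClassFunction_conjReg (isClassFunction_of_isIrrCharacter χ.2))
    · intro h
      exact memLocalRing_conjReg (isCharacter_of_isIrrCharacter χ.2) _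
  rw [classInner_eta_div]
  constructor
  · intro hχ
    exact memLocalIdeal_mul_left hu1 (hkey.1 hχ)
  · intro hχ h0 hc
    rcases memLocalIdeal_or_of_mul hu1 hωR hc with h1 | h1
    · exact hu2 h1
    · exact hkey.2 hχ h0 h1

end Cfsg.Agent.S4431
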