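import Mathlib
import Cfsg.Statements.S4432
import Cfsg.Agent.Lib.Helper5.KGBlock

set_option autoImplicit false
open Cfsg

namespace Cfsg.Agent.S4432

open Cfsg.Agent.Helper23.Blk Cfsg.Agent.Helper24 Cfsg.Agent.Helper18 Cfsg.Agent.Helper5.KG

/-- If the p-block B of G covers the block b of the normal subgroup N, then every irreducible character in b lies under some irreducible character in B. -/
theorem result {G : Type*} [Group G] [Fintype G] (p : ℕ) [Fact p.Prime] (M : Ideal Cfsg.AlgInt) (hM : Cfsg.IsPModular p M) (N : Subgroup G) [hN : N.Normal] [Fintype N] (B : Set (Cfsg.IrrCharacter G)) (hB : Cfsg.IsPBlock M B) (b : Set (Cfsg.IrrCharacter N)) (hb : Cfsg.IsPBlock M b) (hcov : (∃ χ ∈ B, ∃ θ ∈ b, Cfsg.classInner (fun n : N => (χ : G → ℂ) n) (θ : N → ℂ) ≠ 0)) (θ : Cfsg.IrrCharacter N) (hθ : θ ∈ b) : ∃ χ ∈ B, Cfsg.classInner (fun n : N => (χ : G → ℂ) n) (θ : N → ℂ) ≠ 0 := by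
  classical
  haveI hMax : M.IsMaximal := hM.2.1
  haveI hMp : M.IsPrime := hM.2.1.isPrime
  by_contra hcon
  push Not at hcon
  obtain ⟨y, hyinv, hyR, φ, hφ⟩ := exists_omega_not_mem N hM hB
  apply hφ
  have hloc : ∀ g : G, MemLocalRing M (blockCoeff B g) :=
    fun g => memLocalRing_blockCoeff hMp hB g
  have hBcl : IsClassFunction G (blockCoeff B) := fun g x => blockCoeff_conj B g x
  have hzcl : IsClassFunction N (fun n : N => conv (blockCoeff B) y (n : G)) :=
    isClassFunction_res_conv N hBcl hyinv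
  have hzR : ∀ n : N, MemLocalRing M (conv (blockCoeff B) y (n : G)) := by
    intro n
    rw [conv_apply]
    exact memLocalRing_sum _ _ fun h _ => memLocalRing_mul (hloc h) (hyR _)
  by_cases hover : ∀ χ ∈ B, classInner (fun n : N => (χ : G → ℂ) n) (φ : N → ℂ) = 0
  · rw [omega_res_conv_eq_zero N φ hover hyinv]
    exact memLocalIdeal_zero ne_top
  · push Not at hover
    obtain ⟨χ', hχ'B, hχ'φ⟩ := hover
    obtain ⟨χ₀, hχ₀B, θ', hθ'b, hχ₀θ'⟩ := hcov
    have hsame : SameBlock M (χ₀ : G → ℂ) (χ' : G → ℂ) := by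
      obtain ⟨χ₁, rfl⟩ := hB
      exact sameBlock_trans (sameBlock_symm hχ₀B) hχ'B
    have hφorb := cover_orbit N hMp hb hsame hθ'b hχ₀θ' hχ'φ
    obtain ⟨g, ψ, hψb, hφeq⟩ := hφorb
    -- `ψ` and `θ` are in the same block, hence so are their conjugates
    have hψθ : SameBlock M (ψ : N → ℂ) (θ : N → ℂ) := by
      obtain ⟨θ₁, rfl⟩ := hb
      exact sameBlock_trans (sameBlock_symm hψb) hθ
    have hconj : SameBlock M ((conjIrr N g ψ : IrrCharacter N) : N → ℂ)
        ((conjIrr N g θ : IrrCharacter N) : N → ℂ) := sameBlock_conjFun N g hψθ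
    have h1 := memLocalIdeal_omega_sub (M := M) hconj hzcl hzR
    have hθg : ∀ χ ∈ B, classInner (fun n : N => (χ : G → ℂ) n)
        ((conjIrr N g θ : IrrCharacter N) : N → ℂ) = 0 := by
      intro χ hχ
      rw [conjIrr_coe, Cfsg.Agent.Helper5.classInner_restrict_conjFun N g
        (isClassFunction_of_isIrrCharacter χ.2)]
      exact hcon χ hχ
    rw [omega_res_conv_eq_zero N (conjIrr N g θ) hθg hyinv, sub_zero, ← hφeq] at h1
    exact h1

end Cfsg.Agent.S4432
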