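import Mathlib
import Cfsg.Statements.S4442
import Cfsg.Agent.Lib.Helper5.TLDFinal

set_option autoImplicit false
open Cfsg

namespace Cfsg.Agent.S4442

/-- Blocks of defect one. Let p be an odd prime and G a finite group whose Sylow p-subgroup P has order p; let C = C_G(P) and N = N_G(P), and fix a maximal ideal M of the algebraic integers containing p. Let B be a block of G with defect group P, b a block of C inducing B, and θ the member of b having P in its kernel (there is exactly one). Let T be the stabilizer of θ in N (the elements g ∈ N with θ(g c g⁻¹) = θ(c) for all c ∈ C) and e the index of C in T. Then e divides p − 1 and B contains exactly e + (p − 1)/e irreducible characters. Moreover B is the disjoint union of a set X of e characters and a set Y of (p − 1)/e characters such that, with f the index of C in N: every χ ∈ X has χ(1) ≡ ±(f/e)·θ(1) (mod p), there is one sign ε with ψ(1) ≡ ε f θ(1) (mod p) for all ψ ∈ Y, and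 all members of Y agree on the p-regular elements of G. -/
theorem result {G : Type*} [Group G] [Finite G] (p : ℕ) [Fact p.Prime] (M : Ideal Cfsg.AlgInt) (hM : Cfsg.IsPModular p M) (hodd : p ≠ 2) (P : Sylow p G) (hP : Nat.card P = p) (B : Set (Cfsg.IrrCharacter G)) (hB : Cfsg.IsPBlock M B) (hBP : Cfsg.IsDefectGroup p M B P) (b : Set (Cfsg.IrrCharacter (Subgroup.centralizer ((P : Subgroup G) : Set G)))) (hind : Cfsg.IsInducedBlock M (Subgroup.centralizer ((P : Subgroup G) : Set G)) b B) (θ : Cfsg.IrrCharacter (Subgroup.centralizer ((P : Subgroup G) : Set G))) (hθ : θ ∈ b) (hθP : ∀ x : Subgroup.centralizer ((P : Subgroup G) : Set G), (x : G) ∈ (P : Subgroup G) → (θ : Subgroup.centralizer ((P : Subgroup G) : Set G) → ℂ) x = (θ : Subgroup.centralizer ((P : Subgroup G) : Set G) → ℂ) 1) (T : Subgroup G) (hT : ∀ g : G, g ∈ T ↔ (g ∈ Subgroup.normalizer ((P : Subgroup G) : Set G) ∧ ∀ c c' : Subgroup.centralizer ((P : Subgroup G) : Set G),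 (c' : G) = g * c * g⁻¹ → (θ : Subgroup.centralizer ((P : Subgroup G) : Set G) → ℂ) c' = (θ : Subgroup.centralizer ((P : Subgroup G) : Set G) → ℂ) c)) (e f : ℕ) (he : (Subgroup.centralizer ((P : Subgroup G) : Set G)).relIndex T = e) (hf : (Subgroup.centralizer ((P : Subgroup G) : Set G)).relIndex (Subgroup.normalizer ((P : Subgroup G) : Set G)) = f) : e ∣ p - 1 ∧ Nat.card B = e + (p - 1) / e ∧ ∃ X Y : Set (Cfsg.IrrCharacter G), B = X ∪ Y ∧ Disjoint X Y ∧ Nat.card X = e ∧ Nat.card Y = (p - 1) / e ∧ (∀ χ ∈ X, (Cfsg.charDegree (χ : G → ℂ) : ℤ) ≡ ((f / e * Cfsg.charDegree (θ : Subgroup.centralizer ((P : Subgroup G) : Set G) → ℂ) : ℕ) : ℤ) [ZMOD p] ∨ (Cfsg.charDegree (χ : G → ℂ) : ℤ) ≡ -((f / e * Cfsg.charDegree (θ : Subgroup.centralizer ((P : Subgroup G) : Set G) → ℂ) : ℕ) : ℤ) [ZMOD p]) ∧ (∃ ε : ℤ, (ε = 1 ∨ ε = -1) ∧ ∀ ψ ∈ Y, (Cfsg.charDegree (ψ : G → ℂ) : ℤ) ≡ ε * ((f * Cfsg.charDegree (θ : Subgroup.centralizer ((P : Subgroup G)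 : Set G) → ℂ) : ℕ) : ℤ) [ZMOD p]) ∧ ∀ ψ ∈ Y, ∀ ψ' ∈ Y, ∀ g : G, ¬ p ∣ orderOf g → (ψ : G → ℂ) g = (ψ' : G → ℂ) g := by
  classical
  obtain ⟨hed, Xs, Y, hmem, hdisj, hXs, hY, hdX, hdY, hreg⟩ :=
    Cfsg.Agent.Helper5.TLD.main_S4442 p M hM hodd P hP B hB hBP b hind θ hθ hθP T hT e f he hf
  have hBeq : B = (Xs : Set (Cfsg.IrrCharacter G)) ∪ (Y : Set (Cfsg.IrrCharacter G)) := by
    ext χ
    rw [Set.mem_union, Finset.mem_coe, Finset.mem_coe]
    exact hmem χ
  have hcX : Nat.card (Xs : Set (Cfsg.IrrCharacter G)) = e := by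
    rw [Nat.card_coe_set_eq, Set.ncard_coe_finset, hXs]
  have hcY : Nat.card (Y : Set (Cfsg.IrrCharacter G)) = (p - 1) / e := by
    rw [Nat.card_coe_set_eq, Set.ncard_coe_finset, hY]
  have hdisj' : Disjoint (Xs : Set (Cfsg.IrrCharacter G)) (Y : Set (Cfsg.IrrCharacter G)) :=
    Finset.disjoint_coe.2 hdisj
  refine ⟨hed, ?_, (Xs : Set (Cfsg.IrrCharacter G)), (Y : Set (Cfsg.IrrCharacter G)), hBeq,
    hdisj', hcX, hcY, ?_, ?_, ?_⟩
  · rw [hBeq, Nat.card_coe_set_eq, ← Finset.coe_union, Set.ncard_coe_finset,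
      Finset.card_union_of_disjoint hdisj, hXs, hY]
  · intro χ hχ
    exact hdX χ (Finset.mem_coe.1 hχ)
  · obtain ⟨ε, hε, h⟩ := hdY
    exact ⟨ε, hε, fun ψ hψ => h ψ (Finset.mem_coe.1 hψ)⟩
  · intro ψ hψ ψ' hψ' g hg
    exact hreg ψ (Finset.mem_coe.1 hψ) ψ' (Finset.mem_coe.1 hψ') g hg

end Cfsg.Agent.S4442
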