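import Mathlib
import Cfsg.Statements.S4445
import Cfsg.Agent.Lib.Helper24.GlaubChain
import Cfsg.Agent.Lib.Helper24.GlaubTransfer

set_option autoImplicit false
set_option linter.style.haveILetI false
open Cfsg

namespace Cfsg.Agent.S4445

open Cfsg.Agent.Helper24 Cfsg.Agent.Helper24.Glaub

theorem clsInv_conjHom_iff {Γ : Type*} [Group Γ] (G S : Subgroup Γ)
    (hSG : S ≤ Subgroup.normalizer (G : Set Γ)) (K : ConjClasses G) :
    ClsInv (conjHom G S hSG) K ↔
      ∀ s ∈ S, ∀ g g' : G, (g' : Γ) = s * g * s⁻¹ → ConjClasses.mk g = K →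
        ConjClasses.mk g' = K := by
  constructor
  · intro h s hs g g' hgg' hg
    have := h ⟨s, hs⟩ g hg
    rw [← this]
    congr 1
    apply Subtype.ext
    rw [hgg', conjHom_apply]
  · intro h s g hg
    exact h s.1 s.2 g _ (conjHom_apply G S hSG s g) hg

/-- Inside a finite group Γ let the solvable subgroup S normalise G with the orders of G and S coprime. Then the number of S-invariant irreducible characters of G (χ(s g s⁻¹) = χ(g) for all s ∈ S, g ∈ G) equals the number of conjugacy classes of G mapped to themselves by conjugation by every element of S. -/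
theorem result {Γ : Type*} [Group Γ] [Fintype Γ] (G S : Subgroup Γ) [Fintype G] (hnorm : ∀ s ∈ S, ∀ g ∈ G, s * g * s⁻¹ ∈ G) (hcop : (Nat.card G).Coprime (Nat.card S)) (hsolv : Group.IsSolvable S) : Nat.card {χ : Cfsg.IrrCharacter G // (∀ s ∈ S, ∀ g g' : G, (g' : Γ) = s * g * s⁻¹ → (χ : G → ℂ) g' = (χ : G → ℂ) g)} = Nat.card {K : ConjClasses G // ∀ s ∈ S, ∀ g g' : G, (g' : Γ) = s * g * s⁻¹ → ConjClasses.mk g = K → ConjClasses.mk g' = K} := by
  have hSG : S ≤ Subgroup.normalizer (G : Set Γ) := le_normalizer_of_forall_conj_mem S G hnorm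
  have h := count_solvable (conjHom G S hSG) hcop.symm
  rw [Nat.card_congr (Equiv.subtypeEquivRight
    (fun χ : IrrCharacter G => isInv_conjHom_iff G S hSG (χ : G → ℂ))),
    Nat.card_congr (Equiv.subtypeEquivRight
    (fun K : ConjClasses G => clsInv_conjHom_iff G S hSG K))] at h
  exact h

end Cfsg.Agent.S4445
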