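import Mathlib
import Cfsg.Statements.S4447
import Cfsg.Agent.Lib.Helper24.NormalizerAct
import Cfsg.Agent.Lib.Helper24.GlaubermanPerm
import Cfsg.Agent.Lib.Helper5.Clifford

set_option autoImplicit false
open Cfsg

namespace Cfsg.Agent.S4447

open Cfsg.Agent.Helper24 Cfsg.Agent.Helper5

/-- `G` normalizes `N` when `N.subgroupOf G` is normal. -/
theorem le_normalizer_of_subgroupOf_normal {Γ : Type*} [Group Γ] (G N : Subgroup Γ) (hNG : N ≤ G)
    [hNn : (N.subgroupOf G).Normal] : G ≤ Subgroup.normalizer (N : Set Γ) := by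
  apply le_normalizer_of_forall_conj_mem
  intro g hg n hn
  have h1 : (⟨n, hNG hn⟩ : G) ∈ N.subgroupOf G := by
    rw [Subgroup.mem_subgroupOf]; exact hn
  have h2 := hNn.conj_mem _ h1 ⟨g, hg⟩
  rw [Subgroup.mem_subgroupOf] at h2
  exact h2

/-- Elements of `H` act trivially on `Irr H`. -/
theorem conjIrr_of_mem {Γ : Type*} [Group Γ] (H : Subgroup Γ) (x : Γ) (hx : x ∈ H)
    (hx' : x ∈ Subgroup.normalizer (H : Set Γ)) (θ : IrrCharacter H) :
    conjIrr H x hx' θ = θ := by
  rw [conjIrr_eq_iff]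
  intro g g' hgg'
  have hcf := isClassFunction_of_isIrrCharacter θ.2
  have : g' = ⟨x, hx⟩ * g * (⟨x, hx⟩ : H)⁻¹ := Subtype.ext hgg'
  rw [this]
  exact hcf g ⟨x, hx⟩

/-- Inside a finite group Γ let S normalise G and also normalise a normal subgroup N of G, with the order of S coprime to the index of N in G and S or G/N solvable. Then for every S-invariant irreducible character χ of G, the restriction of χ to N has an S-invariant irreducible constituent. -/
theorem result {Γ : Type*} [Group Γ] [Fintype Γ] (G S N : Subgroup Γ) [Fintype G] [Fintype N] (hnorm : ∀ s ∈ S, ∀ g ∈ G, s * g * s⁻¹ ∈ G) (hNG : N ≤ G) [hNn : (N.subgroupOf G).Normal] (hNS : ∀ s ∈ S, ∀ n ∈ N, s * n * s⁻¹ ∈ N) (hcop : (N.relIndex G).Coprime (Nat.card S)) (hsolv : Group.IsSolvable S ∨ Group.IsSolvable (G ⧸ N.subgroupOf G)) (χ : Cfsg.IrrCharacter G) (hinv : (∀ s ∈ S, ∀ g g' : G, (g' : Γ) = s * g * s⁻¹ → (χ : G → ℂ) g' = (χ : G → ℂ) g)) : ∃ θ : Cfsg.IrrCharacter N, Cfsg.classInner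 (fun n : N => (χ : G → ℂ) ⟨n, hNG n.2⟩) (θ : N → ℂ) ≠ 0 ∧ (∀ s ∈ S, ∀ g g' : N, (g' : Γ) = s * g * s⁻¹ → (θ : N → ℂ) g' = (θ : N → ℂ) g) := by
  classical
  have hGN : G ≤ Subgroup.normalizer (N : Set Γ) := le_normalizer_of_subgroupOf_normal G N hNG
  have hSN : S ≤ Subgroup.normalizer (N : Set Γ) := le_normalizer_of_forall_conj_mem S N hNS
  haveI : Finite (IrrCharacter N) := by
    letI := irrFintype (G := N)
    infer_instance
  set a := permOf N G hGN with ha
  set b := permOf N S hSN with hb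
  -- the kernel of `a` contains `N`
  have hker : N.subgroupOf G ≤ a.ker := by
    intro g hg
    rw [Subgroup.mem_subgroupOf] at hg
    rw [MonoidHom.mem_ker]
    ext1 θ
    rw [ha, permOf_apply]
    exact conjIrr_of_mem N g.1 hg _ θ
  have hcardK : Nat.card a.range ∣ N.relIndex G := by
    rw [← Subgroup.index_ker]
    exact Subgroup.index_dvd_of_le hker
  have hcardA : Nat.card b.range ∣ Nat.card S := Subgroup.card_range_dvd b
  have hcop' : (Nat.card b.range).Coprime (Nat.card a.range) :=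
    (Nat.Coprime.coprime_dvd_left hcardK (Nat.Coprime.coprime_dvd_right hcardA hcop)).symm
  have hsolv' : Group.IsSolvable b.range ∨ Group.IsSolvable a.range := by
    rcases hsolv with hs | hs
    · left
      exact Group.isSolvable_of_surjective (f := b.rangeRestrict) b.rangeRestrict_surjective
    · right
      have hle : N.subgroupOf G ≤ a.rangeRestrict.ker := by
        rw [MonoidHom.ker_rangeRestrict]; exact hker
      refine Group.isSolvable_of_surjective
        (f := QuotientGroup.lift (N.subgroupOf G) a.rangeRestrict hle) ?_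
      intro y
      obtain ⟨g, hg⟩ := a.rangeRestrict_surjective y
      exact ⟨(g : G ⧸ N.subgroupOf G), by rw [QuotientGroup.lift_mk]; exact hg⟩
  have hnormal : b.range ≤ Subgroup.normalizer (a.range : Set (Equiv.Perm (IrrCharacter N))) :=
    permOf_range_le_normalizer N S G hSN hGN hnorm
  -- a constituent of the restriction
  have hχN : IsCharacter N (fun n : N => (χ : G → ℂ) ⟨n, hNG n.2⟩) := by
    have := isCharacter_resFun (G := Γ) hNG (isCharacter_of_isIrrCharacter χ.2)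
    exact this
  have hne : (fun n : N => (χ : G → ℂ) ⟨n, hNG n.2⟩) ≠ 0 := by
    intro h0
    have h1 := congrFun h0 1
    have h2 : (χ : G → ℂ) 1 ≠ 0 := by
      obtain ⟨d, hd, hd'⟩ := Cfsg.Agent.Helper24.irr_one_eq χ.2
      rw [hd']
      exact_mod_cast hd.ne'
    apply h2
    exact h1
  obtain ⟨θ₀, hθ₀, hθ₀c⟩ := exists_constituent hχN hne
  -- conjugates under `G`
  have hGconj : ∀ (g : G) (θ : IrrCharacter N),
      classInner (fun n : N => (χ : G → ℂ) ⟨n, hNG n.2⟩) (a g θ : N → ℂ) =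
        classInner (fun n : N => (χ : G → ℂ) ⟨n, hNG n.2⟩) (θ : N → ℂ) := by
    intro g θ
    rw [ha, permOf_apply]
    apply classInner_res_conjIrr N G hNG g.1 (hGN g.2) (χ : G → ℂ)
    intro x x' hxx'
    have hcf := isClassFunction_of_isIrrCharacter χ.2
    have : x' = g * x * g⁻¹ := Subtype.ext hxx'
    rw [this]
    exact hcf x g
  have hSconj : ∀ (s : S) (θ : IrrCharacter N),
      classInner (fun n : N => (χ : G → ℂ) ⟨n, hNG n.2⟩) (b s θ : N → ℂ) =
        classInner (fun n : N => (χ : G → ℂ) ⟨n, hNG n.2⟩) (θ : N → ℂ) := by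
    intro s θ
    rw [hb, permOf_apply]
    exact classInner_res_conjIrr N G hNG s.1 (hSN s.2) (χ : G → ℂ) (hinv s.1 s.2) θ
  -- Clifford: constituents are `G`-conjugate
  have hcliff : ∀ θ φ : IrrCharacter N,
      classInner (fun n : N => (χ : G → ℂ) ⟨n, hNG n.2⟩) (θ : N → ℂ) ≠ 0 →
      classInner (fun n : N => (χ : G → ℂ) ⟨n, hNG n.2⟩) (φ : N → ℂ) ≠ 0 →
      ∃ g : G, a g θ = φ := by
    intro θ φ h1 h2
    let _ : Fintype (N.subgroupOf G) := Fintype.ofFinite _
    let e : N.subgroupOf G ≃* N := Subgroup.subgroupOfEquivOfLe hNG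
    have hres : (fun n' : N.subgroupOf G => (χ : G → ℂ) n') =
        (fun n : N => (χ : G → ℂ) ⟨n, hNG n.2⟩) ∘ e := by
      funext n'
      rfl
    have h1' : classInner (fun n' : N.subgroupOf G => (χ : G → ℂ) n') ((θ : N → ℂ) ∘ e) ≠ 0 := by
      rw [hres, classInner_comp_equiv]; exact h1
    have h2' : classInner (fun n' : N.subgroupOf G => (χ : G → ℂ) n') ((φ : N → ℂ) ∘ e) ≠ 0 := by
      rw [hres, classInner_comp_equiv]; exact h2
    obtain ⟨x, hx⟩ := clifford_conj (N.subgroupOf G) χ.2 (isIrrCharacter_comp_equiv e θ.2)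
      (isIrrCharacter_comp_equiv e φ.2) h1' h2'
    refine ⟨x⁻¹, ?_⟩
    apply Subtype.ext
    funext n
    have := congrFun hx (e.symm n)
    rw [conjFun_apply, Function.comp_apply, Function.comp_apply, MulEquiv.apply_symm_apply] at this
    rw [← this, ha, permOf_apply, conjIrr_apply]
    apply congrArg (θ : N → ℂ)
    apply Subtype.ext
    rw [normConj_apply]
    show ((x⁻¹ : G) : Γ)⁻¹ * (n : Γ) * ((x⁻¹ : G) : Γ)⁻¹⁻¹ = _
    simp
    rfl
  obtain ⟨k, hk, hfix⟩ := glauberman_perm a.range b.range hnormal hcop' hsolv' ⟨θ₀, hθ₀⟩ (by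
    rintro _ ⟨s, rfl⟩
    obtain ⟨g, hg⟩ := hcliff ⟨θ₀, hθ₀⟩ (b s ⟨θ₀, hθ₀⟩) hθ₀c (by rw [hSconj]; exact hθ₀c)
    exact ⟨a g, ⟨g, rfl⟩, hg.symm⟩)
  obtain ⟨g, rfl⟩ := hk
  refine ⟨a g ⟨θ₀, hθ₀⟩, ?_, ?_⟩
  · rw [hGconj]; exact hθ₀c
  · intro s hs
    have h1 := hfix (b ⟨s, hs⟩) ⟨⟨s, hs⟩, rfl⟩
    rw [hb, permOf_apply] at h1
    exact (conjIrr_eq_iff N s (hSN hs) _).mp h1

end Cfsg.Agent.S4447
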