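import Mathlib
import Cfsg.Statements.S4448
import Cfsg.Agent.Lib.Helper24.CoprimeOver

set_option autoImplicit false
set_option linter.style.haveILetI false
open Cfsg

namespace Cfsg.Agent.S4448

open Cfsg.Agent.Helper24 Cfsg.Agent.Helper5

universe u

/-- The subgroup `N · G'` of `G`, as a subgroup of the ambient group. -/
def mid {Γ : Type u} [Group Γ] (G N : Subgroup Γ) : Subgroup Γ :=
  (N.subgroupOf G ⊔ commutator G).map G.subtype

theorem mid_le {Γ : Type u} [Group Γ] (G N : Subgroup Γ) : mid G N ≤ G :=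
  Subgroup.map_subtype_le _

theorem mid_subgroupOf {Γ : Type u} [Group Γ] (G N : Subgroup Γ) :
    (mid G N).subgroupOf G = N.subgroupOf G ⊔ commutator G :=
  Subgroup.comap_map_eq_self_of_injective G.subtype_injective _

theorem mid_eq {Γ : Type u} [Group Γ] (G N : Subgroup Γ) (hNG : N ≤ G) :
    mid G N = N ⊔ ⁅G, G⁆ := by
  unfold mid
  rw [Subgroup.map_sup, Subgroup.map_subgroupOf_eq_of_le hNG, commutator_def,
    Subgroup.map_commutator]
  have : (⊤ : Subgroup G).map G.subtype = G := by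
    rw [← MonoidHom.range_eq_map, Subgroup.range_subtype]
  rw [this]

theorem le_mid {Γ : Type u} [Group Γ] (G N : Subgroup Γ) (hNG : N ≤ G) : N ≤ mid G N := by
  rw [mid_eq G N hNG]
  exact le_sup_left

theorem mid_invariant {Γ : Type u} [Group Γ] (G S N : Subgroup Γ) (hNG : N ≤ G)
    (hnorm : ∀ s ∈ S, ∀ g ∈ G, s * g * s⁻¹ ∈ G) (hNS : ∀ s ∈ S, ∀ n ∈ N, s * n * s⁻¹ ∈ N) :
    ∀ s ∈ S, ∀ m ∈ mid G N, s * m * s⁻¹ ∈ mid G N := by
  intro s hs m hm
  rw [mid_eq G N hNG] at hm ⊢
  have h1 : N.map (MulAut.conj s).toMonoidHom ≤ N := by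
    rintro _ ⟨n, hn, rfl⟩
    exact hNS s hs n hn
  have h2 : G.map (MulAut.conj s).toMonoidHom ≤ G := by
    rintro _ ⟨g, hg, rfl⟩
    exact hnorm s hs g hg
  have h3 : (N ⊔ ⁅G, G⁆).map (MulAut.conj s).toMonoidHom ≤ N ⊔ ⁅G, G⁆ := by
    rw [Subgroup.map_sup, Subgroup.map_commutator]
    exact sup_le_sup h1 (Subgroup.commutator_mono h2 h2)
  exact h3 ⟨m, hm, rfl⟩

theorem mid_ne {Γ : Type u} [Group Γ] (G N : Subgroup Γ) (hNG : N ≤ G)
    [hNn : (N.subgroupOf G).Normal] [hsolv : Group.IsSolvable (G ⧸ N.subgroupOf G)] (hne : N ≠ G) :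
    mid G N ≠ G := by
  intro h
  have h1 : N.subgroupOf G ⊔ commutator G = ⊤ := by
    rw [← mid_subgroupOf, h]
    exact Subgroup.subgroupOf_self G
  haveI : Nontrivial (G ⧸ N.subgroupOf G) := by
    rw [QuotientGroup.nontrivial_iff]
    intro h2
    apply hne
    apply le_antisymm hNG
    rw [← Subgroup.subgroupOf_eq_top]
    exact h2
  have h3 := Group.IsSolvable.commutator_lt_top_of_nontrivial (G := G ⧸ N.subgroupOf G)
  apply h3.ne
  have hsurj : Function.Surjective (QuotientGroup.mk' (N.subgroupOf G)) :=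
    QuotientGroup.mk'_surjective _
  have h4 := congrArg (Subgroup.map (QuotientGroup.mk' (N.subgroupOf G))) h1
  rw [Subgroup.map_sup, Subgroup.map_top_of_surjective _ hsurj, QuotientGroup.map_mk'_self,
    bot_sup_eq, commutator_def, Subgroup.map_commutator,
    Subgroup.map_top_of_surjective _ hsurj] at h4
  rw [commutator_def]
  exact h4

theorem aux {Γ : Type u} [Group Γ] [Fintype Γ] (S : Subgroup Γ) :
    ∀ (n : ℕ) (G N : Subgroup Γ) [Fintype N]
      (hnorm : ∀ s ∈ S, ∀ g ∈ G, s * g * s⁻¹ ∈ G) (hNG : N ≤ G) [hNn : (N.subgroupOf G).Normal]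
      (hNS : ∀ s ∈ S, ∀ n ∈ N, s * n * s⁻¹ ∈ N) (hcop : (N.relIndex G).Coprime (Nat.card S))
      (k : ℕ) (hk : ∀ x ∈ derivedSeries G k, (x : Γ) ∈ N) (hn : N.relIndex G = n)
      (θ : IrrCharacter N)
      (hinv : ∀ s ∈ S, ∀ g g' : N, (g' : Γ) = s * g * s⁻¹ → (θ : N → ℂ) g' = (θ : N → ℂ) g),
      ∃ χ : IrrCharacter G,
        classInner (fun n : N => (χ : G → ℂ) ⟨n, hNG n.2⟩) (θ : N → ℂ) ≠ 0 ∧
        (∀ s ∈ S, ∀ g g' : G, (g' : Γ) = s * g * s⁻¹ → (χ : G → ℂ) g' = (χ : G → ℂ) g) := by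
  intro n
  induction n using Nat.strong_induction_on with
  | _ n ih =>
    intro G N _ hnorm hNG hNn hNS hcop k hk hn θ hinv
    by_cases hEq : N = G
    · subst hEq
      refine ⟨θ, ?_, hinv⟩
      have : (fun n : N => (θ : N → ℂ) ⟨n, hNG n.2⟩) = (θ : N → ℂ) := rfl
      rw [this, irr_orthogonality θ.2 θ.2, if_pos rfl]
      exact one_ne_zero
    · -- the intermediate subgroup
      have hMG := mid_le G N
      have hNM := le_mid G N hNG
      have hMS := mid_invariant G S N hNG hnorm hNS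
      haveI hsolv : Group.IsSolvable (G ⧸ N.subgroupOf G) := by
        rw [Group.isSolvable_def]
        refine ⟨k, ?_⟩
        rw [← map_derivedSeries_eq (f := QuotientGroup.mk' (N.subgroupOf G))
          (QuotientGroup.mk'_surjective _) k, eq_bot_iff]
        rintro _ ⟨x, hx, rfl⟩
        rw [Subgroup.mem_bot, QuotientGroup.mk'_apply, QuotientGroup.eq_one_iff,
          Subgroup.mem_subgroupOf]
        exact hk x hx
      have hMne := mid_ne G N hNG hEq
      set M := mid G N with hM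
      letI : Fintype M := Fintype.ofFinite M
      letI : Fintype G := Fintype.ofFinite G
      haveI hMn : (M.subgroupOf G).Normal := by
        rw [hM, mid_subgroupOf]
        infer_instance
      have hab : commutator G ≤ M.subgroupOf G := by
        rw [hM, mid_subgroupOf]
        exact le_sup_right
      have hGN : G ≤ Subgroup.normalizer (N : Set Γ) :=
        (Subgroup.normal_subgroupOf_iff_le_normalizer hNG).mp hNn
      haveI hNMn : (N.subgroupOf M).Normal :=
        (Subgroup.normal_subgroupOf_iff_le_normalizer hNM).mpr (hMG.trans hGN)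
      have hmul : N.relIndex M * M.relIndex G = N.relIndex G :=
        Subgroup.relIndex_mul_relIndex N M G hNM hMG
      have h1 : M.relIndex G ≠ 1 := by
        rw [Ne, Subgroup.relIndex_eq_one]
        intro h
        exact hMne (le_antisymm hMG h)
      have h0 : M.relIndex G ≠ 0 := Subgroup.index_ne_zero_of_finite (H := M.subgroupOf G)
      have h0' : N.relIndex M ≠ 0 := Subgroup.index_ne_zero_of_finite (H := N.subgroupOf M)
      have hlt : N.relIndex M < n := by
        rw [← hn, ← hmul]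
        have : 2 ≤ M.relIndex G := by omega
        nlinarith [Nat.pos_of_ne_zero h0']
      have hcop1 : (N.relIndex M).Coprime (Nat.card S) :=
        Nat.Coprime.coprime_dvd_left (Dvd.intro _ hmul) hcop
      have hcop2 : (M.relIndex G).Coprime (Nat.card S) :=
        Nat.Coprime.coprime_dvd_left (Dvd.intro_left _ hmul) hcop
      have hkM : ∀ x ∈ derivedSeries M k, (x : Γ) ∈ N := by
        intro x hx
        have := map_derivedSeries_le_derivedSeries (Subgroup.inclusion hMG) k
          (Subgroup.mem_map_of_mem _ hx)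
        exact hk _ this
      obtain ⟨ψ, hψc, hψinv⟩ := ih (N.relIndex M) hlt M N hMS hNM hNS hcop1 k hkM rfl θ hinv
      obtain ⟨χ, hχc, hχinv⟩ := abelian_step G S M hnorm hMG hMS hcop2 hab ψ hψinv
      exact ⟨χ, over_trans N M G hNM hMG θ.2 ψ.2 χ.2 hψc hχc, hχinv⟩

/-- Inside a finite group Γ let S normalise G and also normalise a normal subgroup N of G, with the order of S coprime to the index of N in G and G/N solvable. Then for every S-invariant irreducible character ϑ of N, the induced character ϑ^G has an S-invariant irreducible constituent. -/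
theorem result {Γ : Type*} [Group Γ] [Fintype Γ] (G S N : Subgroup Γ) [Fintype G] [Fintype N] (hnorm : ∀ s ∈ S, ∀ g ∈ G, s * g * s⁻¹ ∈ G) (hNG : N ≤ G) [hNn : (N.subgroupOf G).Normal] (hNS : ∀ s ∈ S, ∀ n ∈ N, s * n * s⁻¹ ∈ N) (hcop : (N.relIndex G).Coprime (Nat.card S)) (hsolv : Group.IsSolvable (G ⧸ N.subgroupOf G)) (θ : Cfsg.IrrCharacter N) (hinv : (∀ s ∈ S, ∀ g g' : N, (g' : Γ) = s * g * s⁻¹ → (θ : N → ℂ) g' = (θ : N → ℂ) g)) : ∃ χ : Cfsg.IrrCharacter G, Cfsg.classInner (fun n : N => (χ : G → ℂ) ⟨n, hNG n.2⟩) (θ : N → ℂ) ≠ 0 ∧ (∀ s ∈ S, ∀ g g' : G, (g' : Γ) = s * g * s⁻¹ → (χ : G → ℂ) g' = (χ : G → ℂ) g) := by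
  obtain ⟨k, hk⟩ := (Group.isSolvable_def _).mp hsolv
  have hk' : ∀ x ∈ derivedSeries G k, (x : Γ) ∈ N := by
    intro x hx
    have h1 : (QuotientGroup.mk' (N.subgroupOf G)) x ∈ derivedSeries (G ⧸ N.subgroupOf G) k :=
      map_derivedSeries_le_derivedSeries (QuotientGroup.mk' (N.subgroupOf G)) k
        (Subgroup.mem_map_of_mem _ hx)
    rw [hk, Subgroup.mem_bot, QuotientGroup.mk'_apply, QuotientGroup.eq_one_iff,
      Subgroup.mem_subgroupOf] at h1
    exact h1
  exact aux S _ G N hnorm hNG hNS hcop k hk' rfl θ hinv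

end Cfsg.Agent.S4448
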