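import Mathlib
import Cfsg.Statements.S4449
import Cfsg.Agent.Lib.Helper24.GlaubOver
import Cfsg.Agent.Lib.Helper24.GlaubTransfer

set_option autoImplicit false
set_option linter.style.haveILetI false
open Cfsg

namespace Cfsg.Agent.S4449

open Cfsg.Agent.Helper24 Cfsg.Agent.Helper24.Glaub

/-- Inside a finite group Γ let the solvable subgroup S act coprimely on G and fix a normal subgroup N of G. Then every S-invariant irreducible character ϑ of N lies under an S-invariant irreducible character of G. -/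
theorem result {Γ : Type*} [Group Γ] [Fintype Γ] (G S N : Subgroup Γ) [Fintype G] [Fintype N] (hnorm : ∀ s ∈ S, ∀ g ∈ G, s * g * s⁻¹ ∈ G) (hNG : N ≤ G) (hNnormal : ∀ g ∈ G, ∀ n ∈ N, g * n * g⁻¹ ∈ N) (hNS : ∀ s ∈ S, ∀ n ∈ N, s * n * s⁻¹ ∈ N) (hcop : (Nat.card G).Coprime (Nat.card S)) (hsolv : Group.IsSolvable S) (θ : Cfsg.IrrCharacter N) (hinv : (∀ s ∈ S, ∀ g g' : N, (g' : Γ) = s * g * s⁻¹ → (θ : N → ℂ) g' = (θ : N → ℂ) g)) : ∃ χ : Cfsg.IrrCharacter G, Cfsg.classInner (fun n : N => (χ : G → ℂ) ⟨n, hNG n.2⟩) (θ : N → ℂ) ≠ 0 ∧ (∀ s ∈ S, ∀ g g' : G, (g' : Γ) = s * g * s⁻¹ → (χ : G → ℂ) g' = (χ : G → ℂ) g) := by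
  have hSG : S ≤ Subgroup.normalizer (G : Set Γ) := le_normalizer_of_forall_conj_mem S G hnorm
  have hSN : S ≤ Subgroup.normalizer (N : Set Γ) := le_normalizer_of_forall_conj_mem S N hNS
  have hι : Function.Injective (Subgroup.inclusion hNG) := Subgroup.inclusion_injective hNG
  have compat : ∀ (s : S) (n : N), Subgroup.inclusion hNG (conjHom N S hSN s n) =
      conjHom G S hSG s (Subgroup.inclusion hNG n) := by
    intro s n
    apply Subtype.ext
    rfl
  have hnormal : (Subgroup.inclusion hNG).range.Normal := by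
    constructor
    rintro _ ⟨n, rfl⟩ g
    refine ⟨⟨(g : Γ) * n * (g : Γ)⁻¹, hNnormal g g.2 n n.2⟩, ?_⟩
    apply Subtype.ext
    rfl
  obtain ⟨χ, hχ, hc⟩ := over_solvable (conjHom N S hSN) (conjHom G S hSG)
    (Subgroup.inclusion hNG) hι compat hnormal hcop.symm θ
    ((isInv_conjHom_iff N S hSN (θ : N → ℂ)).mpr hinv)
  exact ⟨χ, hc, (isInv_conjHom_iff G S hSG (χ : G → ℂ)).mp hχ⟩

end Cfsg.Agent.S4449
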