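import Mathlib
import Cfsg.Statements.S4451
import Cfsg.Agent.Lib.Helper24.GlaubFpf

set_option autoImplicit false
set_option linter.style.haveILetI false
open Cfsg

namespace Cfsg.Agent.S4451

open Cfsg.Agent.Helper24 Cfsg.Agent.Helper24.GlaubCyc Cfsg.Agent.Helper24.GlaubFpf

/-- Let the finite group Γ be generated by a normal subgroup G and a cyclic subgroup S of coprime orders such that every non-identity element of S has the same centraliser C = G ⊓ C(S) in G. Let χ be an S-invariant irreducible character of G, χ̂ its canonical extension to Γ (determinantal order coprime to the order of S), and β the irreducible character of C with χ̂(c s) = ε₀ β(c) for c ∈ C and generators s of S (ε₀ = ±1). Then there are a sign ε = ±1, which may differ from ε₀, and a linear character μ of S with μ² = 1, such that: (a) χ̂(c x) = ε β(c) μ(x) for all c ∈ C and all x ∈ S other than 1; (b) the restriction of χ to C equals |S|·ϑ + ε β for some character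 ϑ of C or ϑ = 0; (c) |S| divides χ(1) − ε β(1). -/
theorem result {Γ : Type*} [Group Γ] [Fintype Γ] (G S : Subgroup Γ) [Fintype G] (hnorm : ∀ s ∈ S, ∀ g ∈ G, s * g * s⁻¹ ∈ G) (hcop : (Nat.card G).Coprime (Nat.card S)) (htop : G ⊔ S = ⊤) (hcyc : IsCyclic S) (C : Subgroup Γ) [Fintype C] (hC : C = G ⊓ Subgroup.centralizer (S : Set Γ)) (hCG : C ≤ G) (hfpf : ∀ x ∈ S, x ≠ 1 → G ⊓ Subgroup.centralizer ({x} : Set Γ) = C) (χ : Cfsg.IrrCharacter G) (hinv : (∀ s ∈ S, ∀ g g' : G, (g' : Γ) = s * g * s⁻¹ → (χ : G → ℂ) g' = (χ : G → ℂ) g)) (χh : Cfsg.IrrCharacter Γ) (hext : (∀ g : G, (χh : Γ → ℂ) g = (χ : G → ℂ) g)) (hdet : (Cfsg.detOrder (χh : Γ → ℂ)).Coprime (Nat.card S)) (β : Cfsg.IrrCharacter C) (ε₀ : ℤ) (hε₀ : ε₀ = 1 ∨ ε₀ = -1) (hβ : ∀ c : C, ∀ s : Γ, Subgroup.zpowers s = S → (χh : Γ → ℂ) ((c : Γ) * s) = (ε₀ : ℂ) * (β : C → ℂ) c) : ∃ ε : ℤ, (ε = 1 ∨ ε = -1) ∧ (∃ μ : S → ℂ, Cfsg.IsCharacter S μ ∧ μ 1 = 1 ∧ (∀ x : S, μ x * μ x = 1) ∧ ∀ c :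 C, ∀ x : S, x ≠ 1 → (χh : Γ → ℂ) ((c : Γ) * x) = (ε : ℂ) * (β : C → ℂ) c * μ x) ∧ (∃ ϑ : C → ℂ, Cfsg.IsCharacter C ϑ ∧ (fun c : C => (χ : G → ℂ) ⟨c, hCG c.2⟩) = fun c => (Nat.card S : ℂ) * ϑ c + (ε : ℂ) * (β : C → ℂ) c) ∧ (Nat.card S : ℤ) ∣ (Cfsg.charDegree (χ : G → ℂ) : ℤ) - ε * (Cfsg.charDegree (β : C → ℂ) : ℤ) := by
  classical
  -- `G` is normal
  haveI hG : G.Normal := by
    rw [← Subgroup.normalizer_eq_top_iff, eq_top_iff, ← htop]
    exact sup_le Subgroup.le_normalizer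
      (Cfsg.Agent.Helper24.le_normalizer_of_forall_conj_mem S G hnorm)
  letI := irrFintype (G := C)
  have hres : IsIrrCharacter G (fun g : G => (χh : Γ → ℂ) g) := by
    have : (fun g : G => (χh : Γ → ℂ) g) = (χ : G → ℂ) := funext hext
    rw [this]
    exact χ.2
  have hχc : ∀ c : C, (χ : G → ℂ) ⟨c, hCG c.2⟩ = (χh : Γ → ℂ) (c : Γ) := fun c =>
    (hext ⟨c, hCG c.2⟩).symm
  have hnpos : 0 < Nat.card S := Nat.card_pos
  by_cases hn1 : Nat.card S = 1
  · -- the trivial case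
    have hS1 : ∀ x : S, x = 1 := by
      intro x
      haveI : Subsingleton S := (Nat.card_eq_one_iff_unique.mp hn1).1
      exact Subsingleton.elim x 1
    have hSbot : Subgroup.zpowers (1 : Γ) = S := by
      rw [Subgroup.zpowers_one_eq_bot]
      exact ((Subgroup.card_eq_one).mp hn1).symm
    have hval : ∀ c : C, (χh : Γ → ℂ) (c : Γ) = (ε₀ : ℂ) * (β : C → ℂ) c := by
      intro c
      have := hβ c 1 hSbot
      rwa [mul_one] at this
    refine ⟨ε₀, hε₀, ⟨fun _ => 1, isCharacter_one, rfl, fun _ => by rw [mul_one], ?_⟩,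
      ⟨0, isCharacter_zero, ?_⟩, ?_⟩
    · intro c x hx
      exact absurd (hS1 x) hx
    · funext c
      rw [hχc c, hval c, Pi.zero_apply, mul_zero, zero_add]
    · rw [hn1]
      exact one_dvd _
  · have hn2 : 2 ≤ Nat.card S := by omega
    obtain ⟨ε, μ, M, hε, hμ, hμ1, hμsq, ha, hb⟩ := fpf_main G S C hC hcop htop hcyc hfpf χh.2 hres
      hdet β ε₀ hε₀ hβ hn2
    refine ⟨ε, hε, ⟨μ, isCharacter_of_isIrrCharacter hμ, hμ1, hμsq, ha⟩, ⟨fun c =>
      ∑ β' : IrrCharacter C, (M β' : ℂ) * (β' : C → ℂ) c, ?_, ?_⟩, ?_⟩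
    · have : (fun c => ∑ β' : IrrCharacter C, (M β' : ℂ) * (β' : C → ℂ) c) =
          ∑ β' : IrrCharacter C, (M β' : ℂ) • (β' : C → ℂ) := by
        funext c
        rw [Finset.sum_apply]
        rfl
      rw [this]
      apply isCharacter_sum
      intro β' _
      exact isCharacter_natCast_smul _ (isCharacter_of_isIrrCharacter β'.2)
    · funext c
      rw [hχc c, hb c]
    · have h1 := hb 1
      rw [Subgroup.coe_one] at h1
      have h2 : (χh : Γ → ℂ) 1 = (charDegree (χ : G → ℂ) : ℂ) := by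
        have := hext 1
        rw [Subgroup.coe_one] at this
        rw [this]
        exact irr_one_eq_charDegree χ.2
      rw [h2, irr_one_eq_charDegree β.2] at h1
      have h3 : ((charDegree (χ : G → ℂ) : ℤ) : ℂ) =
          (((Nat.card S : ℤ) * ∑ β' : IrrCharacter C, (M β' : ℤ) *
            (charDegree (β' : C → ℂ) : ℤ) + ε * (charDegree (β : C → ℂ) : ℤ) : ℤ) : ℂ) := by
        push_cast
        rw [h1]
        congr 2
        apply Finset.sum_congr rfl
        intro β' _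
        rw [irr_one_eq_charDegree β'.2]
      have h4 : (charDegree (χ : G → ℂ) : ℤ) =
          (Nat.card S : ℤ) * ∑ β' : IrrCharacter C, (M β' : ℤ) *
            (charDegree (β' : C → ℂ) : ℤ) + ε * (charDegree (β : C → ℂ) : ℤ) := by
        exact_mod_cast h3
      exact ⟨∑ β' : IrrCharacter C, (M β' : ℤ) * (charDegree (β' : C → ℂ) : ℤ), by rw [h4]; ring⟩

end Cfsg.Agent.S4451
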