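import Mathlib
import Cfsg.Statements.S4452
import Cfsg.Agent.Lib.Helper24.CoprimeDegree
import Cfsg.Agent.Lib.Helper24.GlaubCount
import Cfsg.Agent.Lib.Helper24.GlaubTransfer

set_option autoImplicit false
set_option linter.style.haveILetI false
set_option linter.unusedSectionVars false
open Cfsg

namespace Cfsg.Agent.S4452

open Cfsg.Agent.Helper24 Cfsg.Agent.Helper24.Glaub Cfsg.Agent.Helper24.CopDeg

universe u

/-- Counting the characters of degree prime to the order of a complement `T` of a normal Hall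
subgroup `Y`. -/
theorem card_coprime_of_complement {X : Type u} [Group X] [Finite X] (Y T : Subgroup X) [Y.Normal]
    (hc : T.IsComplement' Y) (hcop : (Nat.card Y).Coprime (Nat.card T)) :
    Nat.card {χ : IrrCharacter X // (charDegree (χ : X → ℂ)).Coprime (Nat.card T)} =
      Nat.card {θ : IrrCharacter Y // Inv Y (θ : Y → ℂ)} * Nat.card (T →* ℂˣ) := by
  have hidx : Y.index = Nat.card T := hc.index_eq_card
  have h := card_coprime_degree Y (hidx.symm ▸ hcop)
  rw [hidx] at h
  rw [h]
  congr 1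
  exact Nat.card_congr (MulEquiv.monoidHomCongrLeftEquiv hc.QuotientMulEquiv)

section

variable {G : Type u} [Group G] [Finite G] (K H : Subgroup G) [hK : K.Normal]

theorem exists_mul (hKH : K ⊔ H = ⊤) (g : G) : ∃ k ∈ K, ∃ h ∈ H, g = k * h := by
  have : g ∈ (↑(K ⊔ H) : Set G) := by rw [hKH]; trivial
  rw [Subgroup.normal_mul] at this
  obtain ⟨k, hk, h, hh, rfl⟩ := Set.mem_mul.mp this
  exact ⟨k, hk, h, hh, rfl⟩

theorem exists_mul' (hKH : K ⊔ H = ⊤) (g : G) : ∃ h ∈ H, ∃ k ∈ K, g = h * k := by
  obtain ⟨k, hk, h, hh, hg⟩ := exists_mul K H hKH g⁻¹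
  refine ⟨h⁻¹, H.inv_mem hh, k⁻¹, K.inv_mem hk, ?_⟩
  rw [← mul_inv_rev, ← hg, inv_inv]

theorem inf_eq_bot (hcop : (Nat.card K).Coprime (Nat.card H)) : K ⊓ H = ⊥ :=
  disjoint_iff.mp (Subgroup.disjoint_of_coprime_natCard hcop)

theorem inf_normalizer_eq (hcop : (Nat.card K).Coprime (Nat.card H)) :
    K ⊓ Subgroup.normalizer (H : Set G) = K ⊓ Subgroup.centralizer (H : Set G) := by
  apply le_antisymm
  · rintro k ⟨hkK, hkN⟩
    refine ⟨hkK, ?_⟩
    show k ∈ Subgroup.centralizer (H : Set G)
    have hkN : k ∈ Subgroup.normalizer (H : Set G) := hkN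
    have hkK : k ∈ K := hkK
    rw [Subgroup.mem_centralizer_iff]
    intro h hh
    have h1 : k * h * k⁻¹ * h⁻¹ ∈ H :=
      H.mul_mem ((Subgroup.mem_normalizer_iff.mp hkN h).mp hh) (H.inv_mem hh)
    have h2 : k * h * k⁻¹ * h⁻¹ ∈ K := by
      have : k * h * k⁻¹ * h⁻¹ = k * (h * k⁻¹ * h⁻¹) := by group
      rw [this]
      exact K.mul_mem hkK (hK.conj_mem _ (K.inv_mem hkK) h)
    have h3 : k * h * k⁻¹ * h⁻¹ ∈ K ⊓ H := ⟨h2, h1⟩
    rw [inf_eq_bot K H hcop, Subgroup.mem_bot] at h3
    calc h * k = (k * h * k⁻¹ * h⁻¹)⁻¹ * (k * h) := by group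
      _ = k * h := by rw [h3, inv_one, one_mul]
  · rintro k ⟨hkK, hkC⟩
    refine ⟨hkK, ?_⟩
    show k ∈ Subgroup.normalizer (H : Set G)
    have hkC : k ∈ Subgroup.centralizer (H : Set G) := hkC
    have hkK : k ∈ K := hkK
    rw [Subgroup.mem_normalizer_iff]
    intro h
    constructor
    · intro hh
      have := (Subgroup.mem_centralizer_iff.mp hkC) h hh
      have e : k * h * k⁻¹ = h := by
        rw [← this]; group
      rw [e]; exact hh
    · intro hh
      have := (Subgroup.mem_centralizer_iff.mp hkC) _ hh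
      -- k h k⁻¹ commutes with k, so h = k h k⁻¹
      have e : k * h * k⁻¹ = h := by
        have h5 : k * h * k⁻¹ * k = k * (k * h * k⁻¹) := this
        have h6 : k * h = k * (k * h * k⁻¹) := by
          rw [← h5]; group
        exact (mul_left_cancel h6).symm
      rw [← e]; exact hh

theorem le_normalizer_K : H ≤ Subgroup.normalizer (K : Set G) := by
  rw [Subgroup.normalizer_eq_top]
  exact le_top

/-- `G`-invariance of an irreducible character of `K` is `H`-invariance. -/
theorem inv_iff_isInv (hKH : K ⊔ H = ⊤) (θ : IrrCharacter K) :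
    Inv K (θ : K → ℂ) ↔ IsInv (conjHom K H (le_normalizer_K K H)) (θ : K → ℂ) := by
  rw [isInv_conjHom_iff]
  constructor
  · intro h s hs g g' hg'
    rw [← h s g]
    apply congrArg
    apply Subtype.ext
    exact hg'
  · intro h g n
    obtain ⟨k, hk, s, hs, rfl⟩ := exists_mul K H hKH g
    have hcf := isClassFunction_of_isIrrCharacter θ.2
    have h1 := h s hs n ⟨s * n * s⁻¹, hK.conj_mem _ n.2 s⟩ rfl
    rw [← h1, ← hcf ⟨s * n * s⁻¹, hK.conj_mem _ n.2 s⟩ ⟨k, hk⟩]
    apply congrArg
    apply Subtype.ext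
    show k * s * n * (k * s)⁻¹ = k * (s * n * s⁻¹) * k⁻¹
    group

end

section Normalizer

variable {G : Type u} [Group G] [Finite G] (K H : Subgroup G) [hK : K.Normal]

/-- Every irreducible character of `K ∩ N_G(H)` is invariant in `N_G(H)`. -/
theorem inv_all (hKH : K ⊔ H = ⊤) (hcop : (Nat.card K).Coprime (Nat.card H))
    (θ : IrrCharacter (K.subgroupOf (Subgroup.normalizer (H : Set G)))) :
    Inv (K.subgroupOf (Subgroup.normalizer (H : Set G)))
      (θ : K.subgroupOf (Subgroup.normalizer (H : Set G)) → ℂ) := by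
  intro g n
  obtain ⟨k, hk, s, hs, hg⟩ := exists_mul K H hKH (g : G)
  have hsN : s ∈ Subgroup.normalizer (H : Set G) := Subgroup.le_normalizer hs
  have hkN : k ∈ Subgroup.normalizer (H : Set G) := by
    have : k = (g : G) * s⁻¹ := by rw [hg]; group
    rw [this]
    exact Subgroup.mul_mem _ g.2 (Subgroup.inv_mem _ hsN)
  have hnK : ((n : Subgroup.normalizer (H : Set G)) : G) ∈ K := Subgroup.mem_subgroupOf.mp n.2
  have hnC : ((n : Subgroup.normalizer (H : Set G)) : G) ∈
      K ⊓ Subgroup.centralizer (H : Set G) := by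
    rw [← inf_normalizer_eq K H hcop]
    exact ⟨hnK, n.1.2⟩
  have hcomm := (Subgroup.mem_centralizer_iff.mp hnC.2) s hs
  let c : K.subgroupOf (Subgroup.normalizer (H : Set G)) :=
    ⟨⟨k, hkN⟩, Subgroup.mem_subgroupOf.mpr hk⟩
  have hcf := isClassFunction_of_isIrrCharacter θ.2
  rw [← hcf n c]
  apply congrArg
  apply Subtype.ext
  apply Subtype.ext
  show (g : G) * (n : G) * (g : G)⁻¹ = k * (n : G) * k⁻¹
  rw [hg]
  calc k * s * (n : G) * (k * s)⁻¹ = k * (s * (n : G)) * s⁻¹ * k⁻¹ := by group
    _ = k * ((n : G) * s) * s⁻¹ * k⁻¹ := by rw [hcomm]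
    _ = k * (n : G) * k⁻¹ := by group

/-- `K ∩ N_G(H)` as a subgroup of `N_G(H)` is `C_K(H)`. -/
noncomputable def subgroupOfEquiv (hcop : (Nat.card K).Coprime (Nat.card H)) :
    K.subgroupOf (Subgroup.normalizer (H : Set G)) ≃*
      (K ⊓ Subgroup.centralizer (H : Set G) : Subgroup G) :=
  ((MulEquiv.subgroupCongr (Subgroup.inf_subgroupOf_right K _).symm).trans
    (Subgroup.subgroupOfEquivOfLe inf_le_right)).trans
    (MulEquiv.subgroupCongr (inf_normalizer_eq K H hcop))

theorem isComplement_normalizer (hKH : K ⊔ H = ⊤) (hcop : (Nat.card K).Coprime (Nat.card H)) :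
    (H.subgroupOf (Subgroup.normalizer (H : Set G))).IsComplement'
      (K.subgroupOf (Subgroup.normalizer (H : Set G))) := by
  apply Subgroup.isComplement'_of_disjoint_and_mul_eq_univ
  · rw [Subgroup.disjoint_def]
    intro x hxH hxK
    have : (x : G) ∈ K ⊓ H := ⟨Subgroup.mem_subgroupOf.mp hxK, Subgroup.mem_subgroupOf.mp hxH⟩
    rw [inf_eq_bot K H hcop, Subgroup.mem_bot] at this
    exact Subtype.ext this
  · rw [Set.eq_univ_iff_forall]
    intro g
    obtain ⟨s, hs, k, hk, hg⟩ := exists_mul' K H hKH (g : G)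
    have hsN : s ∈ Subgroup.normalizer (H : Set G) := Subgroup.le_normalizer hs
    have hkN : k ∈ Subgroup.normalizer (H : Set G) := by
      have : k = s⁻¹ * (g : G) := by rw [hg]; group
      rw [this]
      exact Subgroup.mul_mem _ (Subgroup.inv_mem _ hsN) g.2
    refine Set.mem_mul.mpr ⟨⟨s, hsN⟩, Subgroup.mem_subgroupOf.mpr hs, ⟨k, hkN⟩,
      Subgroup.mem_subgroupOf.mpr hk, ?_⟩
    apply Subtype.ext
    exact hg.symm

end Normalizer

/-- Let the finite group G be the product of a normal subgroup K and a solvable subgroup H of coprime orders, and let N = N_G(H). Then the number of irreducible characters of G of degree coprime to the order of H equals the number of irreducible characters of N of degree coprime to the order of H. (The two sets are in fact in a canonical bijection; only the equality of their sizes is stated here.) -/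
theorem result {G : Type*} [Group G] [Finite G] (K H : Subgroup G) [K.Normal] (hKH : K ⊔ H = ⊤) (hcop : (Nat.card K).Coprime (Nat.card H)) (hsolv : Group.IsSolvable H) : Nat.card {χ : Cfsg.IrrCharacter G // (Cfsg.charDegree (χ : G → ℂ)).Coprime (Nat.card H)} = Nat.card {η : Cfsg.IrrCharacter (Subgroup.normalizer (H : Set G)) // (Cfsg.charDegree (η : Subgroup.normalizer (H : Set G) → ℂ)).Coprime (Nat.card H)} := by
  classical
  -- the side of `G`
  have hcG : H.IsComplement' K := by
    apply Subgroup.isComplement'_of_disjoint_and_mul_eq_univ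
    · rw [disjoint_comm, disjoint_iff]
      exact inf_eq_bot K H hcop
    · rw [← Subgroup.mul_normal, sup_comm, hKH, Subgroup.coe_top]
  rw [card_coprime_of_complement K H hcG hcop]
  -- the side of `N`
  set N := Subgroup.normalizer (H : Set G) with hN
  have hcardT : Nat.card (H.subgroupOf N) = Nat.card H :=
    Nat.card_congr (Subgroup.subgroupOfEquivOfLe Subgroup.le_normalizer).toEquiv
  have hcardC : Nat.card (K.subgroupOf N) ∣ Nat.card K := by
    rw [Nat.card_congr (subgroupOfEquiv K H hcop).toEquiv]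
    exact Subgroup.card_dvd_of_le inf_le_left
  have hcopN : (Nat.card (K.subgroupOf N)).Coprime (Nat.card (H.subgroupOf N)) := by
    rw [hcardT]
    exact Nat.Coprime.coprime_dvd_left hcardC hcop
  have hN2 := card_coprime_of_complement (K.subgroupOf N) (H.subgroupOf N)
    (isComplement_normalizer K H hKH hcop) hcopN
  rw [hcardT] at hN2
  rw [hN2]
  have hhom : Nat.card (H.subgroupOf N →* ℂˣ) = Nat.card (H →* ℂˣ) :=
    Nat.card_congr (MulEquiv.monoidHomCongrLeftEquiv
      (Subgroup.subgroupOfEquivOfLe Subgroup.le_normalizer))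
  rw [hhom]
  congr 1
  -- invariant characters
  rw [Nat.card_congr (Equiv.subtypeEquivRight (inv_iff_isInv K H hKH))]
  rw [count_fixed (conjHom K H (le_normalizer_K K H)) hcop.symm]
  rw [Nat.card_congr (Equiv.subtypeUnivEquiv (inv_all K H hKH hcop))]
  rw [card_irr_congr (fixedEquiv K H (le_normalizer_K K H) _ rfl)]
  exact (card_irr_congr (subgroupOfEquiv K H hcop)).symm

end Cfsg.Agent.S4452
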