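import Mathlib
import Cfsg.Statements.S4455
import Cfsg.Agent.S4456
import Cfsg.Agent.S0867
import Cfsg.Agent.S0887
import Cfsg.Agent.Lib.Helper22.PResidual
import Cfsg.Agent.Lib.Helper5.DetChar
import Cfsg.Agent.Lib.Helper5.Clifford
import Cfsg.Agent.Lib.Helper18.CliffordCorr
import Cfsg.Agent.Lib.Helper24.OrbitSum
import Cfsg.Agent.Lib.Helper24.CharConj
import Cfsg.Agent.Lib.Helper24.CharComplete

set_option autoImplicit false
set_option linter.style.haveILetI false
open Cfsg

namespace Cfsg.Agent.S4455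

open Cfsg.Agent.Helper24 MulAction

universe u

/-- The determinantal order of a character divides the index of the commutator subgroup. -/
theorem detOrder_dvd_index_commutator {H : Type u} [Group H] [Finite H] {θ : H → ℂ}
    (hθ : IsCharacter H θ) : detOrder θ ∣ (commutator H).index := by
  unfold detOrder
  apply orderOf_dvd_of_pow_eq_one
  funext h
  rw [Pi.pow_apply, Pi.one_apply]
  have hker : commutator H ≤ (Cfsg.Agent.Helper5.detHom hθ).ker :=
    Abelianization.commutator_subset_ker _
  have hpow : h ^ (commutator H).index ∈ commutator H := by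
    rw [← QuotientGroup.eq_one_iff, QuotientGroup.mk_pow, Subgroup.index_eq_card]
    exact pow_card_eq_one'
  have := hker hpow
  rw [MonoidHom.mem_ker, map_pow] at this
  have h2 := congrArg Units.val this
  rw [Units.val_pow_eq_pow_val, Cfsg.Agent.Helper5.detHom_apply, Units.val_one] at h2
  exact h2

/-- For `N ⊴ G` of `p`-power index, `|N|` is congruent mod `p` to the sum of the squares of the
degrees of the `G`-invariant irreducible characters of `N`. -/
theorem card_modEq_sum_fixed {G : Type u} [Group G] [Fintype G] (p : ℕ) [hp : Fact p.Prime]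
    (N : Subgroup G) [hN : N.Normal] [Fintype N] [Fintype (IrrCharacter N)]
    (a : ℕ) (hidx : N.index = p ^ a)
    [DecidablePred (· ∈ @fixedPoints G (IrrCharacter N) _ (irrConjAction N))] :
    Nat.card N ≡ ∑ θ ∈ Finset.univ.filter
      (· ∈ @fixedPoints G (IrrCharacter N) _ (irrConjAction N)),
      charDegree (θ : N → ℂ) ^ 2 [MOD p] := by
  classical
  letI := irrConjAction N
  have hsmul : ∀ (g : G) (θ : IrrCharacter N), ((g • θ : IrrCharacter N) : N → ℂ) =
      Cfsg.Agent.Helper24.conjFun N g θ.1 := fun g θ => rfl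
  have hdeginv : ∀ (g : G) (θ : IrrCharacter N),
      charDegree ((g • θ : IrrCharacter N) : N → ℂ) = charDegree (θ : N → ℂ) := by
    intro g θ
    unfold charDegree
    rw [hsmul, Cfsg.Agent.Helper24.conjFun_apply, map_one]
  have horb : ∀ θ : IrrCharacter N, θ ∉ fixedPoints G (IrrCharacter N) →
      p ∣ Nat.card (orbit G θ) := by
    intro θ hθ
    rw [Nat.card_coe_set_eq, ← index_stabilizer]
    have hle : N ≤ stabilizer G θ := by
      intro g hg
      rw [mem_stabilizer_iff]
      apply Subtype.ext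
      rw [hsmul]
      exact Cfsg.Agent.Helper24.conjFun_of_mem N (isClassFunction_of_isIrrCharacter θ.2) hg
    have hdvd : (stabilizer G θ).index ∣ p ^ a := by
      rw [← hidx]
      exact Subgroup.index_dvd_of_le hle
    obtain ⟨j, -, hj⟩ := (Nat.dvd_prime_pow hp.out).mp hdvd
    rw [hj]
    rcases Nat.eq_zero_or_pos j with rfl | hjpos
    · exfalso
      apply hθ
      rw [pow_zero, Subgroup.index_eq_one] at hj
      rw [mem_fixedPoints]
      intro g
      have : g ∈ stabilizer G θ := by rw [hj]; trivial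
      exact mem_stabilizer_iff.mp this
    · exact dvd_pow_self p hjpos.ne'
  have h1 := sum_modEq_sum_fixedPoints (H := G) p
    (fun θ : IrrCharacter N => charDegree (θ : N → ℂ) ^ 2)
    (fun g θ => by simp only [hdeginv]) horb
  have h4 : ∑ θ : IrrCharacter N, charDegree (θ : N → ℂ) ^ 2 = Nat.card N := sum_charDegree_sq
  rw [← h4]
  convert h1

/-- The restriction of an irreducible character of degree prime to `p` to a normal subgroup of
`p`-power index is irreducible. -/
theorem isIrrCharacter_restrict_of_not_dvd {G : Type u} [Group G] [Finite G] (p : ℕ)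
    [hp : Fact p.Prime] (N : Subgroup G) [hN : N.Normal] (a : ℕ) (hidx : N.index = p ^ a)
    {χ : G → ℂ} (hχ : IsIrrCharacter G χ) (hdeg : ¬ p ∣ charDegree χ) :
    IsIrrCharacter N (fun n : N => χ n) := by
  classical
  letI : Fintype G := Fintype.ofFinite G
  letI : Fintype N := Fintype.ofFinite N
  have hχc := isCharacter_of_isIrrCharacter hχ
  have hres : IsCharacter N (fun n : N => χ n) := isCharacter_restrict N hχc
  have hχ1 : χ 1 = (charDegree χ : ℂ) := irr_one_eq_charDegree hχ
  have hpos : 0 < charDegree χ := charDegree_pos hχ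
  have hne : (fun n : N => χ n) ≠ 0 := by
    intro h
    have h1 := congrFun h 1
    simp only [Subgroup.coe_one, Pi.zero_apply] at h1
    rw [hχ1] at h1
    exact hpos.ne' (by exact_mod_cast h1)
  obtain ⟨θ, hθ, hθne⟩ := Cfsg.Agent.Helper5.exists_constituent hres hne
  obtain ⟨hdvd, hquot⟩ := Cfsg.Agent.S0887.result N χ hχ θ hθ hθne (charDegree χ) (charDegree θ)
    hχ1 (irr_one_eq_charDegree hθ)
  rw [hidx] at hquot
  obtain ⟨j, -, hj⟩ := (Nat.dvd_prime_pow hp.out).mp hquot
  have hj0 : j = 0 := by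
    by_contra hne0
    apply hdeg
    have : p ∣ charDegree χ / charDegree θ := by rw [hj]; exact dvd_pow_self p hne0
    exact dvd_trans this (Nat.div_dvd_of_dvd hdvd)
  rw [hj0, pow_zero] at hj
  have hcd : charDegree χ = charDegree θ := by
    have := Nat.div_mul_cancel hdvd
    rw [hj, one_mul] at this
    exact this.symm
  obtain ⟨ρ, hρ, hdec⟩ := Cfsg.Agent.Helper5.exists_add_of_constituent hres hθ hθne
  have hρ1 : ρ 1 = 0 := by
    have h1 := congrFun hdec 1
    simp only [Pi.add_apply, Subgroup.coe_one] at h1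
    rw [hχ1, irr_one_eq_charDegree hθ, hcd] at h1
    linear_combination -h1
  have h0 := Cfsg.Agent.Helper18.char_eq_zero_of_one_eq_zero hρ hρ1
  rw [h0, add_zero] at hdec
  rw [hdec]
  exact hθ

/-- The canonical extension of an invariant irreducible character of degree prime to `p`. -/
theorem exists_unique_extension {G : Type u} [Group G] [Finite G] (p : ℕ) [hp : Fact p.Prime]
    (N : Subgroup G) [hN : N.Normal] (a : ℕ) (hidx : N.index = p ^ a)
    (hab : ¬ p ∣ (commutator N).index) (θ : IrrCharacter N)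
    (hinv : ∀ (g : G) (n : N),
      (θ : N → ℂ) ⟨g * n * g⁻¹, hN.conj_mem (n : G) n.2 g⟩ = (θ : N → ℂ) n)
    (hdeg : ¬ p ∣ charDegree (θ : N → ℂ)) :
    ∃ χ : IrrCharacter G, (∀ n : N, (χ : G → ℂ) n = (θ : N → ℂ) n) ∧
      ¬ p ∣ detOrder (χ : G → ℂ) ∧
      ∀ χ' : IrrCharacter G, (∀ n : N, (χ' : G → ℂ) n = (θ : N → ℂ) n) →
        ¬ p ∣ detOrder (χ' : G → ℂ) → χ' = χ := by
  have hθc := isCharacter_of_isIrrCharacter θ.2
  have hdo : ¬ p ∣ detOrder (θ : N → ℂ) := fun h =>
    hab (dvd_trans h (detOrder_dvd_index_commutator hθc))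
  have hcop : Nat.Coprime N.index (detOrder (θ : N → ℂ) * charDegree (θ : N → ℂ)) := by
    rw [hidx]
    apply Nat.Coprime.pow_left
    exact Nat.Coprime.mul_right ((Nat.Prime.coprime_iff_not_dvd hp.out).mpr hdo)
      ((Nat.Prime.coprime_iff_not_dvd hp.out).mpr hdeg)
  obtain ⟨χ, ⟨hχ, hχN, hχo⟩, huniq⟩ := Cfsg.Agent.S0867.result N (θ : N → ℂ) θ.2 hinv
    (charDegree (θ : N → ℂ)) (irr_one_eq_charDegree θ.2) hcop
  refine ⟨⟨χ, hχ⟩, hχN, by rw [hχo]; exact hdo, ?_⟩
  intro χ' hχ'N hχ'o
  apply Subtype.ext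
  apply huniq χ'.1 χ'.2 hχ'N
  rw [hidx]
  exact Nat.Coprime.pow_left _ ((Nat.Prime.coprime_iff_not_dvd hp.out).mpr hχ'o)

/-- Fix a prime p and a finite group G. Let s be the sum of χ(1)² over the irreducible characters χ of G whose degree is not divisible by p and whose determinantal order o(χ) is not divisible by p. Then the order of O^p(G), the subgroup generated by the elements of order prime to p, is congruent to s modulo p. -/
theorem result {G : Type*} [Group G] [Finite G] (p : ℕ) (hp : p.Prime) : (Nat.card (Cfsg.pResidual p G) : ℤ) ≡ (∑ᶠ χ ∈ {χ : Cfsg.IrrCharacter G | ¬ p ∣ Cfsg.charDegree (χ : G → ℂ) ∧ ¬ p ∣ Cfsg.detOrder (χ : G → ℂ)}, (Cfsg.charDegree (χ : G → ℂ) : ℤ) ^ 2) [ZMOD p] := by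
  classical
  haveI : Fact p.Prime := ⟨hp⟩
  letI : Fintype G := Fintype.ofFinite G
  set N := Cfsg.pResidual p G with hNdef
  haveI hN : N.Normal := Cfsg.Agent.Helper22.pResidual_normal
  letI : Fintype N := Fintype.ofFinite N
  letI : Fintype (IrrCharacter N) := irrFintype
  letI : Fintype (IrrCharacter G) := irrFintype
  obtain ⟨a, hidx⟩ := Cfsg.Agent.Helper22.index_pResidual (G := G) (p := p)
  have hab : ¬ p ∣ (commutator N).index := by
    apply Cfsg.Agent.S4456.not_dvd_index_commutator p N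
    intro M hMn hMN hpow
    apply le_antisymm hMN
    haveI := hMn
    have hPG : IsPGroup p (G ⧸ M) := by
      intro q
      obtain ⟨g, rfl⟩ := QuotientGroup.mk_surjective q
      obtain ⟨k, hk⟩ := Cfsg.Agent.Helper22.exists_pow_mem_pResidual (p := p) g
      refine ⟨k + 1, ?_⟩
      rw [← QuotientGroup.mk_pow, QuotientGroup.eq_one_iff, pow_succ, pow_mul]
      exact hpow _ hk
    have := Cfsg.Agent.Helper22.pResidual_le_ker_of_isPGroup (QuotientGroup.mk' M) hPG
    rwa [QuotientGroup.ker_mk'] at this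
  letI := irrConjAction N
  have hsmul : ∀ (g : G) (θ : IrrCharacter N), ((g • θ : IrrCharacter N) : N → ℂ) =
      Cfsg.Agent.Helper24.conjFun N g θ.1 := fun g θ => rfl
  have h1 := card_modEq_sum_fixed p N a hidx
  set F : Finset (IrrCharacter N) :=
    Finset.univ.filter (· ∈ fixedPoints G (IrrCharacter N)) with hF
  set A : Finset (IrrCharacter N) :=
    F.filter (fun θ => ¬ p ∣ charDegree (θ : N → ℂ)) with hA
  have h2 : ∑ θ ∈ F, charDegree (θ : N → ℂ) ^ 2 ≡ ∑ θ ∈ A, charDegree (θ : N → ℂ) ^ 2 [MOD p] := by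
    have hsf : ∑ θ ∈ A, charDegree (θ : N → ℂ) ^ 2 =
        ∑ θ ∈ F, if ¬ p ∣ charDegree (θ : N → ℂ) then charDegree (θ : N → ℂ) ^ 2 else 0 := by
      rw [hA, Finset.sum_filter]
    rw [hsf]
    apply Nat.ModEq.sum
    intro θ _
    by_cases hpd : p ∣ charDegree (θ : N → ℂ)
    · rw [if_neg (not_not.mpr hpd)]
      exact Nat.modEq_zero_iff_dvd.mpr (dvd_pow hpd two_ne_zero)
    · rw [if_pos hpd]
  set S : Set (IrrCharacter G) := {χ : Cfsg.IrrCharacter G |
    ¬ p ∣ Cfsg.charDegree (χ : G → ℂ) ∧ ¬ p ∣ Cfsg.detOrder (χ : G → ℂ)} with hS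
  set B : Finset (IrrCharacter G) := (Set.toFinite S).toFinset with hB
  have hmemB : ∀ χ : IrrCharacter G, χ ∈ B ↔
      ¬ p ∣ charDegree (χ : G → ℂ) ∧ ¬ p ∣ detOrder (χ : G → ℂ) := by
    intro χ
    rw [hB, Set.Finite.mem_toFinset]
    rfl
  have hmemA : ∀ θ : IrrCharacter N, θ ∈ A ↔
      θ ∈ fixedPoints G (IrrCharacter N) ∧ ¬ p ∣ charDegree (θ : N → ℂ) := by
    intro θ
    rw [hA, hF, Finset.mem_filter, Finset.mem_filter]
    simp
  -- invariance in the form needed
  have hinv_of_fixed : ∀ θ : IrrCharacter N, θ ∈ fixedPoints G (IrrCharacter N) →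
      ∀ (g : G) (n : N),
        (θ : N → ℂ) ⟨g * n * g⁻¹, hN.conj_mem (n : G) n.2 g⟩ = (θ : N → ℂ) n := by
    intro θ hfix g n
    have := mem_fixedPoints.mp hfix g⁻¹
    have h4 := congrArg (fun ψ : IrrCharacter N => (ψ : N → ℂ) n) this
    simp only [hsmul, Cfsg.Agent.Helper24.conjFun_apply, inv_inv] at h4
    rw [← h4]
    congr 1
  have hext := fun (θ : IrrCharacter N) (hθ : θ ∈ A) =>
    exists_unique_extension p N a hidx hab θ (hinv_of_fixed θ ((hmemA θ).mp hθ).1)
      ((hmemA θ).mp hθ).2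
  have hresirr := fun (χ : IrrCharacter G) (hχ : χ ∈ B) =>
    isIrrCharacter_restrict_of_not_dvd p N a hidx χ.2 ((hmemB χ).mp hχ).1
  have hdegres : ∀ χ : IrrCharacter G,
      charDegree (fun n : N => (χ : G → ℂ) n) = charDegree (χ : G → ℂ) := by
    intro χ
    unfold charDegree
    simp only [Subgroup.coe_one]
  have h3 : ∑ θ ∈ A, charDegree (θ : N → ℂ) ^ 2 = ∑ χ ∈ B, charDegree (χ : G → ℂ) ^ 2 := by
    refine Finset.sum_bij' (fun θ hθ => Classical.choose (hext θ hθ))
      (fun χ hχ => ⟨fun n : N => (χ : G → ℂ) n, hresirr χ hχ⟩) ?_ ?_ ?_ ?_ ?_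
    · intro θ hθ
      obtain ⟨h5, h6, -⟩ := Classical.choose_spec (hext θ hθ)
      rw [hmemB]
      refine ⟨?_, h6⟩
      have : charDegree ((Classical.choose (hext θ hθ) : IrrCharacter G) : G → ℂ) =
          charDegree (θ : N → ℂ) := by
        unfold charDegree
        have := h5 1
        rw [Subgroup.coe_one] at this
        rw [this]
      rw [this]
      exact ((hmemA θ).mp hθ).2
    · intro χ hχ
      rw [hmemA]
      refine ⟨?_, ?_⟩
      · rw [mem_fixedPoints]
        intro g
        apply Subtype.ext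
        rw [hsmul]
        funext n
        rw [Cfsg.Agent.Helper24.conjFun_apply]
        show (χ : G → ℂ) ((MulAut.conjNormal g⁻¹ n : N) : G) = (χ : G → ℂ) n
        rw [MulAut.conjNormal_apply]
        exact isClassFunction_of_isIrrCharacter χ.2 _ _
      · show ¬ p ∣ charDegree (fun n : N => (χ : G → ℂ) n)
        rw [hdegres]
        exact ((hmemB χ).mp hχ).1
    · intro θ hθ
      obtain ⟨h5, -, -⟩ := Classical.choose_spec (hext θ hθ)
      apply Subtype.ext
      funext n
      exact h5 n
    · intro χ hχ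
      have hθA : (⟨fun n : N => (χ : G → ℂ) n, hresirr χ hχ⟩ : IrrCharacter N) ∈ A := by
        rw [hmemA]
        refine ⟨?_, ?_⟩
        · rw [mem_fixedPoints]
          intro g
          apply Subtype.ext
          rw [hsmul]
          funext n
          rw [Cfsg.Agent.Helper24.conjFun_apply]
          show (χ : G → ℂ) ((MulAut.conjNormal g⁻¹ n : N) : G) = (χ : G → ℂ) n
          rw [MulAut.conjNormal_apply]
          exact isClassFunction_of_isIrrCharacter χ.2 _ _
        · show ¬ p ∣ charDegree (fun n : N => (χ : G → ℂ) n)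
          rw [hdegres]
          exact ((hmemB χ).mp hχ).1
      obtain ⟨-, -, h7⟩ := Classical.choose_spec (hext _ hθA)
      exact (h7 χ (fun n => rfl) ((hmemB χ).mp hχ).2).symm
    · intro θ hθ
      obtain ⟨h5, -, -⟩ := Classical.choose_spec (hext θ hθ)
      have : charDegree ((Classical.choose (hext θ hθ) : IrrCharacter G) : G → ℂ) =
          charDegree (θ : N → ℂ) := by
        unfold charDegree
        have := h5 1
        rw [Subgroup.coe_one] at this
        rw [this]
      rw [this]
  have h4 : Nat.card N ≡ ∑ χ ∈ B, charDegree (χ : G → ℂ) ^ 2 [MOD p] := by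
    rw [← h3]
    exact h1.trans h2
  rw [finsum_mem_eq_finite_toFinset_sum _ (Set.toFinite S)]
  have := (Int.natCast_modEq_iff).mpr h4
  push_cast at this
  exact this

end Cfsg.Agent.S4455
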