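import Mathlib
import Cfsg.Statements.S4459
import Cfsg.Agent.Lib.Helper24.CdPFinal

set_option autoImplicit false
open Cfsg

namespace Cfsg.Agent.S4459

open Cfsg.Agent.Helper24 Cfsg.Agent.Helper24.Cd2 Cfsg.Agent.Helper24.CdP

/-- Let G be a non-abelian finite group and p a prime. Then the irreducible character degrees of G are exactly 1 and p if and only if either G has an abelian normal subgroup of index p or the centre of G has index p³. -/
theorem result {G : Type*} [Group G] [Finite G] (hG : ∃ a b : G, a * b ≠ b * a) (p : ℕ) (hp : p.Prime) : ((∀ χ : Cfsg.IrrCharacter G, Cfsg.charDegree (χ : G → ℂ) = 1 ∨ Cfsg.charDegree (χ : G → ℂ) = p) ∧ ∃ χ : Cfsg.IrrCharacter G, Cfsg.charDegree (χ : G → ℂ) = p) ↔ ((∃ A : Subgroup G, A.Normal ∧ (∀ a ∈ A, ∀ b ∈ A, a * b = b * a) ∧ A.index = p) ∨ (Subgroup.center G).index = p ^ 3) := by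
  constructor
  · rintro ⟨hcd, χ, hχ⟩
    exact cd_p_forward hG hp (fun ψ hψ => hcd ⟨ψ, hψ⟩) ⟨χ.1, χ.2, hχ⟩
  · intro h
    have hcd : CdSub G p := by
      rcases h with ⟨A, hAn, hAab, hAidx⟩ | hZ
      · haveI := hAn
        exact cdSub_of_abelian_index hp A hAab hAidx
      · exact cdSub_of_center_index hp hZ
    refine ⟨fun χ => hcd χ.1 χ.2, ?_⟩
    obtain ⟨χ, hχ, hnl⟩ := exists_nonlinear hG
    exact ⟨⟨χ, hχ⟩, (hcd χ hχ).resolve_left hnl⟩

end Cfsg.Agent.S4459
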