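import Mathlib
import Cfsg.Statements.S4460
import Cfsg.Agent.Lib.Helper24.Cd3Main

set_option autoImplicit false
open Cfsg

namespace Cfsg.Agent.S4460

open Cfsg.Agent.Helper24 Cfsg.Agent.Helper24.Cd3

/-- A finite group with exactly three distinct irreducible character degrees is solvable of derived length at most 3: its third derived subgroup is trivial. -/
theorem result {G : Type*} [Group G] [Finite G] (hcd : Nat.card {n : ℕ // ∃ χ : Cfsg.IrrCharacter G, Cfsg.charDegree (χ : G → ℂ) = n} = 3) : derivedSeries G 3 = ⊥ := by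
  classical
  let D : Set ℕ := {n : ℕ | ∃ χ : Cfsg.IrrCharacter G, Cfsg.charDegree (χ : G → ℂ) = n}
  have hD : D.ncard = 3 := by
    rw [← Nat.card_coe_set_eq]
    exact hcd
  obtain ⟨x, y, z, hxy, hxz, hyz, hDeq⟩ := Set.ncard_eq_three.mp hD
  have hmem : ∀ χ : G → ℂ, IsIrrCharacter G χ →
      charDegree χ = x ∨ charDegree χ = y ∨ charDegree χ = z := by
    intro χ hχ
    have h1 : charDegree χ ∈ D := ⟨⟨χ, hχ⟩, rfl⟩
    rw [hDeq] at h1
    simpa using h1
  have h1 : (1 : ℕ) = x ∨ (1 : ℕ) = y ∨ (1 : ℕ) = z := by
    have h2 := hmem (principalChar G).1 (principalChar G).2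
    have h3 : charDegree ((principalChar G : IrrCharacter G) : G → ℂ) = 1 := by
      simp [principalChar, charDegree]
    rw [h3] at h2
    exact h2
  rcases h1 with h1 | h1 | h1
  · refine cd3_main (Nat.card G) G rfl y z ?_
    intro χ hχ
    rcases hmem χ hχ with h | h | h
    · left; rw [h, ← h1]
    · right; left; exact h
    · right; right; exact h
  · refine cd3_main (Nat.card G) G rfl x z ?_
    intro χ hχ
    rcases hmem χ hχ with h | h | h
    · right; left; exact h
    · left; rw [h, ← h1]
    · right; right; exact h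
  · refine cd3_main (Nat.card G) G rfl x y ?_
    intro χ hχ
    rcases hmem χ hχ with h | h | h
    · right; left; exact h
    · right; right; exact h
    · left; rw [h, ← h1]

end Cfsg.Agent.S4460
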