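import Mathlib
import Cfsg.Statements.S4462
import Cfsg.Agent.S4461
import Cfsg.Agent.Lib.Helper24.NilpotentChain
import Cfsg.Agent.Lib.Helper24.CharQuotient

set_option autoImplicit false
set_option linter.style.haveILetI false
open Cfsg

namespace Cfsg.Agent.S4462

open Cfsg.Agent.Helper24 Cfsg.Agent.Helper24.NilChain

universe u

/-- The set of irreducible character degrees. -/
def cdSet (G : Type u) [Group G] : Set ℕ :=
  {d : ℕ | ∃ χ : Cfsg.IrrCharacter G, Cfsg.charDegree (χ : G → ℂ) = d}

theorem cdSet_finite (G : Type u) [Group G] [Finite G] : (cdSet G).Finite := by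
  haveI : Finite (IrrCharacter G) := irr_finite'
  have : cdSet G = Set.range (fun χ : IrrCharacter G => charDegree (χ : G → ℂ)) := by
    ext d
    simp [cdSet]
  rw [this]
  exact Set.finite_range _

theorem one_mem_cdSet (G : Type u) [Group G] [Finite G] : 1 ∈ cdSet G := by
  refine ⟨principalChar G, ?_⟩
  have h1 := char_one_eq_charDegree (isCharacter_of_isIrrCharacter (principalChar G).2)
  have h2 : ((principalChar G : IrrCharacter G) : G → ℂ) 1 = 1 := rfl
  rw [h2] at h1
  exact_mod_cast h1.symm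

/-- If `F(G) ≠ G` and `G` is solvable, then `G ⧸ F(G)` has fewer character degrees than `G`. -/
theorem cdSet_quotient_ssubset (G : Type u) [Group G] [Finite G] (hsolv : Group.IsSolvable G)
    (F : Subgroup G) [F.Normal] (hF : F = Cfsg.fittingSubgroup G) (hFtop : F ≠ ⊤) :
    cdSet (G ⧸ F) ⊂ cdSet G := by
  classical
  letI : Fintype (IrrCharacter (G ⧸ F)) := irrFintype
  have hsub : cdSet (G ⧸ F) ⊆ cdSet G := by
    rintro d ⟨ψ, rfl⟩
    exact ⟨⟨_, isIrrCharacter_inflate F ψ.2⟩, charDegree_inflate F ψ⟩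
  refine ⟨hsub, fun hcon => ?_⟩
  -- a character of `G ⧸ F` of maximal degree
  obtain ⟨χbar, -, hmax⟩ := Finset.exists_max_image (Finset.univ : Finset (IrrCharacter (G ⧸ F)))
    (fun ψ => charDegree (ψ : G ⧸ F → ℂ)) ⟨principalChar _, Finset.mem_univ _⟩
  set χ : IrrCharacter G := ⟨_, isIrrCharacter_inflate F χbar.2⟩ with hχ
  have hχc := isCharacter_of_isIrrCharacter χ.2
  set K : Subgroup G := charKer hχc with hKdef
  haveI : K.Normal := charKer_normal hχc
  have hFK : F ≤ K := by
    intro x hx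
    rw [hKdef, mem_charKer]
    show (χbar : G ⧸ F → ℂ) (QuotientGroup.mk x) = (χbar : G ⧸ F → ℂ) (QuotientGroup.mk 1)
    rw [(QuotientGroup.eq_one_iff x).mpr hx, QuotientGroup.mk_one]
  have halt : ¬ K ≤ Cfsg.fittingSubgroup G ∨
      (K = Cfsg.fittingSubgroup G ∧ Group.IsSolvable (G ⧸ K) ∧ K ≠ ⊤) := by
    by_cases hKF : K ≤ Cfsg.fittingSubgroup G
    · right
      have hKeq : K = F := le_antisymm (hF ▸ hKF) hFK
      refine ⟨hKeq.trans hF, inferInstance, ?_⟩
      rw [hKeq]
      exact hFtop
    · left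
      exact hKF
  obtain ⟨ψ, hdeg, -⟩ := Cfsg.Agent.S4461.result χ K (fun g => mem_charKer hχc g) halt
  have hψmem : charDegree (ψ : G → ℂ) ∈ cdSet (G ⧸ F) := hcon ⟨ψ, rfl⟩
  obtain ⟨ψbar, hψbar⟩ := hψmem
  have h1 := hmax ψbar (Finset.mem_univ _)
  have h2 : charDegree (χ : G → ℂ) = charDegree (χbar : G ⧸ F → ℂ) := charDegree_inflate F χbar
  omega

/-- A nontrivial solvable group has nontrivial Fitting subgroup. -/
theorem fitting_ne_bot (G : Type u) [Group G] [Finite G] (hsolv : Group.IsSolvable G)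
    [Nontrivial G] : Cfsg.fittingSubgroup G ≠ ⊥ := by
  obtain ⟨p, hp, P, hPn, hPne, hPp⟩ := Cfsg.Agent.Helper1.exists_normal_pSubgroup_of_solvable G
  haveI : Fact p.Prime := ⟨hp⟩
  intro hbot
  apply hPne
  rw [eq_bot_iff, ← hbot]
  exact Cfsg.Agent.Helper7.le_fittingSubgroup P hPp.isNilpotent

theorem main : ∀ (k : ℕ) (G : Type u) [Group G] [Finite G], Nat.card G = k →
    Group.IsSolvable G → Chain G (cdSet G).ncard := by
  intro k
  induction k using Nat.strong_induction_on with
  | _ k ih =>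
    intro G _ _ hk hsolv
    have hpos : 1 ≤ (cdSet G).ncard := by
      rw [Nat.one_le_iff_ne_zero, Ne, Set.ncard_eq_zero (cdSet_finite G)]
      exact Set.nonempty_iff_ne_empty.mp ⟨1, one_mem_cdSet G⟩
    set F : Subgroup G := Cfsg.fittingSubgroup G with hF
    haveI : F.Normal := Cfsg.Agent.Helper7.fittingSubgroup_normal'
    have hFnil : Group.IsNilpotent ↥F := Cfsg.Agent.Helper7.fittingSubgroup_isNilpotent
    by_cases hFtop : F = ⊤
    · -- `G` is nilpotent
      have hG : Group.IsNilpotent G := by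
        rw [hFtop] at hFnil
        exact (Group.isNilpotent_top).mp hFnil
      exact chain_of_isNilpotent hG hpos
    · haveI : Nontrivial G := by
        by_contra hcon
        rw [not_nontrivial_iff_subsingleton] at hcon
        exact hFtop (Subsingleton.elim _ _)
      have hFbot : F ≠ ⊥ := fitting_ne_bot G hsolv
      have hcard : Nat.card (G ⧸ F) < k := by
        have h1 := Subgroup.card_eq_card_quotient_mul_card_subgroup F
        have h2 : 1 < Nat.card ↥F := by
          rw [Subgroup.one_lt_card_iff_ne_bot]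
          exact hFbot
        have h3 : 0 < Nat.card (G ⧸ F) := Nat.card_pos
        rw [hk] at h1
        nlinarith
      have hch := ih _ hcard (G ⧸ F) rfl inferInstance
      have hlt : (cdSet (G ⧸ F)).ncard < (cdSet G).ncard :=
        Set.ncard_lt_ncard (cdSet_quotient_ssubset G hsolv F hF hFtop) (cdSet_finite G)
      have h2 := (hch.mono (m' := (cdSet G).ncard - 1) (by omega)).lift F hFnil
      have e : (cdSet G).ncard - 1 + 1 = (cdSet G).ncard := by omega
      rwa [e] at h2

/-- Let G be a finite solvable group with exactly n distinct irreducible character degrees. Then G has normal subgroups 1 = N₀ ≤ N₁ ≤ ⋯ ≤ Nₙ = G with every quotient N_{i+1}/N_i nilpotent (the nilpotent length of G is at most n). -/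
theorem result {G : Type*} [Group G] [Finite G] (hsolv : Group.IsSolvable G) (n : ℕ) (hcd : Nat.card {d : ℕ // ∃ χ : Cfsg.IrrCharacter G, Cfsg.charDegree (χ : G → ℂ) = d} = n) : ∃ N : Fin (n + 1) → Subgroup G, N 0 = ⊥ ∧ N (Fin.last n) = ⊤ ∧ Monotone N ∧ (∀ i, (N i).Normal) ∧ ∀ i : Fin n, ∀ h : (N i.castSucc).subgroupOf (N i.succ) |>.Normal, Group.IsNilpotent (↥(N i.succ) ⧸ (N i.castSucc).subgroupOf (N i.succ)) := by
  have h1 : (cdSet G).ncard = n := by
    rw [← hcd]
    exact (Nat.card_coe_set_eq (cdSet G)).symm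
  rw [← h1]
  exact main _ G rfl hsolv

end Cfsg.Agent.S4462
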