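import Mathlib
import Cfsg.Agent.Lib.Helper24.FrobeniusSchur
import Cfsg.Agent.Lib.Helper24.CharComplete
import Cfsg.Agent.Lib.Helper24.CharOrtho
import Cfsg.Statements.S4474
-- import your own Cfsg.Agent.* helpers here

set_option autoImplicit false
open Cfsg

namespace Cfsg.Agent.S4474

open Cfsg.Agent.Helper24 Matrix
open scoped ComplexConjugate Kronecker ComplexOrder

/-! ### Averaging projections -/

section avg

variable {G : Type*} [Group G] [Fintype G] {ι : Type*} [Fintype ι] [DecidableEq ι]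

/-- an idempotent matrix of trace zero vanishes -/
theorem eq_zero_of_idem_trace (E : Matrix ι ι ℂ) (hE : E * E = E) (ht : E.trace = 0) : E = 0 := by
  have hidem : IsIdempotentElem (Matrix.toLin' E) := by
    show Matrix.toLin' E * Matrix.toLin' E = Matrix.toLin' E
    rw [Module.End.mul_eq_comp, ← Matrix.toLin'_mul, hE]
  have h := (LinearMap.IsIdempotentElem.isProj_range _ hidem).trace
  rw [Matrix.trace_toLin'_eq, ht] at h
  have h0 : Module.finrank ℂ (LinearMap.range (Matrix.toLin' E)) = 0 := by exact_mod_cast h.symm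
  have h1 : LinearMap.range (Matrix.toLin' E) = ⊥ := Submodule.finrank_eq_zero.mp h0
  have h2 : Matrix.toLin' E = 0 := LinearMap.range_eq_bot.mp h1
  have := congrArg LinearMap.toMatrix' h2
  simpa using this

theorem avg_facts (K : G →* Matrix ι ι ℂ) (T : Matrix ι ι ℂ) (hT : T * T = 1)
    (hTK : ∀ g, T * K g = K g * T) :
    ∃ E E' : Matrix ι ι ℂ, E * E = E ∧ E' * E' = E' ∧ (∀ h, K h * E = E) ∧ T * E = E ∧
      (∀ w : ι → ℂ, (∀ g, K g *ᵥ w = w) → T *ᵥ w = w → E *ᵥ w = w) ∧
      E.trace + E'.trace = (Nat.card G : ℂ)⁻¹ * ∑ g, (K g).trace ∧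
      E.trace - E'.trace = (Nat.card G : ℂ)⁻¹ * ∑ g, (T * K g).trace := by
  classical
  have hcard : (Nat.card G : ℂ) ≠ 0 := by exact_mod_cast (Nat.card_pos (α := G)).ne'
  set P : Matrix ι ι ℂ := (Nat.card G : ℂ)⁻¹ • ∑ g, K g with hP
  have hKP : ∀ h, K h * P = P := by
    intro h
    rw [hP, Matrix.mul_smul, Finset.mul_sum]
    congr 1
    have := Equiv.sum_comp (Equiv.mulLeft h) (fun g => K g)
    rw [← this]
    apply Finset.sum_congr rfl
    intro g _
    simp [map_mul]
  have hPP : P * P = P := by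
    nth_rewrite 1 [hP]
    rw [Matrix.smul_mul, Finset.sum_mul]
    simp only [hKP, Finset.sum_const, Finset.card_univ]
    rw [← Nat.card_eq_fintype_card, ← Nat.cast_smul_eq_nsmul ℂ, smul_smul, inv_mul_cancel₀ hcard,
      one_smul]
  have hTP : T * P = P * T := by
    rw [hP, Matrix.mul_smul, Matrix.smul_mul, Finset.mul_sum, Finset.sum_mul]
    congr 1
    exact Finset.sum_congr rfl (fun g _ => hTK g)
  set Q := T * P with hQ
  have hPQ : P * Q = Q := by rw [hQ, ← Matrix.mul_assoc, ← hTP, Matrix.mul_assoc, hPP]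
  have hQP : Q * P = Q := by rw [hQ, Matrix.mul_assoc, hPP]
  have hQQ : Q * Q = P := by
    rw [hQ, Matrix.mul_assoc, ← Matrix.mul_assoc P T P, ← hTP, Matrix.mul_assoc T P P, hPP,
      ← Matrix.mul_assoc, hT, Matrix.one_mul]
  have hE1 : ((1 / 2 : ℂ) • (P + Q)) * ((1 / 2 : ℂ) • (P + Q)) = (1 / 2 : ℂ) • (P + Q) := by
    rw [Matrix.smul_mul, Matrix.mul_smul, smul_smul, Matrix.add_mul, Matrix.mul_add, Matrix.mul_add,
      hPP, hPQ, hQP, hQQ]
    have : P + Q + (Q + P) = (2 : ℂ) • (P + Q) := by rw [two_smul]; abel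
    rw [this, smul_smul]
    norm_num
  have hE2 : ((1 / 2 : ℂ) • (P - Q)) * ((1 / 2 : ℂ) • (P - Q)) = (1 / 2 : ℂ) • (P - Q) := by
    rw [Matrix.smul_mul, Matrix.mul_smul, smul_smul, Matrix.sub_mul, Matrix.mul_sub, Matrix.mul_sub,
      hPP, hPQ, hQP, hQQ]
    have : P - Q - (Q - P) = (2 : ℂ) • (P - Q) := by rw [two_smul]; abel
    rw [this, smul_smul]
    norm_num
  have hPtr : P.trace = (Nat.card G : ℂ)⁻¹ * ∑ g, (K g).trace := by
    rw [hP, Matrix.trace_smul, Matrix.trace_sum, smul_eq_mul]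
  have hQtr : Q.trace = (Nat.card G : ℂ)⁻¹ * ∑ g, (T * K g).trace := by
    rw [hQ, hP, Matrix.mul_smul, Matrix.trace_smul, Finset.mul_sum, Matrix.trace_sum, smul_eq_mul]
  refine ⟨(1 / 2 : ℂ) • (P + Q), (1 / 2 : ℂ) • (P - Q), hE1, hE2, ?_, ?_, ?_, ?_, ?_⟩
  · intro h
    have h1 : K h * Q = Q := by
      rw [hQ, ← Matrix.mul_assoc, ← hTK h, Matrix.mul_assoc, hKP]
    rw [Matrix.mul_smul, Matrix.mul_add, hKP, h1]
  · have h1 : T * Q = P := by rw [hQ, ← Matrix.mul_assoc, hT, Matrix.one_mul]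
    rw [Matrix.mul_smul, Matrix.mul_add, h1, ← hQ, add_comm]
  · intro w hw hTw
    have hPw : P *ᵥ w = w := by
      rw [hP, Matrix.smul_mulVec, Matrix.sum_mulVec]
      simp only [hw, Finset.sum_const, Finset.card_univ]
      rw [← Nat.card_eq_fintype_card, ← Nat.cast_smul_eq_nsmul ℂ, smul_smul, inv_mul_cancel₀ hcard,
        one_smul]
    have hQw : Q *ᵥ w = w := by rw [hQ, ← Matrix.mulVec_mulVec, hPw, hTw]
    rw [Matrix.smul_mulVec, Matrix.add_mulVec, hPw, hQw, ← two_smul ℂ w, smul_smul]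
    norm_num
  · rw [Matrix.trace_smul, Matrix.trace_smul, Matrix.trace_add, Matrix.trace_sub, ← hPtr]
    simp only [smul_eq_mul]
    ring
  · rw [Matrix.trace_smul, Matrix.trace_smul, Matrix.trace_add, Matrix.trace_sub, ← hQtr]
    simp only [smul_eq_mul]
    ring

end avg

/-! ### The indicator and invariant symmetric forms -/

section symm

variable {G : Type*} [Group G] [Fintype G]

/-- vectorisation of a square matrix -/
def vec {n : ℕ} (W : Matrix (Fin n) (Fin n) ℂ) : Fin n × Fin n → ℂ := fun p => W p.1 p.2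

theorem kron_mulVec {n : ℕ} (A B W : Matrix (Fin n) (Fin n) ℂ) :
    (A ⊗ₖ B) *ᵥ vec W = vec (A * W * Bᵀ) := by
  funext p
  simp only [vec, Matrix.mulVec, dotProduct, Matrix.kroneckerMap_apply, Matrix.mul_apply,
    Matrix.transpose_apply]
  rw [Fintype.sum_prod_type, Finset.sum_comm]
  refine Finset.sum_congr rfl fun l _ => ?_
  rw [Finset.sum_mul]
  refine Finset.sum_congr rfl fun k _ => ?_
  ring

theorem swap_mulVec {n : ℕ} (w : Fin n × Fin n → ℂ) (p : Fin n × Fin n) :
    (swapMat (Fin n) *ᵥ w) p = w p.swap := by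
  simp only [Matrix.mulVec, dotProduct, swapMat_apply]
  rw [Finset.sum_eq_single p.swap]
  · simp
  · intro b _ hb
    have : ¬ p = b.swap := by
      intro h; apply hb; rw [h]; simp
    rw [if_neg this, zero_mul]
  · intro h; exact absurd (Finset.mem_univ _) h

theorem fs_iff_symm {n : ℕ} (R : G →* Matrix (Fin n) (Fin n) ℂ) {χ : G → ℂ}
    (hχ : IsIrrCharacter G χ) (htr : ∀ g, (R g).trace = χ g) :
    fsInd χ = 1 ↔ ∃ W : Matrix (Fin n) (Fin n) ℂ, W ≠ 0 ∧ Wᵀ = W ∧ ∀ g, R g * W * (R g)ᵀ = W := by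
  classical
  letI : Fintype (IrrCharacter G) := irrFintype
  obtain ⟨E, E', hE, hE', hKE, hTE, hfix, hadd, hsub⟩ := avg_facts (kronSq R) (swapMat (Fin n))
    swapMat_mul_self (fun g => swapMat_mul_kronecker _ _)
  obtain ⟨r, hr⟩ := exists_nat_trace_of_idempotent E hE
  obtain ⟨s, hs⟩ := exists_nat_trace_of_idempotent E' hE'
  have h1 : (Nat.card G : ℂ)⁻¹ * ∑ g, (kronSq R g).trace = classInner χ (fun g => conj (χ g)) := by
    unfold classInner
    congr 1
    apply Finset.sum_congr rfl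
    intro g _
    show (R g ⊗ₖ R g).trace = _
    rw [Matrix.trace_kronecker, htr, Complex.conj_conj]
  have h2 : (Nat.card G : ℂ)⁻¹ * ∑ g, (swapMat (Fin n) * kronSq R g).trace = fsInd χ := by
    unfold fsInd
    congr 1
    apply Finset.sum_congr rfl
    intro g _
    show (swapMat (Fin n) * (R g ⊗ₖ R g)).trace = _
    rw [trace_swapMat_mul_kronecker, ← map_mul, htr]
  rw [h1, hr, hs, irr_orthogonality hχ (isIrrCharacter_conj hχ)] at hadd
  rw [h2, hr, hs] at hsub
  have hle : r + s ≤ 1 := by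
    by_cases he : χ = fun g => conj (χ g)
    · rw [if_pos he] at hadd
      have : r + s = 1 := by exact_mod_cast hadd
      omega
    · rw [if_neg he] at hadd
      have : r + s = 0 := by exact_mod_cast hadd
      omega
  constructor
  · intro hν
    rw [hν] at hsub
    have hr1 : r = 1 := by
      have h3 : (r : ℤ) - s = 1 := by exact_mod_cast hsub
      omega
    have hEne : E ≠ 0 := by
      intro h0
      rw [h0, Matrix.trace_zero] at hr
      rw [hr1] at hr
      norm_num at hr
    have hex : ∃ v : Fin n × Fin n → ℂ, E *ᵥ v ≠ 0 := by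
      by_contra hcon
      push Not at hcon
      apply hEne
      have : Matrix.toLin' E = 0 := by
        apply LinearMap.ext
        intro v
        rw [Matrix.toLin'_apply, hcon v]
        rfl
      have := congrArg LinearMap.toMatrix' this
      simpa using this
    obtain ⟨v, hv⟩ := hex
    refine ⟨Matrix.of fun i j => (E *ᵥ v) (i, j), ?_, ?_, ?_⟩
    · intro h0
      apply hv
      funext p
      have := congrFun (congrFun h0 p.1) p.2
      simpa using this
    · ext i j
      rw [Matrix.transpose_apply, Matrix.of_apply, Matrix.of_apply]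
      have h3 : swapMat (Fin n) *ᵥ (E *ᵥ v) = E *ᵥ v := by
        rw [Matrix.mulVec_mulVec, hTE]
      have := congrFun h3 (i, j)
      rw [swap_mulVec] at this
      exact this
    · intro g
      have h3 : kronSq R g *ᵥ (E *ᵥ v) = E *ᵥ v := by
        rw [Matrix.mulVec_mulVec, hKE]
      have h4 : E *ᵥ v = vec (Matrix.of fun i j => (E *ᵥ v) (i, j)) := by
        funext p; rfl
      rw [h4] at h3
      have h5 : kronSq R g = R g ⊗ₖ R g := rfl
      rw [h5, kron_mulVec] at h3
      ext i j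
      have := congrFun h3 (i, j)
      exact this
  · rintro ⟨W, hW0, hWt, hWinv⟩
    have hw : E *ᵥ vec W = vec W := by
      apply hfix
      · intro g
        have h5 : kronSq R g = R g ⊗ₖ R g := rfl
        rw [h5, kron_mulVec, hWinv]
      · funext p
        rw [swap_mulVec]
        show W p.2 p.1 = W p.1 p.2
        have := congrFun (congrFun hWt p.1) p.2
        rw [Matrix.transpose_apply] at this
        exact this
    have hEne : E ≠ 0 := by
      intro h0
      rw [h0, Matrix.zero_mulVec] at hw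
      apply hW0
      ext i j
      have := congrFun hw (i, j)
      exact this.symm
    have hr0 : r ≠ 0 := by
      intro h0
      apply hEne
      apply eq_zero_of_idem_trace E hE
      rw [hr, h0]; simp
    have hr1 : r = 1 := by omega
    have hs0 : s = 0 := by omega
    rw [← hsub, hr1, hs0]
    simp

end symm

/-! ### Real representations have indicator one -/

section real

variable {G : Type*} [Group G] [Fintype G]

theorem fsInd_of_real {χ : G → ℂ} (hχ : IsIrrCharacter G χ) {m : ℕ}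
    (ρr : Representation ℝ G (Fin m → ℝ))
    (htr : ∀ g : G, ((LinearMap.trace ℝ (Fin m → ℝ) (ρr g) : ℝ) : ℂ) = χ g) : fsInd χ = 1 := by
  classical
  let Rr : G →* Matrix (Fin m) (Fin m) ℝ :=
    (LinearMap.toMatrixAlgEquiv' (R := ℝ) (n := Fin m)).toAlgHom.toRingHom.toMonoidHom.comp ρr
  have hRr : ∀ g, Rr g = LinearMap.toMatrix' (ρr g) := fun g => rfl
  let Rc : G →* Matrix (Fin m) (Fin m) ℂ :=
    (Complex.ofRealHom.mapMatrix (m := Fin m)).toMonoidHom.comp Rr
  have hRc : ∀ g, Rc g = (Rr g).map Complex.ofReal := fun g => rfl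
  have htrc : ∀ g, (Rc g).trace = χ g := by
    intro g
    rw [← htr g, hRc, hRr, LinearMap.trace_eq_matrix_trace ℝ (Pi.basisFun ℝ (Fin m)),
      LinearMap.toMatrix_eq_toMatrix']
    simp only [Matrix.trace, Matrix.diag_apply, Matrix.map_apply]
    push_cast
    rfl
  -- the degree is positive
  have hm : 0 < m := by
    obtain ⟨d, hd, hd1⟩ := irr_one_eq hχ
    rcases Nat.eq_zero_or_pos m with h0 | h0
    · exfalso
      subst h0
      have h1 := htrc 1
      rw [map_one, Matrix.trace_one, Fintype.card_fin, hd1] at h1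
      have : (0 : ℕ) = d := by exact_mod_cast h1
      omega
    · exact h0
  set Wr : Matrix (Fin m) (Fin m) ℝ := ∑ g, Rr g * (Rr g)ᵀ with hWr
  have hWrt : Wrᵀ = Wr := by
    rw [hWr, Matrix.transpose_sum]
    refine Finset.sum_congr rfl fun g _ => ?_
    rw [Matrix.transpose_mul, Matrix.transpose_transpose]
  have hWrinv : ∀ h, Rr h * Wr * (Rr h)ᵀ = Wr := by
    intro h
    rw [hWr, Finset.mul_sum, Finset.sum_mul]
    rw [← Equiv.sum_comp (Equiv.mulLeft h) (fun g => Rr g * (Rr g)ᵀ)]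
    refine Finset.sum_congr rfl fun g _ => ?_
    rw [Equiv.coe_mulLeft, map_mul, Matrix.transpose_mul]
    simp only [Matrix.mul_assoc]
  have htrW : 0 < Wr.trace := by
    rw [hWr, Matrix.trace_sum]
    have hnn : ∀ g ∈ (Finset.univ : Finset G), 0 ≤ (Rr g * (Rr g)ᵀ).trace := by
      intro g _
      simp only [Matrix.trace, Matrix.diag_apply, Matrix.mul_apply, Matrix.transpose_apply]
      exact Finset.sum_nonneg fun i _ => Finset.sum_nonneg fun j _ => mul_self_nonneg _
    have h1 : (Rr 1 * (Rr 1)ᵀ).trace = m := by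
      rw [map_one, Matrix.transpose_one, Matrix.mul_one, Matrix.trace_one, Fintype.card_fin]
    have := Finset.single_le_sum hnn (Finset.mem_univ (1 : G))
    rw [h1] at this
    have hm' : (0 : ℝ) < m := by exact_mod_cast hm
    linarith
  have hWr0 : Wr ≠ 0 := by
    intro h0
    rw [h0, Matrix.trace_zero] at htrW
    exact lt_irrefl _ htrW
  refine (fs_iff_symm Rc hχ htrc).mpr ⟨Wr.map Complex.ofReal, ?_, ?_, ?_⟩
  · intro h0
    apply hWr0
    ext i j
    have := congrFun (congrFun h0 i) j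
    simpa using this
  · rw [← Matrix.transpose_map, hWrt]
  · intro h
    have hmul : ∀ A B : Matrix (Fin m) (Fin m) ℝ,
        (A * B).map Complex.ofReal = A.map Complex.ofReal * B.map Complex.ofReal := by
      intro A B
      exact Matrix.map_mul (f := Complex.ofRealHom)
    rw [hRc, ← Matrix.transpose_map, ← hmul, ← hmul, hWrinv h]

end real

/-! ### Matrix forms of Schur's lemma -/

section schur

variable {G : Type*} [Group G] [Fintype G] {n : ℕ}

theorem rho_eq_toLin (ρ : Representation ℂ G (Fin n → ℂ)) (g : G) :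
    ρ g = Matrix.toLin' (repMat ρ g) := by
  rw [repMat_apply, Matrix.toLin'_toMatrix']

/-- a nonzero matrix intertwining an irreducible representation with something is invertible -/
theorem isUnit_of_intertwine (ρ : Representation ℂ G (Fin n → ℂ)) (hρ : ρ.IsIrreducible)
    (W : Matrix (Fin n) (Fin n) ℂ) (hW0 : W ≠ 0)
    (hinv : ∀ g, ∃ M : Matrix (Fin n) (Fin n) ℂ, repMat ρ g * W = W * M) : IsUnit W := by
  let σ : Subrepresentation ρ :=
    { toSubmodule := LinearMap.range (Matrix.toLin' W)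
      apply_mem_toSubmodule := by
        rintro g v ⟨u, rfl⟩
        obtain ⟨M, hM⟩ := hinv g
        refine ⟨Matrix.toLin' M u, ?_⟩
        rw [rho_eq_toLin, ← LinearMap.comp_apply, ← LinearMap.comp_apply, ← Matrix.toLin'_mul,
          ← Matrix.toLin'_mul, hM] }
  haveI := hρ
  rcases eq_bot_or_eq_top σ with h | h
  · exfalso
    apply hW0
    have h1 : LinearMap.range (Matrix.toLin' W) = ⊥ := by
      have := congrArg Subrepresentation.toSubmodule h
      exact this
    have h2 : Matrix.toLin' W = 0 := LinearMap.range_eq_bot.mp h1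
    have := congrArg LinearMap.toMatrix' h2
    simpa using this
  · have h1 : LinearMap.range (Matrix.toLin' W) = ⊤ := by
      have := congrArg Subrepresentation.toSubmodule h
      exact this
    have h2 : Function.Surjective (Matrix.toLin' W) := LinearMap.range_eq_top.mp h1
    apply Matrix.mulVec_surjective_iff_isUnit.mp
    intro v
    obtain ⟨u, hu⟩ := h2 v
    exact ⟨u, by rw [← hu, Matrix.toLin'_apply]⟩

/-- a matrix commuting with an irreducible representation is scalar -/
theorem scalar_of_comm (ρ : Representation ℂ G (Fin n → ℂ)) (hρ : ρ.IsIrreducible)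
    (D : Matrix (Fin n) (Fin n) ℂ) (hD : ∀ g, D * repMat ρ g = repMat ρ g * D) :
    ∃ c : ℂ, D = c • (1 : Matrix (Fin n) (Fin n) ℂ) := by
  obtain ⟨c, hc⟩ := exists_scalar_of_comm ρ hρ (Matrix.toLin' D) (by
    intro h
    rw [rho_eq_toLin, ← Matrix.toLin'_mul, ← Matrix.toLin'_mul, hD])
  refine ⟨c, ?_⟩
  have := congrArg LinearMap.toMatrix' hc
  rw [LinearMap.toMatrix'_toLin'] at this
  rw [this]
  ext i j
  simp [LinearMap.toMatrix'_apply, Matrix.one_apply, Pi.single_apply]

end schur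

/-! ### Entrywise conjugation -/

section cj

variable {n : ℕ}

/-- entrywise complex conjugation -/
def cj (M : Matrix (Fin n) (Fin n) ℂ) : Matrix (Fin n) (Fin n) ℂ := M.map (starRingEnd ℂ)

theorem cj_apply (M : Matrix (Fin n) (Fin n) ℂ) (i j : Fin n) : cj M i j = conj (M i j) := rfl

theorem cj_mul (A B : Matrix (Fin n) (Fin n) ℂ) : cj (A * B) = cj A * cj B :=
  Matrix.map_mul (f := starRingEnd ℂ)

theorem cj_cj (A : Matrix (Fin n) (Fin n) ℂ) : cj (cj A) = A := by
  ext i j
  rw [cj_apply, cj_apply, Complex.conj_conj]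

theorem cj_one : cj (1 : Matrix (Fin n) (Fin n) ℂ) = 1 := by
  ext i j
  rw [cj_apply, Matrix.one_apply]
  split_ifs <;> simp

theorem cj_smul (c : ℂ) (A : Matrix (Fin n) (Fin n) ℂ) : cj (c • A) = conj c • cj A := by
  ext i j
  rw [cj_apply, Matrix.smul_apply, Matrix.smul_apply, cj_apply, smul_eq_mul, smul_eq_mul, map_mul]

theorem cj_add (A B : Matrix (Fin n) (Fin n) ℂ) : cj (A + B) = cj A + cj B := by
  ext i j
  rw [cj_apply, Matrix.add_apply, Matrix.add_apply, cj_apply, cj_apply, map_add]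

theorem cj_transpose (A : Matrix (Fin n) (Fin n) ℂ) : cj Aᵀ = (cj A)ᵀ := rfl

theorem conjTranspose_eq (A : Matrix (Fin n) (Fin n) ℂ) : Aᴴ = (cj A)ᵀ := by
  ext i j
  rw [Matrix.conjTranspose_apply, Matrix.transpose_apply, cj_apply]
  rfl

theorem cj_injective {A B : Matrix (Fin n) (Fin n) ℂ} (h : cj A = cj B) : A = B := by
  rw [← cj_cj A, h, cj_cj]

theorem cj_conjTranspose (A : Matrix (Fin n) (Fin n) ℂ) : cj Aᴴ = Aᵀ := by
  rw [conjTranspose_eq, cj_transpose, cj_cj]

end cj

/-! ### Unit complex numbers avoiding a finite set -/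

theorem exists_unit_avoiding (T : Set ℂ) (hT : T.Finite) :
    ∃ μ : ℂ, conj μ * μ = 1 ∧ -μ ∉ T := by
  have hne : ∀ t : ℝ, (1 : ℂ) - t * Complex.I ≠ 0 := by
    intro t h
    have := congrArg Complex.re h
    simp at this
  have hne' : ∀ t : ℝ, (1 : ℂ) + t * Complex.I ≠ 0 := by
    intro t h
    have := congrArg Complex.re h
    simp at this
  let f : ℝ → ℂ := fun t => -((1 + t * Complex.I) / (1 - t * Complex.I))
  have hf : Function.Injective f := by
    intro t s hts
    have h1 : (1 + (t : ℂ) * Complex.I) / (1 - t * Complex.I) =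
        (1 + (s : ℂ) * Complex.I) / (1 - s * Complex.I) := neg_injective hts
    rw [div_eq_div_iff (hne t) (hne s)] at h1
    have h2 : (2 * Complex.I) * ((t : ℂ) - s) = 0 := by linear_combination h1
    rcases mul_eq_zero.mp h2 with h | h
    · exfalso
      rcases mul_eq_zero.mp h with h' | h'
      · norm_num at h'
      · exact Complex.I_ne_zero h'
    · exact_mod_cast sub_eq_zero.mp h
  have hinf : (Set.range f).Infinite := Set.infinite_range_of_injective hf
  obtain ⟨z, ⟨t, rfl⟩, hz⟩ := hinf.exists_notMem_finite hT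
  refine ⟨(1 + t * Complex.I) / (1 - t * Complex.I), ?_, hz⟩
  rw [map_div₀, map_add, map_sub, map_one, map_mul, Complex.conj_ofReal, Complex.conj_I]
  have h3 : (1 : ℂ) + t * -Complex.I = 1 - t * Complex.I := by ring
  have h4 : (1 : ℂ) - t * -Complex.I = 1 + t * Complex.I := by ring
  rw [h3, h4]
  field_simp [hne t, hne' t]


/-! ### The real form -/

section realform

variable {G : Type*} [Group G] [Fintype G] {n : ℕ}

/-- the invariant positive definite hermitian form -/
theorem exists_hermitian (R : G →* Matrix (Fin n) (Fin n) ℂ) :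
    ∃ H : Matrix (Fin n) (Fin n) ℂ, H.PosDef ∧ ∀ g, (R g)ᴴ * H * R g = H := by
  classical
  refine ⟨∑ g, (R g)ᴴ * R g, ?_, ?_⟩
  · rw [← Finset.add_sum_erase _ _ (Finset.mem_univ (1 : G))]
    apply Matrix.PosDef.add_posSemidef
    · rw [map_one, Matrix.conjTranspose_one, Matrix.one_mul]; exact Matrix.PosDef.one
    · apply Matrix.posSemidef_sum
      intro g _
      exact Matrix.posSemidef_conjTranspose_mul_self _
  · intro h
    rw [Finset.mul_sum, Finset.sum_mul]
    rw [← Equiv.sum_comp (Equiv.mulRight h) (fun g => (R g)ᴴ * R g)]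
    refine Finset.sum_congr rfl fun g _ => ?_
    rw [Equiv.coe_mulRight, map_mul, Matrix.conjTranspose_mul]
    simp only [Matrix.mul_assoc]

theorem exists_inv_of_isUnit {M : Matrix (Fin n) (Fin n) ℂ} (h : IsUnit M) :
    ∃ N : Matrix (Fin n) (Fin n) ℂ, M * N = 1 ∧ N * M = 1 := by
  obtain ⟨u, hu⟩ := h
  exact ⟨↑u⁻¹, by rw [← hu]; exact u.mul_inv, by rw [← hu]; exact u.inv_mul⟩

theorem exists_real_form (ρ : Representation ℂ G (Fin n → ℂ)) (hρ : ρ.IsIrreducible) (hn : 0 < n)
    (W : Matrix (Fin n) (Fin n) ℂ) (hW0 : W ≠ 0) (hWt : Wᵀ = W)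
    (hWinv : ∀ g, repMat ρ g * W * (repMat ρ g)ᵀ = W) :
    ∃ S S' : Matrix (Fin n) (Fin n) ℂ, S * S' = 1 ∧ S' * S = 1 ∧
      ∀ g, cj (S' * repMat ρ g * S) = S' * repMat ρ g * S := by
  classical
  haveI : Nonempty (Fin n) := ⟨⟨0, hn⟩⟩
  set R := repMat ρ with hR
  have hRinv' : ∀ g, R g⁻¹ * R g = 1 := fun g => by rw [← map_mul, inv_mul_cancel, map_one]
  have h1 : ∀ g, R g * W = W * (R g⁻¹)ᵀ := by
    intro g
    have := hWinv g
    calc R g * W = R g * W * ((R g)ᵀ * (R g⁻¹)ᵀ) := by
          rw [← Matrix.transpose_mul, hRinv', Matrix.transpose_one, Matrix.mul_one]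
      _ = (R g * W * (R g)ᵀ) * (R g⁻¹)ᵀ := by simp only [Matrix.mul_assoc]
      _ = W * (R g⁻¹)ᵀ := by rw [this]
  have hWu : IsUnit W := isUnit_of_intertwine ρ hρ W hW0 (fun g => ⟨_, h1 g⟩)
  obtain ⟨B, hWB, hBW⟩ := exists_inv_of_isUnit hWu
  have hBt : Bᵀ = B := by
    calc Bᵀ = Bᵀ * (W * B) := by rw [hWB, Matrix.mul_one]
      _ = (Bᵀ * Wᵀ) * B := by rw [hWt, Matrix.mul_assoc]
      _ = B := by rw [← Matrix.transpose_mul, hWB, Matrix.transpose_one, Matrix.one_mul]
  have h2 : ∀ g, B * R g = (R g⁻¹)ᵀ * B := by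
    intro g
    calc B * R g = B * R g * (W * B) := by rw [hWB, Matrix.mul_one]
      _ = B * (R g * W) * B := by simp only [Matrix.mul_assoc]
      _ = B * (W * (R g⁻¹)ᵀ) * B := by rw [h1]
      _ = (B * W) * (R g⁻¹)ᵀ * B := by simp only [Matrix.mul_assoc]
      _ = (R g⁻¹)ᵀ * B := by rw [hBW, Matrix.one_mul]
  obtain ⟨H, hHpd, hHinv⟩ := exists_hermitian R
  have hHh : Hᴴ = H := hHpd.isHermitian
  obtain ⟨Hi, hHHi, hHiH⟩ := exists_inv_of_isUnit hHpd.isUnit
  have hHih : Hiᴴ = Hi := by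
    calc Hiᴴ = Hiᴴ * (H * Hi) := by rw [hHHi, Matrix.mul_one]
      _ = (Hiᴴ * Hᴴ) * Hi := by rw [hHh, Matrix.mul_assoc]
      _ = Hi := by rw [← Matrix.conjTranspose_mul, hHHi, Matrix.conjTranspose_one, Matrix.one_mul]
  have h3 : ∀ g, H * R g = (R g⁻¹)ᴴ * H := by
    intro g
    calc H * R g = ((R g⁻¹)ᴴ * H * R g⁻¹) * R g := by rw [hHinv]
      _ = (R g⁻¹)ᴴ * H * (R g⁻¹ * R g) := by simp only [Matrix.mul_assoc]
      _ = (R g⁻¹)ᴴ * H := by rw [hRinv', Matrix.mul_one]
  have h4 : ∀ g, R g * Hi = Hi * (R g⁻¹)ᴴ := by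
    intro g
    calc R g * Hi = (Hi * H) * R g * Hi := by rw [hHiH, Matrix.one_mul]
      _ = Hi * (H * R g) * Hi := by simp only [Matrix.mul_assoc]
      _ = Hi * ((R g⁻¹)ᴴ * H) * Hi := by rw [h3]
      _ = Hi * (R g⁻¹)ᴴ * (H * Hi) := by simp only [Matrix.mul_assoc]
      _ = Hi * (R g⁻¹)ᴴ := by rw [hHHi, Matrix.mul_one]
  obtain ⟨C, hC⟩ : ∃ C, C = Hi * cj B := ⟨_, rfl⟩
  have h5 : ∀ g, C * cj (R g) = R g * C := by
    intro g
    calc C * cj (R g) = Hi * cj (B * R g) := by rw [hC, cj_mul, Matrix.mul_assoc]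
      _ = Hi * cj ((R g⁻¹)ᵀ * B) := by rw [h2]
      _ = Hi * ((R g⁻¹)ᴴ * cj B) := by rw [cj_mul, cj_transpose, ← conjTranspose_eq]
      _ = (Hi * (R g⁻¹)ᴴ) * cj B := by rw [Matrix.mul_assoc]
      _ = R g * C := by rw [← h4, hC, Matrix.mul_assoc]
  have hCCi : C * (cj W * H) = 1 := by
    calc C * (cj W * H) = Hi * (cj B * cj W) * H := by rw [hC]; simp only [Matrix.mul_assoc]
      _ = 1 := by rw [← cj_mul, hBW, cj_one, Matrix.mul_one, hHiH]
  have hCiC : (cj W * H) * C = 1 := by
    calc (cj W * H) * C = cj W * (H * Hi) * cj B := by rw [hC]; simp only [Matrix.mul_assoc]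
      _ = 1 := by rw [hHHi, Matrix.mul_one, ← cj_mul, hWB, cj_one]
  have hone : (1 : Matrix (Fin n) (Fin n) ℂ) ⟨0, hn⟩ ⟨0, hn⟩ = 1 := Matrix.one_apply_eq _
  have hD : ∀ g, (C * cj C) * R g = R g * (C * cj C) := by
    intro g
    calc (C * cj C) * R g = C * cj (C * cj (R g)) := by rw [cj_mul, cj_cj, Matrix.mul_assoc]
      _ = C * cj (R g * C) := by rw [h5]
      _ = (C * cj (R g)) * cj C := by rw [cj_mul, Matrix.mul_assoc]
      _ = R g * (C * cj C) := by rw [h5, Matrix.mul_assoc]
  obtain ⟨lam, hlam⟩ := scalar_of_comm ρ hρ (C * cj C) hD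
  have hlam' : cj C * C = conj lam • (1 : Matrix (Fin n) (Fin n) ℂ) := by
    have := congrArg cj hlam
    rwa [cj_mul, cj_cj, cj_smul, cj_one] at this
  have hlamreal : conj lam = lam := by
    have h6 : conj lam • C = lam • C := by
      calc conj lam • C = C * (cj C * C) := by rw [hlam', Matrix.mul_smul, Matrix.mul_one]
        _ = (C * cj C) * C := by rw [Matrix.mul_assoc]
        _ = lam • C := by rw [hlam, Matrix.smul_mul, Matrix.one_mul]
    have h7 : conj lam • (1 : Matrix (Fin n) (Fin n) ℂ) = lam • 1 := by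
      rw [← hCCi, ← Matrix.smul_mul, h6, Matrix.smul_mul]
    have := congrFun (congrFun h7 ⟨0, hn⟩) ⟨0, hn⟩
    simpa [Matrix.smul_apply, hone] using this
  -- the positive definite matrix `M = Cᴴ H C = B C`
  have hCh : Cᴴ = B * Hi := by
    rw [hC, Matrix.conjTranspose_mul, hHih, conjTranspose_eq, cj_cj, hBt]
  have hM : Cᴴ * H * C = B * C := by
    calc Cᴴ * H * C = B * (Hi * H) * C := by rw [hCh]; simp only [Matrix.mul_assoc]
      _ = B * C := by rw [hHiH, Matrix.mul_one]
  have hMpd : (B * C).PosDef := by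
    rw [← hM]
    apply hHpd.conjTranspose_mul_mul_same
    intro v w hvw
    have h8 : (cj W * H) *ᵥ (C *ᵥ v) = (cj W * H) *ᵥ (C *ᵥ w) := by
      show (cj W * H) *ᵥ (C.mulVec v) = (cj W * H) *ᵥ (C.mulVec w)
      rw [hvw]
    rwa [Matrix.mulVec_mulVec, Matrix.mulVec_mulVec, hCiC, Matrix.one_mulVec,
      Matrix.one_mulVec] at h8
  have hcjM : cj (B * C) = lam • H := by
    calc cj (B * C) = (H * Hi) * (cj B * cj Hi * B) := by
          rw [hHHi, Matrix.one_mul, hC, cj_mul, cj_mul, cj_cj, Matrix.mul_assoc]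
      _ = H * (C * cj C) := by rw [hC, cj_mul, cj_cj]; simp only [Matrix.mul_assoc]
      _ = lam • H := by rw [hlam, Matrix.mul_smul, Matrix.mul_one]
  have hMeq : B * C = lam • Hᵀ := by
    have h9 : cj H = Hᵀ := by
      have := congrArg Matrix.transpose hHh
      rw [conjTranspose_eq, Matrix.transpose_transpose] at this
      exact this
    have := congrArg cj hcjM
    rwa [cj_cj, cj_smul, hlamreal, h9] at this
  have hlampos : 0 < lam.re := by
    have ha := hHpd.trace_pos
    have hb := hMpd.trace_pos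
    rw [hMeq, Matrix.trace_smul, Matrix.trace_transpose, smul_eq_mul] at hb
    rw [Complex.pos_iff] at ha hb
    have him : lam.im = 0 := by
      have := Complex.conj_eq_iff_im.mp hlamreal
      exact this
    have hre : (lam * H.trace).re = lam.re * H.trace.re := by
      rw [Complex.mul_re, him, zero_mul, sub_zero]
    rw [hre] at hb
    by_contra hcon
    push Not at hcon
    have := mul_nonpos_of_nonpos_of_nonneg hcon ha.1.le
    linarith [hb.1]
  have hlamre : (lam.re : ℂ) = lam := Complex.conj_eq_iff_re.mp hlamreal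
  -- normalisation
  set c : ℝ := (Real.sqrt lam.re)⁻¹ with hc
  have hsq : Real.sqrt lam.re * Real.sqrt lam.re = lam.re := Real.mul_self_sqrt hlampos.le
  have hsq0 : Real.sqrt lam.re ≠ 0 := (Real.sqrt_pos.mpr hlampos).ne'
  have hcc : ((c : ℂ) * conj (c : ℂ)) * lam = 1 := by
    rw [Complex.conj_ofReal, ← hlamre]
    have : c * c * lam.re = 1 := by
      rw [hc]
      field_simp
      rw [sq, hsq]
    exact_mod_cast this
  obtain ⟨C₁, hC₁⟩ : ∃ C₁, C₁ = (c : ℂ) • C := ⟨_, rfl⟩
  have hC₁1 : C₁ * cj C₁ = 1 := by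
    rw [hC₁, cj_smul, Matrix.smul_mul, Matrix.mul_smul, smul_smul, hlam, smul_smul,
      hcc, one_smul]
  have hC₁2 : cj C₁ * C₁ = 1 := by
    have := congrArg cj hC₁1
    rwa [cj_mul, cj_cj, cj_one] at this
  have hC₁R : ∀ g, C₁ * cj (R g) = R g * C₁ := by
    intro g
    rw [hC₁, Matrix.smul_mul, h5, Matrix.mul_smul]
  -- a unit of the form `C₁ + μ`
  obtain ⟨μ, hμ, hμT⟩ := exists_unit_avoiding (spectrum ℂ C₁) (Matrix.finite_spectrum C₁)
  rw [spectrum.notMem_iff] at hμT
  have hSu : IsUnit (C₁ + μ • (1 : Matrix (Fin n) (Fin n) ℂ)) := by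
    have h10 : C₁ + μ • (1 : Matrix (Fin n) (Fin n) ℂ) =
        -(algebraMap ℂ (Matrix (Fin n) (Fin n) ℂ) (-μ) - C₁) := by
      rw [Algebra.algebraMap_eq_smul_one, neg_smul]
      abel
    rw [h10]
    exact hμT.neg
  obtain ⟨S, hS⟩ : ∃ S, S = C₁ + μ • (1 : Matrix (Fin n) (Fin n) ℂ) := ⟨_, rfl⟩
  rw [← hS] at hSu
  obtain ⟨S', hSS', hS'S⟩ := exists_inv_of_isUnit hSu
  have hμ' : μ * conj μ = 1 := by rw [mul_comm]; exact hμ
  have hkey : C₁ * cj S = conj μ • S := by
    rw [hS, cj_add, cj_smul, cj_one, Matrix.mul_add, hC₁1, Matrix.mul_smul, Matrix.mul_one,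
      smul_add, smul_smul, hμ, one_smul, add_comm]
  have hcjS : cj S = conj μ • (cj C₁ * S) := by
    calc cj S = (cj C₁ * C₁) * cj S := by rw [hC₁2, Matrix.one_mul]
      _ = cj C₁ * (C₁ * cj S) := by rw [Matrix.mul_assoc]
      _ = conj μ • (cj C₁ * S) := by rw [hkey, Matrix.mul_smul]
  have hcjS' : cj S' = μ • (S' * C₁) := by
    have h11 : (μ • (S' * C₁)) * cj S = 1 := by
      rw [hcjS, Matrix.smul_mul, Matrix.mul_smul, smul_smul, hμ', one_smul]
      calc S' * C₁ * (cj C₁ * S) = S' * (C₁ * cj C₁) * S := by simp only [Matrix.mul_assoc]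
        _ = 1 := by rw [hC₁1, Matrix.mul_one, hS'S]
    have h12 : cj S * cj S' = 1 := by rw [← cj_mul, hSS', cj_one]
    calc cj S' = ((μ • (S' * C₁)) * cj S) * cj S' := by rw [h11, Matrix.one_mul]
      _ = (μ • (S' * C₁)) * (cj S * cj S') := by rw [Matrix.mul_assoc]
      _ = μ • (S' * C₁) := by rw [h12, Matrix.mul_one]
  refine ⟨S, S', hSS', hS'S, ?_⟩
  intro g
  rw [cj_mul, cj_mul, hcjS', hcjS, Matrix.smul_mul, Matrix.smul_mul, Matrix.mul_smul, smul_smul,
    hμ', one_smul]
  calc S' * C₁ * cj (R g) * (cj C₁ * S) = S' * (C₁ * cj (R g)) * cj C₁ * S := by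
        simp only [Matrix.mul_assoc]
    _ = S' * R g * (C₁ * cj C₁) * S := by rw [hC₁R]; simp only [Matrix.mul_assoc]
    _ = S' * R g * S := by rw [hC₁1, Matrix.mul_one]

end realform


/-- Let χ be an irreducible character of the finite group G. Then the Frobenius–Schur indicator of χ (the average over s ∈ G of χ(s²)) equals 1 if and only if χ is afforded by a real representation: there is a representation of G on a real coordinate space whose trace function, viewed in ℂ, is χ. -/
theorem result {G : Type*} [Group G] [Fintype G] (χ : Cfsg.IrrCharacter G) : ((Nat.card G : ℂ)⁻¹ * ∑ s : G, (χ : G → ℂ) (s * s)) = 1 ↔ ∃ (n : ℕ) (ρ : Representation ℝ G (Fin n → ℝ)), ∀ g : G, ((LinearMap.trace ℝ (Fin n → ℝ) (ρ g) : ℝ) : ℂ) = (χ : G → ℂ) g := by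
  classical
  obtain ⟨n, ρ, hρ, hchar⟩ := χ.2
  have htr : ∀ g, (repMat ρ g).trace = (χ : G → ℂ) g := fun g => by rw [trace_repMat, hchar]
  have hn : 0 < n := by
    obtain ⟨d, hd, hd1⟩ := irr_one_eq χ.2
    rcases Nat.eq_zero_or_pos n with h0 | h0
    · exfalso
      subst h0
      have h1 := htr 1
      rw [map_one, Matrix.trace_one, Fintype.card_fin, hd1] at h1
      have : (0 : ℕ) = d := by exact_mod_cast h1
      omega
    · exact h0
  show fsInd (χ : G → ℂ) = 1 ↔ _
  constructor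
  · intro hfs
    obtain ⟨W, hW0, hWt, hWinv⟩ := (fs_iff_symm (repMat ρ) χ.2 htr).mp hfs
    obtain ⟨S, S', hSS', hS'S, hreal⟩ := exists_real_form ρ hρ hn W hW0 hWt hWinv
    let Rr : G → Matrix (Fin n) (Fin n) ℝ := fun g => (S' * repMat ρ g * S).map Complex.re
    have hRr : ∀ g, (Rr g).map Complex.ofReal = S' * repMat ρ g * S := by
      intro g
      ext i j
      have := congrFun (congrFun (hreal g) i) j
      rw [cj_apply] at this
      simp only [Rr, Matrix.map_apply]
      exact Complex.conj_eq_iff_re.mp this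
    have hinj : ∀ A B : Matrix (Fin n) (Fin n) ℝ,
        A.map Complex.ofReal = B.map Complex.ofReal → A = B := by
      intro A B hAB
      ext i j
      have := congrFun (congrFun hAB i) j
      simpa using this
    have hmul : ∀ A B : Matrix (Fin n) (Fin n) ℝ,
        (A * B).map Complex.ofReal = A.map Complex.ofReal * B.map Complex.ofReal := by
      intro A B
      exact Matrix.map_mul (f := Complex.ofRealHom)
    have hone : (1 : Matrix (Fin n) (Fin n) ℝ).map Complex.ofReal = 1 := by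
      ext i j
      rw [Matrix.map_apply, Matrix.one_apply, Matrix.one_apply]
      split_ifs <;> simp
    have hRr1 : Rr 1 = 1 := by
      apply hinj
      rw [hRr, map_one, Matrix.mul_one, hS'S, hone]
    have hRrmul : ∀ g h, Rr (g * h) = Rr g * Rr h := by
      intro g h
      apply hinj
      rw [hmul, hRr, hRr, hRr, map_mul]
      calc S' * (repMat ρ g * repMat ρ h) * S
          = S' * repMat ρ g * 1 * (repMat ρ h * S) := by
            simp only [Matrix.mul_one, Matrix.mul_assoc]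
        _ = S' * repMat ρ g * S * (S' * repMat ρ h * S) := by
            rw [← hSS']; simp only [Matrix.mul_assoc]
    let ρr : Representation ℝ G (Fin n → ℝ) :=
      { toFun := fun g => Matrix.toLin' (Rr g)
        map_one' := by rw [hRr1, Matrix.toLin'_one]; rfl
        map_mul' := fun g h => by rw [hRrmul, Matrix.toLin'_mul]; rfl }
    refine ⟨n, ρr, fun g => ?_⟩
    show ((LinearMap.trace ℝ (Fin n → ℝ) (Matrix.toLin' (Rr g)) : ℝ) : ℂ) = _
    rw [Matrix.trace_toLin'_eq]
    have h1 : (((Rr g).trace : ℝ) : ℂ) = ((Rr g).map Complex.ofReal).trace := by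
      simp [Matrix.trace]
    rw [h1, hRr, Matrix.trace_mul_cycle, hSS', Matrix.one_mul, htr]
  · rintro ⟨m, ρr, h⟩
    exact fsInd_of_real χ.2 ρr h

end Cfsg.Agent.S4474
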