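import Mathlib
import Cfsg.Statements.S4478
import Cfsg.Agent.S0931
import Cfsg.Agent.Lib.Helper24.FrobeniusSchur
import Cfsg.Agent.Lib.Helper24.GlaubPGroup
import Cfsg.Agent.Lib.Helper24.CharIntegral
import Cfsg.Agent.Lib.Helper23.ClassConst

set_option autoImplicit false
set_option linter.style.haveILetI false
open Cfsg

namespace Cfsg.Agent.S4478

open Cfsg.Agent.Helper24 Cfsg.Agent.Helper23 Cfsg.Agent.Helper23.Blk
open scoped ComplexConjugate

universe u

section

variable {G : Type u} [Group G] [Fintype G]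

/-- a character whose degree contains the full `p`-part of the group order vanishes on the
`p`-singular elements -/
theorem vanish_of_good (χ : IrrCharacter G) {p : ℕ} (hp : p.Prime)
    (hdiv : p ^ (Nat.card G).factorization p ∣ charDegree (χ : G → ℂ)) (y : G)
    (hy : p ∣ orderOf y) : (χ : G → ℂ) y = 0 := by
  haveI : Fact p.Prime := ⟨hp⟩
  obtain ⟨M, hM⟩ := Cfsg.Agent.Helper24.Glaub.exists_isPModular hp
  apply Cfsg.Agent.S0931.eq_zero_of_defect_zero hM χ _ hy
  have hxG : charDegree (χ : G → ℂ) ∣ Nat.card G := charDegree_dvd_card χ.2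
  have hxpos : 0 < charDegree (χ : G → ℂ) := charDegree_pos χ.2
  have hG0 : Nat.card G ≠ 0 := Nat.card_pos.ne'
  set a := (Nat.card G).factorization p with ha
  set n' := Nat.card G / p ^ a with hn'
  have hGn : p ^ a * n' = Nat.card G := Nat.ordProj_mul_ordCompl_eq_self _ p
  have hpn : ¬ p ∣ n' := Nat.not_dvd_ordCompl hp hG0
  obtain ⟨x', hx'⟩ := hdiv
  intro hdvd
  apply hpn
  have hpa : 0 < p ^ a := pow_pos hp.pos a
  have hx'n : x' ∣ n' := by
    rw [hx', ← hGn] at hxG
    exact (Nat.mul_dvd_mul_iff_left hpa).mp hxG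
  have hx'pos : 0 < x' := by
    rcases Nat.eq_zero_or_pos x' with h | h
    · rw [h, mul_zero] at hx'; omega
    · exact h
  have hquot : Nat.card G / charDegree (χ : G → ℂ) = n' / x' := by
    rw [hx', ← hGn, Nat.mul_div_mul_left _ _ hpa]
  rw [hquot] at hdvd
  exact dvd_trans hdvd (Nat.div_dvd_of_dvd hx'n)

/-- primes dividing the order of the centralizer of an involution are good -/
theorem good_of_dvd_centralizer (χ : IrrCharacter G)
    (h2 : 2 ^ (Nat.card G).factorization 2 ∣ Cfsg.charDegree (χ : G → ℂ))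
    (hp : ∀ p : ℕ, p.Prime → p ≠ 2 → (∃ g : G, orderOf g = 2 * p) →
      p ^ (Nat.card G).factorization p ∣ Cfsg.charDegree (χ : G → ℂ))
    {s : G} (hs : orderOf s = 2) {p : ℕ} (hpp : p.Prime)
    (hdvd : p ∣ Nat.card (Subgroup.centralizer ({s} : Set G))) :
    p ^ (Nat.card G).factorization p ∣ Cfsg.charDegree (χ : G → ℂ) := by
  by_cases hp2 : p = 2
  · rw [hp2]; exact h2
  · apply hp p hpp hp2
    haveI : Fact p.Prime := ⟨hpp⟩
    obtain ⟨c, hc⟩ := exists_prime_orderOf_dvd_card' p hdvd
    have hc' : orderOf (c : G) = p := by rw [Subgroup.orderOf_coe]; exact hc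
    have hcomm : Commute s (c : G) := by
      have := Subgroup.mem_centralizer_singleton_iff.mp c.2
      exact this.symm
    refine ⟨s * (c : G), ?_⟩
    rw [hcomm.orderOf_mul_eq_mul_orderOf_of_coprime, hs, hc']
    rw [hs, hc']
    exact (Nat.coprime_primes Nat.prime_two hpp).mpr (Ne.symm hp2)

/-- the character vanishes on the nonidentity elements of the centralizer of an involution -/
theorem vanish_centralizer (χ : IrrCharacter G)
    (h2 : 2 ^ (Nat.card G).factorization 2 ∣ Cfsg.charDegree (χ : G → ℂ))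
    (hp : ∀ p : ℕ, p.Prime → p ≠ 2 → (∃ g : G, orderOf g = 2 * p) →
      p ^ (Nat.card G).factorization p ∣ Cfsg.charDegree (χ : G → ℂ))
    {s : G} (hs : orderOf s = 2) {c : G} (hc : c ∈ Subgroup.centralizer ({s} : Set G))
    (hc1 : c ≠ 1) : (χ : G → ℂ) c = 0 := by
  have ho : orderOf c ≠ 1 := by
    intro h
    exact hc1 (orderOf_eq_one_iff.mp h)
  obtain ⟨p, hpp, hpd⟩ := Nat.exists_prime_and_dvd ho
  have hdvd : p ∣ Nat.card (Subgroup.centralizer ({s} : Set G)) := by
    have := orderOf_dvd_natCard (⟨c, hc⟩ : Subgroup.centralizer ({s} : Set G))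
    rw [Subgroup.orderOf_mk] at this
    exact dvd_trans hpd this
  exact vanish_of_good χ hpp (good_of_dvd_centralizer χ h2 hp hs hpp hdvd) c hpd

/-- the order of the centralizer of an involution divides the degree -/
theorem card_centralizer_dvd (χ : IrrCharacter G)
    (h2 : 2 ^ (Nat.card G).factorization 2 ∣ Cfsg.charDegree (χ : G → ℂ))
    (hp : ∀ p : ℕ, p.Prime → p ≠ 2 → (∃ g : G, orderOf g = 2 * p) →
      p ^ (Nat.card G).factorization p ∣ Cfsg.charDegree (χ : G → ℂ))
    {s : G} (hs : orderOf s = 2) :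
    Nat.card (Subgroup.centralizer ({s} : Set G)) ∣ Cfsg.charDegree (χ : G → ℂ) := by
  classical
  haveI : Fintype (Subgroup.centralizer ({s} : Set G)) := Fintype.ofFinite _
  obtain ⟨m, hm⟩ := sum_char_subgroup' (χ : G → ℂ) (isCharacter_of_isIrrCharacter χ.2)
    (Subgroup.centralizer ({s} : Set G))
  have hsum : ∑ g : Subgroup.centralizer ({s} : Set G), (χ : G → ℂ) g = (χ : G → ℂ) 1 := by
    rw [Finset.sum_eq_single (1 : Subgroup.centralizer ({s} : Set G))]
    · rfl
    · intro c _ hc1
      exact vanish_centralizer χ h2 hp hs c.2 (fun h => hc1 (Subtype.ext h))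
    · intro h; exact absurd (Finset.mem_univ _) h
  rw [hsum, irr_one_eq_charDegree χ.2] at hm
  have : charDegree (χ : G → ℂ) = Nat.card (Subgroup.centralizer ({s} : Set G)) * m := by
    exact_mod_cast hm
  exact ⟨m, this⟩

/-- for `h` of odd order, `h ^ ((orderOf h + 1) / 2)` is a square root -/
theorem sqrt_odd {h : G} (hh : ¬ 2 ∣ orderOf h) :
    h ^ ((orderOf h + 1) / 2) * h ^ ((orderOf h + 1) / 2) = h := by
  have hodd : orderOf h % 2 = 1 := by omega
  have h2k : (orderOf h + 1) / 2 + (orderOf h + 1) / 2 = orderOf h + 1 := by omega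
  rw [← pow_add, h2k, pow_succ, pow_orderOf_eq_one, one_mul]

theorem orderOf_sq_odd {g : G} (hg : ¬ 2 ∣ orderOf g) : orderOf (g * g) = orderOf g := by
  rw [← pow_two]
  apply Nat.Coprime.orderOf_pow
  exact ((Nat.Prime.coprime_iff_not_dvd Nat.prime_two).mpr hg).symm

/-- the sum of `χ (g * g)` -/
theorem sum_sq (χ : IrrCharacter G) (hne : (χ : G → ℂ) ≠ fun _ => 1)
    (h2 : 2 ^ (Nat.card G).factorization 2 ∣ Cfsg.charDegree (χ : G → ℂ))
    (hp : ∀ p : ℕ, p.Prime → p ≠ 2 → (∃ g : G, orderOf g = 2 * p) →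
      p ^ (Nat.card G).factorization p ∣ Cfsg.charDegree (χ : G → ℂ)) :
    ∑ g : G, (χ : G → ℂ) (g * g) =
      ((Finset.univ.filter (fun g : G => orderOf g = 2)).card : ℂ) *
        (charDegree (χ : G → ℂ) : ℂ) := by
  classical
  have hcard : (Nat.card G : ℂ) ≠ 0 := by exact_mod_cast (Nat.card_pos (α := G)).ne'
  have hvan2 : ∀ g : G, 2 ∣ orderOf g → (χ : G → ℂ) g = 0 :=
    fun g hg => vanish_of_good χ Nat.prime_two h2 g hg
  -- the sum of all values vanishes
  have hall : ∑ g : G, (χ : G → ℂ) g = 0 := by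
    have h := irr_orthogonality χ.2 (isIrrCharacter_one (G := G))
    rw [if_neg hne] at h
    unfold classInner at h
    rcases mul_eq_zero.mp h with h | h
    · exact absurd (inv_eq_zero.mp h) hcard
    · simpa using h
  -- odd part
  have hoddsum : ∑ g ∈ Finset.univ.filter (fun g : G => ¬ 2 ∣ orderOf g), (χ : G → ℂ) g = 0 := by
    have := Finset.sum_filter_add_sum_filter_not Finset.univ (fun g : G => ¬ 2 ∣ orderOf g)
      (fun g => (χ : G → ℂ) g)
    rw [hall] at this
    have h0 : ∑ g ∈ Finset.univ.filter (fun g : G => ¬ ¬ 2 ∣ orderOf g), (χ : G → ℂ) g = 0 := by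
      apply Finset.sum_eq_zero
      intro g hg
      rw [Finset.mem_filter, not_not] at hg
      exact hvan2 g hg.2
    rw [h0, add_zero] at this
    exact this
  have hodd : ∑ g ∈ Finset.univ.filter (fun g : G => ¬ 2 ∣ orderOf g), (χ : G → ℂ) (g * g) = 0 := by
    rw [← hoddsum]
    have hi : ∀ g ∈ Finset.univ.filter (fun g : G => ¬ 2 ∣ orderOf g),
        g * g ∈ Finset.univ.filter (fun g : G => ¬ 2 ∣ orderOf g) := by
      intro g hg
      rw [Finset.mem_filter] at hg ⊢
      exact ⟨Finset.mem_univ _, by rw [orderOf_sq_odd hg.2]; exact hg.2⟩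
    have hj : ∀ h ∈ Finset.univ.filter (fun g : G => ¬ 2 ∣ orderOf g),
        h ^ ((orderOf h + 1) / 2) ∈ Finset.univ.filter (fun g : G => ¬ 2 ∣ orderOf g) := by
      intro h hh
      rw [Finset.mem_filter] at hh ⊢
      exact ⟨Finset.mem_univ _, fun hd => hh.2 (dvd_trans hd (orderOf_pow_dvd _))⟩
    have hl : ∀ g ∈ Finset.univ.filter (fun g : G => ¬ 2 ∣ orderOf g),
        (g * g) ^ ((orderOf (g * g) + 1) / 2) = g := by
      intro g hg
      rw [Finset.mem_filter] at hg
      have h1 := sqrt_odd hg.2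
      have hg2 : g * g = g ^ 2 := (pow_two g).symm
      rw [orderOf_sq_odd hg.2, hg2, ← pow_mul, mul_comm, pow_mul, pow_two]
      exact h1
    have hr : ∀ h ∈ Finset.univ.filter (fun g : G => ¬ 2 ∣ orderOf g),
        h ^ ((orderOf h + 1) / 2) * h ^ ((orderOf h + 1) / 2) = h := by
      intro h hh
      rw [Finset.mem_filter] at hh
      exact sqrt_odd hh.2
    exact Finset.sum_bij' (fun g _ => g * g) (fun h _ => h ^ ((orderOf h + 1) / 2)) hi hj hl hr
      (fun _ _ => rfl)
  -- even part
  have heven : ∑ g ∈ Finset.univ.filter (fun g : G => ¬ ¬ 2 ∣ orderOf g), (χ : G → ℂ) (g * g) =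
      ∑ g ∈ Finset.univ.filter (fun g : G => ¬ ¬ 2 ∣ orderOf g),
        if orderOf g = 2 then (charDegree (χ : G → ℂ) : ℂ) else 0 := by
    apply Finset.sum_congr rfl
    intro g hg
    rw [Finset.mem_filter, not_not] at hg
    by_cases hg2 : orderOf g = 2
    · rw [if_pos hg2]
      have : g * g = 1 := by rw [← pow_two, ← hg2, pow_orderOf_eq_one]
      rw [this, irr_one_eq_charDegree χ.2]
    · rw [if_neg hg2]
      obtain ⟨k, hk⟩ := hg.2
      have hk0 : k ≠ 0 := by
        rintro rfl
        have := orderOf_pos g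
        omega
      have hs : orderOf (g ^ k) = 2 := by
        rw [orderOf_pow_of_dvd hk0 ⟨2, by rw [hk]; ring⟩, hk]
        exact Nat.mul_div_cancel _ (Nat.pos_of_ne_zero hk0)
      apply vanish_centralizer χ h2 hp hs
      · rw [Subgroup.mem_centralizer_singleton_iff, ← pow_two, ← pow_add, ← pow_add, add_comm]
      · intro h1
        apply hg2
        have hg1 : g ≠ 1 := by
          rintro rfl
          rw [orderOf_one] at hk
          omega
        exact orderOf_eq_prime (by rw [pow_two]; exact h1) hg1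
  have hsplit := Finset.sum_filter_add_sum_filter_not Finset.univ (fun g : G => ¬ 2 ∣ orderOf g)
      (fun g => (χ : G → ℂ) (g * g))
  have hfilter : (Finset.univ.filter (fun g : G => ¬ ¬ 2 ∣ orderOf g)).filter
      (fun g => orderOf g = 2) = Finset.univ.filter (fun g : G => orderOf g = 2) := by
    ext g
    simp only [Finset.mem_filter, Finset.mem_univ, true_and, not_not]
    constructor
    · rintro ⟨-, h⟩; exact h
    · intro h; exact ⟨by rw [h], h⟩
  rw [← hsplit, hodd, heven, zero_add, ← Finset.sum_filter, hfilter, Finset.sum_const,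
    nsmul_eq_mul]

end

/-- Let G be a finite group of even order and χ an irreducible character of G whose degree x is divisible by the full power of 2 dividing the order of G and, for every odd prime p such that G has an element of order 2p, by the full power of p dividing the order of G. Then all involutions of G are conjugate, the centralizer of every involution has order exactly x with x coprime to its index, and the Frobenius–Schur indicator of χ equals 1. -/
theorem result {G : Type*} [Group G] [Fintype G] (heven : Even (Nat.card G)) (χ : Cfsg.IrrCharacter G) (h2 : 2 ^ (Nat.card G).factorization 2 ∣ Cfsg.charDegree (χ : G → ℂ)) (hp : ∀ p : ℕ, p.Prime → p ≠ 2 → (∃ g : G, orderOf g = 2 * p) → p ^ (Nat.card G).factorization p ∣ Cfsg.charDegree (χ : G → ℂ)) : (∀ s t : G, orderOf s = 2 → orderOf t = 2 → IsConj s t) ∧ (∀ s : G, orderOf s = 2 → Nat.card (Subgroup.centralizer ({s} : Set G)) = Cfsg.charDegree (χ : G → ℂ) ∧ (Nat.card (Subgroup.centralizer ({s} : Set G))).Coprime (Subgroup.centralizer ({s}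 : Set G)).index) ∧ (Nat.card G : ℂ)⁻¹ * ∑ g : G, (χ : G → ℂ) (g * g) = 1 := by
  classical
  have hG0 : Nat.card G ≠ 0 := Nat.card_pos.ne'
  have hcard : (Nat.card G : ℂ) ≠ 0 := by exact_mod_cast hG0
  have hxpos : 0 < charDegree (χ : G → ℂ) := charDegree_pos χ.2
  set x := charDegree (χ : G → ℂ) with hx
  -- `x` is even, so `χ` is not the principal character
  have h2G : 2 ∣ Nat.card G := even_iff_two_dvd.mp heven
  have ha : 1 ≤ (Nat.card G).factorization 2 :=
    (Nat.Prime.dvd_iff_one_le_factorization Nat.prime_two hG0).mp h2G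
  have hx2 : 2 ∣ x := dvd_trans (dvd_pow_self 2 (by omega)) h2
  have hne : (χ : G → ℂ) ≠ fun _ => 1 := by
    intro h
    have h1 : (χ : G → ℂ) 1 = 1 := by rw [h]
    rw [irr_one_eq_charDegree χ.2] at h1
    have : x = 1 := by exact_mod_cast h1
    omega
  have hsum := sum_sq χ hne h2 hp
  set Inv := Finset.univ.filter (fun g : G => orderOf g = 2) with hInv
  -- there is an involution
  obtain ⟨s₀, hs₀⟩ : ∃ s : G, orderOf s = 2 := by
    haveI : Fact (2 : ℕ).Prime := ⟨Nat.prime_two⟩
    exact exists_prime_orderOf_dvd_card' 2 h2G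
  have hInvpos : 0 < Inv.card := Finset.card_pos.mpr ⟨s₀, by rw [hInv, Finset.mem_filter]; exact ⟨Finset.mem_univ _, hs₀⟩⟩
  -- the indicator is `1`
  have hfs : fsInd (χ : G → ℂ) = (Nat.card G : ℂ)⁻¹ * ((Inv.card : ℂ) * (x : ℂ)) := by
    unfold fsInd
    rw [hsum]
  have hposr : (0 : ℝ) < (Nat.card G : ℝ)⁻¹ * ((Inv.card : ℝ) * (x : ℝ)) := by positivity
  have hfs1 : fsInd (χ : G → ℂ) = 1 := by
    rcases fsInd_cases χ.2 with ⟨-, h | h⟩ | ⟨-, h⟩
    · exact h
    · exfalso
      rw [hfs] at h
      have h' : (((Nat.card G : ℝ)⁻¹ * ((Inv.card : ℝ) * (x : ℝ)) : ℝ) : ℂ) = ((-1 : ℝ) : ℂ) := by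
        push_cast; exact h
      have := Complex.ofReal_injective h'
      linarith
    · exfalso
      rw [hfs] at h
      have h' : (((Nat.card G : ℝ)⁻¹ * ((Inv.card : ℝ) * (x : ℝ)) : ℝ) : ℂ) = ((0 : ℝ) : ℂ) := by
        push_cast; exact h
      have := Complex.ofReal_injective h'
      linarith
  have hGtx : Nat.card G = Inv.card * x := by
    rw [hfs] at hfs1
    have : ((Inv.card : ℂ) * (x : ℂ)) = (Nat.card G : ℂ) := by
      field_simp at hfs1
      exact hfs1
    exact_mod_cast this.symm
  -- classes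
  have hclass : ∀ s : G, orderOf s = 2 →
      Finset.univ.filter (IsConj s) = Inv ∧
        Nat.card (Subgroup.centralizer ({s} : Set G)) = x := by
    intro s hs
    have hdvd := card_centralizer_dvd χ h2 hp hs
    have hle : Nat.card (Subgroup.centralizer ({s} : Set G)) ≤ x := Nat.le_of_dvd hxpos hdvd
    have hsub : Finset.univ.filter (IsConj s) ⊆ Inv := by
      intro t ht
      rw [Finset.mem_filter] at ht
      rw [hInv, Finset.mem_filter]
      refine ⟨Finset.mem_univ _, ?_⟩
      obtain ⟨c, hc⟩ := isConj_iff.mp ht.2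
      rw [← hc]
      have := (MulAut.conj c).orderOf_eq s
      rw [MulAut.conj_apply] at this
      rw [this, hs]
    have hcle := Finset.card_le_card hsub
    have hccard := card_filter_isConj s
    have hidx := Subgroup.card_mul_index (Subgroup.centralizer ({s} : Set G))
    rw [← hccard, hGtx] at hidx
    have hcpos : 0 < Nat.card (Subgroup.centralizer ({s} : Set G)) := Nat.card_pos
    -- `c * a = t * x`, `c ≤ x`, `a ≤ t`
    have h1 : Nat.card (Subgroup.centralizer ({s} : Set G)) *
        (Finset.univ.filter (IsConj s)).card ≤ x * Inv.card := Nat.mul_le_mul hle hcle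
    have hceq : Nat.card (Subgroup.centralizer ({s} : Set G)) = x := by
      by_contra hne'
      have hlt : Nat.card (Subgroup.centralizer ({s} : Set G)) < x := lt_of_le_of_ne hle hne'
      have : Nat.card (Subgroup.centralizer ({s} : Set G)) *
          (Finset.univ.filter (IsConj s)).card < x * Inv.card := by
        calc Nat.card (Subgroup.centralizer ({s} : Set G)) *
            (Finset.univ.filter (IsConj s)).card
            ≤ Nat.card (Subgroup.centralizer ({s} : Set G)) * Inv.card :=
              Nat.mul_le_mul_left _ hcle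
          _ < x * Inv.card := Nat.mul_lt_mul_of_pos_right hlt hInvpos
      rw [hidx, mul_comm] at this
      exact lt_irrefl _ this
    refine ⟨?_, hceq⟩
    apply Finset.eq_of_subset_of_card_le hsub
    rw [hceq] at hidx
    have : x * (Finset.univ.filter (IsConj s)).card = x * Inv.card := by rw [hidx, mul_comm]
    exact (Nat.eq_of_mul_eq_mul_left hxpos this).symm.le
  refine ⟨?_, ?_, ?_⟩
  · intro s t hs ht
    have h1 := (hclass s hs).1
    have : t ∈ Finset.univ.filter (IsConj s) := by
      rw [h1, hInv, Finset.mem_filter]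
      exact ⟨Finset.mem_univ _, ht⟩
    exact (Finset.mem_filter.mp this).2
  · intro s hs
    obtain ⟨-, hc⟩ := hclass s hs
    refine ⟨hc, ?_⟩
    apply Nat.Coprime.symm
    apply Nat.coprime_of_dvd
    intro p hpp hpidx hpc
    have hgood := good_of_dvd_centralizer χ h2 hp hs hpp hpc
    have hidx := Subgroup.card_mul_index (Subgroup.centralizer ({s} : Set G))
    rw [hc] at hidx
    -- `p ^ a ∣ x` and `p ∣ index` give `p ^ (a+1) ∣ |G|`
    have : p ^ ((Nat.card G).factorization p + 1) ∣ Nat.card G := by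
      have h4 : p ^ (Nat.card G).factorization p * p ∣
          x * (Subgroup.centralizer ({s} : Set G)).index := Nat.mul_dvd_mul hgood hpidx
      rw [hidx] at h4
      rw [pow_succ]
      exact h4
    have h3 := (Nat.Prime.pow_dvd_iff_le_factorization hpp hG0).mp this
    omega
  · exact hfs1

end Cfsg.Agent.S4478
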