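import Mathlib
import Cfsg.Statements.S4480
import Cfsg.Agent.S4479
import Cfsg.Agent.S0948
import Cfsg.Agent.Lib.Helper7.BrOrd6

set_option autoImplicit false
set_option linter.style.haveILetI false
open Cfsg

namespace Cfsg.Agent.S4480

open Cfsg.Agent.Helper7 Cfsg.Agent.Helper24 Cfsg.Agent.Helper23 Cfsg.Agent.Helper23.Blk
open scoped ComplexConjugate

universe u

/-- sums over a principal block with four members -/
theorem block_sum_four {G : Type u} [Group G] (M : Ideal Cfsg.AlgInt)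
    (χ₁ χ₂ χ₃ : Cfsg.IrrCharacter G)
    (hB : Cfsg.principalBlock M G = {χ : Cfsg.IrrCharacter G | (χ : G → ℂ) = (fun _ => 1) ∨
      χ = χ₁ ∨ χ = χ₂ ∨ χ = χ₃})
    (hdist : (χ₁ : G → ℂ) ≠ (fun _ => 1) ∧ (χ₂ : G → ℂ) ≠ (fun _ => 1) ∧
      (χ₃ : G → ℂ) ≠ (fun _ => 1) ∧ χ₁ ≠ χ₂ ∧ χ₁ ≠ χ₃ ∧ χ₂ ≠ χ₃) (f : IrrCharacter G → ℂ) :
    ∑ᶠ χ ∈ principalBlock M G, f χ = f (principalChar G) + f χ₁ + f χ₂ + f χ₃ := by
  classical
  obtain ⟨hd1, hd2, hd3, h12, h13, h23⟩ := hdist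
  have hmem : ∀ χ : IrrCharacter G, χ ∈ principalBlock M G ↔
      ((χ : G → ℂ) = (fun _ => 1) ∨ χ = χ₁ ∨ χ = χ₂ ∨ χ = χ₃) := by
    intro χ; rw [hB]; rfl
  have hp1 : principalChar G ≠ χ₁ := fun h => hd1 (by rw [← h]; rfl)
  have hp2 : principalChar G ≠ χ₂ := fun h => hd2 (by rw [← h]; rfl)
  have hp3 : principalChar G ≠ χ₃ := fun h => hd3 (by rw [← h]; rfl)
  set B : Finset (IrrCharacter G) := {principalChar G, χ₁, χ₂, χ₃} with hBdef
  have hset : principalBlock M G = ↑B := by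
    ext χ
    rw [hmem, hBdef]
    simp only [Finset.coe_insert, Finset.coe_singleton, Set.mem_insert_iff,
      Set.mem_singleton_iff]
    constructor
    · rintro (h | h | h | h)
      · left; exact Subtype.ext h
      · right; left; exact h
      · right; right; left; exact h
      · right; right; right; exact h
    · rintro (h | h | h | h)
      · left; rw [h]; rfl
      · right; left; exact h
      · right; right; left; exact h
      · right; right; right; exact h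
  rw [hset, finsum_mem_coe_finset, hBdef, Finset.sum_insert, Finset.sum_insert,
    Finset.sum_insert, Finset.sum_singleton]
  · ring
  · simp only [Finset.mem_singleton]; exact h23
  · simp only [Finset.mem_insert, Finset.mem_singleton, not_or]; exact ⟨h12, h13⟩
  · simp only [Finset.mem_insert, Finset.mem_singleton, not_or]; exact ⟨hp1, hp2, hp3⟩

/-- the Frobenius–Schur relation in the principal block -/
theorem klein_block_fs {G : Type u} [Group G] [Fintype G] (M : Ideal Cfsg.AlgInt)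
    (hM : Cfsg.IsPModular 2 M) (P : Sylow 2 G) (hK : IsKleinFour (P : Subgroup G))
    (J : G) (hJ2 : orderOf J = 2)
    (χ₁ χ₂ χ₃ : Cfsg.IrrCharacter G) (ε₁ ε₂ ε₃ : ℤ)
    (hB : Cfsg.principalBlock M G = {χ : Cfsg.IrrCharacter G | (χ : G → ℂ) = (fun _ => 1) ∨
      χ = χ₁ ∨ χ = χ₂ ∨ χ = χ₃})
    (hdist : (χ₁ : G → ℂ) ≠ (fun _ => 1) ∧ (χ₂ : G → ℂ) ≠ (fun _ => 1) ∧
      (χ₃ : G → ℂ) ≠ (fun _ => 1) ∧ χ₁ ≠ χ₂ ∧ χ₁ ≠ χ₃ ∧ χ₂ ≠ χ₃)
    (hval : (χ₁ : G → ℂ) J = ε₁ ∧ (χ₂ : G → ℂ) J = ε₂ ∧ (χ₃ : G → ℂ) J = ε₃) :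
    1 + (ε₁ : ℂ) * fsInd (χ₁ : G → ℂ) + ε₂ * fsInd (χ₂ : G → ℂ) +
      ε₃ * fsInd (χ₃ : G → ℂ) = 0 := by
  classical
  haveI : Fact (2 : ℕ).Prime := ⟨Nat.prime_two⟩
  obtain ⟨hv1, hv2, hv3⟩ := hval
  have h1 : ∀ g : G, ((principalChar G : IrrCharacter G) : G → ℂ) g = 1 := fun _ => rfl
  have hcard : (Nat.card G : ℂ) ≠ 0 := by exact_mod_cast (Nat.card_pos (α := G)).ne'
  have hfs1 : fsInd ((principalChar G : IrrCharacter G) : G → ℂ) = 1 := by
    unfold fsInd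
    simp only [h1, Finset.sum_const, Finset.card_univ, nsmul_eq_mul, mul_one]
    rw [← Nat.card_eq_fintype_card, inv_mul_cancel₀ hcard]
  -- orthogonality
  have horth : ∀ x : G, ¬ 2 ∣ orderOf x →
      ((principalChar G : IrrCharacter G) : G → ℂ) J *
        conj (((principalChar G : IrrCharacter G) : G → ℂ) x) +
      (χ₁ : G → ℂ) J * conj ((χ₁ : G → ℂ) x) + (χ₂ : G → ℂ) J * conj ((χ₂ : G → ℂ) x) +
      (χ₃ : G → ℂ) J * conj ((χ₃ : G → ℂ) x) = 0 := by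
    intro x hx
    have hgx : IsPPart 2 J J :=
      ⟨1, mul_one J, Commute.one_right J, ⟨1, by rw [hJ2, pow_one]⟩, by
        rw [orderOf_one]; norm_num⟩
    have hhy : IsPPart 2 x 1 :=
      ⟨x, one_mul _, Commute.one_left _, ⟨0, by rw [orderOf_one, pow_zero]⟩, hx⟩
    have hnc : ¬ IsConj J 1 := by
      intro h
      rw [isConj_one_left] at h
      rw [h, orderOf_one] at hJ2
      omega
    have := block_orthogonality hM hgx hhy hnc (B := principalBlock M G)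
      ⟨principalChar G, rfl⟩
    rw [block_sum_four M χ₁ χ₂ χ₃ hB hdist] at this
    rw [← irr_inv (isCharacter_of_isIrrCharacter (principalChar G).2) x,
      ← irr_inv (isCharacter_of_isIrrCharacter χ₁.2) x,
      ← irr_inv (isCharacter_of_isIrrCharacter χ₂.2) x,
      ← irr_inv (isCharacter_of_isIrrCharacter χ₃.2) x]
    exact this
  -- expand the indicators
  have hexp : ∀ χ : IrrCharacter G, fsInd (χ : G → ℂ) =
      (Nat.card G : ℂ)⁻¹ * ∑ x : G, sqrtCount x * conj ((χ : G → ℂ) x) := by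
    intro χ
    rw [← classInner_sqrtCount χ.2]
    rfl
  have hmainsum : ((principalChar G : IrrCharacter G) : G → ℂ) J *
        fsInd ((principalChar G : IrrCharacter G) : G → ℂ) +
      (χ₁ : G → ℂ) J * fsInd (χ₁ : G → ℂ) + (χ₂ : G → ℂ) J * fsInd (χ₂ : G → ℂ) +
      (χ₃ : G → ℂ) J * fsInd (χ₃ : G → ℂ) = 0 := by
    rw [hexp, hexp, hexp, hexp]
    have : ∀ x : G, sqrtCount x * (((principalChar G : IrrCharacter G) : G → ℂ) J *
        conj (((principalChar G : IrrCharacter G) : G → ℂ) x) +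
      (χ₁ : G → ℂ) J * conj ((χ₁ : G → ℂ) x) + (χ₂ : G → ℂ) J * conj ((χ₂ : G → ℂ) x) +
      (χ₃ : G → ℂ) J * conj ((χ₃ : G → ℂ) x)) = 0 := by
      intro x
      by_cases hx : 2 ∣ orderOf x
      · rw [sqrtCount_eq_zero_of_klein P hK x hx, zero_mul]
      · rw [horth x hx, mul_zero]
    have h2 := Finset.sum_congr (s₁ := (Finset.univ : Finset G)) rfl (fun x _ => this x)
    rw [Finset.sum_const_zero] at h2
    rw [← mul_zero ((Nat.card G : ℂ)⁻¹), ← h2]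
    simp only [Finset.mul_sum, mul_add, Finset.sum_add_distrib]
    ring_nf
  rw [h1, hfs1, hv1, hv2, hv3] at hmainsum
  linear_combination hmainsum

/-- Same setting as the Klein-four order formula: G of order 4·g₀ (g₀ odd) with no normal 2-complement, P a Sylow 2-subgroup, J an involution of P, M over 2, principal 2-block {1, χ₁, χ₂, χ₃} with χ_i(J) = ε_i = ±1. Suppose ε₁ε₂ε₃ = −1 and ε₃ = −1, and put q = x₃ = χ₃(1). Then there is a natural number m with 4·c(J) = m·c(P)·(q + 1), and the order of G equals (m³·c(P)/4)·(q³ − q)/2, that is 8·#G = m³·c(P)·(q³ − q). -/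
theorem result {G : Type*} [Group G] [Finite G] (M : Ideal Cfsg.AlgInt) (hM : Cfsg.IsPModular 2 M) (g₀ : ℕ) (hg₀ : Odd g₀) (hG : Nat.card G = 4 * g₀) (hnc : ¬ ∃ N : Subgroup G, N.Normal ∧ Nat.card N = g₀) (P : Sylow 2 G) (J : G) (hJ : J ∈ (P : Subgroup G)) (hJ2 : orderOf J = 2) (χ₁ χ₂ χ₃ : Cfsg.IrrCharacter G) (ε₁ ε₂ ε₃ : ℤ) (hB : Cfsg.principalBlock M G = {χ : Cfsg.IrrCharacter G | (χ : G → ℂ) = (fun _ => 1) ∨ χ = χ₁ ∨ χ = χ₂ ∨ χ = χ₃}) (hdist : (χ₁ : G → ℂ) ≠ (fun _ => 1) ∧ (χ₂ : G → ℂ) ≠ (fun _ => 1) ∧ (χ₃ : G → ℂ) ≠ (fun _ => 1) ∧ χ₁ ≠ χ₂ ∧ χ₁ ≠ χ₃ ∧ χ₂ ≠ χ₃) (hε : (ε₁ = 1 ∨ ε₁ = -1) ∧ (ε₂ = 1 ∨ ε₂ = -1) ∧ (ε₃ = 1 ∨ ε₃ = -1)) (hval : (χ₁ : G → ℂ) J = ε₁ ∧ (χ₂ : G → ℂ) J = ε₂ ∧ (χ₃ : G → ℂ) J = ε₃) (hprod : ε₁ * ε₂ * ε₃ = -1) (hε₃ : ε₃ = -1) : ∃ m : ℕ, 4 * Nat.card (Subgroup.centralizer ({J} : Set G)) = m * Nat.card (Subgroup.centralizer ((P : Subgroup G) : Set G)) * (Cfsg.charDegree (χ₃ : G →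 ℂ) + 1) ∧ 8 * Nat.card G = m ^ 3 * Nat.card (Subgroup.centralizer ((P : Subgroup G) : Set G)) * (Cfsg.charDegree (χ₃ : G → ℂ) ^ 3 - Cfsg.charDegree (χ₃ : G → ℂ)) := by
  classical
  haveI : Fintype G := Fintype.ofFinite G
  haveI : Fact (2 : ℕ).Prime := ⟨Nat.prime_two⟩
  obtain ⟨hK, hone⟩ := klein_of_no_complement g₀ hg₀ hG hnc P
  obtain ⟨hdeg, hmain⟩ := Cfsg.Agent.S4479.klein_block_count M hM P hK hone J hJ hJ2 χ₁ χ₂ χ₃
    ε₁ ε₂ ε₃ hB hdist hε hval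
  have hT := klein_count_T P hK hone hJ hJ2
  have hfs := klein_block_fs M hM P hK J hJ2 χ₁ χ₂ χ₃ ε₁ ε₂ ε₃ hB hdist hval
  have hpos1 : 0 < Cfsg.charDegree (χ₁ : G → ℂ) := charDegree_pos χ₁.2
  have hpos2 : 0 < Cfsg.charDegree (χ₂ : G → ℂ) := charDegree_pos χ₂.2
  have hpos3 : 0 < Cfsg.charDegree (χ₃ : G → ℂ) := charDegree_pos χ₃.2
  have hx1 : (χ₁ : G → ℂ) 1 = (charDegree (χ₁ : G → ℂ) : ℂ) := irr_one_eq_charDegree χ₁.2
  have hx2 : (χ₂ : G → ℂ) 1 = (charDegree (χ₂ : G → ℂ) : ℂ) := irr_one_eq_charDegree χ₂.2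
  have hcJpos : 0 < Nat.card (Subgroup.centralizer ({J} : Set G)) := Nat.card_pos
  have hcPpos : 0 < Nat.card (Subgroup.centralizer ((P : Subgroup G) : Set G)) := Nat.card_pos
  have hGpos : 0 < Nat.card G := Nat.card_pos
  obtain ⟨hd1, hd2, hd3, h12, h13, h23⟩ := hdist
  obtain ⟨hv1, hv2, hv3⟩ := hval
  have hmem : ∀ χ : IrrCharacter G, χ ∈ principalBlock M G ↔
      ((χ : G → ℂ) = (fun _ => 1) ∨ χ = χ₁ ∨ χ = χ₂ ∨ χ = χ₃) := by
    intro χ; rw [hB]; rfl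
  have hχ₁ : χ₁ ∈ principalBlock M G := (hmem _).2 (Or.inr (Or.inl rfl))
  -- the signs
  have he12 : ε₁ = 1 ∧ ε₂ = 1 := by
    rw [hε₃] at hprod hdeg
    rcases hε.1 with h1 | h1 <;> rcases hε.2.1 with h2 | h2
    · exact ⟨h1, h2⟩
    · rw [h1, h2] at hprod; norm_num at hprod
    · rw [h1, h2] at hprod; norm_num at hprod
    · exfalso
      rw [h1, h2] at hdeg
      have : (0 : ℤ) < Cfsg.charDegree (χ₁ : G → ℂ) := by exact_mod_cast hpos1
      have : (0 : ℤ) < Cfsg.charDegree (χ₂ : G → ℂ) := by exact_mod_cast hpos2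
      have : (0 : ℤ) < Cfsg.charDegree (χ₃ : G → ℂ) := by exact_mod_cast hpos3
      linarith
  obtain ⟨he1, he2⟩ := he12
  subst he1 he2 hε₃
  -- parity of the degrees
  haveI : Fintype (P : Subgroup G) := Fintype.ofFinite _
  have hodd : ∀ χ : IrrCharacter G, (χ : G → ℂ) J = 1 → Odd (charDegree (χ : G → ℂ)) := by
    intro χ hχJ
    obtain ⟨m, hm⟩ := sum_char_subgroup' (χ : G → ℂ) (isCharacter_of_isIrrCharacter χ.2)
      (P : Subgroup G)
    rw [Cfsg.Agent.S0948.klein_sum_char P hK hone hJ2 (χ : G → ℂ)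
      (isClassFunction_of_isIrrCharacter χ.2), irr_one_eq_charDegree χ.2, hχJ,
      hK.card_four] at hm
    have h2 : charDegree (χ : G → ℂ) + 3 = 4 * m := by exact_mod_cast hm
    rw [Nat.odd_iff]
    omega
  have hodd1 : Odd (charDegree (χ₁ : G → ℂ)) := hodd χ₁ (by rw [hv1]; norm_num)
  have hodd2 : Odd (charDegree (χ₂ : G → ℂ)) := hodd χ₂ (by rw [hv2]; norm_num)
  -- indicators
  have hind : ∀ χ : IrrCharacter G, Odd (charDegree (χ : G → ℂ)) →
      fsInd (χ : G → ℂ) = 0 ∨ fsInd (χ : G → ℂ) = 1 := by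
    intro χ ho
    rcases fsInd_cases χ.2 with ⟨-, h | h⟩ | ⟨-, h⟩
    · exact Or.inr h
    · exfalso
      have := even_degree_of_fsInd_neg_one χ.2 h
      exact (Nat.not_even_iff_odd.mpr ho) this
    · exact Or.inl h
  have hν₁ : fsInd (χ₁ : G → ℂ) = 0 := by
    push_cast at hfs
    rcases hind χ₁ hodd1 with h1 | h1 <;> rcases hind χ₂ hodd2 with h2 | h2 <;>
      rcases fsInd_cases χ₃.2 with ⟨-, h3 | h3⟩ | ⟨-, h3⟩ <;> rw [h1, h2, h3] at hfs <;>
      first | exact h1 | (exfalso; norm_num at hfs)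
  -- `χ₁` is not real, so its conjugate is `χ₂`
  have hnreal : ¬ ∀ g, conj ((χ₁ : G → ℂ) g) = (χ₁ : G → ℂ) g := by
    intro h
    exact ((fsInd_ne_zero_iff χ₁.2).mpr h) hν₁
  have hstar : starIrr χ₁ = χ₂ := by
    rcases (hmem _).1 (starIrr_mem_principalBlock M χ₁ hχ₁) with h | h | h | h
    · exfalso
      apply hd1
      funext g
      have := congrFun h g
      rw [starIrr_apply] at this
      have h2 := congrArg conj this
      rw [Complex.conj_conj, map_one] at h2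
      exact h2
    · exfalso
      apply hnreal
      intro g
      have := congrArg (fun ψ : IrrCharacter G => (ψ : G → ℂ) g) h
      simpa [starIrr_apply] using this
    · exact h
    · exfalso
      have := congrArg (fun ψ : IrrCharacter G => (ψ : G → ℂ) J) h
      simp only [starIrr_apply, hv1, hv3] at this
      norm_num at this
  have hxeq : charDegree (χ₂ : G → ℂ) = charDegree (χ₁ : G → ℂ) := by
    have := congrArg (fun ψ : IrrCharacter G => (ψ : G → ℂ) 1) hstar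
    simp only [starIrr_apply, hx1, hx2, Complex.conj_natCast] at this
    exact_mod_cast this.symm
  -- arithmetic
  have hdvd1 := charDegree_dvd_index_of_val χ₁.2 J 1 (Or.inl rfl) hv1
  have hdvd3 := charDegree_dvd_index_of_val χ₃.2 J (-1) (Or.inr rfl) hv3
  have hidx := Subgroup.card_mul_index (Subgroup.centralizer ({J} : Set G))
  have hcPJ : Nat.card (Subgroup.centralizer ((P : Subgroup G) : Set G)) ∣
      Nat.card (Subgroup.centralizer ({J} : Set G)) := by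
    apply Subgroup.card_dvd_of_le
    apply Subgroup.centralizer_le
    intro y hy
    rw [Set.mem_singleton_iff] at hy
    rw [hy]
    exact hJ
  rw [hxeq] at hdeg hmain
  set x := Cfsg.charDegree (χ₁ : G → ℂ) with hx
  set q := Cfsg.charDegree (χ₃ : G → ℂ) with hq
  set cJ := Nat.card (Subgroup.centralizer ({J} : Set G)) with hcJ
  set cP := Nat.card (Subgroup.centralizer ((P : Subgroup G) : Set G)) with hcP
  set Tn := Set.ncard {t : G | orderOf t = 2 ∧ 2 ∣ orderOf (J * t)} with hTn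
  set K := (Subgroup.centralizer ({J} : Set G)).index with hKdef
  have hq2 : q = 2 * x + 1 := by
    have : (q : ℤ) = 2 * x + 1 := by linarith
    exact_mod_cast this
  have hcop : Nat.Coprime x q := by
    rw [hq2]
    have : Nat.Coprime x (x * 2 + 1) := by
      rw [Nat.coprime_mul_left_add_right]
      exact Nat.coprime_one_right x
    rwa [mul_comm] at this
  obtain ⟨K', hK'⟩ := Nat.Coprime.mul_dvd_of_dvd_of_dvd hcop hdvd1 hdvd3
  obtain ⟨k, hk⟩ := hcPJ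
  have hkpos : 0 < k := by
    rcases Nat.eq_zero_or_pos k with h | h
    · rw [h, mul_zero] at hk; omega
    · exact h
  have hT' : (Tn : ℤ) * (cP : ℤ) ^ 2 = 2 * (cJ : ℤ) ^ 2 := by exact_mod_cast hT
  -- `8 cJ³ x² q = 2 |G| cP² x (x+1)²`
  have hstarZ : 8 * (cJ : ℤ) ^ 3 * ((x : ℤ) * x * q) =
      (Nat.card G : ℤ) * (cP : ℤ) ^ 2 * (2 * (x : ℤ) * ((x : ℤ) + 1) ^ 2) := by
    have hq2' : (q : ℤ) = 2 * x + 1 := by exact_mod_cast hq2
    calc 8 * (cJ : ℤ) ^ 3 * ((x : ℤ) * x * q)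
        = (4 * (cJ : ℤ) * (2 * (cJ : ℤ) ^ 2)) * ((x : ℤ) * x * q) := by ring
      _ = (4 * (cJ : ℤ) * ((Tn : ℤ) * (cP : ℤ) ^ 2)) * ((x : ℤ) * x * q) := by rw [hT']
      _ = (4 * (cJ : ℤ) * (Tn : ℤ) * ((x : ℤ) * x * q)) * (cP : ℤ) ^ 2 := by ring
      _ = _ := by rw [hmain, hq2']; ring
  have hstarN : 8 * cJ ^ 3 * (x * x * q) = Nat.card G * cP ^ 2 * (2 * x * (x + 1) ^ 2) := by
    exact_mod_cast hstarZ
  -- `4 k² = K' (x+1)²`
  have hkey : 4 * k ^ 2 = K' * (x + 1) ^ 2 := by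
    have hG' : Nat.card G = cJ * K := hidx.symm
    rw [hG', hK', hk] at hstarN
    have hpos : 0 < 2 * cP ^ 3 * k * x ^ 2 * q := by positivity
    apply Nat.eq_of_mul_eq_mul_left hpos
    calc 2 * cP ^ 3 * k * x ^ 2 * q * (4 * k ^ 2) = 8 * (cP * k) ^ 3 * (x * x * q) := by ring
      _ = cP * k * (x * q * K') * cP ^ 2 * (2 * x * (x + 1) ^ 2) := hstarN
      _ = 2 * cP ^ 3 * k * x ^ 2 * q * (K' * (x + 1) ^ 2) := by ring
  have hdvd : (x + 1) ∣ 2 * k := by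
    rw [← Nat.pow_dvd_pow_iff (two_ne_zero)]
    refine ⟨K', ?_⟩
    calc (2 * k) ^ 2 = 4 * k ^ 2 := by ring
      _ = K' * (x + 1) ^ 2 := hkey
      _ = (x + 1) ^ 2 * K' := by ring
  obtain ⟨m, hm⟩ := hdvd
  have hK'm : K' = m ^ 2 := by
    have hpos : 0 < (x + 1) ^ 2 := by positivity
    apply Nat.eq_of_mul_eq_mul_left hpos
    calc (x + 1) ^ 2 * K' = 4 * k ^ 2 := by rw [hkey]; ring
      _ = (2 * k) ^ 2 := by ring
      _ = (x + 1) ^ 2 * m ^ 2 := by rw [hm]; ring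
  refine ⟨m, ?_, ?_⟩
  · rw [hk, hq2]
    calc 4 * (cP * k) = 2 * cP * (2 * k) := by ring
      _ = 2 * cP * ((x + 1) * m) := by rw [hm]
      _ = m * cP * (2 * x + 1 + 1) := by ring
  · have hq3 : q ^ 3 - q = 4 * x * (x + 1) * q := by
      apply Nat.sub_eq_of_eq_add
      rw [hq2]; ring
    rw [hq3, ← hidx, hK', hk, hK'm]
    calc 8 * (cP * k * (x * q * m ^ 2)) = 4 * cP * x * q * m ^ 2 * (2 * k) := by ring
      _ = 4 * cP * x * q * m ^ 2 * ((x + 1) * m) := by rw [hm]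
      _ = m ^ 3 * cP * (4 * x * (x + 1) * q) := by ring

end Cfsg.Agent.S4480
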