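import Mathlib
import Cfsg.Statements.S4494
import Cfsg.Agent.Lib.Helper23.BlockHeightZero

set_option autoImplicit false
open Cfsg Cfsg.Agent.Helper23.Blk Cfsg.Agent.Helper24 Cfsg.Agent.Helper18
open scoped ComplexConjugate

namespace Cfsg.Agent.S4494


theorem classInner_pReg_pReg {G : Type*} [Group G] [Fintype G] (p : ℕ) (φ ψ : G → ℂ) :
    classInner (pRegularPart p φ) (pRegularPart p ψ) = classInner (pRegularPart p φ) ψ := by
  classical
  unfold classInner
  congr 1
  refine Finset.sum_congr rfl fun g _ => ?_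
  rw [pRegularPart_apply, pRegularPart_apply]
  split_ifs
  · rw [zero_mul, zero_mul]
  · rfl

theorem final_arith (k : ℕ) (P m : ℤ) (h : (k : ℤ) - 1 + m ^ 2 ≤ P * m) :
    4 * (k : ℤ) ≤ P ^ 2 + 4 := by
  nlinarith [sq_nonneg (P - 2 * m)]

/-- The Brauer–Feit bound. Let B be a p-block of the finite group G (relative to a maximal ideal M of the algebraic integers containing p) and let d be its defect. Then the number k(B) of irreducible characters in B satisfies k(B) ≤ p^(2d)/4 + 1, stated here as 4·k(B) ≤ p^(2d) + 4. -/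
theorem result {G : Type*} [Group G] [Finite G] (p : ℕ) [Fact p.Prime] (M : Ideal Cfsg.AlgInt) (hM : Cfsg.IsPModular p M) (B : Set (Cfsg.IrrCharacter G)) (hB : Cfsg.IsPBlock M B) : 4 * Nat.card B ≤ p ^ (2 * Cfsg.blockDefect p B) + 4 := by
  classical
  haveI hMp : M.IsPrime := hM.2.1.isPrime
  letI : Fintype G := Fintype.ofFinite G
  letI : Fintype (IrrCharacter G) := irrFintype
  have hp : p.Prime := hM.1
  have hne : B.Nonempty := by
    obtain ⟨χ₀, rfl⟩ := hB
    exact ⟨χ₀, sameBlock_refl _⟩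
  obtain ⟨χ, hχ, hmin⟩ := exists_min_degree (p := p) hne
  set a := (Nat.card G).factorization p with ha
  set e := (charDegree (χ : G → ℂ)).factorization p with he
  have hea : e ≤ a := by
    have hdvd := charDegree_dvd_card χ.2
    have hG0 : Nat.card G ≠ 0 := (Nat.card_pos (α := G)).ne'
    exact (Nat.factorization_le_iff_dvd (by
      intro h0
      rw [h0, zero_dvd_iff] at hdvd
      exact hG0 hdvd) hG0).2 hdvd p
  have hd : blockDefect p B = a - e := by
    unfold blockDefect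
    congr 1
    apply le_antisymm
    · exact Nat.sInf_le ⟨χ, hχ, rfl⟩
    · have hne' : ((fun ψ : IrrCharacter G => (charDegree (ψ : G → ℂ)).factorization p) '' B).Nonempty :=
        ⟨_, χ, hχ, rfl⟩
      obtain ⟨ψ, hψ, hψe⟩ := Nat.sInf_mem hne'
      rw [← hψe]
      exact hmin ψ hψ
  have h0 : blockHeight p B (χ : G → ℂ) = 0 := (blockHeight_eq_zero_iff hχ).2 hmin
  choose n hn hdχ hdμ hform using fun μ => exists_int_tilde (p := p) χ μ
  -- nonvanishing on the block
  have hn0 : ∀ μ ∈ B, n μ ≠ 0 := by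
    intro μ hμ
    have hu := ((height_zero_criterion hM hB hχ).2.1 h0) μ hμ
    have hJ : ¬ MemLocalIdeal M ((n μ : ℂ) / (μ : G → ℂ) 1) :=
      fun h => hu ((heightUnit_iff hM χ μ (hform μ)).1 h)
    have hd0 : charDegree (μ : G → ℂ) ≠ 0 := by
      intro h0'
      have := irr_one_ne_zero μ.2
      rw [irr_one_eq_charDegree μ.2, h0'] at this
      exact this (by simp)
    rw [irr_one_eq_charDegree μ.2] at hJ
    exact ((not_memLocalIdeal_intCast_div_iff hM hd0 (hdμ μ)).1 hJ).1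
  -- vanishing off the block
  have hnz : ∀ μ, μ ∉ B → n μ = 0 := by
    intro μ hμ
    have h1 : classInner (pRegularPart p (χ : G → ℂ)) (μ : G → ℂ) = 0 :=
      classInner_pRegularPart_eq_zero p hM
        (fun g => memLocalRing_blockCoeff hMp hB g) hχ hμ
    have h2 := hn μ
    rw [classInner_smul_left, h1, mul_zero] at h2
    exact_mod_cast h2.symm
  -- Parseval
  have hcf : IsClassFunction G (((p ^ a : ℕ) : ℂ) • pRegularPart p (χ : G → ℂ)) := by
    intro g h
    rw [Pi.smul_apply, Pi.smul_apply,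
      isClassFunction_pRegularPart p (isClassFunction_of_isIrrCharacter χ.2) g h]
  have hpars : ∑ μ : IrrCharacter G, (n μ) ^ 2 = ((p ^ a : ℕ) : ℤ) * n χ := by
    have h1 := classInner_eq_sum_mul hcf (((p ^ a : ℕ) : ℂ) • pRegularPart p (χ : G → ℂ))
    have h2 : classInner (((p ^ a : ℕ) : ℂ) • pRegularPart p (χ : G → ℂ))
        (((p ^ a : ℕ) : ℂ) • pRegularPart p (χ : G → ℂ)) = ((p ^ a : ℕ) : ℂ) * (n χ : ℂ) := by
      rw [← hn χ, classInner_smul_right, Complex.conj_natCast, classInner_smul_left,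
        classInner_smul_left, classInner_pReg_pReg]
    rw [h2] at h1
    have h4 : ∀ μ : IrrCharacter G, classInner (((p ^ a : ℕ) : ℂ) • pRegularPart p (χ : G → ℂ))
        (μ : G → ℂ) * conj (classInner (((p ^ a : ℕ) : ℂ) • pRegularPart p (χ : G → ℂ))
        (μ : G → ℂ)) = ((n μ) ^ 2 : ℤ) := by
      intro μ
      rw [hn μ, map_intCast]
      push_cast
      ring
    rw [Finset.sum_congr rfl (fun μ _ => h4 μ)] at h1
    have h3 : ((((p ^ a : ℕ) : ℤ) * n χ : ℤ) : ℂ) = ((∑ μ : IrrCharacter G, (n μ) ^ 2 : ℤ) : ℂ) := by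
      rw [Int.cast_sum, ← h1]
      push_cast
      ring
    exact_mod_cast h3.symm
  -- pass to the quotients by `p ^ e`
  have hpe0 : ((p ^ e : ℕ) : ℤ) ≠ 0 := by
    have : p ^ e ≠ 0 := pow_ne_zero _ hp.ne_zero
    exact_mod_cast this
  choose m hm using hdχ
  have hm0 : ∀ μ ∈ B, m μ ≠ 0 := by
    intro μ hμ h
    apply hn0 μ hμ
    rw [hm μ, h, mul_zero]
  have hmz : ∀ μ, μ ∉ B → m μ = 0 := by
    intro μ hμ
    have := hnz μ hμ
    rw [hm μ] at this
    rcases mul_eq_zero.1 this with h | h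
    · exact absurd h hpe0
    · exact h
  have hpa : ((p ^ a : ℕ) : ℤ) = ((p ^ e : ℕ) : ℤ) * ((p ^ (a - e) : ℕ) : ℤ) := by
    rw [← Nat.cast_mul, ← pow_add, Nat.add_sub_cancel' hea]
  have hsum : ∑ μ : IrrCharacter G, (m μ) ^ 2 = ((p ^ (a - e) : ℕ) : ℤ) * m χ := by
    have h1 : ((p ^ e : ℕ) : ℤ) ^ 2 * ∑ μ : IrrCharacter G, (m μ) ^ 2 =
        ((p ^ e : ℕ) : ℤ) ^ 2 * (((p ^ (a - e) : ℕ) : ℤ) * m χ) := by
      rw [Finset.mul_sum]
      calc ∑ μ : IrrCharacter G, ((p ^ e : ℕ) : ℤ) ^ 2 * (m μ) ^ 2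
          = ∑ μ : IrrCharacter G, (n μ) ^ 2 := by
            refine Finset.sum_congr rfl fun μ _ => ?_
            rw [hm μ]
            ring
        _ = ((p ^ a : ℕ) : ℤ) * n χ := hpars
        _ = ((p ^ e : ℕ) : ℤ) ^ 2 * (((p ^ (a - e) : ℕ) : ℤ) * m χ) := by
            rw [hpa, hm χ]
            ring
    exact mul_left_cancel₀ (pow_ne_zero 2 hpe0) h1
  -- lower bound for the sum
  have hlow : (Nat.card B : ℤ) - 1 + (m χ) ^ 2 ≤ ∑ μ : IrrCharacter G, (m μ) ^ 2 := by
    have hcard : Nat.card B = B.toFinset.card := by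
      rw [Nat.card_eq_fintype_card, Set.toFinset_card]
    have hsub : ∑ μ : IrrCharacter G, (m μ) ^ 2 = ∑ μ ∈ B.toFinset, (m μ) ^ 2 := by
      symm
      apply Finset.sum_subset (Finset.subset_univ _)
      intro μ _ hμ
      rw [Set.mem_toFinset] at hμ
      rw [hmz μ hμ]
      ring
    rw [hsub, hcard]
    have hχm : χ ∈ B.toFinset := Set.mem_toFinset.2 hχ
    rw [← Finset.add_sum_erase _ _ hχm]
    have h1 : ((B.toFinset.erase χ).card : ℤ) ≤ ∑ μ ∈ B.toFinset.erase χ, (m μ) ^ 2 := by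
      have : ∑ μ ∈ B.toFinset.erase χ, (1 : ℤ) ≤ ∑ μ ∈ B.toFinset.erase χ, (m μ) ^ 2 := by
        apply Finset.sum_le_sum
        intro μ hμ
        have hμB : μ ∈ B := Set.mem_toFinset.1 (Finset.mem_of_mem_erase hμ)
        have := hm0 μ hμB
        have h2 : 0 < (m μ) ^ 2 := by positivity
        linarith
      simpa using this
    rw [Finset.card_erase_of_mem hχm] at h1
    have hpos : 1 ≤ B.toFinset.card := Finset.card_pos.2 ⟨χ, hχm⟩
    rw [Nat.cast_sub hpos] at h1
    push_cast at h1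
    linarith
  rw [hsum] at hlow
  have hfin := final_arith (Nat.card B) (((p ^ (a - e) : ℕ) : ℤ)) (m χ) hlow
  rw [hd]
  have : ((4 * Nat.card B : ℕ) : ℤ) ≤ ((p ^ (2 * (a - e)) + 4 : ℕ) : ℤ) := by
    push_cast
    push_cast at hfin
    rw [pow_mul']
    exact hfin
  exact_mod_cast this

end Cfsg.Agent.S4494
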