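import Mathlib
import Cfsg.Statements.S4483
import Cfsg.Agent.Lib.Helper23.BlockReal
import Cfsg.Agent.S4494

set_option autoImplicit false
open Cfsg Cfsg.Agent.Helper23.Blk Cfsg.Agent.Helper24 Cfsg.Agent.Helper18
open scoped ComplexConjugate

namespace Cfsg.Agent.S4483

/-- Let G be a finite group of order 2^n·g₀ with g₀ odd, and M a maximal ideal of the algebraic integers containing 2. Every real-valued irreducible character of G of odd degree lies in the principal 2-block; consequently G has at most 2^(2n) real-valued irreducible characters of odd degree. -/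
theorem result {G : Type*} [Group G] [Finite G] (M : Ideal Cfsg.AlgInt) (hM : Cfsg.IsPModular 2 M) : (∀ χ : Cfsg.IrrCharacter G, (∀ g : G, ((χ : G → ℂ) g).im = 0) → Odd (Cfsg.charDegree (χ : G → ℂ)) → χ ∈ Cfsg.principalBlock M G) ∧ Nat.card {χ : Cfsg.IrrCharacter G // (∀ g : G, ((χ : G → ℂ) g).im = 0) ∧ Odd (Cfsg.charDegree (χ : G → ℂ))} ≤ 2 ^ (2 * (Nat.card G).factorization 2) := by
  classical
  haveI hMp : M.IsPrime := hM.2.1.isPrime
  letI : Fintype G := Fintype.ofFinite G
  letI : Fintype (IrrCharacter G) := irrFintype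
  haveI : Fact (Nat.Prime 2) := ⟨Nat.prime_two⟩
  have hfirst : ∀ χ : Cfsg.IrrCharacter G, (∀ g : G, ((χ : G → ℂ) g).im = 0) →
      Odd (Cfsg.charDegree (χ : G → ℂ)) → χ ∈ Cfsg.principalBlock M G := by
    intro χ hreal hodd
    set B := blockOf M (χ : G → ℂ) with hBdef
    have hB : IsPBlock M B := ⟨χ, rfl⟩
    have hχB : χ ∈ B := mem_blockOf_self χ
    have hdef : blockDefect 2 B = (Nat.card G).factorization 2 := by
      unfold blockDefect
      have h0 : sInf ((fun χ : IrrCharacter G => (charDegree (χ : G → ℂ)).factorization 2) '' B)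
          = 0 := by
        apply Nat.eq_zero_of_le_zero
        apply Nat.sInf_le
        refine ⟨χ, hχB, ?_⟩
        show (charDegree (χ : G → ℂ)).factorization 2 = 0
        apply Nat.factorization_eq_zero_of_not_dvd
        intro h2
        exact (Nat.not_even_iff_odd.2 hodd) (even_iff_two_dvd.2 h2)
      rw [h0, Nat.sub_zero]
    have hχconj : starIrr χ = χ := by
      apply Subtype.ext
      funext g
      rw [starIrr_apply]
      exact Complex.conj_eq_iff_im.2 (hreal g)
    have hconj : ∀ ξ ∈ B, starIrr ξ ∈ B := by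
      intro ξ hξ
      have h1 : SameBlock M (χ : G → ℂ) (ξ : G → ℂ) := hξ
      have h2 := sameBlock_starIrr h1
      rw [hχconj] at h2
      exact h2
    obtain ⟨hk, hk₂, hstab⟩ := conj_stable B hconj
    have h3 := eq_principalBlock_of_mem hB
      (principalChar_mem_of_stable hM _ hk (fun g _ => hk₂ g) hB hdef hstab)
    rw [← h3]
    exact hχB
  refine ⟨hfirst, ?_⟩
  -- the count
  have hB0 : IsPBlock M (principalBlock M G) := ⟨principalChar G, rfl⟩
  have hBF := Cfsg.Agent.S4494.result 2 M hM (principalBlock M G) hB0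
  have hdle : blockDefect 2 (principalBlock M G) ≤ (Nat.card G).factorization 2 := by
    unfold blockDefect
    exact Nat.sub_le _ _
  have hle : Nat.card {χ : Cfsg.IrrCharacter G // (∀ g : G, ((χ : G → ℂ) g).im = 0) ∧
      Odd (Cfsg.charDegree (χ : G → ℂ))} ≤ Nat.card (principalBlock M G) := by
    haveI : Finite (↥(principalBlock M G)) := Subtype.finite
    set f : {χ : Cfsg.IrrCharacter G // (∀ g : G, ((χ : G → ℂ) g).im = 0) ∧
      Odd (Cfsg.charDegree (χ : G → ℂ))} → ↥(principalBlock M G) :=
      fun χ => ⟨χ.1, hfirst χ.1 χ.2.1 χ.2.2⟩ with hf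
    have hfinj : Function.Injective f := by
      intro χ₁ χ₂ h
      apply Subtype.ext
      have := congrArg Subtype.val h
      exact this
    exact Nat.card_le_card_of_injective f hfinj
  have hpow : 2 ^ (2 * blockDefect 2 (principalBlock M G)) ≤
      2 ^ (2 * (Nat.card G).factorization 2) :=
    Nat.pow_le_pow_right (by norm_num) (by omega)
  have hpos : 1 ≤ 2 ^ (2 * blockDefect 2 (principalBlock M G)) := Nat.one_le_two_pow
  set k := Nat.card (principalBlock M G) with hk
  set X := 2 ^ (2 * blockDefect 2 (principalBlock M G)) with hX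
  -- `4 k ≤ X + 4`, `X` a power of `4`
  have hX4 : X = 1 ∨ 4 ≤ X := by
    rcases Nat.eq_zero_or_pos (blockDefect 2 (principalBlock M G)) with h0 | h0
    · left
      rw [hX, h0]
      rfl
    · right
      rw [hX]
      calc 4 = 2 ^ 2 := by norm_num
        _ ≤ 2 ^ (2 * blockDefect 2 (principalBlock M G)) :=
          Nat.pow_le_pow_right (by norm_num) (by omega)
  have hkX : k ≤ X := by
    rcases hX4 with h1 | h4
    · rw [h1] at hBF ⊢
      omega
    · omega
  exact hle.trans (hkX.trans hpow)

end Cfsg.Agent.S4483
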