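import Mathlib
import Cfsg.Statements.S4490
import Cfsg.Agent.Lib.Helper23.BlockReal

set_option autoImplicit false
open Cfsg Cfsg.Agent.Helper23.Blk Cfsg.Agent.Helper24 Cfsg.Agent.Helper18
open scoped ComplexConjugate

namespace Cfsg.Agent.S4490

/-- Let G be a finite group and M a maximal ideal of the algebraic integers containing 2. Every 2-block B of G whose defect groups are the Sylow 2-subgroups of G (a block of full defect) and which is not the principal block is different from its complex-conjugate block, the block formed by the complex conjugates of the members of B. -/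
theorem result {G : Type*} [Group G] [Finite G] (M : Ideal Cfsg.AlgInt) (hM : Cfsg.IsPModular 2 M) (B : Set (Cfsg.IrrCharacter G)) (hB : Cfsg.IsPBlock M B) (P : Sylow 2 G) (hfull : Cfsg.IsDefectGroup 2 M B (P : Subgroup G)) (hnp : B ≠ Cfsg.principalBlock M G) : {ψ : Cfsg.IrrCharacter G | ∃ χ ∈ B, (ψ : G → ℂ) = fun g => (starRingEnd ℂ) ((χ : G → ℂ) g)} ≠ B := by
  classical
  haveI hMp : M.IsPrime := hM.2.1.isPrime
  letI : Fintype G := Fintype.ofFinite G
  letI : Fintype (IrrCharacter G) := irrFintype
  haveI : Fact (Nat.Prime 2) := ⟨Nat.prime_two⟩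
  intro hEq
  apply hnp
  have hdef : blockDefect 2 B = (Nat.card G).factorization 2 := by
    have h1 := card_defectGroup hM hB hfull
    have h2 : Nat.card (P : Subgroup G) = 2 ^ (Nat.card G).factorization 2 :=
      P.card_eq_multiplicity
    rw [h2] at h1
    exact (Nat.pow_right_injective (le_refl 2) h1).symm
  have hconj : ∀ χ ∈ B, starIrr χ ∈ B := by
    intro χ hχ
    rw [← hEq]
    exact ⟨χ, hχ, rfl⟩
  obtain ⟨hk, hk₂, hstab⟩ := conj_stable B hconj
  exact eq_principalBlock_of_mem hB
    (principalChar_mem_of_stable hM _ hk (fun g _ => hk₂ g) hB hdef hstab)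

end Cfsg.Agent.S4490
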