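import Cfsg.Agent.Lib.Helper22.SelfCentStruct
import Cfsg.Statements.S4495
-- import your own Cfsg.Agent.* helpers here

set_option autoImplicit false
open Cfsg

namespace Cfsg.Agent.S4495


/-- Let the finite group G contain an element x of prime order p with C_G(x) = ⟨x⟩, and let t be the number of conjugacy classes of elements of order p. If t ≠ p − 1 then the commutator subgroup has index at most (p − 1)/t; if t = p − 1 it has index exactly p. -/
theorem result {G : Type*} [Group G] [Finite G] (p : ℕ) (hp : p.Prime) (x : G) (hx : orderOf x = p) (hC : Subgroup.centralizer ({x} : Set G) = Subgroup.zpowers x) (t : ℕ) (ht : Nat.card {C : ConjClasses G // ∃ g ∈ C.carrier, orderOf g = p} = t) : (t ≠ p - 1 → (commutator G).index * t ≤ p - 1) ∧ (t = p - 1 → (commutator G).index = p) := by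
  have : Fact p.Prime := ⟨hp⟩
  constructor
  · intro hne
    obtain ⟨n, hn, hnx⟩ := Cfsg.Agent.Helper22.exists_normalizer_not_commute hx hC (ht ▸ hne)
    have hxM := Cfsg.Agent.Helper22.mem_commutator_of_not_commute hx n hn hnx
    have hdvd := Cfsg.Agent.Helper22.index_commutator_dvd_relIndex hx hC hxM
    have hcount := Cfsg.Agent.Helper22.card_classes_mul_relIndex hx hC
    rw [ht] at hcount
    have hpos : 0 < (Subgroup.zpowers x).relIndex (Subgroup.normalizer (Subgroup.zpowers x : Set G)) := by
      apply Nat.pos_of_ne_zero
      intro h0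
      rw [h0, mul_zero] at hcount
      have := hp.two_le
      omega
    have hle := Nat.le_of_dvd hpos hdvd
    calc (commutator G).index * t ≤ (Subgroup.zpowers x).relIndex (Subgroup.normalizer (Subgroup.zpowers x : Set G)) * t :=
          Nat.mul_le_mul_right t hle
      _ = p - 1 := by rw [mul_comm]; exact hcount
  · intro heq
    have hN := Cfsg.Agent.Helper22.normalizer_le_of_card_classes hx hC (ht ▸ heq)
    exact (Cfsg.Agent.Helper22.commutator_eq_pPrimeCore_of_normalizer_le hx hC hN).2

end Cfsg.Agent.S4495
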