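import Mathlib
import Cfsg.Statements.S4498
import Cfsg.Agent.Lib.Helper23.BlockOrtho
import Cfsg.Agent.Lib.Helper23.BlockDefect

set_option autoImplicit false
open Cfsg

namespace Cfsg.Agent.S4498

open Cfsg.Agent.Helper24 Cfsg.Agent.Helper23.Blk
open scoped ComplexConjugate

theorem result {G : Type*} [Group G] [Finite G] (p q : ℕ) [Fact p.Prime] [Fact q.Prime] (hpq : p ≠ q) (hp : p ∣ Nat.card G) (hq : q ∣ Nat.card G) (hno : ∀ g : G, orderOf g ≠ p * q) (Mp Mq : Ideal Cfsg.AlgInt) (hMp : Cfsg.IsPModular p Mp) (hMq : Cfsg.IsPModular q Mq) : ∃ χ : Cfsg.IrrCharacter G, (χ : G → ℂ) ≠ (fun _ => 1) ∧ χ ∈ Cfsg.principalBlock Mp G ∧ χ ∈ Cfsg.principalBlock Mq G := by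
  classical
  haveI : Fintype G := Fintype.ofFinite G
  letI : Fintype (IrrCharacter G) := irrFintype
  have hpp : p.Prime := Fact.out
  have hqp : q.Prime := Fact.out
  haveI hMpP : Mp.IsPrime := isPrime_of_isPModular hMp
  haveI hMqP : Mq.IsPrime := isPrime_of_isPModular hMq
  obtain ⟨x, hx⟩ := exists_prime_orderOf_dvd_card' p hp
  obtain ⟨y, hy⟩ := exists_prime_orderOf_dvd_card' q hq
  by_contra hcon
  push Not at hcon
  obtain ⟨Bp, hBp⟩ : ∃ Bp : Set (IrrCharacter G), Bp = principalBlock Mp G := ⟨_, rfl⟩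
  obtain ⟨Bq, hBq⟩ : ∃ Bq : Set (IrrCharacter G), Bq = principalBlock Mq G := ⟨_, rfl⟩
  rw [← hBp, ← hBq] at hcon
  have h1p : principalChar G ∈ Bp := by
    rw [hBp]
    exact principalChar_mem_principalBlock
  have h1q : principalChar G ∈ Bq := by
    rw [hBq]
    exact principalChar_mem_principalBlock
  have hBpB : IsPBlock Mp Bp := by
    rw [hBp]
    exact isPBlock_principalBlock
  have hBqB : IsPBlock Mq Bq := by
    rw [hBq]
    exact isPBlock_principalBlock
  obtain ⟨c, hc⟩ : ∃ c : IrrCharacter G → ℂ,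
      c = fun χ => if χ ∈ Bp then conj ((χ : G → ℂ) x) else 0 := ⟨_, rfl⟩
  obtain ⟨θ, hθ⟩ : ∃ θ : G → ℂ, θ = ∑ χ : IrrCharacter G, c χ • (χ : G → ℂ) := ⟨_, rfl⟩
  have hθapply : ∀ g : G, θ g = ∑ χ : IrrCharacter G, c χ * (χ : G → ℂ) g := by
    intro g
    rw [hθ, Finset.sum_apply]
    refine Finset.sum_congr rfl fun χ _ => ?_
    rw [Pi.smul_apply, smul_eq_mul]
  have hA : ∀ g : G, ¬ p ∣ orderOf g → θ g = 0 := by
    intro g hg
    have h1 := weak_block_orthogonality hMp hBpB (x := g) (y := x) hg (by rw [hx])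
    rw [finsum_mem_def, finsum_eq_sum_of_fintype] at h1
    rw [hθapply, ← h1]
    refine Finset.sum_congr rfl fun χ _ => ?_
    rw [hc]
    by_cases h : χ ∈ Bp
    · rw [Set.indicator_of_mem h]
      simp only [if_pos h]
      ring
    · rw [Set.indicator_of_notMem h]
      simp only [if_neg h]
      ring
  have hB : ∀ g : G, q ∣ orderOf g → ¬ p ∣ orderOf g := by
    intro g hqg hpg
    have hpq' : p * q ∣ orderOf g :=
      Nat.Coprime.mul_dvd_of_dvd_of_dvd ((Nat.coprime_primes hpp hqp).mpr hpq) hpg hqg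
    obtain ⟨k, hk⟩ := hpq'
    have hog : orderOf g ≠ 0 := (orderOf_pos g).ne'
    have hk0 : k ≠ 0 := by
      rintro rfl
      rw [mul_zero] at hk
      exact hog hk
    apply hno (g ^ k)
    rw [orderOf_pow_of_dvd hk0 ⟨p * q, by rw [hk]; ring⟩, hk,
      Nat.mul_div_cancel _ (Nat.pos_of_ne_zero hk0)]
  have hC : ∀ χ : IrrCharacter G, classInner θ (χ : G → ℂ) = c χ := by
    intro χ
    rw [hθ, classInner_sum_left]
    simp only [classInner_smul_left, irr_orthogonality']
    simp
  have hT0 : ∑ χ : IrrCharacter G, (if χ ∈ Bq then c χ * (χ : G → ℂ) y else 0) = 0 := by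
    have h1 : ∀ χ : IrrCharacter G, (if χ ∈ Bq then c χ * (χ : G → ℂ) y else 0) =
        (Nat.card G : ℂ)⁻¹ * ∑ g : G, θ g *
          (if χ ∈ Bq then conj ((χ : G → ℂ) g) * (χ : G → ℂ) y else 0) := by
      intro χ
      by_cases h : χ ∈ Bq
      · simp only [if_pos h]
        rw [← hC χ]
        unfold classInner
        rw [mul_assoc, Finset.sum_mul]
        congr 1
        refine Finset.sum_congr rfl fun g _ => ?_
        ring
      · simp only [if_neg h]
        simp
    simp only [h1]
    rw [← Finset.mul_sum, Finset.sum_comm]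
    have h2 : ∀ g : G, ∑ χ : IrrCharacter G, θ g *
        (if χ ∈ Bq then conj ((χ : G → ℂ) g) * (χ : G → ℂ) y else 0) = 0 := by
      intro g
      rw [← Finset.mul_sum]
      by_cases hg : q ∣ orderOf g
      · rw [hA g (hB g hg), zero_mul]
      · have h3 := weak_block_orthogonality hMq hBqB (x := g) (y := y) hg (by rw [hy])
        rw [finsum_mem_def, finsum_eq_sum_of_fintype] at h3
        have h4 : ∑ χ : IrrCharacter G,
            (if χ ∈ Bq then conj ((χ : G → ℂ) g) * (χ : G → ℂ) y else 0) =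
            conj (∑ χ : IrrCharacter G, Set.indicator Bq
              (fun χ : IrrCharacter G => (χ : G → ℂ) g * conj ((χ : G → ℂ) y)) χ) := by
          rw [map_sum]
          refine Finset.sum_congr rfl fun χ _ => ?_
          by_cases h : χ ∈ Bq
          · rw [Set.indicator_of_mem h, if_pos h, map_mul, Complex.conj_conj]
          · rw [Set.indicator_of_notMem h, if_neg h, map_zero]
        rw [h4, h3, map_zero, mul_zero]
    rw [Finset.sum_congr rfl (fun g _ => h2 g)]
    simp
  have hT1 : ∑ χ : IrrCharacter G, (if χ ∈ Bq then c χ * (χ : G → ℂ) y else 0) = 1 := by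
    rw [Finset.sum_eq_single (principalChar G)]
    · rw [if_pos h1q, hc]
      simp only [if_pos h1p]
      simp [principalChar]
    · intro χ _ hne
      by_cases h : χ ∈ Bq
      · rw [if_pos h]
        have hnot : χ ∉ Bp := by
          intro hp'
          have hne' : (χ : G → ℂ) ≠ fun _ => 1 := fun h' => hne (Subtype.ext h')
          exact hcon χ hne' hp' h
        rw [hc]
        simp only [if_neg hnot]
        ring
      · rw [if_neg h]
    · intro h
      exact absurd (Finset.mem_univ _) h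
  rw [hT0] at hT1
  exact zero_ne_one hT1

end Cfsg.Agent.S4498
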