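import Mathlib
import Cfsg.Statements.S4505
import Cfsg.Agent.Lib.Helper23.BlockCount

set_option autoImplicit false
open Cfsg Cfsg.Agent.Helper23.Blk

namespace Cfsg.Agent.S4505

/-- Let G be a finite group, p a prime and M a maximal ideal of the algebraic integers containing p. For every σ, the number of p-blocks of defect exactly σ is at most the number of conjugacy classes of p-regular elements whose centralizer has order divisible by p^σ but not by p^(σ+1). -/
theorem result {G : Type*} [Group G] [Finite G] (p : ℕ) [Fact p.Prime] (M : Ideal Cfsg.AlgInt) (hM : Cfsg.IsPModular p M) (σ : ℕ) : Nat.card {B : Set (Cfsg.IrrCharacter G) // Cfsg.IsPBlock M B ∧ Cfsg.blockDefect p B = σ} ≤ Nat.card {C : ConjClasses G // ∃ g : G, ConjClasses.mk g = C ∧ ¬ p ∣ orderOf g ∧ (Nat.card (Subgroup.centralizer ({g} : Set G))).factorization p = σ} := by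
  haveI : Fintype G := Fintype.ofFinite G
  haveI hMp : M.IsPrime := hM.2.1.isPrime
  have hp : p.Prime := hM.1
  have key := card_blocks_le_card_classes hM
    {B : Set (IrrCharacter G) | IsPBlock M B ∧ blockDefect p B = σ} (fun B hB => hB.1) (p ^ σ)
    (fun B hB => by rw [hB.2])
    {C : ConjClasses G | ∃ g : G, ConjClasses.mk g = C ∧ ¬ p ∣ orderOf g ∧
      (Nat.card (Subgroup.centralizer ({g} : Set G))).factorization p = σ}
    (by
      intro B hB x hx hnot
      have hreg : ¬ p ∣ orderOf x := by
        intro hs
        apply hx
        rw [blockCoeff_eq_zero_of_pSingular hM hB.1 hs]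
        exact memLocalIdeal_zero ne_top
      have hle := factorization_card_centralizer_le_of_support hM hB.1 hx
      rw [hB.2] at hle
      have hne : (Nat.card (Subgroup.centralizer ({x} : Set G))).factorization p ≠ σ :=
        fun h => hnot ⟨x, rfl, hreg, h⟩
      exact Nat.pow_lt_pow_right hp.one_lt (lt_of_le_of_ne hle hne))
  exact key

end Cfsg.Agent.S4505
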