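import Mathlib
import Cfsg.Statements.S4506
import Cfsg.Agent.Lib.Helper18.PConjCount

set_option autoImplicit false
open Cfsg

namespace Cfsg.Agent.S4506

/-- Let G be a finite group, p a prime, p^a the p-part of the order of G and g′ its p′-part. Call two irreducible characters p-conjugate when one is obtained from the other by applying a field automorphism of ℂ that fixes the g′-th roots of unity, and let r be the number of characters p-conjugate to the irreducible character χ (χ included). Then the exponent of p in r·χ(1) is at most a; and if p^a divides r·χ(1) then p^a already divides χ(1). -/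
theorem result {G : Type*} [Group G] [Finite G] (p : ℕ) (hp : p.Prime) (χ : Cfsg.IrrCharacter G) (r : ℕ) (hr : Nat.card {ψ : Cfsg.IrrCharacter G // ∃ σ : ℂ ≃+* ℂ, σ (Complex.exp (2 * Real.pi * Complex.I / ((Nat.card G / p ^ (Nat.card G).factorization p) : ℕ))) = Complex.exp (2 * Real.pi * Complex.I / ((Nat.card G / p ^ (Nat.card G).factorization p) : ℕ)) ∧ (ψ : G → ℂ) = fun g => σ ((χ : G → ℂ) g)} = r) : (r * Cfsg.charDegree (χ : G → ℂ)).factorization p ≤ (Nat.card G).factorization p ∧ (p ^ (Nat.card G).factorization p ∣ r * Cfsg.charDegree (χ : G → ℂ) → p ^ (Nat.card G).factorization p ∣ Cfsg.charDegree (χ : G → ℂ)) := by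
  classical
  haveI : Fintype G := Fintype.ofFinite G
  letI : Fintype (Cfsg.IrrCharacter G) := Cfsg.Agent.Helper24.irrFintype
  haveI : Fact p.Prime := ⟨hp⟩
  obtain ⟨m, hm⟩ : ∃ m : ℕ, m = Nat.card G / p ^ (Nat.card G).factorization p := ⟨_, rfl⟩
  rw [← hm] at hr
  have hmpos : 0 < m := by
    rw [hm]
    exact Nat.div_pos (Nat.le_of_dvd Nat.card_pos (Nat.ordProj_dvd _ _)) (pow_pos hp.pos _)
  have hcard : Nat.card G = p ^ (Nat.card G).factorization p * m := by
    rw [hm]
    exact (Nat.mul_div_cancel' (Nat.ordProj_dvd _ _)).symm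
  have hζ : IsPrimitiveRoot (Complex.exp (2 * Real.pi * Complex.I / (m : ℂ))) m :=
    Complex.isPrimitiveRoot_exp m hmpos.ne'
  have hreg : ∀ g : G, ¬ p ∣ orderOf g → g ^ m = 1 := by
    intro g hg
    apply orderOf_dvd_iff_pow_eq_one.1
    have h1 : orderOf g ∣ p ^ (Nat.card G).factorization p * m := by
      rw [← hcard]
      exact orderOf_dvd_natCard g
    have h2 : Nat.Coprime (orderOf g) (p ^ (Nat.card G).factorization p) :=
      Nat.Coprime.pow_right _ ((Nat.Prime.coprime_iff_not_dvd hp).2 hg).symm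
    exact h2.dvd_of_dvd_mul_left h1
  obtain ⟨S, hSdef⟩ : ∃ S : Finset (Cfsg.IrrCharacter G), S = Finset.univ.filter
      (fun ψ : Cfsg.IrrCharacter G => ∃ σ : ℂ ≃+* ℂ,
        σ (Complex.exp (2 * Real.pi * Complex.I / (m : ℂ))) =
          Complex.exp (2 * Real.pi * Complex.I / (m : ℂ)) ∧
        (ψ : G → ℂ) = fun g => σ ((χ : G → ℂ) g)) := ⟨_, rfl⟩
  have hrS : r = S.card := by
    rw [← hr, Nat.card_eq_fintype_card, Fintype.card_subtype, hSdef]
  have hχS : χ ∈ S := by
    rw [hSdef, Finset.mem_filter]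
    exact ⟨Finset.mem_univ _, RingEquiv.refl ℂ, rfl, rfl⟩
  have hS : ∀ ψ ∈ S, ∃ σ : ℂ ≃+* ℂ,
      (∀ g : G, ¬ p ∣ orderOf g → σ ((χ : G → ℂ) g) = (χ : G → ℂ) g) ∧
      (ψ : G → ℂ) = fun g => σ ((χ : G → ℂ) g) := by
    intro ψ hψ
    rw [hSdef, Finset.mem_filter] at hψ
    obtain ⟨-, σ, hσ, hψσ⟩ := hψ
    refine ⟨σ, ?_, hψσ⟩
    intro g hg
    exact Cfsg.Agent.Helper18.PConj.map_char_eq_of_pow_eq_one
      (Cfsg.Agent.Helper24.isCharacter_of_isIrrCharacter χ.2) σ hmpos hζ hσ (hreg g hg)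
  rw [hrS]
  exact Cfsg.Agent.Helper18.PConj.main p χ S hχS hS

end Cfsg.Agent.S4506
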