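import Mathlib
import Cfsg.Statements.S4507
import Cfsg.Agent.Lib.Helper5.TLDRich

set_option autoImplicit false
open Cfsg

namespace Cfsg.Agent.S4507

/-- Let G be a finite group whose order g is divisible by the prime p exactly once, g′ = g/p, and fix a maximal ideal M of the algebraic integers containing p. Call two irreducible characters p-conjugate when a field automorphism of ℂ fixing the g′-th roots of unity carries one to the other. Let B be a p-block of positive defect (its defect group is a Sylow p-subgroup). Then B contains a subset Y (the exceptional family) such that: Y is a full p-conjugacy class (its members are pairwise p-conjugate and every p-conjugate of a member of Y lies in Y); every member of B outside Y is p-conjugate only to itself; the size t of Y divides p − 1 and B has exactly t + (p − 1)/t members; and there are signs δ_χ = ±1 (χ ∈ B) such that for every p-regular element x and every θ ∈ Y, Σ_{χ ∈ B ∖ Y} δ_χ χ(x) + δ_θ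 θ(x) = 0. -/
theorem result {G : Type*} [Group G] [Finite G] (p : ℕ) [Fact p.Prime] (M : Ideal Cfsg.AlgInt) (hM : Cfsg.IsPModular p M) (hdiv : p ∣ Nat.card G) (hsq : ¬ p ^ 2 ∣ Nat.card G) (B : Set (Cfsg.IrrCharacter G)) (hB : Cfsg.IsPBlock M B) (hd : 0 < Cfsg.blockDefect p B) : ∃ Y : Set (Cfsg.IrrCharacter G), Y ⊆ B ∧ Y.Nonempty ∧ (∀ θ ∈ Y, ∀ ψ : Cfsg.IrrCharacter G, (∃ σ : ℂ ≃+* ℂ, σ (Complex.exp (2 * Real.pi * Complex.I / ((Nat.card G / p ^ (Nat.card G).factorization p) : ℕ))) = Complex.exp (2 * Real.pi * Complex.I / ((Nat.card G / p ^ (Nat.card G).factorization p) : ℕ)) ∧ (ψ : G → ℂ) = fun g => σ ((θ : G → ℂ) g)) ↔ ψ ∈ Y) ∧ (∀ χ ∈ B, χ ∉ Y → ∀ ψ : Cfsg.IrrCharacter G, (∃ σ : ℂ ≃+* ℂ, σ (Complex.exp (2 * Real.pi * Complex.I / ((Nat.card G / p ^ (Nat.card G).factorization p) : ℕ))) = Complex.exp (2 * Real.pi * Complex.I / ((Nat.card G / p ^ (Nat.card G).factorization p) : ℕ)) ∧ (ψ : G → ℂ) = fun g => σ ((χ : G → ℂ) g)) → ψ = χ) ∧ Nat.card Y ∣ p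 - 1 ∧ Nat.card B = Nat.card Y + (p - 1) / Nat.card Y ∧ ∃ δ : Cfsg.IrrCharacter G → ℤ, (∀ χ ∈ B, δ χ = 1 ∨ δ χ = -1) ∧ ∀ x : G, ¬ p ∣ orderOf x → ∀ θ ∈ Y, (∑ᶠ χ ∈ B \ Y, (δ χ : ℂ) * (χ : G → ℂ) x) + (δ θ : ℂ) * (θ : G → ℂ) x = 0 := by
  classical
  have hpp : p.Prime := Fact.out
  haveI : Fintype G := Fintype.ofFinite G
  obtain ⟨P, hP, hBP, b, θ, hind, hθ, hθP⟩ :=
    Cfsg.Agent.Helper5.TLG.exists_root p M hM hdiv hsq B hB hd
  obtain ⟨T, hT⟩ := Cfsg.Agent.Helper5.TLG.exists_stab p P θ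
  obtain ⟨hed, Xs, Y, s, ε, hmem, hdisj, hXs, hY, hs, hε, hrel, hgal, hgal'⟩ :=
    Cfsg.Agent.Helper5.TLG.main_rich p M hM P hP B hB hBP b hind θ hθ hθP T hT _ rfl
  set e := (Subgroup.centralizer ((P : Subgroup G) : Set G)).relIndex T with he
  have hp1 : 0 < p - 1 := by have := hpp.two_le; omega
  have he0 : 0 < e := Nat.pos_of_dvd_of_pos hed hp1
  have hm0 : 0 < Nat.card G / p ^ (Nat.card G).factorization p :=
    Nat.ordCompl_pos p Nat.card_pos.ne'
  have hζ := Complex.isPrimitiveRoot_exp (Nat.card G / p ^ (Nat.card G).factorization p) hm0.ne'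
  have hYpos : 0 < Y.card := by
    rw [hY]
    exact Nat.div_pos (Nat.le_of_dvd hp1 hed) he0
  have hcY : Nat.card (Y : Set (Cfsg.IrrCharacter G)) = (p - 1) / e := by
    rw [Nat.card_coe_set_eq, Set.ncard_coe_finset, hY]
  have hBeq : B = (Xs : Set (Cfsg.IrrCharacter G)) ∪ (Y : Set (Cfsg.IrrCharacter G)) := by
    ext χ
    rw [Set.mem_union, Finset.mem_coe, Finset.mem_coe]
    exact hmem χ
  have hdiff : B \ (Y : Set (Cfsg.IrrCharacter G)) = (Xs : Set (Cfsg.IrrCharacter G)) := by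
    ext χ
    rw [Set.mem_diff, Finset.mem_coe, Finset.mem_coe, hmem]
    constructor
    · rintro ⟨h1 | h1, h2⟩
      · exact h1
      · exact absurd h1 h2
    · intro h
      exact ⟨Or.inl h, fun h2 => Finset.disjoint_left.1 hdisj h h2⟩
  refine ⟨(Y : Set (Cfsg.IrrCharacter G)), ?_, ?_, ?_, ?_, ?_, ?_, ?_⟩
  · intro χ hχ
    exact (hmem χ).2 (Or.inr (Finset.mem_coe.1 hχ))
  · exact Finset.coe_nonempty.2 (Finset.card_pos.1 hYpos)
  · intro η hη ψ
    have hη' : η ∈ Y := Finset.mem_coe.1 hη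
    constructor
    · rintro ⟨σ, hσ, hψ⟩
      obtain ⟨η', hη'Y, hval⟩ := (hgal σ _ hζ hσ).2 η hη'
      have : ψ = η' := by
        apply Subtype.ext
        rw [hψ]
        funext g
        exact hval g
      rw [this]
      exact Finset.mem_coe.2 hη'Y
    · intro hψ
      obtain ⟨σ, hσ, hval⟩ := hgal' η hη' ψ (Finset.mem_coe.1 hψ)
      refine ⟨σ, hσ _ hζ.pow_eq_one, ?_⟩
      funext g
      exact (hval g).symm
  · intro χ hχ hχY ψ
    rintro ⟨σ, hσ, hψ⟩
    have hχXs : χ ∈ Xs := by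
      rcases (hmem χ).1 hχ with h | h
      · exact h
      · exact absurd (Finset.mem_coe.2 h) hχY
    apply Subtype.ext
    rw [hψ]
    funext g
    exact (hgal σ _ hζ hσ).1 χ hχXs g
  · rw [hcY]
    exact Nat.div_dvd_of_dvd hed
  · rw [hcY, hBeq, Nat.card_coe_set_eq, ← Finset.coe_union, Set.ncard_coe_finset,
      Finset.card_union_of_disjoint hdisj, hXs, hY, Nat.div_div_self hed hp1.ne', add_comm]
  · refine ⟨fun χ => if χ ∈ Y then ε else s χ, ?_, ?_⟩
    · intro χ hχ
      by_cases h : χ ∈ Y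
      · simp only [if_pos h]
        exact hε
      · simp only [if_neg h]
        rcases (hmem χ).1 hχ with h' | h'
        · exact hs χ h'
        · exact absurd h' h
    · intro x hx η hη
      have hη' : η ∈ Y := Finset.mem_coe.1 hη
      rw [hdiff, finsum_mem_coe_finset]
      simp only [if_pos hη']
      have h1 : ∑ χ ∈ Xs, (((if χ ∈ Y then ε else s χ : ℤ)) : ℂ) * (χ : G → ℂ) x =
          ∑ χ ∈ Xs, (s χ : ℂ) * (χ : G → ℂ) x := by
        refine Finset.sum_congr rfl fun χ hχ => ?_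
        rw [if_neg (fun h2 => Finset.disjoint_left.1 hdisj hχ h2)]
      rw [h1]
      linear_combination hrel x hx η hη'

end Cfsg.Agent.S4507
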