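import Mathlib
import Cfsg.Statements.S4508
import Cfsg.Agent.Lib.Helper5.Pm1E
import Cfsg.Agent.Lib.Helper5.Pm1F

set_option autoImplicit false
open Cfsg

namespace Cfsg.Agent.S4508

open Cfsg.Agent.Helper24 Cfsg.Agent.Helper5 Cfsg.Agent.Helper5.Pm1

/-- Let the finite group G contain an element x of prime order p with C_G(x) = ⟨x⟩, and let t be the number of conjugacy classes of elements of order p. If G has an irreducible character of degree p − 1, then t is even or the commutator subgroup has even index. -/
theorem result {G : Type*} [Group G] [Finite G] (p : ℕ) (hp : p.Prime) (x : G) (hx : orderOf x = p) (hC : Subgroup.centralizer ({x} : Set G) = Subgroup.zpowers x) (t : ℕ) (ht : Nat.card {C : ConjClasses G // ∃ g ∈ C.carrier, orderOf g = p} = t) (χ : Cfsg.IrrCharacter G) (hχ : Cfsg.charDegree (χ : G → ℂ) + 1 = p) : Even t ∨ Even (commutator G).index := by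
  classical
  letI : Fintype G := Fintype.ofFinite G
  set P := Subgroup.zpowers x with hP
  have hcard : Nat.card P = p := by rw [hP, Nat.card_zpowers, hx]
  have hcent : Subgroup.centralizer (P : Set G) ≤ P := by
    have h1 : Subgroup.centralizer (P : Set G) ≤ Subgroup.centralizer ({x} : Set G) := by
      apply Subgroup.centralizer_le
      intro y hy
      rw [Set.mem_singleton_iff] at hy
      rw [hy]
      exact Subgroup.mem_zpowers x
    rw [hC] at h1
    exact h1
  by_cases hp2 : p = 2
  · right
    exact even_index_of_two P (hp2 ▸ hcard) hcent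
  by_cases hte : Even t
  · exact Or.inl hte
  right
  have htodd : Odd t := Nat.not_even_iff_odd.mp hte
  set e := (P.subgroupOf (Subgroup.normalizer (P : Set G))).index with he
  have hidx : (P.subgroupOf (Subgroup.normalizer (P : Set G))).index = e := rfl
  have he0 : e ≠ 0 := Subgroup.FiniteIndex.index_ne_zero
  have hcl := card_classes P hp hcard hcent hidx
  rw [ht] at hcl
  have hpodd : Odd p := hp.odd_of_ne_two hp2
  have heven : Even e := by
    have h1 : Even (t * e) := by
      rw [hcl]
      obtain ⟨k, hk⟩ := hpodd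
      exact ⟨k, by omega⟩
    rcases Nat.even_mul.mp h1 with h | h
    · exact absurd h hte
    · exact h
  have he2 : 2 ≤ e := by
    obtain ⟨k, hk⟩ := heven
    omega
  have het : e * t + 1 = p := by
    have := hp.one_lt
    rw [mul_comm]; omega
  have hdeg : (χ : G → ℂ) 1 = (p : ℂ) - 1 := by
    rw [irr_one_eq_charDegree χ.2, ← hχ]
    push_cast; ring
  obtain ⟨hval, hvan⟩ := values_of_degree P hp hcard hcent hidx he2 het χ.2 hdeg
  obtain ⟨y, a, m, hy, hm, hem⟩ := exists_two_element P hp hcard hcent hidx heven he0 hp2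
  have hyo : orderOf (y : G) = 2 ^ (a + 1) := by rw [Subgroup.orderOf_coe, hy]
  have hvan' : ∀ i, 0 < i → i < 2 ^ (a + 1) → (χ : G → ℂ) ((y : G) ^ i) = 0 := by
    intro i hi his
    apply hvan
    · exact (Subgroup.normalizer (P : Set G)).pow_mem y.2 i
    · intro hmem
      have h1 : ((y : G) ^ i) ^ p = 1 := by
        have h0 := pow_card_eq_one' (G := ↥P) (x := ⟨(y : G) ^ i, hmem⟩)
        rw [hcard] at h0
        have := congrArg Subtype.val h0
        simpa using this
      have h2 : ((y : G) ^ i) ^ (2 ^ (a + 1)) = 1 := by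
        rw [← pow_mul, mul_comm, pow_mul, ← hyo, pow_orderOf_eq_one, one_pow]
      have h3 : orderOf ((y : G) ^ i) ∣ Nat.gcd p (2 ^ (a + 1)) :=
        Nat.dvd_gcd (orderOf_dvd_of_pow_eq_one h1) (orderOf_dvd_of_pow_eq_one h2)
      have h4 : Nat.gcd p (2 ^ (a + 1)) = 1 := by
        apply Nat.Coprime.pow_right
        rw [Nat.coprime_comm]
        exact (Nat.coprime_primes Nat.prime_two hp).mpr (Ne.symm hp2)
      rw [h4, Nat.dvd_one, orderOf_eq_one_iff] at h3
      have h5 := orderOf_dvd_of_pow_eq_one h3
      rw [hyo] at h5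
      exact absurd (Nat.le_of_dvd hi h5) (by omega)
  have hmt : Odd (m * t) := hm.mul htodd
  have hdeg' : (χ : G → ℂ) 1 = ((m * t * 2 ^ (a + 1) : ℕ) : ℂ) := by
    rw [hdeg]
    have h1 : p = m * t * 2 ^ (a + 1) + 1 := by
      rw [← het, hem]; ring
    rw [h1]; push_cast; ring
  exact even_index_of_vanishing (isCharacter_of_isIrrCharacter χ.2) (y : G)
    (by rw [pow_succ]; exact even_two.mul_left _) (by positivity) hyo hmt hdeg' hvan'

end Cfsg.Agent.S4508
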