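import Cfsg.Agent.Lib.Helper22.SelfCentDerived
import Cfsg.Statements.S4509
-- import your own Cfsg.Agent.* helpers here

set_option autoImplicit false
open Cfsg

namespace Cfsg.Agent.S4509


/-- Let the finite group G contain an element x of prime order p with C_G(x) = ⟨x⟩; let t be the number of conjugacy classes of elements of order p and 1 + n·p the number of subgroups of order p. Then G has a normal subgroup of order 1 + n·p if and only if either t = p − 1, or t < p − 1 and G″ ≠ G′. Moreover, if t = p − 1 then G′ has order 1 + n·p and G/G′ is cyclic of order p; and if t < p − 1 and G″ ≠ G′ then G″ has order 1 + n·p and G′ has order p·(1 + n·p). -/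
theorem result {G : Type*} [Group G] [Finite G] (p : ℕ) (hp : p.Prime) (x : G) (hx : orderOf x = p) (hC : Subgroup.centralizer ({x} : Set G) = Subgroup.zpowers x) (t : ℕ) (ht : Nat.card {C : ConjClasses G // ∃ g ∈ C.carrier, orderOf g = p} = t) (n : ℕ) (hn : Nat.card {H : Subgroup G // Nat.card H = p} = 1 + n * p) : ((∃ S : Subgroup G, S.Normal ∧ Nat.card S = 1 + n * p) ↔ (t = p - 1 ∨ (t < p - 1 ∧ derivedSeries G 2 ≠ derivedSeries G 1))) ∧ (t = p - 1 → Nat.card (commutator G) = 1 + n * p ∧ IsCyclic (G ⧸ commutator G) ∧ (commutator G).index = p) ∧ (t < p - 1 → derivedSeries G 2 ≠ derivedSeries G 1 → Nat.card (derivedSeries G 2) = 1 + n * p ∧ Nat.card (commutator G) = p * (1 + n * p)) := by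
  have : Fact p.Prime := ⟨hp⟩
  have hidx : (Subgroup.normalizer (Subgroup.zpowers x : Set G)).index = 1 + n * p := by
    rw [← Cfsg.Agent.Helper22.card_subgroups_eq_index hx hC, hn]
  have hcount := Cfsg.Agent.Helper22.card_classes_mul_relIndex hx hC
  rw [ht] at hcount
  have hnd : ¬ p ∣ 1 + n * p := by
    intro h
    have h1 : p ∣ 1 := (Nat.dvd_add_left (dvd_mul_left p n)).1 h
    exact hp.one_lt.ne' (Nat.dvd_one.1 h1)
  -- the case t = p - 1
  have hcase1 : t = p - 1 → Nat.card (commutator G) = 1 + n * p ∧ IsCyclic (G ⧸ commutator G) ∧ (commutator G).index = p := by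
    intro heq
    have hN := Cfsg.Agent.Helper22.normalizer_le_of_card_classes hx hC (ht ▸ heq)
    have h2 := (Cfsg.Agent.Helper22.commutator_eq_pPrimeCore_of_normalizer_le hx hC hN).2
    refine ⟨?_, ?_, h2⟩
    · rw [Cfsg.Agent.Helper22.card_commutator_of_normalizer_le hx hC hN, hidx]
    · apply isCyclic_of_prime_card (p := p)
      rw [← Subgroup.index_eq_card, h2]
  -- the case t < p - 1 and G'' ≠ G'
  have hcase2 : t < p - 1 → derivedSeries G 2 ≠ derivedSeries G 1 →
      Nat.card (derivedSeries G 2) = 1 + n * p ∧ Nat.card (commutator G) = p * (1 + n * p) := by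
    intro hlt hne
    obtain ⟨m, hm, hmx⟩ := Cfsg.Agent.Helper22.exists_normalizer_not_commute hx hC (ht ▸ hlt.ne)
    have hxM := Cfsg.Agent.Helper22.mem_commutator_of_not_commute hx m hm hmx
    obtain ⟨h1, h2, h3⟩ := Cfsg.Agent.Helper22.derived_structure hx hC hxM hne
    rw [hidx] at h2 h3
    exact ⟨by rw [h1, h2], h3⟩
  refine ⟨⟨?_, ?_⟩, hcase1, hcase2⟩
  · rintro ⟨S, hSn, hScard⟩
    have hle : t ≤ p - 1 := by
      rw [← hcount]
      apply Nat.le_mul_of_pos_right
      apply Nat.pos_of_ne_zero
      intro h0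
      rw [h0, mul_zero] at hcount
      have := hp.two_le
      omega
    rcases Nat.eq_or_lt_of_le hle with h1 | h1
    · exact Or.inl h1
    · right
      refine ⟨h1, ?_⟩
      obtain ⟨m, hm, hmx⟩ := Cfsg.Agent.Helper22.exists_normalizer_not_commute hx hC (ht ▸ h1.ne)
      have hxM := Cfsg.Agent.Helper22.mem_commutator_of_not_commute hx m hm hmx
      exact Cfsg.Agent.Helper22.derived_ne_of_exists_normal hx hC hxM S (hScard ▸ hnd) (by rw [hScard, hidx])
  · rintro (h1 | ⟨h1, h2⟩)
    · exact ⟨commutator G, inferInstance, (hcase1 h1).1⟩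
    · exact ⟨derivedSeries G 2, derivedSeries_normal G 2, (hcase2 h1 h2).1⟩

end Cfsg.Agent.S4509
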