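import Mathlib
import Cfsg.Statements.S4510
import Cfsg.Agent.Lib.Helper23.BlockMinMax2

set_option autoImplicit false
open Cfsg Cfsg.Agent.Helper23.Blk Cfsg.Agent.Helper24

namespace Cfsg.Agent.S4510

/-- Let G be a finite group, p a prime, M a maximal ideal of the algebraic integers containing p, and call the defect of a conjugacy class the exponent of p in the order of the centralizer of its elements. Two irreducible characters lying in p-blocks of defect exactly d lie in the same block if and only if their central characters (class size times χ(x)/χ(1)) agree modulo the local ideal at M at every p-regular element x whose class has defect exactly d. -/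
theorem result {G : Type*} [Group G] [Finite G] (p : ℕ) [Fact p.Prime] (M : Ideal Cfsg.AlgInt) (hM : Cfsg.IsPModular p M) (d : ℕ) (χ ψ : Cfsg.IrrCharacter G) (hχ : Cfsg.blockDefect p (Cfsg.blockOf M (χ : G → ℂ)) = d) (hψ : Cfsg.blockDefect p (Cfsg.blockOf M (ψ : G → ℂ)) = d) : Cfsg.SameBlock M (χ : G → ℂ) (ψ : G → ℂ) ↔ ∀ x : G, ¬ p ∣ orderOf x → (Nat.card (Subgroup.centralizer ({x} : Set G))).factorization p = d → Cfsg.MemLocalIdeal M (Cfsg.centralChar (χ : G → ℂ) x - Cfsg.centralChar (ψ : G → ℂ) x) := by
  classical
  haveI : Fintype G := Fintype.ofFinite G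
  letI : Fintype (IrrCharacter G) := irrFintype
  haveI : Fintype (ConjClasses G) := Fintype.ofFinite _
  haveI hMp : M.IsPrime := hM.2.1.isPrime
  constructor
  · intro h x _ _
    exact h x
  · intro h
    by_contra hns
    have hB : IsPBlock M (blockOf M (χ : G → ℂ)) := ⟨χ, rfl⟩
    have hB' : IsPBlock M (blockOf M (ψ : G → ℂ)) := ⟨ψ, rfl⟩
    set b : IrrCharacter G → ℂ :=
      fun φ => if φ ∈ blockOf M (χ : G → ℂ) then (1 : ℂ) else 0 with hb
    have he : ∀ g, blockCoeff (blockOf M (χ : G → ℂ)) g = synth b g :=
      fun g => blockCoeff_eq_synth _ g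
    have h1 : omega (χ : G → ℂ) (synth b) = 1 := by
      rw [omega_synth, hb]
      simp only
      rw [if_pos (mem_blockOf_self χ)]
    have h0 : omega (ψ : G → ℂ) (synth b) = 0 := by
      rw [omega_synth, hb]
      simp only
      have hns' : ψ ∉ blockOf M (χ : G → ℂ) := hns
      rw [if_neg hns']
    have hdiff : MemLocalIdeal M (omega (χ : G → ℂ) (synth b) - omega (ψ : G → ℂ) (synth b)) := by
      rw [omega_eq_sum_classes (isClassFunction_of_isIrrCharacter χ.2) (synth_isClassFunction b),
        omega_eq_sum_classes (isClassFunction_of_isIrrCharacter ψ.2) (synth_isClassFunction b),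
        ← Finset.sum_sub_distrib]
      apply memLocalIdeal_sum
      intro K _
      rw [← mul_sub, ← he]
      set x := Quotient.out K with hx
      have hωχ : MemLocalRing M (centralChar (χ : G → ℂ) x) := memLocalRing_centralChar χ x
      have hωψ : MemLocalRing M (centralChar (ψ : G → ℂ) x) := memLocalRing_centralChar ψ x
      by_cases hex : MemLocalIdeal M (blockCoeff (blockOf M (χ : G → ℂ)) x)
      · exact memLocalIdeal_mul_right hex (memLocalRing_sub hωχ hωψ)
      · apply memLocalIdeal_mul_left (memLocalRing_blockCoeff hMp hB x)
        have hreg : ¬ p ∣ orderOf x := by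
          intro hs
          apply hex
          rw [blockCoeff_eq_zero_of_pSingular hM hB hs]
          exact memLocalIdeal_zero ne_top
        have hle := factorization_card_centralizer_le_of_support hM hB hex
        rw [hχ] at hle
        rcases Nat.lt_or_eq_of_le hle with hlt | heq
        · have h2 : MemLocalIdeal M (centralChar (χ : G → ℂ) x) := by
            by_contra hc
            have := blockDefect_le_of_centralChar hM hB ⟨χ, mem_blockOf_self χ, hc⟩
            rw [hχ] at this
            omega
          have h3 : MemLocalIdeal M (centralChar (ψ : G → ℂ) x) := by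
            by_contra hc
            have := blockDefect_le_of_centralChar hM hB' ⟨ψ, mem_blockOf_self ψ, hc⟩
            rw [hψ] at this
            omega
          exact memLocalIdeal_sub h2 h3
        · exact h x hreg heq
    rw [h1, h0, sub_zero] at hdiff
    exact not_memLocalIdeal_one hdiff

end Cfsg.Agent.S4510
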