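import Mathlib
import Cfsg.Statements.S4518
import Cfsg.Agent.Lib.Helper18.GaloisConj
import Cfsg.Agent.Lib.Helper18.CliffordCorr
import Cfsg.Agent.Lib.Helper5.Clifford

set_option autoImplicit false
set_option linter.style.haveILetI false
open Cfsg

namespace Cfsg.Agent.S4518

open Cfsg.Agent.Helper24 Cfsg.Agent.Helper18 Cfsg.Agent.Helper5

/-- Let N be a normal subgroup of the finite group G whose index is not divisible by the prime p, and let k be coprime to the order of G with k ^ (p ^ e) ≡ 1 modulo the order of G for some e (so g ↦ g ^ k induces a field automorphism of p-power order on character values). If an irreducible character χ of G satisfies χ (g ^ k) = χ g for all g, then every irreducible constituent θ of the restriction of χ to N satisfies θ (n ^ k) = θ n for all n. -/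
theorem result {G : Type*} [Group G] [Fintype G] (p : ℕ) [Fact p.Prime] (N : Subgroup G) [N.Normal] [Fintype N] (hidx : ¬ p ∣ N.index) (k e : ℕ) (hk : Nat.Coprime k (Nat.card G)) (hke : k ^ (p ^ e) ≡ 1 [MOD Nat.card G]) (χ : Cfsg.IrrCharacter G) (hχ : ∀ g : G, (χ : G → ℂ) (g ^ k) = (χ : G → ℂ) g) (θ : Cfsg.IrrCharacter N) (hθ : Cfsg.classInner (fun n : N => (χ : G → ℂ) n) (θ : N → ℂ) ≠ 0) : ∀ n : N, (θ : N → ℂ) (n ^ k) = (θ : N → ℂ) n := by
  classical
  letI : Fintype (IrrCharacter N) := irrFintype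
  have hkN : Nat.Coprime (Nat.card N) k :=
    Nat.Coprime.coprime_dvd_left (Subgroup.card_subgroup_dvd_card N) hk.symm
  have hcf := isClassFunction_of_isIrrCharacter χ.2
  -- the Galois action on `Irr N`
  let σ : IrrCharacter N → IrrCharacter N := fun φ =>
    ⟨fun n => (φ : N → ℂ) (n ^ k), isIrrCharacter_comp_pow φ.2 hkN⟩
  -- the set of constituents
  let Ω : Set (IrrCharacter N) := {φ | classInner (fun n : N => (χ : G → ℂ) n) (φ : N → ℂ) ≠ 0}
  have hσΩ : ∀ φ ∈ Ω, σ φ ∈ Ω := by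
    intro φ hφ
    show classInner (fun n : N => (χ : G → ℂ) n) (fun n => (φ : N → ℂ) (n ^ k)) ≠ 0
    have h2 : classInner (fun n : N => (χ : G → ℂ) ((n ^ k : N) : G))
        (fun n => (φ : N → ℂ) (n ^ k)) = classInner (fun n : N => (χ : G → ℂ) n) (φ : N → ℂ) :=
      classInner_comp_pow (fun m : N => (χ : G → ℂ) m) (φ : N → ℂ) hkN
    have h1 : (fun n : N => (χ : G → ℂ) ((n ^ k : N) : G)) = fun n : N => (χ : G → ℂ) n := by
      funext n
      rw [Subgroup.coe_pow, hχ]
    rw [h1] at h2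
    rw [h2]
    exact hφ
  have hΩeq : Ω = {φ : IrrCharacter N | ∃ g : G, Cfsg.Agent.Helper5.conjFun N g (θ : N → ℂ) =
      (φ : N → ℂ)} := by
    ext φ
    constructor
    · intro hφ
      exact clifford_conj N χ.2 θ.2 φ.2 hθ hφ
    · rintro ⟨g, hg⟩
      show classInner (fun n : N => (χ : G → ℂ) n) (φ : N → ℂ) ≠ 0
      rw [← hg, classInner_restrict_conjFun N g hcf]
      exact hθ
  have hcardΩ : ¬ p ∣ Fintype.card Ω := by
    rw [← Nat.card_eq_fintype_card, Nat.card_coe_set_eq, hΩeq, card_conjugates N θ.2]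
    intro h
    apply hidx
    exact h.trans (Subgroup.index_dvd_of_le
      (le_inertia N (isClassFunction_of_isIrrCharacter θ.2)))
  -- the induced self-map of `Ω`
  let f : Function.End Ω := fun φ => ⟨σ φ.1, hσΩ φ.1 φ.2⟩
  have hfpow : ∀ (m : ℕ) (φ : Ω) (n : N), (((f ^ m) φ).1 : N → ℂ) n =
      ((φ.1 : IrrCharacter N) : N → ℂ) (n ^ (k ^ m)) := by
    intro m
    induction m with
    | zero =>
      intro φ n
      rw [pow_zero, pow_zero, pow_one]
      rfl
    | succ m ih =>
      intro φ n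
      rw [pow_succ]
      show (((f ^ m) (f φ)).1 : N → ℂ) n = _
      rw [ih (f φ) n]
      show ((φ.1 : IrrCharacter N) : N → ℂ) ((n ^ (k ^ m)) ^ k) = _
      rw [← pow_mul, ← pow_succ]
  have hpowk : ∀ n : N, n ^ (k ^ (p ^ e)) = n := by
    intro n
    have h1 : k ^ (p ^ e) ≡ 1 [MOD orderOf n] := by
      apply Nat.ModEq.of_dvd _ hke
      exact (orderOf_dvd_natCard n).trans (Subgroup.card_subgroup_dvd_card N)
    have := pow_eq_pow_iff_modEq.mpr h1
    rw [this, pow_one]
  have hf1 : f ^ (p ^ e) = 1 := by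
    funext φ
    apply Subtype.ext
    apply Subtype.ext
    funext n
    rw [hfpow, hpowk]
    rfl
  have hmod := Equiv.Perm.card_fixedPoints_modEq hf1
  have hne : Nonempty (Function.fixedPoints f) := by
    by_contra hcon
    rw [not_nonempty_iff] at hcon
    have h0 : Fintype.card (Function.fixedPoints f) = 0 := Fintype.card_eq_zero
    rw [h0] at hmod
    exact hcardΩ ((Nat.modEq_zero_iff_dvd).mp hmod)
  obtain ⟨⟨φ₀, hφ₀⟩⟩ := hne
  have hfix : ∀ n : N, ((φ₀.1 : IrrCharacter N) : N → ℂ) (n ^ k) =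
      ((φ₀.1 : IrrCharacter N) : N → ℂ) n := by
    intro n
    have h1 : f φ₀ = φ₀ := hφ₀
    have h2 := congrArg (fun ψ : Ω => ((ψ.1 : IrrCharacter N) : N → ℂ) n) h1
    exact h2
  -- transport to `θ`
  obtain ⟨x, hx⟩ := clifford_conj N χ.2 φ₀.1.2 θ.2 φ₀.2 hθ
  intro n
  rw [← hx, Cfsg.Agent.Helper5.conjFun_apply, Cfsg.Agent.Helper5.conjFun_apply]
  have h3 : (⟨x * ((n ^ k : N) : G) * x⁻¹, by
      exact (inferInstance : N.Normal).conj_mem _ (n ^ k).2 x⟩ : N) =
      (⟨x * (n : G) * x⁻¹, (inferInstance : N.Normal).conj_mem _ n.2 x⟩ : N) ^ k := by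
    apply Subtype.ext
    simp only [Subgroup.coe_pow, conj_pow]
  rw [h3, hfix]

end Cfsg.Agent.S4518
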