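import Mathlib
import Cfsg.Statements.S4540
import Cfsg.Agent.Lib.Helper18.OlssonTwo6
import Cfsg.Agent.Lib.Helper18.OlssonTwo7
import Cfsg.Agent.Lib.Helper23.BlockDefectGroup2

set_option autoImplicit false
open Cfsg

namespace Cfsg.Agent.S4540

/-- Let B be a 2-block of the finite group G (relative to a maximal ideal M of the algebraic integers containing 2) of defect d with defect group D. Let z be an element of D commuting with every element of D, and let b be a block of the centralizer C of z with defect group D that induces B (a major subsection (z, b)). If b has 2-regular rank at most three, then 3·k(B) ≤ 3·k₀(B) + 2·Σ 2 ^ h(χ), where k(B) is the number of members of B, k₀(B) the number of members of height zero, and the sum runs over the members χ of B of positive height h(χ); this bound is at most 3·2 ^ d, so in particular B contains at most 2 ^ d irreducible characters. -/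
theorem result {G : Type*} [Group G] [Finite G] (M : Ideal Cfsg.AlgInt) (hM : Cfsg.IsPModular 2 M) (B : Set (Cfsg.IrrCharacter G)) (hB : Cfsg.IsPBlock M B) (D : Subgroup G) (hD : Cfsg.IsDefectGroup 2 M B D) (z : G) (hzD : z ∈ D) (hzc : ∀ d ∈ D, d * z = z * d) (b : Set (Cfsg.IrrCharacter ↥(Subgroup.centralizer ({z} : Set G)))) (hb : Cfsg.IsInducedBlock M (Subgroup.centralizer ({z} : Set G)) b B) (hbD : Cfsg.IsDefectGroup 2 M b (D.subgroupOf (Subgroup.centralizer ({z} : Set G)))) (hl : Cfsg.blockRank 2 b ≤ 3) : 3 * Nat.card B ≤ 3 * Nat.card {χ : Cfsg.IrrCharacter G // χ ∈ B ∧ Cfsg.blockHeight 2 B (χ : G → ℂ) = 0} + 2 * (∑ᶠ χ ∈ {χ : Cfsg.IrrCharacter G | χ ∈ B ∧ 1 ≤ Cfsg.blockHeight 2 B (χ : G → ℂ)}, 2 ^ Cfsg.blockHeight 2 B (χ : G → ℂ)) ∧ 3 * Nat.card {χ : Cfsg.IrrCharacter G // χ ∈ B ∧ Cfsg.blockHeight 2 B (χ : G → ℂ) = 0} + 2 * (∑ᶠ χ ∈ {χ : Cfsg.IrrCharacter G | χ ∈ B ∧ 1 ≤ Cfsg.blockHeight 2 B (χ : G → ℂ)}, 2 ^ Cfsg.blockHeight 2 B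 (χ : G → ℂ)) ≤ 3 * 2 ^ Cfsg.blockDefect 2 B := by
  classical
  haveI : Fintype G := Fintype.ofFinite G
  letI : Fintype ↥(Subgroup.centralizer ({z} : Set G)) := Fintype.ofFinite _
  letI : Fintype (Cfsg.IrrCharacter G) := Cfsg.Agent.Helper24.irrFintype
  have hp : (2 : ℕ).Prime := Nat.prime_two
  have hDp : IsPGroup 2 D := Cfsg.Agent.Helper23.Blk.isPGroup_of_isDefectGroup hM hD
  have hz : ∃ k : ℕ, orderOf z = 2 ^ k := by
    obtain ⟨k, hk⟩ := (IsPGroup.iff_orderOf.1 hDp) ⟨z, hzD⟩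
    exact ⟨k, by rw [← hk, Subgroup.orderOf_mk]⟩
  have hDle : D ≤ Subgroup.centralizer ({z} : Set G) := by
    intro d hd
    rw [Subgroup.mem_centralizer_iff]
    intro y hy
    rw [Set.mem_singleton_iff] at hy
    rw [hy]
    exact (hzc d hd).symm
  have hc1 := Cfsg.Agent.Helper23.Blk.card_defectGroup hM hB hD
  have hc2 := Cfsg.Agent.Helper23.Blk.card_defectGroup hM hb.1 hbD
  have hc3 : Nat.card (D.subgroupOf (Subgroup.centralizer ({z} : Set G))) = Nat.card D :=
    Nat.card_congr (Subgroup.subgroupOfEquivOfLe hDle).toEquiv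
  have hdef : Cfsg.blockDefect 2 b = Cfsg.blockDefect 2 B := by
    rw [hc3, hc1] at hc2
    exact (Nat.pow_right_injective hp.two_le hc2).symm
  obtain ⟨T, hT1, hT2, hT3, hT4, hT5, hT6⟩ :=
    Cfsg.Agent.Helper18.OlssonTwo.major_two_data hM hz
      (Subgroup.centralizer ({z} : Set G)) rfl hb hdef
  obtain ⟨S, hS⟩ : ∃ S : Finset (Cfsg.IrrCharacter G), S = Finset.univ.filter (· ∈ B) := ⟨_, rfl⟩
  have hSmem : ∀ χ, χ ∈ S ↔ χ ∈ B := fun χ => by rw [hS]; simp
  have hcardB : Nat.card B = S.card := by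
    rw [Nat.card_eq_fintype_card]
    exact Fintype.card_of_subtype S hSmem
  have hcard0 : Nat.card {χ : Cfsg.IrrCharacter G // χ ∈ B ∧ Cfsg.blockHeight 2 B (χ : G → ℂ) = 0} =
      (S.filter (fun χ : Cfsg.IrrCharacter G => Cfsg.blockHeight 2 B (χ : G → ℂ) = 0)).card := by
    rw [Nat.card_eq_fintype_card]
    exact Fintype.card_of_subtype _ (fun χ => by rw [Finset.mem_filter, hSmem])
  have hset : {χ : Cfsg.IrrCharacter G | χ ∈ B ∧ 1 ≤ Cfsg.blockHeight 2 B (χ : G → ℂ)} =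
      ↑(S.filter (fun χ : Cfsg.IrrCharacter G => 1 ≤ Cfsg.blockHeight 2 B (χ : G → ℂ))) := by
    ext χ
    rw [Finset.coe_filter]
    simp only [Set.mem_setOf_eq, hSmem]
  rw [hset, finsum_mem_coe_finset, hcard0, hcardB]
  constructor
  · have hsplit : S.card = (S.filter (fun χ : Cfsg.IrrCharacter G =>
        Cfsg.blockHeight 2 B (χ : G → ℂ) = 0)).card + (S.filter (fun χ : Cfsg.IrrCharacter G =>
        1 ≤ Cfsg.blockHeight 2 B (χ : G → ℂ))).card := by
      have hfil : S.filter (fun χ : Cfsg.IrrCharacter G =>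
          1 ≤ Cfsg.blockHeight 2 B (χ : G → ℂ)) = S.filter (fun χ : Cfsg.IrrCharacter G =>
          ¬ Cfsg.blockHeight 2 B (χ : G → ℂ) = 0) := by
        apply Finset.filter_congr
        intro χ _
        omega
      rw [hfil]
      exact (Finset.card_filter_add_card_filter_not _).symm
    have hle : 3 * (S.filter (fun χ : Cfsg.IrrCharacter G =>
        1 ≤ Cfsg.blockHeight 2 B (χ : G → ℂ))).card ≤
        2 * ∑ χ ∈ S.filter (fun χ : Cfsg.IrrCharacter G =>
          1 ≤ Cfsg.blockHeight 2 B (χ : G → ℂ)), 2 ^ Cfsg.blockHeight 2 B (χ : G → ℂ) := by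
      rw [Finset.mul_sum, Finset.card_eq_sum_ones, Finset.mul_sum]
      apply Finset.sum_le_sum
      intro χ hχ
      have h1 : 1 ≤ Cfsg.blockHeight 2 B (χ : G → ℂ) := (Finset.mem_filter.1 hχ).2
      have h2 : 2 ^ 1 ≤ 2 ^ Cfsg.blockHeight 2 B (χ : G → ℂ) :=
        Nat.pow_le_pow_right (by norm_num) h1
      omega
    omega
  · exact Cfsg.Agent.Helper18.OlssonTwo.arith_rank_le_three S T
      (fun χ => Cfsg.blockHeight 2 B (χ : G → ℂ)) (Cfsg.blockDefect 2 B) (Cfsg.blockRank 2 b)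
      (hT1 S hSmem) (fun χ hχ => hT2 χ ((hSmem χ).1 hχ))
      (fun χ hχ => hT3 χ ((hSmem χ).1 hχ)) (fun χ hχ => hT4 χ ((hSmem χ).1 hχ))
      (fun χ hχ hh S' hS' hn => hT5 χ ((hSmem χ).1 hχ) hh S'
        (fun ψ hψ => (hSmem ψ).1 (hS' hψ)) hn) hl

end Cfsg.Agent.S4540
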