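import Mathlib
import Cfsg.Statements.S4553
import Cfsg.Agent.Lib.Helper5.PrResC

set_option autoImplicit false
open Cfsg

namespace Cfsg.Agent.S4553

/-- Let G be a finite group, p a prime, P a Sylow p-subgroup, N the p-residual of G (the subgroup generated by the elements of order prime to p, the smallest normal subgroup with G/N a p-group), and M a maximal ideal of the algebraic integers containing p; suppose G/N is cyclic and nontrivial. Let k be a natural number with g ^ k = g ^ (1 + p) for every p-element g and g ^ k = g for every element g of order prime to p (so that χ (g ^ k) is the image of χ g under the field automorphism that raises p-power roots of unity to the power 1 + p and fixes the roots of unity of order prime to p). Then the number of members χ of the principal block of G of degree prime to p with χ (g ^ k) = χ g for all g equals p times the number of members θ of the principal block of N of degree prime to p that are invariant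 under conjugation by P and satisfy θ (n ^ k) = θ n for all n. -/
theorem result {G : Type*} [Group G] [Finite G] (p : ℕ) [Fact p.Prime] (M : Ideal Cfsg.AlgInt) (hM : Cfsg.IsPModular p M) (P : Sylow p G) (N : Subgroup G) [hN : N.Normal] (hNres : N = Cfsg.pResidual p G) (hcyc : IsCyclic (G ⧸ N)) (hnt : N ≠ ⊤) (k : ℕ) (hk₁ : ∀ g : G, (∃ j : ℕ, orderOf g = p ^ j) → g ^ k = g ^ (1 + p)) (hk₂ : ∀ g : G, Nat.Coprime (orderOf g) p → g ^ k = g) : Nat.card {χ : Cfsg.IrrCharacter G // χ ∈ Cfsg.principalBlock M G ∧ ¬ p ∣ Cfsg.charDegree (χ : G → ℂ) ∧ ∀ g : G, (χ : G → ℂ) (g ^ k) = (χ : G → ℂ) g} = p * Nat.card {θ : Cfsg.IrrCharacter ↥N // θ ∈ Cfsg.principalBlock M ↥N ∧ ¬ p ∣ Cfsg.charDegree (θ : ↥N → ℂ) ∧ (∀ x ∈ (P : Subgroup G), ∀ n : ↥N, (θ : ↥N → ℂ) ⟨x * n * x⁻¹, hN.conj_mem n n.2 x⟩ = (θ : ↥N → ℂ) n) ∧ ∀ n : ↥N, (θ : ↥N → ℂ) (n ^ k) = (θ : ↥N → ℂ) n} := by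
  classical
  letI : Fintype G := Fintype.ofFinite G
  letI : Fintype N := Fintype.ofFinite N
  letI : Fintype (Cfsg.IrrCharacter G) := Cfsg.Agent.Helper24.irrFintype
  letI : Fintype (Cfsg.IrrCharacter ↥N) := Cfsg.Agent.Helper24.irrFintype
  have hpp : p.Prime := Fact.out
  have hcop := Cfsg.Agent.Helper5.PrRes.coprime_card_of_pow hk₁ hk₂
  obtain ⟨m, hm⟩ := Cfsg.Agent.Helper22.index_pResidual (G := G) (p := p)
  rw [← hNres] at hm
  have hm0 : m ≠ 0 := by
    intro h0
    rw [h0, pow_zero] at hm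
    exact hnt (Subgroup.index_eq_one.mp hm)
  have hpidx : p ∣ N.index := by
    rw [hm]
    exact dvd_pow_self p hm0
  have hNP : N ⊔ (P : Subgroup G) = ⊤ := by
    rw [sup_comm, hNres]
    exact Cfsg.Agent.Helper22.sylow_sup_pResidual_eq_top P
  -- the restriction map
  obtain ⟨res, hres⟩ : ∃ res : Cfsg.IrrCharacter G → Cfsg.IrrCharacter ↥N,
      ∀ (χ : Cfsg.IrrCharacter G) (h : Cfsg.IsIrrCharacter ↥N (fun n : ↥N => (χ : G → ℂ) n)),
        res χ = ⟨fun n : ↥N => (χ : G → ℂ) n, h⟩ := by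
    refine ⟨fun χ => if h : Cfsg.IsIrrCharacter ↥N (fun n : ↥N => (χ : G → ℂ) n) then ⟨_, h⟩
      else Cfsg.Agent.Helper24.principalChar ↥N, ?_⟩
    intro χ h
    simp only [dif_pos h]
  have hirrres : ∀ χ : Cfsg.IrrCharacter G, ¬ p ∣ Cfsg.charDegree (χ : G → ℂ) →
      Cfsg.IsIrrCharacter ↥N (fun n : ↥N => (χ : G → ℂ) n) := by
    intro χ hχ
    apply Cfsg.Agent.Helper24.CopDeg.restrict_irr_of_coprime N χ.2
    rw [hm]
    exact Nat.Coprime.pow_right _ ((Nat.Prime.coprime_iff_not_dvd hpp).mpr hχ).symm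
  have hdegeq : ∀ (χ : Cfsg.IrrCharacter G) (θ : Cfsg.IrrCharacter ↥N),
      (∀ n : ↥N, (χ : G → ℂ) n = (θ : ↥N → ℂ) n) →
      Cfsg.charDegree (χ : G → ℂ) = Cfsg.charDegree (θ : ↥N → ℂ) := by
    intro χ θ h
    apply Cfsg.Agent.Helper24.CopDeg.charDegree_congr
    have := h 1
    rw [← this]
    rfl
  rw [Nat.card_eq_fintype_card, Fintype.card_subtype, Nat.card_eq_fintype_card,
    Fintype.card_subtype]
  rw [Finset.card_eq_sum_card_fiberwise (f := res)
    (t := Finset.univ.filter (fun θ : Cfsg.IrrCharacter ↥N =>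
      θ ∈ Cfsg.principalBlock M ↥N ∧ ¬ p ∣ Cfsg.charDegree (θ : ↥N → ℂ) ∧
      (∀ x ∈ (P : Subgroup G), ∀ n : ↥N,
        (θ : ↥N → ℂ) ⟨x * n * x⁻¹, hN.conj_mem n n.2 x⟩ = (θ : ↥N → ℂ) n) ∧
      ∀ n : ↥N, (θ : ↥N → ℂ) (n ^ k) = (θ : ↥N → ℂ) n))]
  · rw [Finset.sum_const_nat (m := p), mul_comm]
    intro θ hθ
    rw [Finset.mem_filter] at hθ
    obtain ⟨-, hθB, hθdeg, hθP, hθfix⟩ := hθ
    have hinv := Cfsg.Agent.Helper5.PrRes.invariant_of_sylow N P hNP
      (Cfsg.Agent.Helper24.isClassFunction_of_isIrrCharacter θ.2) hθP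
    obtain ⟨χ₀, hχ₀, hext, hfix₀⟩ := Cfsg.Agent.Helper5.PrRes.exists_fixed_extension N hNres hcop
      θ.2 hinv hθdeg hθfix
    have hcount := Cfsg.Agent.Helper5.PrRes.card_fixed_extensions N hcyc hpidx P hNP hcop hk₁
      θ.2 hinv hχ₀ hext hfix₀
    rw [Nat.card_eq_fintype_card, Fintype.card_subtype] at hcount
    refine Eq.trans ?_ hcount
    rw [Finset.filter_filter]
    congr 1
    apply Finset.filter_congr
    intro χ _
    constructor
    · rintro ⟨⟨-, hχdeg, hχfix⟩, hχθ⟩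
      refine ⟨?_, hχfix⟩
      intro n
      rw [hres χ (hirrres χ hχdeg)] at hχθ
      rw [← hχθ]
    · rintro ⟨hχres, hχfix⟩
      have hdeg' := hdegeq χ θ hχres
      refine ⟨⟨?_, ?_, hχfix⟩, ?_⟩
      · exact Cfsg.Agent.Helper5.PrRes.mem_principalBlock_of_restrict hM N ⟨m, hm⟩ hχres hθB
      · rw [hdeg']
        exact hθdeg
      · have hirr : Cfsg.IsIrrCharacter ↥N (fun n : ↥N => (χ : G → ℂ) n) := by
          rw [funext hχres]
          exact θ.2
        rw [hres χ hirr]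
        apply Subtype.ext
        exact funext hχres
  · intro χ hχ
    have hχ' := Finset.mem_coe.mp hχ
    rw [Finset.mem_filter] at hχ'
    obtain ⟨-, hχB, hχdeg, hχfix⟩ := hχ'
    have hirr := hirrres χ hχdeg
    rw [Finset.mem_coe, Finset.mem_filter, hres χ hirr]
    refine ⟨Finset.mem_univ _, ?_, ?_, ?_, ?_⟩
    · exact Cfsg.Agent.Helper5.PrRes.restrict_mem_principalBlock hM N
        (θ := ⟨fun n : ↥N => (χ : G → ℂ) n, hirr⟩) (fun n => rfl) hχB
    · rw [← hdegeq χ ⟨fun n : ↥N => (χ : G → ℂ) n, hirr⟩ (fun n => rfl)]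
      exact hχdeg
    · intro x _ n
      exact Cfsg.Agent.Helper24.isClassFunction_of_isIrrCharacter χ.2 n x
    · intro n
      show (χ : G → ℂ) ((n ^ k : ↥N) : G) = (χ : G → ℂ) n
      rw [Subgroup.coe_pow]
      exact hχfix n

end Cfsg.Agent.S4553
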