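import Mathlib
import Cfsg.Statements.S4560
import Cfsg.Agent.Lib.Helper23.PermChars

set_option autoImplicit false
set_option linter.style.haveILetI false
open Cfsg

namespace Cfsg.Agent.S4560

open Cfsg.Agent.Helper24 Cfsg.Agent.Helper23.PermMom Equiv Equiv.Perm MulAction

section General

variable {X : Type*} [Fintype X] [DecidableEq X]

theorem two_mem_cycleType_of {σ : Perm X} {a : X} (h1 : σ a ≠ a) (h2 : σ (σ a) = a) :
    2 ∈ σ.cycleType := by
  have hc : IsCycle (cycleOf σ a) := isCycle_cycleOf σ h1
  have hmem : cycleOf σ a ∈ cycleFactorsFinset σ :=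
    cycleOf_mem_cycleFactorsFinset_iff.mpr (mem_support.mpr h1)
  have hca : cycleOf σ a a ≠ a := by
    rw [cycleOf_apply_self]
    exact h1
  have hpow : cycleOf σ a ^ 2 = 1 := by
    rw [hc.pow_eq_one_iff' hca, cycleOf_pow_apply_self]
    simp [pow_two, h2]
  have hord : orderOf (cycleOf σ a) ∣ 2 := orderOf_dvd_of_pow_eq_one hpow
  have hcard : (cycleOf σ a).support.card = 2 := by
    rw [← hc.orderOf]
    have h3 : 2 ≤ orderOf (cycleOf σ a) := by
      rw [hc.orderOf]
      exact hc.two_le_card_support
    exact Nat.le_antisymm (Nat.le_of_dvd (by norm_num) hord) h3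
  rw [cycleType_def, Multiset.mem_map]
  exact ⟨cycleOf σ a, hmem, hcard⟩

theorem twoN_eq_zero {σ : Perm X} (h : 2 ∉ σ.cycleType) : twoN σ = 0 := by
  rw [twoN, Fintype.card_eq_zero_iff]
  constructor
  rintro ⟨a, h1, h2⟩
  exact h (two_mem_cycleType_of h1 h2)

theorem fixN_eq_card_sub (σ : Perm X) : fixN σ = Fintype.card X - σ.cycleType.sum := by
  rw [← Equiv.Perm.card_fixedPoints, fixN, ← Nat.card_eq_fintype_card, ← Nat.card_eq_fintype_card]
  rfl

theorem pm_perm (σ : Perm X) : pm X σ = σ := Equiv.ext fun _ => rfl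

theorem pm_alt (x : alternatingGroup X) : pm X x = (x : Perm X) := Equiv.ext fun _ => rfl

end General

section Assembly

variable {n : ℕ}

theorem h4S (n : ℕ) : IsMultiplyPretransitive (Perm (Fin n)) (Fin n) 4 :=
  Equiv.Perm.isMultiplyPretransitive (Fin n) 4

theorem h4A (hn : 7 ≤ n) : IsMultiplyPretransitive (alternatingGroup (Fin n)) (Fin n) 4 := by
  haveI := alternatingGroup.isMultiplyPretransitive (Fin n)
  exact isMultiplyPretransitive_of_le (m := 4) (n := Nat.card (Fin n) - 2)
    (by rw [Nat.card_eq_fintype_card, Fintype.card_fin]; omega) (Nat.sub_le _ _)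

theorem hXn (hn : 7 ≤ n) : 4 ≤ Fintype.card (Fin n) := by
  rw [Fintype.card_fin]
  omega

theorem main_A (hn : 7 ≤ n) (P : ℕ → Prop) (σ : Perm (Fin n))
    (hσ : σ ∈ alternatingGroup (Fin n)) (hP : P (orderOf σ)) (hf : fixN σ = 1) :
    ∃ χ : Cfsg.IrrCharacter (alternatingGroup (Fin n)),
      (∃ x : alternatingGroup (Fin n), P (orderOf x) ∧
        (χ : alternatingGroup (Fin n) → ℂ) x = 0) ∧
      ∃ ψ : Cfsg.IrrCharacter (Equiv.Perm (Fin n)), ∀ x : alternatingGroup (Fin n),
        (ψ : Equiv.Perm (Fin n) → ℂ) x = (χ : alternatingGroup (Fin n) → ℂ) x := by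
  refine ⟨⟨chA (alternatingGroup (Fin n)) (Fin n), isIrr_chA (h4A hn) (hXn hn)⟩,
    ⟨⟨σ, hσ⟩, ?_, ?_⟩, ⟨chA (Perm (Fin n)) (Fin n), isIrr_chA (h4S n) (hXn hn)⟩, ?_⟩
  · rw [← Subgroup.orderOf_coe]
    exact hP
  · show chA (alternatingGroup (Fin n)) (Fin n) ⟨σ, hσ⟩ = 0
    unfold chA fC
    rw [pm_alt, hf]
    simp
  · intro x
    show chA (Perm (Fin n)) (Fin n) (x : Perm (Fin n)) = chA (alternatingGroup (Fin n)) (Fin n) x
    unfold chA fC
    rw [pm_alt, pm_perm]

theorem main_B (hn : 7 ≤ n) (P : ℕ → Prop) (σ : Perm (Fin n))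
    (hσ : σ ∈ alternatingGroup (Fin n)) (hP : P (orderOf σ))
    (hf : fixN σ = 0 ∨ fixN σ = 3) (ht : twoN σ = 0) :
    ∃ χ : Cfsg.IrrCharacter (alternatingGroup (Fin n)),
      (∃ x : alternatingGroup (Fin n), P (orderOf x) ∧
        (χ : alternatingGroup (Fin n) → ℂ) x = 0) ∧
      ∃ ψ : Cfsg.IrrCharacter (Equiv.Perm (Fin n)), ∀ x : alternatingGroup (Fin n),
        (ψ : Equiv.Perm (Fin n) → ℂ) x = (χ : alternatingGroup (Fin n) → ℂ) x := by
  refine ⟨⟨chB (alternatingGroup (Fin n)) (Fin n), isIrr_chB (h4A hn) (hXn hn)⟩,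
    ⟨⟨σ, hσ⟩, ?_, ?_⟩, ⟨chB (Perm (Fin n)) (Fin n), isIrr_chB (h4S n) (hXn hn)⟩, ?_⟩
  · rw [← Subgroup.orderOf_coe]
    exact hP
  · show chB (alternatingGroup (Fin n)) (Fin n) ⟨σ, hσ⟩ = 0
    unfold chB fC tC
    rw [pm_alt, ht]
    rcases hf with hf | hf <;> rw [hf] <;> norm_num
  · intro x
    show chB (Perm (Fin n)) (Fin n) (x : Perm (Fin n)) = chB (alternatingGroup (Fin n)) (Fin n) x
    unfold chB fC tC
    rw [pm_alt, pm_perm]

theorem main_C (hn : 7 ≤ n) (P : ℕ → Prop) (σ : Perm (Fin n))
    (hσ : σ ∈ alternatingGroup (Fin n)) (hP : P (orderOf σ))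
    (hf : fixN σ = 1 ∨ fixN σ = 2) (ht : twoN σ = 0) :
    ∃ χ : Cfsg.IrrCharacter (alternatingGroup (Fin n)),
      (∃ x : alternatingGroup (Fin n), P (orderOf x) ∧
        (χ : alternatingGroup (Fin n) → ℂ) x = 0) ∧
      ∃ ψ : Cfsg.IrrCharacter (Equiv.Perm (Fin n)), ∀ x : alternatingGroup (Fin n),
        (ψ : Equiv.Perm (Fin n) → ℂ) x = (χ : alternatingGroup (Fin n) → ℂ) x := by
  refine ⟨⟨chC (alternatingGroup (Fin n)) (Fin n), isIrr_chC (h4A hn) (hXn hn)⟩,
    ⟨⟨σ, hσ⟩, ?_, ?_⟩, ⟨chC (Perm (Fin n)) (Fin n), isIrr_chC (h4S n) (hXn hn)⟩, ?_⟩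
  · rw [← Subgroup.orderOf_coe]
    exact hP
  · show chC (alternatingGroup (Fin n)) (Fin n) ⟨σ, hσ⟩ = 0
    unfold chC fC tC
    rw [pm_alt, ht]
    rcases hf with hf | hf <;> rw [hf] <;> norm_num
  · intro x
    show chC (Perm (Fin n)) (Fin n) (x : Perm (Fin n)) = chC (alternatingGroup (Fin n)) (Fin n) x
    unfold chC fC tC
    rw [pm_alt, pm_perm]

theorem exists_perm (n : ℕ) (m : Multiset ℕ) (hsum : m.sum ≤ n) (h2 : ∀ a ∈ m, 2 ≤ a)
    (hev : Even (m.sum + Multiset.card m)) :
    ∃ σ : Perm (Fin n), σ ∈ alternatingGroup (Fin n) ∧ orderOf σ = m.lcm ∧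
      fixN σ = n - m.sum ∧ (2 ∉ m → twoN σ = 0) := by
  obtain ⟨σ, hσ⟩ := (Equiv.Perm.exists_with_cycleType_iff (Fin n)).mpr
    ⟨by rw [Fintype.card_fin]; exact hsum, h2⟩
  refine ⟨σ, ?_, ?_, ?_, ?_⟩
  · rw [mem_alternatingGroup, sign_of_cycleType, hσ]
    exact hev.neg_one_pow
  · rw [← lcm_cycleType, hσ]
  · rw [fixN_eq_card_sub, hσ, Fintype.card_fin]
  · intro h
    apply twoN_eq_zero
    rw [hσ]
    exact h

theorem lcm_two_pow (m : Multiset ℕ) (k : ℕ) (h : ∀ a ∈ m, a ∣ 2 ^ k) : ∃ j, m.lcm = 2 ^ j := by
  have h1 : m.lcm ∣ 2 ^ k := Multiset.lcm_dvd.mpr h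
  obtain ⟨j, _, hj⟩ := (Nat.dvd_prime_pow Nat.prime_two).mp h1
  exact ⟨j, hj⟩

theorem lcm_replicate_three {k : ℕ} (hk : k ≠ 0) : (Multiset.replicate k 3).lcm = 3 := by
  apply Nat.dvd_antisymm
  · apply Multiset.lcm_dvd.mpr
    intro a ha
    rw [Multiset.eq_of_mem_replicate ha]
  · apply Multiset.dvd_lcm
    rw [Multiset.mem_replicate]
    exact ⟨hk, rfl⟩

end Assembly

/-- For n ≥ 7 the alternating group on n letters has an irreducible character that vanishes at some 2-element and is the restriction of an irreducible character of the symmetric group, and an irreducible character that vanishes at some element of order 3 and is the restriction of an irreducible character of the symmetric group. -/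
theorem result (n : ℕ) (hn : 7 ≤ n) : (∃ χ : Cfsg.IrrCharacter (alternatingGroup (Fin n)), (∃ x : alternatingGroup (Fin n), (∃ j : ℕ, orderOf x = 2 ^ j) ∧ (χ : alternatingGroup (Fin n) → ℂ) x = 0) ∧ ∃ ψ : Cfsg.IrrCharacter (Equiv.Perm (Fin n)), ∀ x : alternatingGroup (Fin n), (ψ : Equiv.Perm (Fin n) → ℂ) x = (χ : alternatingGroup (Fin n) → ℂ) x) ∧ (∃ χ : Cfsg.IrrCharacter (alternatingGroup (Fin n)), (∃ y : alternatingGroup (Fin n), orderOf y = 3 ∧ (χ : alternatingGroup (Fin n) → ℂ) y = 0) ∧ ∃ ψ : Cfsg.IrrCharacter (Equiv.Perm (Fin n)), ∀ x : alternatingGroup (Fin n), (ψ : Equiv.Perm (Fin n) → ℂ) x = (χ : alternatingGroup (Fin n) → ℂ) x) := by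
  constructor
  · -- a 2-element
    have hcases : n % 4 = 1 ∨ n % 4 = 3 ∨ n % 8 = 0 ∨ n % 8 = 4 ∨ n % 8 = 2 ∨ n % 8 = 6 := by
      omega
    rcases hcases with h | h | h | h | h | h
    · obtain ⟨σ, hσ, hord, hfix, -⟩ := exists_perm n (Multiset.replicate ((n - 1) / 2) 2)
        (by rw [Multiset.sum_replicate, smul_eq_mul]; omega)
        (by intro a ha; rw [Multiset.eq_of_mem_replicate ha])
        (by rw [Multiset.sum_replicate, Multiset.card_replicate, smul_eq_mul, Nat.even_iff]; omega)
      apply main_A hn (fun k => ∃ j, k = 2 ^ j) σ hσ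
      · rw [hord]
        exact lcm_two_pow _ 1 (by
          intro a ha
          rw [Multiset.eq_of_mem_replicate ha]
          norm_num)
      · rw [hfix, Multiset.sum_replicate, smul_eq_mul]
        omega
    · obtain ⟨σ, hσ, hord, hfix, -⟩ := exists_perm n (4 ::ₘ Multiset.replicate ((n - 5) / 2) 2)
        (by rw [Multiset.sum_cons, Multiset.sum_replicate, smul_eq_mul]; omega)
        (by
          intro a ha
          rw [Multiset.mem_cons] at ha
          rcases ha with rfl | ha
          · norm_num
          · rw [Multiset.eq_of_mem_replicate ha])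
        (by
          rw [Multiset.sum_cons, Multiset.card_cons, Multiset.sum_replicate,
            Multiset.card_replicate, smul_eq_mul, Nat.even_iff]
          omega)
      apply main_A hn (fun k => ∃ j, k = 2 ^ j) σ hσ
      · rw [hord]
        exact lcm_two_pow _ 2 (by
          intro a ha
          rw [Multiset.mem_cons] at ha
          rcases ha with rfl | ha
          · norm_num
          · rw [Multiset.eq_of_mem_replicate ha]
            norm_num)
      · rw [hfix, Multiset.sum_cons, Multiset.sum_replicate, smul_eq_mul]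
        omega
    · obtain ⟨σ, hσ, hord, hfix, htwo⟩ := exists_perm n (Multiset.replicate (n / 4) 4)
        (by rw [Multiset.sum_replicate, smul_eq_mul]; omega)
        (by intro a ha; rw [Multiset.eq_of_mem_replicate ha]; norm_num)
        (by rw [Multiset.sum_replicate, Multiset.card_replicate, smul_eq_mul, Nat.even_iff]; omega)
      apply main_B hn (fun k => ∃ j, k = 2 ^ j) σ hσ
      · rw [hord]
        exact lcm_two_pow _ 2 (by
          intro a ha
          rw [Multiset.eq_of_mem_replicate ha]
          norm_num)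
      · left
        rw [hfix, Multiset.sum_replicate, smul_eq_mul]
        omega
      · apply htwo
        intro h2
        have := Multiset.eq_of_mem_replicate h2
        omega
    · obtain ⟨σ, hσ, hord, hfix, htwo⟩ := exists_perm n (8 ::ₘ Multiset.replicate ((n - 8) / 4) 4)
        (by rw [Multiset.sum_cons, Multiset.sum_replicate, smul_eq_mul]; omega)
        (by
          intro a ha
          rw [Multiset.mem_cons] at ha
          rcases ha with rfl | ha
          · norm_num
          · rw [Multiset.eq_of_mem_replicate ha]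
            norm_num)
        (by
          rw [Multiset.sum_cons, Multiset.card_cons, Multiset.sum_replicate,
            Multiset.card_replicate, smul_eq_mul, Nat.even_iff]
          omega)
      apply main_B hn (fun k => ∃ j, k = 2 ^ j) σ hσ
      · rw [hord]
        exact lcm_two_pow _ 3 (by
          intro a ha
          rw [Multiset.mem_cons] at ha
          rcases ha with rfl | ha
          · norm_num
          · rw [Multiset.eq_of_mem_replicate ha]
            norm_num)
      · left
        rw [hfix, Multiset.sum_cons, Multiset.sum_replicate, smul_eq_mul]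
        omega
      · apply htwo
        intro h2
        rw [Multiset.mem_cons] at h2
        rcases h2 with h2 | h2
        · omega
        · have := Multiset.eq_of_mem_replicate h2
          omega
    · obtain ⟨σ, hσ, hord, hfix, htwo⟩ := exists_perm n (Multiset.replicate ((n - 2) / 4) 4)
        (by rw [Multiset.sum_replicate, smul_eq_mul]; omega)
        (by intro a ha; rw [Multiset.eq_of_mem_replicate ha]; norm_num)
        (by rw [Multiset.sum_replicate, Multiset.card_replicate, smul_eq_mul, Nat.even_iff]; omega)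
      apply main_C hn (fun k => ∃ j, k = 2 ^ j) σ hσ
      · rw [hord]
        exact lcm_two_pow _ 2 (by
          intro a ha
          rw [Multiset.eq_of_mem_replicate ha]
          norm_num)
      · right
        rw [hfix, Multiset.sum_replicate, smul_eq_mul]
        omega
      · apply htwo
        intro h2
        have := Multiset.eq_of_mem_replicate h2
        omega
    · obtain ⟨σ, hσ, hord, hfix, htwo⟩ := exists_perm n (8 ::ₘ Multiset.replicate ((n - 10) / 4) 4)
        (by rw [Multiset.sum_cons, Multiset.sum_replicate, smul_eq_mul]; omega)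
        (by
          intro a ha
          rw [Multiset.mem_cons] at ha
          rcases ha with rfl | ha
          · norm_num
          · rw [Multiset.eq_of_mem_replicate ha]
            norm_num)
        (by
          rw [Multiset.sum_cons, Multiset.card_cons, Multiset.sum_replicate,
            Multiset.card_replicate, smul_eq_mul, Nat.even_iff]
          omega)
      apply main_C hn (fun k => ∃ j, k = 2 ^ j) σ hσ
      · rw [hord]
        exact lcm_two_pow _ 3 (by
          intro a ha
          rw [Multiset.mem_cons] at ha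
          rcases ha with rfl | ha
          · norm_num
          · rw [Multiset.eq_of_mem_replicate ha]
            norm_num)
      · right
        rw [hfix, Multiset.sum_cons, Multiset.sum_replicate, smul_eq_mul]
        omega
      · apply htwo
        intro h2
        rw [Multiset.mem_cons] at h2
        rcases h2 with h2 | h2
        · omega
        · have := Multiset.eq_of_mem_replicate h2
          omega
  · -- an element of order 3
    have hcases : n % 3 = 0 ∨ n % 3 = 1 ∨ n % 3 = 2 := by omega
    rcases hcases with h | h | h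
    · obtain ⟨σ, hσ, hord, hfix, htwo⟩ := exists_perm n (Multiset.replicate (n / 3) 3)
        (by rw [Multiset.sum_replicate, smul_eq_mul]; omega)
        (by intro a ha; rw [Multiset.eq_of_mem_replicate ha]; norm_num)
        (by rw [Multiset.sum_replicate, Multiset.card_replicate, smul_eq_mul, Nat.even_iff]; omega)
      apply main_B hn (fun k => k = 3) σ hσ
      · rw [hord]
        exact lcm_replicate_three (by omega)
      · left
        rw [hfix, Multiset.sum_replicate, smul_eq_mul]
        omega
      · apply htwo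
        intro h2
        have := Multiset.eq_of_mem_replicate h2
        omega
    · obtain ⟨σ, hσ, hord, hfix, htwo⟩ := exists_perm n (Multiset.replicate ((n - 1) / 3) 3)
        (by rw [Multiset.sum_replicate, smul_eq_mul]; omega)
        (by intro a ha; rw [Multiset.eq_of_mem_replicate ha]; norm_num)
        (by rw [Multiset.sum_replicate, Multiset.card_replicate, smul_eq_mul, Nat.even_iff]; omega)
      apply main_A hn (fun k => k = 3) σ hσ
      · rw [hord]
        exact lcm_replicate_three (by omega)
      · rw [hfix, Multiset.sum_replicate, smul_eq_mul]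
        omega
    · obtain ⟨σ, hσ, hord, hfix, htwo⟩ := exists_perm n (Multiset.replicate ((n - 2) / 3) 3)
        (by rw [Multiset.sum_replicate, smul_eq_mul]; omega)
        (by intro a ha; rw [Multiset.eq_of_mem_replicate ha]; norm_num)
        (by rw [Multiset.sum_replicate, Multiset.card_replicate, smul_eq_mul, Nat.even_iff]; omega)
      apply main_C hn (fun k => k = 3) σ hσ
      · rw [hord]
        exact lcm_replicate_three (by omega)
      · right
        rw [hfix, Multiset.sum_replicate, smul_eq_mul]
        omega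
      · apply htwo
        intro h2
        have := Multiset.eq_of_mem_replicate h2
        omega

end Cfsg.Agent.S4560
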