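import Mathlib
import Cfsg.Statements.S4561
import Cfsg.Agent.Lib.Helper23.CentralTypeWreath
import Cfsg.Agent.Lib.Helper23.MGrpEmbed
import Cfsg.Agent.Lib.Helper21.HallCount

set_option autoImplicit false
set_option linter.style.haveILetI false
universe u
open Cfsg

namespace Cfsg.Agent.S4561

open Cfsg.Agent.Helper24 Cfsg.Agent.Helper23.MGrp RegularWreathProduct Multiplicative

/-- the standard character of `Multiplicative (ZMod q)` -/
noncomputable def stdHom (q : ℕ) [NeZero q] : Multiplicative (ZMod q) →* ℂˣ :=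
  (AddChar.toMonoidHom (ZMod.stdAddChar (N := q))).toHomUnits

theorem stdHom_apply (q : ℕ) [NeZero q] (a : Multiplicative (ZMod q)) :
    ((stdHom q a : ℂˣ) : ℂ) = ZMod.stdAddChar (N := q) (toAdd a) := rfl

/-- the standard bicharacter of `Multiplicative (ZMod q)` -/
noncomputable def epsQ (q : ℕ) [NeZero q] :
    Multiplicative (ZMod q) →* (Multiplicative (ZMod q) →* ℂˣ) where
  toFun c :=
    { toFun := fun a => stdHom q (ofAdd (toAdd c * toAdd a))
      map_one' := by simp
      map_mul' := fun a b => by rw [toAdd_mul, mul_add, ofAdd_add, map_mul] }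
  map_one' := by
    ext a
    simp
  map_mul' c c' := by
    ext a
    simp [add_mul]

theorem epsQ_injective (q : ℕ) [NeZero q] : Function.Injective (epsQ q) := by
  intro c c' h
  have h1 := congrArg (fun f : Multiplicative (ZMod q) →* ℂˣ => ((f (ofAdd 1) : ℂˣ) : ℂ)) h
  simp only [epsQ, MonoidHom.coe_mk, OneHom.coe_mk, toAdd_ofAdd, mul_one, ofAdd_toAdd] at h1
  rw [stdHom_apply, stdHom_apply] at h1
  have h2 := ZMod.injective_stdAddChar h1
  exact toAdd.injective h2

theorem squarefree_lcm_prime {n q : ℕ} (hn : Squarefree n) (hq : q.Prime) :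
    Squarefree (Nat.lcm n q) := by
  by_cases h : q ∣ n
  · rw [Nat.lcm_eq_left h]
    exact hn
  · have hc : Nat.Coprime n q := ((Nat.Prime.coprime_iff_not_dvd hq).mpr h).symm
    rw [Nat.Coprime.lcm_eq_mul hc, Nat.squarefree_mul_iff]
    exact ⟨hc, hn, hq.prime.squarefree⟩

theorem main (n : ℕ) : ∀ (G : Type u) [Group G] [Finite G], Group.IsSolvable G → Nat.card G = n →
    ∃ (H : Type u) (_ : Group H) (_ : Finite H) (ψ : H → ℂ), IsIrrCharacter H ψ ∧
      (∀ h : H, ψ h = ψ 1 → h = 1) ∧ charDegree ψ ^ 2 = (Subgroup.center H).index ∧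
      (∃ f : G →* H ⧸ Subgroup.center H, Function.Injective f) ∧
      (∀ p : ℕ, p.Prime → ((p ∣ Nat.card H ↔ p ∣ Nat.card G) ∧
        (p ∣ Nat.card (Subgroup.center H) ↔ p ∣ Nat.card G))) ∧
      Squarefree (Nat.card (Subgroup.center H)) := by
  classical
  induction n using Nat.strong_induction_on with
  | _ n ih =>
    intro G _ _ hsolv hn
    by_cases htriv : Subsingleton G
    · have h1 : charDegree (fun _ : G => (1 : ℂ)) = 1 := by
        unfold charDegree
        simp
      have h2 : Subgroup.center G = ⊤ := Subsingleton.elim _ _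
      have h3 : Nat.card (Subgroup.center G) = 1 := by
        rw [h2, Subgroup.card_top]
        exact Nat.card_unique
      have h4 : Nat.card G = 1 := Nat.card_unique
      refine ⟨G, inferInstance, inferInstance, fun _ => 1, isIrrCharacter_one,
        fun h _ => Subsingleton.elim _ _, ?_, ⟨1, fun a b _ => Subsingleton.elim a b⟩, ?_, ?_⟩
      · rw [h1, h2, Subgroup.index_top, one_pow]
      · intro p hp
        rw [h3, h4]
        exact ⟨Iff.rfl, Iff.rfl⟩
      · rw [h3]
        exact squarefree_one
    · haveI : Nontrivial G := not_subsingleton_iff_nontrivial.mp htriv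
      haveI := hsolv
      obtain ⟨N, hNn, hNp⟩ := Cfsg.Agent.Helper21.exists_normal_prime_index G
      haveI := hNn
      have hGN : Nat.card N * N.index = Nat.card G := N.card_mul_index
      have hlt : Nat.card N < n := by
        rw [← hn, ← hGN]
        have h1 : 1 < N.index := hNp.one_lt
        have h2 : 0 < Nat.card N := Nat.card_pos
        nlinarith
      obtain ⟨H₀, hH₀g, hH₀f, ψ₀, hψ₀, hfaith₀, hram₀, ⟨f₀, hf₀⟩, hpr₀, hsq₀⟩ :=
        ih (Nat.card N) hlt N inferInstance rfl
      letI := hH₀g
      haveI := hH₀f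
      obtain ⟨q, hq⟩ : ∃ q, q = N.index := ⟨_, rfl⟩
      rw [← hq] at hNp hGN
      haveI : Fact q.Prime := ⟨hNp⟩
      haveI : NeZero q := ⟨hNp.ne_zero⟩
      have hCcard : Nat.card (Multiplicative (ZMod q)) = q := by
        rw [Nat.card_eq_fintype_card, Fintype.card_multiplicative, ZMod.card]
      obtain ⟨H, hHg, hHf, ψ, hψ, hfaith, hram, hdeg, ⟨F, hF⟩, hexp, hprZ, hprC⟩ :=
        central_type_step (epsQ q) (epsQ_injective q) hψ₀ hfaith₀ hram₀ f₀ hf₀
      letI := hHg
      haveI := hHf
      have hQcard : Nat.card (G ⧸ N) = q := hq.symm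
      have e : G ⧸ N ≃* Multiplicative (ZMod q) := mulEquivOfPrimeCardEq (p := q) hQcard hCcard
      rw [hCcard] at hdeg
      -- abbreviations
      obtain ⟨zt, hzt⟩ : ∃ zt, zt = Nat.card (Subgroup.center H) := ⟨_, rfl⟩
      obtain ⟨n₀, hn₀⟩ : ∃ n₀, n₀ = Nat.card (Subgroup.center H₀) := ⟨_, rfl⟩
      obtain ⟨d₀, hd₀⟩ : ∃ d₀, d₀ = charDegree ψ₀ := ⟨_, rfl⟩
      have hH₀card : Nat.card H₀ = n₀ * d₀ ^ 2 := by
        rw [hn₀, hd₀, hram₀]
        exact (Subgroup.card_mul_index _).symm
      have hHcard : Nat.card H = zt * (q * d₀ ^ q) ^ 2 := by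
        rw [hzt, hd₀, ← hdeg, hram]
        exact (Subgroup.card_mul_index _).symm
      -- the centre divides lcm
      have hdvd : zt ∣ Nat.lcm n₀ q := by
        rw [hzt]
        apply hexp
        · intro z hz
          have h1 : (⟨z, hz⟩ : Subgroup.center H₀) ^ n₀ = 1 := by
            rw [hn₀]
            exact pow_card_eq_one'
          have h2 : z ^ n₀ = 1 := by
            have := congrArg Subtype.val h1
            rwa [Subgroup.coe_pow, Subgroup.coe_one] at this
          obtain ⟨k, hk⟩ := Nat.dvd_lcm_left n₀ q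
          rw [hk, pow_mul, h2, one_pow]
        · intro a
          have h1 : a ^ q = 1 := by
            have := pow_card_eq_one' (x := a)
            rwa [hCcard] at this
          obtain ⟨k, hk⟩ := Nat.dvd_lcm_right n₀ q
          rw [hk, pow_mul, h1, one_pow]
      have hqz : q ∣ zt := by
        rw [hzt]
        apply hprC q hNp
        · intro a
          have := pow_card_eq_one' (x := a)
          rwa [hCcard] at this
        · rw [← Finite.one_lt_card_iff_nontrivial, hCcard]
          exact hNp.one_lt
      have hGcard : Nat.card G = Nat.card N * q := hGN.symm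
      have hzG : ∀ p : ℕ, p.Prime → (p ∣ zt ↔ p ∣ Nat.card G) := by
        intro p hp
        rw [hGcard]
        constructor
        · intro h
          have h1 : p ∣ n₀ * q := (h.trans hdvd).trans (Nat.lcm_dvd_mul n₀ q)
          rcases (Nat.Prime.dvd_mul hp).mp h1 with h2 | h2
          · rw [hn₀] at h2
            exact Dvd.dvd.mul_right ((hpr₀ p hp).2.mp h2) q
          · exact Dvd.dvd.mul_left h2 _
        · intro h
          rcases (Nat.Prime.dvd_mul hp).mp h with h2 | h2
          · rw [hzt]
            exact hprZ p hp ((hpr₀ p hp).2.mpr h2)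
          · exact h2.trans hqz
      refine ⟨H, inferInstance, inferInstance, ψ, hψ, hfaith, hram, ?_, ?_, ?_⟩
      · refine ⟨F.comp ((RegularWreathProduct.congr (MulEquiv.refl N) e).toMonoidHom.comp
          (kkHom N)), ?_⟩
        exact hF.comp ((RegularWreathProduct.congr (MulEquiv.refl N) e).injective.comp
          (kkHom_injective N))
      · intro p hp
        rw [← hzt]
        refine ⟨?_, hzG p hp⟩
        rw [hHcard]
        constructor
        · intro h
          rcases (Nat.Prime.dvd_mul hp).mp h with h2 | h2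
          · exact (hzG p hp).mp h2
          · have h3 := hp.dvd_of_dvd_pow h2
            rw [hGcard]
            rcases (Nat.Prime.dvd_mul hp).mp h3 with h4 | h4
            · exact Dvd.dvd.mul_left h4 _
            · have h5 := hp.dvd_of_dvd_pow h4
              have h6 : p ∣ Nat.card H₀ := by
                rw [hH₀card]
                exact Dvd.dvd.mul_left (Dvd.dvd.pow h5 (by norm_num)) _
              exact Dvd.dvd.mul_right ((hpr₀ p hp).1.mp h6) q
        · intro h
          exact Dvd.dvd.mul_right ((hzG p hp).mpr h) _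
      · rw [← hzt]
        rw [hn₀] at hdvd
        exact (squarefree_lcm_prime hsq₀ hNp).squarefree_of_dvd hdvd

/-- For every finite solvable group G there is a finite group H with a faithful irreducible character χ whose degree squared equals the index of the centre Z(H) (so χ is fully ramified over the centre), such that G is isomorphic to a subgroup of H/Z(H), the primes dividing the orders of H, of Z(H) and of G are the same, and the order of Z(H) is squarefree. -/
theorem result {G : Type u} [Group G] [Finite G] (hsolv : Group.IsSolvable G) : ∃ (H : Type u) (_ : Group H) (_ : Finite H) (χ : Cfsg.IrrCharacter H), (∀ h : H, (χ : H → ℂ) h = (χ : H → ℂ) 1 → h = 1) ∧ (Cfsg.charDegree (χ : H → ℂ)) ^ 2 = (Subgroup.center H).index ∧ (∃ f : G →* H ⧸ Subgroup.center H, Function.Injective f) ∧ (∀ p : ℕ, p.Prime → ((p ∣ Nat.card H ↔ p ∣ Nat.card G) ∧ (p ∣ Nat.card (Subgroup.center H) ↔ p ∣ Nat.card G))) ∧ Squarefree (Nat.card (Subgroup.center H)) := by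
  obtain ⟨H, hHg, hHf, ψ, hψ, h1, h2, h3, h4, h5⟩ := main (Nat.card G) G hsolv rfl
  exact ⟨H, hHg, hHf, ⟨ψ, hψ⟩, h1, h2, h3, h4, h5⟩

end Cfsg.Agent.S4561
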