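import Mathlib
import Cfsg.Statements.S4563
import Cfsg.Agent.S0006
import Cfsg.Agent.Lib.Helper24.FullyRamifiedHall

set_option autoImplicit false
set_option linter.style.haveILetI false
open Cfsg

namespace Cfsg.Agent.S4563

open Cfsg.Agent.Helper24 Cfsg.Agent.Helper24.FullRam Cfsg.Agent.Helper5 Cfsg.Agent.Helper18

/-- Let χ be an irreducible character of the finite group H that is fully ramified over the normal subgroup Z: the restriction of χ to Z is e times an irreducible character of Z with e ^ 2 equal to the index of Z. If K is a proper normal subgroup of H containing Z and χ is induced from a character of K, then H/K is solvable; in particular, if K is solvable then so is H. -/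
theorem result {H : Type*} [Group H] [Fintype H] (Z : Subgroup H) [Z.Normal] (χ : Cfsg.IrrCharacter H) (hfr : ∃ (θ : Cfsg.IrrCharacter ↥Z) (e : ℕ), e ^ 2 = Z.index ∧ ∀ z : ↥Z, (χ : H → ℂ) z = (e : ℂ) * (θ : ↥Z → ℂ) z) (K : Subgroup H) [K.Normal] [Fintype K] (hZK : Z ≤ K) (hK : K ≠ ⊤) (φ : ↥K → ℂ) (hφ : Cfsg.IsCharacter ↥K φ) (hind : Cfsg.indFun K φ = (χ : H → ℂ)) : Group.IsSolvable (H ⧸ K) ∧ (Group.IsSolvable ↥K → Group.IsSolvable H) := by
  classical
  letI : Fintype Z := Fintype.ofFinite Z
  obtain ⟨θ, e, he, hres⟩ := hfr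
  have key : ∀ p : ℕ, p.Prime →
      ∃ M : Subgroup (H ⧸ K), M.index = p ^ (Nat.card (H ⧸ K)).factorization p := by
    intro p hp
    haveI := Fact.mk hp
    have hB : ∀ R : Subgroup H, IsPGroup p R → ∀ [Fintype (K.subgroupOf (Z ⊔ R))]
        (ψ : K.subgroupOf (Z ⊔ R) → ℂ), IsIrrCharacter (K.subgroupOf (Z ⊔ R)) ψ →
        ∃ n : ℕ, classInner
            (fun x : K.subgroupOf (Z ⊔ R) => (χ : H → ℂ) ((x : (Z ⊔ R : Subgroup H)) : H)) ψ =
          n * (K.subgroupOf (Z ⊔ R)).relIndex (inertia (K.subgroupOf (Z ⊔ R)) ψ) := by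
      intro R _ inst ψ hψ
      have := induced_restrict_dvd K hφ (Z ⊔ R) (isCharacter_of_isIrrCharacter hψ)
        (inertia (K.subgroupOf (Z ⊔ R)) ψ) (fun t ht => (mem_inertia _ _ t).mp ht)
      rw [hind] at this
      exact this
    exact exists_subgroup_index_eq Z K hZK χ.2 θ.2 he hres p hB
  have hsol : Group.IsSolvable (H ⧸ K) := Cfsg.Agent.S0006.result key
  refine ⟨hsol, fun hKsol => ?_⟩
  exact Group.isSolvable_of_ker_le_range K.subtype (QuotientGroup.mk' K)
    (by rw [QuotientGroup.ker_mk', Subgroup.range_subtype])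

end Cfsg.Agent.S4563
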