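import Mathlib
import Cfsg.Statements.S4564
import Cfsg.Agent.Lib.Helper24.FullyRamifiedHall

set_option autoImplicit false
set_option linter.style.haveILetI false
open Cfsg

namespace Cfsg.Agent.S4564

open Cfsg.Agent.Helper24 Cfsg.Agent.Helper24.FullRam Cfsg.Agent.Helper5 Cfsg.Agent.Helper18

/-- Let χ be an irreducible character of the finite group H that is fully ramified over the normal subgroup Z: the restriction of χ to Z is e times an irreducible character of Z with e ^ 2 equal to the index of Z. Let K be a normal subgroup of H containing Z and P a cyclic Sylow p-subgroup of H/K. Then P has a complement in H/K: a subgroup meeting P trivially whose product with P is the whole group. -/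
theorem result {H : Type*} [Group H] [Finite H] (Z : Subgroup H) [Z.Normal] (χ : Cfsg.IrrCharacter H) (hfr : ∃ (θ : Cfsg.IrrCharacter ↥Z) (e : ℕ), e ^ 2 = Z.index ∧ ∀ z : ↥Z, (χ : H → ℂ) z = (e : ℂ) * (θ : ↥Z → ℂ) z) (K : Subgroup H) [K.Normal] (hZK : Z ≤ K) (p : ℕ) [Fact p.Prime] (P : Sylow p (H ⧸ K)) (hcyc : IsCyclic P) : ∃ M : Subgroup (H ⧸ K), M.IsComplement' (P : Subgroup (H ⧸ K)) := by
  classical
  letI : Fintype H := Fintype.ofFinite H
  letI : Fintype Z := Fintype.ofFinite Z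
  obtain ⟨θ, e, he, hres⟩ := hfr
  have hB : ∀ R : Subgroup H, IsPGroup p R → ∀ [Fintype (K.subgroupOf (Z ⊔ R))]
      (φ : K.subgroupOf (Z ⊔ R) → ℂ), IsIrrCharacter (K.subgroupOf (Z ⊔ R)) φ →
      ∃ n : ℕ, classInner
          (fun x : K.subgroupOf (Z ⊔ R) => (χ : H → ℂ) ((x : (Z ⊔ R : Subgroup H)) : H)) φ =
        n * (K.subgroupOf (Z ⊔ R)).relIndex (inertia (K.subgroupOf (Z ⊔ R)) φ) := by
    intro R hRp inst φ hφ
    have hZS : Z ≤ Z ⊔ R := le_sup_left
    letI : Fintype ↥(Z ⊔ R) := Fintype.ofFinite _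
    letI : Fintype (Z.subgroupOf (Z ⊔ R)) := Fintype.ofFinite _
    have hZ'K' : Z.subgroupOf (Z ⊔ R) ≤ K.subgroupOf (Z ⊔ R) := fun x hx => hZK hx
    let εZ : Z.subgroupOf (Z ⊔ R) ≃* Z := Subgroup.subgroupOfEquivOfLe hZS
    have hΞ : IsCharacter ↥(Z ⊔ R) (fun s : ↥(Z ⊔ R) => (χ : H → ℂ) s) :=
      isCharacter_restrict (Z ⊔ R) (isCharacter_of_isIrrCharacter χ.2)
    have hΞZ : ∀ z : Z.subgroupOf (Z ⊔ R),
        (fun s : ↥(Z ⊔ R) => (χ : H → ℂ) s) z = (e : ℂ) * ((θ : Z → ℂ) ∘ εZ) z := by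
      intro z
      exact hres (εZ z)
    have hΞ0 : ∀ s : ↥(Z ⊔ R), s ∉ Z.subgroupOf (Z ⊔ R) →
        (fun s : ↥(Z ⊔ R) => (χ : H → ℂ) s) s = 0 := by
      intro s hs
      exact vanish_off Z χ.2 θ.2 he hres hs
    have hcycS := isCyclic_quotient_of_sylow Z K hZK P hcyc hRp
    exact hB_of_cyclic (Z.subgroupOf (Z ⊔ R)) (K.subgroupOf (Z ⊔ R)) hZ'K' hΞ hΞZ hΞ0 hcycS hφ
  obtain ⟨M, hM⟩ := exists_subgroup_index_eq Z K hZK χ.2 θ.2 he hres p hB
  refine ⟨M, ?_⟩
  have hcardP : Nat.card P = p ^ (K.index).factorization p := P.card_eq_multiplicity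
  have h1 : Nat.card M * Nat.card P = Nat.card (H ⧸ K) := by
    rw [hcardP, ← hM]
    exact M.card_mul_index
  apply Subgroup.isComplement'_of_coprime h1
  have h2 := (P : Subgroup (H ⧸ K)).card_mul_index
  have h3 : Nat.card M = (P : Subgroup (H ⧸ K)).index := by
    have hP0 : 0 < Nat.card P := Nat.card_pos
    have : Nat.card P * Nat.card M = Nat.card P * (P : Subgroup (H ⧸ K)).index := by
      rw [h2, mul_comm, h1]
    exact Nat.eq_of_mul_eq_mul_left hP0 this
  rw [h3]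
  exact P.card_coprime_index.symm

end Cfsg.Agent.S4564
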