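import Mathlib
import Cfsg.Statements.S4566
import Cfsg.Agent.Lib.Helper23.Schur

set_option autoImplicit false
open Cfsg
open Cfsg.Agent.Helper23

namespace Cfsg.Agent.S4566

/-- Let N be a central subgroup of the finite group G, ψ a faithful irreducible (hence degree-one) character of N, and χ an irreducible character of G whose restriction to N contains ψ. If g ∈ G and some x ∈ G has commutator x⁻¹ g⁻¹ x g in N but different from 1, then χ g = 0. -/
theorem result {G : Type*} [Group G] [Fintype G] (N : Subgroup G) [Fintype N] (hN : N ≤ Subgroup.center G) (ψ : Cfsg.IrrCharacter ↥N) (hfaith : ∀ n : ↥N, (ψ : ↥N → ℂ) n = (ψ : ↥N → ℂ) 1 → n = 1) (χ : Cfsg.IrrCharacter G) (hover : Cfsg.classInner (fun n : ↥N => (χ : G → ℂ) n) (ψ : ↥N → ℂ) ≠ 0) (g x : G) (hcomm : x⁻¹ * g⁻¹ * x * g ∈ N) (hne : x⁻¹ * g⁻¹ * x * g ≠ 1) : (χ : G → ℂ) g = 0 := by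
  classical
  set X : G → ℂ := (χ : G → ℂ) with hX
  have hXirr : Cfsg.IsIrrCharacter G X := χ.2
  set Y : N → ℂ := (ψ : N → ℂ) with hY
  have hYirr : Cfsg.IsIrrCharacter N Y := ψ.2
  have hX1 := irr_one_ne_zero X hXirr
  have hY1 := irr_one_ne_zero Y hYirr
  let lam : N → ℂ := fun a => X a / X 1
  let mu : N → ℂ := fun a => Y a / Y 1
  have hlam : ∀ (a : N) (g : G), X (a * g) = lam a * X g :=
    fun a g => irr_central_mul X hXirr a (hN a.2) g
  have hcenN : ∀ a : N, a ∈ Subgroup.center N := by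
    intro a
    rw [Subgroup.mem_center_iff]
    intro b
    ext
    simp only [Subgroup.coe_mul]
    exact (Subgroup.mem_center_iff.1 (hN a.2)) b
  have hmu : ∀ a b : N, Y (a * b) = mu a * Y b :=
    fun a b => irr_central_mul Y hYirr a (hcenN a) b
  have lam_mul : ∀ a b : N, lam (a * b) = lam a * lam b := by
    intro a b
    simp only [lam]
    rw [Subgroup.coe_mul, hlam a b]
    simp only [lam]
    field_simp
  have mu_mul : ∀ a b : N, mu (a * b) = mu a * mu b := by
    intro a b
    simp only [mu]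
    rw [hmu a b]
    simp only [mu]
    field_simp
  have mu_one : mu 1 = 1 := div_self hY1
  have mu_pow : ∀ (a : N) (k : ℕ), mu (a ^ k) = mu a ^ k := by
    intro a k
    induction k with
    | zero => simp [mu_one]
    | succ k ih => rw [pow_succ, mu_mul, ih, pow_succ]
  have mu_norm : ∀ a : N, ‖mu a‖ = 1 := by
    intro a
    have h1 : mu a ^ Fintype.card N = 1 := by
      rw [← mu_pow, pow_card_eq_one, mu_one]
    exact Complex.norm_eq_one_of_pow_eq_one h1 Fintype.card_ne_zero
  have mu_conj : ∀ a : N, (starRingEnd ℂ) (mu a) * mu a = 1 := by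
    intro a
    rw [Complex.conj_mul', mu_norm a]
    simp
  have hXa : ∀ a : N, X a = lam a * X 1 := by
    intro a
    simp only [lam]
    field_simp
  have hYa : ∀ a : N, Y a = mu a * Y 1 := by
    intro a
    simp only [mu]
    field_simp
  have hS : ∑ a : N, lam a * (starRingEnd ℂ) (mu a) ≠ 0 := by
    intro h0
    apply hover
    unfold Cfsg.classInner
    have : ∑ a : N, X (a : G) * (starRingEnd ℂ) (Y a) =
        (X 1 * (starRingEnd ℂ) (Y 1)) * ∑ a : N, lam a * (starRingEnd ℂ) (mu a) := by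
      rw [Finset.mul_sum]
      apply Finset.sum_congr rfl
      intro a _
      rw [hXa a, hYa a, map_mul]
      ring
    rw [this, h0]
    simp
  have hlm : ∀ a : N, lam a = mu a := by
    intro a₀
    by_contra hne
    apply hS
    set f : N → ℂ := fun a => lam a * (starRingEnd ℂ) (mu a) with hf
    have hfm : ∀ a b : N, f (a * b) = f a * f b := by
      intro a b
      simp only [hf, lam_mul, mu_mul, map_mul]
      ring
    have hsum : ∑ a : N, f a = f a₀ * ∑ a : N, f a := by
      rw [Finset.mul_sum]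
      rw [← Equiv.sum_comp (Equiv.mulLeft a₀) f]
      apply Finset.sum_congr rfl
      intro a _
      simp [hfm]
    have hfa : f a₀ ≠ 1 := by
      intro h1
      apply hne
      have h2 : lam a₀ * ((starRingEnd ℂ) (mu a₀) * mu a₀) = mu a₀ := by
        rw [← mul_assoc]
        change f a₀ * mu a₀ = mu a₀
        rw [h1, one_mul]
      rw [mu_conj, mul_one] at h2
      exact h2
    have h3 : (1 - f a₀) * ∑ a : N, f a = 0 := by
      rw [sub_mul, one_mul, ← hsum, sub_self]
    rcases mul_eq_zero.1 h3 with h | h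
    · exact absurd (sub_eq_zero.1 h).symm hfa
    · exact h
  set z : G := x⁻¹ * g⁻¹ * x * g with hz
  have hzN : z⁻¹ ∈ N := inv_mem hcomm
  have e1 : x⁻¹ * g * x⁻¹⁻¹ = g * z⁻¹ := by
    rw [hz]; group
  have e2 : g * z⁻¹ = z⁻¹ * g := (Subgroup.mem_center_iff.1 (hN hzN)) g
  have e3 : X g = lam ⟨z⁻¹, hzN⟩ * X g := by
    conv_lhs => rw [← irr_conj X hXirr g x⁻¹, e1, e2]
    exact hlam ⟨z⁻¹, hzN⟩ g
  have hne1 : lam ⟨z⁻¹, hzN⟩ ≠ 1 := by
    rw [hlm]
    intro h1
    have h2 : Y ⟨z⁻¹, hzN⟩ = Y 1 := by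
      rw [hYa, h1, one_mul]
    have h3 := hfaith ⟨z⁻¹, hzN⟩ h2
    apply hne
    have h4 : z⁻¹ = 1 := congrArg Subtype.val h3
    rw [inv_eq_one] at h4
    exact h4
  have h5 : (1 - lam ⟨z⁻¹, hzN⟩) * X g = 0 := by
    rw [sub_mul, one_mul, ← e3, sub_self]
  rcases mul_eq_zero.1 h5 with h | h
  · exact absurd (sub_eq_zero.1 h).symm hne1
  · exact h

end Cfsg.Agent.S4566
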