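import Mathlib
import Cfsg.Statements.S4567
import Cfsg.Agent.Lib.Helper5.CentralCount

set_option autoImplicit false
open Cfsg

namespace Cfsg.Agent.S4567

open Cfsg.Agent.Helper5.CentralCount Cfsg.Agent.Helper24

/-- Let N be a central subgroup of the finite group G and ψ a faithful irreducible (hence degree-one) character of N. Call a coset g N special when every x ∈ G whose commutator x⁻¹ g⁻¹ x g lies in N actually commutes with g (this depends only on the coset). Then the number of irreducible characters of G whose restriction to N contains ψ equals the number of conjugacy classes of G/N consisting of special cosets. -/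
theorem result {G : Type*} [Group G] [Fintype G] (N : Subgroup G) [N.Normal] [Fintype N] (hN : N ≤ Subgroup.center G) (ψ : Cfsg.IrrCharacter ↥N) (hfaith : ∀ n : ↥N, (ψ : ↥N → ℂ) n = (ψ : ↥N → ℂ) 1 → n = 1) : Nat.card {χ : Cfsg.IrrCharacter G // Cfsg.classInner (fun n : ↥N => (χ : G → ℂ) n) (ψ : ↥N → ℂ) ≠ 0} = Nat.card {C : ConjClasses (G ⧸ N) // ∃ g : G, ConjClasses.mk (g : G ⧸ N) = C ∧ ∀ x : G, x⁻¹ * g⁻¹ * x * g ∈ N → x * g = g * x} := by
  classical
  letI := irrFintype (G := G)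
  letI : Fintype (G ⧸ N) := Fintype.ofFinite _
  -- the character side
  have h1 := part1 hN ψ.2
  simp only [part2, part3 hN ψ.2 hfaith] at h1
  rw [part4 hN] at h1
  -- the class side
  have hT : ∀ a b : G ⧸ N, (∃ g : G, (g : G ⧸ N) = b * a * b⁻¹ ∧ Sp N g) ↔
      (∃ g : G, (g : G ⧸ N) = a ∧ Sp N g) := by
    intro a b
    obtain ⟨y, rfl⟩ := QuotientGroup.mk_surjective b
    constructor
    · rintro ⟨g, hg, hsp⟩
      have hsp' := sp_conj g y⁻¹ hsp
      rw [inv_inv] at hsp'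
      refine ⟨y⁻¹ * g * y, ?_, hsp'⟩
      rw [QuotientGroup.mk_mul, QuotientGroup.mk_mul, hg, QuotientGroup.mk_inv]
      group
    · rintro ⟨g, hg, hsp⟩
      refine ⟨y * g * y⁻¹, ?_, sp_conj g y hsp⟩
      rw [QuotientGroup.mk_mul, QuotientGroup.mk_mul, hg, QuotientGroup.mk_inv]
  have h2 := sum_cnt_of_invariant (X := G ⧸ N)
    (fun a => ∃ g : G, (g : G ⧸ N) = a ∧ Sp N g) hT
  have h3 : (∑ a : G ⧸ N, (if (∃ g : G, (g : G ⧸ N) = a ∧ Sp N g) then (cnt a : ℂ) else 0)) =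
      ((Fintype.card (G ⧸ N) * Nat.card {C : ConjClasses (G ⧸ N) //
        ∃ a : G ⧸ N, ConjClasses.mk a = C ∧ ∃ g : G, (g : G ⧸ N) = a ∧ Sp N g} : ℕ) : ℂ) := by
    rw [← h2]
    push_cast
    refine Finset.sum_congr rfl fun a _ => ?_
    split_ifs <;> simp
  rw [h3] at h1
  have hcard : Nat.card G = Nat.card N * Fintype.card (G ⧸ N) := by
    rw [← Nat.card_eq_fintype_card (α := G ⧸ N), ← Subgroup.index_eq_card,
      Subgroup.card_mul_index]
  have hN0 : (Nat.card N : ℂ) ≠ 0 := by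
    have : Nat.card N ≠ 0 := Nat.card_pos.ne'
    exact_mod_cast this
  have hQ0 : (Fintype.card (G ⧸ N) : ℂ) ≠ 0 := by
    have : Fintype.card (G ⧸ N) ≠ 0 := Fintype.card_ne_zero
    exact_mod_cast this
  have h4 : (Nat.card {χ : IrrCharacter G //
      classInner (fun n : N => (χ : G → ℂ) n) (ψ : N → ℂ) ≠ 0} : ℂ) =
      (Nat.card {C : ConjClasses (G ⧸ N) //
        ∃ a : G ⧸ N, ConjClasses.mk a = C ∧ ∃ g : G, (g : G ⧸ N) = a ∧ Sp N g} : ℂ) := by
    rw [hcard, Nat.cast_mul, Nat.cast_mul] at h1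
    have h5 : (Nat.card N : ℂ) * ((Nat.card N : ℂ) * (Fintype.card (G ⧸ N) : ℂ)) ≠ 0 :=
      mul_ne_zero hN0 (mul_ne_zero hN0 hQ0)
    apply mul_left_cancel₀ h5
    linear_combination -h1
  have h6 : Nat.card {χ : IrrCharacter G //
      classInner (fun n : N => (χ : G → ℂ) n) (ψ : N → ℂ) ≠ 0} =
      Nat.card {C : ConjClasses (G ⧸ N) //
        ∃ a : G ⧸ N, ConjClasses.mk a = C ∧ ∃ g : G, (g : G ⧸ N) = a ∧ Sp N g} := by
    exact_mod_cast h4
  rw [h6]
  apply Nat.card_congr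
  apply Equiv.subtypeEquivRight
  intro C
  constructor
  · rintro ⟨a, ha, g, hg, hsp⟩
    exact ⟨g, by rw [hg]; exact ha, hsp⟩
  · rintro ⟨g, hg, hsp⟩
    exact ⟨(g : G ⧸ N), hg, g, rfl, hsp⟩

end Cfsg.Agent.S4567
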