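import Mathlib
import Cfsg.Statements.S4571
import Cfsg.Agent.Lib.Helper18.BlockRankQuot
import Cfsg.Agent.S0941

set_option autoImplicit false
open Cfsg

namespace Cfsg.Agent.S4571

open Cfsg.Agent.Helper24 Cfsg.Agent.Helper18 Cfsg.Agent.Helper23.Blk
open scoped ComplexConjugate

/-- if `Q C_G(Q) = G` for a normal `p`-subgroup `Q`, the centralizer has `p`-power index -/
theorem index_centralizer_of_sup {G : Type*} [Group G] [Finite G] {p : ℕ} (hp : p.Prime)
    (Q : Subgroup G) [Q.Normal] (hQ : IsPGroup p Q)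
    (hsup : Q ⊔ Subgroup.centralizer (Q : Set G) = ⊤) :
    ∃ k : ℕ, (Subgroup.centralizer (Q : Set G)).index = p ^ k := by
  haveI : Fact p.Prime := ⟨hp⟩
  have h1 : (Subgroup.centralizer (Q : Set G)).index =
      (Subgroup.centralizer (Q : Set G)).relIndex Q := by
    rw [← Subgroup.relIndex_top_right, ← hsup, Subgroup.relIndex_sup_right]
  obtain ⟨n, hn⟩ := IsPGroup.iff_card.mp hQ
  have h2 : (Subgroup.centralizer (Q : Set G)).relIndex Q ∣ p ^ n := by
    rw [← hn]
    exact Subgroup.index_dvd_card _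
  obtain ⟨k, -, hk⟩ := (Nat.dvd_prime_pow hp).mp h2
  exact ⟨k, by rw [h1, hk]⟩

theorem result {G : Type*} [Group G] [Finite G] (p : ℕ) [Fact p.Prime] (M : Ideal Cfsg.AlgInt) (hM : Cfsg.IsPModular p M) (Q : Subgroup G) [Q.Normal] (hQ : IsPGroup p Q) (hsup : Q ⊔ Subgroup.centralizer (Q : Set G) = ⊤) : Cfsg.blockRank p (Cfsg.principalBlock M G) = Cfsg.blockRank p (Cfsg.principalBlock M (G ⧸ Q)) := by
  classical
  haveI : Fintype G := Fintype.ofFinite G
  haveI : Fintype (G ⧸ Q) := Fintype.ofFinite _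
  have hp : p.Prime := hM.1
  have hC := index_centralizer_of_sup hp Q hQ hsup
  have h0941 := (Cfsg.Agent.S0941.result p M hM Q hQ hC).1
  apply blockRank_quotient_eq Q hM hQ hC isPBlock_principalBlock
  intro η
  have hiff := h0941 (principalChar (G ⧸ Q)) η
  constructor
  · intro hη
    have h1 : SameBlock M ((principalChar (G ⧸ Q) : IrrCharacter (G ⧸ Q)) : G ⧸ Q → ℂ)
        (η : G ⧸ Q → ℂ) := hη
    have h2 := hiff.1 h1
    exact ⟨⟨_, isIrrCharacter_inflate Q η.2⟩, h2, rfl⟩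
  · rintro ⟨ψ, hψ, hψη⟩
    have h1 : SameBlock M (fun _ : G => (1 : ℂ)) (ψ : G → ℂ) := hψ
    rw [hψη] at h1
    exact hiff.2 h1

end Cfsg.Agent.S4571
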