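import Mathlib
import Cfsg.Statements.S4574
import Cfsg.Agent.Lib.Helper23.GaloisChar
import Cfsg.Agent.Lib.Helper24.CharCentral

set_option autoImplicit false
open Cfsg

namespace Cfsg.Agent.S4574

open Cfsg.Agent.Helper24 Cfsg.Agent.Helper23
open scoped ComplexConjugate

/-- The comparison function: `d²` on the centre of the character, `0` on the zeros, `1` elsewhere. -/
noncomputable def cmp {G : Type*} (χ : G → ℂ) (d : ℕ) (g : G) : ℝ := by
  classical exact if ‖χ g‖ = (d : ℝ) then (d : ℝ) ^ 2 else if χ g = 0 then 0 else 1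

theorem sum_cmp {G : Type*} [Fintype G] (χ : G → ℂ) (d : ℕ) (hd : 1 ≤ d)
    [DecidablePred fun g : G => ‖χ g‖ = (d : ℝ)] [DecidablePred fun g : G => χ g = 0] :
    ∑ g : G, cmp χ d g = ((d : ℝ) ^ 2 - 1) * ((Finset.univ.filter
      (fun g : G => ‖χ g‖ = (d : ℝ))).card : ℝ) + (Fintype.card G : ℝ) -
      ((Finset.univ.filter (fun g : G => χ g = 0)).card : ℝ) := by
  classical
  have hpt : ∀ g : G, cmp χ d g = ((d : ℝ) ^ 2 - 1) * (if ‖χ g‖ = (d : ℝ) then 1 else 0) + 1 -
      (if χ g = 0 then 1 else 0) := by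
    intro g
    unfold cmp
    by_cases h1 : ‖χ g‖ = (d : ℝ)
    · have h2 : χ g ≠ 0 := by
        intro h0
        rw [h0, norm_zero] at h1
        have : (1 : ℝ) ≤ d := by exact_mod_cast hd
        linarith
      simp only [if_pos h1, if_neg h2]; ring
    · by_cases h2 : χ g = 0
      · simp only [if_neg h1, if_pos h2]; ring
      · simp only [if_neg h1, if_neg h2]; ring
  simp only [hpt]
  rw [Finset.sum_sub_distrib, Finset.sum_add_distrib, ← Finset.mul_sum, Finset.sum_boole,
    Finset.sum_boole, Finset.sum_const, Finset.card_univ, nsmul_eq_mul, mul_one]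

theorem main {G : Type*} [Group G] [Fintype G] (χ : G → ℂ) (hχ : Cfsg.IsIrrCharacter G χ)
    [DecidablePred fun g : G => ‖χ g‖ = (Cfsg.charDegree χ : ℝ)]
    [DecidablePred fun g : G => χ g = 0] :
    (Cfsg.charDegree χ ^ 2 - 1) * (Finset.univ.filter (fun g : G => ‖χ g‖ = (Cfsg.charDegree χ : ℝ))).card ≤ (Finset.univ.filter (fun g : G => χ g = 0)).card ∧ ((∀ g : G, ‖χ g‖ = 0 ∨ ‖χ g‖ = 1 ∨ ‖χ g‖ = (Cfsg.charDegree χ : ℝ)) → (Cfsg.charDegree χ ^ 2 - 1) * (Finset.univ.filter (fun g : G => ‖χ g‖ = (Cfsg.charDegree χ : ℝ))).card = (Finset.univ.filter (fun g : G => χ g = 0)).card) := by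
  have hsumcmp := sum_cmp χ (charDegree χ) (charDegree_pos hχ)
  classical
  have hd1 : 1 ≤ charDegree χ := charDegree_pos hχ
  have hχ1 : χ 1 = (charDegree χ : ℂ) := irr_one_eq_charDegree hχ
  -- orthogonality
  have hN : ∑ g : G, ‖χ g‖ ^ 2 = (Fintype.card G : ℝ) := by
    have h1 := irr_orthogonality hχ hχ
    rw [if_pos rfl, classInner] at h1
    have hcard : (Nat.card G : ℂ) ≠ 0 := by exact_mod_cast (Nat.card_pos (α := G)).ne'
    have h2 : ∑ g : G, χ g * conj (χ g) = (Nat.card G : ℂ) := by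
      field_simp at h1
      exact h1
    have h3 : ∀ g : G, χ g * conj (χ g) = ((‖χ g‖ ^ 2 : ℝ) : ℂ) := by
      intro g
      rw [Complex.mul_conj, Complex.normSq_eq_norm_sq]
    simp only [h3] at h2
    rw [← Complex.ofReal_sum, Nat.card_eq_fintype_card] at h2
    exact_mod_cast h2
  -- the representation
  obtain ⟨n, ρ, hirr, hρ⟩ := hχ
  have hfin : Module.finrank ℂ (Fin n → ℂ) = charDegree χ := by
    have h1 : ρ.character 1 = (charDegree χ : ℂ) := by rw [hρ]; exact hχ1
    rw [Representation.char_one] at h1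
    exact_mod_cast h1
  obtain ⟨U, hUdef⟩ : ∃ U : Finset ℕ, U = (Finset.range (Nat.card G)).filter
      (fun k => Nat.Coprime k (Nat.card G)) := ⟨_, rfl⟩
  have hUcop : ∀ k ∈ U, Nat.Coprime k (Nat.card G) := by
    intro k hk; rw [hUdef, Finset.mem_filter] at hk; exact hk.2
  have hUpos : (0 : ℝ) < U.card := by
    have : U.Nonempty := by
      rcases Nat.lt_or_ge 1 (Nat.card G) with h | h
      · exact ⟨1, by rw [hUdef, Finset.mem_filter, Finset.mem_range]; exact ⟨h, Nat.coprime_one_left _⟩⟩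
      · have h1 : Nat.card G = 1 := le_antisymm h Nat.card_pos
        exact ⟨0, by rw [hUdef, Finset.mem_filter, Finset.mem_range, h1]; exact ⟨by norm_num, by norm_num⟩⟩
    exact_mod_cast Finset.card_pos.2 this
  -- averaging over powers
  have havg : (U.card : ℝ) * ∑ g : G, ‖χ g‖ ^ 2 = ∑ g : G, ∑ k ∈ U, ‖χ (g ^ k)‖ ^ 2 := by
    rw [Finset.sum_comm]
    have : ∀ k ∈ U, ∑ g : G, ‖χ (g ^ k)‖ ^ 2 = ∑ g : G, ‖χ g‖ ^ 2 := by
      intro k hk
      exact (powCoprime (hUcop k hk).symm).sum_comp (fun g => ‖χ g‖ ^ 2)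
    rw [Finset.sum_congr rfl this, Finset.sum_const, nsmul_eq_mul]
  -- pointwise lower bound
  have hpt : ∀ g : G, (U.card : ℝ) * cmp χ (charDegree χ) g ≤ ∑ k ∈ U, ‖χ (g ^ k)‖ ^ 2 := by
    intro g
    unfold cmp
    by_cases h1 : ‖χ g‖ = (charDegree χ : ℝ)
    · rw [if_pos h1]
      have h2 : ∀ k : ℕ, ‖χ (g ^ k)‖ = (charDegree χ : ℝ) := by
        intro k
        have := norm_char_pow_of_norm_eq ρ g (by rw [hρ, hfin]; exact h1) k
        rw [hρ, hfin] at this
        exact this
      simp only [h2, Finset.sum_const, nsmul_eq_mul]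
      exact le_refl _
    · rw [if_neg h1]
      by_cases h2 : χ g = 0
      · rw [if_pos h2, mul_zero]
        exact Finset.sum_nonneg fun k _ => by positivity
      · rw [if_neg h2, mul_one]
        have := card_le_sum_normSq_char_pow ρ g (by rw [hρ]; exact h2)
        rw [← hUdef, hρ] at this
        exact this
  have hineq : ∑ g : G, cmp χ (charDegree χ) g ≤ (Fintype.card G : ℝ) := by
    have h1 : (U.card : ℝ) * ∑ g : G, cmp χ (charDegree χ) g ≤
        (U.card : ℝ) * (Fintype.card G : ℝ) := by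
      rw [← hN, havg, Finset.mul_sum]
      exact Finset.sum_le_sum fun g _ => hpt g
    exact le_of_mul_le_mul_left h1 hUpos
  have hcast : (((charDegree χ) ^ 2 - 1 : ℕ) : ℝ) = ((charDegree χ : ℕ) : ℝ) ^ 2 - 1 := by
    rw [Nat.cast_sub (Nat.one_le_pow _ _ hd1)]
    push_cast
    ring
  constructor
  · have : ((((charDegree χ) ^ 2 - 1) * (Finset.univ.filter
        (fun g : G => ‖χ g‖ = ((charDegree χ : ℕ) : ℝ))).card : ℕ) : ℝ) ≤
        ((Finset.univ.filter (fun g : G => χ g = 0)).card : ℝ) := by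
      rw [Nat.cast_mul, hcast]
      rw [hsumcmp] at hineq
      linarith
    exact_mod_cast this
  · intro htri
    have heq : ∑ g : G, cmp χ (charDegree χ) g = (Fintype.card G : ℝ) := by
      rw [← hN]
      refine Finset.sum_congr rfl fun g _ => ?_
      unfold cmp
      by_cases h1 : ‖χ g‖ = (charDegree χ : ℝ)
      · rw [if_pos h1, h1]
      · rw [if_neg h1]
        by_cases h2 : χ g = 0
        · rw [if_pos h2, h2, norm_zero]; norm_num
        · rw [if_neg h2]
          rcases htri g with h | h | h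
          · exact absurd (norm_eq_zero.1 h) h2
          · rw [h]; norm_num
          · exact absurd h h1
    have : ((((charDegree χ) ^ 2 - 1) * (Finset.univ.filter
        (fun g : G => ‖χ g‖ = ((charDegree χ : ℕ) : ℝ))).card : ℕ) : ℝ) =
        ((Finset.univ.filter (fun g : G => χ g = 0)).card : ℝ) := by
      rw [Nat.cast_mul, hcast]
      rw [hsumcmp] at heq
      linarith
    exact_mod_cast this

/-- Let χ be an irreducible character of the finite group G, of degree d, and let Z(χ) be the set of elements g with |χ g| = d (the centre of χ). Then χ vanishes on at least (d ^ 2 - 1) · |Z(χ)| elements of G, with equality when every value |χ g| is 0, 1 or d. -/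
theorem result {G : Type*} [Group G] [Fintype G] [DecidableEq G] (χ : G → ℂ) (hχ : Cfsg.IsIrrCharacter G χ) : (Cfsg.charDegree χ ^ 2 - 1) * (Finset.univ.filter (fun g : G => ‖χ g‖ = (Cfsg.charDegree χ : ℝ))).card ≤ (Finset.univ.filter (fun g : G => χ g = 0)).card ∧ ((∀ g : G, ‖χ g‖ = 0 ∨ ‖χ g‖ = 1 ∨ ‖χ g‖ = (Cfsg.charDegree χ : ℝ)) → (Cfsg.charDegree χ ^ 2 - 1) * (Finset.univ.filter (fun g : G => ‖χ g‖ = (Cfsg.charDegree χ : ℝ))).card = (Finset.univ.filter (fun g : G => χ g = 0)).card) :=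
  main χ hχ

end Cfsg.Agent.S4574
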