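import Mathlib
import Cfsg.Statements.S4575
import Cfsg.Agent.Lib.Helper18.OlssonTwo6
import Cfsg.Agent.Lib.Helper18.OlssonTwo7
import Cfsg.Agent.Lib.Helper23.BlockDefectGroup2

set_option autoImplicit false
open Cfsg

namespace Cfsg.Agent.S4575

/-- Let B be a 2-block of the finite group G (relative to a maximal ideal M of the algebraic integers containing 2) of defect d with defect group D. Let z be an element of D commuting with every element of D, and let b be a block of the centralizer of z with defect group D that induces B (a major subsection (z, b)). If the number of irreducible characters in B exceeds the 2-regular rank of b by at most three, then B contains at most 2 ^ d irreducible characters. -/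
theorem result {G : Type*} [Group G] [Finite G] (M : Ideal Cfsg.AlgInt) (hM : Cfsg.IsPModular 2 M) (B : Set (Cfsg.IrrCharacter G)) (hB : Cfsg.IsPBlock M B) (D : Subgroup G) (hD : Cfsg.IsDefectGroup 2 M B D) (z : G) (hzD : z ∈ D) (hzc : ∀ d ∈ D, d * z = z * d) (b : Set (Cfsg.IrrCharacter ↥(Subgroup.centralizer ({z} : Set G)))) (hb : Cfsg.IsInducedBlock M (Subgroup.centralizer ({z} : Set G)) b B) (hbD : Cfsg.IsDefectGroup 2 M b (D.subgroupOf (Subgroup.centralizer ({z} : Set G)))) (h : Nat.card B ≤ Cfsg.blockRank 2 b + 3) : Nat.card B ≤ 2 ^ Cfsg.blockDefect 2 B := by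
  classical
  haveI : Fintype G := Fintype.ofFinite G
  letI : Fintype ↥(Subgroup.centralizer ({z} : Set G)) := Fintype.ofFinite _
  letI : Fintype (Cfsg.IrrCharacter G) := Cfsg.Agent.Helper24.irrFintype
  have hp : (2 : ℕ).Prime := Nat.prime_two
  have hDp : IsPGroup 2 D := Cfsg.Agent.Helper23.Blk.isPGroup_of_isDefectGroup hM hD
  have hz : ∃ k : ℕ, orderOf z = 2 ^ k := by
    obtain ⟨k, hk⟩ := (IsPGroup.iff_orderOf.1 hDp) ⟨z, hzD⟩
    exact ⟨k, by rw [← hk, Subgroup.orderOf_mk]⟩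
  have hDle : D ≤ Subgroup.centralizer ({z} : Set G) := by
    intro d hd
    rw [Subgroup.mem_centralizer_iff]
    intro y hy
    rw [Set.mem_singleton_iff] at hy
    rw [hy]
    exact (hzc d hd).symm
  have hc1 := Cfsg.Agent.Helper23.Blk.card_defectGroup hM hB hD
  have hc2 := Cfsg.Agent.Helper23.Blk.card_defectGroup hM hb.1 hbD
  have hc3 : Nat.card (D.subgroupOf (Subgroup.centralizer ({z} : Set G))) = Nat.card D :=
    Nat.card_congr (Subgroup.subgroupOfEquivOfLe hDle).toEquiv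
  have hdef : Cfsg.blockDefect 2 b = Cfsg.blockDefect 2 B := by
    rw [hc3, hc1] at hc2
    exact (Nat.pow_right_injective hp.two_le hc2).symm
  obtain ⟨T, hT1, hT2, hT3, hT4, hT5, hT6⟩ :=
    Cfsg.Agent.Helper18.OlssonTwo.major_two_data hM hz
      (Subgroup.centralizer ({z} : Set G)) rfl hb hdef
  obtain ⟨S, hS⟩ : ∃ S : Finset (Cfsg.IrrCharacter G), S = Finset.univ.filter (· ∈ B) := ⟨_, rfl⟩
  have hSmem : ∀ χ, χ ∈ S ↔ χ ∈ B := fun χ => by rw [hS]; simp
  have hcardB : Nat.card B = S.card := by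
    rw [Nat.card_eq_fintype_card]
    exact Fintype.card_of_subtype S hSmem
  rw [hcardB] at h ⊢
  exact Cfsg.Agent.Helper18.OlssonTwo.arith_card_sub_rank_le_three S T
    (fun χ => Cfsg.blockHeight 2 B (χ : G → ℂ)) (Cfsg.blockDefect 2 B) (Cfsg.blockRank 2 b)
    (hT1 S hSmem) (fun χ hχ => hT2 χ ((hSmem χ).1 hχ))
    (fun χ hχ => hT3 χ ((hSmem χ).1 hχ)) (fun χ hχ => hT4 χ ((hSmem χ).1 hχ))
    (fun χ hχ hh S' hS' hn => hT5 χ ((hSmem χ).1 hχ) hh S'
      (fun ψ hψ => (hSmem ψ).1 (hS' hψ)) hn)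
    (fun χ hχ ψ₀ hψ₀ hh hne => hT6 χ ((hSmem χ).1 hχ) ψ₀ ((hSmem ψ₀).1 hψ₀) hh hne)
    (fun _ => by
      obtain ⟨ψ₀, hψ₀, hh⟩ := Cfsg.Agent.Helper23.Blk.exists_height_zero hM hB
      exact ⟨ψ₀, (hSmem ψ₀).2 hψ₀, hh⟩) h

end Cfsg.Agent.S4575
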