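import Mathlib
import Cfsg.Statements.S4581
import Cfsg.Agent.Lib.Helper24.OddMcKayN
-- import your own Cfsg.Agent.* helpers here

set_option autoImplicit false
open Cfsg

namespace Cfsg.Agent.S4581

/-- Let G be a finite solvable group, P a Sylow 2-subgroup and N its normalizer. Then G and N have the same number of real-valued irreducible characters of odd degree; and every odd-degree irreducible character of G is real-valued exactly when the derived subgroup of P equals the Frattini subgroup of P and P is its own normalizer in G. -/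
theorem result {G : Type*} [Group G] [Finite G] [Group.IsSolvable G] (P : Sylow 2 G) :
    Nat.card {χ : Cfsg.IrrCharacter G // (∀ g : G, ((χ : G → ℂ) g).im = 0) ∧ Odd (Cfsg.charDegree (χ : G → ℂ))} =
      Nat.card {ψ : Cfsg.IrrCharacter (Subgroup.normalizer ((P : Subgroup G) : Set G)) // (∀ g, ((ψ : Subgroup.normalizer ((P : Subgroup G) : Set G) → ℂ) g).im = 0) ∧ Odd (Cfsg.charDegree (ψ : Subgroup.normalizer ((P : Subgroup G) : Set G) → ℂ))} ∧
    ((∀ χ : Cfsg.IrrCharacter G, Odd (Cfsg.charDegree (χ : G → ℂ)) → ∀ g : G, ((χ : G → ℂ) g).im = 0) ↔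
      (commutator (P : Subgroup G) = frattini (P : Subgroup G) ∧ Subgroup.normalizer ((P : Subgroup G) : Set G) = (P : Subgroup G))) := by
  classical
  have hPp : IsPGroup 2 (P : Subgroup G) := P.isPGroup'
  have hreal := Cfsg.Agent.Helper24.OddMcKay.real_count P
  refine ⟨hreal, ?_⟩
  -- transfer between the normalizer and `P` when they are equal
  have key : ∀ (H : Subgroup G), H = (P : Subgroup G) →
      ((∀ ψ : Cfsg.IrrCharacter H, Odd (Cfsg.charDegree ψ.1) → ∀ g, (ψ.1 g).im = 0) ↔
        (∀ ψ : Cfsg.IrrCharacter (P : Subgroup G), Odd (Cfsg.charDegree ψ.1) →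
          ∀ g, (ψ.1 g).im = 0)) := by
    intro H hH
    subst hH
    exact Iff.rfl
  -- the counting argument
  have hcount : Subgroup.normalizer ((P : Subgroup G) : Set G) = (P : Subgroup G) →
      ((∀ χ : Cfsg.IrrCharacter G, Odd (Cfsg.charDegree (χ : G → ℂ)) →
          ∀ g : G, ((χ : G → ℂ) g).im = 0) ↔
        (∀ ψ : Cfsg.IrrCharacter (Subgroup.normalizer ((P : Subgroup G) : Set G)),
          Odd (Cfsg.charDegree ψ.1) → ∀ g, (ψ.1 g).im = 0)) := by
    intro hself
    have hid := Cfsg.Agent.Helper24.OddMcKay.id_count P hself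
    constructor
    · intro h
      apply Cfsg.Agent.Helper24.OddMcKay.forall_of_card_eq
        (fun ψ : Cfsg.IrrCharacter (Subgroup.normalizer ((P : Subgroup G) : Set G)) =>
          Odd (Cfsg.charDegree ψ.1)) (fun ψ => ∀ g, (ψ.1 g).im = 0)
      rw [← hreal, ← hid]
      apply Nat.card_congr
      exact Equiv.subtypeEquivRight (fun χ => ⟨fun hh => hh.2, fun hh => ⟨h χ hh, hh⟩⟩)
    · intro h
      apply Cfsg.Agent.Helper24.OddMcKay.forall_of_card_eq
        (fun χ : Cfsg.IrrCharacter G => Odd (Cfsg.charDegree χ.1))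
        (fun χ => ∀ g, (χ.1 g).im = 0)
      rw [hreal, hid]
      apply Nat.card_congr
      exact Equiv.subtypeEquivRight (fun ψ => ⟨fun hh => hh.2, fun hh => ⟨h ψ hh, hh⟩⟩)
  constructor
  · intro h
    have hself : Subgroup.normalizer ((P : Subgroup G) : Set G) = (P : Subgroup G) := by
      by_contra hne
      obtain ⟨χ, hodd, hnr⟩ := Cfsg.Agent.Helper24.OddMcKay.exists_nonreal_of_ne P hne
      exact hnr ((Cfsg.Agent.Helper24.OddMcKay.isFix_conj_iff χ.1).mpr (h χ hodd))
    refine ⟨?_, hself⟩
    have h1 := (hcount hself).mp h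
    have h2 := (key _ hself).mp h1
    exact Cfsg.Agent.Helper24.OddMcKay.comm_eq_frattini_of_real hPp h2
  · rintro ⟨hcomm, hself⟩
    apply (hcount hself).mpr
    apply (key _ hself).mpr
    intro ψ hodd
    exact Cfsg.Agent.Helper24.OddMcKay.real_of_comm_eq_frattini hPp hcomm ψ hodd

end Cfsg.Agent.S4581
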