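import Mathlib
import Cfsg.Statements.S4583
import Cfsg.Agent.Lib.Helper23.BlockThirdMain
import Cfsg.Agent.Lib.Helper24.CharInduced
import Cfsg.Agent.Lib.Helper5.Clifford

set_option autoImplicit false
open Cfsg Cfsg.Agent.Helper23.Blk Cfsg.Agent.Helper24 Cfsg.Agent.Helper5
open scoped ComplexConjugate
set_option linter.style.haveILetI false

namespace Cfsg.Agent.S4583


/-- `p`-regular elements of `N ⊔ P`, `P` a `p`-group, lie in the normal subgroup `N` -/
theorem mem_of_pRegular {G : Type*} [Group G] [Finite G] (N : Subgroup G) [N.Normal] (p : ℕ)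
    [Fact p.Prime] (P : Subgroup G) (hP : IsPGroup p P) {h : G} (hh : h ∈ N ⊔ P)
    (hreg : ¬ p ∣ orderOf h) : h ∈ N := by
  have hmem : h ∈ ((N ⊔ P : Subgroup G) : Set G) := hh
  rw [Subgroup.normal_mul] at hmem
  obtain ⟨n, hn, x, hx, rfl⟩ := hmem
  obtain ⟨k, hk⟩ := hP ⟨x, hx⟩
  have hxk : x ^ p ^ k = 1 := by
    have := congrArg Subtype.val hk
    simpa using this
  have h1 : (n * x) ^ p ^ k ∈ N := by
    rw [← QuotientGroup.eq_one_iff, QuotientGroup.mk_pow, QuotientGroup.mk_mul,
      (QuotientGroup.eq_one_iff n).2 hn, one_mul, ← QuotientGroup.mk_pow, hxk]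
    rfl
  have hcop : (orderOf (n * x)).Coprime (p ^ k) := by
    apply Nat.Coprime.pow_right
    exact ((Nat.Prime.coprime_iff_not_dvd (Fact.out : p.Prime)).2 hreg).symm
  obtain ⟨m, hm⟩ := exists_pow_eq_self_of_coprime hcop.symm
  show n * x ∈ N
  rw [← hm]
  exact N.pow_mem h1 m

/-- Let N be a normal subgroup of the finite group G, p a prime, M a maximal ideal of the algebraic integers containing p, and P a Sylow p-subgroup of G. Let θ be an irreducible character of N of degree prime to p lying in the principal p-block of N, and suppose θ extends to the subgroup NP (some irreducible character of NP restricts to θ). Then some irreducible character χ of G of degree prime to p in the principal p-block of G lies over θ (θ is a constituent of the restriction of χ to N). -/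
theorem result {G : Type*} [Group G] [Finite G] (N : Subgroup G) [N.Normal] (p : ℕ) [Fact p.Prime] (M : Ideal Cfsg.AlgInt) (hM : Cfsg.IsPModular p M) (P : Sylow p G)
    (θ : Cfsg.IrrCharacter N) (hθ : θ ∈ Cfsg.principalBlock M N) (hdeg : ¬ p ∣ Cfsg.charDegree (θ : N → ℂ))
    (hext : ∃ η : Cfsg.IrrCharacter ↥(N ⊔ (P : Subgroup G)), ∀ n : N, (η : ↥(N ⊔ (P : Subgroup G)) → ℂ) (Subgroup.inclusion le_sup_left n) = (θ : N → ℂ) n) :
    ∃ χ : Cfsg.IrrCharacter G, χ ∈ Cfsg.principalBlock M G ∧ ¬ p ∣ Cfsg.charDegree (χ : G → ℂ) ∧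
      haveI := Fintype.ofFinite N; Cfsg.classInner (fun n : N => (χ : G → ℂ) n) (θ : N → ℂ) ≠ 0 := by
  classical
  haveI : Fintype G := Fintype.ofFinite G
  haveI hMp : M.IsPrime := hM.2.1.isPrime
  obtain ⟨η, hη⟩ := hext
  haveI : Fintype ↥(N ⊔ (P : Subgroup G)) := Fintype.ofFinite _
  letI : Fintype (IrrCharacter G) := irrFintype
  show ∃ χ : Cfsg.IrrCharacter G, χ ∈ Cfsg.principalBlock M G ∧
      ¬ p ∣ Cfsg.charDegree (χ : G → ℂ) ∧
      @Cfsg.classInner N _ (Fintype.ofFinite N) (fun n : N => (χ : G → ℂ) n) (θ : N → ℂ) ≠ 0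
  generalize Fintype.ofFinite N = instN
  letI : Fintype N := instN
  letI : Fintype (IrrCharacter ↥(N ⊔ (P : Subgroup G))) := irrFintype
  letI : Fintype (IrrCharacter N) := irrFintype
  have hNH : N ≤ N ⊔ (P : Subgroup G) := le_sup_left
  have hηc : IsCharacter ↥(N ⊔ (P : Subgroup G)) (η : ↥(N ⊔ (P : Subgroup G)) → ℂ) :=
    isCharacter_of_isIrrCharacter η.2
  have hθc : IsCharacter N (θ : N → ℂ) := isCharacter_of_isIrrCharacter θ.2
  have hφcf : IsClassFunction G (indFun (N ⊔ (P : Subgroup G)) (η : ↥(N ⊔ (P : Subgroup G)) → ℂ)) :=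
    isClassFunction_indFun _ _
  -- multiplicities
  have hmult : ∀ χ : IrrCharacter G, ∃ n : ℕ,
      classInner (indFun (N ⊔ (P : Subgroup G)) (η : ↥(N ⊔ (P : Subgroup G)) → ℂ))
        (χ : G → ℂ) = n ∧
      (n ≠ 0 → classInner (fun n : N => (χ : G → ℂ) n) (θ : N → ℂ) ≠ 0) := by
    intro χ
    have hχc : IsCharacter G (χ : G → ℂ) := isCharacter_of_isIrrCharacter χ.2
    have hχH : IsCharacter ↥(N ⊔ (P : Subgroup G))
        (fun h : ↥(N ⊔ (P : Subgroup G)) => (χ : G → ℂ) h) := isCharacter_restrict _ hχc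
    obtain ⟨n, hn⟩ := classInner_char_nat hηc hχH
    refine ⟨n, ?_, ?_⟩
    · rw [frobenius_reciprocity _ _ (isClassFunction_of_isCharacter hχc)]
      exact hn
    · intro hn0
      have h1 : classInner (fun h : ↥(N ⊔ (P : Subgroup G)) => (χ : G → ℂ) h)
          (η : ↥(N ⊔ (P : Subgroup G)) → ℂ) ≠ 0 := by
        rw [classInner_char_comm hχH hηc, hn]
        exact_mod_cast hn0
      obtain ⟨ρ, hρ, hdec⟩ := exists_add_of_constituent hχH η.2 h1
      have hres : (fun n : N => (χ : G → ℂ) n) =
          (θ : N → ℂ) + (fun n : N => ρ (Subgroup.inclusion hNH n)) := by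
        funext n
        have := congrFun hdec (Subgroup.inclusion hNH n)
        simp only [Pi.add_apply] at this ⊢
        rw [← hη n]
        exact this
      rw [hres]
      apply classInner_add_ne_zero hθc (isCharacter_comp (Subgroup.inclusion hNH) hρ) hθc
      rw [irr_orthogonality θ.2 θ.2, if_pos rfl]
      exact one_ne_zero
  -- the sum over the p-regular elements, first evaluation
  have hS1 : ∑ g : G, pRegInd G p g *
      indFun (N ⊔ (P : Subgroup G)) (η : ↥(N ⊔ (P : Subgroup G)) → ℂ) g =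
      ∑ χ : IrrCharacter G,
        classInner (indFun (N ⊔ (P : Subgroup G)) (η : ↥(N ⊔ (P : Subgroup G)) → ℂ))
          (χ : G → ℂ) * ((χ : G → ℂ) 1 * omega (χ : G → ℂ) (pRegInd G p)) := by
    have hexp := classFunction_expansion hφcf
    have hval : ∀ g, indFun (N ⊔ (P : Subgroup G)) (η : ↥(N ⊔ (P : Subgroup G)) → ℂ) g =
        ∑ χ : IrrCharacter G,
          classInner (indFun (N ⊔ (P : Subgroup G)) (η : ↥(N ⊔ (P : Subgroup G)) → ℂ))
            (χ : G → ℂ) * (χ : G → ℂ) g := by
      intro g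
      have := congrFun hexp g
      rw [Finset.sum_apply] at this
      simpa using this
    have hstep : ∀ g, pRegInd G p g *
        indFun (N ⊔ (P : Subgroup G)) (η : ↥(N ⊔ (P : Subgroup G)) → ℂ) g =
        ∑ χ : IrrCharacter G,
          classInner (indFun (N ⊔ (P : Subgroup G)) (η : ↥(N ⊔ (P : Subgroup G)) → ℂ))
            (χ : G → ℂ) * (pRegInd G p g * (χ : G → ℂ) g) := by
      intro g
      rw [hval g, Finset.mul_sum]
      apply Finset.sum_congr rfl
      intro χ _
      ring
    rw [Finset.sum_congr rfl (fun g _ => hstep g), Finset.sum_comm]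
    apply Finset.sum_congr rfl
    intro χ _
    unfold omega
    rw [mul_div_cancel₀ _ (irr_one_ne_zero χ.2), Finset.mul_sum]
  -- second evaluation
  have hconj : ∀ g : G, conj (pRegInd G p g) = pRegInd G p g := by
    intro g
    unfold pRegInd
    split_ifs <;> simp
  have hS2 : ∑ g : G, pRegInd G p g *
      indFun (N ⊔ (P : Subgroup G)) (η : ↥(N ⊔ (P : Subgroup G)) → ℂ) g =
      ((N ⊔ (P : Subgroup G)).index : ℂ) *
        ((θ : N → ℂ) 1 * omega (θ : N → ℂ) (pRegInd N p)) := by
    have hfr := frobenius_reciprocity (N ⊔ (P : Subgroup G))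
      (η : ↥(N ⊔ (P : Subgroup G)) → ℂ) (isClassFunction_pRegInd (G := G) (p := p))
    unfold classInner at hfr
    simp only [hconj] at hfr
    have hsumH : ∑ h : ↥(N ⊔ (P : Subgroup G)),
        (η : ↥(N ⊔ (P : Subgroup G)) → ℂ) h * pRegInd G p (h : G) =
        ∑ n : N, pRegInd N p n * (θ : N → ℂ) n := by
      haveI : Fintype (N.subgroupOf (N ⊔ (P : Subgroup G))) := Fintype.ofFinite _
      rw [sum_eq_sum_subgroup (N.subgroupOf (N ⊔ (P : Subgroup G)))]
      · apply Fintype.sum_equiv (Subgroup.subgroupOfEquivOfLe hNH).toEquiv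
        intro k
        have h1 : (Subgroup.inclusion hNH ((Subgroup.subgroupOfEquivOfLe hNH) k)) =
            (k : ↥(N ⊔ (P : Subgroup G))) := by
          apply Subtype.ext
          rfl
        have h2 := hη ((Subgroup.subgroupOfEquivOfLe hNH) k)
        rw [h1] at h2
        have h3 := congrFun (pRegInd_comp_subtype (G := G) (p := p) N)
          ((Subgroup.subgroupOfEquivOfLe hNH) k)
        simp only [MulEquiv.toEquiv_eq_coe, MulEquiv.coe_toEquiv]
        rw [h2, ← h3, mul_comm]
        rfl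
      · intro x hx
        have hxN : (x : G) ∉ N := fun h => hx (Subgroup.mem_subgroupOf.2 h)
        have hdiv : p ∣ orderOf (x : G) := by
          by_contra hreg
          exact hxN (mem_of_pRegular N p (P : Subgroup G) P.isPGroup' x.2 hreg)
        unfold pRegInd
        rw [if_pos hdiv, mul_zero]
    have hθ1 : (θ : N → ℂ) 1 ≠ 0 := irr_one_ne_zero θ.2
    have hcardG : (Nat.card G : ℂ) ≠ 0 := card_ne_zero
    have hcardH : (Nat.card ↥(N ⊔ (P : Subgroup G)) : ℂ) ≠ 0 := card_ne_zero
    have hidx : (Nat.card G : ℂ) = (Nat.card ↥(N ⊔ (P : Subgroup G)) : ℂ) *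
        ((N ⊔ (P : Subgroup G)).index : ℂ) := by
      rw [← Nat.cast_mul, Subgroup.card_mul_index]
    unfold omega
    rw [mul_div_cancel₀ _ hθ1, ← hsumH]
    have hcomm : ∑ g : G, pRegInd G p g *
        indFun (N ⊔ (P : Subgroup G)) (η : ↥(N ⊔ (P : Subgroup G)) → ℂ) g =
        ∑ g : G, indFun (N ⊔ (P : Subgroup G)) (η : ↥(N ⊔ (P : Subgroup G)) → ℂ) g *
          pRegInd G p g := by
      apply Finset.sum_congr rfl
      intro g _
      ring
    rw [hcomm]
    have hfr' : ∑ g : G, indFun (N ⊔ (P : Subgroup G)) (η : ↥(N ⊔ (P : Subgroup G)) → ℂ) g *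
          pRegInd G p g = (Nat.card G : ℂ) * ((Nat.card ↥(N ⊔ (P : Subgroup G)) : ℂ)⁻¹ *
        ∑ h : ↥(N ⊔ (P : Subgroup G)),
          (η : ↥(N ⊔ (P : Subgroup G)) → ℂ) h * pRegInd G p (h : G)) := by
      rw [← hfr, ← mul_assoc, mul_inv_cancel₀ hcardG, one_mul]
    rw [hfr', hidx]
    field_simp
  by_contra hcon
  push Not at hcon
  have hreg : IsClassFunction G (pRegInd G p) := isClassFunction_pRegInd
  have hregR : ∀ g, MemLocalRing M (pRegInd G p g) := fun g => memLocalRing_pRegInd g
  have hterm : ∀ χ : IrrCharacter G, MemLocalIdeal M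
      (classInner (indFun (N ⊔ (P : Subgroup G)) (η : ↥(N ⊔ (P : Subgroup G)) → ℂ))
          (χ : G → ℂ) * ((χ : G → ℂ) 1 * omega (χ : G → ℂ) (pRegInd G p))) := by
    intro χ
    obtain ⟨n, hn, hn'⟩ := hmult χ
    rw [hn]
    by_cases hχB : χ ∈ principalBlock M G
    · by_cases hpd : p ∣ charDegree (χ : G → ℂ)
      · apply memLocalIdeal_mul_left (memLocalRing_natCast n)
        apply memLocalIdeal_mul_right _ (memLocalRing_omega χ hreg hregR)
        rw [irr_one_eq_charDegree χ.2]
        exact (memLocalIdeal_natCast_iff hM _).2 hpd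
      · have h0 := hcon χ hχB hpd
        have hn0 : n = 0 := by
          by_contra h
          exact hn' h h0
        rw [hn0, Nat.cast_zero, zero_mul]
        exact memLocalIdeal_zero ne_top
    · rw [omega_pRegInd_eq_zero hM χ hχB, mul_zero, mul_zero]
      exact memLocalIdeal_zero ne_top
  have hsum : MemLocalIdeal M (∑ g : G, pRegInd G p g *
      indFun (N ⊔ (P : Subgroup G)) (η : ↥(N ⊔ (P : Subgroup G)) → ℂ) g) := by
    rw [hS1]
    exact memLocalIdeal_sum _ _ (fun χ _ => hterm χ)
  rw [hS2] at hsum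
  have hregN : IsClassFunction N (pRegInd N p) := isClassFunction_pRegInd
  have hregNR : ∀ g, MemLocalRing M (pRegInd N p g) := fun g => memLocalRing_pRegInd g
  have hω : ¬ MemLocalIdeal M (omega (θ : N → ℂ) (pRegInd N p)) := by
    intro h
    have hsb : SameBlock M (θ : N → ℂ) ((principalChar N : IrrCharacter N) : N → ℂ) :=
      sameBlock_symm hθ
    have h1 := memLocalIdeal_omega_sub hsb hregN hregNR
    have h2 := memLocalIdeal_sub h h1
    rw [sub_sub_cancel] at h2
    exact not_memLocalIdeal_omega_principal hM h2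
  have hidx : ¬ p ∣ (N ⊔ (P : Subgroup G)).index := by
    intro hdvd
    have h1 : (N ⊔ (P : Subgroup G)).index ∣ (P : Subgroup G).index :=
      Subgroup.index_dvd_of_le le_sup_right
    exact P.not_dvd_index (dvd_trans hdvd h1)
  apply not_memLocalIdeal_mul (memLocalRing_natCast _)
    (memLocalRing_mul (by rw [irr_one_eq_charDegree θ.2]; exact memLocalRing_natCast _)
      (memLocalRing_omega θ hregN hregNR)) _ _ hsum
  · rw [memLocalIdeal_natCast_iff hM]
    exact hidx
  · apply not_memLocalIdeal_mul (by rw [irr_one_eq_charDegree θ.2]; exact memLocalRing_natCast _)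
      (memLocalRing_omega θ hregN hregNR) _ hω
    rw [irr_one_eq_charDegree θ.2, memLocalIdeal_natCast_iff hM]
    exact hdeg

end Cfsg.Agent.S4583
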