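import Mathlib
import Cfsg.Statements.S4584
import Cfsg.Agent.Lib.Helper23.CyclicExt
import Cfsg.Agent.Lib.Helper19.PGroupBasic

set_option autoImplicit false
open Cfsg

namespace Cfsg.Agent.S4584

open Cfsg.Agent.Helper23
open scoped commutatorElement

/-- A power of `p` strictly between `p^2` and `p^4` (divisibility-wise) is `p^3`. -/
theorem eq_pow_three {p m : ℕ} (hp : p.Prime) (h1 : p ^ 2 ∣ m) (h2 : m ∣ p ^ 4) (h3 : m ≠ p ^ 2)
    (h4 : m ≠ p ^ 4) : m = p ^ 3 := by
  obtain ⟨k, hk, rfl⟩ := (Nat.dvd_prime_pow hp).1 h2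
  have hk2 : 2 ≤ k := (Nat.pow_dvd_pow_iff_le_right hp.one_lt).1 h1
  have : k ≠ 2 := fun h => h3 (by rw [h])
  have : k ≠ 4 := fun h => h4 (by rw [h])
  have : k = 3 := by omega
  rw [this]

/-- `Z ⊔ ⟨x⟩` is abelian. -/
theorem center_sup_zpowers_comm {P : Type*} [Group P] (x : P) :
    ∀ a ∈ Subgroup.center P ⊔ Subgroup.zpowers x, ∀ b ∈ Subgroup.center P ⊔ Subgroup.zpowers x,
      a * b = b * a := by
  have h1 : Subgroup.center P ⊔ Subgroup.zpowers x ≤ Subgroup.centralizer {x} := by
    rw [sup_le_iff, Subgroup.zpowers_le]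
    exact ⟨Subgroup.center_le_centralizer _, Subgroup.mem_centralizer_singleton_iff.2 rfl⟩
  have h2 : Subgroup.center P ⊔ Subgroup.zpowers x ≤
      Subgroup.centralizer ((Subgroup.center P ⊔ Subgroup.zpowers x : Subgroup P) : Set P) := by
    rw [sup_le_iff, Subgroup.zpowers_le]
    refine ⟨Subgroup.center_le_centralizer _, ?_⟩
    rw [Subgroup.mem_centralizer_iff]
    intro a ha
    exact Subgroup.mem_centralizer_singleton_iff.1 (h1 ha)
  intro a ha b hb
  exact ((Subgroup.mem_centralizer_iff.1 (h2 hb)) a ha)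

theorem backward {P : Type*} [Group P] [Finite P] (p : ℕ) [Fact p.Prime]
    (hP : Nat.card P = p ^ 4) (hZ : (Subgroup.center P).index = p ^ 2) :
    Nat.card (commutator P) = p := by
  have hp : p.Prime := Fact.out
  have hPg : IsPGroup p P := IsPGroup.of_card hP
  have hZcard : Nat.card (Subgroup.center P) = p ^ 2 := by
    have := Subgroup.card_mul_index (Subgroup.center P)
    rw [hZ, hP] at this
    have hpp : 0 < p ^ 2 := pow_pos hp.pos 2
    apply Nat.eq_of_mul_eq_mul_right hpp
    rw [this]; ring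
  -- an element outside the centre
  have hex : ∃ x : P, x ∉ Subgroup.center P := by
    by_contra hcon
    push_neg at hcon
    have : Subgroup.center P = ⊤ := eq_top_iff.2 fun x _ => hcon x
    rw [this, Subgroup.index_top] at hZ
    have : 1 < p ^ 2 := Nat.one_lt_pow (by norm_num) hp.one_lt
    omega
  obtain ⟨x, hx⟩ := hex
  obtain ⟨A, hAdef⟩ : ∃ A : Subgroup P, A = Subgroup.center P ⊔ Subgroup.zpowers x := ⟨_, rfl⟩
  have hAcomm : ∀ a ∈ A, ∀ b ∈ A, a * b = b * a := by
    rw [hAdef]; exact center_sup_zpowers_comm x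
  have hZA : Subgroup.center P ≤ A := by rw [hAdef]; exact le_sup_left
  have hxA : x ∈ A := by
    rw [hAdef]; exact le_sup_right (a := Subgroup.center P) (Subgroup.mem_zpowers x)
  have hAne : A ≠ ⊤ := by
    intro h
    apply hx
    rw [Subgroup.mem_center_iff]
    intro g
    exact hAcomm g (h ▸ Subgroup.mem_top g) x hxA
  have hAcard : Nat.card A = p ^ 3 := by
    apply eq_pow_three hp
    · rw [← hZcard]; exact Subgroup.card_dvd_of_le hZA
    · rw [← hP]; exact Subgroup.card_subgroup_dvd_card A
    · intro h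
      have : Subgroup.center P = A := by
        apply Subgroup.eq_of_le_of_card_ge hZA
        rw [h, hZcard]
      exact hx (this ▸ hxA)
    · intro h
      apply hAne
      apply Subgroup.eq_top_of_card_eq
      rw [h, hP]
  have hAidx : A.index = p := by
    have := Subgroup.card_mul_index A
    rw [hAcard, hP] at this
    have hpp : 0 < p ^ 3 := pow_pos hp.pos 3
    apply Nat.eq_of_mul_eq_mul_left hpp
    rw [this]; ring
  haveI : A.Normal := Cfsg.Agent.Helper19.normal_of_index_eq_prime hPg A hAidx
  have key := card_center_mul_card_commutator hp A hAcomm hAidx hZA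
  rw [hZcard, hAcard] at key
  have hpp : 0 < p ^ 2 := pow_pos hp.pos 2
  apply Nat.eq_of_mul_eq_mul_left hpp
  rw [key]; ring

/-- A group of order `p^3` whose centre has order divisible by `p^2` is commutative. -/
theorem comm_of_card_cube {A : Type*} [Group A] [Finite A] {p : ℕ} (hp : p.Prime)
    (hA : Nat.card A = p ^ 3) (hZ : p ^ 2 ∣ Nat.card (Subgroup.center A)) (a b : A) :
    a * b = b * a := by
  have h1 := Subgroup.card_mul_index (Subgroup.center A)
  rw [hA] at h1
  obtain ⟨m, hm⟩ := hZ
  have hidx : (Subgroup.center A).index ∣ p := by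
    rw [hm] at h1
    have h2 : p ^ 2 * (m * (Subgroup.center A).index) = p ^ 2 * p := by rw [← mul_assoc, h1]; ring
    have h3 := Nat.eq_of_mul_eq_mul_left (pow_pos hp.pos 2) h2
    exact Dvd.intro_left _ h3
  have hcyc : IsCyclic (A ⧸ Subgroup.center A) := by
    rcases (Nat.dvd_prime hp).1 hidx with h | h
    · have : Nat.card (A ⧸ Subgroup.center A) = 1 := by rw [← Subgroup.index_eq_card]; exact h
      have := Nat.card_eq_one_iff_unique.1 this
      haveI := this.1
      exact isCyclic_of_subsingleton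
    · haveI : Fact p.Prime := ⟨hp⟩
      have : Nat.card (A ⧸ Subgroup.center A) = p := by rw [← Subgroup.index_eq_card]; exact h
      exact isCyclic_of_prime_card this
  exact commutative_of_cyclic_center_quotient (QuotientGroup.mk' (Subgroup.center A))
    (by rw [QuotientGroup.ker_mk']) a b

theorem forward {P : Type*} [Group P] [Finite P] (p : ℕ) [Fact p.Prime]
    (hP : Nat.card P = p ^ 4) (hc : Nat.card (commutator P) = p) :
    (Subgroup.center P).index = p ^ 2 := by
  have hp : p.Prime := Fact.out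
  have hPg : IsPGroup p P := IsPGroup.of_card hP
  have hcZ : commutator P ≤ Subgroup.center P :=
    Cfsg.Agent.Helper19.normal_card_prime_le_center hPg (commutator P) hc
  -- an element outside the centre
  have hex : ∃ x : P, x ∉ Subgroup.center P := by
    by_contra hcon
    push_neg at hcon
    have hbot : commutator P = ⊥ := by
      rw [eq_bot_iff, commutator_def, Subgroup.commutator_le]
      intro a _ b _
      rw [Subgroup.mem_bot, commutatorElement_eq_one_iff_mul_comm]
      exact (Subgroup.mem_center_iff.1 (hcon b) a)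
    rw [hbot, Subgroup.card_bot] at hc
    exact hp.one_lt.ne' hc.symm
  obtain ⟨x, hx⟩ := hex
  obtain ⟨A, hAdef⟩ : ∃ A : Subgroup P, A = Subgroup.centralizer {x} := ⟨_, rfl⟩
  have hZA : Subgroup.center P ≤ A := by rw [hAdef]; exact Subgroup.center_le_centralizer _
  haveI : A.Normal := Subgroup.Normal.of_commutator_le P (hcZ.trans hZA)
  have hAne : A ≠ ⊤ := by
    intro h
    apply hx
    rw [Subgroup.mem_center_iff]
    intro g
    have : g ∈ A := h ▸ Subgroup.mem_top g
    rw [hAdef] at this
    exact Subgroup.mem_centralizer_singleton_iff.1 this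
  -- the commutator homomorphism
  have hmul : ∀ g h : P, ⁅g * h, x⁆ = ⁅g, x⁆ * ⁅h, x⁆ := by
    intro g h
    have hcen : ⁅h, x⁆ ∈ Subgroup.center P :=
      hcZ (Subgroup.commutator_mem_commutator (Subgroup.mem_top _) (Subgroup.mem_top _))
    have h1 := Subgroup.mem_center_iff.1 hcen g
    have h2 := Subgroup.mem_center_iff.1 hcen ⁅g, x⁆
    calc ⁅g * h, x⁆ = g * ⁅h, x⁆ * g⁻¹ * ⁅g, x⁆ := by
          simp only [commutatorElement_def]; group
      _ = ⁅h, x⁆ * g * g⁻¹ * ⁅g, x⁆ := by rw [h1]
      _ = ⁅h, x⁆ * ⁅g, x⁆ := by group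
      _ = ⁅g, x⁆ * ⁅h, x⁆ := by rw [h2]
  obtain ⟨φ, hφ⟩ : ∃ φ : P →* commutator P, ∀ g, ((φ g : commutator P) : P) = ⁅g, x⁆ :=
    ⟨MonoidHom.mk' (fun g => ⟨⁅g, x⁆,
      Subgroup.commutator_mem_commutator (Subgroup.mem_top _) (Subgroup.mem_top _)⟩)
      (fun g h => Subtype.ext (hmul g h)), fun g => rfl⟩
  have hker : φ.ker = A := by
    ext g
    rw [MonoidHom.mem_ker, hAdef, Subgroup.mem_centralizer_singleton_iff, ← Subtype.coe_inj, hφ,
      Subgroup.coe_one, commutatorElement_eq_one_iff_mul_comm]
  have hAidx : A.index = p := by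
    have h1 : A.index = Nat.card φ.range := by rw [← hker, Subgroup.index_ker]
    have h2 : Nat.card φ.range ∣ p := by
      rw [← hc]; exact Subgroup.card_subgroup_dvd_card _
    rcases (Nat.dvd_prime hp).1 h2 with h | h
    · rw [h] at h1
      exact absurd (Subgroup.index_eq_one.1 h1) hAne
    · rw [h1, h]
  have hAcard : Nat.card A = p ^ 3 := by
    have := Subgroup.card_mul_index A
    rw [hAidx, hP] at this
    apply Nat.eq_of_mul_eq_mul_right hp.pos
    rw [this]; ring
  -- A is abelian
  obtain ⟨B, hBdef⟩ : ∃ B : Subgroup P, B = Subgroup.center P ⊔ Subgroup.zpowers x := ⟨_, rfl⟩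
  have hxA : x ∈ A := by rw [hAdef]; exact Subgroup.mem_centralizer_singleton_iff.2 rfl
  have hBA : B ≤ A := by
    rw [hBdef, sup_le_iff, Subgroup.zpowers_le]; exact ⟨hZA, hxA⟩
  have hZB : Subgroup.center P ≤ B := by rw [hBdef]; exact le_sup_left
  have hxB : x ∈ B := by
    rw [hBdef]; exact le_sup_right (a := Subgroup.center P) (Subgroup.mem_zpowers x)
  have hBcent : B.subgroupOf A ≤ Subgroup.center A := by
    intro b hb
    rw [Subgroup.mem_subgroupOf] at hb
    rw [Subgroup.mem_center_iff]
    intro a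
    apply Subtype.ext
    rw [Subgroup.coe_mul, Subgroup.coe_mul]
    -- (b : P) ∈ Z ⊔ ⟨x⟩ commutes with a ∈ C(x)
    have hle : Subgroup.center P ⊔ Subgroup.zpowers x ≤ Subgroup.centralizer {(a : P)} := by
      rw [sup_le_iff, Subgroup.zpowers_le]
      refine ⟨Subgroup.center_le_centralizer _, ?_⟩
      rw [Subgroup.mem_centralizer_singleton_iff]
      have ha : (a : P) ∈ A := a.2
      have ha' : (a : P) ∈ Subgroup.centralizer {x} := by rw [← hAdef]; exact ha
      exact (Subgroup.mem_centralizer_singleton_iff.1 ha').symm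
    rw [hBdef] at hb
    exact (Subgroup.mem_centralizer_singleton_iff.1 (hle hb)).symm
  have hBcard : p ^ 2 ∣ Nat.card B := by
    have hBp : IsPGroup p B := hPg.to_subgroup B
    obtain ⟨j, hj⟩ := (IsPGroup.iff_card.1 hBp)
    obtain ⟨i, hi⟩ := (IsPGroup.iff_card.1 (hPg.to_subgroup (Subgroup.center P)))
    have h1 : p ∣ Nat.card (Subgroup.center P) := by
      rw [← hc]; exact Subgroup.card_dvd_of_le hcZ
    have hi1 : 1 ≤ i := by
      rcases Nat.eq_zero_or_pos i with h0 | h0
      · rw [h0, pow_zero] at hi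
        rw [hi] at h1
        exact absurd (Nat.dvd_one.1 h1) hp.one_lt.ne'
      · exact h0
    have h2 : Nat.card (Subgroup.center P) ∣ Nat.card B := Subgroup.card_dvd_of_le hZB
    rw [hi, hj] at h2
    have hij : i ≤ j := (Nat.pow_dvd_pow_iff_le_right hp.one_lt).1 h2
    have hne : i ≠ j := by
      intro h
      have : Subgroup.center P = B := by
        apply Subgroup.eq_of_le_of_card_ge hZB
        rw [hi, hj, h]
      exact hx (this ▸ hxB)
    rw [hj]
    exact pow_dvd_pow p (by omega)
  have hcenA : p ^ 2 ∣ Nat.card (Subgroup.center A) := by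
    have h1 : Nat.card (B.subgroupOf A) = Nat.card B :=
      Nat.card_congr (Subgroup.subgroupOfEquivOfLe hBA).toEquiv
    have h2 := Subgroup.card_dvd_of_le hBcent
    rw [h1] at h2
    exact hBcard.trans h2
  have hAcomm : ∀ a ∈ A, ∀ b ∈ A, a * b = b * a := by
    intro a ha b hb
    have := comm_of_card_cube hp hAcard hcenA ⟨a, ha⟩ ⟨b, hb⟩
    exact congrArg Subtype.val this
  have key := card_center_mul_card_commutator hp A hAcomm hAidx hZA
  rw [hc, hAcard] at key
  have hZcard : Nat.card (Subgroup.center P) = p ^ 2 := by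
    apply Nat.eq_of_mul_eq_mul_right hp.pos
    rw [key]; ring
  have := Subgroup.card_mul_index (Subgroup.center P)
  rw [hZcard, hP] at this
  apply Nat.eq_of_mul_eq_mul_left (pow_pos hp.pos 2)
  rw [this]; ring

/-- Let p be a prime and P a group of order p^4. Then the derived subgroup P' has order p if and only if the centre Z(P) has index p^2 in P. -/
theorem result {P : Type*} [Group P] [Finite P] (p : ℕ) [Fact p.Prime] (hP : Nat.card P = p ^ 4) :
    Nat.card (commutator P) = p ↔ (Subgroup.center P).index = p ^ 2 :=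
  ⟨forward p hP, backward p hP⟩

end Cfsg.Agent.S4584
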