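import Mathlib
import Cfsg.Statements.S4585
import Cfsg.Agent.S4584

set_option autoImplicit false
open Cfsg

namespace Cfsg.Agent.S4585

open Cfsg.Agent.Helper23
open scoped commutatorElement

/-- In a nilpotent group, a subgroup contained in its own commutator with the group is trivial. -/
theorem eq_bot_of_le_commutator_top {G : Type*} [Group G] [hG : Group.IsNilpotent G]
    (H : Subgroup G) (h : H ≤ ⁅H, (⊤ : Subgroup G)⁆) : H = ⊥ := by
  have key : ∀ n : ℕ, H ≤ Subgroup.lowerCentralSeries (⊤ : Subgroup G) n := by
    intro n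
    induction n with
    | zero => exact le_top
    | succ n ih =>
      rw [Subgroup.lowerCentralSeries_succ]
      exact h.trans (Subgroup.commutator_mono ih le_rfl)
  have := key (Group.nilpotencyClass G)
  rwa [Subgroup.lowerCentralSeries_nilpotencyClass, le_bot_iff] at this

/-- In a nilpotent group, a nontrivial normal subgroup strictly contains its commutator with
the group. -/
theorem commutator_top_lt {G : Type*} [Group G] [hG : Group.IsNilpotent G]
    (H : Subgroup G) [H.Normal] (h : H ≠ ⊥) : ⁅H, (⊤ : Subgroup G)⁆ < H := by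
  refine lt_of_le_of_ne (Subgroup.commutator_le_left H ⊤) ?_
  intro heq
  exact h (eq_bot_of_le_commutator_top H heq.ge)

/-- If `K < H` are subgroups of a finite `p`-group then `p * |K|` divides `|H|`. -/
theorem card_mul_dvd_of_lt {G : Type*} [Group G] [Finite G] {p : ℕ} [Fact p.Prime]
    (hG : IsPGroup p G) {K H : Subgroup G} (h : K < H) : p * Nat.card K ∣ Nat.card H := by
  have hp : p.Prime := Fact.out
  obtain ⟨i, hi⟩ := IsPGroup.iff_card.1 (hG.to_subgroup K)
  obtain ⟨j, hj⟩ := IsPGroup.iff_card.1 (hG.to_subgroup H)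
  have h1 : Nat.card K ∣ Nat.card H := Subgroup.card_dvd_of_le h.le
  rw [hi, hj] at h1 ⊢
  have hij : i ≤ j := (Nat.pow_dvd_pow_iff_le_right hp.one_lt).1 h1
  have hne : i ≠ j := by
    intro heq
    have : K = H := Subgroup.eq_of_le_of_card_ge h.le (by rw [hi, hj, heq])
    exact h.ne this
  rw [← pow_succ']
  exact pow_dvd_pow p (by omega)

/-- Let p be a prime and P a group of order p^4. Then P' has index p^2 in P if and only if P has maximal nilpotency class, that is, nilpotency class exactly 3. -/
theorem result {P : Type*} [Group P] [Finite P] (p : ℕ) [Fact p.Prime] (hP : Nat.card P = p ^ 4) :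
    (commutator P).index = p ^ 2 ↔ Group.nilpotencyClass P = 3 := by
  have hp : p.Prime := Fact.out
  have hPg : IsPGroup p P := IsPGroup.of_card hP
  haveI : Group.IsNilpotent P := hPg.isNilpotent
  have hγ1 : Subgroup.lowerCentralSeries (⊤ : Subgroup P) 1 = commutator P := rfl
  have hγ2 : Subgroup.lowerCentralSeries (⊤ : Subgroup P) 2 = ⁅commutator P, (⊤ : Subgroup P)⁆ := rfl
  have hγ3 : Subgroup.lowerCentralSeries (⊤ : Subgroup P) 3 =
      ⁅⁅commutator P, (⊤ : Subgroup P)⁆, (⊤ : Subgroup P)⁆ := rfl
  have hclass : Group.nilpotencyClass P = 3 ↔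
      (⁅⁅commutator P, (⊤ : Subgroup P)⁆, (⊤ : Subgroup P)⁆ = ⊥ ∧
        ⁅commutator P, (⊤ : Subgroup P)⁆ ≠ ⊥) := by
    rw [← hγ3, ← hγ2, Subgroup.lowerCentralSeries_eq_bot_iff_nilpotencyClass_le, Ne,
      Subgroup.lowerCentralSeries_eq_bot_iff_nilpotencyClass_le]
    omega
  rw [hclass]
  have hidx := Subgroup.card_mul_index (commutator P)
  rw [hP] at hidx
  constructor
  · intro h
    rw [h] at hidx
    have hc : Nat.card (commutator P) = p ^ 2 := by
      apply Nat.eq_of_mul_eq_mul_right (pow_pos hp.pos 2)
      rw [hidx]; ring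
    have hne1 : commutator P ≠ ⊥ := by
      intro h0
      rw [h0, Subgroup.card_bot] at hc
      have : 1 < p ^ 2 := Nat.one_lt_pow (by norm_num) hp.one_lt
      omega
    have hlt := commutator_top_lt (commutator P) hne1
    have hd := card_mul_dvd_of_lt hPg hlt
    rw [hc] at hd
    -- |γ₃| ∣ p
    have hγ3p : Nat.card (⁅commutator P, (⊤ : Subgroup P)⁆ : Subgroup P) ∣ p := by
      have : p * Nat.card (⁅commutator P, (⊤ : Subgroup P)⁆ : Subgroup P) ∣ p * p := by rwa [← sq]
      exact (Nat.mul_dvd_mul_iff_left hp.pos).1 this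
    have hne2 : ⁅commutator P, (⊤ : Subgroup P)⁆ ≠ ⊥ := by
      intro h0
      -- P' central, so Z has index p^2 and S4584 gives |P'| = p
      rw [Subgroup.commutator_eq_bot_iff_le_centralizer, Subgroup.coe_top,
        Subgroup.centralizer_univ] at h0
      have hZdvd : (Subgroup.center P).index ∣ p ^ 2 := by
        rw [← h]; exact Subgroup.index_dvd_of_le h0
      obtain ⟨k, hk, hZk⟩ := (Nat.dvd_prime_pow hp).1 hZdvd
      have hk2 : k = 2 := by
        by_contra hk2
        have hk1 : k = 0 ∨ k = 1 := by omega
        have hcyc : IsCyclic (P ⧸ Subgroup.center P) := by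
          rcases hk1 with h | h
          · rw [h, pow_zero] at hZk
            have : Nat.card (P ⧸ Subgroup.center P) = 1 := by
              rw [← Subgroup.index_eq_card]; exact hZk
            have := Nat.card_eq_one_iff_unique.1 this
            haveI := this.1
            exact isCyclic_of_subsingleton
          · rw [h, pow_one] at hZk
            have : Nat.card (P ⧸ Subgroup.center P) = p := by
              rw [← Subgroup.index_eq_card]; exact hZk
            exact isCyclic_of_prime_card this
        have hcomm := commutative_of_cyclic_center_quotient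
          (QuotientGroup.mk' (Subgroup.center P)) (by rw [QuotientGroup.ker_mk'])
        apply hne1
        rw [eq_bot_iff, commutator_def, Subgroup.commutator_le]
        intro a _ b _
        rw [Subgroup.mem_bot, commutatorElement_eq_one_iff_mul_comm]
        exact hcomm a b
      rw [hk2] at hZk
      have := Cfsg.Agent.S4584.backward p hP hZk
      rw [hc] at this
      have h2 : p ^ 2 = p * p := sq p
      have : p * p = p * 1 := by rw [← h2, this, mul_one]
      have := Nat.eq_of_mul_eq_mul_left hp.pos this
      exact hp.one_lt.ne' this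
    refine ⟨?_, hne2⟩
    have hlt2 := commutator_top_lt ⁅commutator P, (⊤ : Subgroup P)⁆ hne2
    have hd2 := card_mul_dvd_of_lt hPg hlt2
    have hd3 := hd2.trans hγ3p
    have : Nat.card (⁅⁅commutator P, (⊤ : Subgroup P)⁆, (⊤ : Subgroup P)⁆ : Subgroup P) ∣ 1 := by
      have : p * Nat.card (⁅⁅commutator P, (⊤ : Subgroup P)⁆, (⊤ : Subgroup P)⁆ : Subgroup P) ∣ p * 1 := by
        rwa [mul_one]
      exact (Nat.mul_dvd_mul_iff_left hp.pos).1 this
    exact Subgroup.card_eq_one.1 (Nat.dvd_one.1 this)
  · rintro ⟨h3, h2⟩
    have hne1 : commutator P ≠ ⊥ := by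
      intro h0
      apply h2
      rw [h0]
      exact Subgroup.commutator_bot_left _
    have hlt := commutator_top_lt (commutator P) hne1
    have hd := card_mul_dvd_of_lt hPg hlt
    have hlt2 : (⊥ : Subgroup P) < ⁅commutator P, (⊤ : Subgroup P)⁆ := bot_lt_iff_ne_bot.2 h2
    have hd2 := card_mul_dvd_of_lt hPg hlt2
    rw [Subgroup.card_bot, mul_one] at hd2
    -- p^2 ∣ |P'|
    have hpp : p ^ 2 ∣ Nat.card (commutator P) := by
      rw [sq]; exact (Nat.mul_dvd_mul_left p hd2).trans hd
    -- the index is a power of p, not 1 or p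
    obtain ⟨c, hc⟩ := hPg.index (commutator P)
    have hc0 : c ≠ 0 := by
      intro h0
      rw [h0, pow_zero, Subgroup.index_eq_one] at hc
      have : (⊤ : Subgroup P) = ⊥ := by
        apply eq_bot_of_le_commutator_top
        rw [← commutator_def, hc]
      rw [← hc] at this
      exact hne1 this
    have hc1 : c ≠ 1 := by
      intro h1
      rw [h1, pow_one] at hc
      have hex : ∃ x : P, x ∉ commutator P := by
        by_contra hcon
        push Not at hcon
        have : commutator P = ⊤ := eq_top_iff.2 fun x _ => hcon x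
        rw [this, Subgroup.index_top] at hc
        exact hp.one_lt.ne' hc.symm
      obtain ⟨x, hx⟩ := hex
      have hgen := sup_zpowers_eq_top_of_index_prime (commutator P) hp hc x hx
      have hle := commutator_le_of_sup_zpowers (commutator P) ⁅commutator P, (⊤ : Subgroup P)⁆ x hgen
        (Subgroup.commutator_mono le_rfl le_top) (fun n hn => by
          have : ⁅x, n⁆ = ⁅n, x⁆⁻¹ := (commutatorElement_inv n x).symm
          rw [this]
          exact inv_mem (Subgroup.commutator_mem_commutator hn (Subgroup.mem_top x)))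
      exact hne1 (eq_bot_of_le_commutator_top _ hle)
    rw [hc] at hidx ⊢
    obtain ⟨m, hm⟩ := hpp
    rw [hm] at hidx
    -- p^2 * m * p^c = p^4 with c ≥ 2
    have hc2 : 2 ≤ c := by omega
    have hm1 : p ^ (2 + c) ∣ p ^ 4 := by
      rw [← hidx, pow_add]
      exact Dvd.intro (m) (by ring)
    have := (Nat.pow_dvd_pow_iff_le_right hp.one_lt).1 hm1
    have : c = 2 := by omega
    rw [this]

end Cfsg.Agent.S4585
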