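import Mathlib
import Cfsg.Statements.S4586
import Cfsg.Agent.Lib.Helper23.CyclicExt

set_option autoImplicit false
open Cfsg

namespace Cfsg.Agent.S4586

open Cfsg.Agent.Helper23

/-- Let p be a prime, P a finite p-group and N a normal subgroup of P of index p. For x ∈ P write c(x) for the number of elements n of N whose commutator x n x⁻¹ n⁻¹ lies in the derived subgroup N' (so c(x)/#N' is the order of the centralizer of x acting on N/N'). Then [P : P'] = p² if and only if c(x) = p·#N' for every x ∈ P outside N, and also if and only if c(x) = p·#N' for some x ∈ P outside N. -/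
theorem result {P : Type*} [Group P] [Finite P] (p : ℕ) [Fact p.Prime] (hP : IsPGroup p P) (N : Subgroup P) [N.Normal] (hN : N.index = p) :
    ((commutator P).index = p ^ 2 ↔ ∀ x : P, x ∉ N →
        Nat.card {n : N // x * n * x⁻¹ * (n : P)⁻¹ ∈ (commutator N).map N.subtype} = p * Nat.card (commutator N)) ∧
    ((commutator P).index = p ^ 2 ↔ ∃ x : P, x ∉ N ∧
        Nat.card {n : N // x * n * x⁻¹ * (n : P)⁻¹ ∈ (commutator N).map N.subtype} = p * Nat.card (commutator N)) := by
  have hp : p.Prime := Fact.out
  have hppos : 0 < p := hp.pos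
  -- key equivalence for each x outside N
  have key : ∀ x : P, x ∉ N → ((commutator P).index = p ^ 2 ↔
      Nat.card {n : N // x * n * x⁻¹ * (n : P)⁻¹ ∈ (commutator N).map N.subtype} =
        p * Nat.card (commutator N)) := by
    intro x hx
    have hgen := sup_zpowers_eq_top_of_index_prime N hp hN x hx
    have h1 := card_fixed_mul_card_commutator N x hgen
    have h2 : Nat.card N * p = Nat.card P := by rw [← hN]; exact Subgroup.card_mul_index N
    have h3 : Nat.card (commutator P) * (commutator P).index = Nat.card P :=
      Subgroup.card_mul_index _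
    have hc : 0 < Nat.card (commutator P) := Nat.card_pos
    obtain ⟨c, hcdef⟩ : ∃ c, c = Nat.card {n : N // x * n * x⁻¹ * (n : P)⁻¹ ∈
        (commutator N).map N.subtype} := ⟨_, rfl⟩
    rw [← hcdef] at h1 ⊢
    constructor
    · intro h
      rw [h] at h3
      -- |P'| p^2 = |N| p  →  |N| = |P'| p
      have h4 : Nat.card N = Nat.card (commutator P) * p := by
        apply Nat.eq_of_mul_eq_mul_right hppos
        rw [h2, ← h3]; ring
      rw [h4] at h1
      apply Nat.eq_of_mul_eq_mul_right hc
      rw [h1]; ring
    · intro h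
      rw [h] at h1
      have h4 : Nat.card N = Nat.card (commutator P) * p := by
        have hc' : 0 < Nat.card (commutator N) := Nat.card_pos
        apply Nat.eq_of_mul_eq_mul_right hc'
        rw [← h1]; ring
      rw [h4] at h2
      apply Nat.eq_of_mul_eq_mul_left hc
      rw [h3, ← h2]; ring
  -- existence of an element outside N
  have hex : ∃ x : P, x ∉ N := by
    by_contra hcon
    push_neg at hcon
    have : N = ⊤ := eq_top_iff.2 fun x _ => hcon x
    rw [this, Subgroup.index_top] at hN
    exact hp.one_lt.ne' hN.symm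
  refine ⟨⟨fun h x hx => (key x hx).1 h, fun h => ?_⟩, ⟨fun h => ?_, fun h => ?_⟩⟩
  · obtain ⟨x, hx⟩ := hex
    exact (key x hx).2 (h x hx)
  · obtain ⟨x, hx⟩ := hex
    exact ⟨x, hx, (key x hx).1 h⟩
  · obtain ⟨x, hx, hcx⟩ := h
    exact (key x hx).2 hcx

end Cfsg.Agent.S4586
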