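import Mathlib
import Cfsg.Statements.S4593
import Cfsg.Agent.Lib.Helper4.AutCentB
-- import your own Cfsg.Agent.* helpers here

set_option autoImplicit false
open Cfsg

namespace Cfsg.Agent.S4593

/-- Let G be a finite group with trivial centre and no nontrivial normal subgroup of odd order, whose Sylow 2-subgroups are abelian, and let P be a Sylow 2-subgroup. Every automorphism of G of 2-power order that fixes P elementwise is inner. -/
theorem result {G : Type*} [Group G] [Finite G] (hZ : Subgroup.center G = ⊥) (hcore : Cfsg.pPrimeCore 2 G = ⊥) (P : Sylow 2 G) (hab : IsMulCommutative (P : Subgroup G))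
    (α : MulAut G) (h2 : ∃ j : ℕ, orderOf α = 2 ^ j) (hfix : ∀ x ∈ (P : Subgroup G), α x = x) :
    ∃ g : G, ∀ x : G, α x = g * x * g⁻¹ := by
  classical
  obtain ⟨Γs, hΓs⟩ : ∃ Γs : Subgroup (MulAut G),
      Γs = (MulAut.conj : G →* MulAut G).range ⊔ Subgroup.zpowers α := ⟨_, rfl⟩
  have hrange_le : (MulAut.conj : G →* MulAut G).range ≤ Γs := by rw [hΓs]; exact le_sup_left
  have hαΓ : α ∈ Γs := by
    rw [hΓs]
    exact le_sup_right (a := (MulAut.conj : G →* MulAut G).range) (Subgroup.mem_zpowers α)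
  obtain ⟨ι, hιdef⟩ : ∃ ι : G →* ↥Γs, ∀ g : G, ((ι g : ↥Γs) : MulAut G) = MulAut.conj g :=
    ⟨(MulAut.conj : G →* MulAut G).codRestrict Γs (fun g => hrange_le ⟨g, rfl⟩), fun g => rfl⟩
  have hconj1 : ∀ g : G, (MulAut.conj g : MulAut G) = 1 → g = 1 := by
    intro g hg
    have h1 : g ∈ Subgroup.center G := by
      rw [Subgroup.mem_center_iff]
      intro x
      have h2 : MulAut.conj g x = x := by rw [hg]; rfl
      rw [MulAut.conj_apply] at h2
      calc x * g = (g * x * g⁻¹) * g := by rw [h2]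
        _ = g * x := by group
    rw [hZ, Subgroup.mem_bot] at h1
    exact h1
  have hι : Function.Injective ι := by
    rw [injective_iff_map_eq_one]
    intro g hg
    apply hconj1
    rw [← hιdef, hg]; rfl
  have hconjφ : ∀ (φ : MulAut G) (g : G), φ * MulAut.conj g * φ⁻¹ = MulAut.conj (φ g) := by
    intro φ g
    ext x
    simp [MulAut.conj_apply, MulAut.mul_apply]
  haveI hn : ι.range.Normal := by
    constructor
    rintro _ ⟨g, rfl⟩ y
    refine ⟨(y : MulAut G) g, ?_⟩
    apply Subtype.ext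
    rw [hιdef]
    show _ = ((y : MulAut G)) * ((ι g : ↥Γs) : MulAut G) * ((y : MulAut G))⁻¹
    rw [hιdef, hconjφ]
  obtain ⟨a, ha⟩ : ∃ a : ↥Γs, (a : MulAut G) = α := ⟨⟨α, hαΓ⟩, rfl⟩
  have ha2 : ∃ j : ℕ, orderOf a = 2 ^ j := by
    obtain ⟨j, hj⟩ := h2
    refine ⟨j, ?_⟩
    rw [← hj, ← ha, Subgroup.orderOf_coe]
  have hab' : ∀ x ∈ (P : Subgroup G), ∀ y ∈ (P : Subgroup G), x * y = y * x := by
    intro x hx y hy
    exact congrArg Subtype.val (hab.is_comm.comm ⟨x, hx⟩ ⟨y, hy⟩)
  have haP : ∀ x ∈ (P : Subgroup G), a * ι x = ι x * a := by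
    intro x hx
    apply Subtype.ext
    show (a : MulAut G) * ((ι x : ↥Γs) : MulAut G) = ((ι x : ↥Γs) : MulAut G) * (a : MulAut G)
    rw [ha, hιdef]
    have h1 := hconjφ α x
    rw [hfix x hx] at h1
    calc α * MulAut.conj x = (α * MulAut.conj x * α⁻¹) * α := by group
      _ = MulAut.conj x * α := by rw [h1]
  have htop : ι.range ⊔ Subgroup.zpowers a = ⊤ := by
    rw [eq_top_iff]
    intro y _
    have hy : (y : MulAut G) ∈
        (((MulAut.conj : G →* MulAut G).range ⊔ Subgroup.zpowers α : Subgroup (MulAut G)) :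
          Set (MulAut G)) := by
      rw [← hΓs]; exact y.2
    haveI : ((MulAut.conj : G →* MulAut G).range).Normal := by
      constructor
      rintro _ ⟨g, rfl⟩ φ
      exact ⟨φ g, (hconjφ φ g).symm⟩
    rw [Subgroup.normal_mul] at hy
    obtain ⟨c, ⟨g, rfl⟩, d, hd, hcd⟩ := Set.mem_mul.mp hy
    obtain ⟨k, rfl⟩ := Subgroup.mem_zpowers_iff.mp hd
    have hy' : y = ι g * a ^ k := by
      apply Subtype.ext
      rw [Subgroup.coe_mul, Subgroup.coe_zpow, hιdef, ha]
      exact hcd.symm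
    rw [hy']
    exact Subgroup.mul_mem _ (le_sup_left (b := Subgroup.zpowers a) ⟨g, rfl⟩)
      (le_sup_right (a := ι.range) (Subgroup.zpow_mem _ (Subgroup.mem_zpowers a) k))
  have hC : ∀ z : ↥Γs, (∀ g : G, z * ι g = ι g * z) → z = 1 := by
    intro z hz
    apply Subtype.ext
    rw [Subgroup.coe_one]
    ext g
    have h1 := congrArg Subtype.val (hz g)
    rw [Subgroup.coe_mul, Subgroup.coe_mul, hιdef] at h1
    have h2 := hconjφ (z : MulAut G) g
    have h3 : (z : MulAut G) * MulAut.conj g * (z : MulAut G)⁻¹ = MulAut.conj g := by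
      rw [h1]; group
    rw [h3] at h2
    have h4 : (MulAut.conj (g⁻¹ * (z : MulAut G) g) : MulAut G) = 1 := by
      rw [map_mul, ← h2, map_inv]; group
    have h5 := hconj1 _ h4
    show (z : MulAut G) g = g
    calc (z : MulAut G) g = g * (g⁻¹ * (z : MulAut G) g) := by group
      _ = g := by rw [h5, mul_one]
  obtain ⟨g, hg⟩ := Cfsg.Agent.Helper4.AutCent.mem_range_of_centralizes ι hι a ha2 P hab' haP htop
    hcore hC
  refine ⟨g, fun x => ?_⟩
  have h1 : (MulAut.conj g : MulAut G) = α := by rw [← hιdef, hg, ha]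
  rw [← h1, MulAut.conj_apply]

end Cfsg.Agent.S4593
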