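import Mathlib
import Cfsg.Statements.S4602
import Cfsg.Agent.Lib.Helper23.PSolvable

set_option autoImplicit false
open Cfsg

namespace Cfsg.Agent.S4602


open Cfsg.Agent.Helper23 Subgroup

/-- If `H ⊔ K = ⊤` with `K` normal then the index of `H` divides the order of `K`. -/
theorem index_dvd_card_of_sup_eq_top {G : Type*} [Group G] [Finite G] (H K : Subgroup G)
    [K.Normal] (h : H ⊔ K = ⊤) : H.index ∣ Nat.card K := by
  have h1 : K.relIndex H = K.index := by
    rw [← relIndex_sup_right H K, h, relIndex_top_right]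
  have h2 : Nat.card K * K.index = Nat.card G := K.card_mul_index
  have h3 : Nat.card H * H.index = Nat.card G := H.card_mul_index
  have h4 : Nat.card (H ⊓ K : Subgroup G) * K.relIndex H = Nat.card H := by
    have := relIndex_mul_relIndex (⊥ : Subgroup G) (H ⊓ K) H bot_le inf_le_left
    rwa [relIndex_bot_left, relIndex_bot_left, inf_relIndex_left] at this
  have hpos : 0 < K.index := Nat.pos_of_ne_zero (index_ne_zero_of_finite)
  have h5 : Nat.card (H ⊓ K : Subgroup G) * H.index = Nat.card K := by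
    have : (Nat.card (H ⊓ K : Subgroup G) * H.index) * K.index = Nat.card K * K.index := by
      rw [h2, ← h3, ← h4, h1]; ring
    exact Nat.eq_of_mul_eq_mul_right hpos this
  exact Dvd.intro_left _ h5

theorem forward {G : Type*} [Group G] [Finite G] (p q : ℕ) [Fact p.Prime] [hq : Fact q.Prime]
    (hpq : p ≠ q) (hsolv : Cfsg.IsPSolvable p G) (P : Sylow p G) (Q : Sylow q G)
    (hPQ : (P : Subgroup G) ≤ Subgroup.normalizer ((Q : Subgroup G) : Set G)) :
    ¬ q ∣ (Cfsg.pPrimeCore p G).index := by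
  haveI hKn := Helper22.pPrimeCore_normal (G := G) p
  set K := pPrimeCore p G with hK
  have hsol' : IsPSolvable p (G ⧸ K) := PSolv.isPSolvable_quotient K hsolv
  have hO : pPrimeCore p (G ⧸ K) = ⊥ := PSolv.pPrimeCore_quotient_pPrimeCore p
  have hHH := PSolv.centralizer_pCore_le hsol' hO
  have hsurj := QuotientGroup.mk'_surjective K
  set P' : Sylow p (G ⧸ K) := P.mapSurjective hsurj with hP'
  set Q' : Sylow q (G ⧸ K) := Q.mapSurjective hsurj with hQ'
  have hPQ' : (P' : Subgroup (G ⧸ K)) ≤ normalizer ((Q' : Subgroup (G ⧸ K)) : Set (G ⧸ K)) := by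
    rw [hP', hQ', Sylow.coe_mapSurjective, Sylow.coe_mapSurjective]
    exact (Subgroup.map_mono hPQ).trans (le_normalizer_map _)
  haveI hRn : (pCore p (G ⧸ K)).Normal := Helper10.pCore_normal p
  have hRP : pCore p (G ⧸ K) ≤ P' := PSolv.pCore_le_sylow P'
  have hdisj : Disjoint (pCore p (G ⧸ K)) (Q' : Subgroup (G ⧸ K)) :=
    IsPGroup.disjoint_of_ne p q hpq _ _ (Helper10.pCore_isPGroup p) Q'.2
  have hQbot : (Q' : Subgroup (G ⧸ K)) = ⊥ := by
    rw [eq_bot_iff]
    intro x hx
    have hxC : x ∈ centralizer (pCore p (G ⧸ K) : Set (G ⧸ K)) := by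
      rw [mem_centralizer_iff]
      intro r hr
      have hrN := hPQ' (hRP hr)
      rw [mem_normalizer_iff] at hrN
      have h1 : r * x * r⁻¹ ∈ (Q' : Subgroup (G ⧸ K)) := (hrN x).mp hx
      have h2 : r * x * r⁻¹ * x⁻¹ ∈ (Q' : Subgroup (G ⧸ K)) := mul_mem h1 (inv_mem hx)
      have h3 : r * x * r⁻¹ * x⁻¹ ∈ pCore p (G ⧸ K) := by
        have : x * r⁻¹ * x⁻¹ ∈ pCore p (G ⧸ K) := hRn.conj_mem _ (inv_mem hr) x
        have h4 := mul_mem hr this
        convert h4 using 1
        group
      have h5 := (Subgroup.disjoint_def.mp hdisj) h3 h2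
      calc r * x = (r * x * r⁻¹ * x⁻¹) * x * r := by group
        _ = x * r := by rw [h5, one_mul]
    exact (Subgroup.disjoint_def.mp hdisj) (hHH hxC) hx ▸ Subgroup.mem_bot.mpr rfl
  intro hdvd
  rw [index_eq_card] at hdvd
  exact Q'.ne_bot_of_dvd_card hdvd hQbot

theorem backward {G : Type*} [Group G] [Finite G] (p q : ℕ) [hp : Fact p.Prime] [hq : Fact q.Prime]
    (h : ¬ q ∣ (Cfsg.pPrimeCore p G).index) :
    ∃ (P : Sylow p G) (Q : Sylow q G),
      (P : Subgroup G) ≤ Subgroup.normalizer ((Q : Subgroup G) : Set G) := by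
  haveI hKn := Helper22.pPrimeCore_normal (G := G) p
  set K := pPrimeCore p G with hK
  obtain ⟨Q0⟩ : Nonempty (Sylow q K) := inferInstance
  have hQ0idx : ¬ q ∣ ((Q0 : Subgroup K).map K.subtype).index := by
    rw [index_map_subtype]
    exact Nat.Prime.not_dvd_mul hq.out Q0.not_dvd_index h
  set Q : Sylow q G := (Q0.2.map K.subtype).toSylow hQ0idx with hQ
  have hQcoe : (Q : Subgroup G) = (Q0 : Subgroup K).map K.subtype := rfl
  have hfr : normalizer ((Q : Subgroup G) : Set G) ⊔ K = ⊤ := by
    rw [hQcoe]; exact Sylow.normalizer_sup_eq_top Q0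
  have hidx : ¬ p ∣ (normalizer ((Q : Subgroup G) : Set G)).index := by
    intro hd
    have h1 := hd.trans (index_dvd_card_of_sup_eq_top _ K hfr)
    exact Helper22.not_dvd_card_pPrimeCore p hp.out h1
  -- a Sylow p-subgroup of the normalizer is Sylow in G
  obtain ⟨P0⟩ : Nonempty (Sylow p (normalizer ((Q : Subgroup G) : Set G))) := inferInstance
  have hP0idx : ¬ p ∣ ((P0 : Subgroup _).map (normalizer ((Q : Subgroup G) : Set G)).subtype).index := by
    rw [index_map_subtype]
    exact Nat.Prime.not_dvd_mul hp.out P0.not_dvd_index hidx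
  refine ⟨(P0.2.map _).toSylow hP0idx, Q, ?_⟩
  show (P0 : Subgroup _).map (normalizer ((Q : Subgroup G) : Set G)).subtype ≤ _
  exact map_subtype_le _

/-- Let G be a finite p-solvable group and q a prime different from p. Some Sylow p-subgroup of G normalizes some Sylow q-subgroup of G if and only if q does not divide the order of G/O_{p'}(G), the quotient by the largest normal subgroup of order prime to p. -/
theorem result {G : Type*} [Group G] [Finite G] (p q : ℕ) [Fact p.Prime] [Fact q.Prime] (hpq : p ≠ q) (hsolv : Cfsg.IsPSolvable p G) :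
    (∃ (P : Sylow p G) (Q : Sylow q G), (P : Subgroup G) ≤ Subgroup.normalizer ((Q : Subgroup G) : Set G)) ↔ ¬ q ∣ (Cfsg.pPrimeCore p G).index := by
  constructor
  · rintro ⟨P, Q, hPQ⟩
    exact forward p q hpq hsolv P Q hPQ
  · exact backward p q

end Cfsg.Agent.S4602
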