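import Mathlib
import Cfsg.Statements.S4601
import Cfsg.Agent.S4602
import Cfsg.Agent.Lib.Helper23.PSolvable

set_option autoImplicit false
open Cfsg

namespace Cfsg.Agent.S4601


open Cfsg.Agent.Helper23 Subgroup
open scoped Pointwise

section General

variable {G : Type*} [Group G] [Finite G]

theorem card_mul_relIndex_of_le {A B : Subgroup G} (h : A ≤ B) :
    Nat.card A * A.relIndex B = Nat.card B := by
  have := relIndex_mul_relIndex (⊥ : Subgroup G) A B bot_le h
  rwa [relIndex_bot_left, relIndex_bot_left] at this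

/-- `|NK : N| * |N ∩ K| = |K|` for `K` normal. -/
theorem relIndex_sup_mul_card_inf (N K : Subgroup G) [K.Normal] :
    N.relIndex (N ⊔ K) * Nat.card ↥(N ⊓ K) = Nat.card K := by
  have h1 : K.relIndex (N ⊔ K) = K.relIndex N := relIndex_sup_right N K
  have h2 : Nat.card K * K.relIndex (N ⊔ K) = Nat.card ↥(N ⊔ K) :=
    card_mul_relIndex_of_le le_sup_right
  have h3 : Nat.card N * N.relIndex (N ⊔ K) = Nat.card ↥(N ⊔ K) :=
    card_mul_relIndex_of_le le_sup_left
  have h4 : Nat.card ↥(N ⊓ K) * K.relIndex N = Nat.card N := by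
    have := card_mul_relIndex_of_le (inf_le_left : N ⊓ K ≤ N)
    rwa [inf_relIndex_left] at this
  have hpos : 0 < K.relIndex N := by
    apply Nat.pos_of_ne_zero
    intro h0
    have : K.relIndex N ∣ Nat.card N := relIndex_dvd_card K N
    rw [h0, zero_dvd_iff] at this
    exact Nat.card_pos.ne' this
  have : (N.relIndex (N ⊔ K) * Nat.card ↥(N ⊓ K)) * K.relIndex N = Nat.card K * K.relIndex N := by
    rw [← h1, h2, ← h3, ← h4, h1]; ring
  exact Nat.eq_of_mul_eq_mul_right hpos this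

theorem exists_sylow_le_of_not_dvd_index {p : ℕ} [hp : Fact p.Prime] (H : Subgroup G)
    (h : ¬ p ∣ H.index) : ∃ P : Sylow p G, (P : Subgroup G) ≤ H := by
  obtain ⟨P0⟩ : Nonempty (Sylow p H) := inferInstance
  have hidx : ¬ p ∣ ((P0 : Subgroup H).map H.subtype).index := by
    rw [index_map_subtype]
    exact Nat.Prime.not_dvd_mul hp.out P0.not_dvd_index h
  exact ⟨(P0.2.map _).toSylow hidx, map_subtype_le _⟩

theorem exists_orderOf_eq_pow_of_mem {q : ℕ} [hq : Fact q.Prime] {H : Subgroup G}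
    (hH : IsPGroup q H) {y : G} (hy : y ∈ H) : ∃ k : ℕ, orderOf y = q ^ k := by
  obtain ⟨k, hk⟩ := hH ⟨y, hy⟩
  have : y ^ q ^ k = 1 := by simpa using congrArg Subtype.val hk
  obtain ⟨j, _, hj⟩ := (Nat.dvd_prime_pow hq.out).mp (orderOf_dvd_of_pow_eq_one this)
  exact ⟨j, hj⟩

/-- The class size hypothesis passes to quotients. -/
theorem hyp_quotient {p q : ℕ} [Fact p.Prime] [Fact q.Prime] (N : Subgroup G) [N.Normal]
    (h : ∀ y : G, (∃ k : ℕ, orderOf y = q ^ k) → ¬ p ∣ (centralizer ({y} : Set G)).index) :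
    ∀ y : G ⧸ N, (∃ k : ℕ, orderOf y = q ^ k) →
      ¬ p ∣ (centralizer ({y} : Set (G ⧸ N))).index := by
  rintro ybar ⟨k, hk⟩
  have hsurj := QuotientGroup.mk'_surjective N
  have hzp : IsPGroup q (zpowers ybar) :=
    IsPGroup.of_card (n := k) (by rw [Nat.card_zpowers, hk])
  obtain ⟨Qbar, hQbar⟩ := hzp.exists_le_sylow
  obtain ⟨Q, rfl⟩ := Sylow.mapSurjective_surjective hsurj q Qbar
  have hmem : ybar ∈ (Q : Subgroup G).map (QuotientGroup.mk' N) := hQbar (mem_zpowers ybar)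
  obtain ⟨y, hyQ, rfl⟩ := hmem
  have hy := h y (exists_orderOf_eq_pow_of_mem Q.2 hyQ)
  intro hdvd
  apply hy
  have h1 : (centralizer ({y} : Set G)).map (QuotientGroup.mk' N) ≤
      centralizer {QuotientGroup.mk' N y} := by
    rintro _ ⟨z, hz, rfl⟩
    have hz' : z ∈ centralizer ({y} : Set G) := hz
    rw [mem_centralizer_singleton_iff] at hz' ⊢
    rw [← map_mul, ← map_mul, hz']
  exact hdvd.trans ((index_dvd_of_le h1).trans (index_map_dvd _ hsurj))

/-- Lifting a normalizing pair of Sylow subgroups from a quotient. -/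
theorem lift_pair {p q : ℕ} [Fact p.Prime] [Fact q.Prime] (N : Subgroup G) [N.Normal]
    (Pb : Sylow p (G ⧸ N)) (Qb : Sylow q (G ⧸ N))
    (hb : (Pb : Subgroup (G ⧸ N)) ≤ normalizer ((Qb : Subgroup (G ⧸ N)) : Set (G ⧸ N))) :
    ∃ (P : Sylow p G) (Q : Sylow q G),
      (P : Subgroup G) ≤ normalizer (((Q : Subgroup G) ⊔ N : Subgroup G) : Set G) := by
  have hsurj := QuotientGroup.mk'_surjective N
  obtain ⟨P, rfl⟩ := Sylow.mapSurjective_surjective hsurj p Pb
  obtain ⟨Q, rfl⟩ := Sylow.mapSurjective_surjective hsurj q Qb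
  refine ⟨P, Q, ?_⟩
  intro x hx
  have h1 : QuotientGroup.mk' N x ∈
      normalizer ((((Q : Subgroup G).map (QuotientGroup.mk' N) : Subgroup (G ⧸ N))) : Set (G ⧸ N)) :=
    hb (mem_map_of_mem _ hx)
  have h3 := le_normalizer_comap (QuotientGroup.mk' N) (mem_comap.mpr h1)
  rwa [comap_map_eq, QuotientGroup.ker_mk'] at h3

end General


section Conj

variable {G : Type*} [Group G] [Finite G]

/-- A `p`-subgroup has a conjugate inside any subgroup of index prime to `p`. -/
theorem exists_conj_mem_of_not_dvd_index' {p : ℕ} [Fact p.Prime]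
    (P : Subgroup G) (hP : IsPGroup p P) (H : Subgroup G) (h : ¬ p ∣ H.index) :
    ∃ x : G, ∀ y ∈ P, x⁻¹ * y * x ∈ H := by
  have h' : ¬ p ∣ Nat.card (G ⧸ H) := by rwa [← Subgroup.index_eq_card]
  obtain ⟨q, hq⟩ := hP.nonempty_fixed_point_of_prime_not_dvd_card (G ⧸ H) h'
  obtain ⟨x, rfl⟩ := QuotientGroup.mk_surjective q
  refine ⟨x, fun y hy => ?_⟩
  have := hq ⟨y, hy⟩
  have h2 : ((y * x : G) : G ⧸ H) = (x : G ⧸ H) := this
  rw [QuotientGroup.eq] at h2
  have h3 := H.inv_mem h2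
  have h4 : ((y * x)⁻¹ * x)⁻¹ = x⁻¹ * y * x := by group
  rwa [h4] at h3

/-- Sylow conjugacy inside a subgroup `K`, for subgroups of `G`. -/
theorem exists_conj_eq_of_sylow_in {p : ℕ} [Fact p.Prime] (K S S' : Subgroup G) (hS : S ≤ K)
    (hS' : S' ≤ K) (hSp : IsPGroup p S) (hS'p : IsPGroup p S') (hSi : ¬ p ∣ S.relIndex K)
    (hS'i : ¬ p ∣ S'.relIndex K) :
    ∃ k ∈ K, ∀ x, x ∈ S' ↔ k⁻¹ * x * k ∈ S := by
  have h1 : IsPGroup p (S.subgroupOf K) := hSp.comap_subtype
  have h2 : IsPGroup p (S'.subgroupOf K) := hS'p.comap_subtype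
  obtain ⟨S0, hS0⟩ : ∃ S0 : Sylow p K, (S0 : Subgroup K) = S.subgroupOf K :=
    ⟨h1.toSylow hSi, rfl⟩
  obtain ⟨S0', hS0'⟩ : ∃ S0' : Sylow p K, (S0' : Subgroup K) = S'.subgroupOf K :=
    ⟨h2.toSylow hS'i, rfl⟩
  obtain ⟨k, hk⟩ := MulAction.exists_smul_eq K S0 S0'
  refine ⟨k, k.2, ?_⟩
  have h3 : MulAut.conj k • (S.subgroupOf K) = S'.subgroupOf K := by
    rw [← hS0, ← hS0', ← hk]; rfl
  rw [Subgroup.conj_smul_subgroupOf hS k] at h3
  have h4 : MulAut.conj (k : G) • S ≤ K := conj_smul_le_of_le hS k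
  have h5 : MulAut.conj (k : G) • S = S' := by
    have := subgroupOf_inj.mp h3
    rwa [inf_of_le_left h4, inf_of_le_left hS'] at this
  intro x
  rw [← h5, mem_pointwise_smul_iff_inv_smul_mem]
  simp [MulAut.smul_def, MulAut.conj_inv_apply]

/-- Coprime conjugacy for a cyclic acting group: two `y`-invariant `K`-conjugate subgroups are
conjugate by an element of `C_K(y)`. -/
theorem exists_centralizing_conj {q : ℕ} [Fact q.Prime] (K : Subgroup G) [K.Normal]
    (hK : (Nat.card K).Coprime q) (y : G) (hy : ∃ k : ℕ, orderOf y = q ^ k) (S S' : Subgroup G)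
    (k : G) (hk : k ∈ K) (hconj : ∀ x, x ∈ S' ↔ k⁻¹ * x * k ∈ S)
    (hyS : y ∈ normalizer (S : Set G)) (hyS' : y ∈ normalizer (S' : Set G)) :
    ∃ c ∈ K, c * y = y * c ∧ ∀ x, x ∈ S' ↔ c⁻¹ * x * c ∈ S := by
  classical
  have hq : q.Prime := Fact.out
  obtain ⟨j, hj⟩ := hy
  obtain ⟨A, hAdef⟩ : ∃ A : Subgroup G, A = zpowers y := ⟨_, rfl⟩
  have hA : IsPGroup q A := IsPGroup.of_card (n := j) (by rw [hAdef, Nat.card_zpowers, hj])
  have hAS : A ≤ normalizer (S : Set G) := by rw [hAdef]; exact zpowers_le.mpr hyS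
  have hAS' : A ≤ normalizer (S' : Set G) := by rw [hAdef]; exact zpowers_le.mpr hyS'
  have hsmul : ∀ (a : A) (c : {c : G // c ∈ K ∧ ∀ x, x ∈ S' ↔ c⁻¹ * x * c ∈ S}),
      (a : G) * c.1 * (a : G)⁻¹ ∈ K ∧
        ∀ x, x ∈ S' ↔ ((a : G) * c.1 * (a : G)⁻¹)⁻¹ * x * ((a : G) * c.1 * (a : G)⁻¹) ∈ S := by
    intro a c
    refine ⟨Normal.conj_mem inferInstance _ c.2.1 _, fun x => ?_⟩
    have ha1 := mem_normalizer_iff.mp (hAS a.2)
    have ha2 := mem_normalizer_iff.mp (hAS' (inv_mem a.2))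
    rw [ha2 x, c.2.2, ha1]
    have : (a : G) * (c.1⁻¹ * ((a : G)⁻¹ * x * (a : G)⁻¹⁻¹) * c.1) * (a : G)⁻¹ =
        ((a : G) * c.1 * (a : G)⁻¹)⁻¹ * x * ((a : G) * c.1 * (a : G)⁻¹) := by group
    rw [this]
  letI : MulAction A {c : G // c ∈ K ∧ ∀ x, x ∈ S' ↔ c⁻¹ * x * c ∈ S} :=
    { smul := fun a c => ⟨(a : G) * c.1 * (a : G)⁻¹, hsmul a c⟩
      one_smul := fun c => Subtype.ext (by show ((1 : A) : G) * c.1 * ((1 : A) : G)⁻¹ = c.1; simp)
      mul_smul := fun a b c => Subtype.ext (by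
        show ((a * b : A) : G) * c.1 * ((a * b : A) : G)⁻¹ =
          (a : G) * ((b : G) * c.1 * (b : G)⁻¹) * (a : G)⁻¹
        simp only [Subgroup.coe_mul]; group) }
  -- cardinality
  have hcard : Nat.card {c : G // c ∈ K ∧ ∀ x, x ∈ S' ↔ c⁻¹ * x * c ∈ S} =
      Nat.card ↥(normalizer (S : Set G) ⊓ K) := by
    apply Nat.card_congr
    refine ⟨fun c => ⟨k⁻¹ * c.1, ?_, K.mul_mem (K.inv_mem hk) c.2.1⟩,
      fun n => ⟨k * n.1, K.mul_mem hk n.2.2, ?_⟩, ?_, ?_⟩
    · show k⁻¹ * c.1 ∈ normalizer (S : Set G)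
      rw [mem_normalizer_iff]
      intro h
      have e1 : h ∈ S ↔ c.1 * h * c.1⁻¹ ∈ S' := by
        rw [c.2.2]
        have : c.1⁻¹ * (c.1 * h * c.1⁻¹) * c.1 = h := by group
        rw [this]
      rw [e1, hconj]
      have : k⁻¹ * (c.1 * h * c.1⁻¹) * k = k⁻¹ * c.1 * h * (k⁻¹ * c.1)⁻¹ := by group
      rw [this]
    · intro x
      rw [hconj]
      have hn := mem_normalizer_iff.mp (inv_mem n.2.1)
      rw [hn]
      have : (n.1)⁻¹ * (k⁻¹ * x * k) * (n.1)⁻¹⁻¹ = (k * n.1)⁻¹ * x * (k * n.1) := by group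
      rw [this]
    · intro c
      apply Subtype.ext
      show k * (k⁻¹ * c.1) = c.1
      group
    · intro n
      apply Subtype.ext
      show k⁻¹ * (k * n.1) = n.1
      group
  have hndvd : ¬ q ∣ Nat.card {c : G // c ∈ K ∧ ∀ x, x ∈ S' ↔ c⁻¹ * x * c ∈ S} := by
    rw [hcard]
    intro hd
    have h1 : q ∣ Nat.card K := hd.trans (Subgroup.card_dvd_of_le inf_le_right)
    have h2 : q ∣ Nat.gcd (Nat.card K) q := Nat.dvd_gcd h1 dvd_rfl
    rw [hK] at h2
    exact hq.one_lt.ne' (Nat.dvd_one.mp h2)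
  obtain ⟨c, hc⟩ := hA.nonempty_fixed_point_of_prime_not_dvd_card _ hndvd
  refine ⟨c.1, c.2.1, ?_, c.2.2⟩
  have hyA : y ∈ A := by rw [hAdef]; exact mem_zpowers y
  have h1 := hc ⟨y, hyA⟩
  have h2 : y * c.1 * y⁻¹ = c.1 := congrArg Subtype.val h1
  calc c.1 * y = (y * c.1 * y⁻¹) * y := by rw [h2]
    _ = y * c.1 := by group

/-- Frattini-type statement: if `x` normalizes `M ≥ Q` then `x ∈ M · N(Q)`. -/
theorem exists_mul_mem_normalizer {q : ℕ} [Fact q.Prime] (Q : Sylow q G) (M : Subgroup G)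
    (hQM : (Q : Subgroup G) ≤ M) (x : G) (hx : x ∈ normalizer (M : Set G)) :
    ∃ m ∈ M, m * x ∈ normalizer ((Q : Subgroup G) : Set G) := by
  have h2 : ↑(x • Q) ≤ M := by
    rw [Sylow.coe_subgroup_smul]
    intro z hz
    rw [mem_pointwise_smul_iff_inv_smul_mem] at hz
    have hz' : x⁻¹ * z * x ∈ (Q : Subgroup G) := by
      simpa [MulAut.smul_def, MulAut.conj_inv_apply] using hz
    have h3 := hQM hz'
    have hx' := mem_normalizer_iff.mp hx (x⁻¹ * z * x)
    rw [hx'] at h3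
    have : x * (x⁻¹ * z * x) * x⁻¹ = z := by group
    rwa [this] at h3
  obtain ⟨h, hh⟩ := MulAction.exists_smul_eq M ((x • Q).subtype h2) (Q.subtype hQM)
  simp_rw [Sylow.smul_subtype, Subgroup.smul_def, smul_smul] at hh
  exact ⟨h, h.2, Sylow.smul_eq_iff_mem_normalizer.mp (Sylow.subtype_injective hh)⟩

end Conj


section Main

universe u

variable {G : Type u} [Group G] [Finite G]

theorem card_quotient_lt (N : Subgroup G) [N.Normal] (hN : N ≠ ⊥) :
    Nat.card (G ⧸ N) < Nat.card G := by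
  have h1 : Nat.card G = Nat.card (G ⧸ N) * Nat.card N := Subgroup.card_eq_card_quotient_mul_card_subgroup N
  have h2 : 1 < Nat.card N := (N.one_lt_card_iff_ne_bot).mpr hN
  have h3 : 0 < Nat.card (G ⧸ N) := Nat.card_pos
  rw [h1]
  nlinarith

/-- A `q`-group normalizing the normal `q'`-subgroup `K` normalizes a Sylow `p`-subgroup of `K`. -/
theorem exists_invariant_sylow {p q : ℕ} [hp : Fact p.Prime] [Fact q.Prime] (K : Subgroup G)
    [K.Normal] (hK : (Nat.card K).Coprime q) (Q : Subgroup G) (hQ : IsPGroup q Q) :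
    ∃ S : Subgroup G, S ≤ K ∧ IsPGroup p S ∧ ¬ p ∣ S.relIndex K ∧
      Q ≤ normalizer (S : Set G) := by
  have hq : q.Prime := Fact.out
  obtain ⟨S0⟩ : Nonempty (Sylow p K) := inferInstance
  obtain ⟨S1, hS1⟩ : ∃ S1 : Subgroup G, S1 = (S0 : Subgroup K).map K.subtype := ⟨_, rfl⟩
  have hfr : normalizer (S1 : Set G) ⊔ K = ⊤ := by
    rw [hS1]; exact Sylow.normalizer_sup_eq_top S0
  have hidx : ¬ q ∣ (normalizer (S1 : Set G)).index := by
    intro hd
    have h1 := hd.trans (S4602.index_dvd_card_of_sup_eq_top _ K hfr)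
    have h2 : q ∣ Nat.gcd (Nat.card K) q := Nat.dvd_gcd h1 dvd_rfl
    rw [hK] at h2
    exact hq.one_lt.ne' (Nat.dvd_one.mp h2)
  obtain ⟨x, hx⟩ := exists_conj_mem_of_not_dvd_index' Q hQ _ hidx
  have hmem : ∀ z, z ∈ S1.map (MulAut.conj x).toMonoidHom ↔ x⁻¹ * z * x ∈ S1 := by
    intro z
    constructor
    · rintro ⟨s, hs, rfl⟩
      have : x⁻¹ * ((MulAut.conj x).toMonoidHom s) * x = s := by
        simp [MulAut.conj_apply, mul_assoc]
      rw [this]; exact hs
    · intro h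
      exact ⟨x⁻¹ * z * x, h, by simp [MulAut.conj_apply, mul_assoc]⟩
  refine ⟨S1.map (MulAut.conj x).toMonoidHom, ?_, ?_, ?_, ?_⟩
  · intro z hz
    rw [hmem] at hz
    have h1 : x⁻¹ * z * x ∈ K := by
      rw [hS1] at hz; exact map_subtype_le _ hz
    have h2 := Normal.conj_mem (inferInstance : K.Normal) _ h1 x
    have : x * (x⁻¹ * z * x) * x⁻¹ = z := by group
    rwa [this] at h2
  · rw [hS1]; exact (S0.2.map _).map _
  · have e1 : K.map (MulAut.conj x).toMonoidHom = K := by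
      ext z
      constructor
      · rintro ⟨s, hs, rfl⟩
        exact Normal.conj_mem (inferInstance : K.Normal) _ hs x
      · intro hz
        refine ⟨x⁻¹ * z * x, ?_, by simp [MulAut.conj_apply, mul_assoc]⟩
        have := Normal.conj_mem (inferInstance : K.Normal) _ hz x⁻¹
        simpa using this
    have e2 : (S1.map (MulAut.conj x).toMonoidHom).relIndex K = S1.relIndex K := by
      conv_lhs => rw [← e1]
      exact relIndex_map_map_of_injective S1 K (MulAut.conj x).injective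
    have e3 : S1.relIndex K = (S0 : Subgroup K).index := by
      rw [relIndex, hS1, subgroupOf, comap_map_eq_self_of_injective K.subtype_injective]
    rw [e2, e3]; exact S0.not_dvd_index
  · intro y hy
    have h1 := hx y hy
    rw [mem_normalizer_iff] at h1 ⊢
    intro z
    rw [hmem, hmem, h1 (x⁻¹ * z * x)]
    have : x⁻¹ * y * x * (x⁻¹ * z * x) * (x⁻¹ * y * x)⁻¹ = x⁻¹ * (y * z * y⁻¹) * x := by group
    rw [this]

theorem caseB_step {p q : ℕ} [hp : Fact p.Prime] [Fact q.Prime] (K : Subgroup G) [K.Normal]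
    (hK : (Nat.card K).Coprime q)
    (h : ∀ y : G, (∃ k : ℕ, orderOf y = q ^ k) → ¬ p ∣ (centralizer ({y} : Set G)).index)
    (P : Sylow p G) (Q : Sylow q G)
    (hPQ : (P : Subgroup G) ≤ normalizer (((Q : Subgroup G) ⊔ K : Subgroup G) : Set G)) :
    ∃ (P' : Sylow p G) (Q' : Sylow q G),
      (P' : Subgroup G) ≤ normalizer ((Q' : Subgroup G) : Set G) := by
  obtain ⟨S, hSK, hSp, hSi, hQS⟩ := exists_invariant_sylow (p := p) K hK (Q : Subgroup G) Q.2
  have hcent : ∀ y ∈ (Q : Subgroup G), ∀ s ∈ S, y * s = s * y := by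
    intro y hy
    have hyq := exists_orderOf_eq_pow_of_mem Q.2 hy
    obtain ⟨Py, hPy⟩ := exists_sylow_le_of_not_dvd_index _ (h y hyq)
    have hPyc : ∀ z ∈ (Py : Subgroup G), y * z = z * y := by
      intro z hz
      exact (mem_centralizer_singleton_iff.mp (hPy hz)).symm
    obtain ⟨S', hS'⟩ : ∃ S' : Subgroup G, S' = (Py : Subgroup G) ⊓ K := ⟨_, rfl⟩
    have hS'K : S' ≤ K := by rw [hS']; exact inf_le_right
    have hS'Py : S' ≤ Py := by rw [hS']; exact inf_le_left
    have hS'p : IsPGroup p S' := Py.2.to_le hS'Py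
    have hS'i : ¬ p ∣ S'.relIndex K := by
      have e := relIndex_sup_mul_card_inf (Py : Subgroup G) K
      rw [← hS'] at e
      have e2 := card_mul_relIndex_of_le hS'K
      have e3 : S'.relIndex K = (Py : Subgroup G).relIndex ((Py : Subgroup G) ⊔ K) := by
        have hpos : 0 < Nat.card S' := Nat.card_pos
        apply Nat.eq_of_mul_eq_mul_left hpos
        rw [e2, ← e, mul_comm]
      rw [e3]
      intro hd
      exact Py.not_dvd_index (hd.trans (relIndex_dvd_index_of_le le_sup_left))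
    obtain ⟨k, hk, hconj⟩ := exists_conj_eq_of_sylow_in K S S' hSK hS'K hSp hS'p hSi hS'i
    have hyS' : y ∈ normalizer (S' : Set G) := by
      rw [mem_normalizer_iff]
      intro z
      rw [hS']
      constructor
      · intro hz
        have e : y * z * y⁻¹ = z := by rw [hPyc z hz.1]; group
        rw [e]; exact hz
      · intro hz
        have e1 := hPyc _ hz.1
        have e : z = y * z * y⁻¹ := by
          calc z = y⁻¹ * ((y * z * y⁻¹) * y) := by group
            _ = y⁻¹ * (y * (y * z * y⁻¹)) := by rw [e1]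
            _ = y * z * y⁻¹ := by group
        rw [e]; exact hz
    obtain ⟨c, hcK, hcy, hcconj⟩ :=
      exists_centralizing_conj K hK y hyq S S' k hk hconj (hQS hy) hyS'
    intro s hs
    have h1 : c * s * c⁻¹ ∈ S' := by
      rw [hcconj]
      have : c⁻¹ * (c * s * c⁻¹) * c = s := by group
      rw [this]; exact hs
    have h2 := hPyc _ (hS'Py h1)
    have hcy' : c⁻¹ * y = y * c⁻¹ := by
      calc c⁻¹ * y = c⁻¹ * (y * c) * c⁻¹ := by group
        _ = c⁻¹ * (c * y) * c⁻¹ := by rw [hcy]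
        _ = y * c⁻¹ := by group
    calc y * s = c⁻¹ * (c * y) * s := by group
      _ = c⁻¹ * (y * c) * s := by rw [hcy]
      _ = c⁻¹ * (y * (c * s * c⁻¹)) * c := by group
      _ = c⁻¹ * ((c * s * c⁻¹) * y) * c := by rw [h2]
      _ = s * (c⁻¹ * y) * c := by group
      _ = s * (y * c⁻¹) * c := by rw [hcy']
      _ = s * y := by group
  have hSN : S ≤ normalizer ((Q : Subgroup G) : Set G) := by
    intro s hs
    apply centralizer_le_normalizer
    rw [mem_centralizer_iff]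
    intro y hy
    exact hcent y hy s hs
  obtain ⟨N, hNdef⟩ : ∃ N : Subgroup G, N = normalizer ((Q : Subgroup G) : Set G) := ⟨_, rfl⟩
  rw [← hNdef] at hSN
  have hQN : (Q : Subgroup G) ≤ N := by rw [hNdef]; exact le_normalizer
  have hPNK : (P : Subgroup G) ≤ N ⊔ K := by
    intro x hx
    obtain ⟨m, hm, hmx⟩ :=
      exists_mul_mem_normalizer Q ((Q : Subgroup G) ⊔ K) le_sup_left x (hPQ hx)
    have hmNK : m ∈ N ⊔ K := (sup_le (hQN.trans le_sup_left) le_sup_right) hm
    have : x = m⁻¹ * (m * x) := by group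
    rw [this]
    rw [← hNdef] at hmx
    exact mul_mem (inv_mem hmNK) (mem_sup_left hmx)
  have h1 : ¬ p ∣ (N ⊔ K).index := fun hd => P.not_dvd_index (hd.trans (index_dvd_of_le hPNK))
  have h2 : ¬ p ∣ N.relIndex (N ⊔ K) := by
    have e := relIndex_sup_mul_card_inf N K
    have hSNK : S ≤ N ⊓ K := le_inf hSN hSK
    have e2 := card_mul_relIndex_of_le hSNK
    have e3 := card_mul_relIndex_of_le hSK
    have e4 : N.relIndex (N ⊔ K) * S.relIndex (N ⊓ K) = S.relIndex K := by
      apply Nat.eq_of_mul_eq_mul_left (Nat.card_pos : 0 < Nat.card S)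
      rw [e3, ← e, ← e2]; ring
    intro hd
    exact hSi (e4 ▸ Dvd.dvd.mul_right hd _)
  have h3 : ¬ p ∣ N.index := by
    rw [← relIndex_mul_index (le_sup_left : N ≤ N ⊔ K)]
    exact Nat.Prime.not_dvd_mul hp.out h2 h1
  obtain ⟨P', hP'⟩ := exists_sylow_le_of_not_dvd_index N h3
  rw [hNdef] at hP'
  exact ⟨P', Q, hP'⟩

end Main


section Cases

universe u

theorem caseA {G : Type u} [Group G] [Finite G] {p q : ℕ} [Fact p.Prime] [Fact q.Prime]
    (hpq : p ≠ q) (hsolv : IsPSolvable p G)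
    (h : ∀ y : G, (∃ k : ℕ, orderOf y = q ^ k) → ¬ p ∣ (centralizer ({y} : Set G)).index) :
    ∃ (P : Sylow p G) (Q : Sylow q G),
      (P : Subgroup G) ≤ normalizer ((Q : Subgroup G) : Set G) := by
  apply S4602.backward p q
  haveI hKn := Helper22.pPrimeCore_normal (G := G) p
  obtain ⟨K, hKdef⟩ : ∃ K : Subgroup G, K = pPrimeCore p G := ⟨_, rfl⟩
  haveI : K.Normal := by rw [hKdef]; exact hKn
  have hsol' : IsPSolvable p (G ⧸ K) := PSolv.isPSolvable_quotient K hsolv
  have hO : pPrimeCore p (G ⧸ K) = ⊥ := by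
    subst hKdef; exact PSolv.pPrimeCore_quotient_pPrimeCore (G := G) p
  have hHH := PSolv.centralizer_pCore_le hsol' hO
  have hsurj := QuotientGroup.mk'_surjective K
  obtain ⟨Q⟩ : Nonempty (Sylow q G) := inferInstance
  have hdisj : Disjoint (pCore p (G ⧸ K)) ((Q.mapSurjective hsurj : Sylow q (G ⧸ K)) : Subgroup (G ⧸ K)) :=
    IsPGroup.disjoint_of_ne p q hpq _ _ (Helper10.pCore_isPGroup p) (Q.mapSurjective hsurj).2
  have hQbot : ((Q.mapSurjective hsurj : Sylow q (G ⧸ K)) : Subgroup (G ⧸ K)) = ⊥ := by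
    rw [eq_bot_iff]
    rintro _ ⟨y, hy, rfl⟩
    have hyq := exists_orderOf_eq_pow_of_mem Q.2 hy
    obtain ⟨Py, hPy⟩ := exists_sylow_le_of_not_dvd_index _ (h y hyq)
    have hR : pCore p (G ⧸ K) ≤ ((Py.mapSurjective hsurj : Sylow p (G ⧸ K)) : Subgroup (G ⧸ K)) :=
      PSolv.pCore_le_sylow _
    have hc : QuotientGroup.mk' K y ∈ centralizer (pCore p (G ⧸ K) : Set (G ⧸ K)) := by
      rw [mem_centralizer_iff]
      intro r hr
      obtain ⟨z, hz, rfl⟩ := hR hr
      have := mem_centralizer_singleton_iff.mp (hPy hz)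
      rw [← map_mul, ← map_mul, this]
    have := (disjoint_def.mp hdisj) (hHH hc) (mem_map_of_mem _ hy)
    rw [mem_bot]; exact this
  intro hdvd
  rw [← hKdef, index_eq_card] at hdvd
  exact (Q.mapSurjective hsurj).ne_bot_of_dvd_card hdvd hQbot

theorem caseB_aux {p q : ℕ} [Fact p.Prime] [Fact q.Prime] :
    ∀ (n : ℕ) (G : Type u) [Group G] [Finite G], Nat.card G = n → IsPSolvable q G →
      (∀ y : G, (∃ k : ℕ, orderOf y = q ^ k) → ¬ p ∣ (centralizer ({y} : Set G)).index) →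
      ∃ (P : Sylow p G) (Q : Sylow q G),
        (P : Subgroup G) ≤ normalizer ((Q : Subgroup G) : Set G) := by
  intro n
  induction n using Nat.strong_induction_on with
  | _ n ih =>
    intro G _ _ hn hsolv h
    haveI hRn : (pCore q G).Normal := Helper10.pCore_normal q
    by_cases hR : pCore q G = ⊥
    · haveI hKn : (pPrimeCore q G).Normal := Helper22.pPrimeCore_normal q
      by_cases hK : pPrimeCore q G = ⊥
      · have hHH := PSolv.centralizer_pCore_le hsolv hK
        rw [hR] at hHH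
        have hall : ∀ x : G, x = 1 := by
          intro x
          have : x ∈ (⊥ : Subgroup G) := by
            apply hHH
            rw [mem_centralizer_iff]
            intro z hz
            have hz1 : z = 1 := by simpa using hz
            rw [hz1, one_mul, mul_one]
          exact mem_bot.mp this
        obtain ⟨P⟩ : Nonempty (Sylow p G) := inferInstance
        obtain ⟨Q⟩ : Nonempty (Sylow q G) := inferInstance
        refine ⟨P, Q, ?_⟩
        intro x _
        rw [hall x]; exact one_mem _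
      · have hlt : Nat.card (G ⧸ pPrimeCore q G) < n := by
          rw [← hn]; exact card_quotient_lt _ hK
        obtain ⟨Pb, Qb, hb⟩ := ih _ hlt (G ⧸ pPrimeCore q G) rfl
          (PSolv.isPSolvable_quotient _ hsolv) (hyp_quotient _ h)
        obtain ⟨P, Q, hPQ⟩ := lift_pair _ Pb Qb hb
        exact caseB_step (pPrimeCore q G) (Helper22.card_pPrimeCore_coprime q) h P Q hPQ
    · have hlt : Nat.card (G ⧸ pCore q G) < n := by
        rw [← hn]; exact card_quotient_lt _ hR
      obtain ⟨Pb, Qb, hb⟩ := ih _ hlt (G ⧸ pCore q G) rfl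
        (PSolv.isPSolvable_quotient _ hsolv) (hyp_quotient _ h)
      obtain ⟨P, Q, hPQ⟩ := lift_pair _ Pb Qb hb
      refine ⟨P, Q, ?_⟩
      have : (Q : Subgroup G) ⊔ pCore q G = Q := sup_of_le_left (PSolv.pCore_le_sylow Q)
      rwa [this] at hPQ

end Cases

/-- Let p and q be primes and G a finite group that is p-solvable or q-solvable, in which no q-element has conjugacy class size divisible by p. Then some Sylow p-subgroup of G normalizes some Sylow q-subgroup of G. -/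
theorem result {G : Type*} [Group G] [Finite G] (p q : ℕ) [Fact p.Prime] [Fact q.Prime] (hsolv : Cfsg.IsPSolvable p G ∨ Cfsg.IsPSolvable q G)
    (h : ∀ y : G, (∃ k : ℕ, orderOf y = q ^ k) → ¬ p ∣ (Subgroup.centralizer ({y} : Set G)).index) :
    ∃ (P : Sylow p G) (Q : Sylow q G), (P : Subgroup G) ≤ Subgroup.normalizer ((Q : Subgroup G) : Set G) := by
  by_cases hpq : p = q
  · subst hpq
    obtain ⟨P⟩ : Nonempty (Sylow p G) := inferInstance
    exact ⟨P, P, le_normalizer⟩
  · rcases hsolv with hs | hs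
    · exact caseA hpq hs h
    · exact caseB_aux _ G rfl hs h

end Cfsg.Agent.S4601
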