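import Mathlib
import Cfsg.Statements.S4604
import Cfsg.Agent.Lib.Helper23.PRegularClass

set_option autoImplicit false
open Cfsg

namespace Cfsg.Agent.S4604

open Cfsg.Agent.Helper23 Cfsg.Agent.Helper24

/-- `x ^ (p^a) = x' ^ (p^a)` when `x'` is the `p`-regular part of `x` and `p^a = |G|_p`. -/
theorem pow_eq_pow_regular {G : Type*} [Group G] [Finite G] (p : ℕ) [hp : Fact p.Prime] (x x' : G)
    (hx : (∃ k : ℕ, orderOf (x * x'⁻¹) = p ^ k) ∧ Commute (x * x'⁻¹) x') :
    x ^ (p ^ (Nat.card G).factorization p) = x' ^ (p ^ (Nat.card G).factorization p) := by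
  obtain ⟨⟨k, hk⟩, hc⟩ := hx
  have h1 : x = (x * x'⁻¹) * x' := by group
  have h2 : (x * x'⁻¹) ^ (p ^ (Nat.card G).factorization p) = 1 := by
    apply orderOf_dvd_iff_pow_eq_one.1
    rw [hk]
    apply pow_dvd_pow
    have hdvd : p ^ k ∣ Nat.card G := hk ▸ orderOf_dvd_natCard _
    exact (hp.out.pow_dvd_iff_le_factorization Nat.card_pos.ne').1 hdvd
  conv_lhs => rw [h1]
  rw [hc.mul_pow, h2, one_mul]

theorem not_dvd_orderOf_pow {G : Type*} [Group G] {p : ℕ} {g : G} (h : ¬ p ∣ orderOf g) (n : ℕ) :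
    ¬ p ∣ orderOf (g ^ n) := fun hd => h (hd.trans (orderOf_pow_dvd n))


/-- Let G be a finite group, p a prime and p^a the p-part of the order of G. Let x, y ∈ G and let x′, y′ be their p-regular parts: x′ has order prime to p, commutes with x·x′⁻¹, and x·x′⁻¹ has p-power order (likewise for y). Then x′ and y′ are conjugate in G if and only if for every irreducible character χ of G the algebraic integer χ(x)^(p^a) − χ(y)^(p^a) is p times an algebraic integer. -/
theorem result {G : Type*} [Group G] [Finite G] (p : ℕ) [Fact p.Prime] (x y x' y' : G)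
    (hx : (∃ k : ℕ, orderOf (x * x'⁻¹) = p ^ k) ∧ Commute (x * x'⁻¹) x' ∧ ¬ p ∣ orderOf x')
    (hy : (∃ k : ℕ, orderOf (y * y'⁻¹) = p ^ k) ∧ Commute (y * y'⁻¹) y' ∧ ¬ p ∣ orderOf y') :
    IsConj x' y' ↔ ∀ χ : Cfsg.IrrCharacter G, ∃ γ : Cfsg.AlgInt,
      (χ : G → ℂ) x ^ (p ^ (Nat.card G).factorization p) - (χ : G → ℂ) y ^ (p ^ (Nat.card G).factorization p) = (p : ℂ) * (γ : ℂ) := by
  classical
  have hp : p.Prime := Fact.out
  have hxq := pow_eq_pow_regular p x x' ⟨hx.1, hx.2.1⟩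
  have hyq := pow_eq_pow_regular p y y' ⟨hy.1, hy.2.1⟩
  have hfrob : ∀ (χ : Cfsg.IrrCharacter G) (g : G), ∃ γ : Cfsg.AlgInt,
      (χ : G → ℂ) g ^ (p ^ (Nat.card G).factorization p) -
        (χ : G → ℂ) (g ^ (p ^ (Nat.card G).factorization p)) = (p : ℂ) * (γ : ℂ) := fun χ g =>
    frobenius_congr hp _ (isCharacter_of_isIrrCharacter χ.2) g
  constructor
  · intro hconj χ
    obtain ⟨c, hc⟩ := isConj_iff.1 hconj
    have hcf := isClassFunction_of_isIrrCharacter χ.2
    have hval : (χ : G → ℂ) (y ^ (p ^ (Nat.card G).factorization p)) =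
        (χ : G → ℂ) (x ^ (p ^ (Nat.card G).factorization p)) := by
      rw [hxq, hyq, ← hc, conj_pow]
      exact hcf _ c
    obtain ⟨γ1, h1⟩ := hfrob χ x
    obtain ⟨γ2, h2⟩ := hfrob χ y
    refine ⟨γ1 - γ2, ?_⟩
    push_cast
    rw [mul_sub, ← h1, ← h2, hval]
    ring
  · intro hall
    have hu : ¬ p ∣ orderOf (x' ^ (p ^ (Nat.card G).factorization p)) :=
      not_dvd_orderOf_pow hx.2.2 _
    have hv : ¬ p ∣ orderOf (y' ^ (p ^ (Nat.card G).factorization p)) :=
      not_dvd_orderOf_pow hy.2.2 _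
    have hcong : ∀ χ : Cfsg.IrrCharacter G, ∃ γ : Cfsg.AlgInt,
        (χ : G → ℂ) (x' ^ (p ^ (Nat.card G).factorization p)) -
          (χ : G → ℂ) (y' ^ (p ^ (Nat.card G).factorization p)) = (p : ℂ) * (γ : ℂ) := by
      intro χ
      obtain ⟨γ1, h1⟩ := hfrob χ x
      obtain ⟨γ2, h2⟩ := hfrob χ y
      obtain ⟨γ3, h3⟩ := hall χ
      refine ⟨γ3 - γ1 + γ2, ?_⟩
      push_cast
      rw [mul_add, mul_sub, ← h1, ← h2, ← h3, hxq, hyq]
      ring
    have hconj := isConj_of_pRegular_of_congr hp hu hv hcong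
    -- recover `x'` and `y'` as a common power
    have hcop : Nat.Coprime (p ^ (Nat.card G).factorization p) (orderOf x' * orderOf y') := by
      apply Nat.Coprime.pow_left
      exact Nat.Coprime.mul_right ((Nat.Prime.coprime_iff_not_dvd hp).2 hx.2.2)
        ((Nat.Prime.coprime_iff_not_dvd hp).2 hy.2.2)
    obtain ⟨s, hs⟩ : ∃ s : ℕ, p ^ (Nat.card G).factorization p * s ≡ 1
        [MOD orderOf x' * orderOf y'] := by
      by_cases h1 : orderOf x' * orderOf y' = 1
      · exact ⟨0, by rw [h1]; exact Nat.modEq_one⟩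
      · have hpos : 0 < orderOf x' * orderOf y' :=
          Nat.mul_pos (orderOf_pos x') (orderOf_pos y')
        obtain ⟨s, -, hs⟩ := Nat.exists_mul_mod_eq_one_of_coprime hcop (by omega)
        refine ⟨s, ?_⟩
        unfold Nat.ModEq
        rw [hs, Nat.mod_eq_of_lt (by omega)]
    have hsx : (x' ^ (p ^ (Nat.card G).factorization p)) ^ s = x' := by
      rw [← pow_mul]
      conv_rhs => rw [← pow_one x']
      rw [pow_eq_pow_iff_modEq]
      exact hs.of_dvd (Dvd.intro _ rfl)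
    have hsy : (y' ^ (p ^ (Nat.card G).factorization p)) ^ s = y' := by
      rw [← pow_mul]
      conv_rhs => rw [← pow_one y']
      rw [pow_eq_pow_iff_modEq]
      exact hs.of_dvd (Dvd.intro_left _ rfl)
    obtain ⟨c, hc⟩ := isConj_iff.1 hconj
    rw [isConj_iff]
    refine ⟨c, ?_⟩
    rw [← hsx, ← hsy, ← hc, conj_pow]

end Cfsg.Agent.S4604
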