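import Mathlib
import Cfsg.Statements.S4607
import Cfsg.Agent.S4494
import Cfsg.Agent.S4733
import Cfsg.Agent.Lib.Helper23.BlockDefectGroup
import Cfsg.Agent.Lib.Helper23.BlkBrandt
import Cfsg.Agent.Lib.Helper23.BlkAlgClosed
import Cfsg.Agent.Lib.Helper23.BlkTwoChars
import Cfsg.Agent.Lib.Helper23.BlkTwoArith

set_option autoImplicit false
open Cfsg Cfsg.Agent.Helper23.Blk Cfsg.Agent.Helper24 Cfsg.Agent.Helper18

namespace Cfsg.Agent.S4607

/-- a block with exactly one character has defect zero -/
theorem defect_zero_of_card_one {G : Type*} [Group G] [Finite G] (p : ℕ) [Fact p.Prime]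
    (M : Ideal AlgInt) (hM : IsPModular p M) (B : Set (IrrCharacter G)) (hB : IsPBlock M B)
    (h1 : Nat.card B = 1) : blockDefect p B = 0 := by
  classical
  have hp : p.Prime := Fact.out
  have h := (Cfsg.Agent.S4733.result p M hM B hB).2.2
  rw [h, h1]
  rw [Nat.card_coe_set_eq, Set.ncard_eq_one] at h1
  obtain ⟨χ, rfl⟩ := h1
  unfold blockRank
  rw [Set.image_singleton]
  exact (finrank_span_singleton (pRegularPart_ne_zero p hp χ)).symm

/-- the case `p = 2` -/
theorem defect_eq_one_of_two {G : Type*} [Group G] [Fintype G] [Fintype (IrrCharacter G)]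
    (M : Ideal AlgInt) (hM : IsPModular 2 M) (B : Set (IrrCharacter G)) (hB : IsPBlock M B)
    [Fact (Nat.Prime 2)]
    {χ μ : IrrCharacter G} (hne : χ ≠ μ) (hBeq : B = {χ, μ})
    (h0 : blockHeight 2 B (χ : G → ℂ) = 0) (hd : 1 ≤ blockDefect 2 B) : blockDefect 2 B = 1 := by
  classical
  have hχB : χ ∈ B := by rw [hBeq]; exact Set.mem_insert _ _
  obtain ⟨m, hm, hsum⟩ := exists_row (p := 2) hχB
  have hoff : ∀ ψ, ψ ≠ χ → ψ ≠ μ → (m ψ) ^ 2 = 0 := by
    intro ψ h1 h2
    have hψ : ψ ∉ B := by
      rw [hBeq]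
      intro h
      rcases h with h | h
      · exact h1 h
      · exact h2 h
    have h3 := nInt_eq_zero hM hB hχB hψ
    rw [hm ψ] at h3
    have hpe0 : ((2 ^ minVal 2 B : ℕ) : ℤ) ≠ 0 := by positivity
    rcases mul_eq_zero.1 h3 with h | h
    · exact absurd h hpe0
    · rw [h]; ring
  rw [sum_irr_pair hne _ hoff] at hsum
  have hdd : (Nat.card G).factorization 2 - minVal 2 B = blockDefect 2 B := rfl
  rw [hdd] at hsum
  -- `m χ` is odd
  obtain ⟨hn0, hv⟩ := nInt_height_zero hM hB hχB h0 hχB
  have hve : (charDegree (χ : G → ℂ)).factorization 2 = minVal 2 B := by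
    have h1 := minVal_le (p := 2) hχB
    rw [blockHeight_eq_sub_minVal] at h0
    omega
  have hodd : Odd (m χ) := by
    rw [← Int.not_even_iff_odd, even_iff_two_dvd]
    intro h2
    have h3 : ((2 : ℤ) ^ (minVal 2 B + 1)) ∣ nInt 2 χ χ := by
      rw [hm χ, pow_succ]
      push_cast
      exact mul_dvd_mul_left _ h2
    have h4 := (padicValInt_dvd_iff (p := 2) (minVal 2 B + 1) (nInt 2 χ χ)).1 (by exact_mod_cast h3)
    rcases h4 with h4 | h4
    · exact hn0 h4
    · rw [hv, hve] at h4
      omega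
  have hfin : (m χ) ^ 2 + (m μ) ^ 2 = 2 ^ blockDefect 2 B * m χ := by
    rw [hsum]
    push_cast
    ring
  exact eq_one_of_sq_add_sq hd hodd hfin

/-- the case of odd `p` is impossible -/
theorem false_of_odd {G : Type*} [Group G] [Fintype G] [Fintype (IrrCharacter G)] (p : ℕ)
    [Fact p.Prime] (M : Ideal AlgInt) (hM : IsPModular p M) (B : Set (IrrCharacter G))
    (hB : IsPBlock M B) {χ μ : IrrCharacter G} (hne : χ ≠ μ) (hBeq : B = {χ, μ})
    (hp2 : p ≠ 2) : False := by
  classical
  have hp : p.Prime := Fact.out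
  haveI hMax : M.IsMaximal := hM.2.1
  haveI hMp : M.IsPrime := hMax.isPrime
  obtain ⟨χ₀, hχ₀⟩ := hB
  have hB' : IsPBlock M B := ⟨χ₀, hχ₀⟩
  -- the algebra side
  have hcard : cardOf (blockOf M (χ₀ : G → ℂ)) = 2 := by
    rw [← hχ₀]
    exact cardOf_pair hne B hBeq
  obtain ⟨n, hn⟩ := exists_sqSum_eq_two_mul_sq (F := AlgInt ⧸ M) (isRed_red (M := M)) χ₀ hcard
  rw [← hχ₀, sqSum_pair hne B hBeq] at hn
  -- the character side
  obtain ⟨h1, h2, h3⟩ := two_chars_relations hM hB' hne hBeq
  have hx := nInt_self_pos (p := p) χ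
  have hx2 := nInt_self_pos (p := p) μ
  have hn1 := charDegree_ne_zero χ
  have hn2 := charDegree_ne_zero μ
  have hn0 : n ≠ 0 := by
    rintro rfl
    have : 0 < charDegree (χ : G → ℂ) ^ 2 := by positivity
    omega
  have hpodd : Odd (p ^ (Nat.card G).factorization p) := by
    apply Odd.pow
    exact hp.odd_of_ne_two hp2
  -- one of the diagonal entries is odd
  have hcases : Odd (nInt p χ χ) ∨ Odd (nInt p μ μ) := by
    by_contra hcon
    rw [not_or, Int.not_odd_iff_even, Int.not_odd_iff_even] at hcon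
    have : Even (((p ^ (Nat.card G).factorization p : ℕ) : ℤ)) := by
      rw [← h1]
      exact hcon.1.add hcon.2
    have h4 : Even (p ^ (Nat.card G).factorization p) := by exact_mod_cast this
    exact (Nat.not_even_iff_odd.2 hpodd) h4
  have hcast : ((charDegree (χ : G → ℂ) : ℤ) ^ 2 + (charDegree (μ : G → ℂ) : ℤ) ^ 2) =
      ((2 * n ^ 2 : ℕ) : ℤ) := by
    rw [← hn]
    push_cast
    ring
  rcases hcases with hodd | hodd
  · obtain ⟨X, hX⟩ := Int.eq_ofNat_of_zero_le hx.le
    rw [hX] at hodd h2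
    have hXodd : Odd X := by exact_mod_cast hodd
    rw [hcast] at h2
    have h5 : 2 * n ^ 2 * X = charDegree (χ : G → ℂ) ^ 2 * p ^ (Nat.card G).factorization p := by
      have : ((2 * n ^ 2 * X : ℕ) : ℤ) =
          ((charDegree (χ : G → ℂ) ^ 2 * p ^ (Nat.card G).factorization p : ℕ) : ℤ) := by
        push_cast
        push_cast at h2
        linarith
      exact_mod_cast this
    exact two_mul_sq_mul_odd_ne hXodd hpodd hn0 hn1 h5
  · obtain ⟨X, hX⟩ := Int.eq_ofNat_of_zero_le hx2.le
    rw [hX] at hodd h3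
    have hXodd : Odd X := by exact_mod_cast hodd
    rw [hcast] at h3
    have h5 : 2 * n ^ 2 * X = charDegree (μ : G → ℂ) ^ 2 * p ^ (Nat.card G).factorization p := by
      have : ((2 * n ^ 2 * X : ℕ) : ℤ) =
          ((charDegree (μ : G → ℂ) ^ 2 * p ^ (Nat.card G).factorization p : ℕ) : ℤ) := by
        push_cast
        push_cast at h3
        linarith
      exact_mod_cast this
    exact two_mul_sq_mul_odd_ne hXodd hpodd hn0 hn2 h5

/-- Let G be a finite group, p a prime, M a maximal ideal of the algebraic integers containing p, and B a p-block of G with defect group D. Then B contains exactly two irreducible characters if and only if D has order 2. -/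
theorem result {G : Type*} [Group G] [Finite G] (p : ℕ) [Fact p.Prime] (M : Ideal Cfsg.AlgInt) (hM : Cfsg.IsPModular p M) (B : Set (Cfsg.IrrCharacter G)) (hB : Cfsg.IsPBlock M B) (D : Subgroup G) (hD : Cfsg.IsDefectGroup p M B D) : Nat.card B = 2 ↔ Nat.card D = 2 := by
  classical
  have hp : p.Prime := Fact.out
  haveI hMp : M.IsPrime := hM.2.1.isPrime
  letI : Fintype G := Fintype.ofFinite G
  letI : Fintype (IrrCharacter G) := irrFintype
  have hcardD := card_defectGroup hM hB hD
  have hne : B.Nonempty := by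
    obtain ⟨χ₀, rfl⟩ := hB
    exact ⟨χ₀, sameBlock_refl _⟩
  constructor
  · intro h2
    rw [hcardD]
    -- the defect is positive
    have hd : 1 ≤ blockDefect p B := by
      by_contra hcon
      have h0 : blockDefect p B = 0 := by omega
      have := ((Cfsg.Agent.S4733.result p M hM B hB).2.1.1 h0).1
      omega
    have h2' := h2
    rw [Nat.card_coe_set_eq, Set.ncard_eq_two] at h2'
    obtain ⟨χ, μ, hχμ, hBeq⟩ := h2'
    by_cases hp2 : p = 2
    · subst hp2
      obtain ⟨ξ, hξ, hmin⟩ := exists_min_degree (p := 2) hne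
      have h0 : blockHeight 2 B (ξ : G → ℂ) = 0 := (blockHeight_eq_zero_iff hξ).2 hmin
      have hξ' : ξ = χ ∨ ξ = μ := by
        rw [hBeq] at hξ
        exact hξ
      rcases hξ' with rfl | rfl
      · rw [defect_eq_one_of_two M hM B hB hχμ hBeq h0 hd, pow_one]
      · rw [defect_eq_one_of_two M hM B hB hχμ.symm (hBeq.trans (Set.pair_comm _ _)) h0 hd,
          pow_one]
    · exact (false_of_odd p M hM B hB hχμ hBeq hp2).elim
  · intro h2
    rw [hcardD] at h2
    -- `p = 2` and the defect is one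
    have hp2 : p = 2 := by
      have h1 : p ∣ 2 := by
        rw [← h2]
        apply dvd_pow_self
        intro h0
        rw [h0, pow_zero] at h2
        omega
      exact (Nat.prime_dvd_prime_iff_eq hp Nat.prime_two).1 h1
    subst hp2
    have hd : blockDefect 2 B = 1 := by
      have : (2 : ℕ) ^ blockDefect 2 B = 2 ^ 1 := by rw [h2, pow_one]
      exact Nat.pow_right_injective (le_refl 2) this
    have h3 := Cfsg.Agent.S4494.result 2 M hM B hB
    rw [hd] at h3
    have h4 : Nat.card B ≠ 1 := by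
      intro h1
      have := defect_zero_of_card_one 2 M hM B hB h1
      omega
    have h5 : 0 < Nat.card B := by
      rw [Nat.card_coe_set_eq]
      exact (Set.ncard_pos (Set.toFinite B)).2 hne
    have h6 : 4 * Nat.card B ≤ 2 ^ (2 * 1) + 4 := h3
    have h7 : (2 : ℕ) ^ (2 * 1) = 4 := by norm_num
    rw [h7] at h6
    omega

end Cfsg.Agent.S4607
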