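import Mathlib
import Cfsg.Statements.S4611
import Cfsg.Agent.Lib.Helper23.PrincipalPSolv
import Cfsg.Agent.S4227

set_option autoImplicit false
open Cfsg Cfsg.Agent.Helper23.Blk Cfsg.Agent.Helper24 Cfsg.Agent.Helper18
open scoped ComplexConjugate

namespace Cfsg.Agent.S4611

/-- Let G be a finite solvable group and π a nonempty set of primes, each dividing the order of G; fix for each p in π a maximal ideal M p of the algebraic integers containing p. Then the only irreducible character lying in the principal p-block for every p in π is the principal character if and only if G is generated by the subgroups O_{p'}(G), p in π (the largest normal subgroups of order prime to p). -/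
theorem result {G : Type*} [Group G] [Finite G] [Group.IsSolvable G] (π : Set ℕ) (hπ : ∀ p ∈ π, p.Prime ∧ p ∣ Nat.card G) (hne : π.Nonempty) (M : ℕ → Ideal Cfsg.AlgInt) (hM : ∀ p ∈ π, Cfsg.IsPModular p (M p)) :
    (∀ χ : Cfsg.IrrCharacter G, (∀ p ∈ π, χ ∈ Cfsg.principalBlock (M p) G) → (χ : G → ℂ) = fun _ => 1) ↔
      ⨆ p ∈ π, Cfsg.pPrimeCore p G = ⊤ := by
  classical
  haveI : Fintype G := Fintype.ofFinite G
  letI : Fintype (IrrCharacter G) := irrFintype
  set K : Subgroup G := ⨆ p ∈ π, Cfsg.pPrimeCore p G with hK
  haveI hKn : K.Normal := Subgroup.biSup_normal π (fun p => Cfsg.pPrimeCore p G)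
    (fun p _ => Cfsg.pPrimeCore_normal p G)
  have hle : ∀ p ∈ π, Cfsg.pPrimeCore p G ≤ K := fun p hp => le_biSup (fun p => Cfsg.pPrimeCore p G) hp
  have hfong : ∀ p ∈ π, ∀ χ : Cfsg.IrrCharacter G, χ ∈ Cfsg.principalBlock (M p) G ↔
      ∀ n ∈ Cfsg.pPrimeCore p G, (χ : G → ℂ) n = (χ : G → ℂ) 1 := by
    intro p hp χ
    haveI : Fact p.Prime := ⟨(hπ p hp).1⟩
    exact mem_principalBlock_iff_of_isPSolvable (hM p hp)
      (Cfsg.Agent.S4227.isPSolvable_of_isSolvable inferInstance p) χ
  constructor
  · intro h
    by_contra hne'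
    -- a nonprincipal character of `G ⧸ K`
    haveI : Fintype (G ⧸ K) := Fintype.ofFinite _
    letI : Fintype (IrrCharacter (G ⧸ K)) := irrFintype
    have hex : ∃ ψ : IrrCharacter (G ⧸ K), (ψ : G ⧸ K → ℂ) ≠ fun _ => 1 := by
      by_contra hall
      push Not at hall
      have h1 := sum_charDegree_sq (G := G ⧸ K)
      have h2 : ∀ ψ : IrrCharacter (G ⧸ K), ψ = principalChar (G ⧸ K) := by
        intro ψ
        apply Subtype.ext
        rw [hall ψ]
        rfl
      have h3 : ∀ ψ : IrrCharacter (G ⧸ K), charDegree (ψ : G ⧸ K → ℂ) ^ 2 = 1 := by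
        intro ψ
        rw [hall ψ]
        unfold charDegree
        simp
      rw [Finset.sum_congr rfl (fun ψ _ => h3 ψ), Finset.sum_const, smul_eq_mul, mul_one] at h1
      have h4 : (Finset.univ : Finset (IrrCharacter (G ⧸ K))).card ≤ 1 := by
        rw [Finset.card_le_one]
        intro a _ b _
        rw [h2 a, h2 b]
      have h5 : K.index = Nat.card (G ⧸ K) := Subgroup.index_eq_card K
      have h6 : K.index ≤ 1 := by omega
      have h7 : K.index = 1 := le_antisymm h6 (Nat.pos_of_ne_zero Subgroup.index_ne_zero_of_finite)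
      exact hne' (Subgroup.index_eq_one.mp h7)
    obtain ⟨ψ, hψ⟩ := hex
    have hχ := h ((inflateEquiv K ψ).1 : IrrCharacter G) (by
      intro p hp
      rw [hfong p hp]
      intro n hn
      exact (inflateEquiv K ψ).2 n (hle p hp hn))
    apply hψ
    funext x
    obtain ⟨g, rfl⟩ := QuotientGroup.mk_surjective x
    have := congrFun hχ g
    rw [inflateEquiv_coe] at this
    exact this
  · intro hKtop χ hχ
    have hker : K ≤ charKer (isCharacter_of_isIrrCharacter χ.2) := by
      rw [hK]
      apply iSup₂_le
      intro p hp n hn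
      rw [mem_charKer]
      exact (hfong p hp χ).1 (hχ p hp) n hn
    rw [hKtop] at hker
    have hconst : ∀ g : G, (χ : G → ℂ) g = (χ : G → ℂ) 1 := by
      intro g
      exact (mem_charKer _ g).1 (hker (Subgroup.mem_top g))
    have horth := irr_orthogonality χ.2 (principalChar G).2
    have hval : classInner (χ : G → ℂ) ((principalChar G : IrrCharacter G) : G → ℂ) =
        (χ : G → ℂ) 1 := by
      unfold classInner
      have : ∀ g : G, (χ : G → ℂ) g * conj (((principalChar G : IrrCharacter G) : G → ℂ) g) =
          (χ : G → ℂ) 1 := by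
        intro g
        rw [hconst g]
        unfold principalChar
        simp
      rw [Finset.sum_congr rfl (fun g _ => this g), Finset.sum_const, Finset.card_univ,
        nsmul_eq_mul, ← Nat.card_eq_fintype_card, ← mul_assoc, inv_mul_cancel₀, one_mul]
      exact_mod_cast (Nat.card_pos (α := G)).ne'
    rw [hval] at horth
    by_cases heq : (χ : G → ℂ) = ((principalChar G : IrrCharacter G) : G → ℂ)
    · rw [heq]
      rfl
    · rw [if_neg heq] at horth
      exact absurd horth (irr_one_ne_zero χ.2)

end Cfsg.Agent.S4611
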