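import Mathlib
import Cfsg.Statements.S4620
import Cfsg.Agent.Lib.Helper7.Cores
import Cfsg.Agent.Lib.Helper14.Basic
import Cfsg.Agent.Lib.Helper22.PPrimeCore

set_option autoImplicit false
open Cfsg
open scoped Pointwise

namespace Cfsg.Agent.S4620

universe u

/-- elementwise TI -/
def TIe {G : Type u} [Group G] (P : Subgroup G) : Prop :=
  ∀ g y : G, y ∈ P → y ≠ 1 → g * y * g⁻¹ ∈ P → g ∈ Subgroup.normalizer (P : Set G)

theorem mem_conj_smul_iff {G : Type u} [Group G] (P : Subgroup G) (g x : G) :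
    x ∈ MulAut.conj g • P ↔ g⁻¹ * x * g ∈ P := by
  rw [Subgroup.mem_pointwise_smul_iff_inv_smul_mem, MulAut.smul_def, ← map_inv, MulAut.conj_apply,
    inv_inv]

theorem tie_of_inf {G : Type u} [Group G] (P : Subgroup G)
    (h : ∀ g : G, g ∉ Subgroup.normalizer (P : Set G) → P ⊓ (MulAut.conj g • P) = ⊥) : TIe P := by
  intro g y hy hy1 hgy
  by_contra hg
  have h1 := h g hg
  have h2 : g * y * g⁻¹ ∈ P ⊓ (MulAut.conj g • P) := by
    refine Subgroup.mem_inf.mpr ⟨hgy, ?_⟩
    rw [mem_conj_smul_iff]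
    have : g⁻¹ * (g * y * g⁻¹) * g = y := by group
    rw [this]; exact hy
  rw [h1, Subgroup.mem_bot] at h2
  apply hy1
  have : y = g⁻¹ * (g * y * g⁻¹) * g := by group
  rw [this, h2]; group

theorem inf_of_tie {G : Type u} [Group G] (Q : Subgroup G) (h : TIe Q) (n : G)
    (hn : n ∉ Subgroup.normalizer (Q : Set G)) : Q ⊓ (MulAut.conj n • Q) = ⊥ := by
  rw [eq_bot_iff]
  intro y hy
  rw [Subgroup.mem_inf, mem_conj_smul_iff] at hy
  rw [Subgroup.mem_bot]
  by_contra hy1
  apply hn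
  have h1 : n⁻¹ * y * n ≠ 1 := by
    intro h1
    apply hy1
    have : y = n * (n⁻¹ * y * n) * n⁻¹ := by group
    rw [this, h1]; group
  apply h n (n⁻¹ * y * n) hy.2 h1
  have : n * (n⁻¹ * y * n) * n⁻¹ = y := by group
  rw [this]; exact hy.1

theorem tie_conj {G : Type u} [Group G] (P : Subgroup G) (h : TIe P) (c : G) :
    TIe (MulAut.conj c • P) := by
  intro g y hy hy1 hgy
  rw [mem_conj_smul_iff] at hy hgy
  have h1 : c⁻¹ * y * c ≠ 1 := by
    intro h1
    apply hy1
    have : y = c * (c⁻¹ * y * c) * c⁻¹ := by group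
    rw [this, h1]; group
  have h2 : (c⁻¹ * g * c) * (c⁻¹ * y * c) * (c⁻¹ * g * c)⁻¹ ∈ P := by
    have : (c⁻¹ * g * c) * (c⁻¹ * y * c) * (c⁻¹ * g * c)⁻¹ = c⁻¹ * (g * y * g⁻¹) * c := by group
    rw [this]; exact hgy
  have h3 := h _ _ hy h1 h2
  rw [Subgroup.mem_normalizer_iff] at h3 ⊢
  intro x
  rw [mem_conj_smul_iff, mem_conj_smul_iff]
  have h4 := h3 (c⁻¹ * x * c)
  have h5 : c⁻¹ * g * c * (c⁻¹ * x * c) * (c⁻¹ * g * c)⁻¹ = c⁻¹ * (g * x * g⁻¹) * c := by group
  rw [h5] at h4
  exact h4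

/-- all Sylow `p`-subgroups are TI -/
def AllTI (p : ℕ) (G : Type u) [Group G] : Prop := ∀ Q : Sylow p G, TIe (Q : Subgroup G)

theorem allTI_of_one {G : Type u} [Group G] [Finite G] (p : ℕ) [Fact p.Prime] (P : Sylow p G)
    (h : TIe (P : Subgroup G)) : AllTI p G := by
  intro Q
  obtain ⟨c, hc⟩ := MulAction.exists_smul_eq G P Q
  have : (Q : Subgroup G) = MulAut.conj c • (P : Subgroup G) := by
    rw [← hc]; exact Sylow.coe_subgroup_smul
  rw [this]
  exact tie_conj _ h c


/-- a `p`-element normalizing a Sylow `p`-subgroup lies in it -/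
theorem mem_sylow_of_mem_normalizer {G : Type u} [Group G] (p : ℕ) [Fact p.Prime]
    (P : Sylow p G) (x : G) (hx : x ∈ Subgroup.normalizer ((P : Subgroup G) : Set G))
    (hxp : ∃ k : ℕ, orderOf x = p ^ k) : x ∈ (P : Subgroup G) := by
  have hz : IsPGroup p (Subgroup.zpowers x) := by
    obtain ⟨k, hk⟩ := hxp
    apply IsPGroup.of_card (n := k)
    rw [Nat.card_zpowers, hk]
  have h1 : IsPGroup p (Subgroup.zpowers x ⊔ (P : Subgroup G) : Subgroup G) :=
    IsPGroup.to_sup_of_normal_right' hz P.2 (Subgroup.zpowers_le.mpr hx)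
  have h2 := P.3 h1 le_sup_right
  rw [← h2]
  exact Subgroup.mem_sup_left (Subgroup.mem_zpowers x)

/-- TI Sylow subgroups pass to normal subgroups. -/
theorem allTI_normal {H : Type u} [Group H] [Finite H] (p : ℕ) [Fact p.Prime] (N : Subgroup H)
    [hN : N.Normal] (h : AllTI p H) : AllTI p N := by
  intro Q
  obtain ⟨P', hP'⟩ := (Q.2.map N.subtype).exists_le_sylow
  -- Q = P' ∩ N
  have hQeq : (Q : Subgroup N) = (P' : Subgroup H).subgroupOf N := by
    have h1 : (Q : Subgroup N) ≤ (P' : Subgroup H).subgroupOf N := by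
      intro x hx
      rw [Subgroup.mem_subgroupOf]
      exact hP' (Subgroup.mem_map_of_mem _ hx)
    have h2 : IsPGroup p ((P' : Subgroup H).subgroupOf N) :=
      P'.2.comap_of_injective N.subtype N.subtype_injective
    exact (Q.3 h2 h1).symm
  have key : ∀ n : N, (n : H) ∈ Subgroup.normalizer ((P' : Subgroup H) : Set H) →
      n ∈ Subgroup.normalizer ((Q : Subgroup N) : Set N) := by
    intro n hn
    rw [Subgroup.mem_normalizer_iff] at hn ⊢
    intro x
    rw [hQeq, Subgroup.mem_subgroupOf, Subgroup.mem_subgroupOf]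
    exact hn x
  intro n y hy hy1 hny
  apply key
  apply h P' (n : H) (y : H)
  · exact hP' (Subgroup.mem_map_of_mem _ hy)
  · intro h1
    exact hy1 (Subtype.ext h1)
  · exact hP' (Subgroup.mem_map_of_mem _ hny)

/-- Two disjoint normal subgroups of order divisible by `p` cannot exist. -/
theorem no_two_normal {G : Type u} [Group G] [Finite G] (p : ℕ) [hp : Fact p.Prime]
    (hTI : AllTI p G) (hOp : Cfsg.pCore p G = ⊥) (M₁ M₂ : Subgroup G) [h1 : M₁.Normal]
    [h2 : M₂.Normal] (hdisj : M₁ ⊓ M₂ = ⊥) (hd1 : p ∣ Nat.card M₁) (hd2 : p ∣ Nat.card M₂) :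
    False := by
  obtain ⟨y, hy⟩ := exists_prime_orderOf_dvd_card' (G := M₂) p hd2
  obtain ⟨x, hx⟩ := exists_prime_orderOf_dvd_card' (G := M₁) p hd1
  have hyo : orderOf (y : G) = p := by rw [Subgroup.orderOf_coe]; exact hy
  have hxo : orderOf (x : G) = p := by rw [Subgroup.orderOf_coe]; exact hx
  have hz : IsPGroup p (Subgroup.zpowers (y : G)) := by
    apply IsPGroup.of_card (n := 1)
    rw [Nat.card_zpowers, hyo, pow_one]
  obtain ⟨P', hP'⟩ := hz.exists_le_sylow
  have hyP : (y : G) ∈ (P' : Subgroup G) := hP' (Subgroup.mem_zpowers _)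
  have hy1 : (y : G) ≠ 1 := by
    intro h
    rw [h, orderOf_one] at hyo
    exact hp.out.one_lt.ne hyo
  have hcomm : ∀ g ∈ M₁, g * (y : G) * g⁻¹ = y := by
    intro g hg
    have := Subgroup.commute_of_normal_of_disjoint M₁ M₂ h1 h2 (disjoint_iff.mpr hdisj) g y hg y.2
    rw [this.eq, mul_inv_cancel_right]
  have hM₁ : M₁ ≤ Subgroup.normalizer ((P' : Subgroup G) : Set G) := by
    intro g hg
    apply hTI P' g y hyP hy1
    rw [hcomm g hg]; exact hyP
  -- the p-elements of M₁
  set Q₁ : Subgroup G := (P' : Subgroup G) ⊓ M₁ with hQ₁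
  have hmem : ∀ z : G, z ∈ M₁ → (∃ k : ℕ, orderOf z = p ^ k) → z ∈ Q₁ := by
    intro z hz hzo
    exact Subgroup.mem_inf.mpr ⟨mem_sylow_of_mem_normalizer p P' z (hM₁ hz) hzo, hz⟩
  have hQ₁pg : IsPGroup p Q₁ := P'.2.to_le inf_le_left
  have hQ₁n : Q₁.Normal := by
    constructor
    intro z hz g
    apply hmem
    · exact h1.conj_mem z (Subgroup.mem_inf.mp hz).2 g
    · obtain ⟨k, hk⟩ := hQ₁pg ⟨z, hz⟩
      have h3 : z ^ p ^ k = 1 := by
        have := congrArg Subtype.val hk
        simpa using this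
      have h4 : orderOf (g * z * g⁻¹) = orderOf z := by
        have := MulEquiv.orderOf_eq (MulAut.conj g) z
        rwa [MulAut.conj_apply] at this
      rw [h4]
      obtain ⟨j, -, hj⟩ := (Nat.dvd_prime_pow hp.out).mp (orderOf_dvd_of_pow_eq_one h3)
      exact ⟨j, hj⟩
  have hle : Q₁ ≤ Cfsg.pCore p G := Helper14.le_pCore hQ₁n hQ₁pg
  rw [hOp] at hle
  have hxQ : (x : G) ∈ Q₁ := hmem x x.2 ⟨1, by rw [hxo, pow_one]⟩
  have := hle hxQ
  rw [Subgroup.mem_bot] at this
  rw [this, orderOf_one] at hxo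
  exact hp.out.one_lt.ne hxo

theorem exists_minimal_normal (G : Type u) [Group G] [Finite G] (K₀ : Subgroup G)
    (hK₀n : K₀.Normal) (hK₀ : K₀ ≠ ⊥) :
    ∃ N : Subgroup G, N.Normal ∧ N ≠ ⊥ ∧ N ≤ K₀ ∧
      ∀ K : Subgroup G, K.Normal → K ≠ ⊥ → K ≤ N → K = N := by
  let 𝒮 : Set (Subgroup G) := {K | K.Normal ∧ K ≠ ⊥ ∧ K ≤ K₀}
  have hfin : 𝒮.Finite := Set.toFinite 𝒮
  have hne : 𝒮.Nonempty := ⟨K₀, hK₀n, hK₀, le_refl _⟩
  obtain ⟨N, ⟨hNn, hN1, hNK⟩, hmin⟩ := hfin.exists_minimal hne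
  refine ⟨N, hNn, hN1, hNK, ?_⟩
  intro K hKn hK1 hKN
  exact le_antisymm hKN (hmin ⟨hKn, hK1, hKN.trans hNK⟩ hKN)

theorem dvd_card_of_normal {G : Type u} [Group G] [Finite G] (p : ℕ) [hp : Fact p.Prime]
    (hOp' : Cfsg.pPrimeCore p G = ⊥) (K : Subgroup G) (hKn : K.Normal) (hK : K ≠ ⊥) :
    p ∣ Nat.card K := by
  by_contra hnd
  apply hK
  have h1 : (Nat.card K).Coprime p := ((Nat.Prime.coprime_iff_not_dvd hp.out).mpr hnd).symm
  have := Helper22.le_pPrimeCore p K hKn h1
  rw [hOp'] at this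
  exact le_bot_iff.mp this


theorem pCore_subgroup_eq_bot {H : Type u} [Group H] (p : ℕ) [Fact p.Prime]
    (hOp : Cfsg.pCore p H = ⊥) (N : Subgroup H) [N.Normal] : Cfsg.pCore p N = ⊥ := by
  have h1 := Helper7.map_subtype_pCore_le p N
  rw [hOp] at h1
  rw [eq_bot_iff]
  intro x hx
  have : N.subtype x ∈ (⊥ : Subgroup H) := h1 (Subgroup.mem_map_of_mem _ hx)
  rw [Subgroup.mem_bot] at this ⊢
  exact Subtype.ext this

theorem pPrimeCore_subgroup_eq_bot {H : Type u} [Group H] [Finite H] (p : ℕ)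
    (hOp : Cfsg.pPrimeCore p H = ⊥) (N : Subgroup H) [N.Normal] : Cfsg.pPrimeCore p N = ⊥ := by
  have h1 := Helper7.map_subtype_pPrimeCore_le p N
  rw [hOp] at h1
  rw [eq_bot_iff]
  intro x hx
  have : N.subtype x ∈ (⊥ : Subgroup H) := h1 (Subgroup.mem_map_of_mem _ hx)
  rw [Subgroup.mem_bot] at this ⊢
  exact Subtype.ext this

theorem main {H : Type u} [Group H] [Finite H] (p : ℕ) [hp : Fact p.Prime]
    (hOp : Cfsg.pCore p H = ⊥) (hOp' : Cfsg.pPrimeCore p H = ⊥) (P : Sylow p H)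
    (hP1 : (P : Subgroup H) ≠ ⊥)
    (hTI : ∀ g : H, g ∉ Subgroup.normalizer ((P : Subgroup H) : Set H) →
      (P : Subgroup H) ⊓ (MulAut.conj g • (P : Subgroup H)) = ⊥) :
    ∃ N : Subgroup H, N.Normal ∧ N ≠ ⊥ ∧ (∀ K : Subgroup H, K.Normal → K ≠ ⊥ → N ≤ K) ∧
      IsSimpleGroup N ∧ ¬ IsMulCommutative N ∧ Subgroup.centralizer (N : Set H) = ⊥ ∧
      ∀ Q : Sylow p N, (Q : Subgroup N) ≠ ⊥ ∧
        ∀ n : N, n ∉ Subgroup.normalizer ((Q : Subgroup N) : Set N) →
          (Q : Subgroup N) ⊓ (MulAut.conj n • (Q : Subgroup N)) = ⊥ := by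
  have hall : AllTI p H := allTI_of_one p P (tie_of_inf _ hTI)
  have htop : (⊤ : Subgroup H) ≠ ⊥ := by
    intro h
    apply hP1
    rw [eq_bot_iff, ← h]
    exact le_top
  obtain ⟨N, hNn, hN1, -, hNmin⟩ := exists_minimal_normal H ⊤ inferInstance htop
  haveI := hNn
  have hpN : p ∣ Nat.card N := dvd_card_of_normal p hOp' N hNn hN1
  have hallN : AllTI p N := allTI_normal p N hall
  have hOpN : Cfsg.pCore p N = ⊥ := pCore_subgroup_eq_bot p hOp N
  have hOp'N : Cfsg.pPrimeCore p N = ⊥ := pPrimeCore_subgroup_eq_bot p hOp' N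
  haveI hNnt : Nontrivial N := by
    rw [← Subgroup.nontrivial_iff_ne_bot] at hN1  
    exact hN1
  -- simplicity
  have hsimple : IsSimpleGroup N := by
    refine ⟨?_⟩
    intro M₀ hM₀n
    by_contra hcon
    push Not at hcon
    obtain ⟨hM₀1, hM₀top⟩ := hcon
    obtain ⟨M, hMn, hM1, hMM₀, hMmin⟩ := exists_minimal_normal N M₀ hM₀n hM₀1
    haveI := hMn
    have hMtop : M ≠ ⊤ := by
      intro h
      apply hM₀top
      rw [eq_top_iff, ← h]
      exact hMM₀
    -- a conjugate different from M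
    have hex : ∃ h : H, M.map (MulAut.conjNormal h : MulAut N).toMonoidHom ≠ M := by
      by_contra hall'
      push Not at hall'
      have hKn : (M.map N.subtype).Normal := by
        constructor
        rintro x ⟨m, hm, rfl⟩ h
        have h1 : (MulAut.conjNormal h : MulAut N) m ∈
            M.map (MulAut.conjNormal h : MulAut N).toMonoidHom := ⟨m, hm, rfl⟩
        rw [hall' h] at h1
        exact ⟨_, h1, by simp [MulAut.conjNormal_apply]⟩
      have hK1 : M.map N.subtype ≠ ⊥ := by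
        intro h
        apply hM1
        rw [eq_bot_iff]
        intro m hm
        have : N.subtype m ∈ M.map N.subtype := Subgroup.mem_map_of_mem _ hm
        rw [h, Subgroup.mem_bot] at this
        rw [Subgroup.mem_bot]
        exact Subtype.ext this
      have h2 := hNmin _ hKn hK1 (Subgroup.map_subtype_le _)
      apply hMtop
      rw [eq_top_iff]
      intro n _
      have : (n : H) ∈ M.map N.subtype := by rw [h2]; exact n.2
      obtain ⟨m, hm, hmn⟩ := this
      have : m = n := Subtype.ext hmn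
      rw [← this]; exact hm
    obtain ⟨h, hh⟩ := hex
    set M' := M.map (MulAut.conjNormal h : MulAut N).toMonoidHom with hM'
    haveI hM'n : M'.Normal :=
      Subgroup.Normal.map hMn _ (MulAut.conjNormal h : MulAut N).surjective
    have hcard : Nat.card M' = Nat.card M :=
      Subgroup.card_map_of_injective (MulAut.conjNormal h : MulAut N).injective
    have hdisj : M ⊓ M' = ⊥ := by
      by_contra hne
      have h1 := hMmin (M ⊓ M') inferInstance hne inf_le_left
      have h2 : M ≤ M' := by rw [← h1]; exact inf_le_right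
      apply hh
      exact (Subgroup.eq_of_le_of_card_ge h2 hcard.le).symm
    have hpM : p ∣ Nat.card M := dvd_card_of_normal p hOp'N M hMn hM1
    exact no_two_normal p hallN hOpN M M' hdisj hpM (hcard ▸ hpM)
  -- uniqueness
  have huniq : ∀ K : Subgroup H, K.Normal → K ≠ ⊥ → N ≤ K := by
    intro K hKn hK1
    haveI := hKn
    by_cases hNK : N ⊓ K = ⊥
    · exfalso
      exact no_two_normal p hall hOp N K hNK hpN (dvd_card_of_normal p hOp' K hKn hK1)
    · have := hNmin (N ⊓ K) inferInstance hNK inf_le_left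
      rw [← this]
      exact inf_le_right
  -- non-commutative
  have hnc : ¬ IsMulCommutative N := by
    intro hc
    letI : CommGroup N := { (inferInstance : Group N) with mul_comm := hc.is_comm.comm }
    have hprime := IsSimpleGroup.prime_card (α := N)
    have hcp : Nat.card N = p := ((Nat.prime_dvd_prime_iff_eq hp.out hprime).mp hpN).symm
    have hpg : IsPGroup p N := IsPGroup.of_card (n := 1) (by rw [hcp, pow_one])
    have hle : N ≤ Cfsg.pCore p H := Helper14.le_pCore hNn hpg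
    rw [hOp] at hle
    exact hN1 (le_bot_iff.mp hle)
  refine ⟨N, hNn, hN1, huniq, hsimple, hnc, ?_, ?_⟩
  · by_contra hC
    have hCn : (Subgroup.centralizer (N : Set H)).Normal := inferInstance
    have h1 := huniq _ hCn hC
    apply hnc
    constructor
    constructor
    intro a b
    have := h1 a.2
    rw [Subgroup.mem_centralizer_iff] at this
    exact Subtype.ext (this b b.2).symm
  · intro Q
    refine ⟨Q.ne_bot_of_dvd_card hpN, ?_⟩
    intro n hn
    exact inf_of_tie _ (hallN Q) n hn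

/-- Let H be a finite group with no nontrivial normal p-subgroup and no nontrivial normal subgroup of order prime to p, whose Sylow p-subgroup P is nontrivial and a trivial-intersection set (P meets its conjugates by elements outside N_H(P) trivially). Then H has a unique minimal normal subgroup N; N is non-abelian simple with trivial centralizer in H (so H embeds in Aut(N)), and a Sylow p-subgroup of N is again a nontrivial trivial-intersection set in N. -/
theorem result {H : Type*} [Group H] [Finite H] (p : ℕ) [Fact p.Prime] (hOp : Cfsg.pCore p H = ⊥) (hOp' : Cfsg.pPrimeCore p H = ⊥) (P : Sylow p H) (hP1 : (P : Subgroup H) ≠ ⊥)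
    (hTI : ∀ g : H, g ∉ Subgroup.normalizer ((P : Subgroup H) : Set H) → (P : Subgroup H) ⊓ (MulAut.conj g • (P : Subgroup H)) = ⊥) :
    ∃ N : Subgroup H, N.Normal ∧ N ≠ ⊥ ∧ (∀ K : Subgroup H, K.Normal → K ≠ ⊥ → N ≤ K) ∧
      IsSimpleGroup N ∧ ¬ IsMulCommutative N ∧ Subgroup.centralizer (N : Set H) = ⊥ ∧
      ∀ Q : Sylow p N, (Q : Subgroup N) ≠ ⊥ ∧
        ∀ n : N, n ∉ Subgroup.normalizer ((Q : Subgroup N) : Set N) → (Q : Subgroup N) ⊓ (MulAut.conj n • (Q : Subgroup N)) = ⊥ := by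
  exact main p hOp hOp' P hP1 hTI

end Cfsg.Agent.S4620
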