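import Cfsg.Statements.S4625
import Cfsg.Agent.Lib.Helper14.SylAbDefs
import Cfsg.Agent.Lib.Helper18.SylAbSL
import Cfsg.Agent.Lib.Helper4.SylAbSP
import Cfsg.Agent.Lib.Helper4.SylAbSU
import Cfsg.Agent.Lib.Helper14.SylAbOPLUS
import Cfsg.Agent.Lib.Helper18.SylAbOMINUS
import Cfsg.Agent.Lib.Helper21.SylAbCHEV
import Cfsg.Agent.Lib.Helper21.SylAbTWE6
import Cfsg.Agent.Lib.Helper15.SylAbTWD4
import Cfsg.Agent.Lib.Helper15.SylAbSZ
import Cfsg.Agent.Lib.Helper9.SylAbTWF4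

set_option autoImplicit false
open Cfsg

namespace Cfsg.Agent.S4625

open Cfsg.Agent.Helper14.SylAb

theorem result {G : Type*} [Group G] [Finite G] [IsSimpleGroup G] (hG : Cfsg.IsLieTypeChar 2 G) (P : Sylow 2 G) :
    ∀ x : (P : Subgroup G), x ^ 2 ∈ commutator (P : Subgroup G) := by
  apply good_main
  rcases hG with h | h | h | h | h | h | h | h | h | h | h
  · -- PSL
    obtain ⟨F, _, _, _, n, hn, -, ⟨e⟩⟩ := h
    exact good_of_mulEquiv e (good_of_surjective (QuotientGroup.mk' _) (QuotientGroup.mk'_surjective _)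
      (good_SL F n hn))
  · -- PSp
    obtain ⟨F, _, _, _, m, hm, -, ⟨e⟩⟩ := h
    exact good_of_mulEquiv e (good_of_surjective (QuotientGroup.mk' _) (QuotientGroup.mk'_surjective _)
      (good_Sp F m hm))
  · -- PSU
    obtain ⟨F, _, _, _, n, q, hFq, hn, -, ⟨e⟩⟩ := h
    exact good_of_mulEquiv e (good_of_surjective (QuotientGroup.mk' _) (QuotientGroup.mk'_surjective _)
      (good_SU F n q hFq hn))
  · -- PΩ odd: impossible in characteristic 2
    exfalso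
    obtain ⟨F, _, _, _, m, -, hodd, -⟩ := h
    obtain ⟨k, -, hk⟩ := FiniteField.card F 2
    rw [hk] at hodd
    have : Even (2 ^ (k : ℕ)) := (Nat.even_pow' k.pos.ne').2 even_two
    exact (Nat.not_even_iff_odd.2 hodd) this
  · -- PΩ⁺
    obtain ⟨F, _, _, _, m, hm, ⟨e⟩⟩ := h
    exact good_of_mulEquiv e (good_of_surjective (QuotientGroup.mk' _) (QuotientGroup.mk'_surjective _)
      (good_OmegaPlus F m hm))
  · -- PΩ⁻
    obtain ⟨F, _, _, _, m, a, b, hm, hab, ⟨e⟩⟩ := h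
    exact good_of_mulEquiv e (good_of_surjective (QuotientGroup.mk' _) (QuotientGroup.mk'_surjective _)
      (good_OmegaMinus F m hm a b hab))
  · -- exceptional Chevalley
    obtain ⟨F, _, _, _, h⟩ := h
    rcases h with ⟨-, ⟨e⟩⟩ | ⟨⟨e⟩⟩ | ⟨⟨e⟩⟩ | ⟨⟨e⟩⟩ | ⟨⟨e⟩⟩
    · exact good_of_mulEquiv e (good_Chev F _ (by simp))
    · exact good_of_mulEquiv e (good_Chev F _ (by simp))
    · exact good_of_mulEquiv e (good_Chev F _ (by simp))
    · exact good_of_mulEquiv e (good_Chev F _ (by simp))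
    · exact good_of_mulEquiv e (good_Chev F _ (by simp))
  · -- twisted E6, D4
    obtain ⟨K, _, _, _, q, hq, h⟩ := h
    rcases h with ⟨hK, ⟨e⟩⟩ | ⟨hK, ⟨e⟩⟩
    · exact good_of_mulEquiv e (good_twistedE6 K q hq hK)
    · exact good_of_mulEquiv e (good_twistedD4 K q hq hK)
  · -- Suzuki
    obtain ⟨-, F, _, _, m, hm, hF, ⟨e⟩⟩ := h
    exact good_of_mulEquiv e (good_Sz F m hm hF)
  · -- 2F4
    obtain ⟨-, K, _, _, m, hm, hK, ⟨e⟩⟩ := h
    exact good_of_mulEquiv e (good_twistedF4 K m hm hK)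
  · -- Ree 2G2: p = 3 ≠ 2
    exact absurd h.1 (by norm_num)

end Cfsg.Agent.S4625
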