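import Mathlib
import Cfsg.Statements.S4626
import Cfsg.Agent.Lib.Helper24.CharHom

set_option autoImplicit false
open Cfsg

namespace Cfsg.Agent.S4626

open Cfsg.Agent.Helper24

/-- A `p`-subgroup has a conjugate inside any subgroup of index prime to `p`. -/
theorem exists_conj_mem_of_not_dvd_index {G : Type*} [Group G] [Finite G] {p : ℕ} [Fact p.Prime]
    (P : Subgroup G) (hP : IsPGroup p P) (H : Subgroup G) (h : ¬ p ∣ H.index) :
    ∃ x : G, ∀ y ∈ P, x⁻¹ * y * x ∈ H := by
  have h' : ¬ p ∣ Nat.card (G ⧸ H) := by rwa [← Subgroup.index_eq_card]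
  obtain ⟨q, hq⟩ := hP.nonempty_fixed_point_of_prime_not_dvd_card (G ⧸ H) h'
  obtain ⟨x, rfl⟩ := QuotientGroup.mk_surjective q
  refine ⟨x, fun y hy => ?_⟩
  have := hq ⟨y, hy⟩
  have h2 : ((y * x : G) : G ⧸ H) = (x : G ⧸ H) := this
  rw [QuotientGroup.eq] at h2
  have h3 := H.inv_mem h2
  have h4 : ((y * x)⁻¹ * x)⁻¹ = x⁻¹ * y * x := by group
  rwa [h4] at h3

/-- Zero lies in the local ideal of a proper ideal. -/
theorem memLocalIdeal_zero (M : Ideal AlgInt) (hM : M ≠ ⊤) : MemLocalIdeal M 0 := by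
  refine ⟨0, 1, M.zero_mem, ?_, by simp⟩
  intro h
  exact hM ((Ideal.eq_top_iff_one M).2 h)

/-- Let G be a finite group, p a prime, M a maximal ideal of the algebraic integers containing p, P a Sylow p-subgroup of G and N a normal subgroup of index prime to p containing the centralizer C_G(P). Then every irreducible character of G whose kernel contains N lies in the principal p-block of G. -/
theorem result {G : Type*} [Group G] [Finite G] (p : ℕ) [Fact p.Prime] (M : Ideal Cfsg.AlgInt) (hM : Cfsg.IsPModular p M) (P : Sylow p G) (N : Subgroup G) [N.Normal] (hidx : ¬ p ∣ N.index)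
    (hC : Subgroup.centralizer ((P : Subgroup G) : Set G) ≤ N) (χ : Cfsg.IrrCharacter G) (hker : ∀ n ∈ N, (χ : G → ℂ) n = (χ : G → ℂ) 1) :
    χ ∈ Cfsg.principalBlock M G := by
  classical
  have hp : p.Prime := Fact.out
  obtain ⟨-, hMmax, hpM⟩ := hM
  have hMtop : M ≠ ⊤ := hMmax.ne_top
  obtain ⟨n, hnpos, hn1⟩ := irr_one_eq χ.2
  -- degree prime to p
  have hnp : ¬ p ∣ n := by
    obtain ⟨ψ, hψ, hχψ⟩ := exists_deflate N χ.2 hker
    have hψ1 : ψ 1 = n := by
      have := congrFun hχψ 1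
      rw [Function.comp_apply, QuotientGroup.mk_one] at this
      rw [← this, hn1]
    haveI : Fintype (G ⧸ N) := Fintype.ofFinite _
    haveI : Fintype (IrrCharacter (G ⧸ N)) := irrFintype
    have hdvd := charDegree_dvd_card hψ
    rw [charDegree_natCast n hψ1, ← Subgroup.index_eq_card] at hdvd
    exact fun h => hidx (h.trans hdvd)
  have hnM : ((n : ℕ) : AlgInt) ∉ M := by
    intro hmem
    have hcop : Nat.Coprime n p := (Nat.Coprime.symm ((Nat.Prime.coprime_iff_not_dvd hp).2 hnp))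
    obtain ⟨u, v, huv⟩ := Nat.Coprime.isCoprime hcop
    have h1 : (1 : AlgInt) = (u : AlgInt) * ((n : ℕ) : AlgInt) + (v : AlgInt) * ((p : ℕ) : AlgInt) := by
      have := congrArg (fun z : ℤ => (z : AlgInt)) huv
      push_cast at this
      rw [← this]
    apply hMtop
    rw [Ideal.eq_top_iff_one, h1]
    exact M.add_mem (M.mul_mem_left _ hmem) (M.mul_mem_left _ hpM)
  show SameBlock M (fun _ => (1 : ℂ)) (χ : G → ℂ)
  intro g
  unfold centralChar
  by_cases hdiv : p ∣ (Subgroup.centralizer ({g} : Set G)).index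
  · -- class size divisible by p
    obtain ⟨k, hk⟩ := hdiv
    have hint : IsIntegral ℤ ((χ : G → ℂ) g) := by
      obtain ⟨m, ρ, -, hρ⟩ := χ.2
      rw [← hρ]
      exact isIntegral_char ρ g
    refine ⟨((p : ℕ) : AlgInt) * ((k : ℕ) : AlgInt) * (((n : ℕ) : AlgInt) - ⟨_, hint⟩),
      ((n : ℕ) : AlgInt), ?_, hnM, ?_⟩
    · rw [mul_assoc]
      exact M.mul_mem_right _ hpM
    · rw [hk, hn1]
      have hn0 : (n : ℂ) ≠ 0 := by exact_mod_cast hnpos.ne'
      push_cast
      field_simp
  · -- class size prime to p: g ∈ N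
    obtain ⟨x, hx⟩ := exists_conj_mem_of_not_dvd_index (P : Subgroup G) P.2 _ hdiv
    have hgN : g ∈ N := by
      have h1 : x * g * x⁻¹ ∈ Subgroup.centralizer ((P : Subgroup G) : Set G) := by
        rw [Subgroup.mem_centralizer_iff]
        intro y hy
        have := Subgroup.mem_centralizer_singleton_iff.1 (hx y hy)
        -- x⁻¹ y x * g = g * x⁻¹ y x
        calc y * (x * g * x⁻¹) = x * ((x⁻¹ * y * x) * g) * x⁻¹ := by group
          _ = x * (g * (x⁻¹ * y * x)) * x⁻¹ := by rw [this]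
          _ = x * g * x⁻¹ * y := by group
      have h2 := hC h1
      have h3 := Subgroup.Normal.conj_mem (inferInstance : N.Normal) _ h2 x⁻¹
      have h4 : x⁻¹ * (x * g * x⁻¹) * x⁻¹⁻¹ = g := by group
      rwa [h4] at h3
    rw [hker g hgN]
    have hn0 : (χ : G → ℂ) 1 ≠ 0 := by rw [hn1]; exact_mod_cast hnpos.ne'
    have : ((Subgroup.centralizer ({g} : Set G)).index : ℂ) * (1 : ℂ) / 1 -
        ((Subgroup.centralizer ({g} : Set G)).index : ℂ) * (χ : G → ℂ) 1 / (χ : G → ℂ) 1 = 0 := by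
      field_simp
      ring
    rw [this]
    exact memLocalIdeal_zero M hMtop

end Cfsg.Agent.S4626
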