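import Mathlib
import Cfsg.Statements.S4633
import Cfsg.Agent.Lib.Helper18.PairStab
import Cfsg.Agent.Lib.Helper18.CyclicStab

set_option autoImplicit false

open Cfsg

namespace Cfsg.Agent.S4633

open Cfsg.Agent.Helper24 Cfsg.Agent.Helper23.Blk Cfsg.Agent.Helper18.PairRel

theorem result {G : Type*} [Group G] [Finite G] (p : ℕ) [Fact p.Prime] (M : Ideal Cfsg.AlgInt) (hM : Cfsg.IsPModular p M) (B : Set (Cfsg.IrrCharacter G)) (hB : Cfsg.IsPBlock M B) (P : Subgroup G) (hPD : Cfsg.IsDefectGroup p M B P) (hP1 : P ≠ ⊥) (hcyc : IsCyclic P) (c : Set (Cfsg.IrrCharacter (Subgroup.centralizer (P : Set G)))) (hc : Cfsg.IsInducedBlock M (Subgroup.centralizer (P : Set G)) c B) (T : Subgroup G) (hT : ∀ g : G, g ∈ T ↔ (g ∈ Subgroup.normalizer (P : Set G) ∧ Cfsg.StabilizesBlock (Subgroup.centralizer (P : Set G)) c g)) [hn : ((Subgroup.centralizer (P : Set G)).subgroupOf T).Normal] : IsCyclic (T ⧸ (Subgroup.centralizer (P : Set G)).subgroupOf T) ∧ (Subgroup.centralizer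 (P : Set G)).relIndex T ∣ p - 1 ∧ ∀ g ∈ T, ∀ x ∈ P, x ≠ 1 → g * x * g⁻¹ = x → g ∈ Subgroup.centralizer (P : Set G) := by
  classical
  haveI : Fintype G := Fintype.ofFinite G
  haveI hMp : M.IsPrime := hM.2.1.isPrime
  haveI : Fintype (Subgroup.centralizer (P : Set G)) := Fintype.ofFinite _
  letI : Fintype (IrrCharacter G) := irrFintype
  letI : Fintype (IrrCharacter (Subgroup.centralizer (P : Set G))) := irrFintype
  have hPp : IsPGroup p P := isPGroup_of_isDefectGroup hM hPD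
  have hBe : IsBrauerPairOf p M B P c := by
    refine ⟨⟨hPp, hc.1⟩, hB, ?_⟩
    intro ξ hξ
    obtain ⟨χ, hχ⟩ := block_nonempty hM hB
    have h1 := IsInducedBlock.omega_cong _ hc hξ hχ (isClassFunction_blockCoeff B)
      (memLocalRing_blockCoeff hMp hB)
    rw [omega_blockCoeff, if_pos hχ] at h1
    rw [brauerOmega_eq_omega]
    have h2 : resC P (Subgroup.centralizer (P : Set G)) (blockCoeff B) =
        fun h : Subgroup.centralizer (P : Set G) => blockCoeff B (h : G) :=
      resC_self_eq _ _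
    rw [h2]
    exact h1
  have hno : ∀ (R : Subgroup G) (g : Set (IrrCharacter (Subgroup.centralizer (R : Set G)))),
      IsNormalSubpair p M P c R g → R = P := by
    intro R g hsub
    have hBS := isBrauerPairOf_of_isNormalSubpair hM hsub hBe
    have hcard := card_le_of_subConj (subConj_of_isBrauerPairOf hM hBS hPD)
    exact (Subgroup.eq_of_le_of_card_ge hsub.2.2.1 hcard).symm
  have hab : ∀ x ∈ P, ∀ y ∈ P, x * y = y * x := by
    intro x hx y hy
    obtain ⟨u, hu⟩ := hcyc.exists_generator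
    obtain ⟨i, hi⟩ := Subgroup.mem_zpowers_iff.1 (hu ⟨x, hx⟩)
    obtain ⟨j, hj⟩ := Subgroup.mem_zpowers_iff.1 (hu ⟨y, hy⟩)
    have h1 : (⟨x, hx⟩ : P) * ⟨y, hy⟩ = ⟨y, hy⟩ * ⟨x, hx⟩ := by
      rw [← hi, ← hj, ← zpow_add, ← zpow_add, add_comm]
    exact congrArg Subtype.val h1
  have hidx := not_dvd_index_centralizer_stab hM hBe hno hab T hT
  have hTN : T ≤ Subgroup.normalizer (P : Set G) := fun g hg => ((hT g).1 hg).1
  exact Cfsg.Agent.Helper18.cyclic_stab p P hPp hP1 hcyc T hTN hidx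

end Cfsg.Agent.S4633
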