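import Mathlib
import Cfsg.Statements.S4636

set_option autoImplicit false
open scoped Pointwise
open Cfsg

namespace Cfsg.Agent.S4636

/-- In a cyclic subgroup `P`, two subgroups of the same cardinality are equal. -/
theorem eq_of_card_eq_of_le_cyclic {G : Type*} [Group G] [Finite G] (P : Subgroup G) (hcyc : IsCyclic P)
    (A B : Subgroup G) (hA : A ≤ P) (hB : B ≤ P) (h : Nat.card A = Nat.card B) : A = B := by
  classical
  have := Fintype.ofFinite G
  have : Fintype P := Fintype.ofFinite P
  set n := Nat.card A with hn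
  have hn0 : 0 < n := Nat.card_pos
  have hle := IsCyclic.card_pow_eq_one_le (α := P) hn0
  -- the set S of elements of P with x^n = 1
  have key : ∀ C : Subgroup G, C ≤ P → Nat.card C = n →
      ∀ x : G, x ∈ C ↔ (x ∈ P ∧ x ^ n = 1) := by
    intro C hC hCn x
    constructor
    · intro hx
      refine ⟨hC hx, ?_⟩
      have : (⟨x, hx⟩ : C) ^ Nat.card C = 1 := pow_card_eq_one'
      rw [hCn] at this
      exact congrArg Subtype.val this
    · rintro ⟨hxP, hxn⟩
      -- injection C → filter, card C = n ≥ card filter, so surjective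
      let S : Finset P := Finset.univ.filter (fun a : P => a ^ n = 1)
      let f : C → S := fun c => ⟨⟨c.1, hC c.2⟩, by
        have : (c : C) ^ Nat.card C = 1 := pow_card_eq_one'
        rw [hCn] at this
        simp only [S, Finset.mem_filter, Finset.mem_univ, true_and]
        ext
        simpa using congrArg Subtype.val this⟩
      have hf : Function.Injective f := by
        intro c c' hcc
        have := congrArg (fun s : S => ((s : P) : G)) hcc
        exact Subtype.ext this
      have : Fintype C := Fintype.ofFinite C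
      have hcard : Fintype.card S ≤ Fintype.card C := by
        rw [Fintype.card_coe, ← Nat.card_eq_fintype_card (α := C), hCn]
        exact hle
      have hsurj : Function.Surjective f :=
        (Fintype.bijective_iff_injective_and_card f).2 ⟨hf, le_antisymm (Fintype.card_le_of_injective f hf) hcard⟩ |>.2
      obtain ⟨c, hc⟩ := hsurj ⟨⟨x, hxP⟩, by
        simp only [S, Finset.mem_filter, Finset.mem_univ, true_and]
        ext
        simpa using hxn⟩
      have := congrArg (fun s : S => ((s : P) : G)) hc
      simp only [f] at this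
      rw [← this]
      exact c.2
  ext x
  rw [key A hA rfl x, key B hB h.symm x]

/-- A nontrivial `p`-subgroup `R` of a cyclic `p`-group `P` contains the subgroup `Z` of order `p`. -/
theorem le_of_nontrivial {G : Type*} [Group G] [Finite G] (p : ℕ) [Fact p.Prime] (P : Subgroup G)
    (hP : IsPGroup p P) (hcyc : IsCyclic P) (Z : Subgroup G) (hZ : Z ≤ P) (hZcard : Nat.card Z = p)
    (R : Subgroup G) (hR : R ≤ P) (hR1 : R ≠ ⊥) : Z ≤ R := by
  have hRp : IsPGroup p R := hP.to_le hR
  have hnt : Nontrivial R := (Subgroup.nontrivial_iff_ne_bot R).2 hR1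
  obtain ⟨n, hn0, hn⟩ := hRp.nontrivial_iff_card.1 hnt
  have hdvd : p ∣ Nat.card R := by rw [hn]; exact dvd_pow_self p (Nat.pos_iff_ne_zero.1 hn0)
  obtain ⟨r, hr⟩ := exists_prime_orderOf_dvd_card' p hdvd
  have h1 : Nat.card (Subgroup.zpowers (r : G)) = p := by
    rw [Nat.card_zpowers, Subgroup.orderOf_coe, hr]
  have hle : Subgroup.zpowers (r : G) ≤ R := by
    rw [Subgroup.zpowers_le]; exact r.2
  have : Z = Subgroup.zpowers (r : G) :=
    eq_of_card_eq_of_le_cyclic P hcyc Z _ hZ (hle.trans hR) (hZcard.trans h1.symm)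
  rw [this]; exact hle

/-- Let P be a nontrivial cyclic p-subgroup of the finite group G and Z its subgroup of order p. For every x outside N_G(Z), P meets its conjugate xPx⁻¹ trivially; consequently N_G(Q) ≤ N_G(Z) for every nontrivial subgroup Q of P. -/
theorem result {G : Type*} [Group G] [Finite G] (p : ℕ) [Fact p.Prime] (P : Subgroup G) (hP : IsPGroup p P) (hP1 : P ≠ ⊥) (hcyc : IsCyclic P) (Z : Subgroup G) (hZ : Z ≤ P) (hZcard : Nat.card Z = p) : (∀ x : G, x ∉ Subgroup.normalizer (Z : Set G) → P ⊓ MulAut.conj x • P = ⊥) ∧ ∀ Q : Subgroup G, Q ≤ P → Q ≠ ⊥ → Subgroup.normalizer (Q : Set G) ≤ Subgroup.normalizer (Z : Set G) := by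
  have hmem : ∀ (g : G) (R : Subgroup G), R ≤ P → R ≠ ⊥ → MulAut.conj g • R ≤ P → g ∈ Subgroup.normalizer (Z : Set G) := by
    intro g R hRP hR1 hgR
    have hZR : Z ≤ R := le_of_nontrivial p P hP hcyc Z hZ hZcard R hRP hR1
    -- conj g • Z ≤ P has card p, so equals Z
    have hcZ : MulAut.conj g • Z ≤ P := le_trans (Subgroup.pointwise_smul_le_pointwise_smul_iff.2 hZR) hgR
    have hcard : Nat.card (MulAut.conj g • Z : Subgroup G) = Nat.card Z := by
      exact Nat.card_congr (Subgroup.equivSMul (MulAut.conj g) Z).symm.toEquiv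
    have heq : MulAut.conj g • Z = Z := eq_of_card_eq_of_le_cyclic P hcyc _ _ hcZ hZ hcard
    rw [Subgroup.mem_normalizer_iff]
    intro h
    constructor
    · intro hh
      have : g * h * g⁻¹ ∈ MulAut.conj g • Z := by
        rw [Subgroup.mem_pointwise_smul_iff_inv_smul_mem]
        simp only [MulAut.smul_def, MulAut.inv_apply, MulAut.conj_symm_apply]
        have e : g⁻¹ * (g * h * g⁻¹) * g = h := by group
        rw [e]; exact hh
      rw [heq] at this
      exact this
    · intro hh
      rw [← heq] at hh
      rw [Subgroup.mem_pointwise_smul_iff_inv_smul_mem] at hh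
      simp only [MulAut.smul_def, MulAut.inv_apply, MulAut.conj_symm_apply] at hh
      have e : g⁻¹ * (g * h * g⁻¹) * g = h := by group
      rw [e] at hh; exact hh
  constructor
  · intro x hx
    by_contra hne
    apply hx
    -- R = conj x⁻¹ • (P ⊓ conj x • P) ≤ P, and conj x • R ≤ P
    set R : Subgroup G := MulAut.conj x⁻¹ • (P ⊓ MulAut.conj x • P) with hRdef
    have hRP : R ≤ P := by
      intro y hy
      rw [hRdef, Subgroup.mem_pointwise_smul_iff_inv_smul_mem] at hy
      have := (Subgroup.mem_inf.1 hy).2
      rw [Subgroup.mem_pointwise_smul_iff_inv_smul_mem] at this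
      simpa [MulAut.smul_def, mul_assoc] using this
    have hR1 : R ≠ ⊥ := by
      intro hbot
      apply hne
      have : MulAut.conj x • R = MulAut.conj x • (⊥ : Subgroup G) := by rw [hbot]
      rw [hRdef, smul_smul, ← map_mul] at this
      simpa using this
    have hxR : MulAut.conj x • R ≤ P := by
      rw [hRdef, smul_smul, ← map_mul]
      simp
    exact hmem x R hRP hR1 hxR
  · intro Q hQP hQ1 g hg
    apply hmem g Q hQP hQ1
    have : MulAut.conj g • Q = Q := by
      ext x
      rw [Subgroup.mem_pointwise_smul_iff_inv_smul_mem]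
      rw [Subgroup.mem_normalizer_iff] at hg
      have := hg (g⁻¹ * x * g)
      simp only [MulAut.smul_def, MulAut.inv_apply, MulAut.conj_symm_apply]
      rw [this]
      have e : g * (g⁻¹ * x * g) * g⁻¹ = x := by group
      rw [e]
    rw [this]
    exact hQP

end Cfsg.Agent.S4636
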