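import Mathlib
import Cfsg.Statements.S4638
import Cfsg.Agent.Lib.Helper23.KleinAssemble
import Cfsg.Agent.Lib.Helper23.KleinTransport

set_option autoImplicit false
open Cfsg Cfsg.Agent.Helper23.Blk Cfsg.Agent.Helper24
set_option linter.style.haveILetI false

namespace Cfsg.Agent.S4638

/-- Let B be a block of the finite group G relative to a maximal ideal M of the algebraic integers containing 2, with a Klein four defect group P, and let c be its Brauer correspondent: the block of N_G(P) with defect group P that induces B. Then there is a perfect isometry from c onto B. -/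
theorem result {G : Type*} [Group G] [Finite G] (M : Ideal Cfsg.AlgInt) (hM : Cfsg.IsPModular 2 M) (B : Set (Cfsg.IrrCharacter G)) (hB : Cfsg.IsPBlock M B) (P : Subgroup G) (hPD : Cfsg.IsDefectGroup 2 M B P) (hV : IsKleinFour P) (c : Set (Cfsg.IrrCharacter (Subgroup.normalizer (P : Set G)))) (hcD : Cfsg.IsDefectGroup 2 M c (P.subgroupOf (Subgroup.normalizer (P : Set G)))) (hc : Cfsg.IsInducedBlock M (Subgroup.normalizer (P : Set G)) c B) : ∃ (I : Cfsg.IrrCharacter (Subgroup.normalizer (P : Set G)) → Cfsg.IrrCharacter G) (ε : Cfsg.IrrCharacter (Subgroup.normalizer (P : Set G)) → ℤ), Cfsg.IsPerfectIsometry 2 M c B I ε := by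
  classical
  haveI : Fintype G := Fintype.ofFinite G
  haveI : Fact (Nat.Prime 2) := ⟨Nat.prime_two⟩
  haveI : Fintype (Subgroup.normalizer (P : Set G)) := Fintype.ofFinite _
  letI : Fintype (IrrCharacter G) := irrFintype
  letI : Fintype (IrrCharacter (Subgroup.normalizer (P : Set G))) := irrFintype
  have hPN : P ≤ Subgroup.normalizer (P : Set G) := Subgroup.le_normalizer
  have hV' : IsKleinFour (P.subgroupOf (Subgroup.normalizer (P : Set G))) := by
    have e := Subgroup.subgroupOfEquivOfLe hPN
    exact ⟨by rw [Nat.card_congr e.toEquiv]; exact hV.card_four,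
      by rw [Monoid.exponent_eq_of_mulEquiv e]; exact hV.exponent_two⟩
  obtain ⟨-, vB, hsB⟩ := klein_data hM hB hPD hV
  obtain ⟨-, vc, hsc⟩ := klein_data hM hc.1 hcD hV'
  have hrank := blockRank_brauer_correspondent hM hB hPD hV _ rfl c hcD hc
  rw [hrank] at hsc
  have hcard : Fintype.card c = Fintype.card B := by
    rw [Fintype.card_subtype, Fintype.card_subtype]
    exact hsc.card.trans hsB.card.symm
  obtain ⟨e⟩ := Fintype.card_eq.1 hcard
  obtain ⟨χ₀, hχ₀⟩ := block_nonempty hM hB
  set I : IrrCharacter (Subgroup.normalizer (P : Set G)) → IrrCharacter G :=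
    fun η => if h : η ∈ c then ((e ⟨η, h⟩ : B) : IrrCharacter G) else χ₀ with hIdef
  have hI : Set.BijOn I c B := by
    refine ⟨?_, ?_, ?_⟩
    · intro η hη
      simp only [hIdef]
      rw [dif_pos hη]
      exact (e ⟨η, hη⟩).2
    · intro η hη η' hη' h
      simp only [hIdef] at h
      rw [dif_pos hη, dif_pos hη'] at h
      have h1 := e.injective (Subtype.ext h)
      exact congrArg Subtype.val h1
    · intro χ hχ
      refine ⟨((e.symm ⟨χ, hχ⟩ : c) : IrrCharacter _), (e.symm ⟨χ, hχ⟩).2, ?_⟩
      simp only [hIdef]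
      rw [dif_pos (e.symm ⟨χ, hχ⟩).2]
      simp
  refine ⟨I, fun η => vc η * vB (I η), hI, ?_, perfect_of_kleinStruct hM hsB hsc I hI⟩
  intro η hη
  exact sign_mul_sign (hsc.sign η hη) (hsB.sign _ (hI.mapsTo hη))

end Cfsg.Agent.S4638
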