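import Mathlib
import Cfsg.Statements.S4687
import Cfsg.Agent.Lib.Helper18.PairStab

set_option autoImplicit false

open Cfsg

namespace Cfsg.Agent.S4687

open Cfsg.Agent.Helper23.Blk Cfsg.Agent.Helper18.PairRel

theorem pow_gcd_mem {G : Type*} [Group G] (H : Subgroup G) (x : G) (m n : ℕ)
    (hm : x ^ m ∈ H) (hn : x ^ n ∈ H) : x ^ Nat.gcd m n ∈ H := by
  have h1 : x ^ ((Nat.gcd m n : ℕ) : ℤ) ∈ H := by
    rw [Nat.gcd_eq_gcd_ab, zpow_add, zpow_mul, zpow_mul, zpow_natCast, zpow_natCast]
    exact H.mul_mem (H.zpow_mem hm _) (H.zpow_mem hn _)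
  rwa [zpow_natCast] at h1

theorem result {G : Type*} [Group G] [Fintype G] (p : ℕ) [Fact p.Prime] (M : Ideal Cfsg.AlgInt) (hM : Cfsg.IsPModular p M) (B : Set (Cfsg.IrrCharacter G)) (P : Subgroup G) (e : Set (Cfsg.IrrCharacter (Subgroup.centralizer (P : Set G)))) (hmax : Cfsg.IsMaximalBrauerPair p M B P e) (hab : ∀ x ∈ P, ∀ y ∈ P, x * y = y * x) : Cfsg.IsNilpotentBlock p M B ↔ ∀ x : G, x ∈ Subgroup.normalizer (P : Set G) → Cfsg.StabilizesBlock (Subgroup.centralizer (P : Set G)) e x → x ∈ Subgroup.centralizer (P : Set G) := by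
  classical
  haveI hMp : M.IsPrime := hM.2.1.isPrime
  have hBe : IsBrauerPairOf p M B P e := hmax.1
  have hPe : IsBrauerPair p M P e := hBe.1
  have hB : IsPBlock M B := hBe.2.1
  have hno : ∀ (R : Subgroup G) (g : Set (IrrCharacter (Subgroup.centralizer (R : Set G)))),
      IsNormalSubpair p M P e R g → R = P :=
    fun R g hsub => hmax.2 R g (isBrauerPairOf_of_isNormalSubpair hM hsub hmax.1)
      (Relation.ReflTransGen.single hsub)
  have hPD : IsDefectGroup p M B P := isDefectGroup_of_no_proper_superpair hM hBe hno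
  have hne : e.Nonempty := block_nonempty hM hPe.2
  constructor
  · intro hnil x hxN hxst
    set T : Subgroup G := Subgroup.normalizer (P : Set G) ⊓
      blockStab (Subgroup.centralizer (P : Set G)) e with hTdef
    have hT : ∀ y : G, y ∈ T ↔ y ∈ Subgroup.normalizer (P : Set G) ∧
        StabilizesBlock (Subgroup.centralizer (P : Set G)) e y := by
      intro y
      rw [hTdef, Subgroup.mem_inf]
      constructor
      · rintro ⟨h1, h2⟩
        exact ⟨h1, stabilizesBlock_of_mem_blockStab h2⟩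
      · rintro ⟨h1, h2⟩
        exact ⟨h1, mem_blockStab_of_stabilizesBlock hPe.2 hne h2⟩
    have hidx := not_dvd_index_centralizer_stab hM hBe hno hab T hT
    have hTNC : T ≤ Subgroup.normalizer
        ((Subgroup.centralizer (P : Set G) : Subgroup G) : Set G) :=
      fun y hy => ((hT y).1 hy).2.1
    haveI : ((Subgroup.centralizer (P : Set G)).subgroupOf T).Normal :=
      Subgroup.normal_subgroupOf_of_le_normalizer hTNC
    have hxT : x ∈ T := (hT x).2 ⟨hxN, hxst⟩
    set m := ((Subgroup.centralizer (P : Set G)).subgroupOf T).index with hm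
    have h1 : x ^ m ∈ Subgroup.centralizer (P : Set G) := by
      have h2 := Subgroup.pow_index_mem ((Subgroup.centralizer (P : Set G)).subgroupOf T)
        (⟨x, hxT⟩ : T)
      rw [Subgroup.mem_subgroupOf] at h2
      exact h2
    have hpos : orderOf x ≠ 0 := (orderOf_pos x).ne'
    obtain ⟨a, k, hk, hak⟩ := Nat.exists_eq_pow_mul_and_not_dvd hpos p
      (Nat.Prime.ne_one hM.1)
    have hpa : p ^ a ≠ 0 := pow_ne_zero _ hM.1.ne_zero
    have hord : orderOf (x ^ (p ^ a)) = k := by
      rw [orderOf_pow' x hpa, hak, Nat.gcd_eq_right (Dvd.intro _ rfl)]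
      exact Nat.mul_div_cancel_left k (Nat.pos_of_ne_zero hpa)
    have hreg : IsPRegular p (x ^ (p ^ a)) := by
      unfold IsPRegular
      rw [hord]
      exact hk
    have hxaT : x ^ (p ^ a) ∈ T := Subgroup.pow_mem _ hxT _
    obtain ⟨h3, h4⟩ := (hT _).1 hxaT
    have h5 := hnil.2 P e hBe _ h3 h4 hreg
    have hcop : Nat.Coprime m (p ^ a) :=
      Nat.Coprime.pow_right a ((Nat.Prime.coprime_iff_not_dvd hM.1).2 hidx).symm
    have h6 := pow_gcd_mem _ x m (p ^ a) h1 h5
    rw [hcop, pow_one] at h6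
    exact h6
  · intro h
    refine ⟨hB, ?_⟩
    intro Q f hQf x hxN hxst _
    obtain ⟨g, hg⟩ := exists_conj_subpairLE_of_maximal hM hmax hQf
    have hx := conjPair_eq_self_of_stabilizes hM hQf.1.2 hxN hxst
    have hx' : conjPair (g * x * g⁻¹) (conjPair g ⟨Q, f⟩) = conjPair g ⟨Q, f⟩ := by
      rw [← conjPair_mul]
      have : g * x * g⁻¹ * g = g * x := by group
      rw [this, conjPair_mul, hx]
    have hx'' : conjPair (g * x * g⁻¹)
        (⟨Q.map (MulAut.conj g).toMonoidHom, conjBlock Q g f⟩ : BrauerPairIdx G) =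
        ⟨Q.map (MulAut.conj g).toMonoidHom, conjBlock Q g f⟩ := hx'
    obtain ⟨c, hc, hfix⟩ := frattini_pairs hM hBe hPD hab hg hx''
    obtain ⟨hyN, hyst⟩ := stabilizes_of_conjPair_eq_self hfix
    have hy := h _ hyN hyst
    have hy' : c * (g * x * g⁻¹) ∈ Subgroup.centralizer
        ((Q.map (MulAut.conj g).toMonoidHom : Subgroup G) : Set G) :=
      Subgroup.centralizer_le (chain_le hg) hy
    have h2 : g * x * g⁻¹ ∈ Subgroup.centralizer
        ((Q.map (MulAut.conj g).toMonoidHom : Subgroup G) : Set G) := by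
      have h3 : g * x * g⁻¹ = c⁻¹ * (c * (g * x * g⁻¹)) := by group
      rw [h3]
      exact Subgroup.mul_mem _ (Subgroup.inv_mem _ hc) hy'
    rw [mem_centralizer_map_conj_iff] at h2
    have h4 : g⁻¹ * (g * x * g⁻¹) * g = x := by group
    rwa [h4] at h2

end Cfsg.Agent.S4687
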