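import Mathlib
import Cfsg.Statements.S4650
import Cfsg.Agent.Lib.Helper18.PairRel2
import Cfsg.Agent.S4687
import Cfsg.Agent.S0919

set_option autoImplicit false

open Cfsg

namespace Cfsg.Agent.S4650

open Cfsg.Agent.Helper24 Cfsg.Agent.Helper23.Blk Cfsg.Agent.Helper18.PairRel

/-- the key step: for `Q ≤ P` and `f` induced from `c` inside `C_G(Q)`, nilpotency of `f` is
the triviality of the inertial quotient of `(P, c)` inside `C_G(Q)` -/
theorem key {G : Type*} [Group G] [Fintype G] (p : ℕ) [Fact p.Prime] (M : Ideal Cfsg.AlgInt)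
    (hM : Cfsg.IsPModular p M) (B : Set (Cfsg.IrrCharacter G)) (P : Subgroup G)
    (hPD : Cfsg.IsDefectGroup p M B P) (hPab : ∀ x ∈ P, ∀ y ∈ P, x * y = y * x)
    (c : Set (Cfsg.IrrCharacter (Subgroup.centralizer (P : Set G))))
    (hc : Cfsg.IsInducedBlock M (Subgroup.centralizer (P : Set G)) c B)
    (Q : Subgroup G) (hQP : Q ≤ P)
    (hPH : P ≤ Subgroup.centralizer (Q : Set G))
    (f : Set (Cfsg.IrrCharacter (Subgroup.centralizer (Q : Set G))))
    (hf : Cfsg.IsInducedBlockIn M (Subgroup.centralizer (Q : Set G))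
      (Subgroup.centralizer (P : Set G)) c f) :
    Cfsg.IsNilpotentBlock p M f ↔
      ∀ x : Subgroup.centralizer (Q : Set G),
        (x : G) ∈ Subgroup.normalizer (P : Set G) →
        Cfsg.StabilizesBlock (Subgroup.centralizer (P : Set G)) c (x : G) →
        (x : G) ∈ Subgroup.centralizer (P : Set G) := by
  classical
  haveI hMp : M.IsPrime := hM.2.1.isPrime
  haveI : Fintype (Subgroup.centralizer (Q : Set G)) := Fintype.ofFinite _
  letI : Fintype (IrrCharacter (Subgroup.centralizer (Q : Set G))) := irrFintype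
  have hPp : IsPGroup p P := isPGroup_of_isDefectGroup hM hPD
  have hBe : IsBrauerPairOf p M B P c := isBrauerPairOf_of_isInducedBlock hM hPp hc
  have hCH : Subgroup.centralizer (P : Set G) ≤ Subgroup.centralizer (Q : Set G) :=
    Subgroup.centralizer_le hQP
  have hfb : IsPBlock M f := hf.2.1
  -- the pair `(P', c'')` of `f` inside `H`
  have hind'' := (isInducedBlock_rel_iff (Subgroup.centralizer (Q : Set G)) P hPH hCH hc.1 f).2 hf
  have hP'p : IsPGroup p (P.subgroupOf (Subgroup.centralizer (Q : Set G))) := hPp.comap_subtype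
  have hBe'' := isBrauerPairOf_of_isInducedBlock hM hP'p hind''
  -- back to a normal inclusion in `G`
  have hsub : IsNormalSubpair p M Q f P c := by
    refine ⟨⟨hPp.to_le hQP, hfb⟩, ⟨hPp, hc.1⟩, hQP,
      hPH.trans (Subgroup.centralizer_le_normalizer _),
      fun x hx => stabilizesBlock_of_mem _ f (hPH hx), ?_⟩
    intro ξ hξ
    have h1 := hBe''.2.2 _ ⟨ξ, hξ, rfl⟩
    have h2 := brauerOmega_rel (Subgroup.centralizer (Q : Set G)) P hPH hCH f
      (ξ : Subgroup.centralizer (P : Set G) → ℂ)
    rw [← h2]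
    exact h1
  have hmax := isMaximalBrauerPair_rel hM hBe hPD hsub hPH
  have hab' : ∀ x ∈ P.subgroupOf (Subgroup.centralizer (Q : Set G)),
      ∀ y ∈ P.subgroupOf (Subgroup.centralizer (Q : Set G)), x * y = y * x := by
    intro x hx y hy
    rw [Subgroup.mem_subgroupOf] at hx hy
    apply Subtype.ext
    push_cast
    exact hPab _ hx _ hy
  have h87 := Cfsg.Agent.S4687.result p M hM f _ _ hmax hab'
  rw [h87]
  constructor
  · intro h x hxN hxst
    have hxN' := (mem_normalizer_subgroupOf_iff _ P hPH x).2 hxN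
    have hxst' := (stabilizesBlock_rel_iff _ P hPH hCH x
      (normalizer_le_normalizer_centralizer _ hxN')
      (normalizer_le_normalizer_centralizer P hxN) c).2 hxst
    exact (mem_centralizer_subgroupOf_iff _ P hPH x).1 (h x hxN' hxst')
  · intro h x hxN' hxst'
    have hxN := (mem_normalizer_subgroupOf_iff _ P hPH x).1 hxN'
    have hxst := (stabilizesBlock_rel_iff _ P hPH hCH x
      (normalizer_le_normalizer_centralizer _ hxN')
      (normalizer_le_normalizer_centralizer P hxN) c).1 hxst'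
    exact (mem_centralizer_subgroupOf_iff _ P hPH x).2 (h x hxN hxst)

theorem result {G : Type*} [Group G] [Finite G] (p : ℕ) [Fact p.Prime] (M : Ideal Cfsg.AlgInt) (hM : Cfsg.IsPModular p M) (B : Set (Cfsg.IrrCharacter G)) (hB : Cfsg.IsPBlock M B) (P : Subgroup G) (hPD : Cfsg.IsDefectGroup p M B P) (hPab : ∀ x ∈ P, ∀ y ∈ P, x * y = y * x) (hP1 : P ≠ ⊥) (c : Set (Cfsg.IrrCharacter (Subgroup.centralizer (P : Set G)))) (hc : Cfsg.IsInducedBlock M (Subgroup.centralizer (P : Set G)) c B) (T : Subgroup G) (hT : ∀ g : G, g ∈ T ↔ (g ∈ Subgroup.normalizer (P : Set G) ∧ Cfsg.StabilizesBlock (Subgroup.centralizer (P : Set G)) c g)) : (∀ g ∈ T, ∀ x ∈ P, x ≠ 1 → g * x * g⁻¹ = x → g ∈ Subgroup.centralizer (P : Set G)) ↔ ∀ Q : Subgroup G, Q ≤ P → Q ≠ ⊥ → ∀ f : Set (Cfsg.IrrCharacter (Subgroup.centralizer (Q : Set G))), Cfsg.IsInducedBlockIn M (Subgroup.centralizer (Q : Set G)) (Subgroup.centralizer (P : Set G)) c f → Cfsg.IsNilpotentBlock p M f := by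
  classical
  haveI : Fintype G := Fintype.ofFinite G
  haveI hMp : M.IsPrime := hM.2.1.isPrime
  have hPp : IsPGroup p P := isPGroup_of_isDefectGroup hM hPD
  have hPHof : ∀ Q : Subgroup G, Q ≤ P → P ≤ Subgroup.centralizer (Q : Set G) := by
    intro Q hQP w hw
    rw [Subgroup.mem_centralizer_iff]
    intro q hq
    exact hPab q (hQP hq) w hw
  constructor
  · intro hfree Q hQP hQ1 f hf
    rw [key p M hM B P hPD hPab c hc Q hQP (hPHof Q hQP) f hf]
    intro x hxN hxst
    obtain ⟨q, hq1⟩ := (Subgroup.ne_bot_iff_exists_ne_one).1 hQ1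
    have hq1' : (q : G) ≠ 1 := fun h => hq1 (Subtype.ext h)
    apply hfree (x : G) ((hT _).2 ⟨hxN, hxst⟩) (q : G) (hQP q.2) hq1'
    have h1 := (Subgroup.mem_centralizer_iff.1 x.2) (q : G) q.2
    rw [← h1]
    group
  · intro hnil g hgT x hxP hx1 hfix
    set Q : Subgroup G := Subgroup.zpowers x with hQ
    have hQP : Q ≤ P := by
      rw [hQ, Subgroup.zpowers_le]
      exact hxP
    have hQ1 : Q ≠ ⊥ := by
      rw [hQ, Ne, Subgroup.zpowers_eq_bot]
      exact hx1
    have hgQ : g ∈ Subgroup.centralizer (Q : Set G) := by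
      rw [Subgroup.mem_centralizer_iff]
      intro y hy
      obtain ⟨k, rfl⟩ := Subgroup.mem_zpowers_iff.1 hy
      have hcomm : Commute g x := by
        show g * x = x * g
        calc g * x = g * x * g⁻¹ * g := by group
          _ = x * g := by rw [hfix]
      exact ((hcomm.zpow_right k).eq).symm
    have hPH := hPHof Q hQP
    have hCH : Subgroup.centralizer (P : Set G) ≤ Subgroup.centralizer (Q : Set G) :=
      Subgroup.centralizer_le hQP
    haveI : Fintype (Subgroup.centralizer (Q : Set G)) := Fintype.ofFinite _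
    -- the induced block inside `C_G(Q)`
    have hP'p : IsPGroup p (P.subgroupOf (Subgroup.centralizer (Q : Set G))) := hPp.comap_subtype
    have hP'le : P.subgroupOf (Subgroup.centralizer (Q : Set G)) ≤
        Subgroup.centralizer ((P.subgroupOf (Subgroup.centralizer (Q : Set G)) :
          Subgroup (Subgroup.centralizer (Q : Set G))) :
            Set (Subgroup.centralizer (Q : Set G))) := by
      intro y hy
      rw [mem_centralizer_subgroupOf_iff _ P hPH]
      rw [Subgroup.mem_subgroupOf] at hy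
      rw [Subgroup.mem_centralizer_iff]
      intro w hw
      exact hPab w hw _ hy
    obtain ⟨f, hf''⟩ := Cfsg.Agent.S0919.result p M hM
      (P.subgroupOf (Subgroup.centralizer (Q : Set G))) _ hP'p hP'le le_rfl
      (Subgroup.centralizer_le_normalizer _)
      (irrComp (relCentEquiv (Subgroup.centralizer (Q : Set G)) P hPH hCH) '' c)
      (isPBlock_image_irrComp _ hc.1)
    have hf := (isInducedBlock_rel_iff (Subgroup.centralizer (Q : Set G)) P hPH hCH hc.1 f).1 hf''
    have hfn := hnil Q hQP hQ1 f hf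
    rw [key p M hM B P hPD hPab c hc Q hQP hPH f hf] at hfn
    obtain ⟨hgN, hgst⟩ := (hT g).1 hgT
    exact hfn ⟨g, hgQ⟩ hgN hgst

end Cfsg.Agent.S4650
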