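import Mathlib
import Cfsg.Statements.S4682
import Cfsg.Agent.Lib.Helper18.PairAct

set_option autoImplicit false

open Cfsg

namespace Cfsg.Agent.S4682

open Cfsg.Agent.Helper24 Cfsg.Agent.Helper23.Blk Cfsg.Agent.Helper18.PairRel

theorem result {G : Type*} [Group G] [Fintype G] (p : ℕ) [Fact p.Prime] (M : Ideal Cfsg.AlgInt) (hM : Cfsg.IsPModular p M) (B : Set (Cfsg.IrrCharacter G)) (P : Subgroup G) (e : Set (Cfsg.IrrCharacter (Subgroup.centralizer (P : Set G)))) (hmax : Cfsg.IsMaximalBrauerPair p M B P e) (hab : ∀ x ∈ P, ∀ y ∈ P, x * y = y * x) (Q : Subgroup G) (f : Set (Cfsg.IrrCharacter (Subgroup.centralizer (Q : Set G)))) (hQP : Q ≤ P) (hf : Cfsg.IsPBlock M f) (hle : Cfsg.SubpairLE p M Q f P e) (TQ : Subgroup G) (hTQ : ∀ y : G, y ∈ TQ ↔ y ∈ Subgroup.normalizer (Q : Set G) ∧ Cfsg.StabilizesBlock (Subgroup.centralizer (Q : Set G)) f y) (TP : Subgroup G) (hTP : ∀ y : G, y ∈ TP ↔ y ∈ Subgroup.normalizer (P : Set G) ∧ Cfsg.StabilizesBlock (Subgroup.centralizer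 (P : Set G)) e y) : (∀ x ∈ TQ, ∃ y ∈ TP, ∃ c ∈ Subgroup.centralizer (Q : Set G), x = y * c) ∧ ((Subgroup.centralizer (Q : Set G)).subgroupOf TQ).index = ((TP ⊓ Subgroup.centralizer (Q : Set G)).subgroupOf (TP ⊓ Subgroup.normalizer (Q : Set G))).index := by
  classical
  haveI hMp : M.IsPrime := hM.2.1.isPrime
  have hBe : IsBrauerPairOf p M B P e := hmax.1
  have hPe : IsBrauerPair p M P e := hBe.1
  have hno : ∀ (R : Subgroup G) (g : Set (IrrCharacter (Subgroup.centralizer (R : Set G)))),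
      IsNormalSubpair p M P e R g → R = P :=
    fun R g hsub => hmax.2 R g (isBrauerPairOf_of_isNormalSubpair hM hsub hmax.1)
      (Relation.ReflTransGen.single hsub)
  have hPD : IsDefectGroup p M B P := isDefectGroup_of_no_proper_superpair hM hBe hno
  have hNC := normalizer_le_normalizer_centralizer Q
  have part1 : ∀ x ∈ TQ, ∃ y ∈ TP ⊓ Subgroup.normalizer (Q : Set G),
      ∃ c ∈ Subgroup.centralizer (Q : Set G), x = y * c := by
    intro x hxT
    obtain ⟨hxN, hxst⟩ := (hTQ x).1 hxT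
    have hx := conjPair_eq_self_of_stabilizes hM hf hxN hxst
    obtain ⟨c, hc, hfix⟩ := frattini_pairs hM hBe hPD hab hle hx
    obtain ⟨hyN, hyst⟩ := stabilizes_of_conjPair_eq_self hfix
    have hyQ : c * x ∈ Subgroup.normalizer (Q : Set G) :=
      Subgroup.mul_mem _ (Subgroup.centralizer_le_normalizer _ hc) hxN
    refine ⟨c * x, ⟨(hTP _).2 ⟨hyN, hyst⟩, hyQ⟩, (c * x)⁻¹ * c⁻¹ * (c * x), ?_, by group⟩
    have h1 := hNC (Subgroup.inv_mem _ hyQ)
    have h2 := (Subgroup.mem_normalizer_iff.1 h1 c⁻¹).1 (Subgroup.inv_mem _ hc)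
    rwa [inv_inv] at h2
  refine ⟨fun x hx => ?_, ?_⟩
  · obtain ⟨y, hy, c, hc, hxy⟩ := part1 x hx
    exact ⟨y, hy.1, c, hc, hxy⟩
  · set A : Subgroup G := TP ⊓ Subgroup.normalizer (Q : Set G) with hA
    have hATQ : A ≤ TQ := by
      intro y hy
      obtain ⟨hyP, hyst⟩ := (hTP y).1 hy.1
      have hyQ : y ∈ Subgroup.normalizer (Q : Set G) := hy.2
      have h1 := conjPair_eq_self_of_stabilizes hM hPe.2 hyP hyst
      have h2 := conjPair_normalizer hyQ f
      have h3 := subpairLE_conj (p := p) (M := M) y hle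
      unfold SubpairLE at h3
      have h4 : Relation.ReflTransGen (NormalSubpairRel p M) (conjPair y ⟨Q, f⟩)
          (conjPair y ⟨P, e⟩) := h3
      rw [h1, h2] at h4
      have h5 := subpairLE_unique hM _ P Q e hPe rfl _ f h4 hle
      exact (hTQ y).2 ⟨hyQ, stabilizesBlock_of_image_subset _ _ (le_of_eq h5)⟩
    have hCTQ : Subgroup.centralizer (Q : Set G) ≤ TQ := fun c hc =>
      (hTQ c).2 ⟨Subgroup.centralizer_le_normalizer _ hc, stabilizesBlock_of_mem _ f hc⟩
    have hTQN : TQ ≤ Subgroup.normalizer ((Subgroup.centralizer (Q : Set G) : Subgroup G) : Set G) := fun x hx => hNC ((hTQ x).1 hx).1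
    haveI : ((Subgroup.centralizer (Q : Set G)).subgroupOf TQ).Normal := Subgroup.normal_subgroupOf_of_le_normalizer hTQN
    have h1 : ((Subgroup.centralizer (Q : Set G)).subgroupOf TQ).relIndex (A.subgroupOf TQ ⊔ (Subgroup.centralizer (Q : Set G)).subgroupOf TQ) =
        ((Subgroup.centralizer (Q : Set G)).subgroupOf TQ).relIndex (A.subgroupOf TQ) := Subgroup.relIndex_sup_right _ _
    have htop : A.subgroupOf TQ ⊔ (Subgroup.centralizer (Q : Set G)).subgroupOf TQ = ⊤ := by
      rw [eq_top_iff]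
      intro t _
      obtain ⟨y, hy, c, hc, hxy⟩ := part1 (t : G) t.2
      have h2 : t = (⟨y, hATQ hy⟩ : TQ) * (⟨c, hCTQ hc⟩ : TQ) := by
        apply Subtype.ext
        exact hxy
      rw [h2]
      apply Subgroup.mul_mem_sup
      · rw [Subgroup.mem_subgroupOf]
        exact hy
      · rw [Subgroup.mem_subgroupOf]
        exact hc
    rw [htop, Subgroup.relIndex_top_right] at h1
    rw [h1, Subgroup.relIndex_subgroupOf hATQ]
    show (Subgroup.centralizer (Q : Set G)).relIndex A = (TP ⊓ Subgroup.centralizer (Q : Set G)).relIndex A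
    have h3 : TP ⊓ Subgroup.centralizer (Q : Set G) = Subgroup.centralizer (Q : Set G) ⊓ A := by
      ext g
      simp only [Subgroup.mem_inf, hA]
      constructor
      · rintro ⟨h1, h2⟩
        exact ⟨h2, h1, Subgroup.centralizer_le_normalizer _ h2⟩
      · rintro ⟨h1, h2, -⟩
        exact ⟨h2, h1⟩
    rw [h3, Subgroup.inf_relIndex_right]

end Cfsg.Agent.S4682
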