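import Mathlib
import Cfsg.Statements.S4645
import Cfsg.Agent.Lib.Helper18.PairRel2
import Cfsg.Agent.Lib.Helper18.PairBridge
import Cfsg.Agent.S4650
import Cfsg.Agent.S4682
import Cfsg.Agent.S4687
import Cfsg.Agent.Lib.Helper23.BlockCyclicNilpotent

set_option autoImplicit false
open Cfsg Cfsg.Agent.Helper23 Cfsg.Agent.Helper23.Blk Cfsg.Agent.Helper24 Cfsg.Agent.Helper18 Cfsg.Agent.Helper18.PairRel
set_option linter.style.haveILetI false

namespace Cfsg.Agent.S4645

/-- Let B be a block of the finite group G relative to a maximal ideal M of the algebraic integers containing the prime p, with a nontrivial cyclic defect group P; let c be a block of C_G(P) inducing B and T the stabilizer of c in N_G(P). Let Q be a nontrivial subgroup of P (so C_G(P) ≤ C_G(Q)), f the block of C_G(Q) induced by c inside C_G(Q), and T' the stabilizer of f in N_G(Q). Then T' = T·C_G(Q), the index of C_G(Q) in T' equals the index of C_G(P) in T, f has p-regular rank 1, and f is a nilpotent block of C_G(Q). -/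
theorem result {G : Type*} [Group G] [Finite G] (p : ℕ) [Fact p.Prime] (M : Ideal Cfsg.AlgInt) (hM : Cfsg.IsPModular p M) (B : Set (Cfsg.IrrCharacter G)) (hB : Cfsg.IsPBlock M B) (P : Subgroup G) (hPD : Cfsg.IsDefectGroup p M B P) (hP1 : P ≠ ⊥) (hcyc : IsCyclic P) (c : Set (Cfsg.IrrCharacter (Subgroup.centralizer (P : Set G)))) (hc : Cfsg.IsInducedBlock M (Subgroup.centralizer (P : Set G)) c B) (T : Subgroup G) (hT : ∀ g : G, g ∈ T ↔ (g ∈ Subgroup.normalizer (P : Set G) ∧ Cfsg.StabilizesBlock (Subgroup.centralizer (P : Set G)) c g)) (Q : Subgroup G) (hQP : Q ≤ P) (hQ1 : Q ≠ ⊥) (f : Set (Cfsg.IrrCharacter (Subgroup.centralizer (Q : Set G)))) (hf : Cfsg.IsInducedBlockIn M (Subgroup.centralizer (Q : Set G)) (Subgroup.centralizer (P : Set G)) c f) (T' : Subgroup G) (hT' : ∀ g : G, g ∈ T' ↔ (g ∈ Subgroup.normalizer (Q : Set G) ∧ Cfsg.StabilizesBlock (Subgroup.centralizer (Q : Set G)) f g)) : T' = T ⊔ Subgroup.centralizer (Q : Set G) ∧ (Subgroup.centralizer (Q : Set G)).relIndex T' = (Subgroup.centralizer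 (P : Set G)).relIndex T ∧ Cfsg.blockRank p f = 1 ∧ Cfsg.IsNilpotentBlock p M f := by
  classical
  haveI : Fintype G := Fintype.ofFinite G
  haveI hMp : M.IsPrime := hM.2.1.isPrime
  have hp : p.Prime := hM.1
  have hPp : IsPGroup p P := isPGroup_of_isDefectGroup hM hPD
  have hBe : IsBrauerPairOf p M B P c := isBrauerPairOf_of_isInducedBlock hM hPp hc
  have hPab : ∀ x ∈ P, ∀ y ∈ P, x * y = y * x :=
    fun x hx y hy => comm_of_mem_cyclic P hcyc hx hy
  have hPH : P ≤ Subgroup.centralizer (Q : Set G) := by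
    intro w hw
    rw [Subgroup.mem_centralizer_iff]
    intro q hq
    exact hPab q (hQP hq) w hw
  have hCH : Subgroup.centralizer (P : Set G) ≤ Subgroup.centralizer (Q : Set G) :=
    Subgroup.centralizer_le hQP
  haveI : Fintype (Subgroup.centralizer (Q : Set G)) := Fintype.ofFinite _
  have hfb : IsPBlock M f := hf.2.1
  -- the normal inclusion `(Q, f) ⊴ (P, c)`
  have hind'' := (isInducedBlock_rel_iff (Subgroup.centralizer (Q : Set G)) P hPH hCH hc.1 f).2 hf
  have hP'p : IsPGroup p (P.subgroupOf (Subgroup.centralizer (Q : Set G))) := hPp.comap_subtype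
  have hBe'' := isBrauerPairOf_of_isInducedBlock hM hP'p hind''
  have hsub : IsNormalSubpair p M Q f P c := by
    refine ⟨⟨hPp.to_le hQP, hfb⟩, ⟨hPp, hc.1⟩, hQP,
      hPH.trans (Subgroup.centralizer_le_normalizer _),
      fun x hx => stabilizesBlock_of_mem _ f (hPH hx), ?_⟩
    intro ξ hξ
    have h1 := hBe''.2.2 _ ⟨ξ, hξ, rfl⟩
    have h2 := brauerOmega_rel (Subgroup.centralizer (Q : Set G)) P hPH hCH f
      (ξ : Subgroup.centralizer (P : Set G) → ℂ)
    rw [← h2]
    exact h1
  have hle : SubpairLE p M Q f P c := Relation.ReflTransGen.single hsub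
  have hmaxK := isMaximalBrauerPair_rel hM hBe hPD hsub hPH
  -- the inertial index is prime to `p`
  have hPC : P ≤ Subgroup.centralizer (P : Set G) := by
    intro x hx
    rw [Subgroup.mem_centralizer_iff]
    intro y hy
    exact hPab y hy x hx
  have hsup : P ⊔ Subgroup.centralizer (P : Set G) = Subgroup.centralizer (P : Set G) :=
    sup_eq_right.2 hPC
  have hno : ∀ (R : Subgroup G) (g : Set (IrrCharacter (Subgroup.centralizer (R : Set G)))),
      IsNormalSubpair p M P c R g → R = P := by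
    intro R g hsub'
    have hBS := isBrauerPairOf_of_isNormalSubpair hM hsub' hBe
    have hcard := card_le_of_subConj (subConj_of_isBrauerPairOf hM hBS hPD)
    exact (Subgroup.eq_of_le_of_card_ge hsub'.2.2.1 hcard).symm
  have hodd := not_dvd_index_sup_centralizer_stab hM hBe hno T hT
  rw [hsup] at hodd
  have hTN : T ≤ Subgroup.normalizer (P : Set G) := fun t ht => ((hT t).1 ht).1
  have hCT : Subgroup.centralizer (P : Set G) ≤ T := fun g hg =>
    (hT g).2 ⟨Subgroup.centralizer_le_normalizer _ hg, stabilizesBlock_of_mem _ c hg⟩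
  haveI : ((Subgroup.centralizer (P : Set G)).subgroupOf T).Normal :=
    Subgroup.normal_subgroupOf_of_le_normalizer
      (fun t ht => normalizer_le_normalizer_centralizer P (hTN ht))
  have hfree : ∀ g ∈ T, ∀ x ∈ P, x ≠ 1 → g * x * g⁻¹ = x →
      g ∈ Subgroup.centralizer (P : Set G) := by
    intro g hg x hx hx1 hfix
    have hk : Nat.Coprime ((Subgroup.centralizer (P : Set G)).subgroupOf T).index p :=
      ((Nat.Prime.coprime_iff_not_dvd hp).2 hodd).symm
    have hgk : g ^ ((Subgroup.centralizer (P : Set G)).subgroupOf T).index ∈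
        Subgroup.centralizer (P : Set G) := by
      have h2 := Subgroup.pow_index_mem ((Subgroup.centralizer (P : Set G)).subgroupOf T)
        (⟨g, hg⟩ : T)
      rw [Subgroup.mem_subgroupOf] at h2
      exact h2
    exact mem_centralizer_of_fix_cyclic P hcyc hPp (hTN hg) hk hgk hx hx1 hfix
  -- nilpotency
  have hnil : IsNilpotentBlock p M f :=
    (Cfsg.Agent.S4650.result p M hM B hB P hPD hPab hP1 c hc T hT).1 hfree Q hQP hQ1 f hf
  -- the rank
  have hab' : ∀ x ∈ P.subgroupOf (Subgroup.centralizer (Q : Set G)),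
      ∀ y ∈ P.subgroupOf (Subgroup.centralizer (Q : Set G)), x * y = y * x := by
    intro x hx y hy
    rw [Subgroup.mem_subgroupOf] at hx hy
    apply Subtype.ext
    push_cast
    exact hPab _ hx _ hy
  have hinK := (Cfsg.Agent.S4687.result p M hM f _ _ hmaxK hab').1 hnil
  have hcycK : IsCyclic (P.subgroupOf (Subgroup.centralizer (Q : Set G))) :=
    (MulEquiv.isCyclic (Subgroup.subgroupOfEquivOfLe hPH)).2 hcyc
  have hDK := isDefectGroup_rel hM hBe hPD hle hPH
  have hl := (blockRank_eq_one_of_cyclic hM hmaxK.1 hDK hcycK hinK).1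
  -- the stabilizers
  have hmax : IsMaximalBrauerPair p M B P c := isMaximalBrauerPair_of_isDefectGroup hM hBe hPD
  obtain ⟨h82a, h82b⟩ := Cfsg.Agent.S4682.result p M hM B P c hmax hPab Q f hQP hfb hle T' hT' T hT
  have hTNQ : T ≤ Subgroup.normalizer (Q : Set G) := by
    intro t ht
    apply mem_normalizer_of_map_conj_eq
    apply subgroup_eq_of_card_eq_of_le_cyclic P hcyc _ hQP
    · exact Subgroup.card_map_of_injective (MulAut.conj t).injective
    · rintro _ ⟨q, hq, rfl⟩
      exact (Subgroup.mem_normalizer_iff.1 (hTN ht) q).1 (hQP hq)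
  have hCQT' : Subgroup.centralizer (Q : Set G) ≤ T' := fun g hg =>
    (hT' g).2 ⟨Subgroup.centralizer_le_normalizer _ hg, stabilizesBlock_of_mem _ f hg⟩
  have hTT' : T ≤ T' := by
    intro t ht
    have htfix : conjPair t ⟨P, c⟩ = (⟨P, c⟩ : BrauerPairIdx G) :=
      conjPair_eq_self_of_stabilizes hM hc.1 ((hT t).1 ht).1 ((hT t).1 ht).2
    have h1 := reflTransGen_conjPair_of_fix htfix hle
    have h2 : (conjPair t ⟨Q, f⟩).1 = Q := map_conj_eq_of_mem_normalizer (hTNQ ht)
    have h3 := pair_eq_of_reflTransGen hM hBe.1 h2 h1 hle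
    exact (hT' t).2 (stabilizes_of_conjPair_eq_self h3)
  have h1 : T' = T ⊔ Subgroup.centralizer (Q : Set G) := by
    apply le_antisymm
    · intro x hx
      obtain ⟨y, hy, c', hc', rfl⟩ := h82a x hx
      exact Subgroup.mul_mem _ (Subgroup.mem_sup_left hy) (Subgroup.mem_sup_right hc')
    · exact sup_le hTT' hCQT'
  have hTCQ : T ⊓ Subgroup.centralizer (Q : Set G) = Subgroup.centralizer (P : Set G) := by
    apply le_antisymm
    · rintro g ⟨hgT, hgQ⟩
      obtain ⟨q, hq1⟩ := (Subgroup.ne_bot_iff_exists_ne_one).1 hQ1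
      have hq1' : (q : G) ≠ 1 := fun h => hq1 (Subtype.ext h)
      apply hfree g hgT (q : G) (hQP q.2) hq1'
      have h1 := (Subgroup.mem_centralizer_iff.1 hgQ) (q : G) q.2
      rw [← h1]
      group
    · exact le_inf hCT hCH
  have h2 : (Subgroup.centralizer (Q : Set G)).relIndex T' =
      (Subgroup.centralizer (P : Set G)).relIndex T := by
    unfold Subgroup.relIndex
    rw [h82b, inf_eq_left.2 hTNQ, hTCQ]
  exact ⟨h1, h2, hl, hnil⟩

end Cfsg.Agent.S4645
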