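import Mathlib
import Cfsg.Statements.S4654
import Cfsg.Agent.Lib.Helper23.BlockFR2
import Cfsg.Agent.S4657

set_option autoImplicit false
open Cfsg Cfsg.Agent.Helper23.Blk Cfsg.Agent.Helper24

namespace Cfsg.Agent.S4654

/-- Fix a prime p and a maximal ideal M of the algebraic integers containing p. Let P be a normal p-subgroup of the finite group G, B a p-block of G and e a p-block of C_G(P) such that (P, e) is a Brauer pair of B (as P is normal, this says that e occurs in the idempotent of B, which is supported on C_G(P)). Let T be the stabilizer of e in G under conjugation. Then the idempotent of e is a block idempotent of T: some block E of T has, at every element of T, the same idempotent coefficient as e (zero off C_G(P)); and the idempotent of B is the sum of the distinct G-conjugates of the idempotent of e: its coefficient at g is the sum over all x in G of the coefficient of e at x⁻¹ g x, divided by the order of T. -/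
theorem result {G : Type*} [Group G] [Fintype G] (p : ℕ) [Fact p.Prime] (M : Ideal Cfsg.AlgInt) (hM : Cfsg.IsPModular p M) (P : Subgroup G) [P.Normal] (hP : IsPGroup p P) (B : Set (Cfsg.IrrCharacter G)) (e : Set (Cfsg.IrrCharacter (Subgroup.centralizer (P : Set G)))) (hBe : Cfsg.IsBrauerPairOf p M B P e) (T : Subgroup G) (hT : ∀ x : G, x ∈ T ↔ Cfsg.StabilizesBlock (Subgroup.centralizer (P : Set G)) e x) : (∃ E : Set (Cfsg.IrrCharacter T), Cfsg.IsPBlock M E ∧ ∀ t : T, Cfsg.blockCoeff E t = Cfsg.subgroupBlockCoeff (Subgroup.centralizer (P : Set G)) e (t : G)) ∧ ∀ g : G, Cfsg.blockCoeff B g = (Nat.card T : ℂ)⁻¹ * ∑ x : G, Cfsg.subgroupBlockCoeff (Subgroup.centralizer (P : Set G)) e (x⁻¹ * g * x) := by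
  classical
  haveI hMp : M.IsPrime := hM.2.1.isPrime
  haveI : Fintype (Subgroup.centralizer (P : Set G)) := Fintype.ofFinite _
  letI : Fintype (IrrCharacter (Subgroup.centralizer (P : Set G))) := irrFintype
  haveI : Fintype T := Fintype.ofFinite _
  haveI : Fintype (⊤ : Subgroup G) := Fintype.ofFinite _
  obtain ⟨⟨-, he⟩, hB, hbr⟩ := hBe
  have hne : e.Nonempty := block_nonempty hM he
  have hCT : Subgroup.centralizer (P : Set G) ≤ T :=
    fun c hc => (hT c).2 (stabilizesBlock_of_mem _ e hc)
  have hPT : P ≤ T := fun x hx => (hT x).2 (stabilizesBlock_of_commute P e hx)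
  have hTN : T ≤ Subgroup.normalizer
      ((Subgroup.centralizer (P : Set G) : Subgroup G) : Set G) :=
    fun x hx => ((hT x).1 hx).1
  have hNP : ∀ x : G, x ∈ Subgroup.normalizer (P : Set G) := by
    intro x
    rw [Subgroup.mem_normalizer_iff]
    intro h
    constructor
    · intro hh
      exact Subgroup.Normal.conj_mem inferInstance h hh x
    · intro hh
      have := Subgroup.Normal.conj_mem (inferInstance : P.Normal) _ hh x⁻¹
      have e1 : x⁻¹ * (x * h * x⁻¹) * x⁻¹⁻¹ = h := by group
      rwa [e1] at this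
  constructor
  · have hsupp : ∀ B' : Set (IrrCharacter T), IsPBlock M B' → ∀ t : T,
        (t : G) ∉ Subgroup.centralizer (P : Set G) → blockCoeff B' t = 0 :=
      fun B' hB' t ht =>
        blockCoeff_eq_zero_of_not_mem_centralizer' hM P T hP hPT (fun x _ => hNP x) hB' t ht
    obtain ⟨E, hE, hEc⟩ := exists_block_orbitSum _ T hTN hM hCT hsupp he
    have hstable : ∀ x : T, conjIrr _ (x : G) (hTN x.2) '' e = e :=
      fun x => image_conjIrr_eq_of_stabilizes _ he hne ((hT x).1 x.2)
    refine ⟨E, hE, ?_⟩
    intro t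
    rw [hEc t, orbitSum_of_stable _ T hTN hstable, subgroupBlockCoeff_eq_ext0]
  · have hTopN : (⊤ : Subgroup G) ≤ Subgroup.normalizer
        ((Subgroup.centralizer (P : Set G) : Subgroup G) : Set G) :=
      fun x _ => normalizer_le_normalizer_centralizer P (hNP x)
    have hsupp : ∀ B' : Set (IrrCharacter (⊤ : Subgroup G)), IsPBlock M B' →
        ∀ t : (⊤ : Subgroup G), (t : G) ∉ Subgroup.centralizer (P : Set G) →
          blockCoeff B' t = 0 :=
      fun B' hB' t ht =>
        blockCoeff_eq_zero_of_not_mem_centralizer' hM P ⊤ hP le_top (fun x _ => hNP x) hB' t ht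
    obtain ⟨E₀, hE₀, hE₀c⟩ := exists_block_orbitSum _ ⊤ hTopN hM le_top hsupp he
    set σ : G ≃* (⊤ : Subgroup G) := Subgroup.topEquiv.symm with hσ
    set B' : Set (IrrCharacter G) := irrComp σ '' E₀ with hB'def
    have hB' : IsPBlock M B' := isPBlock_image_irrComp σ hE₀
    have hB'c : ∀ g, blockCoeff B' g = orbitSum _ ⊤ hTopN e g := by
      intro g
      rw [hB'def, blockCoeff_image_irrComp, hE₀c]
      rfl
    have hpair : IsBrauerPairOf p M B' P e := by
      refine ⟨⟨hP, he⟩, hB', ?_⟩
      intro ξ hξ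
      rw [brauerOmega_eq_omega]
      have h1 : blockCoeff B' = orbitSum _ ⊤ hTopN e := funext hB'c
      rw [h1, orbitSum_eq_ext0', resC_ext0_self, omega_orbitSumC _ ⊤ hTopN he,
        if_pos ⟨e, self_mem_blockOrbit _ ⊤ hTopN e, hξ⟩, sub_self]
      exact memLocalIdeal_zero ne_top
    obtain ⟨B₀, -, huniq⟩ := Cfsg.Agent.S4657.result p M hM P e ⟨hP, he⟩
    have hBB' : B = B' := (huniq B ⟨⟨hP, he⟩, hB, hbr⟩).trans (huniq B' hpair).symm
    intro g
    rw [hBB', hB'c g]
    have h2 := sum_conj_eq_card_mul_orbitSum _ ⊤ hTopN e g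
    have h3 : ∑ x : G, subgroupBlockCoeff (Subgroup.centralizer (P : Set G)) e (x⁻¹ * g * x) =
        ∑ x : (⊤ : Subgroup G),
          ext0 (Subgroup.centralizer (P : Set G)) (blockCoeff e) ((x : G)⁻¹ * g * (x : G)) := by
      rw [subgroupBlockCoeff_eq_ext0]
      exact (Fintype.sum_equiv Subgroup.topEquiv.toEquiv _ _ (fun x => rfl)).symm
    have h4 : Nat.card {x : (⊤ : Subgroup G) // conjIrr _ (x : G) (hTopN x.2) '' e = e} =
        Nat.card T := by
      apply Nat.card_congr
      refine ⟨fun x => ⟨(x.1 : G), (hT _).2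
          (stabilizesBlock_of_image_subset _ (hTopN x.1.2) x.2.le)⟩,
        fun t => ⟨⟨(t : G), Subgroup.mem_top _⟩,
          image_conjIrr_eq_of_stabilizes _ he hne ((hT _).1 t.2)⟩, ?_, ?_⟩
      · intro x
        rfl
      · intro t
        rfl
    rw [h3, h2, h4]
    have hT0 : (Nat.card T : ℂ) ≠ 0 := by
      exact_mod_cast Nat.card_pos.ne'
    field_simp

end Cfsg.Agent.S4654
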