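import Mathlib
import Cfsg.Statements.S4656
import Cfsg.Agent.Lib.Helper23.BlockPairs4

set_option autoImplicit false
open Cfsg Cfsg.Agent.Helper23.Blk Cfsg.Agent.Helper24

namespace Cfsg.Agent.S4656

/-- Fix a prime p and a maximal ideal M of the algebraic integers containing p. Let (P, e) be a Brauer pair of the finite group G and Q a normal subgroup of P. Then there is exactly one p-block f of C_G(Q) that is stable under conjugation by P and such that e occurs in the Brauer-map image at P of the idempotent of f; that is, exactly one f with (Q, f) normally below (P, e). -/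
theorem result {G : Type*} [Group G] [Fintype G] (p : ℕ) [Fact p.Prime] (M : Ideal Cfsg.AlgInt) (hM : Cfsg.IsPModular p M) (P Q : Subgroup G) (e : Set (Cfsg.IrrCharacter (Subgroup.centralizer (P : Set G)))) (hPe : Cfsg.IsBrauerPair p M P e) (hQP : Q ≤ P) (hPN : P ≤ Subgroup.normalizer (Q : Set G)) : ∃! f : Set (Cfsg.IrrCharacter (Subgroup.centralizer (Q : Set G))), Cfsg.IsNormalSubpair p M Q f P e := by
  classical
  haveI hMp : M.IsPrime := hM.2.1.isPrime
  haveI : Fintype (Subgroup.centralizer (Q : Set G)) := Fintype.ofFinite _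
  haveI : Fintype (Subgroup.centralizer (P : Set G)) := Fintype.ofFinite _
  letI : Fintype (IrrCharacter (Subgroup.centralizer (Q : Set G))) := irrFintype
  letI : Fintype (IrrCharacter (Subgroup.centralizer (P : Set G))) := irrFintype
  obtain ⟨hP, he⟩ := hPe
  obtain ⟨ξ₀, hξ₀⟩ := block_nonempty hM he
  have hCK : Subgroup.centralizer (P : Set G) ≤ Subgroup.centralizer (Q : Set G) :=
    Subgroup.centralizer_le hQP
  have hPK : P ≤ Subgroup.normalizer
      ((Subgroup.centralizer (Q : Set G) : Subgroup G) : Set G) := by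
    intro x hx
    rw [Subgroup.mem_normalizer_iff]
    intro c
    exact (centralizer_conj_mem_iff_of_mem_normalizer (hPN hx)).symm
  obtain ⟨f, hf, hstab, ht⟩ :=
    exists_stable_block P (Subgroup.centralizer (Q : Set G)) hM hP hCK hPK ξ₀
  have hQ : IsPGroup p Q := hP.to_le hQP
  have htrans : ∀ f' : Set (IrrCharacter (Subgroup.centralizer (Q : Set G))), IsPBlock M f' →
      ∀ ξ ∈ e, MemLocalIdeal M
        (omega (ξ : Subgroup.centralizer (P : Set G) → ℂ)
          (resC P (Subgroup.centralizer (P : Set G))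
            (ext0 (Subgroup.centralizer (Q : Set G)) (blockCoeff f'))) -
         omega (ξ₀ : Subgroup.centralizer (P : Set G) → ℂ)
          (resC P (Subgroup.centralizer (P : Set G))
            (ext0 (Subgroup.centralizer (Q : Set G)) (blockCoeff f')))) := by
    intro f' hf' ξ hξ
    have hsame : SameBlock M (ξ : Subgroup.centralizer (P : Set G) → ℂ)
        (ξ₀ : Subgroup.centralizer (P : Set G) → ℂ) := by
      obtain ⟨ξ₁, rfl⟩ := he
      exact sameBlock_trans (sameBlock_symm hξ) hξ₀
    apply memLocalIdeal_omega_sub hsame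
    · exact isClassFunction_resC_of_conjInv P _ (Subgroup.centralizer_le_normalizer _)
        ((conjInv_ext0 _ (isClassFunction_blockCoeff f')).mono hCK)
    · intro y
      rw [resC_ext0_apply P _ hCK]
      exact memLocalRing_blockCoeff hMp hf' _
  refine ⟨f, ⟨⟨hQ, hf⟩, ⟨hP, he⟩, hQP, hPN, hstab, ?_⟩, ?_⟩
  · intro ξ hξ
    rw [brauerOmega_eq_omega, subgroupBlockCoeff_eq_ext0]
    exact cong_trans (htrans f hf ξ hξ) ht
  · intro f' hf'
    obtain ⟨⟨-, hf'b⟩, -, -, -, hstab', hbr'⟩ := hf'
    have h1 := hbr' ξ₀ hξ₀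
    rw [brauerOmega_eq_omega, subgroupBlockCoeff_eq_ext0] at h1
    exact stable_block_unique P _ hM hP hCK hPK ξ₀ hf'b hf hstab' hstab h1 ht

end Cfsg.Agent.S4656
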