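import Mathlib
import Cfsg.Statements.S4658
import Cfsg.Agent.Lib.Helper23.BlockPairs3
import Cfsg.Agent.S4657

set_option autoImplicit false
open Cfsg Cfsg.Agent.Helper23.Blk Cfsg.Agent.Helper24

namespace Cfsg.Agent.S4658

/-- Fix a prime p and a maximal ideal M of the algebraic integers containing p. Let (Q, f) ≤ (P, e) be Brauer pairs of the finite group G and B a p-block of G. Then (P, e) is a Brauer pair of B if and only if (Q, f) is. -/
theorem result {G : Type*} [Group G] [Fintype G] (p : ℕ) [Fact p.Prime] (M : Ideal Cfsg.AlgInt) (hM : Cfsg.IsPModular p M) (P Q : Subgroup G) (e : Set (Cfsg.IrrCharacter (Subgroup.centralizer (P : Set G)))) (f : Set (Cfsg.IrrCharacter (Subgroup.centralizer (Q : Set G)))) (hPe : Cfsg.IsBrauerPair p M P e) (hQf : Cfsg.IsBrauerPair p M Q f) (hle : Cfsg.SubpairLE p M Q f P e) (B : Set (Cfsg.IrrCharacter G)) (hB : Cfsg.IsPBlock M B) : Cfsg.IsBrauerPairOf p M B P e ↔ Cfsg.IsBrauerPairOf p M B Q f := by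
  have fwd : ∀ a b : BrauerPairIdx G, Relation.ReflTransGen (NormalSubpairRel p M) a b →
      ∀ B' : Set (IrrCharacter G), IsBrauerPairOf p M B' a.1 a.2 → IsBrauerPairOf p M B' b.1 b.2 := by
    intro a b hab
    induction hab with
    | refl => exact fun _ h => h
    | tail _ hstep ih =>
      intro B' h
      exact isBrauerPairOf_of_isNormalSubpair hM hstep (ih B' h)
  constructor
  · intro hP
    obtain ⟨B', hB', -⟩ := Cfsg.Agent.S4657.result p M hM Q f hQf
    have h1 := fwd ⟨Q, f⟩ ⟨P, e⟩ hle B' hB'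
    obtain ⟨B'', -, huniq⟩ := Cfsg.Agent.S4657.result p M hM P e hPe
    have h2 : B = B' := (huniq B hP).trans (huniq B' h1).symm
    rw [h2]
    exact hB'
  · exact fwd ⟨Q, f⟩ ⟨P, e⟩ hle B

end Cfsg.Agent.S4658
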