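import Mathlib
import Cfsg.Statements.S4663
import Cfsg.Agent.Lib.Helper23.BlockPairs

set_option autoImplicit false
open Cfsg Cfsg.Agent.Helper23.Blk Cfsg.Agent.Helper24

namespace Cfsg.Agent.S4663

/-- Fix a prime p and a maximal ideal M of the algebraic integers containing p. Brauer's Third Main Theorem in the language of Brauer pairs: for the principal p-block B₀ of the finite group G and any p-subgroup Q, a p-block e of C_G(Q) makes (Q, e) a Brauer pair of B₀ if and only if e is the principal p-block of C_G(Q). Equivalently, modulo M the truncation to C_G(Q) of the idempotent of B₀ is the idempotent of the principal block of C_G(Q). -/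
theorem result {G : Type*} [Group G] [Fintype G] (p : ℕ) [Fact p.Prime] (M : Ideal Cfsg.AlgInt) (hM : Cfsg.IsPModular p M) (Q : Subgroup G) (hQ : IsPGroup p Q) (e : Set (Cfsg.IrrCharacter (Subgroup.centralizer (Q : Set G)))) (he : Cfsg.IsPBlock M e) : Cfsg.IsBrauerPairOf p M (Cfsg.principalBlock M G) Q e ↔ e = Cfsg.principalBlock M (Subgroup.centralizer (Q : Set G)) := by
  classical
  haveI : Fintype (Subgroup.centralizer (Q : Set G)) := Fintype.ofFinite _
  letI : Fintype (IrrCharacter G) := irrFintype
  letI : Fintype (IrrCharacter (Subgroup.centralizer (Q : Set G))) := irrFintype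
  haveI hMp : M.IsPrime := hM.2.1.isPrime
  have ha : IsClassFunction G (pRegInd G p) := isClassFunction_pRegInd
  have haR : ∀ g, MemLocalRing M (pRegInd G p g) := fun g => memLocalRing_pRegInd g
  have hB0 : IsPBlock M (principalBlock M G) := isPBlock_principalBlock
  constructor
  · intro h
    obtain ⟨ξ, hξ⟩ := block_nonempty hM he
    obtain ⟨χ, hχ⟩ := exists_irr_brauerPair Q hM hQ ξ
    have hχB := (isBrauerPairOf_iff Q hM hQ he hξ hχ hB0).1 h
    have h1 := hχ _ ha haR
    rw [resC_pRegInd] at h1
    have hχB' : SameBlock M (χ : G → ℂ) ((principalChar G : IrrCharacter G) : G → ℂ) :=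
      sameBlock_symm hχB
    have h2 : MemLocalIdeal M (omega (χ : G → ℂ) (pRegInd G p) -
        omega ((principalChar G : IrrCharacter G) : G → ℂ) (pRegInd G p)) :=
      memLocalIdeal_omega_sub (χ := χ) (ψ := principalChar G) hχB' ha haR
    have hξ' : ξ ∈ principalBlock M (Subgroup.centralizer (Q : Set G)) := by
      by_contra hcon
      have h3 := cong_trans h1 h2
      rw [omega_pRegInd_eq_zero hM ξ hcon, zero_sub] at h3
      have h4 := memLocalIdeal_neg h3
      rw [neg_neg] at h4
      exact not_memLocalIdeal_omega_principal hM h4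
    exact isPBlock_eq_of_mem he isPBlock_principalBlock hξ hξ'
  · rintro rfl
    have hξ : principalChar (Subgroup.centralizer (Q : Set G)) ∈
        principalBlock M (Subgroup.centralizer (Q : Set G)) := principalChar_mem_principalBlock
    obtain ⟨χ, hχ⟩ := exists_irr_brauerPair Q hM hQ
      (principalChar (Subgroup.centralizer (Q : Set G)))
    apply (isBrauerPairOf_iff Q hM hQ he hξ hχ hB0).2
    have h1 := hχ _ ha haR
    rw [resC_pRegInd] at h1
    by_contra hcon
    rw [omega_pRegInd_eq_zero hM χ hcon, sub_zero] at h1
    exact not_memLocalIdeal_omega_principal hM h1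

end Cfsg.Agent.S4663
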