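import Mathlib
import Cfsg.Statements.S4664
import Cfsg.Agent.Lib.Helper23.BlockConv
import Cfsg.Agent.Lib.Helper24.CharBasic

set_option autoImplicit false
open Cfsg

namespace Cfsg.Agent.S4664

open Cfsg.Agent.Helper24 Cfsg.Agent.Helper23.Blk
open scoped ComplexConjugate

universe u

/-- A character value at an element with `g ^ m = 1` lies in the `m`-th cyclotomic field. -/
theorem char_mem_adjoin {G : Type u} [Group G] [Finite G] {χ : G → ℂ} (hχ : IsCharacter G χ)
    {m : ℕ} (hm : m ≠ 0) {g : G} (hg : g ^ m = 1) :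
    χ g ∈ IntermediateField.adjoin ℚ
      ({Complex.exp (2 * Real.pi * Complex.I / (m : ℂ))} : Set ℂ) := by
  obtain ⟨n, ρ, rfl⟩ := hχ
  haveI : NeZero m := ⟨hm⟩
  have hpow : (ρ g) ^ m = 1 := by
    rw [← map_pow, hg, map_one]
  obtain ⟨n', b, μ, hμ, hb⟩ := exists_eigenbasis_of_pow_eq_one (ρ g) (Nat.pos_of_ne_zero hm) hpow
  have htr : ρ.character g = ∑ i, μ i := trace_eq_sum_of_eigenbasis b μ (ρ g) hb
  rw [htr]
  apply IntermediateField.sum_mem
  intro i _
  obtain ⟨k, -, hk⟩ := (Complex.isPrimitiveRoot_exp m hm).eq_pow_of_pow_eq_one (hμ i)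
  rw [← hk]
  apply pow_mem
  apply IntermediateField.subset_adjoin
  exact Set.mem_singleton _

theorem result {G : Type*} [Group G] [Fintype G] (p : ℕ) [Fact p.Prime] (M : Ideal Cfsg.AlgInt) (hM : Cfsg.IsPModular p M) (B : Set (Cfsg.IrrCharacter G)) (hB : Cfsg.IsPBlock M B) (g : G) : Cfsg.blockCoeff B g ∈ IntermediateField.adjoin ℚ ({Complex.exp (2 * Real.pi * Complex.I / ((Nat.card G / p ^ (Nat.card G).factorization p : ℕ) : ℂ))} : Set ℂ) := by
  classical
  letI : Fintype (IrrCharacter G) := irrFintype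
  have hp : p.Prime := Fact.out
  by_cases hsing : p ∣ orderOf g
  · rw [blockCoeff_eq_zero_of_pSingular hM hB hsing]
    exact zero_mem _
  · obtain ⟨m, hmdef⟩ : ∃ m : ℕ, m = Nat.card G / p ^ (Nat.card G).factorization p := ⟨_, rfl⟩
    rw [← hmdef]
    have hG0 : Nat.card G ≠ 0 := Nat.card_pos.ne'
    have hprod : p ^ (Nat.card G).factorization p * m = Nat.card G := by
      rw [hmdef]
      exact Nat.ordProj_mul_ordCompl_eq_self _ _
    have hm0 : m ≠ 0 := by
      rintro rfl
      rw [mul_zero] at hprod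
      exact hG0 hprod.symm
    have hdvd : orderOf g ∣ m := by
      have h1 : orderOf g ∣ p ^ (Nat.card G).factorization p * m := by
        rw [hprod]
        exact orderOf_dvd_natCard g
      have hcop : Nat.Coprime (orderOf g) (p ^ (Nat.card G).factorization p) :=
        Nat.Coprime.pow_right _ ((Nat.Prime.coprime_iff_not_dvd hp).mpr hsing).symm
      exact hcop.dvd_of_dvd_mul_left h1
    have hginv : (g⁻¹) ^ m = 1 := by
      rw [inv_pow, inv_eq_one]
      exact orderOf_dvd_iff_pow_eq_one.mp hdvd
    unfold blockCoeff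
    apply mul_mem
    · apply inv_mem
      exact natCast_mem _ _
    · rw [finsum_mem_def, finsum_eq_sum_of_fintype]
      apply IntermediateField.sum_mem
      intro χ _
      by_cases hχB : χ ∈ B
      · rw [Set.indicator_of_mem hχB]
        apply mul_mem
        · rw [irr_one_eq_charDegree χ.2]
          exact natCast_mem _ _
        · rw [← irr_inv (isCharacter_of_isIrrCharacter χ.2)]
          exact char_mem_adjoin (isCharacter_of_isIrrCharacter χ.2) hm0 hginv
      · rw [Set.indicator_of_notMem hχB]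
        exact zero_mem _

end Cfsg.Agent.S4664
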