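import Mathlib
import Cfsg.Statements.S4665
import Cfsg.Agent.Lib.Helper24.CharCentral

set_option autoImplicit false
open Cfsg

namespace Cfsg.Agent.S4665

open Cfsg.Agent.Helper24

/-- The sum of a character over a subgroup is the order of the subgroup times a natural number. -/
theorem sum_char_subgroup {G : Type*} [Group G] [Finite G] (ψ : G → ℂ) (hψ : IsCharacter G ψ)
    (H : Subgroup G) [Fintype H] : ∃ m : ℕ, ∑ g : H, ψ g = (Nat.card H : ℂ) * m := by
  obtain ⟨n, ρ, rfl⟩ := hψ
  obtain ⟨σ, hσ⟩ : ∃ σ : Representation ℂ H (Fin n → ℂ), ∀ g : H, σ g = ρ g :=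
    ⟨ρ.comp H.subtype, fun g => rfl⟩
  have hne : (Nat.card H : ℂ) ≠ 0 := by exact_mod_cast (Nat.card_pos (α := H)).ne'
  haveI : Invertible (Nat.card H : ℂ) := invertibleOfNonzero hne
  have key := Representation.card_inv_mul_sum_char_eq_finrank σ
  refine ⟨Module.finrank ℂ (Representation.invariants σ), ?_⟩
  rw [← key, mul_inv_cancel_left₀ hne]
  refine Finset.sum_congr rfl fun g _ => ?_
  unfold Representation.character
  rw [hσ]

/-- Fix a prime p, a maximal ideal M of the algebraic integers containing p, and a p-block B of the finite group G, and let p^a be the p-part of the order of G. Let χ be an integer combination of the irreducible characters in B. If the function that agrees with χ on p-regular elements and vanishes on p-singular elements is again an integer combination of the irreducible characters in B, then p^a divides χ(1). -/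
theorem result {G : Type*} [Group G] [Fintype G] (p : ℕ) [Fact p.Prime] (M : Ideal Cfsg.AlgInt) (hM : Cfsg.IsPModular p M) (B : Set (Cfsg.IrrCharacter G)) (hB : Cfsg.IsPBlock M B) (χ : G → ℂ) (hχ : (∃ n : Cfsg.IrrCharacter G → ℤ, ∀ g : G, χ g = ∑ᶠ ψ ∈ B, (n ψ : ℂ) * (ψ : G → ℂ) g)) (h0 : (∃ n : Cfsg.IrrCharacter G → ℤ, ∀ g : G, Cfsg.pRegularPart p χ g = ∑ᶠ ψ ∈ B, (n ψ : ℂ) * (ψ : G → ℂ) g)) : ∃ k : ℤ, χ 1 = (p ^ (Nat.card G).factorization p : ℂ) * k := by
  classical
  haveI : Fintype (IrrCharacter G) := irrFintype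
  obtain ⟨n, hn⟩ := h0
  -- rewrite the finsum as a finite sum
  have hn' : ∀ g : G, pRegularPart p χ g =
      ∑ ψ : IrrCharacter G, if ψ ∈ B then (n ψ : ℂ) * (ψ : G → ℂ) g else 0 := by
    intro g
    rw [hn g, finsum_mem_def, finsum_eq_sum_of_fintype]
    refine Finset.sum_congr rfl fun ψ _ => ?_
    rw [Set.indicator_apply]
  obtain ⟨P⟩ : Nonempty (Sylow p G) := inferInstance
  haveI : Fintype (P : Subgroup G) := Fintype.ofFinite _
  have hPcard : Nat.card (P : Subgroup G) = p ^ (Nat.card G).factorization p :=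
    P.card_eq_multiplicity
  -- compute the sum of the p-regular part over P in two ways
  have hreg1 : pRegularPart p χ 1 = χ 1 := by
    unfold pRegularPart
    rw [if_pos]
    unfold IsPRegular
    rw [orderOf_one]
    exact (Fact.out : p.Prime).one_lt.ne' ∘ Nat.dvd_one.mp
  have hreg : ∀ g : (P : Subgroup G), g ≠ 1 → pRegularPart p χ (g : G) = 0 := by
    intro g hg
    unfold pRegularPart
    rw [if_neg]
    unfold IsPRegular
    rw [not_not]
    obtain ⟨k, hk⟩ := (P.2 g)
    have hg' : (g : G) ≠ 1 := fun h => hg (Subtype.ext h)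
    have hord : orderOf (g : G) ∣ p ^ k := by
      apply orderOf_dvd_of_pow_eq_one
      have := congrArg Subtype.val hk
      simpa using this
    obtain ⟨j, hj, hjeq⟩ := (Nat.dvd_prime_pow (Fact.out : p.Prime)).mp hord
    rw [hjeq]
    rcases Nat.eq_zero_or_pos j with h0 | h0
    · rw [h0, pow_zero, orderOf_eq_one_iff] at hjeq
      exact absurd hjeq hg'
    · exact dvd_pow_self p h0.ne'
  have hsum1 : ∑ g : (P : Subgroup G), pRegularPart p χ (g : G) = χ 1 := by
    rw [Finset.sum_eq_single (1 : (P : Subgroup G))]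
    · rw [Subgroup.coe_one, hreg1]
    · intro g _ hg
      exact hreg g hg
    · intro h
      exact absurd (Finset.mem_univ _) h
  -- multiplicities
  have hm : ∀ ψ : IrrCharacter G, ∃ m : ℕ,
      ∑ g : (P : Subgroup G), (ψ : G → ℂ) (g : G) = (Nat.card (P : Subgroup G) : ℂ) * m := by
    intro ψ
    have hchar : IsCharacter G (ψ : G → ℂ) := by
      obtain ⟨n, ρ, -, hρ⟩ := ψ.2
      exact ⟨n, ρ, hρ⟩
    exact sum_char_subgroup _ hchar _
  choose m hm using hm
  refine ⟨∑ ψ : IrrCharacter G, if ψ ∈ B then n ψ * (m ψ : ℤ) else 0, ?_⟩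
  rw [← hsum1]
  simp only [hn']
  rw [Finset.sum_comm]
  push_cast
  rw [Finset.mul_sum]
  refine Finset.sum_congr rfl fun ψ _ => ?_
  by_cases hψ : ψ ∈ B
  · simp only [if_pos hψ]
    rw [← Finset.mul_sum, hm ψ, hPcard]
    push_cast
    ring
  · simp only [if_neg hψ]
    simp

end Cfsg.Agent.S4665
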