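import Mathlib
import Cfsg.Statements.S4666
import Cfsg.Agent.Lib.Helper23.BlockGenChar2

set_option autoImplicit false
open Cfsg Cfsg.Agent.Helper23.Blk Cfsg.Agent.Helper24

namespace Cfsg.Agent.S4666

/-- Fix a prime p and a maximal ideal M of the algebraic integers containing p, and a p-block B of the finite group G of defect d. For every integer combination χ of the irreducible characters in B, p^d times the function that agrees with χ on p-regular elements and vanishes elsewhere is again an integer combination of the irreducible characters in B. -/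
theorem result {G : Type*} [Group G] [Fintype G] (p : ℕ) [Fact p.Prime] (M : Ideal Cfsg.AlgInt) (hM : Cfsg.IsPModular p M) (B : Set (Cfsg.IrrCharacter G)) (hB : Cfsg.IsPBlock M B) (χ : G → ℂ) (hχ : (∃ n : Cfsg.IrrCharacter G → ℤ, ∀ g : G, χ g = ∑ᶠ ψ ∈ B, (n ψ : ℂ) * (ψ : G → ℂ) g)) : (∃ n : Cfsg.IrrCharacter G → ℤ, ∀ g : G, (p ^ Cfsg.blockDefect p B : ℂ) * Cfsg.pRegularPart p χ g = ∑ᶠ ψ ∈ B, (n ψ : ℂ) * (ψ : G → ℂ) g) := by
  classical
  letI : Fintype (IrrCharacter G) := irrFintype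
  obtain ⟨n, hn⟩ := hχ
  have hex : ∀ ψ : IrrCharacter G, ∃ c : IrrCharacter G → ℤ, ψ ∈ B →
      ((∀ ξ, ξ ∉ B → c ξ = 0) ∧
      ((p : ℂ) ^ blockDefect p B) • pRegularPart p (ψ : G → ℂ) =
        ∑ ξ : IrrCharacter G, (c ξ : ℂ) • (ξ : G → ℂ)) := by
    intro ψ
    by_cases hψ : ψ ∈ B
    · obtain ⟨c, hc1, hc2⟩ := exists_int_coeffs_block hM hB hψ
      exact ⟨c, fun _ => ⟨hc1, hc2⟩⟩
    · exact ⟨fun _ => 0, fun h => absurd h hψ⟩
  choose c hc using hex
  refine ⟨fun ξ => ∑ ψ : IrrCharacter G, if ψ ∈ B then n ψ * c ψ ξ else 0, ?_⟩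
  intro g
  have hfs : ∀ f : IrrCharacter G → ℂ, ∑ᶠ ψ ∈ B, f ψ =
      ∑ ψ : IrrCharacter G, if ψ ∈ B then f ψ else 0 := by
    intro f
    rw [finsum_mem_def, finsum_eq_sum_of_fintype]
    apply Finset.sum_congr rfl
    intro ψ _
    rw [Set.indicator_apply]
  have hχ' : χ = ∑ ψ : IrrCharacter G, (if ψ ∈ B then (n ψ : ℂ) else 0) • (ψ : G → ℂ) := by
    funext g
    rw [hn g, hfs, Finset.sum_apply]
    apply Finset.sum_congr rfl
    intro ψ _
    rw [Pi.smul_apply, smul_eq_mul]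
    split_ifs
    · rfl
    · rw [zero_mul]
  have h1 : ((p : ℂ) ^ blockDefect p B) • pRegularPart p χ =
      ∑ ψ : IrrCharacter G, ∑ ξ : IrrCharacter G,
        ((if ψ ∈ B then (n ψ : ℂ) * (c ψ ξ : ℂ) else 0)) • (ξ : G → ℂ) := by
    rw [hχ', pRegularPart_sum, Finset.smul_sum]
    apply Finset.sum_congr rfl
    intro ψ _
    rw [pRegularPart_smul, smul_comm]
    by_cases hψ : ψ ∈ B
    · simp only [if_pos hψ]
      rw [(hc ψ hψ).2, Finset.smul_sum]
      apply Finset.sum_congr rfl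
      intro ξ _
      rw [smul_smul]
    · simp only [if_neg hψ, zero_smul, Finset.sum_const_zero]
  have h2 := congrFun h1 g
  rw [Pi.smul_apply, smul_eq_mul] at h2
  rw [h2, hfs, Finset.sum_apply]
  simp only [Finset.sum_apply]
  rw [Finset.sum_comm]
  apply Finset.sum_congr rfl
  intro ξ _
  by_cases hξ : ξ ∈ B
  · rw [if_pos hξ]
    push_cast
    rw [Finset.sum_mul]
    apply Finset.sum_congr rfl
    intro ψ _
    rw [Pi.smul_apply, smul_eq_mul]
  · rw [if_neg hξ]
    apply Finset.sum_eq_zero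
    intro ψ _
    rw [Pi.smul_apply, smul_eq_mul]
    by_cases hψ : ψ ∈ B
    · rw [if_pos hψ, (hc ψ hψ).1 ξ hξ]
      simp
    · rw [if_neg hψ, zero_mul]

end Cfsg.Agent.S4666
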