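import Mathlib
import Cfsg.Statements.S4667
import Cfsg.Agent.Lib.Helper23.BlockRank

set_option autoImplicit false
open Cfsg

namespace Cfsg.Agent.S4667

/-- Fix a prime p and a maximal ideal M of the algebraic integers containing p, and a p-block B of the finite group G. The p-regular rank of B (the number of irreducible Brauer characters in B) times the order of G equals the sum over the p-regular elements x of G of Σ_{χ ∈ B} χ(x) χ(x⁻¹) (written with the restriction of χ to p-regular elements, which vanishes at p-singular x). -/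
theorem result {G : Type*} [Group G] [Fintype G] (p : ℕ) [Fact p.Prime] (M : Ideal Cfsg.AlgInt) (hM : Cfsg.IsPModular p M) (B : Set (Cfsg.IrrCharacter G)) (hB : Cfsg.IsPBlock M B) : (Nat.card G : ℂ) * (Cfsg.blockRank p B : ℂ) = ∑ x : G, ∑ᶠ χ ∈ B, Cfsg.pRegularPart p (χ : G → ℂ) x * (χ : G → ℂ) x⁻¹ := by
  classical
  letI : Fintype (IrrCharacter G) := Cfsg.Agent.Helper24.irrFintype
  rw [Cfsg.Agent.Helper23.Blk.blockRank_block p hM hB, Finset.mul_sum]
  have h1 : ∀ x : G, ∑ᶠ χ ∈ B, Cfsg.pRegularPart p (χ : G → ℂ) x * (χ : G → ℂ) x⁻¹ =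
      ∑ χ : IrrCharacter G, (if χ ∈ B then
        Cfsg.pRegularPart p (χ : G → ℂ) x * (χ : G → ℂ) x⁻¹ else 0) := by
    intro x
    rw [finsum_mem_def, finsum_eq_sum_of_fintype]
    apply Finset.sum_congr rfl
    intro χ _
    rw [Set.indicator_apply]
  rw [Finset.sum_congr rfl (fun x _ => h1 x), Finset.sum_comm]
  apply Finset.sum_congr rfl
  intro χ _
  by_cases hχ : χ ∈ B
  · simp only [if_pos hχ]
    unfold classInner
    rw [← mul_assoc, mul_inv_cancel₀ Cfsg.Agent.Helper23.Blk.card_ne_zero, one_mul]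
    apply Finset.sum_congr rfl
    intro x _
    rw [Cfsg.Agent.Helper24.irr_inv (Cfsg.Agent.Helper24.isCharacter_of_isIrrCharacter χ.2)]
  · simp only [if_neg hχ]
    rw [mul_zero, Finset.sum_const_zero]

end Cfsg.Agent.S4667
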