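import Mathlib
import Cfsg.Statements.S4668
import Cfsg.Agent.Lib.Helper23.BlockNormalP
import Cfsg.Agent.Lib.Helper7.PLocal2

set_option autoImplicit false
open Cfsg

namespace Cfsg.Agent.S4668

open Cfsg.Agent.Helper24 Cfsg.Agent.Helper23.Blk

theorem result {G : Type*} [Group G] [Fintype G] (p : ℕ) [Fact p.Prime] (M : Ideal Cfsg.AlgInt) (hM : Cfsg.IsPModular p M) (m : ℕ) (Q : Fin (m + 1) → Subgroup G) (hQ : StrictMono Q) (hQp : ∀ i, IsPGroup p (Q i)) (N : Subgroup G) (hN : ∀ g : G, g ∈ N ↔ ∀ i, g ∈ Subgroup.normalizer (Q i : Set G)) (E : Set (Cfsg.IrrCharacter N)) (hE : Cfsg.IsPBlock M E) (n : N) (hn : (n : G) ∉ Subgroup.centralizer (Q (Fin.last m) : Set G)) : Cfsg.blockCoeff E n = 0 := by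
  classical
  by_contra hne
  apply hn
  have hp : p.Prime := Fact.out
  have hreg : ¬ p ∣ orderOf n := fun h => hne (blockCoeff_eq_zero_of_pSingular hM hE h)
  have hregG : (orderOf (n : G)).Coprime p := by
    rw [Subgroup.orderOf_coe]
    exact ((Nat.Prime.coprime_iff_not_dvd hp).mpr hreg).symm
  -- `n` centralizes `Q i ⊓ N` for each `i`
  have hcent : ∀ i, ∀ x ∈ Q i, x ∈ N → x * (n : G) = (n : G) * x := by
    intro i x hxQ hxN
    have hnorm : ((Q i).subgroupOf N).Normal := by
      constructor
      intro y hy g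
      rw [Subgroup.mem_subgroupOf] at hy ⊢
      have hg := (hN g).mp g.2 i
      rw [Subgroup.mem_normalizer_iff] at hg
      have := (hg y).mp hy
      simpa using this
    have hPp : IsPGroup p ((Q i).subgroupOf N) := (hQp i).comap_subtype
    by_contra hcomm
    apply hne
    haveI := hnorm
    apply blockCoeff_eq_zero_of_not_mem_centralizer hM hE ((Q i).subgroupOf N) hPp
    intro hmem
    rw [Subgroup.mem_centralizer_iff] at hmem
    have h1 := hmem ⟨x, hxN⟩ (by
      rw [SetLike.mem_coe, Subgroup.mem_subgroupOf]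
      exact hxQ)
    apply hcomm
    exact congrArg Subtype.val h1
  have hind : ∀ k (hk : k < m + 1), (n : G) ∈ Subgroup.centralizer (Q ⟨k, hk⟩ : Set G) := by
    intro k
    induction k with
    | zero =>
      intro hk
      rw [Subgroup.mem_centralizer_iff]
      intro x hx
      have hxN : x ∈ N := by
        rw [hN]
        intro j
        have hle : Q ⟨0, hk⟩ ≤ Q j := hQ.monotone (by simp [Fin.le_def])
        exact Subgroup.le_normalizer (hle hx)
      exact hcent _ x hx hxN
    | succ k ih =>
      intro hk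
      have hk' : k < m + 1 := by omega
      have ihk := ih hk'
      have hle : Q ⟨k, hk'⟩ ≤ Q ⟨k + 1, hk⟩ := hQ.monotone (by simp [Fin.le_def])
      have hPle : (Q ⟨k + 1, hk⟩ ⊓ N) ⊔ Q ⟨k, hk'⟩ ≤ Q ⟨k + 1, hk⟩ := sup_le inf_le_left hle
      have hnP : (Q ⟨k + 1, hk⟩ ⊓ N) ⊔ Q ⟨k, hk'⟩ ≤
          Subgroup.centralizer ({(n : G)} : Set G) := by
        apply sup_le
        · rintro x ⟨hxQ, hxN⟩
          rw [Subgroup.mem_centralizer_iff]
          intro h hh
          rw [Set.mem_singleton_iff] at hh
          rw [hh]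
          exact (hcent _ x hxQ hxN).symm
        · intro x hx
          rw [Subgroup.mem_centralizer_iff]
          intro h hh
          rw [Set.mem_singleton_iff] at hh
          rw [hh]
          rw [Subgroup.mem_centralizer_iff] at ihk
          exact (ihk x hx).symm
      apply Cfsg.Agent.Helper7.thompson_AxB_element p (Q ⟨k + 1, hk⟩)
        ((Q ⟨k + 1, hk⟩ ⊓ N) ⊔ Q ⟨k, hk'⟩) (hQp _) ((hQp _).to_le hPle)
        (le_trans hPle Subgroup.le_normalizer) (n : G) ((hN n).mp n.2 _) hregG
      · rw [Subgroup.mem_centralizer_iff]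
        intro y hy
        have h1 := hnP hy
        rw [Subgroup.mem_centralizer_iff] at h1
        exact (h1 (n : G) (Set.mem_singleton _)).symm
      · rw [Subgroup.mem_centralizer_iff]
        rintro x ⟨hxQ, hxC⟩
        have hxN : x ∈ N := by
          rw [hN]
          intro j
          by_cases hj : (j : ℕ) ≤ k
          · have hji : Q j ≤ Q ⟨k, hk'⟩ := hQ.monotone (by
              rw [Fin.le_def]
              exact hj)
            have hxC' : x ∈ Subgroup.centralizer
                (((Q ⟨k + 1, hk⟩ ⊓ N) ⊔ Q ⟨k, hk'⟩ : Subgroup G) : Set G) := hxC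
            have hxc : x ∈ Subgroup.centralizer (Q j : Set G) := by
              rw [Subgroup.mem_centralizer_iff] at hxC' ⊢
              intro y hy
              exact hxC' y (le_sup_right (a := Q ⟨k + 1, hk⟩ ⊓ N) (hji hy))
            exact Subgroup.centralizer_le_normalizer (Q j : Set G) hxc
          · have hle' : Q ⟨k + 1, hk⟩ ≤ Q j := hQ.monotone (by
              rw [Fin.le_def]
              simp only
              omega)
            exact Subgroup.le_normalizer (hle' hxQ)
        exact hcent _ x hxQ hxN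
  exact hind m (by omega)

end Cfsg.Agent.S4668
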