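import Mathlib
import Cfsg.Statements.S4673
import Cfsg.Agent.S4671
import Cfsg.Agent.Lib.Helper18.BlockFong2
import Cfsg.Agent.Lib.Helper18.CyclicStab
import Cfsg.Agent.Lib.Helper5.GreenAux

set_option autoImplicit false
open Cfsg

namespace Cfsg.Agent.S4673

open Cfsg.Agent.Helper23.Blk Cfsg.Agent.Helper18 Cfsg.Agent.Helper5.KG

universe u

section Core

variable {G : Type u} [Group G] [Fintype G] {p : ℕ} [Fact p.Prime] {M : Ideal AlgInt}
  (hM : IsPModular p M) (N : Subgroup G) [hN : N.Normal] [Fintype N]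

open Cfsg.Agent.Helper24 in
open Classical in
/-- the induced central character as a sum over the classes of `N` in a class of `G` -/
theorem inducedCentralChar_eq_sum [Fintype (ConjClasses N)] (θ : IrrCharacter N) (a : N) :
    inducedCentralChar N (θ : N → ℂ) (a : G) =
      ∑ K ∈ Finset.univ.filter
        (fun K : ConjClasses N => IsConj (a : G) ((Quotient.out K : N) : G)),
        centralChar (θ : N → ℂ) (Quotient.out K) := by
  classical
  have hθcf : IsClassFunction N (θ : N → ℂ) := isClassFunction_of_isIrrCharacter θ.2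
  unfold inducedCentralChar
  rw [finsum_mem_def, finsum_eq_sum_of_fintype]
  have hcf : IsClassFunction N (fun y : N =>
      ({h : N | IsConj (a : G) (h : G)} : Set N).indicator
        (fun h : N => (θ : N → ℂ) h / (θ : N → ℂ) 1) y) := by
    intro y x
    have hiff : IsConj (a : G) ((x * y * x⁻¹ : N) : G) ↔ IsConj (a : G) (y : G) := by
      have hc' : IsConj ((x * y * x⁻¹ : N) : G) (y : G) := by
        rw [isConj_comm, isConj_iff]
        exact ⟨(x : G), by push_cast; rfl⟩
      constructor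
      · intro h1
        exact h1.trans hc'
      · intro h1
        exact h1.trans hc'.symm
    beta_reduce
    by_cases hy : IsConj (a : G) (y : G)
    · rw [Set.indicator_of_mem (show (x * y * x⁻¹ : N) ∈ {h : N | IsConj (a : G) (h : G)} from
        hiff.2 hy), Set.indicator_of_mem (show y ∈ {h : N | IsConj (a : G) (h : G)} from hy),
        hθcf y x]
    · rw [Set.indicator_of_notMem (show (x * y * x⁻¹ : N) ∉ {h : N | IsConj (a : G) (h : G)}
        from fun h1 => hy (hiff.1 h1)),
        Set.indicator_of_notMem (show y ∉ {h : N | IsConj (a : G) (h : G)} from hy)]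
  rw [sum_classFunction_eq hcf, Finset.sum_filter]
  apply Finset.sum_congr rfl
  intro K _
  by_cases hK : IsConj (a : G) ((Quotient.out K : N) : G)
  · rw [if_pos hK, Set.indicator_of_mem (show (Quotient.out K : N) ∈
      {h : N | IsConj (a : G) (h : G)} from hK)]
    unfold centralChar
    rw [mul_div_assoc]
  · rw [if_neg hK, Set.indicator_of_notMem (show (Quotient.out K : N) ∉
      {h : N | IsConj (a : G) (h : G)} from hK), mul_zero]

include hM in
/-- stabilizing a block means fixing it under the block action -/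
theorem smul_eq_of_stabilizes {c : Set (IrrCharacter N)} (hc : IsPBlock M c) {x : G}
    (hx : StabilizesBlock N c x) : (Cfsg.Agent.S4671.blockAction N).smul x c = c := by
  haveI hMax : M.IsMaximal := hM.2.1
  haveI hMp : M.IsPrime := hM.2.1.isPrime
  obtain ⟨θ, hθ⟩ := block_nonempty hM hc
  obtain ⟨θ', hθ', hconj⟩ := hx.2 θ hθ
  have h1 : conjIrr N x⁻¹ θ = θ' := by
    apply Subtype.ext
    funext n
    rw [conjIrr_coe, Cfsg.Agent.Helper5.conjFun_apply]
    refine (hconj ⟨x⁻¹ * n * x⁻¹⁻¹, hN.conj_mem (n : G) n.2 x⁻¹⟩ n ?_).symm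
    show (n : G) = x * (x⁻¹ * (n : G) * x⁻¹⁻¹) * x⁻¹
    group
  apply isPBlock_eq_of_mem (Cfsg.Agent.S4671.isPBlock_smul N hc x) hc (χ := θ')
  · rw [Cfsg.Agent.S4671.smul_eq, ← h1]
    exact ⟨θ, hθ, rfl⟩
  · exact hθ'

open Cfsg.Agent.Helper24 in
include hM in
/-- over a normal subgroup of `p`-power index containing a defect group, the stabilizer of a
covered block is the normal subgroup -/
theorem mem_of_stabilizes (hidx : ∃ k : ℕ, N.index = p ^ k) {B : Set (IrrCharacter G)}
    (hB : IsPBlock M B) {c : Set (IrrCharacter N)} (hc : IsPBlock M c)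
    (hcov : ∃ χ ∈ B, ∃ θ ∈ c, classInner (fun n : N => (χ : G → ℂ) n) (θ : N → ℂ) ≠ 0)
    {D : Subgroup G} (hD : IsDefectGroup p M B D) (hDN : D ≤ N) {x : G}
    (hx : StabilizesBlock N c x) : x ∈ N := by
  classical
  haveI hMax : M.IsMaximal := hM.2.1
  haveI hMp : M.IsPrime := hM.2.1.isPrime
  have hp : p.Prime := hM.1
  letI : Fintype (IrrCharacter G) := irrFintype
  letI : Fintype (IrrCharacter N) := irrFintype
  obtain ⟨χ, hχB, θ, hθc, hcon⟩ := hcov
  obtain ⟨g₀, hg₀, S, rfl⟩ := hD
  -- `g₀` is `p`-regular, hence in `N`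
  have hreg : ¬ p ∣ orderOf g₀ := by
    intro h
    apply hg₀.2.1
    rw [blockCoeff_eq_zero_of_pSingular hM hB h]
    exact memLocalIdeal_zero ne_top
  have hg₀N : g₀ ∈ N := by
    by_contra hnot
    exact hreg (Cfsg.Agent.Helper18.dvd_orderOf_of_not_mem (N := N) hp hidx hnot)
  -- the centralizer of `g₀` lies in `N`
  have hCN : Subgroup.centralizer ({g₀} : Set G) ≤ N := by
    have h1 : (N.subgroupOf (Subgroup.centralizer ({g₀} : Set G))).index ∣ N.index :=
      Subgroup.relIndex_dvd_index_of_normal N _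
    have h2 : (N.subgroupOf (Subgroup.centralizer ({g₀} : Set G))).index ∣
        (S : Subgroup (Subgroup.centralizer ({g₀} : Set G))).index := by
      apply Subgroup.index_dvd_of_le
      intro s hs
      rw [Subgroup.mem_subgroupOf]
      exact hDN ⟨s, hs, rfl⟩
    have h3 : ¬ p ∣ (S : Subgroup (Subgroup.centralizer ({g₀} : Set G))).index :=
      S.not_dvd_index
    obtain ⟨k, hk⟩ := hidx
    rw [hk] at h1
    obtain ⟨i, -, hi⟩ := (Nat.dvd_prime_pow hp).mp h1
    have hi0 : i = 0 := by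
      by_contra h0
      apply h3
      refine dvd_trans ?_ h2
      rw [hi]
      exact dvd_pow_self p h0
    rw [hi0, pow_zero] at hi
    have h4 : N.subgroupOf (Subgroup.centralizer ({g₀} : Set G)) = ⊤ :=
      Subgroup.index_eq_one.mp hi
    intro z hz
    have h5 : (⟨z, hz⟩ : Subgroup.centralizer ({g₀} : Set G)) ∈
        N.subgroupOf (Subgroup.centralizer ({g₀} : Set G)) := by
      rw [h4]
      exact Subgroup.mem_top _
    exact Subgroup.mem_subgroupOf.mp h5
  by_contra hxN
  letI bact : MulAction G (Set (IrrCharacter N)) := Cfsg.Agent.S4671.blockAction N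
  have hxst : x ∈ MulAction.stabilizer G c := by
    rw [MulAction.mem_stabilizer_iff]
    exact smul_eq_of_stabilizes hM N hc hx
  -- a `p`-element outside `N` in the stabilizer
  obtain ⟨a₀, m, hm, hGm⟩ :=
    Nat.exists_eq_pow_mul_and_not_dvd (Nat.card_pos (α := G)).ne' p hp.ne_one
  obtain ⟨y, hy⟩ : ∃ y : G, y = x ^ m := ⟨_, rfl⟩
  have hyst : y ∈ MulAction.stabilizer G c := by
    rw [hy]
    exact Subgroup.pow_mem _ hxst m
  have hypow : y ^ (p ^ a₀) = 1 := by
    rw [hy, ← pow_mul, mul_comm, ← hGm, pow_card_eq_one']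
  have hyN : y ∉ N := by
    intro h
    apply hxN
    obtain ⟨k, hk⟩ := hidx
    have h1 : x ^ (p ^ k) ∈ N := by
      rw [← hk]
      exact Subgroup.pow_index_mem N x
    have h2 : x ^ m ∈ N := by
      rw [← hy]
      exact h
    have h3 := pow_gcd_mem N x _ _ h1 h2
    have hcop : Nat.Coprime (p ^ k) m :=
      Nat.Coprime.pow_left k ((Nat.Prime.coprime_iff_not_dvd hp).2 hm)
    rwa [hcop, pow_one] at h3
  obtain ⟨Q, hQ⟩ : ∃ Q : Subgroup G, Q = Subgroup.zpowers y := ⟨_, rfl⟩
  have hQp : IsPGroup p Q := by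
    rintro ⟨z, hz⟩
    rw [hQ, Subgroup.mem_zpowers_iff] at hz
    obtain ⟨j, rfl⟩ := hz
    refine ⟨a₀, ?_⟩
    apply Subtype.ext
    show (y ^ j) ^ (p ^ a₀) = 1
    rw [← zpow_natCast, ← zpow_mul, mul_comm, zpow_mul, zpow_natCast, hypow, one_zpow]
  have hQst : ∀ q ∈ Q, q ∈ MulAction.stabilizer G c := by
    intro q hq
    rw [hQ] at hq
    exact (Subgroup.zpowers_le.2 hyst) hq
  -- the action on classes
  letI cact : MulAction G (ConjClasses N) := conjClassesAction N
  obtain ⟨a, ha⟩ : ∃ a : N, a = ⟨g₀, hg₀N⟩ := ⟨_, rfl⟩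
  haveI : Fintype (ConjClasses N) := Fintype.ofFinite _
  haveI : Fintype (MulAction.orbit G (ConjClasses.mk a)) := Fintype.ofFinite _
  obtain ⟨W, hW⟩ : ∃ W : ConjClasses N → ℂ,
      ∀ K, W K = centralChar (θ : N → ℂ) (Quotient.out K) := ⟨_, fun _ => rfl⟩
  have hθcf : IsClassFunction N (θ : N → ℂ) := isClassFunction_of_isIrrCharacter θ.2
  have hWmk : ∀ n : N, W (ConjClasses.mk n) = centralChar (θ : N → ℂ) n := by
    intro n
    rw [hW]
    have h1 : ConjClasses.mk (Quotient.out (ConjClasses.mk n)) = ConjClasses.mk n :=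
      Quotient.out_eq _
    rw [ConjClasses.mk_eq_mk_iff_isConj, isConj_iff] at h1
    obtain ⟨z, hz⟩ := h1
    have h2 : centralChar (θ : N → ℂ) n =
        centralChar (θ : N → ℂ) (z * Quotient.out (ConjClasses.mk n) * z⁻¹) := by rw [hz]
    rw [h2, centralChar_conj hθcf]
  have hWR : ∀ K, MemLocalRing M (W K) := by
    intro K
    rw [hW]
    exact memLocalRing_centralChar θ _
  have hWsmul : ∀ (g : G) (K : ConjClasses N), g ∈ MulAction.stabilizer G c →
      MemLocalIdeal M (W (g • K) - W K) := by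
    intro g K hg
    obtain ⟨n, rfl⟩ := ConjClasses.exists_rep K
    have h1 : g • (ConjClasses.mk n) =
        ConjClasses.mk ⟨g * n * g⁻¹, hN.conj_mem (n : G) n.2 g⟩ := rfl
    rw [h1, hWmk, hWmk, ← centralChar_conjFun N g (θ : N → ℂ) n]
    have hmem : conjIrr N g θ ∈ c := by
      have h2 : g⁻¹ ∈ MulAction.stabilizer G c := Subgroup.inv_mem _ hg
      rw [MulAction.mem_stabilizer_iff] at h2
      rw [← h2]
      show conjIrr N g θ ∈ conjIrr N g⁻¹⁻¹ '' c
      rw [inv_inv]
      exact ⟨θ, hθc, rfl⟩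
    have hsame : SameBlock M ((conjIrr N g θ : IrrCharacter N) : N → ℂ) (θ : N → ℂ) := by
      obtain ⟨θ₀, rfl⟩ := hc
      exact sameBlock_trans (sameBlock_symm hmem) hθc
    exact hsame n
  have hp0 : ((p : ℕ) : AlgInt ⧸ M) = 0 := by
    have h1 : Ideal.Quotient.mk M ((p : ℕ) : AlgInt) = 0 :=
      Ideal.Quotient.eq_zero_iff_mem.2 hM.2.2
    rwa [map_natCast] at h1
  have hsum0 : ∑ K : MulAction.orbit G (ConjClasses.mk a), red M (W K.1) = 0 := by
    apply Cfsg.Agent.Helper5.Green.sum_eq_zero_of_invariant hp0 hQp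
      (fun K : MulAction.orbit G (ConjClasses.mk a) => red M (W K.1))
    · intro q K
      show red M (W ((q : G) • K.1)) = red M (W K.1)
      exact red_eq_of_sub_mem (hWR _) (hWR _) (hWsmul q K.1 (hQst q q.2))
    · intro K hK
      exfalso
      obtain ⟨g, hg⟩ := K.2
      have hyQ : y ∈ Q := by
        rw [hQ]
        exact Subgroup.mem_zpowers y
      have h1 : y • K.1 = K.1 := congrArg Subtype.val (hK ⟨y, hyQ⟩)
      have hg' : g • (ConjClasses.mk a) = K.1 := hg
      have h2 : (g⁻¹ * y * g) • (ConjClasses.mk a) = ConjClasses.mk a := by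
        rw [mul_smul, mul_smul, hg', h1, ← hg', inv_smul_smul]
      have h3 : g⁻¹ * y * g ∈ fongStab N a := by
        unfold fongStab
        rw [MulAction.mem_stabilizer_iff]
        exact h2
      rw [fongStab_eq_sup] at h3
      have h4 : N ⊔ Subgroup.centralizer ({(a : G)} : Set G) = N := by
        rw [sup_eq_left, ha]
        exact hCN
      rw [h4] at h3
      apply hyN
      have h5 := hN.conj_mem _ h3 g
      have e : g * (g⁻¹ * y * g) * g⁻¹ = y := by group
      rwa [e] at h5
  have hind : MemLocalIdeal M (inducedCentralChar N (θ : N → ℂ) (a : G)) := by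
    rw [inducedCentralChar_eq_sum N θ a]
    have h1 : ∑ K ∈ Finset.univ.filter
          (fun K : ConjClasses N => IsConj (a : G) ((Quotient.out K : N) : G)),
          centralChar (θ : N → ℂ) (Quotient.out K) =
        ∑ K : MulAction.orbit G (ConjClasses.mk a), W K.1 := by
      rw [Finset.sum_subtype (p := fun K => K ∈ MulAction.orbit G (ConjClasses.mk a))]
      · apply Finset.sum_congr rfl
        intro K _
        rw [hW]
      · intro K
        rw [Finset.mem_filter]
        have h2 := mem_fongOrbit_iff N a K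
        unfold fongOrbit at h2
        rw [← h2]
        simp
    rw [h1, ← red_eq_zero_iff (memLocalRing_sum _ _ fun K _ => hWR _),
      red_sum _ _ (fun K _ => hWR _)]
    exact hsum0
  have hpass := passman_of_cover N hMp hB hc hχB hθc hcon χ hχB θ hθc a
  apply hg₀.2.2 χ hχB
  have h1 := memLocalIdeal_add hpass hind
  rw [sub_add_cancel, ha] at h1
  exact h1

end Core

section Intermediate

open Cfsg.Agent.Helper24 in
/-- an irreducible constituent of the restriction to a subgroup of a subgroup lies under an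
irreducible constituent of the restriction to the intermediate subgroup -/
theorem exists_intermediate {G : Type u} [Group G] (L : Subgroup G) [Fintype L]
    (N' : Subgroup L) [Fintype N'] {χ : G → ℂ} (hχ : IsCharacter G χ) (θ' : N' → ℂ)
    (h : classInner (fun n : N' => χ ((n : L) : G)) θ' ≠ 0) :
    ∃ ψ : IrrCharacter L, classInner (fun l : L => χ l) (ψ : L → ℂ) ≠ 0 ∧
      classInner (fun n : N' => (ψ : L → ℂ) n) θ' ≠ 0 := by
  classical
  letI : Fintype (IrrCharacter L) := irrFintype
  have hφ : IsCharacter L (fun l : L => χ l) := isCharacter_restrict L hχ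
  obtain ⟨-, hdec⟩ := isCharacter_decomp hφ
  by_contra hno
  push Not at hno
  apply h
  have h1 : (fun n : N' => χ ((n : L) : G)) =
      ∑ ψ : IrrCharacter L, classInner (fun l : L => χ l) (ψ : L → ℂ) •
        (fun n : N' => (ψ : L → ℂ) n) := by
    funext n
    have h2 := congrFun hdec (n : L)
    rw [Finset.sum_apply] at h2 ⊢
    exact h2
  rw [h1, classInner_sum_left]
  apply Finset.sum_eq_zero
  intro ψ _
  rw [classInner_smul_left]
  by_cases h0 : classInner (fun l : L => χ l) (ψ : L → ℂ) = 0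
  · rw [h0, zero_mul]
  · rw [hno ψ h0, mul_zero]

end Intermediate

open Cfsg.Agent.Helper24 in
/-- Fix a prime p and a maximal ideal M of the algebraic integers containing p. Let N ≤ L be normal subgroups of the finite group G with L/N a p-group, let B be a p-block of G covering the p-block c of N (some member of B has a constituent in c on restriction to N), and suppose that N contains a defect group of B. Then the stabilizer T of c in G satisfies T ∩ L = N. -/
theorem result {G : Type*} [Group G] [Fintype G] (p : ℕ) [Fact p.Prime] (M : Ideal Cfsg.AlgInt) (hM : Cfsg.IsPModular p M) (N L : Subgroup G) [N.Normal] [L.Normal] [Fintype N] (hNL : N ≤ L) (hLN : ∃ k : ℕ, (N.subgroupOf L).index = p ^ k) (B : Set (Cfsg.IrrCharacter G)) (hB : Cfsg.IsPBlock M B) (c : Set (Cfsg.IrrCharacter N)) (hc : Cfsg.IsPBlock M c) (hcov : (∃ χ ∈ B, ∃ θ ∈ c, Cfsg.classInner (fun n : N => (χ : G → ℂ) n) (θ : N → ℂ) ≠ 0)) (hD : ∃ D : Subgroup G, Cfsg.IsDefectGroup p M B D ∧ D ≤ N) (T : Subgroup G) (hT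 : ∀ x : G, x ∈ T ↔ Cfsg.StabilizesBlock N c x) : T ⊓ L = N := by
  classical
  haveI hMax : M.IsMaximal := hM.2.1
  haveI hMp : M.IsPrime := hM.2.1.isPrime
  have hN : N.Normal := inferInstance
  apply le_antisymm
  · rintro x ⟨hxT, hxL⟩
    have hxst := (hT x).1 hxT
    haveI : Fintype L := Fintype.ofFinite L
    haveI : Fintype (N.subgroupOf L) := Fintype.ofFinite _
    obtain ⟨e, he⟩ : ∃ e : N.subgroupOf L ≃* N, ∀ n, ((e n : N) : G) = ((n : L) : G) :=
      ⟨Subgroup.subgroupOfEquivOfLe hNL, fun _ => rfl⟩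
    obtain ⟨χ, hχB, θ, hθc, hcon⟩ := hcov
    obtain ⟨D, hD, hDN⟩ := hD
    have hcon' : classInner (fun n : N.subgroupOf L => (χ : G → ℂ) ((n : L) : G))
        ((θ : N → ℂ) ∘ e) ≠ 0 := by
      have h1 := Cfsg.Agent.Helper5.classInner_comp_equiv e
        (fun n : N => (χ : G → ℂ) n) (θ : N → ℂ)
      rw [← h1] at hcon
      have h2 : (fun n : N => (χ : G → ℂ) n) ∘ e =
          fun n : N.subgroupOf L => (χ : G → ℂ) ((n : L) : G) := by
        funext n
        show (χ : G → ℂ) ((e n : N) : G) = _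
        rw [he]
      rwa [h2] at hcon
    obtain ⟨ψ, hψ1, hψ2⟩ := exists_intermediate L (N.subgroupOf L)
      (isCharacter_of_isIrrCharacter χ.2) _ hcon'
    obtain ⟨bL, hbL⟩ : ∃ bL, bL = blockOf M (ψ : L → ℂ) := ⟨_, rfl⟩
    have hbLb : IsPBlock M bL := ⟨ψ, hbL⟩
    have hψb : ψ ∈ bL := by
      rw [hbL]
      exact mem_blockOf_self ψ
    obtain ⟨DL, hDL⟩ := exists_isDefectGroup hM hbLb
    have hQmap : (DL.map L.subtype).subgroupOf L = DL :=
      Subgroup.comap_map_eq_self_of_injective (Subgroup.subtype_injective L) DL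
    have hQL : DL.map L.subtype ≤ L := by
      rintro _ ⟨q, -, rfl⟩
      exact q.2
    have hlow : SubConj (DL.map L.subtype) D := by
      apply Cfsg.Agent.S4438.lower hM L hbLb hQL _ hB ⟨χ, hχB, ψ, hψb, hψ1⟩ hD
      rw [hQmap]
      exact hDL
    obtain ⟨c₁, hc₁⟩ := hlow
    have hDLN : DL ≤ N.subgroupOf L := by
      intro q hq
      rw [Subgroup.mem_subgroupOf]
      have h1 : c₁ * (q : G) * c₁⁻¹ ∈ N := hDN (hc₁ _ ⟨q, hq, rfl⟩)
      have h2 := hN.conj_mem _ h1 c₁⁻¹
      have e1 : c₁⁻¹ * (c₁ * (q : G) * c₁⁻¹) * c₁⁻¹⁻¹ = (q : G) := by group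
      rwa [e1] at h2
    have hc' : IsPBlock M (irrComp e '' c) := isPBlock_image_irrComp e hc
    have hcov' : ∃ ψ' ∈ bL, ∃ θ' ∈ irrComp e '' c,
        classInner (fun n : N.subgroupOf L => (ψ' : L → ℂ) n)
          (θ' : N.subgroupOf L → ℂ) ≠ 0 :=
      ⟨ψ, hψb, irrComp e θ, ⟨θ, hθc, rfl⟩, hψ2⟩
    have hst' : StabilizesBlock (N.subgroupOf L) (irrComp e '' c) (⟨x, hxL⟩ : L) := by
      refine ⟨?_, ?_⟩
      · rw [Subgroup.normalizer_eq_top]
        exact Subgroup.mem_top _
      · rintro _ ⟨θ₁, hθ₁, rfl⟩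
        obtain ⟨θ₂, hθ₂, hconj⟩ := hxst.2 θ₁ hθ₁
        refine ⟨irrComp e θ₂, ⟨θ₂, hθ₂, rfl⟩, ?_⟩
        intro k k' hk
        show (θ₂ : N → ℂ) (e k') = (θ₁ : N → ℂ) (e k)
        apply hconj
        rw [he, he, hk]
        rfl
    have hmem := mem_of_stabilizes hM (N.subgroupOf L) hLN hbLb hc' hcov' hDL hDLN hst'
    exact Subgroup.mem_subgroupOf.mp hmem
  · intro n hn
    refine ⟨(hT n).2 ⟨?_, ?_⟩, hNL hn⟩
    · rw [Subgroup.normalizer_eq_top]
      exact Subgroup.mem_top _
    · intro θ hθ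
      refine ⟨θ, hθ, ?_⟩
      intro k k' hk
      have hθcf : IsClassFunction N (θ : N → ℂ) := isClassFunction_of_isIrrCharacter θ.2
      have h1 : k' = (⟨n, hn⟩ : N) * k * (⟨n, hn⟩ : N)⁻¹ := Subtype.ext hk
      rw [h1]
      exact hθcf k ⟨n, hn⟩

end Cfsg.Agent.S4673
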