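import Mathlib
import Cfsg.Statements.S4674
import Cfsg.Agent.Lib.Helper5.HKMain

set_option autoImplicit false
open Cfsg

namespace Cfsg.Agent.S4674

open Cfsg.Agent.Helper23.Blk Cfsg.Agent.Helper24 Cfsg.Agent.Helper18 Cfsg.Agent.Helper5.HK

universe u

section Main

variable {G : Type u} [Group G] [Fintype G] {p : ℕ} [Fact p.Prime] {M : Ideal AlgInt}
  (hM : IsPModular p M) (N : Subgroup G) [hN : N.Normal] [Fintype N] (Q : Subgroup G)

local notation "NQ" => Subgroup.normalizer (Q : Set G)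

include hM in
/-- part A: a block of `N_G(Q)` covering `e` induces a block of `G` covering `d` -/
theorem partA (hQN : Q ≤ N) [Fintype ↥(NQ ⊓ N)]
    {e : Set (IrrCharacter ↥(NQ ⊓ N))} (he : IsPBlock M e)
    (heQ : IsDefectGroup p M e (Q.subgroupOf (NQ ⊓ N)))
    {d : Set (IrrCharacter N)} (hed : IsInducedBlockIn M N (NQ ⊓ N) e d)
    {c : Set (IrrCharacter ↥NQ)} (hc : IsPBlock M c)
    (hcov : ∃ ψ ∈ c, ∃ ξ ∈ e,
      classInner (fun l : ↥(NQ ⊓ N) => (ψ : ↥NQ → ℂ) (Subgroup.inclusion inf_le_left l))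
        (ξ : ↥(NQ ⊓ N) → ℂ) ≠ 0) :
    ∃ B : Set (IrrCharacter G), IsInducedBlock M NQ c B ∧
      ∃ χ ∈ B, ∃ θ ∈ d, classInner (fun n : N => (χ : G → ℂ) n) (θ : N → ℂ) ≠ 0 := by
  classical
  haveI hMp : M.IsPrime := hM.2.1.isPrime
  obtain ⟨P, hPH, hDc, hPinf⟩ := knorr_rel hM N NQ Q Subgroup.le_normalizer hQN he heQ hc hcov
  have hNP : Subgroup.normalizer (P : Set G) ≤ NQ := normalizer_le_of_inf_eq N P Q hPinf
  have hmapP : (P.subgroupOf NQ).map (NQ).subtype = P := Subgroup.map_subgroupOf_eq_of_le hPH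
  obtain ⟨⟨B, hB⟩, -⟩ := Cfsg.Agent.S4726.result p M hM NQ c hc _ hDc (by
    rw [hmapP]
    exact le_trans (Subgroup.centralizer_le_normalizer _) hNP)
  haveI := inf_subgroupOf_normal N NQ
  exact ⟨B, hB, cover_of_induced hMp N NQ hB hed hcov⟩

include hM in
/-- part B, the covering: a block of `N_G(Q)` inducing a block covering `d` covers `e` -/
theorem cover_of_induces (hQ : IsPGroup p Q) (hQN : Q ≤ N) [Fintype ↥(NQ ⊓ N)]
    {d : Set (IrrCharacter N)} (hd : IsPBlock M d) (hdQ : IsDefectGroup p M d (Q.subgroupOf N))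
    {e : Set (IrrCharacter ↥(NQ ⊓ N))} (he : IsPBlock M e)
    (heQ : IsDefectGroup p M e (Q.subgroupOf (NQ ⊓ N)))
    (hed : IsInducedBlockIn M N (NQ ⊓ N) e d)
    {c : Set (IrrCharacter ↥NQ)} {B : Set (IrrCharacter G)} (hind : IsInducedBlock M NQ c B)
    (hcovB : ∃ χ ∈ B, ∃ θ ∈ d, classInner (fun n : N => (χ : G → ℂ) n) (θ : N → ℂ) ≠ 0) :
    ∃ ψ ∈ c, ∃ ξ ∈ e,
      classInner (fun l : ↥(NQ ⊓ N) => (ψ : ↥NQ → ℂ) (Subgroup.inclusion inf_le_left l))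
        (ξ : ↥(NQ ⊓ N) → ℂ) ≠ 0 := by
  classical
  haveI hMax : M.IsMaximal := hM.2.1
  haveI hMp : M.IsPrime := hM.2.1.isPrime
  haveI : Fintype ↥NQ := Fintype.ofFinite _
  letI : Fintype (IrrCharacter G) := irrFintype
  letI : Fintype (IrrCharacter N) := irrFintype
  haveI := inf_subgroupOf_normal N NQ
  have hc : IsPBlock M c := hind.1
  have hB : IsPBlock M B := hind.2.1
  have hQNQ : Q ≤ NQ := Subgroup.le_normalizer
  -- (a) a block `e₁` covered by `c`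
  obtain ⟨ψ, hψ⟩ := exists_mem_of_isPBlock hc
  have hψL : IsCharacter ↥(NQ ⊓ N)
      (fun l : ↥(NQ ⊓ N) => (ψ : ↥NQ → ℂ) (Subgroup.inclusion inf_le_left l)) :=
    isCharacter_comp (Subgroup.inclusion (inf_le_left : NQ ⊓ N ≤ NQ))
      (isCharacter_of_isIrrCharacter ψ.2)
  have hψL0 : (fun l : ↥(NQ ⊓ N) => (ψ : ↥NQ → ℂ) (Subgroup.inclusion inf_le_left l)) ≠ 0 := by
    intro h0
    have h1 := congrFun h0 1
    rw [map_one] at h1
    exact irr_one_ne_zero ψ.2 h1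
  obtain ⟨ξ₁f, hξ₁f, hcon₁⟩ := Cfsg.Agent.Helper5.exists_constituent hψL hψL0
  obtain ⟨ξ₁, hξ₁⟩ : ∃ ξ₁ : IrrCharacter ↥(NQ ⊓ N), ξ₁ = ⟨ξ₁f, hξ₁f⟩ := ⟨_, rfl⟩
  obtain ⟨e₁, he₁def⟩ : ∃ e₁, e₁ = blockOf M (ξ₁ : ↥(NQ ⊓ N) → ℂ) := ⟨_, rfl⟩
  have he₁ : IsPBlock M e₁ := ⟨ξ₁, he₁def⟩
  have hξ₁e₁ : ξ₁ ∈ e₁ := by
    rw [he₁def]
    exact mem_blockOf_self ξ₁
  have hcov₁ : ∃ ψ ∈ c, ∃ ξ ∈ e₁,
      classInner (fun l : ↥(NQ ⊓ N) => (ψ : ↥NQ → ℂ) (Subgroup.inclusion inf_le_left l))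
        (ξ : ↥(NQ ⊓ N) → ℂ) ≠ 0 := by
    refine ⟨ψ, hψ, ξ₁, hξ₁e₁, ?_⟩
    rw [hξ₁]
    exact hcon₁
  -- (b) `Q` lies in the defect groups of `e₁`
  obtain ⟨D₁, hD₁⟩ := exists_isDefectGroup hM he₁
  haveI hQLn : (Q.subgroupOf (NQ ⊓ N)).Normal :=
    Subgroup.normal_subgroupOf_of_le_normalizer inf_le_left
  have hQLp : IsPGroup p (Q.subgroupOf (NQ ⊓ N)) := hQ.comap_subtype
  have hQD : Q.subgroupOf (NQ ⊓ N) ≤ D₁ := by
    obtain ⟨g₁, hg₁, S₁, hS⟩ := hD₁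
    rw [hS]
    exact normal_pgroup_le_defectGroup hM he₁ _ hQLp hg₁ S₁
  have hQD' : Q ≤ D₁.map (NQ ⊓ N).subtype := by
    intro q hq
    exact ⟨⟨q, ⟨hQNQ hq, hQN hq⟩⟩, hQD (Subgroup.mem_subgroupOf.2 hq), rfl⟩
  -- (c) `e₁` induces a block `d₁` of `N`
  obtain ⟨d₁, hed₁, D, hD, hDle⟩ := induced_rel_defined hM N (NQ ⊓ N) inf_le_right he₁ hD₁ (by
    intro z hzN hz
    refine ⟨?_, hzN⟩
    apply Subgroup.centralizer_le_normalizer
    rw [Subgroup.mem_centralizer_iff]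
    intro q hq
    exact (hz q (hQD' hq)).symm)
  have hd₁ : IsPBlock M d₁ := hed₁.2.1
  -- (d) `B` covers `d₁`
  obtain ⟨χ₁, hχ₁, θ₁, hθ₁, hcon₁'⟩ := cover_of_induced hMp N NQ hind hed₁ hcov₁
  -- (e) `d₁` is a conjugate of `d`
  obtain ⟨χ, hχ, θ, hθ, hcon⟩ := hcovB
  have hsame : SameBlock M (χ : G → ℂ) (χ₁ : G → ℂ) := by
    obtain ⟨χ₀, rfl⟩ := hB
    exact sameBlock_trans (sameBlock_symm hχ) hχ₁
  obtain ⟨g, θ', hθ', hθ₁eq⟩ := cover_orbit N hMp hd hsame hθ hcon hcon₁'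
  obtain ⟨γ, hγ⟩ : ∃ γ : N ≃* N, γ = (MulAut.conjNormal g : MulAut N) := ⟨_, rfl⟩
  have hγc : ∀ x : N, ((γ x : N) : G) = g * (x : G) * g⁻¹ := by
    intro x
    rw [hγ]
    exact MulAut.conjNormal_apply g x
  have hd₁eq : d₁ = irrComp γ '' d := by
    have h1 : blockOf M (θ₁ : N → ℂ) = d₁ := by
      obtain ⟨θ₀, rfl⟩ := hd₁
      exact blockOf_eq_of_mem hθ₁
    have h2 : blockOf M (θ' : N → ℂ) = d := by
      obtain ⟨θ₀, rfl⟩ := hd
      exact blockOf_eq_of_mem hθ'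
    rw [← h1, hθ₁eq, Cfsg.Agent.S4438.conjIrr_eq_irrComp, ← hγ, ← image_irrComp_blockOf, h2]
  -- (f) the defect groups
  have hDγ : IsDefectGroup p M d₁ ((Q.subgroupOf N).map γ.symm.toMonoidHom) := by
    rw [hd₁eq]
    exact isDefectGroup_image_irrComp hM γ hd hdQ
  have hcardD : Nat.card D = Nat.card (Q.subgroupOf N) := by
    rw [card_defectGroup hM hd₁ hD, ← card_defectGroup hM hd₁ hDγ,
      Subgroup.card_map_of_injective γ.symm.injective]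
  have hQND : Q.subgroupOf N ≤ D := by
    intro y hy
    apply hDle
    rw [Subgroup.mem_subgroupOf] at hy ⊢
    exact hQD' hy
  have hDeq : Q.subgroupOf N = D := Subgroup.eq_of_le_of_card_ge hQND (le_of_eq hcardD)
  have hd₁Q : IsDefectGroup p M d₁ (Q.subgroupOf N) := by
    rw [hDeq]
    exact hD
  have hD₁N : D₁.map (NQ ⊓ N).subtype ≤ N := by
    rintro _ ⟨y, -, rfl⟩
    exact y.2.2
  have hQL : Q ≤ NQ ⊓ N := le_inf hQNQ hQN
  have hcardD₁ : Nat.card D₁ ≤ Nat.card (Q.subgroupOf (NQ ⊓ N)) := by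
    calc Nat.card D₁ = Nat.card (D₁.map (NQ ⊓ N).subtype) :=
          (Subgroup.card_map_of_injective (Subgroup.subtype_injective _)).symm
      _ = Nat.card ((D₁.map (NQ ⊓ N).subtype).subgroupOf N) :=
          (Nat.card_congr (Subgroup.subgroupOfEquivOfLe hD₁N).toEquiv).symm
      _ ≤ Nat.card D := Subgroup.card_le_of_le hDle
      _ = Nat.card (Q.subgroupOf N) := hcardD
      _ = Nat.card Q := Nat.card_congr (Subgroup.subgroupOfEquivOfLe hQN).toEquiv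
      _ = Nat.card (Q.subgroupOf (NQ ⊓ N)) :=
          (Nat.card_congr (Subgroup.subgroupOfEquivOfLe hQL).toEquiv).symm
  have hD₁eq : Q.subgroupOf (NQ ⊓ N) = D₁ := Subgroup.eq_of_le_of_card_ge hQD hcardD₁
  have he₁Q : IsDefectGroup p M e₁ (Q.subgroupOf (NQ ⊓ N)) := by
    rw [hD₁eq]
    exact hD₁
  -- (g) adjusting the conjugating element into `N_G(Q)`
  obtain ⟨n, hn⟩ := isDefectGroup_conj_of hM hd₁ hd₁Q hDγ
  obtain ⟨h', hh'⟩ : ∃ h' : G, h' = g * (n : G)⁻¹ := ⟨_, rfl⟩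
  have hmemQ : ∀ y : G, y ∈ Q ↔ h' * y * h'⁻¹ ∈ Q := by
    intro y
    constructor
    · intro hy
      have h1 : (⟨y, hQN hy⟩ : N) ∈ Q.subgroupOf N := Subgroup.mem_subgroupOf.2 hy
      rw [← hn] at h1
      obtain ⟨x, ⟨w, hw, hwx⟩, hxy⟩ := h1
      have h2 : γ x = w := by
        rw [← hwx]
        exact γ.apply_symm_apply w
      have h3 : ((γ x : N) : G) ∈ Q := by
        rw [h2]
        exact Subgroup.mem_subgroupOf.1 hw
      rw [hγc] at h3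
      have h4 : (n : G) * (x : G) * (n : G)⁻¹ = y := congrArg Subtype.val hxy
      have h5 : h' * y * h'⁻¹ = g * (x : G) * g⁻¹ := by
        rw [hh', ← h4]
        group
      rw [h5]
      exact h3
    · intro hy
      have hwN : h' * y * h'⁻¹ ∈ N := hQN hy
      have hyN : y ∈ N := by
        have h1 := hN.conj_mem _ hwN h'⁻¹
        have e1 : h'⁻¹ * (h' * y * h'⁻¹) * h'⁻¹⁻¹ = y := by group
        rwa [e1] at h1
      obtain ⟨x, hx⟩ : ∃ x : N, x = n⁻¹ * ⟨y, hyN⟩ * n := ⟨_, rfl⟩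
      have hxG : (x : G) = (n : G)⁻¹ * y * (n : G) := by
        rw [hx]
        rfl
      have h2 : ((γ x : N) : G) = h' * y * h'⁻¹ := by
        rw [hγc, hxG, hh']
        group
      have h3 : γ x ∈ Q.subgroupOf N := by
        rw [Subgroup.mem_subgroupOf, h2]
        exact hy
      have h4 : x ∈ (Q.subgroupOf N).map γ.symm.toMonoidHom :=
        ⟨γ x, h3, γ.symm_apply_apply x⟩
      have h5 : (MulAut.conj n) x ∈ ((Q.subgroupOf N).map γ.symm.toMonoidHom).map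
          (MulAut.conj n).toMonoidHom := ⟨x, h4, rfl⟩
      rw [hn, Subgroup.mem_subgroupOf, MulAut.conj_apply] at h5
      have h6 : ((n * x * n⁻¹ : N) : G) = y := by
        rw [hx]
        show (n : G) * ((n : G)⁻¹ * y * (n : G)) * (n : G)⁻¹ = y
        group
      rw [h6] at h5
      exact h5
  have hh'NQ : h' ∈ NQ := by
    rw [Subgroup.mem_normalizer_iff]
    exact hmemQ
  -- (h) `d₁` is the conjugate of `d` by `h'`
  obtain ⟨γ', hγ'⟩ : ∃ γ' : N ≃* N, γ' = (MulAut.conjNormal h' : MulAut N) := ⟨_, rfl⟩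
  have hγ'c : ∀ x : N, ((γ' x : N) : G) = h' * (x : G) * h'⁻¹ := by
    intro x
    rw [hγ']
    exact MulAut.conjNormal_apply h' x
  have hirr : ∀ ϑ : IrrCharacter N, irrComp γ' ϑ = irrComp γ ϑ := by
    intro ϑ
    apply Subtype.ext
    funext x
    have hcf : IsClassFunction N ((irrComp γ ϑ : IrrCharacter N) : N → ℂ) :=
      isClassFunction_of_isIrrCharacter (irrComp γ ϑ).2
    have h1 := hcf x n⁻¹
    rw [irrComp_apply, ← h1, irrComp_apply]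
    have e1 : γ' x = γ (n⁻¹ * x * n⁻¹⁻¹) := by
      apply Subtype.ext
      rw [hγ'c, hγc, hh']
      show g * (n : G)⁻¹ * (x : G) * (g * (n : G)⁻¹)⁻¹ =
        g * ((n : G)⁻¹ * (x : G) * (n : G)⁻¹⁻¹) * g⁻¹
      group
    rw [e1]
  have hd₁eq' : d₁ = irrComp γ' '' d := by
    rw [hd₁eq]
    apply Set.image_congr
    intro ϑ _
    exact (hirr ϑ).symm
  -- (i) the conjugate of `e`
  have hL1 : ∀ l ∈ NQ ⊓ N, h' * l * h'⁻¹ ∈ NQ ⊓ N := by
    intro l hl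
    exact ⟨Subgroup.mul_mem _ (Subgroup.mul_mem _ hh'NQ hl.1) (Subgroup.inv_mem _ hh'NQ),
      hN.conj_mem l hl.2 h'⟩
  have hL2 : ∀ l ∈ NQ ⊓ N, h'⁻¹ * l * h' ∈ NQ ⊓ N := by
    intro l hl
    refine ⟨Subgroup.mul_mem _ (Subgroup.mul_mem _ (Subgroup.inv_mem _ hh'NQ) hl.1) hh'NQ, ?_⟩
    have h1 := hN.conj_mem l hl.2 h'⁻¹
    rwa [inv_inv] at h1
  obtain ⟨ρ, hρ⟩ : ∃ ρ : ↥(NQ ⊓ N) ≃* ↥(NQ ⊓ N), ρ = conjEquiv (NQ ⊓ N) h' hL1 hL2 := ⟨_, rfl⟩
  have hρc : ∀ l : ↥(NQ ⊓ N), ((ρ l : ↥(NQ ⊓ N)) : G) = h' * (l : G) * h'⁻¹ := by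
    intro l
    rw [hρ]
    rfl
  have hed' : IsInducedBlockIn M N (NQ ⊓ N) (irrComp ρ '' e) d₁ := by
    rw [hd₁eq', hρ, hγ']
    exact isInducedBlockIn_conj N (NQ ⊓ N) inf_le_right h' hL1 hL2 hed
  have heρ : IsPBlock M (irrComp ρ '' e) := isPBlock_image_irrComp ρ he
  have heρQ : IsDefectGroup p M (irrComp ρ '' e) (Q.subgroupOf (NQ ⊓ N)) := by
    have h1 := isDefectGroup_image_irrComp hM ρ he heQ
    have h2 : (Q.subgroupOf (NQ ⊓ N)).map ρ.symm.toMonoidHom = Q.subgroupOf (NQ ⊓ N) := by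
      ext y
      rw [Subgroup.mem_map_equiv, Subgroup.mem_subgroupOf, Subgroup.mem_subgroupOf,
        MulEquiv.symm_symm, hρc]
      exact (hmemQ (y : G)).symm
    rw [h2] at h1
    exact h1
  -- uniqueness in the first main theorem for `N`
  haveI : Fintype ((NQ ⊓ N).subgroupOf N) := Fintype.ofFinite _
  obtain ⟨τ, hτ⟩ : ∃ τ : (NQ ⊓ N).subgroupOf N ≃* ↥(NQ ⊓ N),
      ∀ x, ((τ x : ↥(NQ ⊓ N)) : G) = ((x : N) : G) :=
    ⟨Subgroup.subgroupOfEquivOfLe inf_le_right, fun _ => rfl⟩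
  have hQNp : IsPGroup p (Q.subgroupOf N) := hQ.comap_subtype
  have hHN : Subgroup.normalizer ((Q.subgroupOf N : Subgroup N) : Set N) ≤
      (NQ ⊓ N).subgroupOf N := by
    intro z hz
    rw [Subgroup.mem_subgroupOf]
    exact ⟨(Cfsg.Agent.Helper18.PairRel.mem_normalizer_subgroupOf_iff N Q hQN z).1 hz, z.2⟩
  have hmapτ : (Q.subgroupOf (NQ ⊓ N)).map τ.symm.toMonoidHom =
      (Q.subgroupOf N).subgroupOf ((NQ ⊓ N).subgroupOf N) := by
    ext y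
    rw [Subgroup.mem_map_equiv, Subgroup.mem_subgroupOf, Subgroup.mem_subgroupOf,
      Subgroup.mem_subgroupOf, MulEquiv.symm_symm, hτ]
  have hD₁τ : IsDefectGroup p M (irrComp τ '' e₁)
      ((Q.subgroupOf N).subgroupOf ((NQ ⊓ N).subgroupOf N)) := by
    have h1 := isDefectGroup_image_irrComp hM τ he₁ he₁Q
    rwa [hmapτ] at h1
  have hD₂τ : IsDefectGroup p M (irrComp τ '' (irrComp ρ '' e))
      ((Q.subgroupOf N).subgroupOf ((NQ ⊓ N).subgroupOf N)) := by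
    have h1 := isDefectGroup_image_irrComp hM τ heρ heρQ
    rwa [hmapτ] at h1
  have hind₁ : IsInducedBlock M ((NQ ⊓ N).subgroupOf N) (irrComp τ '' e₁) d₁ :=
    (isInducedBlock_rel_iff N _ _ τ hτ).2 hed₁
  have hind₂ : IsInducedBlock M ((NQ ⊓ N).subgroupOf N) (irrComp τ '' (irrComp ρ '' e)) d₁ :=
    (isInducedBlock_rel_iff N _ _ τ hτ).2 hed'
  have hcc := efm_unique (Q.subgroupOf N) ((NQ ⊓ N).subgroupOf N) hM hQNp hHN
    (isPBlock_image_irrComp τ he₁) (isPBlock_image_irrComp τ heρ) hD₁τ hD₂τ hind₁ hind₂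
  have he₁eq : e₁ = irrComp ρ '' e := (irrComp_injective τ).image_injective hcc
  -- (j) `c` covers `e`
  rw [he₁eq] at hξ₁e₁
  obtain ⟨ξ, hξ, hξeq⟩ := hξ₁e₁
  refine ⟨ψ, hψ, ξ, hξ, ?_⟩
  have h1 := classInner_conj_rel NQ (NQ ⊓ N) inf_le_left h' hh'NQ hL1 hL2
    (isClassFunction_of_isIrrCharacter ψ.2) (ξ : ↥(NQ ⊓ N) → ℂ)
  rw [← h1, ← hρ]
  have h2 : (ξ : ↥(NQ ⊓ N) → ℂ) ∘ ρ = ξ₁f := by
    have h3 : ((irrComp ρ ξ : IrrCharacter ↥(NQ ⊓ N)) : ↥(NQ ⊓ N) → ℂ) =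
        ((ξ₁ : IrrCharacter ↥(NQ ⊓ N)) : ↥(NQ ⊓ N) → ℂ) := by rw [hξeq]
    rw [hξ₁] at h3
    exact h3
  rw [h2]
  exact hcon₁

include hM in
/-- part B, uniqueness -/
theorem partB_unique (hQN : Q ≤ N) [Fintype ↥(NQ ⊓ N)]
    {e : Set (IrrCharacter ↥(NQ ⊓ N))} (he : IsPBlock M e)
    (heQ : IsDefectGroup p M e (Q.subgroupOf (NQ ⊓ N)))
    {c₁ c₂ : Set (IrrCharacter ↥NQ)} {B : Set (IrrCharacter G)}
    (hcov₁ : ∃ ψ ∈ c₁, ∃ ξ ∈ e,
      classInner (fun l : ↥(NQ ⊓ N) => (ψ : ↥NQ → ℂ) (Subgroup.inclusion inf_le_left l))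
        (ξ : ↥(NQ ⊓ N) → ℂ) ≠ 0)
    (hcov₂ : ∃ ψ ∈ c₂, ∃ ξ ∈ e,
      classInner (fun l : ↥(NQ ⊓ N) => (ψ : ↥NQ → ℂ) (Subgroup.inclusion inf_le_left l))
        (ξ : ↥(NQ ⊓ N) → ℂ) ≠ 0)
    (hind₁ : IsInducedBlock M NQ c₁ B) (hind₂ : IsInducedBlock M NQ c₂ B) : c₁ = c₂ := by
  classical
  haveI hMp : M.IsPrime := hM.2.1.isPrime
  haveI : Fintype ↥NQ := Fintype.ofFinite _
  have hB : IsPBlock M B := hind₁.2.1
  have hc₁ : IsPBlock M c₁ := hind₁.1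
  have hc₂ : IsPBlock M c₂ := hind₂.1
  obtain ⟨P₁, hP₁H, hD₁, hP₁inf⟩ :=
    knorr_rel hM N NQ Q Subgroup.le_normalizer hQN he heQ hc₁ hcov₁
  obtain ⟨P₂, hP₂H, hD₂, hP₂inf⟩ :=
    knorr_rel hM N NQ Q Subgroup.le_normalizer hQN he heQ hc₂ hcov₂
  have hN₁ : Subgroup.normalizer (P₁ : Set G) ≤ NQ := normalizer_le_of_inf_eq N P₁ Q hP₁inf
  have hN₂ : Subgroup.normalizer (P₂ : Set G) ≤ NQ := normalizer_le_of_inf_eq N P₂ Q hP₂inf
  have hP₁p : IsPGroup p P₁ :=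
    (isPGroup_of_isDefectGroup hM hD₁).of_equiv (Subgroup.subgroupOfEquivOfLe hP₁H)
  have hP₂p : IsPGroup p P₂ :=
    (isPGroup_of_isDefectGroup hM hD₂).of_equiv (Subgroup.subgroupOfEquivOfLe hP₂H)
  have hB₁ : IsDefectGroup p M B P₁ := efm_forward P₁ NQ hM hP₁p hN₁ hc₁ hD₁ hind₁
  have hB₂ : IsDefectGroup p M B P₂ := efm_forward P₂ NQ hM hP₂p hN₂ hc₂ hD₂ hind₂
  obtain ⟨g, hg⟩ := isDefectGroup_conj_of hM hB hB₁ hB₂
  have hgQ : g ∈ NQ := by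
    rw [Subgroup.mem_normalizer_iff]
    intro y
    constructor
    · intro hy
      have hy2 : y ∈ P₂ ⊓ N := by
        rw [hP₂inf]
        exact hy
      have h1 : g * y * g⁻¹ ∈ P₁ ⊓ N := by
        refine ⟨?_, hN.conj_mem y hy2.2 g⟩
        rw [← hg]
        exact ⟨y, hy2.1, rfl⟩
      rw [hP₁inf] at h1
      exact h1
    · intro hy
      have hy1 : g * y * g⁻¹ ∈ P₁ ⊓ N := by
        rw [hP₁inf]
        exact hy
      have h1 : y ∈ P₂ ⊓ N := by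
        constructor
        · have h2 := hy1.1
          rw [← hg] at h2
          obtain ⟨z, hz, hzy⟩ := h2
          have h3 : z = y := by
            have h4 : g * z * g⁻¹ = g * y * g⁻¹ := hzy
            exact mul_left_cancel (mul_right_cancel h4)
          rw [← h3]
          exact hz
        · have h2 := hN.conj_mem _ hy1.2 g⁻¹
          have e1 : g⁻¹ * (g * y * g⁻¹) * g⁻¹⁻¹ = y := by group
          rwa [e1] at h2
      rw [hP₂inf] at h1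
      exact h1
  have hD₂' : IsDefectGroup p M c₂ (P₁.subgroupOf NQ) := by
    have h1 := isDefectGroup_conj hM hc₂ hD₂ (⟨g, hgQ⟩ : ↥NQ)
    have h2 : (P₂.subgroupOf NQ).map (MulAut.conj (⟨g, hgQ⟩ : ↥NQ)).toMonoidHom =
        P₁.subgroupOf NQ := by
      ext y
      rw [Subgroup.mem_map_equiv, Subgroup.mem_subgroupOf, Subgroup.mem_subgroupOf, ← hg,
        Subgroup.mem_map_equiv]
      rfl
    rw [h2] at h1
    exact h1
  exact efm_unique P₁ NQ hM hP₁p hN₁ hc₁ hc₂ hD₁ hD₂' hind₁ hind₂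

end Main

/-- Fix a prime p and a maximal ideal M of the algebraic integers containing p. Let N be a normal subgroup of the finite group G, Q a p-subgroup of N, H = N_G(Q) and L = H ∩ N = N_N(Q). Let d be a p-block of N with defect group Q and e the p-block of L with defect group Q that induces d inside N (its Brauer correspondent). Then block induction from H to G is a bijection from the p-blocks of H covering e onto the p-blocks of G covering d: every block of H covering e induces exactly one block of G, and that block covers d; and every block of G covering d is induced by exactly one block of H covering e. -/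
theorem result {G : Type*} [Group G] [Fintype G] (p : ℕ) [Fact p.Prime] (M : Ideal Cfsg.AlgInt) (hM : Cfsg.IsPModular p M) (N : Subgroup G) [N.Normal] [Fintype N] (Q : Subgroup G) (hQ : IsPGroup p Q) (hQN : Q ≤ N) [Fintype ↥(Subgroup.normalizer (Q : Set G) ⊓ N)] (d : Set (Cfsg.IrrCharacter N)) (hd : Cfsg.IsPBlock M d) (hdQ : Cfsg.IsDefectGroup p M d (Q.subgroupOf N)) (e : Set (Cfsg.IrrCharacter ↥(Subgroup.normalizer (Q : Set G) ⊓ N))) (he : Cfsg.IsPBlock M e) (heQ : Cfsg.IsDefectGroup p M e (Q.subgroupOf (Subgroup.normalizer (Q : Set G) ⊓ N))) (hed : Cfsg.IsInducedBlockIn M N (Subgroup.normalizer (Q : Set G) ⊓ N) e d) : (∀ c : Set (Cfsg.IrrCharacter ↥(Subgroup.normalizer (Q : Set G))), Cfsg.IsPBlock M c → (∃ ψ ∈ c, ∃ ξ ∈ e, Cfsg.classInner (fun l : ↥(Subgroup.normalizer (Q : Set G) ⊓ N) => (ψ : ↥(Subgroup.normalizer (Q : Set G)) → ℂ) (Subgroup.inclusion inf_le_left l)) (ξ : ↥(Subgroup.normalizer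 (Q : Set G) ⊓ N) → ℂ) ≠ 0) → ∃! B : Set (Cfsg.IrrCharacter G), Cfsg.IsInducedBlock M (Subgroup.normalizer (Q : Set G)) c B ∧ (∃ χ ∈ B, ∃ θ ∈ d, Cfsg.classInner (fun n : N => (χ : G → ℂ) n) (θ : N → ℂ) ≠ 0)) ∧ (∀ B : Set (Cfsg.IrrCharacter G), Cfsg.IsPBlock M B → (∃ χ ∈ B, ∃ θ ∈ d, Cfsg.classInner (fun n : N => (χ : G → ℂ) n) (θ : N → ℂ) ≠ 0) → ∃! c : Set (Cfsg.IrrCharacter ↥(Subgroup.normalizer (Q : Set G))), (Cfsg.IsPBlock M c ∧ ∃ ψ ∈ c, ∃ ξ ∈ e, Cfsg.classInner (fun l : ↥(Subgroup.normalizer (Q : Set G) ⊓ N) => (ψ : ↥(Subgroup.normalizer (Q : Set G)) → ℂ) (Subgroup.inclusion inf_le_left l)) (ξ : ↥(Subgroup.normalizer (Q : Set G) ⊓ N) → ℂ) ≠ 0) ∧ Cfsg.IsInducedBlock M (Subgroup.normalizer (Q : Set G)) c B) := by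
  classical
  constructor
  · intro c hc hcov
    obtain ⟨B, hB, hBcov⟩ := partA hM N Q hQN he heQ hed hc hcov
    refine ⟨B, ⟨hB, hBcov⟩, ?_⟩
    rintro B' ⟨hB', -⟩
    exact isInducedBlock_unique' hM hB' hB
  · intro B hB hBcov
    obtain ⟨P, hP, hPinf⟩ := Cfsg.Agent.S4438.result p M hM N d hd Q hQN hdQ B hB hBcov
    have hNP := normalizer_le_of_inf_eq N P Q hPinf
    have hPp := isPGroup_of_isDefectGroup hM hP
    obtain ⟨c, hc, hDc, hind⟩ :=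
      efm_exists P (Subgroup.normalizer (Q : Set G)) hM hPp hNP hB hP
    have hcov := cover_of_induces hM N Q hQ hQN hd hdQ he heQ hed hind hBcov
    refine ⟨c, ⟨⟨hc, hcov⟩, hind⟩, ?_⟩
    rintro c' ⟨⟨hc', hcov'⟩, hind'⟩
    exact partB_unique hM N Q hQN he heQ hcov' hcov hind' hind

end Cfsg.Agent.S4674
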