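import Mathlib
import Cfsg.Statements.S4675
import Cfsg.Agent.Lib.Helper23.BlockRank
import Cfsg.Agent.Lib.Helper23.BlockGenChar2
import Cfsg.Agent.Lib.Helper23.BlockDefectGroup
import Cfsg.Agent.Lib.Helper23.ClassConst

set_option autoImplicit false
open Cfsg

namespace Cfsg.Agent.S4675

open Cfsg.Agent.Helper24 Cfsg.Agent.Helper23 Cfsg.Agent.Helper23.Blk
open scoped ComplexConjugate

/-- in a block of rank one all `p`-regular parts are proportional, with the ratio of the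
degrees -/
theorem prop_of_rank_one {G : Type*} [Group G] [Fintype G] {p : ℕ} (hp : p.Prime)
    {B : Set (IrrCharacter G)} (hl : blockRank p B = 1) {ψ₀ : IrrCharacter G} (hψ₀ : ψ₀ ∈ B)
    {χ : IrrCharacter G} (hχ : χ ∈ B) :
    pRegularPart p (χ : G → ℂ) =
      ((χ : G → ℂ) 1 / (ψ₀ : G → ℂ) 1) • pRegularPart p (ψ₀ : G → ℂ) := by
  unfold blockRank at hl
  have hmem : ∀ ξ : IrrCharacter G, ξ ∈ B → pRegularPart p (ξ : G → ℂ) ∈ Submodule.span ℂ
      ((fun χ : IrrCharacter G => pRegularPart p (χ : G → ℂ)) '' B) :=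
    fun ξ hξ => Submodule.subset_span ⟨ξ, hξ, rfl⟩
  have hv0 : (⟨pRegularPart p (ψ₀ : G → ℂ), hmem ψ₀ hψ₀⟩ : Submodule.span ℂ
      ((fun χ : IrrCharacter G => pRegularPart p (χ : G → ℂ)) '' B)) ≠ 0 := by
    intro h
    exact pRegularPart_ne_zero p hp ψ₀ (congrArg Subtype.val h)
  obtain ⟨c, hc⟩ := (finrank_eq_one_iff_of_nonzero' _ hv0).1 hl
    ⟨pRegularPart p (χ : G → ℂ), hmem χ hχ⟩
  have hc' : c • pRegularPart p (ψ₀ : G → ℂ) = pRegularPart p (χ : G → ℂ) :=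
    congrArg Subtype.val hc
  have h1 : ¬ p ∣ orderOf (1 : G) := by
    rw [orderOf_one]
    intro h2
    exact hp.one_lt.ne' (Nat.dvd_one.1 h2)
  have hval := congrFun hc' 1
  rw [Pi.smul_apply, pRegularPart_of_not_dvd p _ h1, pRegularPart_of_not_dvd p _ h1,
    smul_eq_mul] at hval
  have hψ1 : (ψ₀ : G → ℂ) 1 ≠ 0 := irr_one_ne_zero ψ₀.2
  have hceq : c = (χ : G → ℂ) 1 / (ψ₀ : G → ℂ) 1 := by
    rw [← hval, mul_div_cancel_right₀ _ hψ1]
  rw [← hceq, hc']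

theorem result {G : Type*} [Group G] [Fintype G] (p : ℕ) [Fact p.Prime] (M : Ideal Cfsg.AlgInt) (hM : Cfsg.IsPModular p M) (B : Set (Cfsg.IrrCharacter G)) (hB : Cfsg.IsPBlock M B) (P : Subgroup G) (hP : Cfsg.IsDefectGroup p M B P) (hl : Cfsg.blockRank p B = 1) : ∃ φ : G → ℂ, ∃ d : Cfsg.IrrCharacter G → ℕ, (∃ n : Cfsg.IrrCharacter G → ℤ, ∀ x : G, Cfsg.IsPRegular p x → φ x = ∑ᶠ ψ ∈ B, (n ψ : ℂ) * (ψ : G → ℂ) x) ∧ (∀ χ ∈ B, ∀ x : G, Cfsg.IsPRegular p x → (χ : G → ℂ) x = (d χ : ℂ) * φ x) ∧ ∑ᶠ χ ∈ B, d χ ^ 2 = Nat.card P := by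
  classical
  letI : Fintype (IrrCharacter G) := irrFintype
  haveI hMp : M.IsPrime := hM.2.1.isPrime
  have hp : p.Prime := hM.1
  -- finset version of `B`
  obtain ⟨T, hT⟩ : ∃ T : Finset (IrrCharacter G), T = Finset.univ.filter (· ∈ B) := ⟨_, rfl⟩
  have hmemT : ∀ χ, χ ∈ T ↔ χ ∈ B := by
    intro χ
    rw [hT]
    simp
  have hBT : B = (T : Set (IrrCharacter G)) := by
    ext χ
    rw [Finset.mem_coe, hmemT]
  have hfsC : ∀ f : IrrCharacter G → ℂ, ∑ᶠ χ ∈ B, f χ = ∑ χ ∈ T, f χ := by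
    intro f
    rw [hBT]
    exact finsum_mem_coe_finset f T
  have hfsN : ∀ f : IrrCharacter G → ℕ, ∑ᶠ χ ∈ B, f χ = ∑ χ ∈ T, f χ := by
    intro f
    rw [hBT]
    exact finsum_mem_coe_finset f T
  obtain ⟨ψ₀, hψ₀B⟩ : ∃ ψ₀, ψ₀ ∈ B := by
    obtain ⟨χ₀, rfl⟩ := hB
    exact ⟨χ₀, mem_blockOf_self χ₀⟩
  -- degrees
  obtain ⟨D, hDdef⟩ : ∃ D : IrrCharacter G → ℕ, ∀ χ, D χ = charDegree (χ : G → ℂ) :=
    ⟨fun χ => charDegree (χ : G → ℂ), fun _ => rfl⟩
  have hD1 : ∀ χ : IrrCharacter G, (χ : G → ℂ) 1 = (D χ : ℂ) := by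
    intro χ
    rw [hDdef]
    exact irr_one_eq_charDegree χ.2
  have hDpos : ∀ χ, 0 < D χ := by
    intro χ
    rw [hDdef]
    exact charDegree_pos χ.2
  have hD0 : (D ψ₀ : ℂ) ≠ 0 := by exact_mod_cast (hDpos ψ₀).ne'
  have hprop : ∀ χ ∈ B, ∀ x : G, ¬ p ∣ orderOf x →
      (χ : G → ℂ) x = ((D χ : ℂ) / (D ψ₀ : ℂ)) * (ψ₀ : G → ℂ) x := by
    intro χ hχ x hx
    have h := congrFun (prop_of_rank_one hp hl hψ₀B hχ) x
    rw [Pi.smul_apply, pRegularPart_of_not_dvd p _ hx, pRegularPart_of_not_dvd p _ hx,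
      smul_eq_mul, hD1, hD1] at h
    exact h
  -- the gcd and Bezout
  obtain ⟨n, hn⟩ := Finset.gcd_eq_sum_mul T (fun χ => (D χ : ℤ))
  obtain ⟨g₀, hg₀⟩ : ∃ g₀ : ℤ, g₀ = T.gcd (fun χ => (D χ : ℤ)) := ⟨_, rfl⟩
  rw [← hg₀] at hn
  have hg₀dvd : ∀ χ ∈ T, g₀ ∣ (D χ : ℤ) := by
    intro χ hχ
    rw [hg₀]
    exact Finset.gcd_dvd hχ
  have hg₀nn : 0 ≤ g₀ := by
    rw [hg₀]
    exact (Int.nonneg_iff_normalize_eq_self _).1 Finset.normalize_gcd
  obtain ⟨g, hg⟩ : ∃ g : ℕ, (g : ℤ) = g₀ := ⟨g₀.toNat, Int.toNat_of_nonneg hg₀nn⟩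
  have hgdvd : ∀ χ ∈ T, g ∣ D χ := by
    intro χ hχ
    have := hg₀dvd χ hχ
    rw [← hg] at this
    exact Int.natCast_dvd_natCast.mp this
  have hgpos : 0 < g := Nat.pos_of_dvd_of_pos (hgdvd ψ₀ ((hmemT ψ₀).2 hψ₀B)) (hDpos ψ₀)
  have hg0 : (g : ℂ) ≠ 0 := by exact_mod_cast hgpos.ne'
  obtain ⟨d, hd⟩ : ∃ d : IrrCharacter G → ℕ, ∀ χ, d χ = D χ / g :=
    ⟨fun χ => D χ / g, fun _ => rfl⟩
  have hdD : ∀ χ ∈ T, D χ = g * d χ := by
    intro χ hχ
    rw [hd]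
    exact (Nat.mul_div_cancel' (hgdvd χ hχ)).symm
  have hdDc : ∀ χ ∈ T, (D χ : ℂ) = (g : ℂ) * (d χ : ℂ) := by
    intro χ hχ
    exact_mod_cast hdD χ hχ
  have hbez : ∑ χ ∈ T, (d χ : ℤ) * n χ = 1 := by
    have h1 : (g : ℤ) * ∑ χ ∈ T, (d χ : ℤ) * n χ = (g : ℤ) * 1 := by
      rw [mul_one, Finset.mul_sum]
      calc ∑ χ ∈ T, (g : ℤ) * ((d χ : ℤ) * n χ) = ∑ χ ∈ T, (D χ : ℤ) * n χ := by
            apply Finset.sum_congr rfl
            intro χ hχ
            rw [hdD χ hχ]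
            push_cast
            ring
        _ = g₀ := hn.symm
        _ = (g : ℤ) := hg.symm
    exact mul_left_cancel₀ (by exact_mod_cast hgpos.ne') h1
  refine ⟨fun x => ∑ ψ ∈ T, (n ψ : ℂ) * (ψ : G → ℂ) x, d, ⟨n, ?_⟩, ?_, ?_⟩
  · intro x _
    rw [hfsC]
  · intro χ hχ x hx
    have hφ : ∑ ψ ∈ T, (n ψ : ℂ) * (ψ : G → ℂ) x =
        ((g : ℂ) / (D ψ₀ : ℂ)) * (ψ₀ : G → ℂ) x := by
      have h1 : ∀ ψ ∈ T, (n ψ : ℂ) * (ψ : G → ℂ) x =
          ((D ψ : ℂ) * (n ψ : ℂ)) * ((ψ₀ : G → ℂ) x / (D ψ₀ : ℂ)) := by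
        intro ψ hψ
        rw [hprop ψ ((hmemT ψ).1 hψ) x hx]
        ring
      rw [Finset.sum_congr rfl h1, ← Finset.sum_mul]
      have h2 : ∑ ψ ∈ T, (D ψ : ℂ) * (n ψ : ℂ) = (g : ℂ) := by
        have : ((∑ ψ ∈ T, (D ψ : ℤ) * n ψ : ℤ) : ℂ) = ((g : ℤ) : ℂ) := by rw [← hn, hg]
        push_cast at this
        exact this
      rw [h2]
      ring
    show (χ : G → ℂ) x = (d χ : ℂ) * ∑ ψ ∈ T, (n ψ : ℂ) * (ψ : G → ℂ) x
    rw [hφ, hprop χ hχ x hx, hdDc χ ((hmemT χ).2 hχ)]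
    field_simp
  · rw [hfsN]
    obtain ⟨c, hc⟩ : ∃ c : ℕ, c = ∑ χ ∈ T, d χ ^ 2 := ⟨_, rfl⟩
    rw [← hc]
    have hdψ₀ : 0 < d ψ₀ := by
      rcases Nat.eq_zero_or_pos (d ψ₀) with h | h
      · have := hdD ψ₀ ((hmemT ψ₀).2 hψ₀B)
        rw [h, mul_zero] at this
        exact absurd this (hDpos ψ₀).ne'
      · exact h
    have hcpos : 0 < c := by
      rw [hc]
      apply Finset.sum_pos'
      · intro χ _
        exact Nat.zero_le _
      · exact ⟨ψ₀, (hmemT ψ₀).2 hψ₀B, by positivity⟩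
    have hc0 : (c : ℂ) ≠ 0 := by exact_mod_cast hcpos.ne'
    obtain ⟨K, hK⟩ : ∃ K : ℂ, K = classInner (pRegularPart p (ψ₀ : G → ℂ))
        (pRegularPart p (ψ₀ : G → ℂ)) := ⟨_, rfl⟩
    have hinner : ∀ χ ∈ B, ∀ ξ ∈ B, classInner (pRegularPart p (χ : G → ℂ)) (ξ : G → ℂ) =
        (D χ : ℂ) * (D ξ : ℂ) / (D ψ₀ : ℂ) ^ 2 * K := by
      intro χ hχ ξ hξ
      have h1 : classInner (pRegularPart p (χ : G → ℂ)) (ξ : G → ℂ) =
          classInner (pRegularPart p (χ : G → ℂ)) (pRegularPart p (ξ : G → ℂ)) := by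
        unfold classInner
        congr 1
        apply Finset.sum_congr rfl
        intro x _
        by_cases hx : p ∣ orderOf x
        · rw [pRegularPart_of_dvd p _ hx, zero_mul, zero_mul]
        · rw [pRegularPart_of_not_dvd p (ξ : G → ℂ) hx]
      rw [h1, prop_of_rank_one hp hl hψ₀B hχ, prop_of_rank_one hp hl hψ₀B hξ,
        classInner_smul_left, classInner_smul_right, hD1, hD1, hD1, ← hK, map_div₀,
        Complex.conj_natCast, Complex.conj_natCast]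
      ring
    have hrank := blockRank_block p hM hB
    rw [hl] at hrank
    have hsumsq : ∑ χ ∈ T, ((D χ : ℂ)) ^ 2 = (g : ℂ) ^ 2 * (c : ℂ) := by
      rw [hc]
      push_cast
      rw [Finset.mul_sum]
      apply Finset.sum_congr rfl
      intro χ hχ
      rw [hdDc χ hχ]
      ring
    have hK1 : (g : ℂ) ^ 2 * (c : ℂ) * K = (D ψ₀ : ℂ) ^ 2 := by
      have h1 : (1 : ℂ) = ∑ ψ ∈ T, (D ψ : ℂ) ^ 2 / (D ψ₀ : ℂ) ^ 2 * K := by
        have h11 : ((1 : ℕ) : ℂ) = 1 := Nat.cast_one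
        rw [← h11, hrank, ← Finset.sum_filter, ← hT]
        apply Finset.sum_congr rfl
        intro ψ hψ
        rw [hinner ψ ((hmemT ψ).1 hψ) ψ ((hmemT ψ).1 hψ)]
        ring
      rw [← Finset.sum_mul, ← Finset.sum_div, hsumsq, div_mul_eq_mul_div,
        eq_div_iff (pow_ne_zero 2 hD0), one_mul] at h1
      exact h1.symm
    have hK0 : K ≠ 0 := by
      intro h
      rw [h, mul_zero] at hK1
      exact pow_ne_zero 2 hD0 hK1.symm
    have hinner2 : ∀ χ ∈ B, ∀ ξ ∈ B,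
        (c : ℂ) * classInner (pRegularPart p (χ : G → ℂ)) (ξ : G → ℂ) =
          (d χ : ℂ) * (d ξ : ℂ) := by
      intro χ hχ ξ hξ
      rw [hinner χ hχ ξ hξ, hdDc χ ((hmemT χ).2 hχ), hdDc ξ ((hmemT ξ).2 hξ), ← hK1]
      field_simp
    have hint : ∀ χ ∈ B, ∀ ξ ∈ B, ∃ m : ℤ,
        (p : ℤ) ^ (blockDefect p B) * ((d χ : ℤ) * (d ξ : ℤ)) = (c : ℤ) * m := by
      intro χ hχ ξ hξ
      obtain ⟨cc, -, hcc⟩ := exists_int_coeffs_block hM hB hχ
      have h1 : classInner (((p : ℂ) ^ blockDefect p B) • pRegularPart p (χ : G → ℂ))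
          (ξ : G → ℂ) = (cc ξ : ℂ) := by
        rw [hcc, classInner_sum_left, Finset.sum_eq_single ξ]
        · rw [classInner_smul_left, irr_orthogonality', if_pos rfl, mul_one]
        · intro η _ hη
          rw [classInner_smul_left, irr_orthogonality', if_neg hη, mul_zero]
        · intro h
          exact absurd (Finset.mem_univ _) h
      rw [classInner_smul_left] at h1
      refine ⟨cc ξ, ?_⟩
      have h2 : ((p : ℂ) ^ (blockDefect p B)) * ((d χ : ℂ) * (d ξ : ℂ)) =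
          (c : ℂ) * (cc ξ : ℂ) := by
        rw [← hinner2 χ hχ ξ hξ, ← h1]
        ring
      exact_mod_cast h2
    have hcdvd : c ∣ p ^ blockDefect p B := by
      have h1 : ((p : ℤ) ^ (blockDefect p B)) = (p : ℤ) ^ (blockDefect p B) *
          ((∑ χ ∈ T, (d χ : ℤ) * n χ) * (∑ ξ ∈ T, (d ξ : ℤ) * n ξ)) := by
        rw [hbez]
        ring
      choose! m hm using hint
      have h2 : (p : ℤ) ^ (blockDefect p B) *
          ((∑ χ ∈ T, (d χ : ℤ) * n χ) * (∑ ξ ∈ T, (d ξ : ℤ) * n ξ)) =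
          (c : ℤ) * ∑ χ ∈ T, ∑ ξ ∈ T, n χ * n ξ * m χ ξ := by
        rw [Finset.sum_mul_sum, Finset.mul_sum, Finset.mul_sum]
        apply Finset.sum_congr rfl
        intro χ hχ
        rw [Finset.mul_sum, Finset.mul_sum]
        apply Finset.sum_congr rfl
        intro ξ hξ
        have := hm χ ((hmemT χ).1 hχ) ξ ((hmemT ξ).1 hξ)
        linear_combination (n χ * n ξ) * this
      have h3 : (c : ℤ) ∣ (p : ℤ) ^ (blockDefect p B) := ⟨_, h1.trans h2⟩
      exact_mod_cast h3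
    obtain ⟨k, hkd, hck⟩ := (Nat.dvd_prime_pow hp).mp hcdvd
    -- the character `Φ`
    have hvan : ∀ x : G, p ∣ orderOf x → ∑ χ ∈ T, (d χ : ℂ) * (χ : G → ℂ) x = 0 := by
      intro x hx
      have h0 := blockCoeff_eq_zero_of_pSingular hM hB hx
      unfold blockCoeff at h0
      rw [hfsC] at h0
      have hG0 : (Nat.card G : ℂ)⁻¹ ≠ 0 := by
        apply inv_ne_zero
        exact_mod_cast (Nat.card_pos (α := G)).ne'
      have h1 := (mul_eq_zero.mp h0).resolve_left hG0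
      have h2 : ∑ χ ∈ T, (D χ : ℂ) * (χ : G → ℂ) x = 0 := by
        have := congrArg conj h1
        rw [map_sum, map_zero] at this
        rw [← this]
        apply Finset.sum_congr rfl
        intro χ _
        rw [map_mul, Complex.conj_conj, hD1, Complex.conj_natCast]
      have h3 : (g : ℂ) * ∑ χ ∈ T, (d χ : ℂ) * (χ : G → ℂ) x = 0 := by
        rw [← h2, Finset.mul_sum]
        apply Finset.sum_congr rfl
        intro χ hχ
        rw [hdDc χ hχ]
        ring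
      exact (mul_eq_zero.mp h3).resolve_left hg0
    have hΦ : IsCharacter G (∑ χ ∈ T, (d χ : ℂ) • (χ : G → ℂ)) :=
      isCharacter_sum T _ (fun χ _ => isCharacter_natCast_smul (d χ)
        (isCharacter_of_isIrrCharacter χ.2))
    obtain ⟨Q⟩ : Nonempty (Sylow p G) := inferInstance
    have h1reg : ¬ p ∣ orderOf (1 : G) := by
      rw [orderOf_one]
      intro h2
      exact hp.one_lt.ne' (Nat.dvd_one.1 h2)
    obtain ⟨α, hα, hαeq⟩ := exists_isIntegral_eq_card_mul hp hΦ (by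
      intro x hx
      rw [Finset.sum_apply]
      simp only [Pi.smul_apply, smul_eq_mul]
      exact hvan x hx) h1reg (Q : Subgroup G) Q.isPGroup' (by
      intro q _
      rw [Subgroup.mem_centralizer_iff]
      intro y hy
      rw [Set.mem_singleton_iff] at hy
      rw [hy, one_mul, mul_one])
    have hΦ1 : (∑ χ ∈ T, (d χ : ℂ) • (χ : G → ℂ)) 1 = ((g * c : ℕ) : ℂ) := by
      rw [Finset.sum_apply, hc]
      push_cast
      rw [Finset.mul_sum]
      apply Finset.sum_congr rfl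
      intro χ hχ
      rw [Pi.smul_apply, smul_eq_mul, hD1, hdDc χ hχ]
      ring
    have hQdvd : Nat.card (Q : Subgroup G) ∣ g * c := by
      apply dvd_of_isIntegral_mul_eq' hα (Nat.card_pos).ne'
      rw [← hΦ1, hαeq]
      ring
    have hQcard : Nat.card (Q : Subgroup G) = p ^ (Nat.card G).factorization p :=
      Q.card_eq_multiplicity
    have hne : ((fun χ : IrrCharacter G => (charDegree (χ : G → ℂ)).factorization p) '' B).Nonempty :=
      ⟨_, ψ₀, hψ₀B, rfl⟩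
    obtain ⟨χ₁, hχ₁B, hχ₁⟩ := Nat.sInf_mem hne
    have hm_le : (D χ₁).factorization p ≤ (Nat.card G).factorization p := by
      have hdvd : D χ₁ ∣ Nat.card G := by
        rw [hDdef]
        exact charDegree_dvd_card χ₁.2
      exact (Nat.factorization_le_iff_dvd (hDpos χ₁).ne' Nat.card_pos.ne').2 hdvd p
    have hg_le : g.factorization p ≤ (D χ₁).factorization p :=
      (Nat.factorization_le_iff_dvd hgpos.ne' (hDpos χ₁).ne').2
        (hgdvd χ₁ ((hmemT χ₁).2 hχ₁B)) p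
    have hdef : blockDefect p B = (Nat.card G).factorization p - (D χ₁).factorization p := by
      unfold blockDefect
      rw [← hχ₁, hDdef]
    have ha_le : (Nat.card G).factorization p ≤ g.factorization p + k := by
      have h1 : p ^ (Nat.card G).factorization p ∣ g * c := by
        rw [← hQcard]
        exact hQdvd
      have h2 := (hp.pow_dvd_iff_le_factorization (Nat.mul_ne_zero hgpos.ne' hcpos.ne')).1 h1
      rw [Nat.factorization_mul hgpos.ne' hcpos.ne', hck, hp.factorization_pow] at h2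
      simpa using h2
    have hk : k = blockDefect p B := by omega
    rw [hck, hk, card_defectGroup hM hB hP]

end Cfsg.Agent.S4675
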