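import Mathlib
import Cfsg.Statements.S4681
import Cfsg.Agent.Lib.Helper18.PrincipalPairs

set_option autoImplicit false
open Cfsg

namespace Cfsg.Agent.S4681

open Cfsg.Agent.Helper24 Cfsg.Agent.Helper18 Cfsg.Agent.Helper23.Blk

theorem result {G : Type*} [Group G] [Fintype G] (p : ℕ) [Fact p.Prime] (M : Ideal Cfsg.AlgInt) (hM : Cfsg.IsPModular p M) (S : Sylow p G) : Cfsg.IsMaximalBrauerPair p M (Cfsg.principalBlock M G) (S : Subgroup G) (Cfsg.principalBlock M (Subgroup.centralizer ((S : Subgroup G) : Set G))) ∧ ∀ F : Cfsg.FusionSystem (S : Subgroup G), Cfsg.IsBlockFusionSystemOn p M (Cfsg.principalBlock M G) (S : Subgroup G) (Cfsg.principalBlock M (Subgroup.centralizer ((S : Subgroup G) : Set G))) F → ∀ Q : Subgroup G, F.Hom Q = (Cfsg.groupFusionSystem (S : Subgroup G)).Hom Q := by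
  classical
  have hS : IsPGroup p (S : Subgroup G) := S.isPGroup'
  constructor
  · refine ⟨Cfsg.Agent.S4646.isBrauerPairOf_principal hM _ hS, ?_⟩
    intro R g hR hle
    have h1 : (S : Subgroup G) ≤ R := le_of_subpairLE hle
    exact S.is_maximal' hR.1.1 h1
  · intro F hF Q
    ext φ
    rw [hF.2 Q φ]
    constructor
    · rintro ⟨hQS, g, hg, hmap, -⟩
      refine ⟨hQS, ?_, g, hg⟩
      intro x
      rw [hg x]
      exact hmap ⟨(x : G), x.2, rfl⟩
    · rintro ⟨hQS, hφS, g, hg⟩
      have hmap : Q.map (MulAut.conj g).toMonoidHom ≤ (S : Subgroup G) := by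
        rintro _ ⟨q, hq, rfl⟩
        have := hφS ⟨q, hq⟩
        rw [hg ⟨q, hq⟩] at this
        exact this
      refine ⟨hQS, g, hg, hmap, principalBlock M (Subgroup.centralizer (Q : Set G)),
        subpairLE_principal hM hS hQS, ?_⟩
      rw [conjBlock_principal]
      exact subpairLE_principal hM hS hmap

end Cfsg.Agent.S4681
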