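import Mathlib
import Cfsg.Statements.S4683
import Cfsg.Agent.Lib.Helper23.BlockSections3

set_option autoImplicit false
open Cfsg Cfsg.Agent.Helper23.Blk Cfsg.Agent.Helper24 Cfsg.Agent.Helper18
open scoped ComplexConjugate

namespace Cfsg.Agent.S4683


theorem gen_form {G : Type*} [Group G] [Fintype G] {p : ℕ} {M : Ideal AlgInt}
    (hM : IsPModular p M) {B : Set (IrrCharacter G)} (hB : IsPBlock M B) {u : G}
    (hu : ∃ k : ℕ, orderOf u = p ^ k) (K : Subgroup G)
    (hK : K = Subgroup.centralizer ({u} : Set G)) (e : Set (IrrCharacter K))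
    (he : IsPBlock M e)
    (hom : ∀ ξ ∈ e, MemLocalIdeal M
      ((∑ᶠ x : K, blockCoeff B x * (ξ : K → ℂ) x / (ξ : K → ℂ) 1) - 1)) :
    ∑ᶠ χ ∈ B, ∑ᶠ s : K, pRegularPart p (blockPart e (fun c : K => (χ : G → ℂ) (u * c))) s *
      blockPart e (fun c : K => (χ : G → ℂ) (u⁻¹ * c)) s⁻¹ =
      (Nat.card K : ℂ) * (blockRank p e : ℂ) := by
  subst hK
  letI : Fintype (Subgroup.centralizer ({u} : Set G)) := Fintype.ofFinite _
  have hind := isInducedBlock_of_omega hM hu hB he (by
    intro ξ hξ
    have h1 := hom ξ hξ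
    rw [finsum_eq_sum_of_fintype, ← Finset.sum_div] at h1
    exact h1)
  exact brauer_element_norm hM hu hind

/-- Fix a prime p and a maximal ideal M of the algebraic integers containing p, a p-block B of the finite group G, a p-element u and a p-block e of C = C_G(u) such that (⟨u⟩, e) is a Brauer pair of B (a Brauer element of B). For χ ∈ B let χ_u be the e-part of the class function c ↦ χ(u c) on C and χ_u' the e-part of c ↦ χ(u⁻¹ c). Then the sum over χ ∈ B and over the p-regular elements s of C of χ_u(s)·χ_u'(s⁻¹) equals the order of C times the p-regular rank of e (the number of irreducible Brauer characters of e). -/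
theorem result {G : Type*} [Group G] [Fintype G] (p : ℕ) [Fact p.Prime] (M : Ideal Cfsg.AlgInt) (hM : Cfsg.IsPModular p M) (B : Set (Cfsg.IrrCharacter G)) (u : G) (hu : ∃ k : ℕ, orderOf u = p ^ k) (e : Set (Cfsg.IrrCharacter (Subgroup.centralizer (Subgroup.zpowers u : Set G)))) (hBe : Cfsg.IsBrauerPairOf p M B (Subgroup.zpowers u) e) : ∑ᶠ χ ∈ B, ∑ᶠ s : Subgroup.centralizer (Subgroup.zpowers u : Set G), Cfsg.pRegularPart p (Cfsg.blockPart e (fun c : Subgroup.centralizer (Subgroup.zpowers u : Set G) => (χ : G → ℂ) (u * c))) s * Cfsg.blockPart e (fun c : Subgroup.centralizer (Subgroup.zpowers u : Set G) => (χ : G → ℂ) (u⁻¹ * c)) s⁻¹ = (Nat.card (Subgroup.centralizer (Subgroup.zpowers u : Set G)) : ℂ) * (Cfsg.blockRank p e : ℂ) := by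
  exact gen_form hM hBe.2.1 hu _ (centralizer_zpowers u) e hBe.1.2 hBe.2.2

end Cfsg.Agent.S4683
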