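import Mathlib
import Cfsg.Statements.S4691
import Cfsg.Agent.Lib.Helper23.BlockPairs5
import Cfsg.Agent.S4663
import Cfsg.Agent.S0071

set_option autoImplicit false
open Cfsg Cfsg.Agent.Helper23.Blk Cfsg.Agent.Helper24

namespace Cfsg.Agent.S4691

/-- Fix a prime p and a maximal ideal M of the algebraic integers containing p. A finite group G has a normal p-complement if and only if its principal p-block is nilpotent. -/
theorem result {G : Type*} [Group G] [Fintype G] (p : ℕ) [Fact p.Prime] (M : Ideal Cfsg.AlgInt) (hM : Cfsg.IsPModular p M) : Cfsg.HasNormalPComplement p G ↔ Cfsg.IsNilpotentBlock p M (Cfsg.principalBlock M G) := by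
  classical
  haveI hMp : M.IsPrime := hM.2.1.isPrime
  have hp : p.Prime := Fact.out
  constructor
  · rintro ⟨P, N, hN, hcomp⟩
    refine ⟨isPBlock_principalBlock, ?_⟩
    intro Q e hQe x hxN _ hxreg
    have hQ : IsPGroup p Q := hQe.1.1
    obtain ⟨P', hQP'⟩ := hQ.exists_le_sylow
    have hcard : Nat.card N * Nat.card (P : Subgroup G) = Nat.card G := hcomp.card_mul
    have hPP' : Nat.card (P' : Subgroup G) = Nat.card (P : Subgroup G) := by
      rw [Sylow.card_eq_multiplicity, Sylow.card_eq_multiplicity]
    have hcop : Nat.Coprime (Nat.card N) (Nat.card (P' : Subgroup G)) := by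
      rw [hPP', Sylow.card_eq_multiplicity]
      apply Nat.Coprime.pow_right
      rw [Nat.coprime_comm, hp.coprime_iff_not_dvd]
      intro hdvd
      have h1 : Nat.card (P : Subgroup G) * p ∣ Nat.card G := by
        rw [← hcard, mul_comm]
        exact Nat.mul_dvd_mul_right hdvd _
      rw [Sylow.card_eq_multiplicity, ← pow_succ] at h1
      have hG0 : Nat.card G ≠ 0 := Nat.card_pos.ne'
      have := (hp.pow_dvd_iff_le_factorization hG0).1 h1
      omega
    have hcomp' : N.IsComplement' (P' : Subgroup G) :=
      Subgroup.isComplement'_of_coprime (by rw [hPP']; exact hcard) hcop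
    exact (Cfsg.Agent.S0071.result P').1 ⟨N, hN, hcomp'⟩ Q hQP' x hxN
      ((Nat.coprime_comm.1 ((hp.coprime_iff_not_dvd).2 hxreg)))
  · rintro ⟨-, hnil⟩
    obtain ⟨P⟩ : Nonempty (Sylow p G) := inferInstance
    have h := (Cfsg.Agent.S0071.result P).2 (by
      intro Q hQP g hgN hgcop
      have hQ : IsPGroup p Q := P.2.to_le hQP
      have hpair : IsBrauerPairOf p M (principalBlock M G) Q
          (principalBlock M (Subgroup.centralizer (Q : Set G))) :=
        (Cfsg.Agent.S4663.result p M hM Q hQ _ isPBlock_principalBlock).2 rfl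
      apply hnil Q _ hpair g hgN
      · have hgK := normalizer_le_normalizer_centralizer Q hgN
        apply stabilizesBlock_of_image_subset _ hgK
        rw [principalBlock_eq, image_conjIrr_blockOf]
        have : conjIrr _ g hgK (principalChar (Subgroup.centralizer (Q : Set G))) =
            principalChar (Subgroup.centralizer (Q : Set G)) := by
          apply Subtype.ext
          funext k
          rfl
        rw [this]
      · intro hdvd
        exact (hp.coprime_iff_not_dvd.1 (Nat.coprime_comm.1 hgcop)) hdvd)
    obtain ⟨N, hN, hcomp⟩ := h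
    exact ⟨P, N, hN, hcomp⟩

end Cfsg.Agent.S4691
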