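import Mathlib
import Cfsg.Agent.Lib.Helper22.Sharp3Final
import Cfsg.Statements.S4702
-- import your own Cfsg.Agent.* helpers here

set_option autoImplicit false
open Cfsg

namespace Cfsg.Agent.S4702

open Cfsg.Agent.Helper22.Sharp3

/-- Let G be a triply transitive permutation group on a finite set of odd size m ≥ 3 in which only the identity fixes three or more points. Then m = 2^a + 1 for some a ≥ 1 and G is isomorphic to SL(2, 2^a). -/
theorem result {α : Type*} [Fintype α] [DecidableEq α] (hm : 3 ≤ Fintype.card α) (hodd : Odd (Fintype.card α)) (G : Subgroup (Equiv.Perm α)) (h3 : MulAction.IsMultiplyPretransitive G α 3) (hfix : ∀ g : G, 3 ≤ Nat.card (MulAction.fixedBy α g) → g = 1) : ∃ a : ℕ, 1 ≤ a ∧ Fintype.card α = 2 ^ a + 1 ∧ ∃ (F : Type) (_ : Field F) (_ : Fintype F), Fintype.card F = 2 ^ a ∧ Nonempty (G ≃* Matrix.SpecialLinearGroup (Fin 2) F) := by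
  classical
  have hT : Tr3 G α := tr3_of_pretransitive h3
  have hU : Uq3 G α := by
    intro g a b c hab hac hbc ha hb hc
    apply hfix g
    have hsub : ({a, b, c} : Set α) ⊆ MulAction.fixedBy α g := by
      intro x hx
      rcases hx with rfl | rfl | rfl
      · exact ha
      · exact hb
      · exact hc
    have h1 := Set.ncard_le_ncard hsub (Set.toFinite _)
    have h2 : ({a, b, c} : Set α).ncard = 3 := Set.ncard_eq_three.mpr ⟨a, b, c, hab, hac, hbc, rfl⟩
    rw [h2] at h1
    rw [Nat.card_coe_set_eq]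
    exact h1
  obtain ⟨C⟩ := nonempty_cfg hT hU hodd hm
  obtain ⟨a, ha, hcard, ⟨e⟩⟩ := exists_galois C
  letI : Fintype (GaloisField 2 a) := Fintype.ofFinite _
  refine ⟨a, ha, hcard, GaloisField 2 a, inferInstance, inferInstance, ?_, ⟨e⟩⟩
  rw [← Nat.card_eq_fintype_card, GaloisField.card 2 a (by omega)]

end Cfsg.Agent.S4702
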