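import Mathlib
import Cfsg.Statements.S4708
import Cfsg.Agent.Lib.Helper23.PrincipalInduce
import Cfsg.Agent.Lib.Helper18.BlockCover

set_option autoImplicit false
open Cfsg Cfsg.Agent.Helper23.Blk Cfsg.Agent.Helper24 Cfsg.Agent.Helper18 Cfsg.Agent.Helper5
open scoped ComplexConjugate
set_option linter.style.haveILetI false

namespace Cfsg.Agent.S4708


theorem sum_sq_le_sq_sum {ι : Type*} (s : Finset ι) (a : ι → ℕ) :
    ∑ i ∈ s, a i ^ 2 ≤ (∑ i ∈ s, a i) ^ 2 := by
  rw [sq, Finset.sum_mul]
  apply Finset.sum_le_sum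
  intro i hi
  rw [sq]
  exact Nat.mul_le_mul_left _ (Finset.single_le_sum (fun _ _ => Nat.zero_le _) hi)

/-- Let p be a prime, M a maximal ideal of the algebraic integers containing p, G a finite group and H a normal subgroup. Write λ(X) for the sum of the squares of the degrees of the irreducible characters in the principal p-block of a group X. Then λ(H) ≤ λ(G) ≤ [G : H]·λ(H). -/
theorem result {G : Type*} [Group G] [Finite G] (p : ℕ) [Fact p.Prime] (M : Ideal Cfsg.AlgInt) (hM : Cfsg.IsPModular p M) (H : Subgroup G) [H.Normal] : (∑ᶠ θ ∈ Cfsg.principalBlock M H, Cfsg.charDegree (θ : H → ℂ) ^ 2) ≤ (∑ᶠ χ ∈ Cfsg.principalBlock M G, Cfsg.charDegree (χ : G → ℂ) ^ 2) ∧ (∑ᶠ χ ∈ Cfsg.principalBlock M G, Cfsg.charDegree (χ : G → ℂ) ^ 2) ≤ H.index * ∑ᶠ θ ∈ Cfsg.principalBlock M H, Cfsg.charDegree (θ : H → ℂ) ^ 2 := by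
  classical
  haveI : Fintype G := Fintype.ofFinite G
  haveI : Fintype H := Fintype.ofFinite H
  haveI hMp : M.IsPrime := hM.2.1.isPrime
  letI : Fintype (IrrCharacter G) := irrFintype
  letI : Fintype (IrrCharacter H) := irrFintype
  have hm : ∀ (χ : IrrCharacter G) (θ : IrrCharacter H), ∃ n : ℕ,
      classInner (fun h : H => (χ : G → ℂ) h) (θ : H → ℂ) = n := fun χ θ =>
    classInner_char_nat (isCharacter_restrict H (isCharacter_of_isIrrCharacter χ.2))
      (isCharacter_of_isIrrCharacter θ.2)
  choose m hm using hm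
  have hF1 : ∀ χ : IrrCharacter G, charDegree (χ : G → ℂ) =
      ∑ θ : IrrCharacter H, m χ θ * charDegree (θ : H → ℂ) := by
    intro χ
    have hχH := isCharacter_restrict H (isCharacter_of_isIrrCharacter χ.2)
    have hdec := (isCharacter_decomp hχH).2
    have h1 := congrFun hdec 1
    rw [Finset.sum_apply] at h1
    simp only [Pi.smul_apply, smul_eq_mul] at h1
    have h2 : ((charDegree (χ : G → ℂ) : ℕ) : ℂ) =
        ((∑ θ : IrrCharacter H, m χ θ * charDegree (θ : H → ℂ) : ℕ) : ℂ) := by
      push_cast
      rw [← irr_one_eq_charDegree χ.2]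
      have h3 : (χ : G → ℂ) 1 = (χ : G → ℂ) ((1 : H) : G) := rfl
      rw [h3, h1]
      apply Finset.sum_congr rfl
      intro θ _
      rw [hm χ θ, irr_one_eq_charDegree θ.2]
    exact_mod_cast h2
  have hF2 : ∀ θ : IrrCharacter H, H.index * charDegree (θ : H → ℂ) =
      ∑ χ : IrrCharacter G, m χ θ * charDegree (χ : G → ℂ) := by
    intro θ
    have hexp := classFunction_expansion (isClassFunction_indFun H (θ : H → ℂ))
    have h1 := congrFun hexp 1
    rw [Finset.sum_apply, indFun_one] at h1
    simp only [Pi.smul_apply, smul_eq_mul] at h1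
    have h2 : ((H.index * charDegree (θ : H → ℂ) : ℕ) : ℂ) =
        ((∑ χ : IrrCharacter G, m χ θ * charDegree (χ : G → ℂ) : ℕ) : ℂ) := by
      push_cast
      rw [← irr_one_eq_charDegree θ.2, h1]
      apply Finset.sum_congr rfl
      intro χ _
      have hχc := isCharacter_of_isIrrCharacter χ.2
      rw [frobenius_reciprocity H _ (isClassFunction_of_isCharacter hχc),
        classInner_char_comm (isCharacter_of_isIrrCharacter θ.2) (isCharacter_restrict H hχc),
        hm χ θ, irr_one_eq_charDegree χ.2]
    exact_mod_cast h2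
  have hF3 : ∀ θ ∈ principalBlock M H, ∃ χ ∈ principalBlock M G, m χ θ ≠ 0 := by
    intro θ hθ
    obtain ⟨χ, hχ, hne⟩ := exists_principal_over hM H hθ
    refine ⟨χ, hχ, ?_⟩
    intro h0
    apply hne
    rw [hm χ θ, h0, Nat.cast_zero]
  have hF4 : ∀ χ ∈ principalBlock M G, ∀ θ : IrrCharacter H, m χ θ ≠ 0 →
      θ ∈ principalBlock M H := by
    intro χ hχ θ hne
    have hne' : classInner (fun h : H => (χ : G → ℂ) h) (θ : H → ℂ) ≠ 0 := by
      rw [hm χ θ]
      exact_mod_cast hne
    have h1 : classInner (fun h : H => ((principalChar G : IrrCharacter G) : G → ℂ) h)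
        ((principalChar H : IrrCharacter H) : H → ℂ) ≠ 0 := by
      have h0 : (fun h : H => ((principalChar G : IrrCharacter G) : G → ℂ) h) =
          ((principalChar H : IrrCharacter H) : H → ℂ) := rfl
      rw [h0, irr_orthogonality', if_pos rfl]
      exact one_ne_zero
    have h2 := cover_orbit H hMp (isPBlock_principalBlock (M := M) (G := H))
      (χ := principalChar G) (χ' := χ) hχ (principalChar_mem_principalBlock) h1 hne'
    obtain ⟨g, θ', hθ', rfl⟩ := h2
    have h3 := sameBlock_conjFun (M := M) H g hθ'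
    exact h3
  rw [finsum_mem_eq_toFinset_sum, finsum_mem_eq_toFinset_sum]
  constructor
  · -- lower bound
    calc ∑ θ ∈ (principalBlock M H).toFinset, charDegree (θ : H → ℂ) ^ 2
        ≤ ∑ θ ∈ (principalBlock M H).toFinset, ∑ χ ∈ (principalBlock M G).toFinset,
            (m χ θ * charDegree (θ : H → ℂ)) ^ 2 := by
          apply Finset.sum_le_sum
          intro θ hθ
          rw [Set.mem_toFinset] at hθ
          obtain ⟨χ₀, hχ₀, hne⟩ := hF3 θ hθ
          have h1 : charDegree (θ : H → ℂ) ^ 2 ≤ (m χ₀ θ * charDegree (θ : H → ℂ)) ^ 2 := by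
            apply Nat.pow_le_pow_left
            exact Nat.le_mul_of_pos_left _ (Nat.pos_of_ne_zero hne)
          refine le_trans h1 ?_
          exact Finset.single_le_sum (f := fun χ => (m χ θ * charDegree (θ : H → ℂ)) ^ 2)
            (fun _ _ => Nat.zero_le _) (Set.mem_toFinset.2 hχ₀)
      _ = ∑ χ ∈ (principalBlock M G).toFinset, ∑ θ ∈ (principalBlock M H).toFinset,
            (m χ θ * charDegree (θ : H → ℂ)) ^ 2 := Finset.sum_comm
      _ ≤ ∑ χ ∈ (principalBlock M G).toFinset, charDegree (χ : G → ℂ) ^ 2 := by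
          apply Finset.sum_le_sum
          intro χ _
          refine le_trans (sum_sq_le_sq_sum _ _) ?_
          apply Nat.pow_le_pow_left
          rw [hF1 χ]
          exact Finset.sum_le_sum_of_subset (Finset.subset_univ _)
  · -- upper bound
    calc ∑ χ ∈ (principalBlock M G).toFinset, charDegree (χ : G → ℂ) ^ 2
        = ∑ χ ∈ (principalBlock M G).toFinset, ∑ θ ∈ (principalBlock M H).toFinset,
            charDegree (χ : G → ℂ) * (m χ θ * charDegree (θ : H → ℂ)) := by
          apply Finset.sum_congr rfl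
          intro χ hχ
          rw [Set.mem_toFinset] at hχ
          have key : charDegree (χ : G → ℂ) ^ 2 = charDegree (χ : G → ℂ) *
              ∑ θ : IrrCharacter H, m χ θ * charDegree (θ : H → ℂ) := by
            rw [← hF1 χ, sq]
          rw [key, Finset.mul_sum]
          symm
          apply Finset.sum_subset (Finset.subset_univ _)
          intro θ _ hθ
          rw [Set.mem_toFinset] at hθ
          have h0 : m χ θ = 0 := by
            by_contra hne
            exact hθ (hF4 χ hχ θ hne)
          rw [h0, zero_mul, mul_zero]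
      _ = ∑ θ ∈ (principalBlock M H).toFinset, ∑ χ ∈ (principalBlock M G).toFinset,
            charDegree (χ : G → ℂ) * (m χ θ * charDegree (θ : H → ℂ)) := Finset.sum_comm
      _ ≤ ∑ θ ∈ (principalBlock M H).toFinset, H.index * charDegree (θ : H → ℂ) ^ 2 := by
          apply Finset.sum_le_sum
          intro θ _
          have h1 : ∑ χ ∈ (principalBlock M G).toFinset,
              charDegree (χ : G → ℂ) * (m χ θ * charDegree (θ : H → ℂ)) ≤
              ∑ χ : IrrCharacter G,
                charDegree (χ : G → ℂ) * (m χ θ * charDegree (θ : H → ℂ)) :=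
            Finset.sum_le_sum_of_subset (Finset.subset_univ _)
          refine le_trans h1 (le_of_eq ?_)
          have h2 : ∀ χ : IrrCharacter G,
              charDegree (χ : G → ℂ) * (m χ θ * charDegree (θ : H → ℂ)) =
              (m χ θ * charDegree (χ : G → ℂ)) * charDegree (θ : H → ℂ) := by
            intro χ
            ring
          rw [Finset.sum_congr rfl (fun χ _ => h2 χ), ← Finset.sum_mul, ← hF2 θ]
          ring
      _ = H.index * ∑ θ ∈ (principalBlock M H).toFinset, charDegree (θ : H → ℂ) ^ 2 := by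
          rw [Finset.mul_sum]

end Cfsg.Agent.S4708
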