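import Mathlib
import Cfsg.Statements.S4709
import Cfsg.Agent.Lib.Helper7.Frob7

set_option autoImplicit false
open Cfsg

namespace Cfsg.Agent.S4709

/-- Let p be a prime, M a maximal ideal of the algebraic integers containing p, and G a finite group with a nontrivial abelian Sylow p-subgroup P; put N = N_G(P), C = C_G(P). Suppose N/C is cyclic of order m with 1 < m < #P − 1 (C has index m in N and N is generated by C and one element), and C_G(y) ∩ N = C for every non-identity y ∈ P. Put r = (#P − 1)/m. Then there is s ≤ m such that the principal p-block is the disjoint union of a set X of s characters containing the principal character and a set Y of r characters, with integers a_χ ≠ 0 (χ ∈ X), d and a sign δ = ±1, such that: every χ ∈ X takes the value a_χ at every element whose p-part is a non-identity element of P; there is a map ζ from the non-principal linear characters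 ψ of P onto Y, constant on N-conjugacy classes, with ζ_ψ(z) = d + δ·Σ ψ'(y) for every z whose p-part y is a non-identity element of P, the sum running over the N-conjugates ψ' of ψ; (d − δ)^2 + (r − 1) d^2 + Σ_{χ ∈ X} a_χ^2 = m + 1; all members of Y agree on p-regular elements; and (r d − δ) η(g) + Σ_{χ ∈ X} a_χ χ(g) = 0 for every η ∈ Y and every p-regular g. -/
theorem result {G : Type*} [Group G] [Finite G] (p : ℕ) [Fact p.Prime] (M : Ideal Cfsg.AlgInt) (hM : Cfsg.IsPModular p M) (P : Sylow p G) (hab : IsMulCommutative P) (hP1 : Nat.card P ≠ 1) (m : ℕ) (hm1 : 1 < m) (hm2 : m + 1 < Nat.card P) (hCN : (Subgroup.centralizer ((P : Subgroup G) : Set G)).relIndex (Subgroup.normalizer ((P : Subgroup G) : Set G)) = m) (hcyc : ∃ g : G, g ∈ Subgroup.normalizer ((P : Subgroup G) : Set G) ∧ Subgroup.centralizer ((P : Subgroup G) : Set G) ⊔ Subgroup.zpowers g = Subgroup.normalizer ((P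 : Subgroup G) : Set G)) (hfrob : ∀ y : G, y ∈ (P : Subgroup G) → y ≠ 1 → Subgroup.centralizer ({y} : Set G) ⊓ Subgroup.normalizer ((P : Subgroup G) : Set G) = Subgroup.centralizer ((P : Subgroup G) : Set G)) : ∃ (s : ℕ) (X Y : Set (Cfsg.IrrCharacter G)), s ≤ m ∧ Cfsg.principalBlock M G = X ∪ Y ∧ Disjoint X Y ∧ Nat.card X = s ∧ Nat.card Y = (Nat.card P - 1) / m ∧ (∃ χ₁ ∈ X, (χ₁ : G → ℂ) = fun _ => 1) ∧ ∃ (a : Cfsg.IrrCharacter G → ℤ) (d δ : ℤ) (ζ : (↥(P : Subgroup G) →* ℂˣ) → Cfsg.IrrCharacter G), (δ = 1 ∨ δ = -1) ∧ (∀ χ ∈ X, a χ ≠ 0 ∧ ∀ z y : G, Cfsg.IsPPart p z y → y ∈ (P : Subgroup G) → y ≠ 1 → (χ : G → ℂ) z = (a χ : ℂ)) ∧ (∀ ψ : ↥(P : Subgroup G) →* ℂˣ, ψ ≠ 1 → ζ ψ ∈ Y) ∧ (∀ η ∈ Y, ∃ ψ : ↥(P : Subgroup G) →* ℂˣ, ψ ≠ 1 ∧ ζ ψ = η) ∧ (∀ ψ ψ' : ↥(P : Subgroup G) →* ℂˣ, ψ ≠ 1 → (∃ n : G, n ∈ Subgroup.normalizer ((P : Subgroup G) : Set G) ∧ ∀ w w' : ↥(P : Subgroup G), (w' : G)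 = n * w * n⁻¹ → ψ' w' = ψ w) → ζ ψ' = ζ ψ) ∧ (∀ ψ : ↥(P : Subgroup G) →* ℂˣ, ψ ≠ 1 → ∀ (z : G) (y : ↥(P : Subgroup G)), Cfsg.IsPPart p z (y : G) → (y : G) ≠ 1 → (ζ ψ : G → ℂ) z = (d : ℂ) + (δ : ℂ) * ∑ᶠ ψ' ∈ {ψ' : ↥(P : Subgroup G) →* ℂˣ | ∃ n : G, n ∈ Subgroup.normalizer ((P : Subgroup G) : Set G) ∧ ∀ w w' : ↥(P : Subgroup G), (w' : G) = n * w * n⁻¹ → ψ' w' = ψ w}, ((ψ' y : ℂˣ) : ℂ)) ∧ ((d - δ) ^ 2 + ((Nat.card P - 1) / m - 1 : ℤ) * d ^ 2 + ∑ᶠ χ ∈ X, a χ ^ 2 = (m : ℤ) + 1) ∧ (∀ η ∈ Y, ∀ η' ∈ Y, ∀ g : G, ¬ p ∣ orderOf g → (η : G → ℂ) g = (η' : G → ℂ) g) ∧ (∀ η ∈ Y, ∀ g : G, ¬ p ∣ orderOf g → ((((Nat.card P - 1) / m : ℕ) : ℂ) * d - δ) * (η : G → ℂ) g + ∑ᶠ χ ∈ X, (a χ : ℂ) * (χ : G → ℂ) g = 0) := by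
  classical
  have hcomm : ∀ x y : (P : Subgroup G), x * y = y * x := fun x y => hab.is_comm.comm x y
  have hm0 : 0 < m := by omega
  obtain ⟨Xs, Y, δ, dd, a, ζ, hpb, hdisj, h1X, hδ, hYcard, hXcard, hXval, hζY, hζsurj, hζconst,
    hζval, hnorm, hw⟩ := Cfsg.Agent.Helper7.Frob.frob_main p M hM P hcomm hP1 m hm1 hm2 hCN hcyc
      hfrob
  have hr : (Nat.card (P : Subgroup G) - 1) / m = Y.card :=
    Nat.div_eq_of_eq_mul_left hm0 hYcard.symm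
  have hPpos : 1 ≤ Nat.card (P : Subgroup G) := Nat.card_pos
  have hrZ : ((Nat.card (P : Subgroup G) : ℤ) - 1) / (m : ℤ) = (Y.card : ℤ) := by
    have h1 : ((Nat.card (P : Subgroup G) : ℤ) - 1) = (Y.card : ℤ) * (m : ℤ) := by
      have : ((Nat.card (P : Subgroup G) - 1 : ℕ) : ℤ) = ((Y.card * m : ℕ) : ℤ) := by
        rw [hYcard]
      rw [Nat.cast_sub hPpos] at this
      push_cast at this
      exact this
    rw [h1]
    exact Int.mul_ediv_cancel _ (by exact_mod_cast hm0.ne')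
  have hreg : ∀ g : G, ¬ p ∣ orderOf g → ∀ y : (P : Subgroup G), y ≠ 1 →
      ∑ χ ∈ Cfsg.Agent.Helper7.Homo.pbFinset M G, (χ : G → ℂ) g * (χ : G → ℂ) y = 0 :=
    fun g hg y hy => Cfsg.Agent.Helper7.Frob.frob_reg_rel M hM P y hy g hg
  refine ⟨Xs.card, (Xs : Set (Cfsg.IrrCharacter G)), (Y : Set (Cfsg.IrrCharacter G)), hXcard,
    ?_, ?_, ?_, ?_, ?_, a, dd, δ, ζ, hδ, ?_, ?_, ?_, hζconst, hζval, ?_, ?_, ?_⟩
  · ext χ
    rw [← Cfsg.Agent.Helper7.Homo.mem_pbFinset, hpb χ]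
    rfl
  · rw [Set.disjoint_left]
    intro χ hχ hχ'
    exact hdisj χ hχ hχ'
  · rw [Nat.card_coe_set_eq, Set.ncard_coe_finset]
  · rw [Nat.card_coe_set_eq, Set.ncard_coe_finset, hr]
  · exact ⟨Cfsg.Agent.Helper24.principalChar G, h1X, rfl⟩
  · intro χ hχ
    exact hXval χ hχ
  · intro ψ hψ
    exact hζY ψ hψ
  · intro η hη
    exact hζsurj η hη
  · rw [hrZ, finsum_mem_coe_finset]
    exact hnorm
  · intro η hη η' hη' g hg
    exact (hw (fun χ => (χ : G → ℂ) g) (hreg g hg)).1 η hη η' hη'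
  · intro η hη g hg
    rw [hr, finsum_mem_coe_finset]
    exact (hw (fun χ => (χ : G → ℂ) g) (hreg g hg)).2 η hη

end Cfsg.Agent.S4709
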