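import Mathlib
import Cfsg.Statements.S4710
import Cfsg.Agent.Lib.Helper23.BlockRows2

set_option autoImplicit false
open Cfsg Cfsg.Agent.Helper23.Blk Cfsg.Agent.Helper24 Cfsg.Agent.Helper18
open scoped ComplexConjugate

namespace Cfsg.Agent.S4710

/-- Let p be a prime, M a maximal ideal of the algebraic integers containing p, and B a p-block of defect d of the finite group G containing k irreducible characters. If B contains a character of positive height then 2k ≤ p^(2d − 2); and every character in B has height 0 when d ≤ 1 and height at most d − 2 when d ≥ 2. -/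
theorem result {G : Type*} [Group G] [Finite G] (p : ℕ) [Fact p.Prime] (M : Ideal Cfsg.AlgInt) (hM : Cfsg.IsPModular p M) (B : Set (Cfsg.IrrCharacter G)) (hB : Cfsg.IsPBlock M B) (d : ℕ) (hd : Cfsg.blockDefect p B = d) : ((∃ χ ∈ B, 0 < Cfsg.blockHeight p B (χ : G → ℂ)) → 2 * Nat.card B ≤ p ^ (2 * d - 2)) ∧ ∀ χ ∈ B, (d ≤ 1 → Cfsg.blockHeight p B (χ : G → ℂ) = 0) ∧ (2 ≤ d → Cfsg.blockHeight p B (χ : G → ℂ) ≤ d - 2) := by
  classical
  letI : Fintype G := Fintype.ofFinite G
  letI : Fintype (IrrCharacter G) := irrFintype
  subst hd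
  constructor
  · rintro ⟨χ, hχ, hpos⟩
    exact two_mul_card_le hM hB hχ hpos.ne'
  · intro χ hχ
    constructor
    · intro hd1
      by_contra h0
      have := height_add_two_le hM hB hχ h0
      omega
    · intro hd2
      by_cases h0 : blockHeight p B (χ : G → ℂ) = 0
      · rw [h0]
        exact Nat.zero_le _
      · have := height_add_two_le hM hB hχ h0
        omega

end Cfsg.Agent.S4710
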