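import Mathlib
import Cfsg.Statements.S4711
import Cfsg.Agent.Lib.Helper5.PLenOneA
import Cfsg.Agent.Lib.Helper5.PLenOneB
import Cfsg.Agent.Lib.Helper5.PLenOneD

set_option autoImplicit false
open Cfsg

namespace Cfsg.Agent.S4711

open Cfsg.Agent.Helper5.PLenOne in
/-- Let p be a prime, M a maximal ideal of the algebraic integers containing p, G a finite group, P a Sylow p-subgroup and N = N_G(P). Then G has p-length 1 (G = O_{p',p,p'}(G)) if and only if every irreducible character in the principal p-block of G restricts to an irreducible character of N. -/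
theorem result {G : Type*} [Group G] [Finite G] (p : ℕ) [Fact p.Prime] (M : Ideal Cfsg.AlgInt) (hM : Cfsg.IsPModular p M) (P : Sylow p G) : Cfsg.PLengthLE p 1 G ↔ ∀ χ ∈ Cfsg.principalBlock M G, Cfsg.IsIrrCharacter ↥(Subgroup.normalizer ((P : Subgroup G) : Set G)) (fun n : ↥(Subgroup.normalizer ((P : Subgroup G) : Set G)) => (χ : G → ℂ) n) := by
  constructor
  · intro h χ hχ
    exact forward hM P h χ hχ
  · intro hyp
    classical
    haveI : Fintype G := Fintype.ofFinite G
    have hPL : (P : Subgroup G) ≤ Subgroup.normalClosure ((P : Subgroup G) : Set G) :=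
      Subgroup.le_normalClosure
    haveI : (Subgroup.normalClosure ((P : Subgroup G) : Set G)).Normal :=
      Subgroup.normalClosure_normal
    have hidx : (Subgroup.normalClosure ((P : Subgroup G) : Set G)).index.Coprime p := by
      have h1 := Subgroup.index_dvd_of_le hPL
      have h2 : ((P : Subgroup G).index).Coprime p := by
        rw [Nat.coprime_comm, Nat.Prime.coprime_iff_not_dvd Fact.out]
        exact P.not_dvd_index
      exact Nat.Coprime.coprime_dvd_left h1 h2
    apply plengthLE_one_of_normal_sub _ hidx
    apply hasNormalPComplement_of_extend (P.subtype hPL)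
    intro μ
    letI : Fintype ↥(Subgroup.normalClosure ((P : Subgroup G) : Set G)) := Fintype.ofFinite _
    letI : Fintype ↥((P.subtype hPL : Sylow p ↥(Subgroup.normalClosure ((P : Subgroup G) : Set G))) :
        Subgroup ↥(Subgroup.normalClosure ((P : Subgroup G) : Set G))) := Fintype.ofFinite _
    apply exists_linear_extension hM _ (P.subtype hPL).2 _ μ
    intro θ hθ hne
    have key := sum_sylow_eq_zero hM P hyp _ hPL
      (fun N hN h => @Subgroup.normalClosure_le_normal _ _ _ N hN h) θ hθ hne
    refine Eq.trans ?_ key
    exact @Fintype.sum_equiv _ _ _ _ (_) (_) (Equiv.refl _) _ _ (fun _ => rfl)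

end Cfsg.Agent.S4711
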