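import Mathlib
import Cfsg.Statements.S4713
import Cfsg.Agent.S0169
import Cfsg.Agent.S0855
import Cfsg.Agent.Lib.Helper24.CharQuotient
import Cfsg.Agent.Lib.Helper24.CharAbelian
import Cfsg.Agent.Lib.Helper24.CharBrauerPerm
import Cfsg.Agent.Lib.Helper24.CharComplete
import Cfsg.Agent.Lib.Helper20.ConjUnion
import Cfsg.Agent.Lib.Helper23.PSolvable

set_option autoImplicit false
set_option linter.style.haveILetI false
open Cfsg

namespace Cfsg.Agent.S4713

open Cfsg.Agent.Helper24

universe u

/-- If `G / N` is a `p`-group and all irreducible character degrees of `G` are prime to `p`, then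
every irreducible character of `N` is `G`-invariant. -/
theorem invariant_of_not_dvd {G : Type u} [Group G] [Finite G] (p : ℕ) (hp : p.Prime)
    (N : Subgroup G) [hN : N.Normal] (a : ℕ) (hidx : N.index = p ^ a)
    (hdeg : ∀ χ : IrrCharacter G, ¬ p ∣ charDegree (χ : G → ℂ)) (θ : IrrCharacter N) (g : G) :
    Cfsg.Agent.Helper5.conjFun N g (θ : N → ℂ) = (θ : N → ℂ) := by
  classical
  letI : Fintype G := Fintype.ofFinite G
  letI : Fintype N := Fintype.ofFinite N
  letI : Fintype (IrrCharacter N) := irrFintype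
  have hθc := isCharacter_of_isIrrCharacter θ.2
  have hind : IsCharacter G (indFun N (θ : N → ℂ)) := isCharacter_indFun N hθc
  have hne : indFun N (θ : N → ℂ) ≠ 0 := by
    intro h
    have h1 := congrFun h 1
    rw [indFun_one, Pi.zero_apply] at h1
    rcases mul_eq_zero.mp h1 with h2 | h2
    · have : N.index ≠ 0 := Subgroup.index_ne_zero_of_finite
      exact this (by exact_mod_cast h2)
    · obtain ⟨n, hn, hn1⟩ := irr_one_eq θ.2
      rw [hn1] at h2
      exact hn.ne' (by exact_mod_cast h2)
  obtain ⟨χ, hχ, hχne⟩ := Cfsg.Agent.Helper5.exists_constituent hind hne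
  have hcf := isClassFunction_of_isIrrCharacter hχ
  rw [frobenius_reciprocity N (θ : N → ℂ) hcf] at hχne
  have hcon : classInner (fun n : N => χ n) (θ : N → ℂ) ≠ 0 := by
    intro h
    apply hχne
    rw [← classInner_conj_symm, h, map_zero]
  have hdeg' := Cfsg.Agent.Helper18.degree_eq_of_constituent N hχ θ.2 hcon
  obtain ⟨m, hm⟩ := (isCharacter_decomp
    (isCharacter_restrict N (isCharacter_of_isIrrCharacter hχ))).1 θ
  rw [hm, irr_one_eq_charDegree hχ, irr_one_eq_charDegree θ.2] at hdeg'
  have hprod : charDegree χ = m * (Cfsg.Agent.Helper18.inertia N (θ : N → ℂ)).index *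
      charDegree (θ : N → ℂ) := by exact_mod_cast hdeg'
  have hle : N ≤ Cfsg.Agent.Helper18.inertia N (θ : N → ℂ) :=
    Cfsg.Agent.Helper18.le_inertia N (isClassFunction_of_isIrrCharacter θ.2)
  have hdvd : (Cfsg.Agent.Helper18.inertia N (θ : N → ℂ)).index ∣ p ^ a := by
    rw [← hidx]
    exact Subgroup.index_dvd_of_le hle
  obtain ⟨j, -, hj⟩ := (Nat.dvd_prime_pow hp).mp hdvd
  have hj0 : j = 0 := by
    by_contra hne0
    apply hdeg ⟨χ, hχ⟩
    show p ∣ charDegree χ
    rw [hprod, hj]
    exact Dvd.dvd.mul_right (Dvd.dvd.mul_left (dvd_pow_self p hne0) _) _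
  rw [hj0, pow_zero, Subgroup.index_eq_one] at hj
  have : g ∈ Cfsg.Agent.Helper18.inertia N (θ : N → ℂ) := by rw [hj]; exact Subgroup.mem_top g
  exact (Cfsg.Agent.Helper18.mem_inertia N _ g).mp this

/-- If all irreducible characters of the normal subgroup `N` are `G`-invariant, then every element
of `G` fixes every conjugacy class of `N` (Brauer's permutation lemma). -/
theorem isConj_of_invariant {G : Type u} [Group G] [Finite G] (N : Subgroup G) [hN : N.Normal]
    (hinv : ∀ (θ : IrrCharacter N) (g : G),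
      Cfsg.Agent.Helper5.conjFun N g (θ : N → ℂ) = (θ : N → ℂ)) (g : G) (n : N) :
    IsConj (MulAut.conjNormal g n) n := by
  classical
  letI : Fintype N := Fintype.ofFinite N
  letI : Fintype (IrrCharacter N) := irrFintype
  have h := brauer_permutation (G := N) id (MulAut.conjNormal g : N ≃* N).toEquiv
    (fun a b hab => by
      obtain ⟨c, hc⟩ := isConj_iff.mp hab
      rw [isConj_iff]
      refine ⟨MulAut.conjNormal g c, ?_⟩
      show MulAut.conjNormal g c * MulAut.conjNormal g a * (MulAut.conjNormal g c)⁻¹ =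
        MulAut.conjNormal g b
      rw [← map_inv, ← map_mul, ← map_mul, hc])
    (fun θ k => by
      have := congrFun (hinv θ g) k
      rw [Cfsg.Agent.Helper5.conjFun_apply] at this
      exact this)
  have hleft : Nat.card {χ : IrrCharacter N // id χ = χ} = Nat.card (ConjClasses N) := by
    rw [← card_irr_eq_card_conjClasses]
    exact Nat.card_congr (Equiv.subtypeUnivEquiv (fun χ => rfl))
  rw [hleft] at h
  by_contra hcon
  have hlt : Fintype.card {c : ConjClasses N // ∀ k : N, ConjClasses.mk k = c →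
      ConjClasses.mk ((MulAut.conjNormal g : N ≃* N).toEquiv k) = c} <
      Fintype.card (ConjClasses N) := by
    apply Fintype.card_subtype_lt (x := ConjClasses.mk n)
    intro hall
    apply hcon
    have := hall n rfl
    rw [ConjClasses.mk_eq_mk_iff_isConj] at this
    exact this
  rw [← Nat.card_eq_fintype_card, ← Nat.card_eq_fintype_card, ← h] at hlt
  exact lt_irrefl _ hlt

/-- A `p`-subgroup `H` fixing every conjugacy class of the normal `p'`-subgroup `N`
centralizes `N`. -/
theorem commute_of_isConj {G : Type u} [Group G] [Finite G] (p : ℕ) [hp : Fact p.Prime]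
    (N H : Subgroup G) [hN : N.Normal] (hNp : (Nat.card N).Coprime p) (hH : IsPGroup p H)
    (hconj : ∀ (g : G) (n : N), IsConj (MulAut.conjNormal g n) n) :
    ∀ n ∈ N, ∀ x ∈ H, x * n = n * x := by
  classical
  set C : Subgroup N := (Subgroup.centralizer (H : Set G)).subgroupOf N with hC
  have htop : C = ⊤ := by
    apply Cfsg.Agent.Helper20.eq_top_of_forall_conj_mem
    intro n
    let Ω := {m : N // IsConj m n}
    letI : MulAction H Ω :=
      { smul := fun x m => ⟨MulAut.conjNormal (x : G) m.1, (hconj x m.1).trans m.2⟩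
        one_smul := fun m => by
          apply Subtype.ext
          show MulAut.conjNormal ((1 : H) : G) m.1 = m.1
          rw [Subgroup.coe_one, map_one]
          rfl
        mul_smul := fun x y m => by
          apply Subtype.ext
          show MulAut.conjNormal ((x * y : H) : G) m.1 =
            MulAut.conjNormal (x : G) (MulAut.conjNormal (y : G) m.1)
          rw [Subgroup.coe_mul, map_mul]
          rfl }
    have hcard : ¬ p ∣ Nat.card Ω := by
      have h1 : Nat.card Ω = (MulAction.orbit (ConjAct N) n).ncard := by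
        rw [← Nat.card_coe_set_eq]
        apply Nat.card_congr
        exact Equiv.subtypeEquivRight (fun m => ConjAct.mem_orbit_conjAct.symm)
      rw [h1, ← MulAction.index_stabilizer]
      intro hdvd
      have h2 : p ∣ Nat.card (ConjAct N) := hdvd.trans (Subgroup.index_dvd_card _)
      have h3 : Nat.card (ConjAct N) = Nat.card N := Nat.card_congr ConjAct.ofConjAct.toEquiv
      rw [h3] at h2
      have := Nat.Coprime.eq_one_of_dvd hNp.symm h2
      exact hp.out.one_lt.ne' this
    obtain ⟨⟨m, hm⟩, hfix⟩ := hH.nonempty_fixed_point_of_prime_not_dvd_card Ω hcard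
    obtain ⟨c, hc⟩ := isConj_iff.mp hm
    refine ⟨c, ?_⟩
    have hcm : c⁻¹ * n * c = m := by
      rw [← hc]
      group
    rw [hcm, hC, Subgroup.mem_subgroupOf, Subgroup.mem_centralizer_iff]
    intro x hx
    have h1 := hfix ⟨x, hx⟩
    have h2 : (MulAut.conjNormal x m : N) = m := congrArg Subtype.val h1
    have h3 : x * (m : G) * x⁻¹ = m := by
      rw [← MulAut.conjNormal_apply]
      exact congrArg Subtype.val h2
    exact mul_inv_eq_iff_eq_mul.mp h3
  intro n hn x hx
  have hmem : (⟨n, hn⟩ : N) ∈ C := by rw [htop]; exact Subgroup.mem_top _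
  rw [hC, Subgroup.mem_subgroupOf, Subgroup.mem_centralizer_iff] at hmem
  exact hmem x hx

/-- A normal `p`-subgroup of a group whose irreducible character degrees are prime to `p` is
abelian. -/
theorem comm_of_normal_pgroup {G : Type u} [Group G] [Finite G] (p : ℕ) (hp : p.Prime)
    (Q : Subgroup G) [hQn : Q.Normal] (hQ : IsPGroup p Q)
    (hdeg : ∀ χ : IrrCharacter G, ¬ p ∣ charDegree (χ : G → ℂ)) :
    ∀ x ∈ Q, ∀ y ∈ Q, x * y = y * x := by
  classical
  haveI : Fact p.Prime := ⟨hp⟩
  letI : Fintype Q := Fintype.ofFinite Q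
  letI : Fintype (IrrCharacter Q) := irrFintype
  obtain ⟨k, hk⟩ := IsPGroup.iff_card.mp hQ
  have hone : ∀ ψ : IrrCharacter Q, charDegree (ψ : Q → ℂ) = 1 := by
    intro ψ
    have h1 : charDegree (ψ : Q → ℂ) ∣ p ^ k := by
      rw [← hk]
      exact charDegree_dvd_card ψ.2
    obtain ⟨j, -, hj⟩ := (Nat.dvd_prime_pow hp).mp h1
    rcases Nat.eq_zero_or_pos j with rfl | hjpos
    · rw [hj, pow_zero]
    · exfalso
      obtain ⟨χ, hχ⟩ := Cfsg.Agent.S0855.exists_over_dvd Q ψ
      apply hdeg χ
      refine Dvd.dvd.trans ?_ hχ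
      rw [hj]
      exact dvd_pow_self p hjpos.ne'
  have hcomm := comm_of_forall_charDegree_eq_one hone
  intro x hx y hy
  exact congrArg Subtype.val (hcomm ⟨x, hx⟩ ⟨y, hy⟩)

/-- The case of a normal `p`-complement. -/
theorem exists_of_normal_complement {G : Type u} [Group G] [Finite G] (p : ℕ) (hp : p.Prime)
    (N : Subgroup G) [hN : N.Normal] (hNp : (Nat.card N).Coprime p) (a : ℕ)
    (hidx : N.index = p ^ a) (hdeg : ∀ χ : IrrCharacter G, ¬ p ∣ charDegree (χ : G → ℂ)) :
    ∃ P : Subgroup G, P.Normal ∧ (∀ x ∈ P, ∀ y ∈ P, x * y = y * x) ∧ IsPGroup p P ∧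
      ¬ p ∣ P.index := by
  classical
  haveI : Fact p.Prime := ⟨hp⟩
  have hcop : Nat.Coprime (Nat.card N) N.index := by
    rw [hidx]
    exact Nat.Coprime.pow_right a hNp
  obtain ⟨H, hH⟩ := Subgroup.exists_right_complement'_of_coprime hcop
  have hcardH : Nat.card H = p ^ a := by
    have h1 := hH.card_mul_card
    have h2 := N.card_mul_index
    rw [← h2, hidx] at h1
    exact Nat.eq_of_mul_eq_mul_left Nat.card_pos h1
  have hHp : IsPGroup p H := IsPGroup.of_card hcardH
  have hHidx : ¬ p ∣ H.index := by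
    have h1 := hH.card_mul_card
    have h2 := H.card_mul_index
    have h3 : H.index = Nat.card N := by
      have : Nat.card H * H.index = Nat.card H * Nat.card N := by rw [h2, ← h1, mul_comm]
      exact Nat.eq_of_mul_eq_mul_left Nat.card_pos this
    rw [h3]
    intro hd
    exact hp.one_lt.ne' (Nat.Coprime.eq_one_of_dvd hNp.symm hd)
  have hinv := invariant_of_not_dvd p hp N a hidx hdeg
  have hconj := isConj_of_invariant N hinv
  have hcomm := commute_of_isConj p N H hNp hHp hconj
  have hHn : H.Normal := by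
    rw [← Subgroup.normalizer_eq_top_iff]
    have h1 : N ≤ Subgroup.normalizer (H : Set G) := by
      intro n hn
      rw [Subgroup.mem_normalizer_iff]
      intro x
      constructor
      · intro hx
        have := hcomm n hn x hx
        rw [← this, mul_inv_cancel_right]
        exact hx
      · intro hx
        have := hcomm n hn _ hx
        rw [inv_mul_cancel_right, mul_assoc n x] at this
        have h2 := mul_left_cancel this
        rw [h2, ← mul_assoc]
        exact hx
    have h2 : H ≤ Subgroup.normalizer (H : Set G) := Subgroup.le_normalizer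
    have h3 := hH.sup_eq_top
    rw [eq_top_iff, ← h3]
    exact sup_le h1 h2
  haveI := hHn
  exact ⟨H, hHn, comm_of_normal_pgroup p hp H hHp hdeg, hHp, hHidx⟩

/-- A nontrivial `p`-solvable group has a nontrivial normal subgroup which is a `p`-group or a
`p'`-group. -/
theorem exists_normal_pnum {G : Type u} [Group G] [Nontrivial G] (p : ℕ)
    (h : IsPSolvable p G) : ∃ N : Subgroup G, N.Normal ∧ N ≠ ⊥ ∧
      ((∃ m : ℕ, Nat.card N = p ^ m) ∨ (Nat.card N).Coprime p) := by
  classical
  obtain ⟨n, H, h0, hlast, hmono, hnorm, hstep⟩ := h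
  have hex : ∃ k : ℕ, ∃ hk : k < n + 1, H ⟨k, hk⟩ ≠ ⊥ := by
    refine ⟨n, Nat.lt_succ_self n, ?_⟩
    have : (⟨n, Nat.lt_succ_self n⟩ : Fin (n + 1)) = Fin.last n := rfl
    rw [this, hlast]
    exact top_ne_bot
  set k := Nat.find hex with hkdef
  obtain ⟨hk, hHk⟩ := Nat.find_spec hex
  have hk0 : k ≠ 0 := by
    intro hk0
    apply hHk
    have : (⟨k, hk⟩ : Fin (n + 1)) = 0 := by
      apply Fin.ext
      exact hk0
    rw [this, h0]
  obtain ⟨j, hj⟩ := Nat.exists_eq_succ_of_ne_zero hk0
  have hjn : j < n := by omega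
  have hHj : H ⟨j, by omega⟩ = ⊥ := by
    by_contra hne
    have := Nat.find_min' hex ⟨(by omega : j < n + 1), hne⟩
    omega
  have hs := hstep ⟨j, hjn⟩
  have e1 : (Fin.castSucc ⟨j, hjn⟩ : Fin (n + 1)) = ⟨j, by omega⟩ := rfl
  have e2 : (Fin.succ ⟨j, hjn⟩ : Fin (n + 1)) = ⟨k, hk⟩ := by
    apply Fin.ext
    simp [hj]
  rw [e1, e2, hHj, Subgroup.relIndex_bot_left] at hs
  exact ⟨H ⟨k, hk⟩, hnorm _, hHk, hs⟩

/-- The converse of Itô's theorem for `p`-solvable groups, by induction on the group order. -/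
theorem converse_aux (p : ℕ) (hp : p.Prime) (k : ℕ) : ∀ (G : Type u) [Group G] [Finite G],
    Nat.card G = k → IsPSolvable p G →
    (∀ χ : IrrCharacter G, ¬ p ∣ charDegree (χ : G → ℂ)) →
    ∃ P : Subgroup G, P.Normal ∧ (∀ x ∈ P, ∀ y ∈ P, x * y = y * x) ∧ IsPGroup p P ∧
      ¬ p ∣ P.index := by
  induction k using Nat.strong_induction_on with
  | _ k ih =>
  intro G _ _ hk hsolv hdeg
  classical
  haveI : Fact p.Prime := ⟨hp⟩
  rcases subsingleton_or_nontrivial G with hsub | hnt
  · refine ⟨⊥, inferInstance, ?_, IsPGroup.of_bot, ?_⟩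
    · intro x _ y _
      exact Subsingleton.elim _ _
    · rw [Subgroup.index_bot, Nat.card_unique]
      exact hp.one_lt.ne' ∘ Nat.dvd_one.mp
  obtain ⟨N, hNn, hNne, hNcase⟩ := exists_normal_pnum p hsolv
  haveI := hNn
  have hcardN : 1 < Nat.card N := by
    rw [Subgroup.one_lt_card_iff_ne_bot]
    exact hNne
  have hcardq : Nat.card (G ⧸ N) < k := by
    rw [← hk, ← Subgroup.index_eq_card, ← N.card_mul_index]
    have : 0 < N.index := Nat.pos_of_ne_zero Subgroup.index_ne_zero_of_finite
    nlinarith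
  have hdegq : ∀ ψ : IrrCharacter (G ⧸ N), ¬ p ∣ charDegree (ψ : G ⧸ N → ℂ) := by
    intro ψ
    have := hdeg ⟨(ψ : G ⧸ N → ℂ) ∘ (QuotientGroup.mk : G → G ⧸ N), isIrrCharacter_inflate N ψ.2⟩
    rw [charDegree_inflate] at this
    exact this
  obtain ⟨Qb, hQbn, hQbcomm, hQbp, hQbidx⟩ :=
    ih _ hcardq (G ⧸ N) rfl (Cfsg.Agent.Helper23.PSolv.isPSolvable_quotient N hsolv) hdegq
  set Q : Subgroup G := Qb.comap (QuotientGroup.mk' N) with hQ
  haveI hQn : Q.Normal := hQbn.comap _
  have hQidx : Q.index = Qb.index :=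
    Subgroup.index_comap_of_surjective Qb (QuotientGroup.mk'_surjective N)
  rcases hNcase with ⟨m, hm⟩ | hcop
  · -- `N` is a `p`-group: `Q` is a normal Sylow `p`-subgroup
    have hNp : IsPGroup p N := IsPGroup.of_card hm
    have hQp : IsPGroup p Q := by
      apply IsPGroup.comap_of_ker_isPGroup hQbp
      rw [QuotientGroup.ker_mk']
      exact hNp
    refine ⟨Q, hQn, comm_of_normal_pgroup p hp Q hQp hdeg, hQp, ?_⟩
    rw [hQidx]
    exact hQbidx
  · -- `N` is a `p'`-group
    by_cases hQtop : Q = ⊤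
    · have hQbtop : Qb = ⊤ := by
        rw [eq_top_iff]
        intro x _
        obtain ⟨g, rfl⟩ := QuotientGroup.mk_surjective x
        have : g ∈ Q := by rw [hQtop]; exact Subgroup.mem_top g
        exact this
      have hpq : IsPGroup p (G ⧸ N) := by
        intro x
        obtain ⟨j, hj⟩ := hQbp ⟨x, by rw [hQbtop]; exact Subgroup.mem_top x⟩
        exact ⟨j, congrArg Subtype.val hj⟩
      obtain ⟨a, ha⟩ := IsPGroup.iff_card.mp hpq
      rw [← Subgroup.index_eq_card] at ha
      exact exists_of_normal_complement p hp N hcop a ha hdeg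
    · have hcardQ : Nat.card Q < k := by
        rw [← hk]
        apply lt_of_le_of_ne (Subgroup.card_le_card_group Q)
        intro h
        exact hQtop (Subgroup.eq_top_of_card_eq Q h)
      have hdegQ : ∀ θ : IrrCharacter Q, ¬ p ∣ charDegree (θ : Q → ℂ) := by
        intro θ hθ
        obtain ⟨χ, hχ⟩ := Cfsg.Agent.S0855.exists_over_dvd Q θ
        exact hdeg χ (hθ.trans hχ)
      obtain ⟨P₀, hP₀n, hP₀comm, hP₀p, hP₀idx⟩ :=
        ih _ hcardQ Q rfl (Cfsg.Agent.Helper23.PSolv.isPSolvable_subgroup Q hsolv) hdegQ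
      haveI : (hP₀p.toSylow hP₀idx : Subgroup Q).Normal := by
        rw [IsPGroup.toSylow_coe]
        exact hP₀n
      have hchar : (hP₀p.toSylow hP₀idx : Subgroup Q).Characteristic :=
        Sylow.characteristic_of_normal _ inferInstance
      rw [IsPGroup.toSylow_coe] at hchar
      haveI := hchar
      refine ⟨P₀.map Q.subtype, inferInstance, ?_, hP₀p.map _, ?_⟩
      · rintro x ⟨x', hx', rfl⟩ y ⟨y', hy', rfl⟩
        have := hP₀comm x' hx' y' hy'
        rw [← map_mul, ← map_mul, this]
      · rw [Subgroup.index_map_subtype, hQidx]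
        intro h
        rcases hp.dvd_mul.mp h with h | h
        · exact hP₀idx h
        · exact hQbidx h

/-- Let p be a prime and G a finite p-solvable group. Then G has a normal abelian Sylow p-subgroup if and only if the degree of every irreducible character of G is prime to p. -/
theorem result {G : Type*} [Group G] [Finite G] (p : ℕ) [Fact p.Prime] (hsolv : Cfsg.IsPSolvable p G) (P : Sylow p G) : ((P : Subgroup G).Normal ∧ IsMulCommutative P) ↔ ∀ χ : Cfsg.IrrCharacter G, ¬ p ∣ Cfsg.charDegree (χ : G → ℂ) := by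
  classical
  have hp : p.Prime := Fact.out
  constructor
  · rintro ⟨hPn, hPcomm⟩ χ hχ
    letI : Fintype G := Fintype.ofFinite G
    haveI := hPn
    have hc : ∀ a ∈ (P : Subgroup G), ∀ b ∈ (P : Subgroup G), a * b = b * a := by
      intro a ha b hb
      exact congrArg Subtype.val (hPcomm.is_comm.comm ⟨a, ha⟩ ⟨b, hb⟩)
    have h1 := Cfsg.Agent.S0169.ito_aux (Nat.card G) G rfl (P : Subgroup G) hc (χ : G → ℂ) χ.2
    exact P.not_dvd_index (hχ.trans h1)
  · intro h
    obtain ⟨P₁, hP₁n, hP₁comm, hP₁p, hP₁idx⟩ := converse_aux p hp (Nat.card G) G rfl hsolv h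
    haveI := hP₁n
    have hle : P₁ ≤ (P : Subgroup G) := Cfsg.Agent.Helper23.PSolv.normal_pGroup_le_sylow P₁ hP₁p P
    have heq : (P : Subgroup G) = P₁ := by
      have := (hP₁p.toSylow hP₁idx).is_maximal' P.2 (by rw [IsPGroup.toSylow_coe]; exact hle)
      rw [this, IsPGroup.toSylow_coe]
    refine ⟨by rw [heq]; exact hP₁n, ⟨⟨fun a b => ?_⟩⟩⟩
    apply Subtype.ext
    have ha : (a : G) ∈ P₁ := by rw [← heq]; exact a.2
    have hb : (b : G) ∈ P₁ := by rw [← heq]; exact b.2
    exact hP₁comm a ha b hb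

end Cfsg.Agent.S4713
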