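import Mathlib
import Cfsg.Statements.S4715
import Cfsg.Agent.Lib.Helper23.BlockMajorHeight
import Cfsg.Agent.Lib.Helper18.PairBridge

set_option autoImplicit false
open Cfsg Cfsg.Agent.Helper23.Blk Cfsg.Agent.Helper24 Cfsg.Agent.Helper18 Cfsg.Agent.Helper18.PairRel
open scoped ComplexConjugate
set_option linter.style.haveILetI false

namespace Cfsg.Agent.S4715


theorem mem_normalizer_sup' {G : Type*} [Group G] [Fintype G] (P : Subgroup G) {g : G}
    (hg : g ∈ Subgroup.normalizer (P : Set G)) :
    g ∈ Subgroup.normalizer ((P ⊔ Subgroup.centralizer (P : Set G) : Subgroup G) : Set G) := by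
  apply mem_normalizer_of_map_conj_eq
  rw [Subgroup.map_sup, map_conj_eq_of_mem_normalizer hg,
    map_conj_eq_of_mem_normalizer (normalizer_le_normalizer_centralizer P hg)]

/-- Let p be a prime, M a maximal ideal of the algebraic integers containing p, B a p-block of the finite group G with defect group D of order p^d, H = D·C_G(D), b a block of H inducing B, T the stabilizer of b in N_G(D) and e = [T : H] the inertial index of B; let n be the integer with p^n ≤ e < p^(n+1) and p^c the order of the centre of D. Then every irreducible character in B has height h with h + c ≤ n + d. -/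
theorem result {G : Type*} [Group G] [Finite G] (p : ℕ) [Fact p.Prime] (M : Ideal Cfsg.AlgInt) (hM : Cfsg.IsPModular p M) (B : Set (Cfsg.IrrCharacter G)) (hB : Cfsg.IsPBlock M B) (D : Subgroup G) (hBD : Cfsg.IsDefectGroup p M B D) (d : ℕ) (hDd : Nat.card D = p ^ d) (H : Subgroup G) (hH : H = D ⊔ Subgroup.centralizer (D : Set G)) (b : Set (Cfsg.IrrCharacter H)) (hind : Cfsg.IsInducedBlock M H b B) (T : Subgroup G) (hT : ∀ g : G, g ∈ T ↔ (g ∈ Subgroup.normalizer (D : Set G) ∧ ∀ θ ∈ b, ∀ θ' : Cfsg.IrrCharacter H, (∀ h h' : H, (h' : G) = g * h * g⁻¹ → (θ' : H → ℂ) h' = (θ : H → ℂ) h) → θ' ∈ b)) (e : ℕ) (he : H.relIndex T = e) (n : ℕ) (hn : p ^ n ≤ e ∧ e < p ^ (n + 1)) (c : ℕ) (hc : Nat.card (Subgroup.center D) = p ^ c) : ∀ χ ∈ B, Cfsg.blockHeight p B (χ : G → ℂ) + c ≤ n + d := by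
  classical
  haveI : Fintype G := Fintype.ofFinite G
  haveI : Fintype H := Fintype.ofFinite H
  haveI hMp : M.IsPrime := hM.2.1.isPrime
  have hp : p.Prime := hM.1
  have hP : IsPGroup p D := isPGroup_of_isDefectGroup hM hBD
  have hb : IsPBlock M b := hind.1
  obtain ⟨eD, heD, hbe, hpair⟩ := exists_block_centralizer_of_block_sup hM hP hH hb
  have hBe : IsBrauerPairOf p M B D eD := hpair B hind
  have hPH : D ≤ H := hH ▸ le_sup_left
  have hCH : Subgroup.centralizer (D : Set G) ≤ H := hH ▸ le_sup_right
  have hne : eD.Nonempty := block_nonempty hM heD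
  have hgHof : ∀ g, g ∈ Subgroup.normalizer (D : Set G) →
      g ∈ Subgroup.normalizer (H : Set G) := by
    intro g hg
    rw [hH]
    exact mem_normalizer_sup' D hg
  have hTe : ∀ g : G, g ∈ T ↔ g ∈ Subgroup.normalizer (D : Set G) ∧
      StabilizesBlock (Subgroup.centralizer (D : Set G)) eD g := by
    intro g
    rw [hT g]
    constructor
    · rintro ⟨hgP, hcond⟩
      refine ⟨hgP, ?_⟩
      have hgH := hgHof g hgP
      have hgC := normalizer_le_normalizer_centralizer D hgP
      have himg : Cfsg.Agent.Helper24.conjIrr H g hgH '' b = b := by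
        obtain ⟨θ, hθ⟩ := block_nonempty hM hb
        apply isPBlock_eq_of_mem (isPBlock_image_conjIrr H hgH hb) hb ⟨θ, hθ, rfl⟩
        apply hcond θ hθ
        intro h h' hh
        rw [Cfsg.Agent.Helper24.conjIrr_apply]
        apply congrArg (θ : H → ℂ)
        apply Subtype.ext
        rw [Cfsg.Agent.Helper24.normConj_apply, hh]
        group
      have h2 := (image_conjIrr_eq_iff_of_blockCoeff_eq hCH hbe hgH hgC).1 himg
      exact stabilizesBlock_of_image_subset _ hgC (le_of_eq h2)
    · rintro ⟨hgP, hst⟩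
      refine ⟨hgP, ?_⟩
      have hgH := hgHof g hgP
      have hgC := normalizer_le_normalizer_centralizer D hgP
      have h2 : Cfsg.Agent.Helper24.conjIrr (Subgroup.centralizer (D : Set G)) g hgC '' eD = eD :=
        image_conjIrr_eq_of_stabilizes _ heD hne hst
      have himg := (image_conjIrr_eq_iff_of_blockCoeff_eq hCH hbe hgH hgC).2 h2
      intro θ hθ θ' hrel
      have h3 : θ' = Cfsg.Agent.Helper24.conjIrr H g hgH θ := by
        apply Subtype.ext
        funext h'
        rw [Cfsg.Agent.Helper24.conjIrr_apply]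
        apply hrel
        rw [Cfsg.Agent.Helper24.normConj_apply]
        group
      rw [h3, ← himg]
      exact ⟨θ, hθ, rfl⟩
  intro χ hχ
  have key := card_center_mul_pow_height_le hM hBe hBD T hTe H hH hχ
  have hdB : blockDefect p B = d := by
    have h1 := card_defectGroup hM hB hBD
    rw [hDd] at h1
    exact (Nat.pow_right_injective hp.two_le h1).symm
  rw [hc, hdB, he] at key
  have h2 : p ^ (c + blockHeight p B (χ : G → ℂ)) < p ^ (d + (n + 1)) := by
    rw [pow_add, pow_add]
    calc p ^ c * p ^ blockHeight p B (χ : G → ℂ) ≤ p ^ d * e := key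
      _ < p ^ d * p ^ (n + 1) := Nat.mul_lt_mul_of_pos_left hn.2 (pow_pos hp.pos d)
  have h3 := (Nat.pow_lt_pow_iff_right hp.one_lt).1 h2
  omega

end Cfsg.Agent.S4715
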