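import Mathlib
import Cfsg.Statements.S4716
import Cfsg.Agent.Lib.Helper23.BlockContrib3
import Cfsg.Agent.Lib.Helper23.GaloisWeighted
import Cfsg.Agent.Lib.Helper23.BlockHeightZero5
import Cfsg.Agent.Lib.Helper23.BlockTrace

set_option autoImplicit false
open Cfsg Cfsg.Agent.Helper23.Blk Cfsg.Agent.Helper24 Cfsg.Agent.Helper18
open scoped ComplexConjugate
set_option linter.style.haveILetI false

namespace Cfsg.Agent.S4716


theorem centralizer_pow_eq_of_coprime_orderOf {G : Type*} [Group G] {g : G} {k : ℕ}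
    (hk : Nat.Coprime k (orderOf g)) :
    Subgroup.centralizer ({g ^ k} : Set G) = Subgroup.centralizer ({g} : Set G) := by
  obtain ⟨m, hm⟩ := exists_pow_eq_self_of_coprime hk
  ext x
  simp only [Subgroup.mem_centralizer_iff, Set.mem_singleton_iff, forall_eq]
  constructor
  · intro h
    have hc : Commute (g ^ k) x := h
    have := hc.pow_left m
    rw [hm] at this
    exact this
  · intro h
    have hc : Commute g x := h
    exact hc.pow_left k

set_option maxHeartbeats 3200000 in
/-- Let p be a prime, M a maximal ideal of the algebraic integers containing p, and B a p-block of defect d of the finite group G all of whose irreducible characters have height zero. Let y be a p-element, C = C_G(y), and b a block of C inducing B and having the same defect d (a major subsection). Then k(B)^2 ≤ p^(2d)·l(b), where k(B) is the number of irreducible characters in B and l(b) the p-regular rank of b (its number of irreducible Brauer characters); in particular (y = 1) k(B)^2 ≤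 p^(2d)·l(B). -/
theorem result {G : Type*} [Group G] [Finite G] (p : ℕ) [Fact p.Prime] (M : Ideal Cfsg.AlgInt) (hM : Cfsg.IsPModular p M) (B : Set (Cfsg.IrrCharacter G)) (hB : Cfsg.IsPBlock M B) (d : ℕ) (hd : Cfsg.blockDefect p B = d) (hh : ∀ χ ∈ B, Cfsg.blockHeight p B (χ : G → ℂ) = 0) (y : G) (hy : ∃ k : ℕ, orderOf y = p ^ k) (b : Set (Cfsg.IrrCharacter ↥(Subgroup.centralizer ({y} : Set G)))) (hind : Cfsg.IsInducedBlock M (Subgroup.centralizer ({y} : Set G)) b B) (hbd : Cfsg.blockDefect p b = d) : Nat.card B ^ 2 ≤ p ^ (2 * d) * Cfsg.blockRank p b := by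
  classical
  haveI : Fintype G := Fintype.ofFinite G
  letI : Fintype (IrrCharacter G) := irrFintype
  haveI : Fintype (Subgroup.centralizer ({y} : Set G)) := Fintype.ofFinite _
  letI : Fintype (IrrCharacter (Subgroup.centralizer ({y} : Set G))) := irrFintype
  haveI : Fintype B := Fintype.ofFinite B
  haveI hMp : M.IsPrime := hM.2.1.isPrime
  have hp : p.Prime := hM.1
  have hb : IsPBlock M b := hind.1
  have hyH : y ∈ Subgroup.centralizer ({y} : Set G) := by
    rw [Subgroup.mem_centralizer_iff]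
    intro h hh
    rw [Set.mem_singleton_iff] at hh
    rw [hh]
  set Y : Subgroup.centralizer ({y} : Set G) := ⟨y, hyH⟩ with hY
  have hYc : Y ∈ Subgroup.center (Subgroup.centralizer ({y} : Set G)) := by
    rw [Subgroup.mem_center_iff]
    intro c
    apply Subtype.ext
    push_cast
    exact (Subgroup.mem_centralizer_iff.1 c.2 y rfl).symm
  have hYcoe : ∀ k : ℕ, (((Y ^ k : Subgroup.centralizer ({y} : Set G))) : G) = y ^ k := by
    intro k
    push_cast
    rfl
  set n := orderOf y with hn'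
  have hn : 0 < n := orderOf_pos y
  have hYn : orderOf Y = n := by
    rw [← Subgroup.orderOf_coe]
  obtain ⟨j, hj⟩ := hy
  -- the multiplicities
  have hdecomp : ∀ χ : IrrCharacter G, ∃ m : IrrCharacter (Subgroup.centralizer ({y} : Set G)) → ℕ,
      (∀ ξ : IrrCharacter (Subgroup.centralizer ({y} : Set G)),
        classInner (fun c : Subgroup.centralizer ({y} : Set G) => (χ : G → ℂ) (c : G))
          (ξ : Subgroup.centralizer ({y} : Set G) → ℂ) = m ξ) ∧
      (fun c : Subgroup.centralizer ({y} : Set G) => (χ : G → ℂ) (c : G)) =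
        ∑ ξ : IrrCharacter (Subgroup.centralizer ({y} : Set G)),
          (m ξ : ℂ) • (ξ : Subgroup.centralizer ({y} : Set G) → ℂ) := by
    intro χ
    obtain ⟨hm, hdec⟩ := isCharacter_decomp
      (isCharacter_restrict (Subgroup.centralizer ({y} : Set G))
        (isCharacter_of_isIrrCharacter χ.2))
    choose m hm using hm
    refine ⟨m, hm, ?_⟩
    conv_lhs => rw [hdec]
    apply Finset.sum_congr rfl
    intro ξ _
    rw [hm ξ]
  choose a ha hadec using hdecomp
  -- roots of unity and weights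
  set μ : IrrCharacter (Subgroup.centralizer ({y} : Set G)) ×
      IrrCharacter (Subgroup.centralizer ({y} : Set G)) → ℂ :=
    fun i => cRatio (i.1 : Subgroup.centralizer ({y} : Set G) → ℂ) Y *
      conj (cRatio (i.2 : Subgroup.centralizer ({y} : Set G) → ℂ) Y) with hμ
  have hμn : ∀ i, μ i ^ n = 1 := by
    intro i
    simp only [hμ]
    rw [mul_pow, ← map_pow, ← hYn, cRatio_pow_orderOf i.1.2 hYc, cRatio_pow_orderOf i.2.2 hYc,
      map_one, mul_one]
  set w : IrrCharacter G → IrrCharacter G →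
      IrrCharacter (Subgroup.centralizer ({y} : Set G)) ×
      IrrCharacter (Subgroup.centralizer ({y} : Set G)) → ℤ :=
    fun χ ψ i => (a χ i.1 : ℤ) * (a ψ i.2 : ℤ) * nRed p b i.1 i.2 with hw
  -- the explicit form of the contributions
  have hkey : ∀ (k : ℕ) (χ ψ : IrrCharacter G),
      ((p ^ d : ℕ) : ℂ) * contrib p (Subgroup.centralizer ({y} : Set G)) (y ^ k) b
        (χ : G → ℂ) (ψ : G → ℂ) = ∑ i, (w χ ψ i : ℂ) * μ i ^ k := by
    intro k χ ψ
    have h1 := contrib_eq_sum hM (Subgroup.centralizer ({y} : Set G)) hb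
      (Subgroup.pow_mem _ hYc k) (a χ) (a ψ) (ha χ) (ha ψ)
    rw [hYcoe k, hbd] at h1
    rw [h1, Fintype.sum_prod_type]
    apply Finset.sum_congr rfl
    intro ξ _
    apply Finset.sum_congr rfl
    intro ξ' _
    simp only [hw, hμ]
    rw [cRatio_pow ξ.2 hYc, cRatio_pow ξ'.2 hYc, mul_pow, map_pow]
    push_cast
    ring
  -- nonvanishing
  have hμ1 : ∀ ξ ξ' : IrrCharacter (Subgroup.centralizer ({y} : Set G)),
      MemLocalIdeal M (μ (ξ, ξ') - 1) := by
    intro ξ ξ'
    apply memLocalIdeal_sub_one_of_pow_eq_one hM (k := j)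
    rw [← hj]
    exact hμn _
  have hW : ∀ φ : IrrCharacter G, φ ∈ B →
      ∀ ξ₀ ∈ b, ¬ MemLocalIdeal M (omega (ξ₀ : Subgroup.centralizer ({y} : Set G) → ℂ)
        (conjReg p (fun c : Subgroup.centralizer ({y} : Set G) => (φ : G → ℂ) (c : G)))) := by
    intro φ hφ ξ₀ hξ₀
    have := (omega_restrict_conjReg hM (Subgroup.centralizer ({y} : Set G)) hind φ hξ₀).2 hφ
      (hh φ hφ)
    rwa [conjReg_restrict_eq] at this
  have hne : ∀ χ ∈ B, ∀ ψ ∈ B, (∑ i, (w χ ψ i : ℂ) * μ i) ≠ 0 := by
    intro χ hχ ψ hψ h0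
    have hnv := weighted_sum_not_memLocalIdeal hM hb
      (isCharacter_restrict (Subgroup.centralizer ({y} : Set G))
        (isCharacter_of_isIrrCharacter χ.2))
      (isCharacter_restrict (Subgroup.centralizer ({y} : Set G))
        (isCharacter_of_isIrrCharacter ψ.2))
      (a χ) (a ψ) (hadec χ) (hadec ψ) (hW χ hχ) (hW ψ hψ) (fun ξ ξ' => μ (ξ, ξ')) hμ1
    apply hnv
    have : (∑ ξ : IrrCharacter (Subgroup.centralizer ({y} : Set G)),
        ∑ ξ' : IrrCharacter (Subgroup.centralizer ({y} : Set G)),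
        ((a χ ξ : ℂ) * (a ψ ξ' : ℂ) * (nRed p b ξ ξ' : ℂ)) * μ (ξ, ξ')) =
        ∑ i, (w χ ψ i : ℂ) * μ i := by
      rw [Fintype.sum_prod_type]
      apply Finset.sum_congr rfl
      intro ξ _
      apply Finset.sum_congr rfl
      intro ξ' _
      simp only [hw]
      push_cast
      ring
    rw [this, h0]
    exact memLocalIdeal_zero ne_top
  set J := (Finset.range n).filter (fun k => Nat.Coprime k n) with hJ
  -- the bound for each `k`
  have hbound : ∀ k ∈ J, ∑ χ : B, ∑ ψ : B,
      ‖∑ i, (w (χ : IrrCharacter G) (ψ : IrrCharacter G) i : ℂ) * μ i ^ k‖ ^ 2 ≤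
      ((p : ℝ) ^ (2 * d)) * (blockRank p b : ℝ) := by
    intro k hk
    have hkc : Nat.Coprime k n := (Finset.mem_filter.1 hk).2
    have hcent : Subgroup.centralizer ({y} : Set G) = Subgroup.centralizer ({y ^ k} : Set G) :=
      (centralizer_pow_eq_of_coprime_orderOf hkc).symm
    have hzk : ∃ j : ℕ, orderOf (y ^ k) = p ^ j := by
      rw [Nat.Coprime.orderOf_pow hkc.symm]
      exact ⟨j, hj⟩
    have h1 := sum_contrib_normSq_le hM hzk (Subgroup.centralizer ({y} : Set G)) hcent hind
    have h2 : ∑ χ : B, ∑ ψ : B,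
        ‖∑ i, (w (χ : IrrCharacter G) (ψ : IrrCharacter G) i : ℂ) * μ i ^ k‖ ^ 2 =
        ((p : ℝ) ^ (2 * d)) * ∑ χ : B, ∑ ψ : B,
          ‖contrib p (Subgroup.centralizer ({y} : Set G)) (y ^ k) b
            ((χ : IrrCharacter G) : G → ℂ) ((ψ : IrrCharacter G) : G → ℂ)‖ ^ 2 := by
      rw [Finset.mul_sum]
      apply Finset.sum_congr rfl
      intro χ _
      rw [Finset.mul_sum]
      apply Finset.sum_congr rfl
      intro ψ _
      rw [← hkey k χ ψ, norm_mul, mul_pow, Complex.norm_natCast]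
      push_cast
      rw [← pow_mul, mul_comm d 2]
    rw [h2]
    exact mul_le_mul_of_nonneg_left h1 (by positivity)
  -- the Galois average
  have hgal : ∀ χ : B, ∀ ψ : B, (J.card : ℝ) ≤ ∑ k ∈ J,
      ‖∑ i, (w (χ : IrrCharacter G) (ψ : IrrCharacter G) i : ℂ) * μ i ^ k‖ ^ 2 := by
    intro χ ψ
    exact Cfsg.Agent.Helper23.card_le_sum_normSq_weighted hn (w χ ψ) μ hμn
      (hne χ χ.2 ψ ψ.2)
  have hJpos : 0 < J.card := by
    rw [Finset.card_pos]
    by_cases h1 : n = 1
    · refine ⟨0, Finset.mem_filter.2 ⟨Finset.mem_range.2 hn, ?_⟩⟩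
      rw [h1]
      exact Nat.coprime_one_right 0
    · refine ⟨1, Finset.mem_filter.2 ⟨Finset.mem_range.2 (by omega), Nat.coprime_one_left n⟩⟩
  -- combine
  have hfin : ((Nat.card B : ℝ)) ^ 2 * (J.card : ℝ) ≤
      (J.card : ℝ) * (((p : ℝ) ^ (2 * d)) * (blockRank p b : ℝ)) := by
    calc ((Nat.card B : ℝ)) ^ 2 * (J.card : ℝ)
        = ∑ χ : B, ∑ ψ : B, (J.card : ℝ) := by
          rw [Finset.sum_const, Finset.sum_const, Finset.card_univ, Nat.card_eq_fintype_card]
          simp only [nsmul_eq_mul]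
          ring
      _ ≤ ∑ χ : B, ∑ ψ : B, ∑ k ∈ J,
          ‖∑ i, (w (χ : IrrCharacter G) (ψ : IrrCharacter G) i : ℂ) * μ i ^ k‖ ^ 2 := by
          apply Finset.sum_le_sum
          intro χ _
          apply Finset.sum_le_sum
          intro ψ _
          exact hgal χ ψ
      _ = ∑ k ∈ J, ∑ χ : B, ∑ ψ : B,
          ‖∑ i, (w (χ : IrrCharacter G) (ψ : IrrCharacter G) i : ℂ) * μ i ^ k‖ ^ 2 := by
          have h3 : ∀ χ : B, ∑ ψ : B, ∑ k ∈ J,
              ‖∑ i, (w (χ : IrrCharacter G) (ψ : IrrCharacter G) i : ℂ) * μ i ^ k‖ ^ 2 =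
              ∑ k ∈ J, ∑ ψ : B,
              ‖∑ i, (w (χ : IrrCharacter G) (ψ : IrrCharacter G) i : ℂ) * μ i ^ k‖ ^ 2 :=
            fun χ => Finset.sum_comm
          rw [Finset.sum_congr rfl (fun χ _ => h3 χ)]
          exact Finset.sum_comm
      _ ≤ ∑ k ∈ J, (((p : ℝ) ^ (2 * d)) * (blockRank p b : ℝ)) :=
          Finset.sum_le_sum hbound
      _ = (J.card : ℝ) * (((p : ℝ) ^ (2 * d)) * (blockRank p b : ℝ)) := by
          rw [Finset.sum_const, nsmul_eq_mul]
  have hJpos' : (0 : ℝ) < (J.card : ℝ) := by exact_mod_cast hJpos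
  have hfin2 : ((Nat.card B : ℝ)) ^ 2 ≤ ((p : ℝ) ^ (2 * d)) * (blockRank p b : ℝ) := by
    rw [mul_comm] at hfin
    exact le_of_mul_le_mul_left hfin hJpos'
  exact_mod_cast hfin2

end Cfsg.Agent.S4716
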