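import Mathlib
import Cfsg.Statements.S4717
import Cfsg.Agent.S0917
import Cfsg.Agent.S0936
import Cfsg.Agent.Lib.Helper23.BlockMajor
import Cfsg.Agent.Lib.Helper18.FongReynolds

set_option autoImplicit false
open Cfsg Cfsg.Agent.Helper23.Blk Cfsg.Agent.Helper24 Cfsg.Agent.Helper18
open scoped ComplexConjugate

namespace Cfsg.Agent.S4717

/-- Let p be a prime, M a maximal ideal of the algebraic integers containing p, and r a natural number; say that a finite group X has deficiency class r when X has no non-principal p-block of defect ≥ r. If G has deficiency class r then so does the centralizer of every p-element of G; conversely, if r > 0 and the centralizer of every element of order p has deficiency class r, then G has deficiency class r. -/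
theorem result {G : Type*} [Group G] [Finite G] (p : ℕ) [Fact p.Prime] (M : Ideal Cfsg.AlgInt) (hM : Cfsg.IsPModular p M) (r : ℕ) : ((∀ B' : Set (Cfsg.IrrCharacter G), Cfsg.IsPBlock M B' → B' ≠ Cfsg.principalBlock M G → Cfsg.blockDefect p B' < r) → ∀ y : G, (∃ k : ℕ, orderOf y = p ^ k) → (∀ B' : Set (Cfsg.IrrCharacter ↥(Subgroup.centralizer ({y} : Set G))), Cfsg.IsPBlock M B' → B' ≠ Cfsg.principalBlock M ↥(Subgroup.centralizer ({y} : Set G)) → Cfsg.blockDefect p B' < r)) ∧ (0 < r → (∀ y : G, orderOf y = p → (∀ B' : Set (Cfsg.IrrCharacter ↥(Subgroup.centralizer ({y} : Set G))), Cfsg.IsPBlock M B' → B' ≠ Cfsg.principalBlock M ↥(Subgroup.centralizer ({y} : Set G)) → Cfsg.blockDefect p B' < r)) → (∀ B' : Set (Cfsg.IrrCharacter G), Cfsg.IsPBlock M B' → B' ≠ Cfsg.principalBlock M G → Cfsg.blockDefect p B' < r)) := by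
  classical
  haveI : Fintype G := Fintype.ofFinite G
  have hp : p.Prime := hM.1
  haveI hMp : M.IsPrime := isPrime_of_isPModular hM
  constructor
  · intro hG y hy B' hB' hne
    obtain ⟨B, hind⟩ := exists_isInducedBlock_centralizer hM hy hB'
    have hBne : B ≠ principalBlock M G := by
      intro hBe
      apply hne
      rw [hBe] at hind
      exact (Cfsg.Agent.S0936.result p M hM _ B' ⟨_, hind⟩).1 hind
    have hlt := hG B hind.2.1 hBne
    obtain ⟨D', hD'⟩ := exists_isDefectGroup hM hB'
    obtain ⟨E, hE, hle⟩ := Cfsg.Agent.S0917.result p M hM _ B' hB' B hind.2.1 hind D' hD'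
    have h1 : Nat.card D' = p ^ blockDefect p B' := card_defectGroup hM hB' hD'
    have h2 : Nat.card E = p ^ blockDefect p B := card_defectGroup hM hind.2.1 hE
    have h3 : Nat.card (D'.map (Subgroup.centralizer ({y} : Set G)).subtype) = Nat.card D' :=
      Subgroup.card_map_of_injective (Subgroup.subtype_injective _)
    have h4 : Nat.card (D'.map (Subgroup.centralizer ({y} : Set G)).subtype) ≤ Nat.card E :=
      Nat.le_of_dvd Nat.card_pos (Subgroup.card_dvd_of_le hle)
    rw [h3, h1, h2] at h4
    have h5 : blockDefect p B' ≤ blockDefect p B :=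
      (Nat.pow_le_pow_iff_right hp.one_lt).1 h4
    omega
  · intro hr hC B hB hne
    by_contra hge
    push Not at hge
    obtain ⟨D, hD⟩ := exists_isDefectGroup hM hB
    have hDp : IsPGroup p D := isPGroup_of_isDefectGroup hM hD
    have hcardD : Nat.card D = p ^ blockDefect p B := card_defectGroup hM hB hD
    haveI : Nontrivial D := by
      rw [← Finite.one_lt_card_iff_nontrivial, hcardD]
      exact Nat.one_lt_pow (by omega) hp.one_lt
    haveI : Nontrivial (Subgroup.center D) := hDp.center_nontrivial
    have hcp : IsPGroup p (Subgroup.center D) := hDp.to_subgroup _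
    obtain ⟨k, hk⟩ := hcp.exists_card_eq
    have hk0 : k ≠ 0 := by
      rintro rfl
      have h1 : 1 < Nat.card (Subgroup.center D) := Finite.one_lt_card
      rw [pow_zero] at hk
      omega
    have hdvd : p ∣ Nat.card (Subgroup.center D) := by
      rw [hk]
      exact dvd_pow_self p hk0
    obtain ⟨z, hz⟩ := exists_prime_orderOf_dvd_card' p hdvd
    set y : G := ((z : D) : G) with hy
    have hyo : orderOf y = p := by
      rw [hy, Subgroup.orderOf_coe, Subgroup.orderOf_coe, hz]
    have hyD : y ∈ D := (z : D).2
    have hyc : ∀ w ∈ D, y * w = w * y := by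
      intro w hw
      have h1 := Subgroup.mem_center_iff.1 z.2 ⟨w, hw⟩
      have h2 := congrArg (fun t : D => (t : G)) h1
      simp only [Subgroup.coe_mul] at h2
      exact h2.symm
    obtain ⟨b, hind, hdef⟩ := exists_major_subsection hM hB hD hyD hyc
    have hb0 : b = principalBlock M (Subgroup.centralizer ({y} : Set G)) := by
      by_contra hbne
      have := hC y hyo b hind.1 hbne
      omega
    rw [hb0] at hind
    have h0 := (Cfsg.Agent.S0936.result p M hM _
      (principalBlock M (Subgroup.centralizer ({y} : Set G))) ⟨_, hind⟩).2 rfl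
    exact hne (Cfsg.Agent.Helper18.FR.isInducedBlock_unique _ hM hind h0)

end Cfsg.Agent.S4717
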