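import Mathlib
import Cfsg.Statements.S4718
import Cfsg.Agent.Lib.Helper23.BlockRows
import Cfsg.Agent.Lib.Helper5.Landau
import Cfsg.Agent.S0133

set_option autoImplicit false
universe u
open Cfsg

namespace Cfsg.Agent.S4718

open Cfsg.Agent.Helper23.Blk Cfsg.Agent.Helper24

/-- Let p be a prime and a a natural number. There is a bound N such that every finite group whose Sylow p-subgroups have order p^a and whose only p-block (relative to a maximal ideal of the algebraic integers containing p) is the principal block has order at most N. -/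
theorem result (p : ℕ) [Fact p.Prime] (a : ℕ) : ∃ N : ℕ, ∀ (G : Type u) [Group G] [Finite G] (M : Ideal Cfsg.AlgInt), Cfsg.IsPModular p M → (Nat.card G).factorization p = a → (∀ B : Set (Cfsg.IrrCharacter G), Cfsg.IsPBlock M B → B = Cfsg.principalBlock M G) → Nat.card G ≤ N := by
  classical
  have hp : p.Prime := Fact.out
  obtain ⟨N, hN⟩ := Cfsg.Agent.Helper5.Landau.landau.{u} (p ^ (2 * a) + 4)
  refine ⟨N, ?_⟩
  intro G _ _ M hM ha hall
  haveI : Fintype G := Fintype.ofFinite G
  haveI hMp : M.IsPrime := hM.2.1.isPrime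
  letI : Fintype (IrrCharacter G) := irrFintype
  apply hN G
  rw [← Cfsg.Agent.S0133.result]
  set B₀ := principalBlock M G with hB₀
  have hB : IsPBlock M B₀ := isPBlock_principalBlock
  have huniv : B₀ = Set.univ := by
    ext χ
    simp only [Set.mem_univ, iff_true]
    have h1 : blockOf M (χ : G → ℂ) = B₀ := hall _ ⟨χ, rfl⟩
    rw [← h1]
    exact mem_blockOf_self χ
  have hBF := sum_pow_height_le (p := p) hM hB
  have hdef : blockDefect p B₀ ≤ a := by
    rw [blockDefect_eq_sub_minVal, ha]
    exact Nat.sub_le _ _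
  have hcard : Nat.card (IrrCharacter G) ≤ ∑ᶠ χ ∈ B₀, p ^ (2 * blockHeight p B₀ (χ : G → ℂ)) := by
    rw [huniv]
    rw [finsum_mem_univ, finsum_eq_sum_of_fintype, Nat.card_eq_fintype_card, Fintype.card,
      Finset.card_eq_sum_ones]
    apply Finset.sum_le_sum
    intro χ _
    exact Nat.one_le_pow _ _ hp.pos
  have hpow : p ^ (2 * blockDefect p B₀) ≤ p ^ (2 * a) :=
    Nat.pow_le_pow_right hp.pos (by omega)
  omega

end Cfsg.Agent.S4718
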