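import Mathlib
import Cfsg.Statements.S4721
import Cfsg.Agent.Lib.Helper7.Frob10
import Cfsg.Agent.Lib.Helper7.Frob14

set_option autoImplicit false
open Cfsg

namespace Cfsg.Agent.S4721

/-- Let p be a prime, M a maximal ideal of the algebraic integers containing p, and G a finite group with a nontrivial abelian Sylow p-subgroup P, N = N_G(P), C = C_G(P), such that N/C is cyclic of order 3, #P > 4, and C_G(y) ∩ N = C for every non-identity y ∈ P. Then the principal p-block is the disjoint union of a set X of exactly 3 characters containing the principal character and a set Y of (#P − 1)/3 characters, with signs a_χ = ±1 (χ ∈ X, a = 1 at the principal character) and δ = ±1 such that every χ ∈ X takes the value a_χ at every element whose p-part is a non-identity element of P, and there is a map ζ from the non-principal linear characters of P onto Y, constant on N-conjugacy classes, with ζ_ψ(z) = δ·Σ ψ'(y) over the N-orbit of ψ, for z with p-part y ≠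 1 in P. If moreover G has an involution lying in no proper normal subgroup of G, then exactly two of the three numbers −δ and a_χ (χ ∈ X non-principal) equal −1, and the product of the degrees of the two non-principal members of X and of any member of Y is a perfect square. -/
theorem result {G : Type*} [Group G] [Finite G] (p : ℕ) [Fact p.Prime] (M : Ideal Cfsg.AlgInt) (hM : Cfsg.IsPModular p M) (P : Sylow p G) (hab : IsMulCommutative P) (hP1 : Nat.card P ≠ 1) (hCN : (Subgroup.centralizer ((P : Subgroup G) : Set G)).relIndex (Subgroup.normalizer ((P : Subgroup G) : Set G)) = 3) (hcyc : ∃ g : G, g ∈ Subgroup.normalizer ((P : Subgroup G) : Set G) ∧ Subgroup.centralizer ((P : Subgroup G) : Set G) ⊔ Subgroup.zpowers g = Subgroup.normalizer ((P : Subgroup G) : Set G)) (hm2 : 3 + 1 < Nat.card P) (hfrob : ∀ y : G, y ∈ (P : Subgroup G) → y ≠ 1 → Subgroup.centralizer ({y} : Set G) ⊓ Subgroup.normalizer ((P : Subgroup G) : Set G) = Subgroup.centralizer ((P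 : Subgroup G) : Set G)) : ∃ (X Y : Set (Cfsg.IrrCharacter G)), Cfsg.principalBlock M G = X ∪ Y ∧ Disjoint X Y ∧ Nat.card X = 3 ∧ Nat.card Y = (Nat.card P - 1) / 3 ∧ (∃ χ₁ ∈ X, (χ₁ : G → ℂ) = fun _ => 1) ∧ ∃ (a : Cfsg.IrrCharacter G → ℤ) (δ : ℤ) (ζ : (↥(P : Subgroup G) →* ℂˣ) → Cfsg.IrrCharacter G), (δ = 1 ∨ δ = -1) ∧ (∀ χ ∈ X, (a χ = 1 ∨ a χ = -1) ∧ ∀ z y : G, Cfsg.IsPPart p z y → y ∈ (P : Subgroup G) → y ≠ 1 → (χ : G → ℂ) z = (a χ : ℂ)) ∧ (∀ ψ : ↥(P : Subgroup G) →* ℂˣ, ψ ≠ 1 → ζ ψ ∈ Y) ∧ (∀ η ∈ Y, ∃ ψ : ↥(P : Subgroup G) →* ℂˣ, ψ ≠ 1 ∧ ζ ψ = η) ∧ (∀ ψ ψ' : ↥(P : Subgroup G) →* ℂˣ, ψ ≠ 1 → (∃ n : G, n ∈ Subgroup.normalizer ((P : Subgroup G) : Set G) ∧ ∀ w w' : ↥(P : Subgroup G), (w' : G) = n * w * n⁻¹ → ψ' w' = ψ w) → ζ ψ' = ζ ψ) ∧ (∀ ψ : ↥(P : Subgroup G) →* ℂˣ, ψ ≠ 1 → ∀ (z : G) (y : ↥(P : Subgroup G)), Cfsg.IsPPart p z (y : G) → (y : G) ≠ 1 → (ζ ψ : G → ℂ) z = (δ : ℂ) * ∑ᶠ ψ' ∈ {ψ' : ↥(P : Subgroup G) →* ℂˣ | ∃ n : G, n ∈ Subgroup.normalizer ((P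 : Subgroup G) : Set G) ∧ ∀ w w' : ↥(P : Subgroup G), (w' : G) = n * w * n⁻¹ → ψ' w' = ψ w}, ((ψ' y : ℂˣ) : ℂ)) ∧ ((∃ t : G, orderOf t = 2 ∧ ∀ K : Subgroup G, K.Normal → t ∈ K → K = ⊤) → Nat.card {χ : Cfsg.IrrCharacter G // χ ∈ X ∧ (χ : G → ℂ) ≠ (fun _ => 1) ∧ a χ = -1} + (if δ = 1 then 1 else 0) = 2 ∧ ∀ η ∈ Y, IsSquare (Cfsg.charDegree (η : G → ℂ) * ∏ᶠ χ ∈ {χ : Cfsg.IrrCharacter G | χ ∈ X ∧ (χ : G → ℂ) ≠ fun _ => 1}, Cfsg.charDegree (χ : G → ℂ))) := by
  classical
  have hcomm : ∀ x y : (P : Subgroup G), x * y = y * x := fun x y => hab.is_comm.comm x y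
  obtain ⟨χ₂, χ₃, Y, δ, a₂, a₃, ζ, h23, h2p, h3p, hpY, h2Y, h3Y, hpb, hδ, ha₂, ha₃, hYcard,
    hv₂, hv₃, hζY, hζsurj, hζconst, hζval, hw⟩ :=
    Cfsg.Agent.Helper7.Frob.frob3_main p M hM P hcomm hP1 hm2 hCN hcyc hfrob
  have hprin : ∀ χ : Cfsg.IrrCharacter G, (χ : G → ℂ) = (fun _ => 1) ↔
      χ = Cfsg.Agent.Helper24.principalChar G := by
    intro χ
    constructor
    · intro h
      exact Subtype.ext h
    · intro h
      rw [h]
      rfl
  set x₀ := Cfsg.Agent.Helper24.principalChar G with hx₀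
  set a : Cfsg.IrrCharacter G → ℤ := fun χ => if χ = χ₂ then a₂ else if χ = χ₃ then a₃ else 1
    with ha
  have ha2 : a χ₂ = a₂ := by simp only [ha, if_true]
  have ha3 : a χ₃ = a₃ := by simp only [ha, if_neg h23.symm, if_true]
  have ha0 : a x₀ = 1 := by simp only [ha, if_neg (Ne.symm h2p), if_neg (Ne.symm h3p)]
  refine ⟨{x₀, χ₂, χ₃}, (Y : Set (Cfsg.IrrCharacter G)), ?_, ?_, ?_, ?_, ?_, ?_⟩
  · ext χ
    have := hpb χ
    simp only [Set.mem_union, Set.mem_insert_iff, Set.mem_singleton_iff, Finset.mem_coe]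
    rw [this]
    simp only [or_assoc]
  · rw [Set.disjoint_left]
    intro χ hχ hχY
    simp only [Set.mem_insert_iff, Set.mem_singleton_iff] at hχ
    rw [Finset.mem_coe] at hχY
    rcases hχ with rfl | rfl | rfl
    · exact hpY hχY
    · exact h2Y hχY
    · exact h3Y hχY
  · rw [Nat.card_coe_set_eq, Set.ncard_eq_three]
    exact ⟨x₀, χ₂, χ₃, Ne.symm h2p, Ne.symm h3p, h23, rfl⟩
  · rw [Nat.card_coe_set_eq, Set.ncard_coe_finset]
    exact (Nat.div_eq_of_eq_mul_left (by norm_num) hYcard.symm).symm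
  · exact ⟨x₀, Set.mem_insert _ _, rfl⟩
  refine ⟨a, δ, ζ, hδ, ?_, hζY, ?_, hζconst, hζval, ?_⟩
  · intro χ hχ
    simp only [Set.mem_insert_iff, Set.mem_singleton_iff] at hχ
    rcases hχ with rfl | rfl | rfl
    · refine ⟨Or.inl ha0, ?_⟩
      intro z y _ _ _
      rw [ha0]
      simp only [Int.cast_one]
      rfl
    · rw [ha2]
      exact ⟨ha₂, hv₂⟩
    · rw [ha3]
      exact ⟨ha₃, hv₃⟩
  · intro η hη
    exact hζsurj η (Finset.mem_coe.1 hη)
  · rintro ⟨t, ht, htK⟩
    by_cases hp2 : p = 2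
    · exfalso
      subst hp2
      exact Cfsg.Agent.Helper7.Frob.frob3_two_false M hM P hcomm hm2 ⟨Y.card, hYcard⟩ hCN hcyc
        hfrob t ht htK
    · have hYne : Y.Nonempty := by
        rw [Finset.nonempty_iff_ne_empty]
        intro h
        rw [h, Finset.card_empty] at hYcard
        omega
      have hmain := fun η hη => Cfsg.Agent.Helper7.Frob.frob3_odd_involution p M hM P hp2 hcomm
        hCN hcyc hfrob χ₂ χ₃ Y δ a₂ a₃ h2p h3p hpY hδ ha₂ ha₃ hw t ht htK η hη
      have hset : {χ : Cfsg.IrrCharacter G | χ ∈ ({x₀, χ₂, χ₃} : Set (Cfsg.IrrCharacter G)) ∧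
          (χ : G → ℂ) ≠ fun _ => 1} = {χ₂, χ₃} := by
        ext χ
        simp only [Set.mem_setOf_eq, Set.mem_insert_iff, Set.mem_singleton_iff, ne_eq, hprin]
        constructor
        · rintro ⟨h | h | h, hne⟩
          · exact absurd h hne
          · exact Or.inl h
          · exact Or.inr h
        · rintro (h | h)
          · exact ⟨Or.inr (Or.inl h), h ▸ h2p⟩
          · exact ⟨Or.inr (Or.inr h), h ▸ h3p⟩
      constructor
      · obtain ⟨η₀, hη₀⟩ := hYne
        have hpat := (hmain η₀ hη₀).1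
        show Nat.card ↥{χ : Cfsg.IrrCharacter G | χ ∈ ({x₀, χ₂, χ₃} : Set (Cfsg.IrrCharacter G)) ∧
          (χ : G → ℂ) ≠ (fun _ => 1) ∧ a χ = -1} + (if δ = 1 then 1 else 0) = 2
        rcases hpat with ⟨e2, e3, ed⟩ | ⟨e2, e3, ed⟩ | ⟨e2, e3, ed⟩
        · have : {χ : Cfsg.IrrCharacter G | χ ∈ ({x₀, χ₂, χ₃} : Set (Cfsg.IrrCharacter G)) ∧
              (χ : G → ℂ) ≠ (fun _ => 1) ∧ a χ = -1} = {χ₂, χ₃} := by
            ext χ
            simp only [Set.mem_setOf_eq, Set.mem_insert_iff, Set.mem_singleton_iff, ne_eq, hprin]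
            constructor
            · rintro ⟨h | h | h, hne, -⟩
              · exact absurd h hne
              · exact Or.inl h
              · exact Or.inr h
            · rintro (h | h)
              · exact ⟨Or.inr (Or.inl h), h ▸ h2p, by rw [h, ha2, e2]⟩
              · exact ⟨Or.inr (Or.inr h), h ▸ h3p, by rw [h, ha3, e3]⟩
          rw [this, Nat.card_coe_set_eq, Set.ncard_pair h23, ed]
          norm_num
        · have : {χ : Cfsg.IrrCharacter G | χ ∈ ({x₀, χ₂, χ₃} : Set (Cfsg.IrrCharacter G)) ∧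
              (χ : G → ℂ) ≠ (fun _ => 1) ∧ a χ = -1} = {χ₂} := by
            ext χ
            simp only [Set.mem_setOf_eq, Set.mem_insert_iff, Set.mem_singleton_iff, ne_eq, hprin]
            constructor
            · rintro ⟨h | h | h, hne, hm⟩
              · exact absurd h hne
              · exact h
              · rw [h, ha3, e3] at hm
                norm_num at hm
            · intro h
              exact ⟨Or.inr (Or.inl h), h ▸ h2p, by rw [h, ha2, e2]⟩
          rw [this, Nat.card_coe_set_eq, Set.ncard_singleton, ed]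
          norm_num
        · have : {χ : Cfsg.IrrCharacter G | χ ∈ ({x₀, χ₂, χ₃} : Set (Cfsg.IrrCharacter G)) ∧
              (χ : G → ℂ) ≠ (fun _ => 1) ∧ a χ = -1} = {χ₃} := by
            ext χ
            simp only [Set.mem_setOf_eq, Set.mem_insert_iff, Set.mem_singleton_iff, ne_eq, hprin]
            constructor
            · rintro ⟨h | h | h, hne, hm⟩
              · exact absurd h hne
              · rw [h, ha2, e2] at hm
                norm_num at hm
              · exact h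
            · intro h
              exact ⟨Or.inr (Or.inr h), h ▸ h3p, by rw [h, ha3, e3]⟩
          rw [this, Nat.card_coe_set_eq, Set.ncard_singleton, ed]
          norm_num
      · intro η hη
        rw [hset, finprod_mem_pair h23]
        exact (hmain η (Finset.mem_coe.1 hη)).2

end Cfsg.Agent.S4721
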