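import Mathlib
import Cfsg.Statements.S4723
import Cfsg.Agent.Lib.Helper18.InvHeightZero
import Cfsg.Agent.Lib.Helper18.FongReynolds

set_option autoImplicit false
open Cfsg

namespace Cfsg.Agent.S4723

open Cfsg.Agent.Helper24 Cfsg.Agent.Helper5 Cfsg.Agent.Helper23.Blk Cfsg.Agent.Helper18
  Cfsg.Agent.Helper18.Reynolds

/-- Let p be a prime, M a maximal ideal of the algebraic integers containing p, H a normal subgroup of the finite group G and b a p-block of H. Let T be the stabilizer of b in G. Then b contains a character θ of height zero whose own stabilizer in G (the elements g with θ(g h g⁻¹) = θ(h) for all h ∈ H) has index prime to p in T, i.e. contains a Sylow p-subgroup of T. -/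
theorem result {G : Type*} [Group G] [Finite G] (p : ℕ) [Fact p.Prime] (M : Ideal Cfsg.AlgInt) (hM : Cfsg.IsPModular p M) (H : Subgroup G) [H.Normal] (b : Set (Cfsg.IrrCharacter ↥H)) (hb : Cfsg.IsPBlock M b) (T : Subgroup G) (hT : (∀ g : G, g ∈ T ↔ ∀ θ ∈ b, ∀ θ' : Cfsg.IrrCharacter ↥H, (∀ h h' : ↥H, (h' : G) = g * h * g⁻¹ → (θ' : ↥H → ℂ) h' = (θ : ↥H → ℂ) h) → θ' ∈ b)) : ∃ θ ∈ b, Cfsg.blockHeight p b (θ : ↥H → ℂ) = 0 ∧ ∃ S : Subgroup G, S ≤ T ∧ (∀ g : G, g ∈ S ↔ (g ∈ T ∧ ∀ h h' : ↥H, (h' : G) = g * h * g⁻¹ → (θ : ↥H → ℂ) h' = (θ : ↥H → ℂ) h)) ∧ ¬ p ∣ S.relIndex T := by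
  classical
  haveI : Fintype G := Fintype.ofFinite G
  haveI : Fintype H := Fintype.ofFinite H
  haveI hMp : M.IsPrime := hM.2.1.isPrime
  have hp : p.Prime := Fact.out
  have hHn : H.Normal := inferInstance
  -- `T` is the stabilizer
  have hTmem : ∀ g : G, g ∈ T ↔ ∀ θ ∈ b, conjIrr H g θ ∈ b := by
    intro g
    rw [hT g, ← mem_stabN_iff_rel H hMp b hb g, mem_stabN]
  have hHT : H ≤ T := by
    intro h hh
    rw [hTmem]
    intro θ hθ
    have h1 : conjIrr H h θ = θ := by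
      apply Subtype.ext
      rw [conjIrr_coe]
      exact (mem_inertia H _ h).1
        (le_inertia H (isClassFunction_of_isIrrCharacter θ.2) hh)
    rw [h1]
    exact hθ
  -- a Sylow subgroup of `T`
  obtain ⟨Q⟩ : Nonempty (Sylow p T) := inferInstance
  set R : Subgroup G := (Q : Subgroup T).map T.subtype with hR
  set S₀ : Subgroup G := R ⊔ H with hS₀
  have hRT : R ≤ T := Subgroup.map_subtype_le _
  have hS₀T : S₀ ≤ T := sup_le hRT hHT
  have hHS : H ≤ S₀ := le_sup_right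
  haveI : Fintype S₀ := Fintype.ofFinite _
  haveI : Fintype (H.subgroupOf S₀) := Fintype.ofFinite _
  have hRp : IsPGroup p R := Q.2.map _
  have hidx : ∃ k : ℕ, (H.subgroupOf S₀).index = p ^ k := by
    have h1 : (H.subgroupOf S₀).index = H.relIndex S₀ := rfl
    rw [h1, hS₀, Subgroup.relIndex_sup_right]
    obtain ⟨n, hn⟩ := IsPGroup.iff_card.1 hRp
    have hdvd : H.relIndex R ∣ Nat.card R := Subgroup.relIndex_dvd_card H R
    rw [hn] at hdvd
    obtain ⟨j, -, hj⟩ := (Nat.dvd_prime_pow hp).1 hdvd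
    exact ⟨j, hj⟩
  have hnd : ¬ p ∣ S₀.relIndex T := by
    intro hd
    have h1 : S₀.relIndex T ∣ R.relIndex T := Subgroup.relIndex_dvd_of_le_left T le_sup_left
    have h2 : R.relIndex T = (Q : Subgroup T).index := by
      unfold Subgroup.relIndex
      rw [hR, Subgroup.subgroupOf,
        Subgroup.comap_map_eq_self_of_injective (Subgroup.subtype_injective T)]
    rw [h2] at h1
    exact Q.not_dvd_index (hd.trans h1)
  -- the block of `H` inside `S₀`
  set c : Set (IrrCharacter (H.subgroupOf S₀)) :=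
    irrComp (Subgroup.subgroupOfEquivOfLe hHS) '' b with hc'
  have hc : IsPBlock M c := isPBlock_image_irrComp _ hb
  haveI hNn : (H.subgroupOf S₀).Normal := inferInstance
  have hst : ∀ x : S₀, Cfsg.StabilizesBlock (H.subgroupOf S₀) c x := by
    intro x
    refine ⟨by rw [Subgroup.normalizer_eq_top]; exact Subgroup.mem_top _, ?_⟩
    rintro _ ⟨θ, hθ, rfl⟩
    have hxT : ((x : G))⁻¹ ∈ T := T.inv_mem (hS₀T x.2)
    refine ⟨irrComp (Subgroup.subgroupOfEquivOfLe hHS) (conjIrr H ((x : G))⁻¹ θ),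
      ⟨_, (hTmem _).1 hxT θ hθ, rfl⟩, ?_⟩
    intro k k' hkk'
    rw [irrComp_apply, irrComp_apply, conjIrr_coe, Cfsg.Agent.Helper5.conjFun_apply]
    apply congrArg (θ : H → ℂ)
    apply Subtype.ext
    show ((x : G))⁻¹ * (((k' : S₀) : G)) * ((x : G))⁻¹⁻¹ = ((k : S₀) : G)
    rw [hkk']
    push_cast
    group
  obtain ⟨θ', hθ'c, hθ'min, hθ'inv⟩ :=
    Cfsg.Agent.Helper18.InvHZ.exists_invariant_heightZero hM (H.subgroupOf S₀) hidx c hc hst
  obtain ⟨θ, hθb, rfl⟩ := hθ'c
  have hdegeq : ∀ ϑ : IrrCharacter H,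
      charDegree ((irrComp (Subgroup.subgroupOfEquivOfLe hHS) ϑ : IrrCharacter (H.subgroupOf S₀)) :
        H.subgroupOf S₀ → ℂ) = charDegree (ϑ : H → ℂ) := by
    intro ϑ
    unfold charDegree
    rw [irrComp_apply, map_one]
  have himage : ((fun χ : IrrCharacter (H.subgroupOf S₀) =>
      (charDegree (χ : H.subgroupOf S₀ → ℂ)).factorization p) '' c) =
      ((fun χ : IrrCharacter H => (charDegree (χ : H → ℂ)).factorization p) '' b) := by
    rw [hc', Set.image_image]
    apply Set.image_congr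
    intro ϑ _
    rw [hdegeq]
  rw [himage, hdegeq] at hθ'min
  have hinert : S₀ ≤ inertia H (θ : H → ℂ) := by
    have h1 := Cfsg.Agent.Helper18.inertia_thetaSub H S₀ hHS (θ : H → ℂ)
    rw [← FR.irrComp_coe H S₀ hHS θ, hθ'inv] at h1
    exact Subgroup.subgroupOf_eq_top.1 h1.symm
  refine ⟨θ, hθb, ?_, T ⊓ inertia H (θ : H → ℂ), inf_le_left, ?_, ?_⟩
  · unfold Cfsg.blockHeight
    rw [hθ'min]
    exact Nat.sub_self _
  · intro g
    rw [Subgroup.mem_inf, mem_inertia]
    constructor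
    · rintro ⟨hgT, hg⟩
      refine ⟨hgT, ?_⟩
      intro h h' hh
      have h1 := congrFun hg h
      rw [Cfsg.Agent.Helper5.conjFun_apply] at h1
      rw [← h1]
      apply congrArg (θ : H → ℂ)
      exact Subtype.ext hh
    · rintro ⟨hgT, hg⟩
      refine ⟨hgT, ?_⟩
      funext h
      rw [Cfsg.Agent.Helper5.conjFun_apply]
      exact hg h ⟨g * h * g⁻¹, hHn.conj_mem h h.2 g⟩ rfl
  · intro hd
    apply hnd
    exact hd.trans (Subgroup.relIndex_dvd_of_le_left T (le_inf hS₀T hinert))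

end Cfsg.Agent.S4723
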