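import Mathlib
import Cfsg.Statements.S4725
import Cfsg.Agent.Lib.Helper23.BlockFirstMain
import Cfsg.Agent.Lib.Helper23.BlockCongr
import Cfsg.Agent.Lib.Helper24.CharInduced
import Cfsg.Agent.Lib.Helper24.CharAlgebra
import Cfsg.Agent.Lib.Helper24.CharHom

set_option autoImplicit false
open Cfsg Cfsg.Agent.Helper23.Blk Cfsg.Agent.Helper24
open scoped ComplexConjugate

namespace Cfsg.Agent.S4725

/-- Let p be a prime, M a maximal ideal of the algebraic integers containing p, H a subgroup of the finite group G, and b a p-block of H inducing the p-block B of G, with b and B of the same defect. Then for every height-zero ζ ∈ b there is a height-zero χ ∈ B whose multiplicity in the character induced from ζ is not divisible by p. -/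
theorem result {G : Type*} [Group G] [Fintype G] (p : ℕ) [Fact p.Prime] (M : Ideal Cfsg.AlgInt) (hM : Cfsg.IsPModular p M) (H : Subgroup G) (b : Set (Cfsg.IrrCharacter ↥H)) (B : Set (Cfsg.IrrCharacter G)) (hind : Cfsg.IsInducedBlock M H b B) (hdef : Cfsg.blockDefect p b = Cfsg.blockDefect p B) (ζ : Cfsg.IrrCharacter ↥H) (hζ : ζ ∈ b) (hζ0 : Cfsg.blockHeight p b (ζ : ↥H → ℂ) = 0) : ∃ χ ∈ B, Cfsg.blockHeight p B (χ : G → ℂ) = 0 ∧ ∃ a : ℕ, Cfsg.classInner (Cfsg.indFun H (ζ : ↥H → ℂ)) (χ : G → ℂ) = (a : ℂ) ∧ ¬ p ∣ a := by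
  classical
  haveI : Fintype H := Fintype.ofFinite H
  letI : Fintype (IrrCharacter G) := irrFintype
  letI : Fintype (IrrCharacter H) := irrFintype
  haveI hMp : M.IsPrime := hM.2.1.isPrime
  have hp : p.Prime := hM.1
  have hb := hind.1
  have hB := hind.2.1
  obtain ⟨χ₀, hχ₀⟩ := block_nonempty hM hB
  set mB : ℕ := sInf ((fun ψ : IrrCharacter G => (charDegree (ψ : G → ℂ)).factorization p) '' B)
    with hmB
  set mb : ℕ := sInf ((fun ψ : IrrCharacter H => (charDegree (ψ : H → ℂ)).factorization p) '' b)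
    with hmb
  have f1 : ∀ χ ∈ B, mB ≤ (charDegree ((χ : IrrCharacter G) : G → ℂ)).factorization p :=
    fun χ hχ => Nat.sInf_le ⟨χ, hχ, rfl⟩
  have f2 : (charDegree (ζ : H → ℂ)).factorization p = mb := by
    apply le_antisymm
    · have := hζ0
      unfold blockHeight at this
      rw [← hmb] at this
      omega
    · exact Nat.sInf_le ⟨ζ, hζ, rfl⟩
  have hfac_le : ∀ {K : Type _} [Group K] [Finite K] (ψ : IrrCharacter K),
      (charDegree (ψ : K → ℂ)).factorization p ≤ (Nat.card K).factorization p := by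
    intro K _ _ ψ
    haveI : Fintype K := Fintype.ofFinite K
    exact (Nat.factorization_le_iff_dvd (charDegree_pos ψ.2).ne' Nat.card_pos.ne').2
      (charDegree_dvd_card ψ.2) p
  have f3 : mb ≤ (Nat.card H).factorization p := by
    rw [← f2]; exact hfac_le ζ
  have f3' : mB ≤ (Nat.card G).factorization p := (f1 χ₀ hχ₀).trans (hfac_le χ₀)
  have f4 : (Nat.card G).factorization p + mb = (Nat.card H).factorization p + mB := by
    unfold blockDefect at hdef
    rw [← hmb, ← hmB] at hdef
    omega
  have hidx0 : H.index ≠ 0 := Subgroup.index_ne_zero_of_finite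
  have hH0 : Nat.card H ≠ 0 := Nat.card_pos.ne'
  have f5 : (Nat.card H).factorization p + H.index.factorization p =
      (Nat.card G).factorization p := by
    rw [← Subgroup.card_mul_index H, Nat.factorization_mul hH0 hidx0]
    rfl
  have hζdeg0 : charDegree (ζ : H → ℂ) ≠ 0 := (charDegree_pos ζ.2).ne'
  have hDn0 : H.index * charDegree (ζ : H → ℂ) ≠ 0 := Nat.mul_ne_zero hidx0 hζdeg0
  have hDnf : (H.index * charDegree (ζ : H → ℂ)).factorization p = mB := by
    rw [Nat.factorization_mul hidx0 hζdeg0]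
    simp only [Finsupp.coe_add, Pi.add_apply]
    rw [f2]
    omega
  -- the multiplicities
  have hmult : ∀ χ : IrrCharacter G, ∃ n : ℕ,
      classInner (ζ : H → ℂ) (fun h : H => (χ : G → ℂ) h) = n := fun χ =>
    classInner_char_nat (isCharacter_of_isIrrCharacter ζ.2)
      (isCharacter_restrict H (isCharacter_of_isIrrCharacter χ.2))
  choose n hn using hmult
  -- the key identity
  have ha := isClassFunction_blockCoeff B
  have haR : ∀ g, MemLocalRing M (blockCoeff B g) := memLocalRing_blockCoeff hMp hB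
  have h1 := IsInducedBlock.omega_cong H hind hζ hχ₀ ha haR
  rw [omega_blockCoeff, if_pos hχ₀] at h1
  have hζ1 : (ζ : H → ℂ) 1 = (charDegree (ζ : H → ℂ) : ℂ) := irr_one_eq_charDegree ζ.2
  have hζ10 : (ζ : H → ℂ) 1 ≠ 0 := irr_one_ne_zero ζ.2
  have hcardG : (Nat.card G : ℂ) = (Nat.card H : ℂ) * (H.index : ℂ) := by
    rw [← Nat.cast_mul, Subgroup.card_mul_index]
  have hHc0 : (Nat.card H : ℂ) ≠ 0 := by exact_mod_cast hH0
  have hidxc0 : (H.index : ℂ) ≠ 0 := by exact_mod_cast hidx0
  have hkey : omega (ζ : H → ℂ) (fun h : H => blockCoeff B (h : G)) =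
      ∑ χ : IrrCharacter G, if χ ∈ B then (n χ : ℂ) *
        ((charDegree (χ : G → ℂ) : ℂ) / ((H.index * charDegree (ζ : H → ℂ) : ℕ) : ℂ)) else 0 := by
    unfold omega
    have e1 : ∀ h : H, blockCoeff B (h : G) * (ζ : H → ℂ) h =
        ∑ χ : IrrCharacter G, (if χ ∈ B then (1 : ℂ) else 0) * ((Nat.card G : ℂ)⁻¹ *
          ((χ : G → ℂ) 1 * ((ζ : H → ℂ) h * conj ((χ : G → ℂ) (h : G))))) := by
      intro h
      rw [blockCoeff_eq_synth]
      unfold synth idemCoeff
      rw [Finset.sum_mul]
      apply Finset.sum_congr rfl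
      intro χ _
      ring
    rw [Finset.sum_congr rfl (fun h _ => e1 h), Finset.sum_comm, Finset.sum_div]
    apply Finset.sum_congr rfl
    intro χ _
    by_cases hχ : χ ∈ B
    · rw [if_pos hχ, if_pos hχ]
      simp only [one_mul]
      rw [← Finset.mul_sum, ← Finset.mul_sum]
      have e2 : ∑ h : H, (ζ : H → ℂ) h * conj ((χ : G → ℂ) (h : G)) =
          (Nat.card H : ℂ) * (n χ : ℂ) := by
        rw [← hn χ]
        unfold classInner
        field_simp
      rw [e2, irr_one_eq_charDegree χ.2, hζ1, hcardG]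
      push_cast
      have hz : (charDegree (ζ : H → ℂ) : ℂ) ≠ 0 := by exact_mod_cast hζdeg0
      field_simp
    · rw [if_neg hχ, if_neg hχ]
      simp
  rw [hkey] at h1
  -- contradiction if no suitable character exists
  by_contra hcon
  push Not at hcon
  apply not_memLocalIdeal_one (M := M)
  have h2 : MemLocalIdeal M (∑ χ : IrrCharacter G, if χ ∈ B then (n χ : ℂ) *
      ((charDegree (χ : G → ℂ) : ℂ) / ((H.index * charDegree (ζ : H → ℂ) : ℕ) : ℂ)) else 0) := by
    apply memLocalIdeal_sum
    intro χ _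
    by_cases hχ : χ ∈ B
    · rw [if_pos hχ]
      have hχ0 : charDegree (χ : G → ℂ) ≠ 0 := (charDegree_pos χ.2).ne'
      have hle := f1 χ hχ
      by_cases hht : (charDegree (χ : G → ℂ)).factorization p = mB
      · -- height zero: the multiplicity is divisible by p
        have hh0 : blockHeight p B (χ : G → ℂ) = 0 := by
          unfold blockHeight
          rw [← hmB, hht, Nat.sub_self]
        have hfr : classInner (indFun H (ζ : H → ℂ)) (χ : G → ℂ) = (n χ : ℂ) := by
          rw [frobenius_reciprocity H _ (isClassFunction_of_isIrrCharacter χ.2)]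
          exact hn χ
        have hdvd := hcon χ hχ hh0 (n χ) hfr
        apply memLocalIdeal_mul_right
        · exact (memLocalIdeal_natCast_iff hM _).2 hdvd
        · exact (memLocalRing_natCast_div hM hχ0 hDn0 (by rw [hDnf]; exact hle)).1
      · apply memLocalIdeal_mul_left (memLocalRing_natCast _)
        apply memLocalIdeal_natCast_div hM hχ0 hDn0
        rw [hDnf]
        omega
    · rw [if_neg hχ]
      exact memLocalIdeal_zero ne_top
  have h3 := memLocalIdeal_sub h2 h1
  rwa [sub_sub_cancel] at h3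

end Cfsg.Agent.S4725
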