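import Mathlib
import Cfsg.Statements.S4731
import Cfsg.Agent.Lib.Helper18.TwoPrimeBlocks

set_option autoImplicit false
open Cfsg

namespace Cfsg.Agent.S4731

open Cfsg.Agent.Helper24 Cfsg.Agent.Helper18 Cfsg.Agent.Helper23.Blk
open scoped ComplexConjugate

theorem result {G : Type*} [Group G] [Finite G] (p q : ℕ) [Fact p.Prime] [Fact q.Prime] (hpq : p ≠ q) (Mp Mq : Ideal Cfsg.AlgInt) (hMp : Cfsg.IsPModular p Mp) (hMq : Cfsg.IsPModular q Mq) (hno : ∀ g : G, orderOf g ≠ p * q) (b : ℕ) (hb : (Nat.card G).factorization q = b) (Bp : Set (Cfsg.IrrCharacter G)) (hBp : Cfsg.IsPBlock Mp Bp) (Bq : Set (Cfsg.IrrCharacter G)) (hBq : Cfsg.IsPBlock Mq Bq) (y : G) (hy : p ∣ orderOf y) : ∃ ω : Cfsg.AlgInt, ∑ᶠ χ ∈ Bp ∩ Bq, (Cfsg.charDegree (χ : G → ℂ) : ℂ) * (χ : G → ℂ) y = (q : ℂ) ^ b * (ω : ℂ) := by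
  classical
  haveI : Fintype G := Fintype.ofFinite G
  letI : Fintype (IrrCharacter G) := irrFintype
  have hqp : q.Prime := Fact.out
  obtain ⟨Q⟩ : Nonempty (Sylow q G) := inferInstance
  have hQcard : Nat.card Q = q ^ b := by
    rw [← hb]
    exact Sylow.card_eq_multiplicity Q
  haveI : Fintype (Q : Subgroup G) := Fintype.ofFinite _
  have hQ0 : (Nat.card Q : ℂ) ≠ 0 := by
    have : Nat.card Q ≠ 0 := Nat.card_pos.ne'
    exact_mod_cast this
  letI : Fintype (IrrCharacter (Q : Subgroup G)) := irrFintype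
  have hn : ∀ χ : IrrCharacter G, ∃ n : ℕ,
      ∑ u : (Q : Subgroup G), (χ : G → ℂ) u = (Nat.card Q : ℂ) * n := by
    intro χ
    obtain ⟨n, hn⟩ := classInner_char_nat
      (isCharacter_restrict (Q : Subgroup G) (isCharacter_of_isIrrCharacter χ.2))
      (isCharacter_one (G := (Q : Subgroup G)))
    refine ⟨n, ?_⟩
    unfold classInner at hn
    simp only [map_one, mul_one] at hn
    rw [← hn]
    field_simp
  choose n hn using hn
  have hyinv : p ∣ orderOf y⁻¹ := by rwa [orderOf_inv]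
  -- the function on `Q`
  have hF : ∀ u : (Q : Subgroup G), u ≠ 1 →
      ∑ χ : IrrCharacter G, (if χ ∈ Bp ∧ χ ∈ Bq then
        (χ : G → ℂ) y * (χ : G → ℂ) u else 0) = 0 := by
    intro u hu
    have hqu : q ∣ orderOf (u : G) := by
      rw [Subgroup.orderOf_coe]
      exact (Q.isPGroup').dvd_orderOf hu
    have h1 := sum_inter_blocks_eq_zero hMp hMq hpq hno hBp hBq hyinv hqu
    refine Eq.trans ?_ h1
    refine Finset.sum_congr rfl fun χ _ => ?_
    rw [irr_inv (isCharacter_of_isIrrCharacter χ.2), Complex.conj_conj]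
  have hsum : ∑ u : (Q : Subgroup G), ∑ χ : IrrCharacter G, (if χ ∈ Bp ∧ χ ∈ Bq then
      (χ : G → ℂ) y * (χ : G → ℂ) u else 0) =
      ∑ χ : IrrCharacter G, (if χ ∈ Bp ∧ χ ∈ Bq then
        (χ : G → ℂ) y * (χ : G → ℂ) 1 else 0) := by
    rw [Finset.sum_eq_single (1 : (Q : Subgroup G))]
    · rfl
    · intro u _ hu
      exact hF u hu
    · intro h
      exact absurd (Finset.mem_univ _) h
  have hsum2 : ∑ u : (Q : Subgroup G), ∑ χ : IrrCharacter G, (if χ ∈ Bp ∧ χ ∈ Bq then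
      (χ : G → ℂ) y * (χ : G → ℂ) u else 0) =
      (Nat.card Q : ℂ) * ∑ χ : IrrCharacter G, (if χ ∈ Bp ∧ χ ∈ Bq then
        (χ : G → ℂ) y * (n χ : ℂ) else 0) := by
    rw [Finset.sum_comm, Finset.mul_sum]
    refine Finset.sum_congr rfl fun χ _ => ?_
    by_cases h : χ ∈ Bp ∧ χ ∈ Bq
    · simp only [if_pos h]
      rw [← Finset.mul_sum, hn χ]
      ring
    · simp only [if_neg h]
      simp
  have hint : IsIntegral ℤ (∑ χ : IrrCharacter G, (if χ ∈ Bp ∧ χ ∈ Bq then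
        (χ : G → ℂ) y * (n χ : ℂ) else 0)) := by
    apply IsIntegral.sum
    intro χ _
    split_ifs
    · exact (isIntegral_of_isCharacter (isCharacter_of_isIrrCharacter χ.2) y).mul
        (isIntegral_algebraMap (R := ℤ) (A := ℂ) (x := (n χ : ℤ)) |> fun h => by simpa using h)
    · exact isIntegral_zero
  refine ⟨⟨_, hint⟩, ?_⟩
  rw [finsum_mem_def, finsum_eq_sum_of_fintype]
  have hlhs : ∑ χ : IrrCharacter G, Set.indicator (Bp ∩ Bq)
      (fun χ : IrrCharacter G => (charDegree (χ : G → ℂ) : ℂ) * (χ : G → ℂ) y) χ =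
      ∑ χ : IrrCharacter G, (if χ ∈ Bp ∧ χ ∈ Bq then
        (χ : G → ℂ) y * (χ : G → ℂ) 1 else 0) := by
    refine Finset.sum_congr rfl fun χ _ => ?_
    by_cases h : χ ∈ Bp ∧ χ ∈ Bq
    · rw [Set.indicator_of_mem (by exact h), if_pos h, irr_one_eq_charDegree χ.2]
      ring
    · rw [Set.indicator_of_notMem (by exact h), if_neg h]
  rw [hlhs, ← hsum, hsum2, hQcard]
  push_cast
  rfl

end Cfsg.Agent.S4731
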