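import Mathlib
import Cfsg.Statements.S4735
import Cfsg.Agent.Lib.Helper23.PrincipalQuot
import Cfsg.Agent.Lib.Helper22.PPrimeCore

set_option autoImplicit false
open Cfsg Cfsg.Agent.Helper23.Blk Cfsg.Agent.Helper24 Cfsg.Agent.Helper18
open scoped ComplexConjugate

namespace Cfsg.Agent.S4735

/-- Let p be a prime, M a maximal ideal of the algebraic integers containing p, G a finite group, H = O_p'(G) and Ḡ = G/H. For x ∈ G write λ(G, x) for the sum of |χ(x)|^2 over the irreducible characters χ in the principal p-block of G. Then λ(G, x) is a positive integer, λ(G, x) = λ(Ḡ, x̄) where x̄ is the image of x, and λ(G, x) ≤ #C_Ḡ(x̄). Moreover λ(G, 1) = [G : H] if and only if the principal block is the only p-block of Ḡ. -/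
theorem result {G : Type*} [Group G] [Finite G] (p : ℕ) [Fact p.Prime] (M : Ideal Cfsg.AlgInt) (hM : Cfsg.IsPModular p M) (x : G) : (∃ n : ℕ, 0 < n ∧ ∑ᶠ χ ∈ Cfsg.principalBlock M G, Complex.normSq ((χ : G → ℂ) x) = n) ∧ ∑ᶠ χ ∈ Cfsg.principalBlock M G, Complex.normSq ((χ : G → ℂ) x) = ∑ᶠ ψ ∈ Cfsg.principalBlock M (G ⧸ Cfsg.pPrimeCore p G), Complex.normSq ((ψ : G ⧸ Cfsg.pPrimeCore p G → ℂ) (QuotientGroup.mk x)) ∧ ∑ᶠ χ ∈ Cfsg.principalBlock M G, Complex.normSq ((χ : G → ℂ) x) ≤ (Nat.card ↥(Subgroup.centralizer ({(QuotientGroup.mk x : G ⧸ Cfsg.pPrimeCore p G)} : Set (G ⧸ Cfsg.pPrimeCore p G))) : ℝ) ∧ ((∑ᶠ χ ∈ Cfsg.principalBlock M G, Cfsg.charDegree (χ : G → ℂ) ^ 2) = (Cfsg.pPrimeCore p G).index ↔ ∀ B : Set (Cfsg.IrrCharacter (G ⧸ Cfsg.pPrimeCore p G)), Cfsg.IsPBlock M B → B = Cfsg.principalBlock M (G ⧸ Cfsg.pPrimeCore p G)) := by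
  classical
  haveI hMp : M.IsPrime := hM.2.1.isPrime
  have hp : p.Prime := hM.1
  have hN : ¬ p ∣ Nat.card (Cfsg.pPrimeCore p G) :=
    Cfsg.Agent.Helper22.not_dvd_card_pPrimeCore p hp
  have hquot := finsum_principalBlock_quot hM (Cfsg.pPrimeCore p G) hN
    (fun f : G → ℂ => Complex.normSq (f x))
  have hquot' : ∑ᶠ χ ∈ Cfsg.principalBlock M G, Complex.normSq ((χ : G → ℂ) x) =
      ∑ᶠ ψ ∈ Cfsg.principalBlock M (G ⧸ Cfsg.pPrimeCore p G),
        Complex.normSq ((ψ : G ⧸ Cfsg.pPrimeCore p G → ℂ) (QuotientGroup.mk x)) := hquot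
  refine ⟨exists_nat_sum_normSq_principalBlock x, hquot', ?_, ?_⟩
  · rw [hquot']
    exact finsum_normSq_le_card_centralizer _ _
  · have hdeg := finsum_principalBlock_quot hM (Cfsg.pPrimeCore p G) hN
      (fun f : G → ℂ => Cfsg.charDegree f ^ 2)
    have hdeg' : ∑ᶠ χ ∈ Cfsg.principalBlock M G, Cfsg.charDegree (χ : G → ℂ) ^ 2 =
        ∑ᶠ ψ ∈ Cfsg.principalBlock M (G ⧸ Cfsg.pPrimeCore p G),
          Cfsg.charDegree (ψ : G ⧸ Cfsg.pPrimeCore p G → ℂ) ^ 2 := by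
      rw [hdeg]
      apply finsum_mem_congr rfl
      intro ψ _
      change Cfsg.charDegree ((ψ : G ⧸ Cfsg.pPrimeCore p G → ℂ) ∘ QuotientGroup.mk) ^ 2 = _
      rw [charDegree_inflate]
    rw [hdeg', forall_isPBlock_eq_principalBlock_iff, ← finsum_charDegree_sq_eq_card_iff]
    have hidx : (Cfsg.pPrimeCore p G).index = Nat.card (G ⧸ Cfsg.pPrimeCore p G) :=
      Subgroup.index_eq_card _
    rw [hidx]

end Cfsg.Agent.S4735
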