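import Mathlib
import Cfsg.Statements.S4736
import Cfsg.Agent.Lib.Helper23.PrincipalPSolv
import Cfsg.Agent.Lib.Helper23.BlockRows
import Cfsg.Agent.S4713

set_option autoImplicit false
open Cfsg Cfsg.Agent.Helper23.Blk Cfsg.Agent.Helper24 Cfsg.Agent.Helper18 Cfsg.Agent.Helper23
open scoped ComplexConjugate

namespace Cfsg.Agent.S4736

/-- Let p be a prime, M a maximal ideal of the algebraic integers containing p, and G a finite p-solvable group with Sylow p-subgroup P. Then P is abelian if and only if every irreducible character in the principal p-block of G has height zero. -/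
theorem result {G : Type*} [Group G] [Finite G] (p : ℕ) [Fact p.Prime] (M : Ideal Cfsg.AlgInt) (hM : Cfsg.IsPModular p M) (hsolv : Cfsg.IsPSolvable p G) (P : Sylow p G) : IsMulCommutative P ↔ ∀ χ ∈ Cfsg.principalBlock M G, Cfsg.blockHeight p (Cfsg.principalBlock M G) (χ : G → ℂ) = 0 := by
  classical
  haveI : Fintype G := Fintype.ofFinite G
  haveI hMp : M.IsPrime := hM.2.1.isPrime
  have hp : p.Prime := hM.1
  have hN : ¬ p ∣ Nat.card (Cfsg.pPrimeCore p G) :=
    Cfsg.Agent.Helper22.not_dvd_card_pPrimeCore p hp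
  have hq : Cfsg.IsPSolvable p (G ⧸ Cfsg.pPrimeCore p G) := PSolv.isPSolvable_quotient _ hsolv
  have hcore : Cfsg.pPrimeCore p (G ⧸ Cfsg.pPrimeCore p G) = ⊥ :=
    PSolv.pPrimeCore_quotient_pPrimeCore p
  -- heights in the principal block
  have hmin : minVal p (Cfsg.principalBlock M G) = 0 := by
    have h1 := minVal_le (p := p) (principalChar_mem_principalBlock (M := M) (G := G))
    have h2 : Cfsg.charDegree ((principalChar G : Cfsg.IrrCharacter G) : G → ℂ) = 1 := by
      unfold Cfsg.charDegree principalChar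
      simp
    rw [h2] at h1
    simpa using h1
  have hheight : ∀ χ : G → ℂ, Cfsg.blockHeight p (Cfsg.principalBlock M G) χ =
      (Cfsg.charDegree χ).factorization p := by
    intro χ
    rw [blockHeight_eq_sub_minVal, hmin, Nat.sub_zero]
  have hiff1 : (∀ χ ∈ Cfsg.principalBlock M G,
      Cfsg.blockHeight p (Cfsg.principalBlock M G) (χ : G → ℂ) = 0) ↔
      ∀ ψ : Cfsg.IrrCharacter (G ⧸ Cfsg.pPrimeCore p G),
        ¬ p ∣ Cfsg.charDegree (ψ : G ⧸ Cfsg.pPrimeCore p G → ℂ) := by
    constructor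
    · intro h ψ hdvd
      have hmem : ((inflateEquiv (Cfsg.pPrimeCore p G) ψ).1 : Cfsg.IrrCharacter G) ∈
          Cfsg.principalBlock M G := by
        rw [mem_principalBlock_iff_of_isPSolvable hM hsolv]
        exact (inflateEquiv (Cfsg.pPrimeCore p G) ψ).2
      have h1 := h _ hmem
      rw [hheight, inflateEquiv_coe, charDegree_inflate] at h1
      have hpos : Cfsg.charDegree (ψ : G ⧸ Cfsg.pPrimeCore p G → ℂ) ≠ 0 :=
        (charDegree_pos ψ.2).ne'
      have h2 := (hp.dvd_iff_one_le_factorization hpos).1 hdvd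
      omega
    · intro h χ hχ
      have htriv := (mem_principalBlock_iff_of_isPSolvable hM hsolv χ).1 hχ
      obtain ⟨ψ, hψ⟩ : ∃ ψ : Cfsg.IrrCharacter (G ⧸ Cfsg.pPrimeCore p G),
          ((inflateEquiv (Cfsg.pPrimeCore p G) ψ).1 : Cfsg.IrrCharacter G) = χ :=
        ⟨(inflateEquiv (Cfsg.pPrimeCore p G)).symm ⟨χ, htriv⟩, by rw [Equiv.apply_symm_apply]⟩
      rw [hheight, ← hψ, inflateEquiv_coe, charDegree_inflate]
      exact Nat.factorization_eq_zero_of_not_dvd (h ψ)
  rw [hiff1, ← Cfsg.Agent.S4713.result p hq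
    (P.mapSurjective (QuotientGroup.mk'_surjective (Cfsg.pPrimeCore p G)))]
  have hcoe : ((P.mapSurjective (QuotientGroup.mk'_surjective (Cfsg.pPrimeCore p G)) :
      Sylow p (G ⧸ Cfsg.pPrimeCore p G)) : Subgroup (G ⧸ Cfsg.pPrimeCore p G)) =
      (P : Subgroup G).map (QuotientGroup.mk' (Cfsg.pPrimeCore p G)) := rfl
  constructor
  · intro hab
    have hcomm : ∀ a b : G ⧸ Cfsg.pPrimeCore p G,
        a ∈ (P : Subgroup G).map (QuotientGroup.mk' (Cfsg.pPrimeCore p G)) →
        b ∈ (P : Subgroup G).map (QuotientGroup.mk' (Cfsg.pPrimeCore p G)) → a * b = b * a := by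
      rintro _ _ ⟨x, hx, rfl⟩ ⟨y, hy, rfl⟩
      have h1 : (⟨x, hx⟩ : P) * ⟨y, hy⟩ = ⟨y, hy⟩ * ⟨x, hx⟩ := hab.is_comm.comm _ _
      have h2 : x * y = y * x := congrArg Subtype.val h1
      rw [← map_mul, ← map_mul, h2]
    constructor
    · -- normality through Hall-Higman
      have h1 := PSolv.centralizer_pCore_le hq hcore
      have h2 := PSolv.pCore_le_sylow
        (P.mapSurjective (QuotientGroup.mk'_surjective (Cfsg.pPrimeCore p G)))
      have h3 : ((P.mapSurjective (QuotientGroup.mk'_surjective (Cfsg.pPrimeCore p G)) :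
          Sylow p (G ⧸ Cfsg.pPrimeCore p G)) : Subgroup (G ⧸ Cfsg.pPrimeCore p G)) ≤
          Subgroup.centralizer (Cfsg.pCore p (G ⧸ Cfsg.pPrimeCore p G) : Set _) := by
        intro a ha
        rw [Subgroup.mem_centralizer_iff]
        intro b hb
        exact hcomm b a (h2 hb) ha
      have h4 := le_antisymm (h3.trans h1) h2
      rw [h4]
      exact Cfsg.Agent.Helper10.pCore_normal p
    · refine ⟨⟨fun a b => ?_⟩⟩
      apply Subtype.ext
      exact hcomm a b a.2 b.2
  · rintro ⟨-, hab⟩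
    have hdisj : Cfsg.pPrimeCore p G ⊓ (P : Subgroup G) = ⊥ := by
      rw [← disjoint_iff]
      apply Subgroup.disjoint_of_coprime_natCard
      obtain ⟨k, hk⟩ := IsPGroup.iff_card.mp P.isPGroup'
      rw [hk]
      exact Nat.Coprime.pow_right k ((Nat.Prime.coprime_iff_not_dvd hp).2 hN).symm
    refine ⟨⟨fun a b => ?_⟩⟩
    apply Subtype.ext
    have h1 : (⟨QuotientGroup.mk' (Cfsg.pPrimeCore p G) (a : G),
        Subgroup.mem_map_of_mem _ a.2⟩ : (P.mapSurjective
          (QuotientGroup.mk'_surjective (Cfsg.pPrimeCore p G)) : Sylow p _)) *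
        ⟨QuotientGroup.mk' (Cfsg.pPrimeCore p G) (b : G), Subgroup.mem_map_of_mem _ b.2⟩ =
        ⟨QuotientGroup.mk' (Cfsg.pPrimeCore p G) (b : G), Subgroup.mem_map_of_mem _ b.2⟩ *
        ⟨QuotientGroup.mk' (Cfsg.pPrimeCore p G) (a : G), Subgroup.mem_map_of_mem _ a.2⟩ :=
      hab.is_comm.comm _ _
    have h2 : QuotientGroup.mk' (Cfsg.pPrimeCore p G) ((a : G) * (b : G)) =
        QuotientGroup.mk' (Cfsg.pPrimeCore p G) ((b : G) * (a : G)) := by
      rw [map_mul, map_mul]
      exact congrArg Subtype.val h1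
    have h3 : ((b : G) * (a : G))⁻¹ * ((a : G) * (b : G)) ∈ Cfsg.pPrimeCore p G := by
      have := QuotientGroup.eq.mp h2.symm
      exact this
    have h4 : ((b : G) * (a : G))⁻¹ * ((a : G) * (b : G)) ∈ (P : Subgroup G) :=
      Subgroup.mul_mem _ (Subgroup.inv_mem _ (Subgroup.mul_mem _ b.2 a.2))
        (Subgroup.mul_mem _ a.2 b.2)
    have h5 : ((b : G) * (a : G))⁻¹ * ((a : G) * (b : G)) ∈
        Cfsg.pPrimeCore p G ⊓ (P : Subgroup G) := ⟨h3, h4⟩
    rw [hdisj, Subgroup.mem_bot] at h5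
    have h6 : (a : G) * (b : G) = (b : G) * (a : G) := by
      have := congrArg (fun z => ((b : G) * (a : G)) * z) h5
      simpa [mul_assoc] using this
    exact h6

end Cfsg.Agent.S4736
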