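import Mathlib
import Cfsg.Statements.S4737
import Cfsg.Agent.Lib.Helper18.DZ3Char
import Cfsg.Agent.Lib.Helper18.RobinsonCount3
import Cfsg.Agent.Lib.Helper24.GlaubPGroup

set_option autoImplicit false
open Cfsg

namespace Cfsg.Agent.S4737

open Cfsg.Agent.Helper24 Cfsg.Agent.Helper23.Blk Cfsg.Agent.Helper18.DZ3
open scoped ComplexConjugate

/-- a matrix with a right inverse has at least as many columns as rows -/
theorem card_le_of_mul_eq_one {S I k : Type*} [Fintype S] [Fintype I] [DecidableEq S] [Field k]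
    (A : Matrix S I k) (B : Matrix I S k) (h : A * B = 1) : Fintype.card S ≤ Fintype.card I := by
  calc Fintype.card S = (1 : Matrix S S k).rank := (Matrix.rank_one).symm
    _ = (A * B).rank := by rw [h]
    _ ≤ A.rank := Matrix.rank_mul_le_left A B
    _ ≤ Fintype.card I := Matrix.rank_le_card_width A

/-- Let G be a finite group of order divisible by 6. Then the number of irreducible characters of G whose degree has the same 2-part as the order of G (the characters of 2-defect zero, each forming a 2-block of defect zero on its own) is at least the number of conjugacy classes of elements of order 3 that normalize no nontrivial 2-subgroup of G. In particular G has a 2-block of defect zero as soon as some element of order 3 normalizes no nontrivial 2-subgroup. -/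
theorem result {G : Type*} [Group G] [Finite G] (h6 : 6 ∣ Nat.card G) : Nat.card {C : ConjClasses G // ∃ g ∈ C.carrier, orderOf g = 3 ∧ ∀ Q : Subgroup G, IsPGroup 2 ↥Q → g ∈ Subgroup.normalizer (Q : Set G) → Q = ⊥} ≤ Nat.card {χ : Cfsg.IrrCharacter G // (Cfsg.charDegree (χ : G → ℂ)).factorization 2 = (Nat.card G).factorization 2} := by
  classical
  haveI : Fintype G := Fintype.ofFinite G
  letI : Fintype (IrrCharacter G) := irrFintype
  obtain ⟨M, hM⟩ := Glaub.exists_isPModular Nat.prime_two
  haveI hMax : M.IsMaximal := hM.2.1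
  haveI hMp : M.IsPrime := hMax.isPrime
  change Nat.card {C : ConjClasses G // ∃ g ∈ C.carrier, orderOf g = 3 ∧
    ∀ Q : Subgroup G, IsPGroup 2 ↥Q → g ∈ Subgroup.normalizer (Q : Set G) → Q = ⊥} ≤
    Nat.card {χ : IrrCharacter G // IsDZ χ}
  choose r hr using fun C : {C : ConjClasses G // ∃ g ∈ C.carrier, orderOf g = 3 ∧
    ∀ Q : Subgroup G, IsPGroup 2 ↥Q → g ∈ Subgroup.normalizer (Q : Set G) → Q = ⊥} => C.2
  have hmk : ∀ C, ConjClasses.mk (r C) = C.1 := fun C =>
    ConjClasses.mem_carrier_iff_mk_eq.1 (hr C).1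
  have h3 : ∀ C, (r C) ^ 3 = 1 := fun C => by
    rw [← (hr C).2.1]
    exact pow_orderOf_eq_one _
  have hsp : ∀ C, ∀ Q : Subgroup G, IsPGroup 2 ↥Q → r C ∈ Subgroup.normalizer (Q : Set G) →
      Q = ⊥ := fun C => (hr C).2.2
  have hodd : ∀ C, ¬ 2 ∣ Nat.card (Subgroup.centralizer ({r C} : Set G)) := fun C =>
    not_two_dvd_card_centralizer (hsp C)
  rw [Nat.card_eq_fintype_card, Nat.card_eq_fintype_card]
  refine card_le_of_mul_eq_one (k := AlgInt ⧸ M)
    (Matrix.of fun C χ => red M ((Nat.card (Subgroup.centralizer ({r C} : Set G)) : ℂ)⁻¹ *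
      (χ.1 : G → ℂ) (r C)))
    (Matrix.of fun χ C' => red M (conj ((χ.1 : G → ℂ) (r C')))) ?_
  ext C C'
  rw [Matrix.mul_apply, Matrix.one_apply]
  have hR1 : ∀ χ : IrrCharacter G,
      MemLocalRing M ((Nat.card (Subgroup.centralizer ({r C} : Set G)) : ℂ)⁻¹ *
        (χ : G → ℂ) (r C)) := fun χ =>
    memLocalRing_mul (memLocalRing_inv_card_centralizer hM (hodd C)) (Glaub.memLocalRing_irr χ _)
  have hR2 : ∀ χ : IrrCharacter G, MemLocalRing M (conj ((χ : G → ℂ) (r C'))) := fun χ =>
    Glaub.memLocalRing_conj_irr χ _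
  have e1 : ∑ χ : {χ : IrrCharacter G // IsDZ χ},
      red M ((Nat.card (Subgroup.centralizer ({r C} : Set G)) : ℂ)⁻¹ * (χ.1 : G → ℂ) (r C)) *
        red M (conj ((χ.1 : G → ℂ) (r C'))) = red M (gpart (r C) (r C')) := by
    rw [gpart_eq, Finset.mul_sum]
    simp only [mul_ite, mul_zero]
    rw [← Finset.sum_filter]
    rw [red_sum _ _ (fun χ _ => memLocalRing_mul (memLocalRing_inv_card_centralizer hM (hodd C))
      (memLocalRing_mul (Glaub.memLocalRing_irr χ _) (hR2 χ)))]
    rw [Finset.sum_subtype (p := fun χ : IrrCharacter G => IsDZ χ)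
      (Finset.univ.filter fun χ : IrrCharacter G => IsDZ χ)
      (fun χ => by
        rw [Finset.mem_filter]
        exact ⟨fun h => h.2, fun h => ⟨Finset.mem_univ _, h⟩⟩) (fun χ => red M ((Nat.card (Subgroup.centralizer ({r C} : Set G)) : ℂ)⁻¹ *
        ((χ : G → ℂ) (r C) * conj ((χ : G → ℂ) (r C')))))]
    refine Finset.sum_congr rfl fun χ _ => ?_
    rw [← red_mul (hR1 χ.1) (hR2 χ.1), mul_assoc]
  simp only [Matrix.of_apply]
  rw [e1]
  have hRg : MemLocalRing M (gpart (r C) (r C')) := by
    rw [gpart_eq]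
    apply memLocalRing_mul (memLocalRing_inv_card_centralizer hM (hodd C))
    apply memLocalRing_sum
    intro χ _
    split_ifs
    · exact memLocalRing_mul (Glaub.memLocalRing_irr χ _) (hR2 χ)
    · exact memLocalRing_zero hMax.ne_top
  have hcong := memLocalIdeal_ind_sub_gpart hM (hodd C) (h3 C) (h3 C') (hsp C')
  have hRi : MemLocalRing M (if IsConj (r C) (r C') then (1 : ℂ) else 0) := by
    split_ifs
    · exact memLocalRing_one hMax.ne_top
    · exact memLocalRing_zero hMax.ne_top
  rw [← Cfsg.Agent.Helper18.Robinson.red_eq_of_sub hRi hRg hcong]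
  have hiff : IsConj (r C) (r C') ↔ C = C' := by
    rw [← ConjClasses.mk_eq_mk_iff_isConj, hmk, hmk]
    exact Subtype.ext_iff.symm
  by_cases hCC : C = C'
  · rw [if_pos (hiff.2 hCC), if_pos hCC, red_one]
  · rw [if_neg (fun h => hCC (hiff.1 h)), if_neg hCC, red_zero]

end Cfsg.Agent.S4737
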