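import Mathlib
import Cfsg.Statements.S4738
import Cfsg.Agent.Lib.Helper18.InvTwoP3
import Cfsg.Agent.Lib.Helper18.RobinsonMain2
import Cfsg.Agent.Lib.Helper18.NormalDefect
import Cfsg.Agent.Lib.Helper24.GlaubPGroup

set_option autoImplicit false
open Cfsg

namespace Cfsg.Agent.S4738

open Cfsg.Agent.Helper24 Cfsg.Agent.Helper23.Blk Cfsg.Agent.Helper18 Cfsg.Agent.Helper18.InvTwoP

theorem invol_of_orderOf {G : Type*} [Group G] {y : G} (hy : orderOf y = 2) :
    y * y = 1 ∧ y ≠ 1 := by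
  constructor
  · rw [← pow_two, ← hy, pow_orderOf_eq_one]
  · intro h
    rw [h, orderOf_one] at hy
    omega

/-- Let p be an odd prime and G a finite group of even order containing no element of order 2p. Then either G has an irreducible character of p-defect zero (its degree has the same p-part as the order of G), or every Sylow p-subgroup of G is abelian and all involutions of G are conjugate. -/
theorem result {G : Type*} [Group G] [Finite G] (p : ℕ) [Fact p.Prime] (hp2 : p ≠ 2) (hG : Even (Nat.card G)) (h2p : ∀ g : G, orderOf g ≠ 2 * p) : (∃ χ : Cfsg.IrrCharacter G, (Cfsg.charDegree (χ : G → ℂ)).factorization p = (Nat.card G).factorization p) ∨ ((∀ P : Sylow p G, IsMulCommutative ↥(P : Subgroup G)) ∧ ∀ s t : G, orderOf s = 2 → orderOf t = 2 → IsConj s t) := by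
  classical
  haveI : Fintype G := Fintype.ofFinite G
  have hp : p.Prime := Fact.out
  by_cases hdz : ∃ χ : Cfsg.IrrCharacter G,
      (Cfsg.charDegree (χ : G → ℂ)).factorization p = (Nat.card G).factorization p
  · exact Or.inl hdz
  right
  obtain ⟨M, hM⟩ := Glaub.exists_isPModular hp
  -- every involution inverts a nontrivial `p`-element
  have key : ∀ y : G, orderOf y = 2 →
      ∃ x : G, x ≠ 1 ∧ (∃ k : ℕ, x ^ p ^ k = 1) ∧ y * x * y⁻¹ = x⁻¹ := by
    intro y hy
    by_contra hno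
    push Not at hno
    apply hdz
    obtain ⟨hyy, hy1⟩ := invol_of_orderOf hy
    have hD : ∀ i : Fin 1, ∃ S : Sylow p ↥(Subgroup.centralizer ({(fun _ : Fin 1 => y) i} : Set G)),
        (S : Subgroup ↥(Subgroup.centralizer ({(fun _ : Fin 1 => y) i} : Set G))).map
          (Subgroup.centralizer ({(fun _ : Fin 1 => y) i} : Set G)).subtype = ⊥ := by
      intro i
      obtain ⟨S⟩ : Nonempty (Sylow p ↥(Subgroup.centralizer ({y} : Set G))) := inferInstance
      refine ⟨S, ?_⟩
      have h1 := S.card_eq_multiplicity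
      rw [Nat.factorization_eq_zero_of_not_dvd (not_dvd_card_centralizer hp2 h2p hy), pow_zero] at h1
      rw [Subgroup.card_eq_one.1 h1, Subgroup.map_bot]
    have hsep : ∀ i j : Fin 1, ∀ g h : G, IsConj ((fun _ : Fin 1 => y) i) g →
        IsConj ((fun _ : Fin 1 => y) j) h → ∀ k : ℕ, 0 < k → orderOf (g * h⁻¹) ≠ p ^ k := by
      intro _ _ g h hg hh k hk ho
      obtain ⟨d, hd⟩ := isConj_iff.1 hg
      obtain ⟨e, he⟩ := isConj_iff.1 hh
      have hgg : g * g = 1 := by
        rw [← hd]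
        calc d * y * d⁻¹ * (d * y * d⁻¹) = d * (y * y) * d⁻¹ := by group
          _ = 1 := by rw [hyy, mul_one, mul_inv_cancel]
      have hhh : h * h = 1 := by
        rw [← he]
        calc e * y * e⁻¹ * (e * y * e⁻¹) = e * (y * y) * e⁻¹ := by group
          _ = 1 := by rw [hyy, mul_one, mul_inv_cancel]
      have hginv : g⁻¹ = g := inv_eq_of_mul_eq_one_left hgg
      have hhinv : h⁻¹ = h := inv_eq_of_mul_eq_one_left hhh
      have hx1 : g * h⁻¹ ≠ 1 := by
        intro h1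
        rw [h1, orderOf_one] at ho
        exact (Nat.one_lt_pow hk.ne' hp.one_lt).ne ho
      have hxp : (g * h⁻¹) ^ p ^ k = 1 := by rw [← ho, pow_orderOf_eq_one]
      have hinv : g * (g * h⁻¹) * g⁻¹ = (g * h⁻¹)⁻¹ := by
        rw [mul_inv_rev, inv_inv, hginv, hhinv, ← mul_assoc, hgg, one_mul]
      -- transport to `y`
      refine hno (d⁻¹ * (g * h⁻¹) * d) ?_ ⟨k, ?_⟩ ?_
      · intro h1
        apply hx1
        have : g * h⁻¹ = d * (d⁻¹ * (g * h⁻¹) * d) * d⁻¹ := by group
        rw [this, h1, mul_one, mul_inv_cancel]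
      · have : d⁻¹ * (g * h⁻¹) * d = d⁻¹ * (g * h⁻¹) * d⁻¹⁻¹ := by rw [inv_inv]
        rw [this, conj_pow, hxp, mul_one, inv_inv, inv_mul_cancel]
      · have hy' : y = d⁻¹ * g * d := by rw [← hd]; group
        rw [hy']
        calc d⁻¹ * g * d * (d⁻¹ * (g * h⁻¹) * d) * (d⁻¹ * g * d)⁻¹
            = d⁻¹ * (g * (g * h⁻¹) * g⁻¹) * d := by group
          _ = d⁻¹ * (g * h⁻¹)⁻¹ * d := by rw [hinv]
          _ = (d⁻¹ * (g * h⁻¹) * d)⁻¹ := by group
    obtain ⟨B, -, hB, -⟩ := Robinson.main_sep p M hM ⊥ (r := 1) (fun _ => y)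
      (fun i j _ => Subsingleton.elim i j) hD hsep
    obtain ⟨χ, hχ⟩ := block_nonempty hM (hB 0).1
    refine ⟨χ, ?_⟩
    have h1 := le_factorization_charDegree_of_defectGroup hM (hB 0).1 (hB 0).2 hχ
    rw [Subgroup.card_bot, Nat.factorization_one, Finsupp.zero_apply, Nat.sub_zero] at h1
    have hd0 : charDegree (χ : G → ℂ) ≠ 0 := (charDegree_pos χ.2).ne'
    have hG0 : Nat.card G ≠ 0 := (Nat.card_pos).ne'
    have h2 : (charDegree (χ : G → ℂ)).factorization p ≤ (Nat.card G).factorization p :=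
      (Nat.factorization_le_iff_dvd hd0 hG0).2 (charDegree_dvd_card χ.2) p
    exact le_antisymm h2 h1
  have hconjinv : ∀ {y y' : G}, y * y = 1 → y ≠ 1 → IsConj y y' → y' * y' = 1 ∧ y' ≠ 1 := by
    intro y y' hyy hy1 hc
    obtain ⟨d, rfl⟩ := isConj_iff.1 hc
    exact conj_invol hyy hy1
  constructor
  · -- the Sylow subgroups are abelian
    intro P
    obtain ⟨y, hy⟩ := exists_prime_orderOf_dvd_card' (G := G) 2 (even_iff_two_dvd.1 hG)
    obtain ⟨hyy, hy1⟩ := invol_of_orderOf hy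
    obtain ⟨x, hx1, hx, hinv⟩ := key y hy
    obtain ⟨y', hc, hy'P, a, haP, ha1⟩ :=
      exists_conj_inverting_sylow hp2 h2p P hyy hy1 hx1 hx hinv
    obtain ⟨hy'2, hy'1⟩ := hconjinv hyy hy1 hc
    have hcomm := sylow_comm_of_inverts hp2 h2p P haP ha1 hy'2 hy'1 (hy'P a haP)
    exact ⟨⟨fun a b => Subtype.ext (hcomm a a.2 b b.2)⟩⟩
  · intro s t hs ht
    obtain ⟨P⟩ : Nonempty (Sylow p G) := inferInstance
    obtain ⟨hss, hs1⟩ := invol_of_orderOf hs
    obtain ⟨htt, ht1⟩ := invol_of_orderOf ht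
    obtain ⟨x, hx1, hx, hinv⟩ := key s hs
    obtain ⟨x', hx1', hx', hinv'⟩ := key t ht
    obtain ⟨s', hcs, hs'P, hPne⟩ := exists_conj_inverting_sylow hp2 h2p P hss hs1 hx1 hx hinv
    obtain ⟨t', hct, ht'P, -⟩ := exists_conj_inverting_sylow hp2 h2p P htt ht1 hx1' hx' hinv'
    obtain ⟨hs'2, -⟩ := hconjinv hss hs1 hcs
    obtain ⟨ht'2, -⟩ := hconjinv htt ht1 hct
    have h := isConj_of_invert_sylow hp2 h2p P hs'2 ht'2 hs'P ht'P hPne
    exact hcs.trans (h.trans hct.symm)

end Cfsg.Agent.S4738
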