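import Mathlib
import Cfsg.Statements.S4740
import Cfsg.Agent.Lib.Helper24.CharHom
import Cfsg.Agent.S4665

set_option autoImplicit false
open Cfsg

namespace Cfsg.Agent.S4740

open Cfsg.Agent.Helper24
open scoped ComplexConjugate

/-- If `A` is an algebraic integer with `A * b = N` for naturals `b ≠ 0`, `N`, then `b ∣ N`. -/
theorem dvd_of_isIntegral_mul_eq {A : ℂ} (hA : IsIntegral ℤ A) {b N : ℕ} (hb : b ≠ 0)
    (h : A * (b : ℂ) = (N : ℂ)) : b ∣ N := by
  have hb0 : (b : ℚ) ≠ 0 := by exact_mod_cast hb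
  have hbc : (b : ℂ) ≠ 0 := by exact_mod_cast hb
  have h2 : A = algebraMap ℚ ℂ ((N : ℚ) / (b : ℚ)) := by
    rw [eq_div_of_mul_eq hbc h]
    simp
  rw [h2, isIntegral_algebraMap_iff (algebraMap ℚ ℂ).injective] at hA
  obtain ⟨m, hm⟩ := IsIntegrallyClosed.isIntegral_iff.mp hA
  have h3 : (m : ℚ) * b = N := by
    have : (algebraMap ℤ ℚ m) = (m : ℚ) := rfl
    rw [this] at hm
    rw [hm]
    field_simp
  have h4 : (m * (b : ℤ)) = (N : ℤ) := by exact_mod_cast h3
  have h5 : (b : ℤ) ∣ (N : ℤ) := ⟨m, by rw [← h4]; ring⟩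
  exact_mod_cast h5

/-- A product of two conjugates of an involution `x` inverts... : if `x * (y x y⁻¹)` is conjugate
to `z` then some conjugate of `x` inverts `z`. -/
theorem exists_conj_inverting {G : Type*} [Group G] (x : G) (hx : x * x = 1) (y z : G)
    (h : IsConj z (x * (y * x * y⁻¹))) : ∃ g : G, IsConj x g ∧ g * z * g⁻¹ = z⁻¹ := by
  obtain ⟨w, hw⟩ := isConj_iff.mp h
  -- w z w⁻¹ = x * (y x y⁻¹), so z = (w⁻¹ x w) (w⁻¹ y x y⁻¹ w)
  have hxinv : x⁻¹ = x := inv_eq_of_mul_eq_one_right hx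
  refine ⟨w⁻¹ * x * w⁻¹⁻¹, isConj_iff.mpr ⟨w⁻¹, rfl⟩, ?_⟩
  have hz : z = w⁻¹ * (x * (y * x * y⁻¹)) * w := by rw [← hw]; group
  have hzinv : z⁻¹ = w⁻¹ * ((y * x * y⁻¹) * x) * w := by
    rw [hz]
    simp only [mul_inv_rev, inv_inv, hxinv, mul_assoc]
  rw [hzinv, hz]
  simp only [mul_inv_rev, inv_inv, hxinv, mul_assoc]
  simp only [mul_inv_cancel_left]
  rw [← mul_assoc x x, hx, one_mul]

theorem key_identity {G : Type*} [Group G] [Fintype G] [Fintype (IrrCharacter G)] (x : G)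
    (hx : x * x = 1) (P : Subgroup G) [Fintype P]
    (hinv : ∀ g : G, IsConj x g → ∀ z ∈ P, z ≠ 1 → g * z * g⁻¹ ≠ z⁻¹)
    (m : IrrCharacter G → ℕ)
    (hm : ∀ χ : IrrCharacter G, ∑ z : P, (χ : G → ℂ) z = (Nat.card P : ℂ) * m χ) :
    (Nat.card (Subgroup.centralizer ({x} : Set G)) : ℂ) =
      (Nat.card P : ℂ) * ∑ χ : IrrCharacter G, (χ : G → ℂ) x ^ 2 * (m χ : ℂ) / (χ : G → ℂ) 1 := by
  classical
  have hcard : (Nat.card G : ℂ) ≠ 0 := by exact_mod_cast (Nat.card_pos (α := G)).ne'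
  have hne : ∀ χ : IrrCharacter G, (χ : G → ℂ) 1 ≠ 0 := by
    intro χ
    obtain ⟨n, hn, hn1⟩ := irr_one_eq χ.2
    rw [hn1]; exact_mod_cast hn.ne'
  obtain ⟨F, hF⟩ : ∃ F : G → ℂ, ∀ z, F z =
      ∑ χ : IrrCharacter G, (χ : G → ℂ) x ^ 2 * conj ((χ : G → ℂ) z) / (χ : G → ℂ) 1 := ⟨_, fun _ => rfl⟩
  -- (i)
  have h1 : ∀ z ∈ P, z ≠ 1 → F z = 0 := by
    intro z hz hz1
    have hzero : ∀ y : G, Nat.card {c : G // c * z * c⁻¹ = x * (y * x * y⁻¹)} = 0 := by
      intro y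
      apply card_conj_eq_zero_of_not_isConj
      intro hc
      obtain ⟨g, hg, hgz⟩ := exists_conj_inverting x hx y z hc
      exact hinv g hg z hz hz1 hgz
    have h2 : (Nat.card G : ℂ) * F z = 0 := by
      rw [hF, Finset.mul_sum]
      have : ∀ χ : IrrCharacter G, (Nat.card G : ℂ) *
          ((χ : G → ℂ) x ^ 2 * conj ((χ : G → ℂ) z) / (χ : G → ℂ) 1) =
          ∑ y : G, (χ : G → ℂ) (x * (y * x * y⁻¹)) * conj ((χ : G → ℂ) z) := by
        intro χ
        rw [← Finset.sum_mul, sum_char_mul_conj χ.2 x x]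
        field_simp
      simp only [this]
      rw [Finset.sum_comm]
      apply Finset.sum_eq_zero
      intro y _
      rw [second_orthogonality, hzero y, Nat.cast_zero]
    rcases mul_eq_zero.mp h2 with h | h
    · exact absurd h hcard
    · exact h
  -- (ii)
  have hxinv : x⁻¹ = x := inv_eq_of_mul_eq_one_right hx
  have h2 : F 1 = (Nat.card (Subgroup.centralizer ({x} : Set G)) : ℂ) := by
    rw [hF, ← card_conj_eq_of_isConj (IsConj.refl x), ← second_orthogonality]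
    refine Finset.sum_congr rfl fun χ _ => ?_
    have hreal : conj ((χ : G → ℂ) x) = (χ : G → ℂ) x := by
      obtain ⟨n, ρ, -, hρ⟩ := χ.2
      rw [← hρ, ← char_inv ρ x, hxinv]
    have h11 : conj ((χ : G → ℂ) 1) = (χ : G → ℂ) 1 := by
      obtain ⟨n, hn, hn1⟩ := irr_one_eq χ.2
      rw [hn1]; simp
    rw [hreal, h11, mul_div_assoc, div_self (hne χ), mul_one, sq]
  -- (iii)
  have h3 : ∑ z : P, F (z : G) = F 1 := by
    rw [Finset.sum_eq_single (1 : P)]
    · rfl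
    · intro z _ hz
      exact h1 z z.2 (fun h => hz (Subtype.ext h))
    · intro h
      exact absurd (Finset.mem_univ _) h
  -- (iv)
  have h4 : ∑ z : P, F (z : G) =
      (Nat.card P : ℂ) * ∑ χ : IrrCharacter G, (χ : G → ℂ) x ^ 2 * (m χ : ℂ) / (χ : G → ℂ) 1 := by
    simp only [hF]
    rw [Finset.sum_comm, Finset.mul_sum]
    refine Finset.sum_congr rfl fun χ _ => ?_
    have : ∑ z : P, conj ((χ : G → ℂ) (z : G)) = (Nat.card P : ℂ) * m χ := by
      rw [← map_sum, hm χ]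
      simp
    calc ∑ z : P, (χ : G → ℂ) x ^ 2 * conj ((χ : G → ℂ) (z : G)) / (χ : G → ℂ) 1
        = (χ : G → ℂ) x ^ 2 / (χ : G → ℂ) 1 * ∑ z : P, conj ((χ : G → ℂ) (z : G)) := by
          rw [Finset.mul_sum]
          refine Finset.sum_congr rfl fun z _ => ?_
          ring
      _ = (Nat.card P : ℂ) * ((χ : G → ℂ) x ^ 2 * (m χ : ℂ) / (χ : G → ℂ) 1) := by
          rw [this]; ring
  rw [← h2, ← h3, h4]

/-- Let p be an odd prime, G a finite group of even order, x an involution of G and P a subgroup of G of order p ^ c such that no conjugate of x inverts a non-identity element of P. If p ^ a is the p-part of the order of C_G(x), then some irreducible character of G has degree divisible by p ^ (c - a). -/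
theorem result {G : Type*} [Group G] [Finite G] (p : ℕ) [Fact p.Prime] (hp2 : p ≠ 2) (hG : Even (Nat.card G)) (x : G) (hx : orderOf x = 2) (P : Subgroup G) (c : ℕ) (hP : Nat.card ↥P = p ^ c) (hinv : ∀ g : G, IsConj x g → ∀ z ∈ P, z ≠ 1 → g * z * g⁻¹ ≠ z⁻¹) (a : ℕ) (ha : (Nat.card ↥(Subgroup.centralizer ({x} : Set G))).factorization p = a) : ∃ χ : Cfsg.IrrCharacter G, p ^ (c - a) ∣ Cfsg.charDegree (χ : G → ℂ) := by
  classical
  haveI : Fintype G := Fintype.ofFinite G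
  haveI : Fintype (IrrCharacter G) := irrFintype
  haveI : Fintype P := Fintype.ofFinite P
  have hp : p.Prime := Fact.out
  by_contra hcon
  push Not at hcon
  have he : 1 ≤ c - a := by
    by_contra h0
    have : c - a = 0 := by omega
    exact hcon (principalChar G) (by rw [this, pow_zero]; exact one_dvd _)
  have hxx : x * x = 1 := by rw [← sq, ← hx, pow_orderOf_eq_one]
  have hischar : ∀ χ : IrrCharacter G, IsCharacter G (χ : G → ℂ) := by
    intro χ
    obtain ⟨n, ρ, -, hρ⟩ := χ.2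
    exact ⟨n, ρ, hρ⟩
  have hmex : ∀ χ : IrrCharacter G, ∃ m : ℕ,
      ∑ z : P, (χ : G → ℂ) z = (Nat.card P : ℂ) * m :=
    fun χ => Cfsg.Agent.S4665.sum_char_subgroup (χ : G → ℂ) (hischar χ) P
  choose m hm using hmex
  have key := key_identity x hxx P hinv m hm
  -- the p'-parts of the degrees
  obtain ⟨W, hWdef⟩ : ∃ W : ℕ, W = ∏ χ : IrrCharacter G, ordCompl[p] (charDegree (χ : G → ℂ)) :=
    ⟨_, rfl⟩
  have hdpos : ∀ χ : IrrCharacter G, 0 < charDegree (χ : G → ℂ) := fun χ => charDegree_pos χ.2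
  have hW : ¬ p ∣ W := by
    rw [hWdef, Prime.dvd_finset_prod_iff hp.prime]
    rintro ⟨χ, -, hχ⟩
    exact Nat.not_dvd_ordCompl hp (hdpos χ).ne' hχ
  have hWpos : 0 < W := by
    rw [hWdef]
    exact Finset.prod_pos fun χ _ => Nat.ordCompl_pos p (hdpos χ).ne'
  have hdvd : ∀ χ : IrrCharacter G, charDegree (χ : G → ℂ) ∣ p ^ (c - a - 1) * W := by
    intro χ
    have h1 : charDegree (χ : G → ℂ) =
        p ^ (charDegree (χ : G → ℂ)).factorization p * ordCompl[p] (charDegree (χ : G → ℂ)) :=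
      (Nat.ordProj_mul_ordCompl_eq_self _ p).symm
    have h2 : (charDegree (χ : G → ℂ)).factorization p ≤ c - a - 1 := by
      by_contra hlt
      push Not at hlt
      apply hcon χ
      rw [hp.pow_dvd_iff_le_factorization (hdpos χ).ne']
      omega
    rw [h1]
    refine Nat.mul_dvd_mul (pow_dvd_pow p h2) ?_
    rw [hWdef]
    exact Finset.dvd_prod_of_mem _ (Finset.mem_univ χ)
  choose q hq using hdvd
  -- the algebraic integer A
  have hAint : IsIntegral ℤ (∑ χ : IrrCharacter G, (χ : G → ℂ) x ^ 2 * (m χ : ℂ) * (q χ : ℂ)) := by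
    apply IsIntegral.sum
    intro χ _
    have h1 : IsIntegral ℤ ((χ : G → ℂ) x) := by
      obtain ⟨n, ρ, -, hρ⟩ := χ.2
      rw [← hρ]; exact isIntegral_char ρ x
    exact ((h1.pow 2).mul (isIntegral_natCast _)).mul (isIntegral_natCast _)
  have hAeq : (∑ χ : IrrCharacter G, (χ : G → ℂ) x ^ 2 * (m χ : ℂ) * (q χ : ℂ)) * ((p ^ c : ℕ) : ℂ) =
      ((p ^ (c - a - 1) * W * Nat.card (Subgroup.centralizer ({x} : Set G)) : ℕ) : ℂ) := by
    push_cast
    rw [key, hP]
    push_cast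
    have : ∀ χ : IrrCharacter G, (χ : G → ℂ) x ^ 2 * (m χ : ℂ) / (χ : G → ℂ) 1 *
        ((p : ℂ) ^ (c - a - 1) * (W : ℂ)) = (χ : G → ℂ) x ^ 2 * (m χ : ℂ) * (q χ : ℂ) := by
      intro χ
      have hd0 : ((charDegree (χ : G → ℂ) : ℕ) : ℂ) ≠ 0 := by exact_mod_cast (hdpos χ).ne'
      have hq' : ((p : ℂ) ^ (c - a - 1) * (W : ℂ)) = (charDegree (χ : G → ℂ) : ℂ) * (q χ : ℂ) := by
        exact_mod_cast congrArg (fun n : ℕ => (n : ℂ)) (hq χ)
      rw [hq', irr_one_eq_charDegree χ.2]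
      field_simp
    calc (∑ χ : IrrCharacter G, (χ : G → ℂ) x ^ 2 * (m χ : ℂ) * (q χ : ℂ)) * (p : ℂ) ^ c
        = (p : ℂ) ^ c * ∑ χ : IrrCharacter G, ((χ : G → ℂ) x ^ 2 * (m χ : ℂ) / (χ : G → ℂ) 1 *
            ((p : ℂ) ^ (c - a - 1) * (W : ℂ))) := by
          rw [mul_comm]
          congr 1
          exact Finset.sum_congr rfl fun χ _ => (this χ).symm
      _ = (p : ℂ) ^ (c - a - 1) * (W : ℂ) * ((p : ℂ) ^ c *
            ∑ χ : IrrCharacter G, (χ : G → ℂ) x ^ 2 * (m χ : ℂ) / (χ : G → ℂ) 1) := by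
          rw [← Finset.sum_mul]; ring
  have hdvdN := dvd_of_isIntegral_mul_eq hAint (pow_pos hp.pos c).ne' hAeq
  -- valuation count
  have hCpos : 0 < Nat.card (Subgroup.centralizer ({x} : Set G)) := Nat.card_pos
  have hcop : Nat.Coprime (p ^ c) W := Nat.Coprime.pow_left c ((Nat.Prime.coprime_iff_not_dvd hp).2 hW)
  have h1 : p ^ c ∣ p ^ (c - a - 1) * Nat.card (Subgroup.centralizer ({x} : Set G)) := by
    have : p ^ (c - a - 1) * W * Nat.card (Subgroup.centralizer ({x} : Set G)) =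
        W * (p ^ (c - a - 1) * Nat.card (Subgroup.centralizer ({x} : Set G))) := by ring
    rw [this] at hdvdN
    exact hcop.dvd_of_dvd_mul_left hdvdN
  have hne0 : p ^ (c - a - 1) * Nat.card (Subgroup.centralizer ({x} : Set G)) ≠ 0 :=
    Nat.mul_ne_zero (pow_pos hp.pos _).ne' hCpos.ne'
  rw [hp.pow_dvd_iff_le_factorization hne0, Nat.factorization_mul (pow_pos hp.pos _).ne' hCpos.ne',
    Finsupp.add_apply, ha, hp.factorization_pow, Finsupp.single_eq_same] at h1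
  omega

end Cfsg.Agent.S4740
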