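import Mathlib
import Cfsg.Statements.S4742
import Cfsg.Agent.Lib.Helper23.ClassConst

set_option autoImplicit false
open Cfsg

namespace Cfsg.Agent.S4742

open Cfsg.Agent.Helper24 Cfsg.Agent.Helper23
open scoped ComplexConjugate

/-- Core of the argument: if no irreducible character has `p`-defect zero and `z` is an element
such that no `g h⁻¹` with `g, h` conjugate to `z` is a non-identity `p`-element, then `p` divides
the order of the centralizer of `z`. -/
theorem prime_dvd_card_centralizer {G : Type*} [Group G] [Finite G] (p : ℕ) [Fact p.Prime]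
    (hpG : p ∣ Nat.card G)
    (hdef : ∀ χ : IrrCharacter G,
      (charDegree (χ : G → ℂ)).factorization p ≠ (Nat.card G).factorization p)
    (z : G)
    (hz : ∀ g h : G, IsConj z g → IsConj z h → g * h⁻¹ ≠ 1 → ∀ k : ℕ, orderOf (g * h⁻¹) ≠ p ^ k) :
    p ∣ Nat.card (Subgroup.centralizer ({z} : Set G)) := by
  classical
  haveI : Fintype G := Fintype.ofFinite G
  haveI : Fintype (IrrCharacter G) := irrFintype
  have hp : p.Prime := Fact.out
  obtain ⟨P⟩ : Nonempty (Sylow p G) := inferInstance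
  haveI : Fintype (P : Subgroup G) := Fintype.ofFinite _
  obtain ⟨a, hadef⟩ : ∃ a, a = (Nat.card G).factorization p := ⟨_, rfl⟩
  have hPcard : Nat.card (P : Subgroup G) = p ^ a := by rw [hadef]; exact P.card_eq_multiplicity
  have hGpos : Nat.card G ≠ 0 := Nat.card_pos.ne'
  have ha1 : 1 ≤ a := by
    rw [hadef]
    exact (hp.dvd_iff_one_le_factorization hGpos).1 hpG
  have hischar : ∀ χ : IrrCharacter G, IsCharacter G (χ : G → ℂ) := by
    intro χ
    obtain ⟨n, ρ, -, hρ⟩ := χ.2
    exact ⟨n, ρ, hρ⟩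
  have hmex : ∀ χ : IrrCharacter G, ∃ m : ℕ,
      ∑ u : (P : Subgroup G), (χ : G → ℂ) u = (Nat.card (P : Subgroup G) : ℂ) * m :=
    fun χ => sum_char_subgroup' (χ : G → ℂ) (hischar χ) _
  choose m hm using hmex
  have hno : ∀ u ∈ (P : Subgroup G), u ≠ 1 → ∀ w : G, ¬ IsConj u (z * (w * z⁻¹ * w⁻¹)) := by
    intro u hu hu1 w hconj
    have h1 : z * (w * z⁻¹ * w⁻¹) = z * (w * z * w⁻¹)⁻¹ := by group
    rw [h1] at hconj
    obtain ⟨k, hk⟩ := (IsPGroup.iff_orderOf.1 P.2) ⟨u, hu⟩
    rw [Subgroup.orderOf_mk] at hk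
    have hne1 : z * (w * z * w⁻¹)⁻¹ ≠ 1 := by
      intro h
      rw [h] at hconj
      exact hu1 (isConj_one_left.1 hconj)
    refine hz z (w * z * w⁻¹) (IsConj.refl z) (isConj_iff.mpr ⟨w, rfl⟩) hne1 k ?_
    rw [← hk]
    obtain ⟨c, hc⟩ := isConj_iff.mp hconj
    rw [← hc]
    exact (MulAut.conj c).orderOf_eq u
  have key := class_const_identity z z⁻¹ (P : Subgroup G) hno m hm
  rw [inv_inv, card_conj_eq_of_isConj (IsConj.refl z), hPcard] at key
  have hf : ∀ χ : IrrCharacter G, (charDegree (χ : G → ℂ)).factorization p ≤ a - 1 := by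
    intro χ
    have h1 : charDegree (χ : G → ℂ) ∣ Nat.card G := charDegree_dvd_card χ.2
    have h2 : (charDegree (χ : G → ℂ)).factorization p ≤ (Nat.card G).factorization p :=
      (Nat.factorization_le_iff_dvd (charDegree_pos χ.2).ne' hGpos).2 h1 p
    have h3 := hdef χ
    omega
  have hA : ∀ χ : IrrCharacter G, IsIntegral ℤ ((χ : G → ℂ) z * (χ : G → ℂ) z⁻¹) := by
    intro χ
    obtain ⟨n, ρ, -, hρ⟩ := χ.2
    rw [← hρ]
    exact (isIntegral_char ρ z).mul (isIntegral_char ρ z⁻¹)
  have hdvd := pow_dvd_of_degree_bound p (fun χ => (χ : G → ℂ) z * (χ : G → ℂ) z⁻¹) hA m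
    (Nat.card (Subgroup.centralizer ({z} : Set G))) a (a - 1) hf key
  have hpa : p ^ a = p ^ (a - 1) * p := by
    rw [← pow_succ]; congr 1; omega
  rw [hpa] at hdvd
  exact (Nat.mul_dvd_mul_iff_left (pow_pos hp.pos _)).1 hdvd

/-- Let p ≠ q be primes dividing the order of the finite group G, and suppose the centralizer of every non-identity p-element of G has order prime to q. Then either G has an irreducible character of p-defect zero, or for every non-identity q-element z of G there are conjugates g, h of z such that g h⁻¹ is a non-identity p-element. -/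
theorem result {G : Type*} [Group G] [Finite G] (p q : ℕ) [Fact p.Prime] [Fact q.Prime] (hppq : p ≠ q) (hpG : p ∣ Nat.card G) (hqG : q ∣ Nat.card G) (hC : ∀ g : G, g ≠ 1 → (∃ k : ℕ, orderOf g = p ^ k) → ¬ q ∣ Nat.card ↥(Subgroup.centralizer ({g} : Set G))) : (∃ χ : Cfsg.IrrCharacter G, (Cfsg.charDegree (χ : G → ℂ)).factorization p = (Nat.card G).factorization p) ∨ ∀ z : G, z ≠ 1 → (∃ k : ℕ, orderOf z = q ^ k) → ∃ g h : G, IsConj z g ∧ IsConj z h ∧ g * h⁻¹ ≠ 1 ∧ ∃ k : ℕ, orderOf (g * h⁻¹) = p ^ k := by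
  have hp : p.Prime := Fact.out
  have hq : q.Prime := Fact.out
  by_contra hcon
  push Not at hcon
  obtain ⟨hdef, z, hz1, ⟨k, hzk⟩, hz⟩ := hcon
  have hdvd := prime_dvd_card_centralizer p hpG hdef z hz
  -- an element of order p centralizing z
  obtain ⟨u, hu⟩ := exists_prime_orderOf_dvd_card' p hdvd
  have hu' : orderOf (u : G) = p := by rw [Subgroup.orderOf_coe]; exact hu
  have hu1 : (u : G) ≠ 1 := by
    intro h
    rw [h, orderOf_one] at hu'
    exact hp.one_lt.ne' hu'.symm
  have hnq := hC (u : G) hu1 ⟨1, by rw [hu', pow_one]⟩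
  apply hnq
  -- z lies in the centralizer of u
  have hzu : z ∈ Subgroup.centralizer ({(u : G)} : Set G) := by
    rw [Subgroup.mem_centralizer_singleton_iff]
    exact (Subgroup.mem_centralizer_singleton_iff.1 u.2).symm
  have hk1 : k ≠ 0 := by
    intro h0
    rw [h0, pow_zero, orderOf_eq_one_iff] at hzk
    exact hz1 hzk
  have h1 : q ∣ orderOf z := by rw [hzk]; exact dvd_pow_self q hk1
  have h2 : orderOf (⟨z, hzu⟩ : Subgroup.centralizer ({(u : G)} : Set G)) = orderOf z :=
    Subgroup.orderOf_mk _ _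
  have h3 := orderOf_dvd_natCard (⟨z, hzu⟩ : Subgroup.centralizer ({(u : G)} : Set G))
  rw [h2] at h3
  exact h1.trans h3

end Cfsg.Agent.S4742
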