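import Mathlib
import Cfsg.Statements.S4744
import Cfsg.Agent.S4742
import Cfsg.Agent.Lib.Helper23.InvolutionInvert

set_option autoImplicit false
open Cfsg

namespace Cfsg.Agent.S4744

open Cfsg.Agent.Helper24 Cfsg.Agent.Helper23
open scoped Pointwise

/-- Under the hypotheses of the statement, without a character of `p`-defect zero, some
involution inverts a whole Sylow `p`-subgroup of `G`. -/
theorem exists_inverted_sylow {G : Type*} [Group G] [Finite G] (p : ℕ) [Fact p.Prime]
    (hpG : p ∣ Nat.card G) (h2G : 2 ∣ Nat.card G)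
    (hC : ∀ g : G, g ≠ 1 → (∃ k : ℕ, orderOf g = p ^ k) →
      Odd (Nat.card ↥(Subgroup.centralizer ({g} : Set G))))
    (hdef : ∀ χ : IrrCharacter G,
      (charDegree (χ : G → ℂ)).factorization p ≠ (Nat.card G).factorization p) :
    ∃ (g : G) (P' : Sylow p G), g * g = 1 ∧ g ≠ 1 ∧ ∀ u ∈ (P' : Subgroup G), g * u * g⁻¹ = u⁻¹ := by
  classical
  have hp : p.Prime := Fact.out
  haveI : Fact (Nat.Prime 2) := ⟨Nat.prime_two⟩
  -- an involution
  obtain ⟨t, ht⟩ := exists_prime_orderOf_dvd_card' 2 h2G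
  have ht1 : t ≠ 1 := by
    intro h; rw [h, orderOf_one] at ht; omega
  -- elements of order 2 do not centralize non-identity p-elements
  have hno2 : ∀ (s u : G), orderOf s = 2 → u ≠ 1 → (∃ k : ℕ, orderOf u = p ^ k) →
      s * u ≠ u * s := by
    intro s u hs hu1 hu hcomm
    have hodd := hC u hu1 hu
    have hsu : s ∈ Subgroup.centralizer ({u} : Set G) :=
      Subgroup.mem_centralizer_singleton_iff.2 hcomm
    have h1 := orderOf_dvd_natCard (⟨s, hsu⟩ : Subgroup.centralizer ({u} : Set G))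
    rw [Subgroup.orderOf_mk, hs] at h1
    rw [← even_iff_two_dvd] at h1
    exact (Nat.not_even_iff_odd.2 hodd) h1
  -- p does not divide |C(t)|
  have hnd : ¬ p ∣ Nat.card (Subgroup.centralizer ({t} : Set G)) := by
    intro hdvd
    obtain ⟨u, hu⟩ := exists_prime_orderOf_dvd_card' p hdvd
    have hu' : orderOf (u : G) = p := by rw [Subgroup.orderOf_coe]; exact hu
    have hu1 : (u : G) ≠ 1 := by
      intro h
      rw [h, orderOf_one] at hu'
      exact hp.one_lt.ne' hu'.symm
    exact hno2 t u ht hu1 ⟨1, by rw [hu', pow_one]⟩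
      (Subgroup.mem_centralizer_singleton_iff.1 u.2).symm
  have h3 := mt (Cfsg.Agent.S4742.prime_dvd_card_centralizer p hpG hdef t) hnd
  push Not at h3
  obtain ⟨g, h, hg, hh, hne, k, hk⟩ := h3
  -- g and h are involutions
  have hinvol : ∀ s : G, IsConj t s → s * s = 1 ∧ s ≠ 1 := by
    intro s hs
    obtain ⟨c, hc⟩ := isConj_iff.mp hs
    have htt : t * t = 1 := by rw [← sq, ← ht, pow_orderOf_eq_one]
    refine ⟨?_, ?_⟩
    · rw [← hc, show c * t * c⁻¹ * (c * t * c⁻¹) = c * (t * t) * c⁻¹ by group, htt]; group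
    · intro h1
      rw [h1] at hs
      exact ht1 (isConj_one_left.1 hs)
  obtain ⟨hgg, hg1⟩ := hinvol g hg
  obtain ⟨hhh, hh1⟩ := hinvol h hh
  have hginv : g⁻¹ = g := inv_eq_of_mul_eq_one_right hgg
  have hhinv : h⁻¹ = h := inv_eq_of_mul_eq_one_right hhh
  have hg2 : orderOf g = 2 := orderOf_eq_prime (by rw [sq]; exact hgg) hg1
  obtain ⟨v, hvdef⟩ : ∃ v, v = g * h⁻¹ := ⟨_, rfl⟩
  rw [← hvdef] at hne hk
  have hgv : g * v * g⁻¹ = v⁻¹ := by
    rw [hvdef, mul_inv_rev, inv_inv, ← mul_assoc, hgg, one_mul, hhinv]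
  have hfree : ∀ u : G, u ≠ 1 → (∃ k : ℕ, orderOf u = p ^ k) → g * u * g⁻¹ ≠ u := by
    intro u hu1 hu hfix
    apply hno2 g u hg2 hu1 hu
    have := congrArg (fun t => t * g) hfix
    simpa using this
  -- first application
  obtain ⟨Q₁, hQ₁C, hQ₁card, hQ₁inv, hvQ₁⟩ :=
    exists_inverted_sylow_centralizer p g v hgg hgv (hC v hne ⟨k, hk⟩) hfree
  have hvQ : v ∈ Q₁ := hvQ₁ ⟨k, hk⟩
  have hQ₁p : IsPGroup p Q₁ := IsPGroup.of_card hQ₁card
  obtain ⟨P₀, hQP⟩ := hQ₁p.exists_le_sylow
  -- P₀ ⊓ C(v) = Q₁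
  have hinf : (P₀ : Subgroup G) ⊓ Subgroup.centralizer ({v} : Set G) = Q₁ := by
    symm
    apply Subgroup.eq_of_le_of_card_ge (le_inf hQP hQ₁C)
    have hpg : IsPGroup p ((P₀ : Subgroup G) ⊓ Subgroup.centralizer ({v} : Set G) : Subgroup G) :=
      P₀.2.to_inf_left
    obtain ⟨j, hj⟩ := IsPGroup.iff_card.1 hpg
    have h1 : Nat.card ((P₀ : Subgroup G) ⊓ Subgroup.centralizer ({v} : Set G) : Subgroup G) ∣
        Nat.card (Subgroup.centralizer ({v} : Set G)) := Subgroup.card_dvd_of_le inf_le_right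
    rw [hj] at h1 ⊢
    rw [hQ₁card]
    have := (hp.pow_dvd_iff_le_factorization Nat.card_pos.ne').1 h1
    exact Nat.pow_le_pow_right hp.pos this
  -- a non-identity element of Z(P₀)
  have hPcard : Nat.card (P₀ : Subgroup G) = p ^ (Nat.card G).factorization p :=
    P₀.card_eq_multiplicity
  have ha1 : 1 ≤ (Nat.card G).factorization p :=
    (hp.dvd_iff_one_le_factorization Nat.card_pos.ne').1 hpG
  haveI : Nontrivial (P₀ : Subgroup G) := by
    rw [← Finite.one_lt_card_iff_nontrivial, hPcard]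
    exact Nat.one_lt_pow (by omega) hp.one_lt
  haveI := P₀.2.center_nontrivial
  obtain ⟨z, hz1⟩ := exists_ne (1 : Subgroup.center (P₀ : Subgroup G))
  obtain ⟨w, hwdef⟩ : ∃ w : G, w = ((z : (P₀ : Subgroup G)) : G) := ⟨_, rfl⟩
  have hw1 : w ≠ 1 := by
    intro h
    apply hz1
    apply Subtype.ext
    apply Subtype.ext
    rw [← hwdef, h]; rfl
  have hwP : w ∈ (P₀ : Subgroup G) := by rw [hwdef]; exact (z : (P₀ : Subgroup G)).2
  have hwcomm : ∀ u ∈ (P₀ : Subgroup G), u * w = w * u := by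
    intro u hu
    have := Subgroup.mem_center_iff.1 z.2 ⟨u, hu⟩
    have := congrArg Subtype.val this
    rw [hwdef]
    simpa using this
  have hwQ : w ∈ Q₁ := by
    rw [← hinf]
    refine Subgroup.mem_inf.2 ⟨hwP, ?_⟩
    rw [Subgroup.mem_centralizer_singleton_iff]
    exact (hwcomm v (hQP hvQ)).symm
  have hgw : g * w * g⁻¹ = w⁻¹ := hQ₁inv w hwQ
  obtain ⟨kw, hkw⟩ := (IsPGroup.iff_orderOf.1 P₀.2) ⟨w, hwP⟩
  rw [Subgroup.orderOf_mk] at hkw
  -- second application
  obtain ⟨Q₂, hQ₂C, hQ₂card, hQ₂inv, -⟩ :=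
    exists_inverted_sylow_centralizer p g w hgg hgw (hC w hw1 ⟨kw, hkw⟩) hfree
  have hPC : (P₀ : Subgroup G) ≤ Subgroup.centralizer ({w} : Set G) := by
    intro u hu
    rw [Subgroup.mem_centralizer_singleton_iff]
    exact hwcomm u hu
  have hfac : (Nat.card (Subgroup.centralizer ({w} : Set G))).factorization p =
      (Nat.card G).factorization p := by
    apply le_antisymm
    · exact (Nat.factorization_le_iff_dvd Nat.card_pos.ne' Nat.card_pos.ne').2
        (Subgroup.card_subgroup_dvd_card _) p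
    · have h1 : p ^ (Nat.card G).factorization p ∣
          Nat.card (Subgroup.centralizer ({w} : Set G)) := by
        rw [← hPcard]; exact Subgroup.card_dvd_of_le hPC
      exact (hp.pow_dvd_iff_le_factorization Nat.card_pos.ne').1 h1
  rw [hfac] at hQ₂card
  exact ⟨g, Sylow.ofCard Q₂ hQ₂card, hgg, hg1, fun u hu => hQ₂inv u hu⟩

/-- Let p be an odd prime and G a finite group of even order divisible by p in which the centralizer of every non-identity p-element has odd order. Then either G has an irreducible character of p-defect zero, or the normalizer of every Sylow p-subgroup P of G has even order and P is abelian. -/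
theorem result {G : Type*} [Group G] [Finite G] (p : ℕ) [Fact p.Prime] (hp2 : p ≠ 2) (hpG : p ∣ Nat.card G) (h2G : 2 ∣ Nat.card G) (hC : ∀ g : G, g ≠ 1 → (∃ k : ℕ, orderOf g = p ^ k) → Odd (Nat.card ↥(Subgroup.centralizer ({g} : Set G)))) : (∃ χ : Cfsg.IrrCharacter G, (Cfsg.charDegree (χ : G → ℂ)).factorization p = (Nat.card G).factorization p) ∨ ∀ P : Sylow p G, Even (Nat.card ↥(Subgroup.normalizer ((P : Subgroup G) : Set G))) ∧ IsMulCommutative ↥(P : Subgroup G) := by
  by_cases hdef : ∃ χ : Cfsg.IrrCharacter G,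
      (Cfsg.charDegree (χ : G → ℂ)).factorization p = (Nat.card G).factorization p
  · exact Or.inl hdef
  right
  push Not at hdef
  obtain ⟨g, P', hgg, hg1, hinv⟩ := exists_inverted_sylow p hpG h2G hC hdef
  intro P
  obtain ⟨x, hx⟩ := MulAction.exists_smul_eq G P' P
  -- the conjugate involution inverts P
  obtain ⟨g', hg'def⟩ : ∃ g', g' = x * g * x⁻¹ := ⟨_, rfl⟩
  have hg'g' : g' * g' = 1 := by
    rw [hg'def, show x * g * x⁻¹ * (x * g * x⁻¹) = x * (g * g) * x⁻¹ by group, hgg]; group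
  have hg'1 : g' ≠ 1 := by
    intro h
    apply hg1
    rw [hg'def] at h
    have := congrArg (fun t => x⁻¹ * t * x) h
    simpa [mul_assoc] using this
  have hinvP : ∀ u ∈ (P : Subgroup G), g' * u * g'⁻¹ = u⁻¹ := by
    intro u hu
    rw [← hx, Sylow.coe_subgroup_smul, Subgroup.mem_smul_pointwise_iff_exists] at hu
    obtain ⟨s, hs, rfl⟩ := hu
    rw [MulAut.smul_def, MulAut.conj_apply, hg'def]
    have := hinv s hs
    calc x * g * x⁻¹ * (x * s * x⁻¹) * (x * g * x⁻¹)⁻¹ = x * (g * s * g⁻¹) * x⁻¹ := by group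
      _ = x * s⁻¹ * x⁻¹ := by rw [this]
      _ = (x * s * x⁻¹)⁻¹ := by group
  constructor
  · -- g' lies in the normalizer
    have hg'N : g' ∈ Subgroup.normalizer ((P : Subgroup G) : Set G) := by
      rw [Subgroup.mem_normalizer_iff]
      intro h
      constructor
      · intro hh
        rw [hinvP h hh]; exact inv_mem hh
      · intro hh
        have h1 := hinvP _ hh
        have h2 : g' * (g' * h * g'⁻¹) * g'⁻¹ = (g' * g') * h * (g' * g')⁻¹ := by group
        rw [h2, hg'g'] at h1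
        have h3 : h = (g' * h * g'⁻¹)⁻¹ := by simpa using h1
        rw [h3]; exact inv_mem hh
    have ho : orderOf g' = 2 := orderOf_eq_prime (by rw [sq]; exact hg'g') hg'1
    have h1 := orderOf_dvd_natCard (⟨g', hg'N⟩ : Subgroup.normalizer ((P : Subgroup G) : Set G))
    rw [Subgroup.orderOf_mk, ho] at h1
    exact even_iff_two_dvd.2 h1
  · refine ⟨⟨fun a b => ?_⟩⟩
    apply Subtype.ext
    rw [Subgroup.coe_mul, Subgroup.coe_mul]
    have h1 := hinvP _ (mul_mem a.2 b.2)
    have h2 : g' * ((a : G) * b) * g'⁻¹ = (g' * a * g'⁻¹) * (g' * b * g'⁻¹) := by group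
    rw [h2, hinvP a a.2, hinvP b b.2] at h1
    have h3 := congrArg (fun t => t⁻¹) h1
    simpa using h3.symm

end Cfsg.Agent.S4744
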