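import Mathlib
import Cfsg.Statements.S4754
import Cfsg.Agent.Lib.Helper23.ClassSep

set_option autoImplicit false
open Cfsg

namespace Cfsg.Agent.S4754

open Cfsg.Agent.Helper24 Cfsg.Agent.Helper23

/-- If all conjugate products lie in the class of `x y`, then `χ(1) χ(x y) = χ(x) χ(y)`. -/
theorem key_forward {G : Type*} [Group G] [Finite G] (x y : G)
    (H : ∀ a b : G, IsConj (x * y) (a * x * a⁻¹ * (b * y * b⁻¹)))
    (χ : G → ℂ) (hχ : IsIrrCharacter G χ) : χ 1 * χ (x * y) = χ x * χ y := by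
  classical
  haveI : Fintype G := Fintype.ofFinite G
  have h1 := sum_char_mul_conj hχ x y
  have hcard : (Nat.card G : ℂ) ≠ 0 := by exact_mod_cast (Nat.card_pos (α := G)).ne'
  have hne := irr_one_ne_zero χ hχ
  have h2 : ∀ g : G, χ (x * (g * y * g⁻¹)) = χ (x * y) := by
    intro g
    have := H 1 g
    obtain ⟨c, hc⟩ := isConj_iff.mp this
    have e : x * (g * y * g⁻¹) = c * (x * y) * c⁻¹ := by rw [hc]; group
    rw [e, irr_conj χ hχ]
  simp only [h2, Finset.sum_const, Finset.card_univ, nsmul_eq_mul, ← Nat.card_eq_fintype_card] at h1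
  rw [eq_div_iff hne] at h1
  have h3 : (Nat.card G : ℂ) * (χ 1 * χ (x * y)) = (Nat.card G : ℂ) * (χ x * χ y) := by
    linear_combination h1
  exact mul_left_cancel₀ hcard h3

/-- For elements x, y of a finite group G, the conjugacy class of x y equals the set of all products of a conjugate of x with a conjugate of y if and only if χ(1) χ(a x a⁻¹ b y b⁻¹) = χ(x) χ(y) for all a, b ∈ G and every irreducible character χ. -/
theorem result {G : Type*} [Group G] [Finite G] (x y : G) : (∀ z : G, IsConj (x * y) z ↔ ∃ a b : G, z = a * x * a⁻¹ * (b * y * b⁻¹)) ↔ ∀ (a b : G) (χ : Cfsg.IrrCharacter G), (χ : G → ℂ) 1 * (χ : G → ℂ) (a * x * a⁻¹ * (b * y * b⁻¹)) = (χ : G → ℂ) x * (χ : G → ℂ) y := by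
  constructor
  · intro H a b χ
    have H' : ∀ a b : G, IsConj (x * y) (a * x * a⁻¹ * (b * y * b⁻¹)) :=
      fun a b => (H _).2 ⟨a, b, rfl⟩
    obtain ⟨c, hc⟩ := isConj_iff.mp (H' a b)
    rw [← hc, irr_conj _ χ.2]
    exact key_forward x y H' _ χ.2
  · intro H z
    constructor
    · intro hz
      obtain ⟨c, hc⟩ := isConj_iff.mp hz
      refine ⟨c, c, ?_⟩
      rw [← hc]; group
    · rintro ⟨a, b, rfl⟩
      apply isConj_of_forall_irr_eq
      intro χ
      have h1 := H a b χ
      have h2 := H 1 1 χ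
      simp only [one_mul, inv_one, mul_one] at h2
      have hne := irr_one_ne_zero _ χ.2
      exact mul_left_cancel₀ hne (h1.trans h2.symm)

end Cfsg.Agent.S4754
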