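import Mathlib
import Cfsg.Statements.S4755
import Cfsg.Agent.S4754

set_option autoImplicit false
open Cfsg

namespace Cfsg.Agent.S4755

open Cfsg.Agent.Helper24 Cfsg.Agent.Helper23
open scoped ComplexConjugate commutatorElement

/-- Let x, y be non-identity elements of the finite group G such that χ(x' y') = χ(x') χ(y') for all conjugates x' of x, y' of y and every irreducible character χ. Then the conjugacy class of x y is the set of all products of a conjugate of x with a conjugate of y; every irreducible character of degree greater than 1 vanishes at x y; and the conjugacy class of x y is the coset of the commutator subgroup containing x y. -/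
theorem result {G : Type*} [Group G] [Finite G] (x y : G) (hx : x ≠ 1) (hy : y ≠ 1) (h : ∀ (a b : G) (χ : Cfsg.IrrCharacter G), (χ : G → ℂ) (a * x * a⁻¹ * (b * y * b⁻¹)) = (χ : G → ℂ) (a * x * a⁻¹) * (χ : G → ℂ) (b * y * b⁻¹)) : (∀ z : G, IsConj (x * y) z ↔ ∃ a b : G, z = a * x * a⁻¹ * (b * y * b⁻¹)) ∧ (∀ χ : Cfsg.IrrCharacter G, (χ : G → ℂ) 1 ≠ 1 → (χ : G → ℂ) (x * y) = 0) ∧ (∀ z : G, IsConj (x * y) z ↔ (x * y)⁻¹ * z ∈ commutator G) := by
  classical
  haveI : Fintype G := Fintype.ofFinite G
  haveI : Fintype (IrrCharacter G) := irrFintype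
  have hcard : (Nat.card G : ℂ) ≠ 0 := by exact_mod_cast (Nat.card_pos (α := G)).ne'
  -- h in simplified form
  have h' : ∀ (a b : G) (χ : IrrCharacter G),
      (χ : G → ℂ) (a * x * a⁻¹ * (b * y * b⁻¹)) = (χ : G → ℂ) x * (χ : G → ℂ) y := by
    intro a b χ
    rw [h a b χ, irr_conj _ χ.2, irr_conj _ χ.2]
  -- dichotomy
  have hdich : ∀ χ : IrrCharacter G, (χ : G → ℂ) 1 ≠ 1 → (χ : G → ℂ) x * (χ : G → ℂ) y = 0 := by
    intro χ hχ1
    have hne := irr_one_ne_zero _ χ.2
    have h1 := sum_char_mul_conj χ.2 x y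
    have h2 : ∀ g : G, (χ : G → ℂ) (x * (g * y * g⁻¹)) = (χ : G → ℂ) x * (χ : G → ℂ) y := by
      intro g
      have := h' 1 g χ
      simpa using this
    simp only [h2, Finset.sum_const, Finset.card_univ, nsmul_eq_mul,
      ← Nat.card_eq_fintype_card] at h1
    rw [eq_div_iff hne] at h1
    have h3 : (Nat.card G : ℂ) * ((χ : G → ℂ) x * (χ : G → ℂ) y * ((χ : G → ℂ) 1 - 1)) = 0 := by
      linear_combination h1
    rcases mul_eq_zero.mp h3 with h4 | h4
    · exact absurd h4 hcard
    · rcases mul_eq_zero.mp h4 with h5 | h5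
      · exact h5
      · exact absurd (sub_eq_zero.mp h5) hχ1
  have hpart2 : ∀ χ : IrrCharacter G, (χ : G → ℂ) 1 ≠ 1 → (χ : G → ℂ) (x * y) = 0 := by
    intro χ hχ1
    have := h' 1 1 χ
    simp only [one_mul, inv_one, mul_one] at this
    rw [this]
    exact hdich χ hχ1
  refine ⟨?_, hpart2, ?_⟩
  · rw [Cfsg.Agent.S4754.result]
    intro a b χ
    rw [h' a b χ]
    by_cases hχ1 : (χ : G → ℂ) 1 = 1
    · rw [hχ1, one_mul]
    · rw [hdich χ hχ1, mul_zero]
  · intro z
    constructor
    · intro hz
      obtain ⟨c, hc⟩ := isConj_iff.mp hz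
      rw [← hc]
      have : (x * y)⁻¹ * (c * (x * y) * c⁻¹) = ⁅(x * y)⁻¹, c⁆ := by
        rw [commutatorElement_def]; group
      rw [this]
      exact Subgroup.commutator_mem_commutator (Subgroup.mem_top _) (Subgroup.mem_top _)
    · intro hz
      have h1 := second_orthogonality z (x * y)
      have h2 := second_orthogonality (x * y) (x * y)
      have h3 : (Nat.card {c : G // c * (x * y) * c⁻¹ = z} : ℂ) =
          (Nat.card {c : G // c * (x * y) * c⁻¹ = x * y} : ℂ) := by
        rw [← h1, ← h2]
        refine Finset.sum_congr rfl fun χ _ => ?_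
        by_cases hχ1 : (χ : G → ℂ) 1 = 1
        · have hchar : IsCharacter G (χ : G → ℂ) := by
            obtain ⟨n, ρ, -, hρ⟩ := χ.2
            exact ⟨n, ρ, hρ⟩
          have := linear_char_mul_commutator _ hchar hχ1 (x * y) _ hz
          rw [mul_inv_cancel_left] at this
          rw [this]
        · rw [hpart2 χ hχ1]
          simp
      have h4 : Nat.card {c : G // c * (x * y) * c⁻¹ = x * y} ≠ 0 := by
        have : Nonempty {c : G // c * (x * y) * c⁻¹ = x * y} := ⟨⟨1, by simp⟩⟩
        exact Nat.card_pos.ne'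
      have h5 : Nat.card {c : G // c * (x * y) * c⁻¹ = z} ≠ 0 := by
        intro h0
        rw [h0] at h3
        exact h4 (by exact_mod_cast h3.symm)
      by_contra hc
      exact h5 (card_conj_eq_zero_of_not_isConj hc)

end Cfsg.Agent.S4755
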