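import Mathlib
import Cfsg.Statements.S4762
import Cfsg.Agent.Lib.Helper24.NilpotentSplit
import Cfsg.Agent.Lib.Helper24.CharAbelian
import Cfsg.Agent.Lib.Helper24.CharBrauerPerm
import Cfsg.Agent.Lib.Helper24.GroupLemmas
import Cfsg.Agent.Lib.Helper5.Clifford
import Cfsg.Agent.Lib.Helper9.FrattiniElem
import Cfsg.Agent.Lib.Helper23.PGroup
import Cfsg.Agent.S0188

set_option autoImplicit false
open Cfsg

namespace Cfsg.Agent.S4762

open Cfsg.Agent.Helper24
open scoped ComplexConjugate commutatorElement

universe u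

section CommTwo

variable {G : Type u} [Group G] [Finite G]

/-- Two nonidentity elements of a derived subgroup of order two are equal. -/
theorem eq_of_ne_one (h2 : Nat.card (commutator G) = 2) {a b : G} (ha : a ∈ commutator G)
    (hb : b ∈ commutator G) (ha1 : a ≠ 1) (hb1 : b ≠ 1) : a = b := by
  obtain ⟨c, -, hc⟩ := (Nat.card_eq_two_iff' (1 : ↥(commutator G))).mp h2
  have h1 := hc ⟨a, ha⟩ (fun h => ha1 (congrArg Subtype.val h))
  have h3 := hc ⟨b, hb⟩ (fun h => hb1 (congrArg Subtype.val h))
  have := h1.trans h3.symm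
  exact congrArg Subtype.val this

theorem commutator_le_center (h2 : Nat.card (commutator G) = 2) :
    commutator G ≤ Subgroup.center G := by
  intro c hc
  rw [Subgroup.mem_center_iff]
  intro g
  by_cases hc1 : c = 1
  · rw [hc1]; simp
  · have hn : g * c * g⁻¹ ∈ commutator G :=
      (inferInstance : (commutator G).Normal).conj_mem c hc g
    have hne : g * c * g⁻¹ ≠ 1 := by
      intro h
      apply hc1
      have : c = g⁻¹ * (g * c * g⁻¹) * g := by group
      rw [this, h]; group
    have := eq_of_ne_one h2 hn hc hne hc1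
    calc g * c = g * c * g⁻¹ * g := by group
      _ = c * g := by rw [this]

theorem commutatorElement_sq (h2 : Nat.card (commutator G) = 2) (x y : G) :
    ⁅x, y⁆ * ⁅x, y⁆ = 1 := by
  have hc : ⁅x, y⁆ ∈ commutator G := Subgroup.commutator_mem_commutator (Subgroup.mem_top x)
    (Subgroup.mem_top y)
  have := orderOf_dvd_natCard (⟨⁅x, y⁆, hc⟩ : ↥(commutator G))
  rw [h2] at this
  have h3 : (⟨⁅x, y⁆, hc⟩ : ↥(commutator G)) ^ 2 = 1 := orderOf_dvd_iff_pow_eq_one.mp this
  have := congrArg Subtype.val h3
  simpa [pow_two] using this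

theorem sq_mem_center (h2 : Nat.card (commutator G) = 2) (x : G) :
    x * x ∈ Subgroup.center G := by
  rw [Subgroup.mem_center_iff]
  intro y
  have hc : ⁅x, y⁆ ∈ Subgroup.center G := commutator_le_center h2
    (Subgroup.commutator_mem_commutator (Subgroup.mem_top x) (Subgroup.mem_top y))
  have hcc := commutatorElement_sq h2 x y
  have hcomm : ∀ g, g * ⁅x, y⁆ = ⁅x, y⁆ * g := Subgroup.mem_center_iff.mp hc
  have hxy : x * y = ⁅x, y⁆ * (y * x) := by rw [commutatorElement_def]; group
  symm
  calc x * x * y = x * (x * y) := by group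
    _ = x * (⁅x, y⁆ * (y * x)) := by rw [← hxy]
    _ = ⁅x, y⁆ * (x * y) * x := by rw [← mul_assoc, hcomm x]; group
    _ = ⁅x, y⁆ * (⁅x, y⁆ * (y * x)) * x := by rw [← hxy]
    _ = (⁅x, y⁆ * ⁅x, y⁆) * (y * (x * x)) := by group
    _ = y * (x * x) := by rw [hcc, one_mul]

/-- A noncentral element has centralizer of index two. -/
theorem index_centralizer_eq_two (h2 : Nat.card (commutator G) = 2) {g : G}
    (hg : g ∉ Subgroup.center G) : (Subgroup.centralizer ({g} : Set G)).index = 2 := by
  classical
  haveI : Fintype G := Fintype.ofFinite G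
  have hcls := card_filter_isConj g
  rw [← hcls]
  apply le_antisymm
  · -- class ⊆ G' * g
    have hle : (Finset.univ.filter (IsConj g)).card ≤
        (Finset.univ.filter (· ∈ commutator G)).card := by
      apply Finset.card_le_card_of_injOn (fun b => b * g⁻¹)
      · intro b hb
        rw [Finset.coe_filter, Set.mem_ofPred_eq] at hb
        obtain ⟨c, hc⟩ := isConj_iff.mp hb.2
        rw [Finset.coe_filter, Set.mem_ofPred_eq]
        refine ⟨Finset.mem_univ _, ?_⟩
        have : b * g⁻¹ = ⁅c, g⁆ := by rw [← hc, commutatorElement_def]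
        show b * g⁻¹ ∈ _
        rw [this]
        exact Subgroup.commutator_mem_commutator (Subgroup.mem_top c) (Subgroup.mem_top g)
      · intro b _ b' _ hbb
        exact mul_right_cancel hbb
    have : (Finset.univ.filter (· ∈ commutator G)).card = 2 := by
      rw [← h2, Nat.card_eq_fintype_card, Fintype.card_subtype]
    rw [this] at hle
    exact hle
  · -- at least two conjugates
    rw [Subgroup.mem_center_iff] at hg
    push Not at hg
    obtain ⟨x, hx⟩ := hg
    have hsub : ({g, x * g * x⁻¹} : Finset G) ⊆ Finset.univ.filter (IsConj g) := by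
      intro b hb
      rw [Finset.mem_insert, Finset.mem_singleton] at hb
      rw [Finset.mem_filter]
      refine ⟨Finset.mem_univ _, ?_⟩
      rcases hb with rfl | rfl
      · exact IsConj.refl _
      · exact isConj_iff.mpr ⟨x, rfl⟩
    have hne : g ≠ x * g * x⁻¹ := by
      intro h
      apply hx
      calc x * g = x * g * x⁻¹ * x := by group
        _ = g * x := by rw [← h]
    have := Finset.card_le_card hsub
    rwa [Finset.card_pair hne] at this

/-- Class number of a group with derived subgroup of order two. -/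
theorem two_mul_card_conjClasses (h2 : Nat.card (commutator G) = 2) :
    2 * Nat.card (ConjClasses G) = Nat.card G + Nat.card (Subgroup.center G) := by
  classical
  haveI : Fintype G := Fintype.ofFinite G
  have hpairs := card_comm_eq_card_conjClasses_mul_card G
  rw [card_subtype_prod_eq_sum_fst (fun a b : G => Commute a b)] at hpairs
  have hcent : ∀ g : G, Nat.card {h : G // Commute g h} =
      Nat.card (Subgroup.centralizer ({g} : Set G)) := by
    intro g
    apply Nat.card_congr
    apply Equiv.subtypeEquivRight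
    intro h
    rw [Subgroup.mem_centralizer_singleton_iff]
    exact ⟨fun hc => hc.symm.eq, fun hc => (show Commute h g from hc).symm⟩
  have hterm : ∀ g : G, 2 * Nat.card {h : G // Commute g h} =
      if g ∈ Subgroup.center G then 2 * Nat.card G else Nat.card G := by
    intro g
    rw [hcent]
    by_cases hg : g ∈ Subgroup.center G
    · rw [if_pos hg]
      have : Subgroup.centralizer ({g} : Set G) = ⊤ := by
        rw [eq_top_iff]
        intro x _
        rw [Subgroup.mem_centralizer_singleton_iff]
        exact (Subgroup.mem_center_iff.mp hg x)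
      rw [this, Subgroup.card_top]
    · rw [if_neg hg]
      have := Subgroup.card_mul_index (Subgroup.centralizer ({g} : Set G))
      rw [index_centralizer_eq_two h2 hg] at this
      rw [← this]; ring
  have hsum : 2 * (Nat.card (ConjClasses G) * Nat.card G) =
      ∑ g : G, if g ∈ Subgroup.center G then 2 * Nat.card G else Nat.card G := by
    rw [← hpairs, Finset.mul_sum]
    exact Finset.sum_congr rfl (fun g _ => hterm g)
  rw [Finset.sum_ite, Finset.sum_const, Finset.sum_const, smul_eq_mul, smul_eq_mul] at hsum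
  have hZ : (Finset.univ.filter (fun g : G => g ∈ Subgroup.center G)).card =
      Nat.card (Subgroup.center G) := by
    rw [Nat.card_eq_fintype_card, Fintype.card_subtype]
  have hnZ : (Finset.univ.filter (fun g : G => ¬ g ∈ Subgroup.center G)).card =
      Nat.card G - Nat.card (Subgroup.center G) := by
    have := Finset.card_filter_add_card_filter_not (s := (Finset.univ : Finset G))
      (fun g : G => g ∈ Subgroup.center G)
    rw [← hZ, Nat.card_eq_fintype_card, ← Finset.card_univ (α := G)]
    omega
  rw [hZ, hnZ] at hsum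
  have hle : Nat.card (Subgroup.center G) ≤ Nat.card G := Subgroup.card_le_card_group _
  have hpos : 0 < Nat.card G := Nat.card_pos
  have : (2 * Nat.card (ConjClasses G)) * Nat.card G =
      (Nat.card G + Nat.card (Subgroup.center G)) * Nat.card G := by
    have h3 : Nat.card G - Nat.card (Subgroup.center G) + Nat.card (Subgroup.center G) =
        Nat.card G := Nat.sub_add_cancel hle
    calc (2 * Nat.card (ConjClasses G)) * Nat.card G
        = 2 * (Nat.card (ConjClasses G) * Nat.card G) := by ring
      _ = Nat.card (Subgroup.center G) * (2 * Nat.card G) +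
          (Nat.card G - Nat.card (Subgroup.center G)) * Nat.card G := hsum
      _ = (Nat.card (Subgroup.center G) + (Nat.card G - Nat.card (Subgroup.center G)) +
          Nat.card (Subgroup.center G)) * Nat.card G := by ring
      _ = (Nat.card G + Nat.card (Subgroup.center G)) * Nat.card G := by
          rw [add_comm (Nat.card (Subgroup.center G)) _, h3]
  exact Nat.eq_of_mul_eq_mul_right hpos this

end CommTwo

section PGroup

variable {G : Type u} [Group G] [Finite G] (p : ℕ) [Fact p.Prime]

theorem dvd_degree_iff (hP : IsPGroup p G) {χ : G → ℂ} (hχ : IsIrrCharacter G χ) :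
    p ∣ charDegree χ ↔ charDegree χ ≠ 1 := by
  have hp : p.Prime := Fact.out
  haveI : Fintype G := Fintype.ofFinite G
  constructor
  · intro h h1
    rw [h1] at h
    exact hp.one_lt.ne' (Nat.dvd_one.mp h)
  · intro h1
    obtain ⟨n, hn⟩ := IsPGroup.iff_card.mp hP
    have hd := charDegree_dvd_card hχ
    rw [hn] at hd
    obtain ⟨j, -, hj⟩ := (Nat.dvd_prime_pow hp).mp hd
    rw [hj]
    have : j ≠ 0 := by
      rintro rfl
      exact h1 (by rw [hj, pow_zero])
    exact dvd_pow_self p this

/-- Counting irreducible characters by linear / nonlinear. -/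
theorem card_irr_eq_add :
    Nat.card (IrrCharacter G) = (commutator G).index +
      Nat.card {χ : IrrCharacter G // charDegree (χ : G → ℂ) ≠ 1} := by
  classical
  haveI : Fintype G := Fintype.ofFinite G
  letI : Fintype (IrrCharacter G) := irrFintype
  rw [← card_linear_characters', Nat.card_eq_fintype_card, Nat.card_eq_fintype_card,
    Nat.card_eq_fintype_card, Fintype.card_subtype_compl]
  have := Fintype.card_subtype_le (fun χ : IrrCharacter G => charDegree (χ : G → ℂ) = 1)
  omega

/-- Part III: an extraspecial `2`-group has exactly one irreducible character of even degree. -/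
theorem card_eq_one_of_extraspecial (h : IsExtraspecial 2 G) :
    Nat.card {χ : IrrCharacter G // 2 ∣ charDegree (χ : G → ℂ)} = 1 := by
  classical
  haveI : Fintype G := Fintype.ofFinite G
  letI : Fintype (IrrCharacter G) := irrFintype
  obtain ⟨⟨hP, -, hcomm⟩, hZ⟩ := h
  haveI : Fact (Nat.Prime 2) := ⟨Nat.prime_two⟩
  have h2 : Nat.card (commutator G) = 2 := by rw [hcomm, hZ]
  have hk := two_mul_card_conjClasses h2
  rw [hZ, ← card_irr_eq_card_conjClasses, card_irr_eq_add] at hk
  have hmul := Subgroup.card_mul_index (commutator G)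
  rw [h2] at hmul
  have h1 : Nat.card {χ : IrrCharacter G // charDegree (χ : G → ℂ) ≠ 1} = 1 := by omega
  rw [← h1]
  apply Nat.card_congr
  apply Equiv.subtypeEquivRight
  intro χ
  exact dvd_degree_iff 2 hP χ.2

/-- Part II: a `p`-group with exactly one irreducible character of degree divisible by `p` is an
extraspecial `2`-group. -/
theorem extraspecial_of_card_eq_one (hP : IsPGroup p G)
    (hone : Nat.card {χ : IrrCharacter G // p ∣ charDegree (χ : G → ℂ)} = 1) :
    p = 2 ∧ IsExtraspecial 2 G := by
  classical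
  have hp : p.Prime := Fact.out
  haveI : Fintype G := Fintype.ofFinite G
  letI : Fintype (IrrCharacter G) := irrFintype
  have hnl : Nat.card {χ : IrrCharacter G // charDegree (χ : G → ℂ) ≠ 1} = 1 := by
    refine Eq.trans (Nat.card_congr ?_) hone
    apply Equiv.subtypeEquivRight
    intro χ
    exact (dvd_degree_iff p hP χ.2).symm
  obtain ⟨hsub, ⟨⟨χ₀, hχ₀⟩⟩⟩ := Nat.card_eq_one_iff_unique.mp hnl
  have huniq : ∀ χ : IrrCharacter G, charDegree (χ : G → ℂ) ≠ 1 → χ = χ₀ := by
    intro χ hχ
    exact congrArg Subtype.val (hsub.elim ⟨χ, hχ⟩ ⟨χ₀, hχ₀⟩)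
  set d := charDegree (χ₀ : G → ℂ) with hd
  -- sum of squares
  have hsq : (commutator G).index + d ^ 2 = Nat.card G := by
    rw [← sum_charDegree_sq (G := G),
      ← Finset.sum_filter_add_sum_filter_not Finset.univ
        (fun χ : IrrCharacter G => charDegree (χ : G → ℂ) = 1)]
    congr 1
    · rw [← card_linear_characters', Nat.card_eq_fintype_card, Fintype.card_subtype,
        Finset.card_eq_sum_ones]
      apply Finset.sum_congr rfl
      intro χ hχ
      rw [(Finset.mem_filter.mp hχ).2, one_pow]
    · have : Finset.univ.filter (fun χ : IrrCharacter G => ¬ charDegree (χ : G → ℂ) = 1) = {χ₀} := by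
        ext χ
        rw [Finset.mem_filter, Finset.mem_singleton]
        constructor
        · intro h; exact huniq χ h.2
        · rintro rfl; exact ⟨Finset.mem_univ _, hχ₀⟩
      rw [this, Finset.sum_singleton]
  have hmul := Subgroup.card_mul_index (commutator G)
  obtain ⟨c, hc⟩ := IsPGroup.iff_card.mp (hP.to_subgroup (commutator G))
  obtain ⟨n, hn⟩ := IsPGroup.iff_card.mp hP
  have hdd : d ∣ p ^ n := by rw [← hn]; exact charDegree_dvd_card χ₀.2
  obtain ⟨b, -, hb⟩ := (Nat.dvd_prime_pow hp).mp hdd
  have hipos : 0 < (commutator G).index := Nat.pos_of_ne_zero Subgroup.index_ne_zero_of_finite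
  have hidvd : (commutator G).index ∣ p ^ n := by rw [← hn]; exact Subgroup.index_dvd_card _
  obtain ⟨a, -, ha⟩ := (Nat.dvd_prime_pow hp).mp hidvd
  -- i * (|G'| - 1) = d^2
  have hb0 : b ≠ 0 := by
    rintro rfl
    exact hχ₀ (by rw [hb, pow_zero])
  have hkey : p ^ a * (p ^ c - 1) = p ^ (2 * b) := by
    have h1 : p ^ c * p ^ a = p ^ a + (p ^ b) ^ 2 := by
      rw [← hc, ← ha, hmul, ← hsq, hb]
    have hpc : 1 ≤ p ^ c := Nat.one_le_pow _ _ hp.pos
    have : p ^ a * (p ^ c - 1) + p ^ a = p ^ a + (p ^ b) ^ 2 := by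
      rw [← h1]
      have : p ^ c - 1 + 1 = p ^ c := Nat.sub_add_cancel hpc
      calc p ^ a * (p ^ c - 1) + p ^ a = p ^ a * (p ^ c - 1 + 1) := by ring
        _ = p ^ c * p ^ a := by rw [this]; ring
    have h2 : p ^ a * (p ^ c - 1) = (p ^ b) ^ 2 := by omega
    rw [h2, ← pow_mul, mul_comm]
  have hc0 : c ≠ 0 := by
    rintro rfl
    rw [pow_zero, Nat.sub_self, mul_zero] at hkey
    exact (pow_pos hp.pos _).ne' hkey.symm
  have hdv : p ^ c - 1 ∣ p ^ (2 * b) := ⟨p ^ a, by rw [← hkey]; ring⟩
  obtain ⟨e, -, he⟩ := (Nat.dvd_prime_pow hp).mp hdv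
  have he0 : e = 0 := by
    by_contra he0
    have h1 : p ∣ p ^ c - 1 := by rw [he]; exact dvd_pow_self p he0
    have h2 : p ∣ p ^ c := dvd_pow_self p hc0
    have hpc : 1 ≤ p ^ c := Nat.one_le_pow _ _ hp.pos
    have h3 : p ∣ 1 := by
      have := (Nat.dvd_sub h2 h1)
      rwa [Nat.sub_sub_self hpc] at this
    exact hp.one_lt.ne' (Nat.dvd_one.mp h3)
  rw [he0, pow_zero] at he
  have hpc2 : p ^ c = 2 := by
    have hpc : 1 ≤ p ^ c := Nat.one_le_pow _ _ hp.pos
    omega
  have hp2 : p = 2 := by
    have h1 : p ∣ 2 := by rw [← hpc2]; exact dvd_pow_self p hc0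
    exact (Nat.prime_dvd_prime_iff_eq hp Nat.prime_two).mp h1
  refine ⟨hp2, ?_⟩
  subst hp2
  have h2 : Nat.card (commutator G) = 2 := by rw [hc, hpc2]
  -- the centre
  have hk := two_mul_card_conjClasses h2
  rw [← card_irr_eq_card_conjClasses, card_irr_eq_add, hnl] at hk
  rw [h2] at hmul
  have hZ : Nat.card (Subgroup.center G) = 2 := by omega
  have hle := commutator_le_center h2
  have heq : commutator G = Subgroup.center G :=
    Subgroup.eq_of_le_of_card_ge hle (by rw [h2, hZ])
  refine ⟨⟨hP, ?_, heq⟩, hZ⟩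
  apply le_antisymm
  · have h1 := Cfsg.Agent.Helper9.frattini_le_ker_of_elementary (p := 2)
      (QuotientGroup.mk' (Subgroup.center G)) ?_ ?_
    · rwa [QuotientGroup.ker_mk'] at h1
    · intro x y
      obtain ⟨x, rfl⟩ := QuotientGroup.mk_surjective x
      obtain ⟨y, rfl⟩ := QuotientGroup.mk_surjective y
      rw [← QuotientGroup.mk_mul, ← QuotientGroup.mk_mul, QuotientGroup.eq]
      have : (x * y)⁻¹ * (y * x) = ⁅y⁻¹, x⁻¹⁆ := by rw [commutatorElement_def]; group
      rw [this]
      exact hle (Subgroup.commutator_mem_commutator (Subgroup.mem_top _) (Subgroup.mem_top _))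
    · intro x
      obtain ⟨x, rfl⟩ := QuotientGroup.mk_surjective x
      rw [pow_two, ← QuotientGroup.mk_mul]
      exact (QuotientGroup.eq_one_iff _).mpr (sq_mem_center h2 x)
  · rw [← heq]
    exact Cfsg.Agent.Helper23.commutator_le_frattini_pgroup 2 hP

end PGroup

section Nilpotent

variable {G : Type u} [Group G] [Finite G] (p : ℕ) [Fact p.Prime]

/-- Part IV: a nilpotent group with exactly one irreducible character of degree divisible by `p`
is a `p`-group. -/
theorem isPGroup_of_card_eq_one [Group.IsNilpotent G]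
    (hone : Nat.card {χ : IrrCharacter G // p ∣ charDegree (χ : G → ℂ)} = 1) : IsPGroup p G := by
  classical
  have hp : p.Prime := Fact.out
  haveI : Fintype G := Fintype.ofFinite G
  let P : Sylow p G := default
  obtain ⟨Q, hQ, hQcop, hcomm⟩ := exists_complement_centralizing p P
  let e : (↥(P : Subgroup G) × ↥Q) ≃* G := prodEquivOfComplement (P : Subgroup G) Q hQ hcomm
  haveI : Fintype Q := Fintype.ofFinite Q
  haveI : Fintype ↥(P : Subgroup G) := Fintype.ofFinite _
  letI : Fintype (IrrCharacter Q) := irrFintype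
  obtain ⟨hsub, ⟨⟨χ₀, hχ₀⟩⟩⟩ := Nat.card_eq_one_iff_unique.mp hone
  have huniq : ∀ χ : IrrCharacter G, p ∣ charDegree (χ : G → ℂ) → χ = χ₀ := by
    intro χ hχ
    exact congrArg Subtype.val (hsub.elim ⟨χ, hχ⟩ ⟨χ₀, hχ₀⟩)
  -- decompose χ₀ ∘ e
  have hθ₀ : IsIrrCharacter (↥(P : Subgroup G) × ↥Q) ((χ₀ : G → ℂ) ∘ e) :=
    Cfsg.Agent.Helper5.isIrrCharacter_comp_equiv e χ₀.2
  obtain ⟨α₀, β₀, hα₀, hβ₀, hprod⟩ := (Cfsg.Agent.S0188.result _).mp hθ₀
  -- degrees
  have hdeg : charDegree (χ₀ : G → ℂ) = charDegree α₀ * charDegree β₀ := by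
    apply charDegree_natCast
    have h1 := congrFun hprod 1
    rw [Function.comp_apply, map_one] at h1
    rw [h1]
    show α₀ 1 * β₀ 1 = _
    rw [irr_one_eq_charDegree hα₀, irr_one_eq_charDegree hβ₀]
    push_cast; ring
  have hβdvd : charDegree β₀ ∣ Nat.card Q := charDegree_dvd_card hβ₀
  have hpα : p ∣ charDegree α₀ := by
    rw [hdeg] at hχ₀
    rcases (Nat.Prime.dvd_mul hp).mp hχ₀ with h | h
    · exact h
    · exfalso
      have : p ∣ Nat.card Q := h.trans hβdvd
      have h1 := Nat.Coprime.eq_one_of_dvd hQcop.symm this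
      exact hp.one_lt.ne' h1
  -- every irreducible character of Q equals β₀
  have hall : ∀ β : IrrCharacter Q, (β : Q → ℂ) = β₀ := by
    intro β
    have hθ : IsIrrCharacter (↥(P : Subgroup G) × ↥Q) (fun x => α₀ x.1 * (β : Q → ℂ) x.2) :=
      Cfsg.Agent.S0188.isIrrCharacter_prod hα₀ β.2
    have hχ : IsIrrCharacter G ((fun x : ↥(P : Subgroup G) × ↥Q => α₀ x.1 * (β : Q → ℂ) x.2) ∘
        e.symm) := Cfsg.Agent.Helper5.isIrrCharacter_comp_equiv e.symm hθ
    have hdegχ : charDegree ((fun x : ↥(P : Subgroup G) × ↥Q => α₀ x.1 * (β : Q → ℂ) x.2) ∘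
        e.symm) = charDegree α₀ * charDegree (β : Q → ℂ) := by
      apply charDegree_natCast
      rw [Function.comp_apply, map_one]
      show α₀ 1 * (β : Q → ℂ) 1 = _
      rw [irr_one_eq_charDegree hα₀, irr_one_eq_charDegree β.2]
      push_cast; ring
    have hpχ : p ∣ charDegree ((fun x : ↥(P : Subgroup G) × ↥Q => α₀ x.1 * (β : Q → ℂ) x.2) ∘
        e.symm) := by
      rw [hdegχ]; exact Dvd.dvd.mul_right hpα _
    have h1 := huniq ⟨_, hχ⟩ hpχ
    have h2 : (fun x : ↥(P : Subgroup G) × ↥Q => α₀ x.1 * (β : Q → ℂ) x.2) ∘ e.symm =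
        (χ₀ : G → ℂ) := congrArg Subtype.val h1
    funext y
    have h3 := congrFun h2 (e (1, y))
    rw [Function.comp_apply, MulEquiv.symm_apply_apply] at h3
    have h4 := congrFun hprod (1, y)
    rw [Function.comp_apply] at h4
    rw [h4] at h3
    simp only at h3
    have hα1 : α₀ 1 ≠ 0 := by
      rw [irr_one_eq_charDegree hα₀]
      exact_mod_cast (charDegree_pos hα₀).ne'
    exact mul_left_cancel₀ hα1 h3
  -- so Q is trivial
  have hQ1 : Nat.card Q = 1 := by
    rw [← sum_charDegree_sq (G := Q)]
    have hβp : (principalChar Q : IrrCharacter Q) = ⟨β₀, hβ₀⟩ := Subtype.ext (hall _)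
    have hsingle : (Finset.univ : Finset (IrrCharacter Q)) = {principalChar Q} := by
      ext β
      simp only [Finset.mem_univ, Finset.mem_singleton, true_iff]
      apply Subtype.ext
      rw [hall β, hall (principalChar Q)]
    rw [hsingle, Finset.sum_singleton]
    have : charDegree ((principalChar Q : IrrCharacter Q) : Q → ℂ) = 1 :=
      charDegree_natCast 1 (by simp [principalChar])
    rw [this, one_pow]
  -- hence G is a p-group
  have hcard := hQ.card_mul_card
  rw [hQ1, mul_one] at hcard
  obtain ⟨n, hn⟩ := IsPGroup.iff_card.mp P.isPGroup'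
  exact IsPGroup.of_card (n := n) (by rw [← hcard]; exact hn)

end Nilpotent

/-- Let p be a prime and G a finite nilpotent group. Then G has exactly one irreducible complex character of degree divisible by p if and only if p = 2 and G is an extraspecial 2-group. -/
theorem result {G : Type*} [Group G] [Finite G] [Group.IsNilpotent G] (p : ℕ) [Fact p.Prime] : Nat.card {χ : Cfsg.IrrCharacter G // p ∣ Cfsg.charDegree (χ : G → ℂ)} = 1 ↔ (p = 2 ∧ Cfsg.IsExtraspecial 2 G) := by
  constructor
  · intro hone
    have hP := isPGroup_of_card_eq_one p hone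
    exact extraspecial_of_card_eq_one p hP hone
  · rintro ⟨rfl, h⟩
    exact card_eq_one_of_extraspecial h

end Cfsg.Agent.S4762
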