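import Mathlib
import Cfsg.Statements.S4763
import Cfsg.Agent.Lib.Helper24.OneDegChar
import Cfsg.Agent.Lib.Helper24.OneDegClass

set_option autoImplicit false
set_option linter.style.haveILetI false
open Cfsg

namespace Cfsg.Agent.S4763

open Cfsg.Agent.Helper24 Cfsg.Agent.Helper24.Glaub Cfsg.Agent.Helper24.OneDeg

/-- Invariance under the whole group is invariance under a complement of the normal subgroup. -/
theorem inv_iff {G : Type*} [Group G] (N : Subgroup G) [hNn : N.Normal] (P : Subgroup G)
    (hdec : ∀ g : G, ∃ n ∈ N, ∃ y ∈ P, g = n * y) {θ : N → ℂ} (hθ : IsClassFunction N θ) :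
    CopDeg.Inv N θ ↔ IsInv (actP N P) θ := by
  constructor
  · intro h a n
    have := h (a : G) n
    rw [← this]
    apply congrArg θ
    apply Subtype.ext
    rfl
  · intro h g n
    obtain ⟨n₀, hn₀, y, hy, rfl⟩ := hdec g
    have h1 := h ⟨y, hy⟩ n
    have h2 := hθ (actP N P ⟨y, hy⟩ n) ⟨n₀, hn₀⟩
    rw [← h1, ← h2]
    apply congrArg θ
    apply Subtype.ext
    show n₀ * y * (n : G) * (n₀ * y)⁻¹ = n₀ * (y * (n : G) * y⁻¹) * n₀⁻¹
    group

/-- Let p be a prime and G a finite group that is not nilpotent and has a normal p-complement (a normal subgroup of order prime to p and index a power of p). If G has exactly one irreducible complex character of degree divisible by p, then G has exactly one conjugacy class whose size is divisible by p. -/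
theorem result {G : Type*} [Group G] [Finite G] (p : ℕ) [Fact p.Prime] (hnil : ¬ Group.IsNilpotent G) (N : Subgroup G) [N.Normal] (hN : (Nat.card N).Coprime p) (hidx : ∃ k : ℕ, N.index = p ^ k) (hone : Nat.card {χ : Cfsg.IrrCharacter G // p ∣ Cfsg.charDegree (χ : G → ℂ)} = 1) : Nat.card {C : ConjClasses G // p ∣ Nat.card C.carrier} = 1 := by
  classical
  have hp : p.Prime := Fact.out
  obtain ⟨k, hk⟩ := hidx
  have hab := quotient_comm p N hN k hk hnil hone
  have hirr := card_irr p N hN k hk hab hone
  have hNp : ¬ p ∣ Nat.card N := (Nat.Prime.coprime_iff_not_dvd hp).mp hN.symm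
  obtain ⟨P⟩ : Nonempty (Sylow p G) := inferInstance
  have hcardP : Nat.card P = p ^ k := by
    rw [P.card_eq_multiplicity, ← N.card_mul_index, hk,
      Nat.factorization_mul Nat.card_pos.ne' (pow_ne_zero _ hp.ne_zero),
      Nat.Prime.factorization_pow hp, Finsupp.add_apply,
      Nat.factorization_eq_zero_of_not_dvd hNp]
    simp
  have hcompl : N.IsComplement' (P : Subgroup G) :=
    Subgroup.isComplement'_of_coprime (by rw [hcardP, ← hk, N.card_mul_index])
      (by rw [hcardP]; exact Nat.Coprime.pow_right k hN)
  have hdec : ∀ g : G, ∃ n ∈ N, ∃ y ∈ (P : Subgroup G), g = n * y := by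
    intro g
    obtain ⟨x, hx, -⟩ := (Subgroup.isComplement_iff_existsUnique.mp hcompl) g
    exact ⟨x.1, x.1.2, x.2, x.2.2, hx.symm⟩
  have hdisj : ∀ x ∈ N, x ∈ (P : Subgroup G) → x = 1 := by
    intro x hxN hxP
    have := hcompl.disjoint
    rw [Subgroup.disjoint_def] at this
    exact this hxN hxP
  have hclass := card_classes_not_dvd p N (P : Subgroup G) hNp P.isPGroup' P.not_dvd_index hdec
    hab hdisj
  haveI : Group.IsSolvable (P : Subgroup G) := by
    haveI := P.isPGroup'.isNilpotent
    infer_instance
  have hcopPN : (Nat.card (P : Subgroup G)).Coprime (Nat.card N) := by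
    rw [hcardP]
    exact (Nat.Coprime.pow_right k hN).symm
  have hf : Nat.card {θ : IrrCharacter N // CopDeg.Inv N (θ : N → ℂ)} =
      Nat.card (ConjClasses (fixedSub (actP N (P : Subgroup G)))) := by
    rw [Nat.card_congr (Equiv.subtypeEquivRight (fun θ : IrrCharacter N =>
      inv_iff N (P : Subgroup G) hdec (isClassFunction_of_isIrrCharacter θ.2))),
      count_fixed (actP N (P : Subgroup G)) hcopPN]
    letI : Fintype (fixedSub (actP N (P : Subgroup G))) := Fintype.ofFinite _
    letI := irrFintype (G := fixedSub (actP N (P : Subgroup G)))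
    exact card_irr_eq_card_conjClasses
  have htot : Nat.card (IrrCharacter G) = Nat.card (ConjClasses G) := by
    letI : Fintype G := Fintype.ofFinite _
    letI := irrFintype (G := G)
    exact card_irr_eq_card_conjClasses
  have hsplit := Nat.card_congr
    (Equiv.sumCompl (fun C : ConjClasses G => p ∣ Nat.card C.carrier))
  rw [Nat.card_sum, hclass, ← htot, hirr, hf, hcardP, hk] at hsplit
  omega

end Cfsg.Agent.S4763
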