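import Mathlib
import Cfsg.Statements.S4765
import Cfsg.Agent.Lib.Helper12.PSL2Degrees

set_option autoImplicit false
open Cfsg

namespace Cfsg.Agent.S4765

open Cfsg.Agent.Helper12 Cfsg.Agent.Helper12.PSL2Deg Cfsg.Agent.Helper24

/-- Let F be a finite field of characteristic p with at least 4 elements. Then PSL(2,F) has exactly one irreducible complex character of degree divisible by p, and its degree is the order of F. -/
theorem result (p : ℕ) [Fact p.Prime] (F : Type*) [Field F] [Fintype F] [CharP F p] (hF : 4 ≤ Fintype.card F) : Nat.card {χ : Cfsg.IrrCharacter (Matrix.ProjectiveSpecialLinearGroup (Fin 2) F) // p ∣ Cfsg.charDegree (χ : Matrix.ProjectiveSpecialLinearGroup (Fin 2) F → ℂ)} = 1 ∧ ∀ χ : Cfsg.IrrCharacter (Matrix.ProjectiveSpecialLinearGroup (Fin 2) F), p ∣ Cfsg.charDegree (χ : Matrix.ProjectiveSpecialLinearGroup (Fin 2) F → ℂ) → Cfsg.charDegree (χ : Matrix.ProjectiveSpecialLinearGroup (Fin 2) F → ℂ) = Fintype.card F := by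
  classical
  have hp : p.Prime := Fact.out
  have hpq : p ∣ Fintype.card F := by
    obtain ⟨e, -, he⟩ := FiniteField.card F p
    rw [he]
    exact dvd_pow_self p e.ne_zero
  have hp1 : ¬ p ∣ 1 := fun h => hp.one_lt.ne' (Nat.dvd_one.mp h)
  have key : ∀ ψ : IrrCharacter (Matrix.ProjectiveSpecialLinearGroup (Fin 2) F),
      p ∣ charDegree (ψ : Matrix.ProjectiveSpecialLinearGroup (Fin 2) F → ℂ) →
      charDegree (ψ : Matrix.ProjectiveSpecialLinearGroup (Fin 2) F → ℂ) = Fintype.card F ∧
      (ψ : Matrix.ProjectiveSpecialLinearGroup (Fin 2) F → ℂ) ∘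
        (QuotientGroup.mk : Matrix.SpecialLinearGroup (Fin 2) F →
          Matrix.ProjectiveSpecialLinearGroup (Fin 2) F) = stSL := by
    intro ψ hdvd
    rcases PSL2_degree_cases ψ with h | h | h | h | h | h
    · rw [h] at hdvd
      exact absurd hdvd hp1
    · exact h
    · exfalso
      rw [h] at hdvd
      exact hp1 ((Nat.dvd_add_right hpq).mp hdvd)
    · exfalso
      have h1 : p ∣ Fintype.card F + 1 := by
        rw [← h]
        exact Dvd.dvd.mul_left hdvd 2
      exact hp1 ((Nat.dvd_add_right hpq).mp h1)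
    · exfalso
      rw [← h] at hpq
      exact hp1 ((Nat.dvd_add_right hdvd).mp hpq)
    · exfalso
      rw [← h] at hpq
      exact hp1 ((Nat.dvd_add_right (Dvd.dvd.mul_left hdvd 2)).mp hpq)
  refine ⟨?_, fun ψ h => (key ψ h).1⟩
  rw [Nat.card_eq_one_iff_unique]
  constructor
  · constructor
    rintro ⟨ψ₁, h₁⟩ ⟨ψ₂, h₂⟩
    apply Subtype.ext
    apply Subtype.ext
    funext x
    obtain ⟨g, rfl⟩ := QuotientGroup.mk_surjective x
    have e1 := congrFun (key ψ₁ h₁).2 g
    have e2 := congrFun (key ψ₂ h₂).2 g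
    simp only [Function.comp_apply] at e1 e2
    show (ψ₁ : Matrix.ProjectiveSpecialLinearGroup (Fin 2) F → ℂ) (QuotientGroup.mk g) =
      (ψ₂ : Matrix.ProjectiveSpecialLinearGroup (Fin 2) F → ℂ) (QuotientGroup.mk g)
    rw [e1, e2]
  · obtain ⟨ψ, hψ, hst⟩ := exists_deflate
      (Subgroup.center (Matrix.SpecialLinearGroup (Fin 2) F)) (isIrrCharacter_stSL (F := F))
      (fun n hn => stSL_center n hn)
    refine ⟨⟨⟨ψ, hψ⟩, ?_⟩⟩
    show p ∣ charDegree ψ
    have h1 : charDegree ψ = Fintype.card F := by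
      rw [← charDegree_inflate (Subgroup.center (Matrix.SpecialLinearGroup (Fin 2) F)) ψ, ← hst]
      have h2 := irr_one_eq_charDegree (isIrrCharacter_stSL (F := F))
      rw [stSL_one_apply] at h2
      exact_mod_cast h2.symm
    rw [h1]
    exact hpq

end Cfsg.Agent.S4765
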