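import Mathlib
import Cfsg.Statements.S4774
import Cfsg.Agent.Lib.Helper12.PSL2DegGraph

set_option autoImplicit false
open Cfsg

namespace Cfsg.Agent.S4774

open Cfsg.Agent.Helper12 Cfsg.Agent.Helper12.PSL2Deg

/-- Let F be a finite field of odd characteristic t with q > 5 elements and let S be isomorphic to PSL(2,F) or to SL(2,F). Then the vertices of the character degree graph of S are the primes dividing q(q²−1); the prime t is adjacent to no vertex; two distinct primes dividing q² − 1 are adjacent exactly when one of them is 2, or both divide q + 1, or both divide q − 1. -/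
theorem result (F : Type*) [Field F] [Fintype F] (t : ℕ) [Fact t.Prime] [CharP F t] (ht : t ≠ 2) (q : ℕ) (hq : Fintype.card F = q) (h5 : 5 < q) {S : Type*} [Group S] [Finite S] (hS : Nonempty (S ≃* Matrix.ProjectiveSpecialLinearGroup (Fin 2) F) ∨ Nonempty (S ≃* Matrix.SpecialLinearGroup (Fin 2) F)) : Cfsg.degreePrimes S = {r : ℕ | r.Prime ∧ r ∣ q * (q ^ 2 - 1)} ∧ ∀ r s : ℕ, (Cfsg.degreeGraph S).Adj r s ↔ (r ≠ s ∧ r.Prime ∧ s.Prime ∧ r ∣ q ^ 2 - 1 ∧ s ∣ q ^ 2 - 1 ∧ (r = 2 ∨ s = 2 ∨ (r ∣ q + 1 ∧ s ∣ q + 1) ∨ (r ∣ q - 1 ∧ s ∣ q - 1))) := by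
  classical
  subst hq
  have htp : t.Prime := Fact.out
  obtain ⟨n, -, hn⟩ := FiniteField.card F t
  have hodd : ¬ 2 ∣ Fintype.card F := by
    rw [hn]
    intro h
    exact ht ((Nat.prime_dvd_prime_iff_eq Nat.prime_two htp).mp
      (Nat.prime_two.dvd_of_dvd_pow h)).symm
  have hpow : ∀ r : ℕ, r.Prime → r ∣ Fintype.card F → r = t := by
    intro r hr hdiv
    rw [hn] at hdiv
    exact (Nat.prime_dvd_prime_iff_eq hr htp).mp (hr.dvd_of_dvd_pow hdiv)
  have hF : ringChar F ≠ 2 := by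
    rw [ringChar.eq F t]
    exact ht
  have hD0 := hasDeg_q (F := F)
  have hD1 : HasDeg F (Fintype.card F + 1) := by
    apply hasDeg_q_add_one
    have hcardu : Nat.card Fˣ = Fintype.card F - 1 := by
      rw [Nat.card_eq_fintype_card, Fintype.card_units]
    obtain ⟨g, hg⟩ := IsCyclic.exists_ofOrder_eq_natCard (α := Fˣ)
    rw [hcardu] at hg
    refine ⟨(g : F), g.ne_zero, ?_⟩
    intro h
    have h1 : g ^ 4 = 1 := by
      apply Units.ext
      rw [Units.val_pow_eq_pow_val, Units.val_one]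
      exact h
    have h2 := orderOf_dvd_of_pow_eq_one h1
    rw [hg] at h2
    have := Nat.le_of_dvd (by norm_num) h2
    omega
  have hD2 : HasDeg F (Fintype.card F - 1) := hasDeg_q_sub_one_odd hF (by omega)
  have main : ∀ (hshape : ∀ d ∈ charDegrees S, DegShape (Fintype.card F) d)
      (h0 : Fintype.card F ∈ charDegrees S) (h1 : Fintype.card F + 1 ∈ charDegrees S)
      (h2 : Fintype.card F - 1 ∈ charDegrees S),
      Cfsg.degreePrimes S = {r : ℕ | r.Prime ∧ r ∣ Fintype.card F * (Fintype.card F ^ 2 - 1)} ∧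
      ∀ r s : ℕ, (Cfsg.degreeGraph S).Adj r s ↔ (r ≠ s ∧ r.Prime ∧ s.Prime ∧
        r ∣ Fintype.card F ^ 2 - 1 ∧ s ∣ Fintype.card F ^ 2 - 1 ∧ (r = 2 ∨ s = 2 ∨
        (r ∣ Fintype.card F + 1 ∧ s ∣ Fintype.card F + 1) ∨
          (r ∣ Fintype.card F - 1 ∧ s ∣ Fintype.card F - 1))) := by
    intro hshape h0 h1 h2
    exact ⟨degreePrimes_eq _ (by omega) hshape h0 h1 h2,
      adj_odd _ t (by omega) hodd hpow hshape h1 h2⟩
  rcases hS with ⟨⟨e⟩⟩ | ⟨⟨e⟩⟩
  · have hcd := charDegrees_congr e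
    apply main
    · intro d hd
      rw [hcd] at hd
      exact degShape_PSL2 hd
    · rw [hcd]; exact mem_charDegrees_PSL2 hD0
    · rw [hcd]; exact mem_charDegrees_PSL2 hD1
    · rw [hcd]; exact mem_charDegrees_PSL2 hD2
  · have hcd := charDegrees_congr e
    apply main
    · intro d hd
      rw [hcd] at hd
      exact degShape_SL2 hd
    · rw [hcd]; exact mem_charDegrees_SL2 hD0
    · rw [hcd]; exact mem_charDegrees_SL2 hD1
    · rw [hcd]; exact mem_charDegrees_SL2 hD2

end Cfsg.Agent.S4774
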