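import Mathlib
import Cfsg.Statements.S4775
import Cfsg.Agent.Lib.Helper2.SzCT11
import Cfsg.Agent.Lib.Helper2.SzCT12
import Cfsg.Agent.Lib.Helper2.SzBridge

set_option autoImplicit false
open Cfsg

namespace Cfsg.Agent.S4775

open Cfsg.Agent.Helper2.Sz Cfsg.Agent.Helper24

theorem charDegrees_subset_of_equiv {A : Type*} {B : Type*} [Group A] [Group B] (f : A ≃* B) :
    charDegrees B ⊆ charDegrees A := by
  intro d hd
  obtain ⟨χ, rfl⟩ := hd
  refine ⟨⟨(χ : B → ℂ) ∘ f.toMonoidHom,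
    isIrrCharacter_comp_of_surjective f.toMonoidHom f.surjective χ.2⟩, ?_⟩
  unfold charDegree
  simp

theorem charDegrees_congr {A : Type*} {B : Type*} [Group A] [Group B] (e : A ≃* B) :
    charDegrees A = charDegrees B :=
  Set.Subset.antisymm (charDegrees_subset_of_equiv e.symm) (charDegrees_subset_of_equiv e)

/-- Let F be a finite field with q = 2^(2m+1) ≥ 8 elements and let S be isomorphic to the Suzuki group over F. Then the vertices of the character degree graph of S are 2 and the primes dividing (q − 1)(q² + 1); the primes dividing (q − 1)(q² + 1) are pairwise adjacent, and 2 is adjacent exactly to the primes dividing q − 1. -/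
theorem result (F : Type*) [Field F] [Fintype F] (m : ℕ) (hm : 1 ≤ m) (q : ℕ) (hq : Fintype.card F = q) (hqm : q = 2 ^ (2 * m + 1)) {S : Type*} [Group S] [Finite S] (hS : Nonempty (S ≃* ↥(Cfsg.Lie.Sz F (2 ^ (m + 1))))) : Cfsg.degreePrimes S = {r : ℕ | r.Prime ∧ (r = 2 ∨ r ∣ (q - 1) * (q ^ 2 + 1))} ∧ ∀ r s : ℕ, (Cfsg.degreeGraph S).Adj r s ↔ (r ≠ s ∧ r.Prime ∧ s.Prime ∧ ((r ∣ (q - 1) * (q ^ 2 + 1) ∧ s ∣ (q - 1) * (q ^ 2 + 1)) ∨ (r = 2 ∧ s ∣ q - 1) ∨ (s = 2 ∧ r ∣ q - 1))) := by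
  classical
  have hF : Fintype.card F = 2 ^ (2 * m + 1) := hq.trans hqm
  obtain ⟨S₀⟩ := nonempty_szData (m := m) hF
  obtain ⟨D⟩ := S₀.nonempty_tori hm hF
  obtain ⟨e⟩ := nonempty_bridge (F := F) hm hF
  obtain ⟨e'⟩ := hS
  have hcd : charDegrees S = charDegrees (Cfsg.Sz F m) := charDegrees_congr (e'.trans e.symm)
  have hsub : ∀ d ∈ charDegrees S, d = 1 ∨ d = q ^ 2 ∨ d = q ^ 2 + 1 ∨
      d = SzData.cc m 3 * (q - 1) ∨ d = SzData.cc m 2 * (q - 1) ∨ d = 2 ^ m * (q - 1) := by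
    intro d hd
    rw [hcd] at hd
    obtain ⟨χ, rfl⟩ := hd
    have := degree_cases S₀ hm hF D χ.2
    rw [hqm]
    exact this
  have hX : q ^ 2 + 1 ∈ charDegrees S := by
    rw [hcd, hqm]
    obtain ⟨χ, hχ⟩ := exists_degree_X S₀ hm hF D
    exact ⟨χ, hχ⟩
  have hY : SzData.cc m 3 * (q - 1) ∈ charDegrees S := by
    rw [hcd, hqm]
    obtain ⟨χ, hχ⟩ := exists_degree_Y S₀ hm hF D
    exact ⟨χ, hχ⟩
  have hZ : SzData.cc m 2 * (q - 1) ∈ charDegrees S := by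
    rw [hcd, hqm]
    obtain ⟨χ, hχ⟩ := exists_degree_Z S₀ hm hF D
    exact ⟨χ, hχ⟩
  have hW : 2 ^ m * (q - 1) ∈ charDegrees S := by
    rw [hcd, hqm]
    obtain ⟨χ, hχ⟩ := exists_degree_W S₀ hm hF D
    exact ⟨χ, hχ⟩
  have hbc : SzData.cc m 2 * SzData.cc m 3 = q ^ 2 + 1 := by
    rw [hqm]
    exact tori_mul m
  exact degree_graph_arith q (q - 1) (SzData.cc m 2) (SzData.cc m 3) (2 ^ m) (2 * m + 1) m
    (by omega) hm hqm rfl rfl hbc (charDegrees S) hsub hX hY hZ hW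

end Cfsg.Agent.S4775
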