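import Mathlib
import Cfsg.Statements.S4784
import Cfsg.Agent.Lib.Helper24.FrobeniusSchur
import Cfsg.Agent.Lib.Helper24.CharInduced
import Cfsg.Agent.Lib.Helper24.CharNormal

set_option autoImplicit false
open Cfsg

namespace Cfsg.Agent.S4784

open Cfsg.Agent.Helper24
open scoped ComplexConjugate

universe u

section

variable {G : Type u} [Group G] [Fintype G]

/-- In a group of odd order a real-valued irreducible character is principal. -/
theorem eq_one_of_real_of_odd (hodd : Odd (Nat.card G)) {ψ : G → ℂ} (hψ : IsIrrCharacter G ψ)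
    (hreal : ∀ g, conj (ψ g) = ψ g) : ψ = fun _ => (1 : ℂ) := by
  classical
  by_contra hne
  have hν : fsInd ψ ≠ 0 := (fsInd_ne_zero_iff hψ).mpr hreal
  apply hν
  have hcop : (Nat.card G).Coprime 2 := Nat.coprime_two_right.mpr hodd
  have h1 : ∑ g : G, ψ (g * g) = ∑ g : G, ψ g := by
    rw [← Equiv.sum_comp (powCoprime hcop) (fun g => ψ g)]
    apply Finset.sum_congr rfl
    intro g _
    rw [powCoprime_apply, pow_two]
  have h2 := irr_orthogonality hψ (isIrrCharacter_one (G := G))
  rw [if_neg hne] at h2
  unfold fsInd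
  rw [h1]
  unfold classInner at h2
  simpa using h2

/-- The indicator of a permutation character counts the elements whose square lies in `H`. -/
theorem fsInd_indFun_one (H : Subgroup G) [DecidablePred (· ∈ H)] :
    fsInd (indFun H (fun _ : H => (1 : ℂ))) =
      (Nat.card H : ℂ)⁻¹ * ∑ g : G, if g * g ∈ H then (1 : ℂ) else 0 := by
  have hext : ∀ z : G, extendByZero H (fun _ : H => (1 : ℂ)) z = if z ∈ H then 1 else 0 := by
    intro z
    by_cases hz : z ∈ H
    · rw [extendByZero_of_mem H _ hz, if_pos hz]
    · rw [extendByZero_of_not_mem H _ hz, if_neg hz]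
  have hcard : (Nat.card G : ℂ) ≠ 0 := by exact_mod_cast (Nat.card_pos (α := G)).ne'
  unfold fsInd
  simp only [indFun_apply, hext]
  rw [← Finset.mul_sum, Finset.sum_comm]
  have h1 : ∀ x : G, ∑ g : G, (if x⁻¹ * (g * g) * x ∈ H then (1 : ℂ) else 0) =
      ∑ g : G, if g * g ∈ H then (1 : ℂ) else 0 := by
    intro x
    rw [← Equiv.sum_comp (MulAut.conj x).toEquiv]
    apply Finset.sum_congr rfl
    intro g _
    have : x⁻¹ * ((MulAut.conj x).toEquiv g * (MulAut.conj x).toEquiv g) * x = g * g := by
      simp only [MulEquiv.toEquiv_eq_coe, MulEquiv.coe_toEquiv, MulAut.conj_apply]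
      group
    rw [this]
  simp only [h1, Finset.sum_const, Finset.card_univ, nsmul_eq_mul]
  rw [← Nat.card_eq_fintype_card]
  field_simp

/-- Linearity of the indicator over the expansion of a class function. -/
theorem fsInd_expansion [Fintype (IrrCharacter G)] {f : G → ℂ} (hf : IsClassFunction G f) :
    fsInd f = ∑ χ : IrrCharacter G, classInner f (χ : G → ℂ) * fsInd (χ : G → ℂ) := by
  conv_lhs => rw [classFunction_expansion hf]
  unfold fsInd
  simp only [Finset.sum_apply, Pi.smul_apply, smul_eq_mul]
  rw [Finset.sum_comm, Finset.mul_sum]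
  apply Finset.sum_congr rfl
  intro χ _
  rw [← Finset.mul_sum]
  ring

/-- The principal character is a constituent of the permutation character. -/
theorem classInner_indFun_one_principal (H : Subgroup G) :
    classInner (indFun H (fun _ : H => (1 : ℂ))) (fun _ : G => (1 : ℂ)) = 1 := by
  classical
  haveI : Fintype H := Fintype.ofFinite H
  rw [frobenius_reciprocity H _ (isClassFunction_of_isCharacter
    (isCharacter_of_isIrrCharacter (isIrrCharacter_one (G := G))))]
  have h := irr_orthogonality (isIrrCharacter_one (G := H)) (isIrrCharacter_one (G := H))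
  rw [if_pos rfl] at h
  exact h

/-- `⇐`: if the core has odd index, every real constituent is principal. -/
theorem eq_one_of_constituent_of_odd (H : Subgroup G) (hodd : Odd H.normalCore.index)
    {χ : G → ℂ} (hχ : IsIrrCharacter G χ)
    (hc : classInner (indFun H (fun _ : H => (1 : ℂ))) χ ≠ 0)
    (hreal : ∀ g, conj (χ g) = χ g) : χ = fun _ => (1 : ℂ) := by
  classical
  haveI : Fintype H := Fintype.ofFinite H
  set K := H.normalCore with hK
  haveI : Fintype K := Fintype.ofFinite K
  have hKH : K ≤ H := Subgroup.normalCore_le H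
  -- K ≤ ker χ
  have hker : ∀ k ∈ K, χ k = χ 1 := by
    by_contra hcon
    push Not at hcon
    apply hc
    rw [frobenius_reciprocity H _ (isClassFunction_of_isCharacter
      (isCharacter_of_isIrrCharacter hχ))]
    unfold classInner
    simp only [one_mul]
    rw [← map_sum]
    -- ∑ h : H, χ h = 0
    have hsum : ∑ h : H, χ (h : G) = 0 := by
      have h1 : ∀ k : K, ∑ h : H, χ ((h : G) * (k : G)) = ∑ h : H, χ (h : G) := by
        intro k
        have hk : (k : G) ∈ H := hKH k.2
        rw [← Equiv.sum_comp (Equiv.mulRight (⟨(k : G), hk⟩ : H)) (fun h : H => χ (h : G))]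
        rfl
      have h2 : (Nat.card K : ℂ) * ∑ h : H, χ (h : G) = 0 := by
        calc (Nat.card K : ℂ) * ∑ h : H, χ (h : G)
            = ∑ k : K, ∑ h : H, χ ((h : G) * (k : G)) := by
              simp only [h1, Finset.sum_const, Finset.card_univ, nsmul_eq_mul,
                Nat.card_eq_fintype_card]
          _ = ∑ h : H, ∑ k : K, χ ((h : G) * (k : G)) := Finset.sum_comm
          _ = 0 := by
              apply Finset.sum_eq_zero
              intro h _
              exact sum_char_coset_eq_zero K hχ hcon (h : G)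
      have hK0 : (Nat.card K : ℂ) ≠ 0 := by
        rw [Nat.cast_ne_zero]; exact Nat.card_pos.ne'
      exact (mul_eq_zero.mp h2).resolve_left hK0
    rw [hsum, map_zero, mul_zero]
  obtain ⟨ψ, hψ, hχψ⟩ := exists_deflate K hχ hker
  haveI : Fintype (G ⧸ K) := Fintype.ofFinite _
  have hψreal : ∀ q, conj (ψ q) = ψ q := by
    intro q
    obtain ⟨g, rfl⟩ := QuotientGroup.mk_surjective q
    have := hreal g
    rw [hχψ] at this
    exact this
  have hodd' : Odd (Nat.card (G ⧸ K)) := by
    rw [← Subgroup.index_eq_card]; exact hodd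
  have := eq_one_of_real_of_odd hodd' hψ hψreal
  rw [hχψ, this]
  rfl

/-- If the core has even index, some element outside `H` has its square in `H`. -/
theorem exists_sq_mem_of_even (H : Subgroup G) (heven : Even H.normalCore.index) :
    ∃ g : G, g ∉ H ∧ g * g ∈ H := by
  classical
  set K := H.normalCore with hK
  haveI : Fintype (G ⧸ K) := Fintype.ofFinite _
  have h2 : 2 ∣ Nat.card (G ⧸ K) := by
    rw [← Subgroup.index_eq_card]; exact heven.two_dvd
  haveI : Fact (Nat.Prime 2) := ⟨Nat.prime_two⟩
  obtain ⟨q, hq⟩ := exists_prime_orderOf_dvd_card' 2 h2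
  obtain ⟨t, rfl⟩ := QuotientGroup.mk_surjective q
  have ht1 : t ∉ K := by
    intro h
    have : (QuotientGroup.mk t : G ⧸ K) = 1 := (QuotientGroup.eq_one_iff t).mpr h
    rw [this, orderOf_one] at hq
    omega
  have ht2 : t * t ∈ K := by
    have h1 : (QuotientGroup.mk t : G ⧸ K) ^ 2 = 1 := by rw [← hq]; exact pow_orderOf_eq_one _
    rw [pow_two, ← QuotientGroup.mk_mul] at h1
    exact (QuotientGroup.eq_one_iff _).mp h1
  have : ¬ ∀ b : G, b * t * b⁻¹ ∈ H := fun h => ht1 h
  push Not at this
  obtain ⟨b, hb⟩ := this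
  refine ⟨b * t * b⁻¹, hb, ?_⟩
  have h3 := ht2 b
  have h4 : b * t * b⁻¹ * (b * t * b⁻¹) = b * (t * t) * b⁻¹ := by group
  rw [h4]
  exact h3

/-- `⇒`, contrapositive: if the core has even index there is a second constituent with
indicator `+1`. -/
theorem exists_second_of_even (H : Subgroup G) (heven : Even H.normalCore.index) :
    ∃ χ : IrrCharacter G, (χ : G → ℂ) ≠ (fun _ => (1 : ℂ)) ∧
      classInner (indFun H (fun _ : H => (1 : ℂ))) (χ : G → ℂ) ≠ 0 ∧
      (∀ g : G, conj ((χ : G → ℂ) g) = (χ : G → ℂ) g) ∧ fsInd (χ : G → ℂ) = 1 := by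
  classical
  letI : Fintype (IrrCharacter G) := irrFintype
  haveI : Fintype H := Fintype.ofFinite H
  obtain ⟨g₀, hg₀, hg₀2⟩ := exists_sq_mem_of_even H heven
  set π := indFun H (fun _ : H => (1 : ℂ)) with hπ
  have hπc : IsCharacter G π := isCharacter_indFun H (isCharacter_of_isIrrCharacter
    (isIrrCharacter_one (G := H)))
  by_contra hcon
  push Not at hcon
  -- the count
  have hA : (Nat.card H : ℝ) + 1 ≤
      ((Finset.univ.filter (fun g : G => g * g ∈ H)).card : ℝ) := by
    have hsub : insert g₀ (Finset.univ.filter (fun g : G => g ∈ H)) ⊆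
        Finset.univ.filter (fun g : G => g * g ∈ H) := by
      intro g hg
      rw [Finset.mem_insert, Finset.mem_filter] at hg
      rw [Finset.mem_filter]
      refine ⟨Finset.mem_univ _, ?_⟩
      rcases hg with rfl | ⟨-, hg⟩
      · exact hg₀2
      · exact H.mul_mem hg hg
    have h1 := Finset.card_le_card hsub
    rw [Finset.card_insert_of_notMem (by simp [hg₀])] at h1
    have h2 : (Finset.univ.filter (fun g : G => g ∈ H)).card = Nat.card H := by
      rw [Nat.card_eq_fintype_card, Fintype.card_subtype]
    rw [h2] at h1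
    exact_mod_cast h1
  have hfs : fsInd π = (Nat.card H : ℂ)⁻¹ *
      ((Finset.univ.filter (fun g : G => g * g ∈ H)).card : ℂ) := by
    rw [hπ, fsInd_indFun_one, Finset.sum_boole]
  have hre : (fsInd π).re = (Nat.card H : ℝ)⁻¹ *
      ((Finset.univ.filter (fun g : G => g * g ∈ H)).card : ℝ) := by
    rw [hfs]
    have : ((Nat.card H : ℂ)⁻¹ * ((Finset.univ.filter (fun g : G => g * g ∈ H)).card : ℂ)) =
        (((Nat.card H : ℝ)⁻¹ * ((Finset.univ.filter (fun g : G => g * g ∈ H)).card : ℝ) : ℝ) : ℂ) := by
      push_cast; ring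
    rw [this, Complex.ofReal_re]
  have hHpos : (0 : ℝ) < Nat.card H := by exact_mod_cast Nat.card_pos
  have hgt : 1 < (fsInd π).re := by
    rw [hre]
    rw [lt_inv_mul_iff₀ hHpos]
    linarith
  -- the expansion
  have hexp := fsInd_expansion (isClassFunction_of_isCharacter hπc)
  have hle : (fsInd π).re ≤ 1 := by
    rw [hexp, Complex.re_sum, ← Finset.add_sum_erase _ _ (Finset.mem_univ (principalChar G))]
    have h1 : (classInner π ((principalChar G : IrrCharacter G) : G → ℂ) *
        fsInd ((principalChar G : IrrCharacter G) : G → ℂ)).re = 1 := by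
      have hp1 : classInner π ((principalChar G : IrrCharacter G) : G → ℂ) = 1 :=
        classInner_indFun_one_principal H
      have hp2 : fsInd ((principalChar G : IrrCharacter G) : G → ℂ) = 1 := by
        unfold fsInd
        have hcard : (Nat.card G : ℂ) ≠ 0 := by exact_mod_cast (Nat.card_pos (α := G)).ne'
        simp only [principalChar, Finset.sum_const, Finset.card_univ, nsmul_eq_mul, mul_one]
        rw [← Nat.card_eq_fintype_card]
        exact inv_mul_cancel₀ hcard
      rw [hp1, hp2]; simp
    rw [h1]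
    have h2 : ∑ χ ∈ Finset.univ.erase (principalChar G),
        (classInner π (χ : G → ℂ) * fsInd (χ : G → ℂ)).re ≤ 0 := by
      apply Finset.sum_nonpos
      intro χ hχ
      have hne : χ ≠ principalChar G := Finset.ne_of_mem_erase hχ
      have hne' : (χ : G → ℂ) ≠ fun _ => (1 : ℂ) := fun h => hne (Subtype.ext h)
      obtain ⟨k, hk⟩ := classInner_char_nat hπc (isCharacter_of_isIrrCharacter χ.2)
      rcases fsInd_cases χ.2 with ⟨hreal, h1 | h1⟩ | ⟨-, h1⟩
      · have hk0 : k = 0 := by
          by_contra hk0
          exact hcon χ hne' (by rw [hk]; exact_mod_cast hk0) hreal h1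
        rw [hk, hk0]; simp
      · rw [hk, h1]; simp
      · rw [h1]; simp
    linarith
  linarith

end

/-- Let H be a subgroup of the finite group G and consider the permutation character of G on the cosets of H (the function induced from the principal character of H). Then exactly one irreducible constituent of it is real-valued with Frobenius–Schur indicator +1 (namely the principal character) if and only if the normal core of H has odd index in G. -/
theorem result {G : Type*} [Group G] [Fintype G] (H : Subgroup G) : Nat.card {χ : Cfsg.IrrCharacter G // Cfsg.classInner (Cfsg.indFun H (fun _ : H => (1 : ℂ))) (χ : G → ℂ) ≠ 0 ∧ (∀ g : G, (starRingEnd ℂ) ((χ : G → ℂ) g) = (χ : G → ℂ) g) ∧ (Nat.card G : ℂ)⁻¹ * ∑ g : G, (χ : G → ℂ) (g * g) = 1} = 1 ↔ Odd H.normalCore.index := by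
  classical
  have hp0 : Cfsg.classInner (Cfsg.indFun H (fun _ : H => (1 : ℂ)))
      ((principalChar G : IrrCharacter G) : G → ℂ) ≠ 0 ∧
      (∀ g : G, (starRingEnd ℂ) (((principalChar G : IrrCharacter G) : G → ℂ) g) =
        ((principalChar G : IrrCharacter G) : G → ℂ) g) ∧
      (Nat.card G : ℂ)⁻¹ * ∑ g : G, ((principalChar G : IrrCharacter G) : G → ℂ) (g * g) = 1 := by
    refine ⟨?_, ?_, ?_⟩
    · have := classInner_indFun_one_principal H
      show classInner _ (fun _ : G => (1 : ℂ)) ≠ 0
      rw [this]; exact one_ne_zero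
    · intro g; simp [principalChar]
    · have hcard : (Nat.card G : ℂ) ≠ 0 := by exact_mod_cast (Nat.card_pos (α := G)).ne'
      simp only [principalChar, Finset.sum_const, Finset.card_univ, nsmul_eq_mul, mul_one]
      rw [← Nat.card_eq_fintype_card]
      exact inv_mul_cancel₀ hcard
  constructor
  · intro hcard
    by_contra hodd
    have heven : Even H.normalCore.index := Nat.not_odd_iff_even.mp hodd
    obtain ⟨χ, hne, hc, hreal, hν⟩ := exists_second_of_even H heven
    obtain ⟨hsub, -⟩ := Nat.card_eq_one_iff_unique.mp hcard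
    have := hsub.elim ⟨χ, hc, hreal, hν⟩ ⟨principalChar G, hp0⟩
    apply hne
    exact congrArg (fun s => ((s.1 : IrrCharacter G) : G → ℂ)) this
  · intro hodd
    rw [Nat.card_eq_one_iff_unique]
    refine ⟨⟨?_⟩, ⟨⟨principalChar G, hp0⟩⟩⟩
    rintro ⟨χ, hc, hreal, -⟩ ⟨ψ, hc', hreal', -⟩
    have h1 := eq_one_of_constituent_of_odd H hodd χ.2 hc hreal
    have h2 := eq_one_of_constituent_of_odd H hodd ψ.2 hc' hreal'
    apply Subtype.ext
    apply Subtype.ext
    rw [h1, h2]

end Cfsg.Agent.S4784
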