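import Mathlib
import Cfsg.Statements.S4796
import Cfsg.Agent.Lib.Helper24.CharInduced
import Cfsg.Agent.Lib.Helper24.CharAbelian
import Cfsg.Agent.Lib.Helper5.Clifford
import Cfsg.Agent.S0035

set_option autoImplicit false
open Cfsg

namespace Cfsg.Agent.S4796

open Cfsg.Agent.Helper24
open scoped ComplexConjugate

universe u

section

variable {G : Type u} [Group G] [Fintype G]

/-- A character of degree zero vanishes. -/
theorem char_eq_zero_of_one_eq_zero {ρ : G → ℂ} (hρ : IsCharacter G ρ) (h1 : ρ 1 = 0) : ρ = 0 := by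
  funext g
  have h := norm_le_charDegree hρ g
  have h2 : charDegree ρ = 0 := charDegree_natCast 0 (by simpa using h1)
  rw [h2] at h
  simpa using h

/-- The degree of a faithful irreducible character of codegree `p` is less than `p`. -/
theorem degree_lt {χ : G → ℂ} (hχ : IsIrrCharacter G χ)
    (hfaith : ∀ g : G, χ g = χ 1 → g = 1) (p : ℕ) (hp : p.Prime)
    (hcod : Nat.card G = p * charDegree χ) : charDegree χ < p := by
  classical
  letI : Fintype (IrrCharacter G) := irrFintype
  have hsum := sum_charDegree_sq (G := G)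
  have hne : (⟨χ, hχ⟩ : IrrCharacter G) ≠ principalChar G := by
    intro heq
    have h1 : χ = fun _ => (1 : ℂ) := congrArg Subtype.val heq
    have hall : ∀ g : G, g = 1 := fun g => hfaith g (by rw [h1])
    have hsub : Subsingleton G := ⟨fun a b => by rw [hall a, hall b]⟩
    have hc1 : Nat.card G = 1 := Nat.card_unique
    rw [hc1] at hcod
    have := Nat.eq_one_of_mul_eq_one_right hcod.symm
    exact hp.one_lt.ne' this
  have hle : charDegree χ ^ 2 + 1 ≤ Nat.card G := by
    rw [← hsum]
    have hsub : ({(⟨χ, hχ⟩ : IrrCharacter G), principalChar G} : Finset (IrrCharacter G)) ⊆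
        Finset.univ := Finset.subset_univ _
    have h2 := Finset.sum_le_sum_of_subset (f := fun ψ : IrrCharacter G =>
      charDegree (ψ : G → ℂ) ^ 2) hsub
    rw [Finset.sum_pair hne] at h2
    have h3 : charDegree ((principalChar G : IrrCharacter G) : G → ℂ) = 1 :=
      charDegree_natCast 1 (by simp [principalChar])
    simpa [h3] using h2
  rw [hcod] at hle
  by_contra hge
  have hge' : p ≤ charDegree χ := not_lt.mp hge
  nlinarith

/-- An irreducible character whose degree equals the index of an abelian subgroup is induced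
from a linear character of it. -/
theorem exists_induced_of_index_eq (N : Subgroup G) (hcomm : ∀ a b : N, a * b = b * a)
    {χ : G → ℂ} (hχ : IsIrrCharacter G χ) (hidx : N.index = charDegree χ) :
    ∃ ψ : N → ℂ, IsIrrCharacter N ψ ∧ χ = indFun N ψ := by
  classical
  haveI : Fintype N := Fintype.ofFinite _
  letI : Fintype (IrrCharacter N) := irrFintype
  set χN : N → ℂ := fun h => χ h with hχN
  have hχNc : IsCharacter N χN :=
    isCharacter_restrict N (isCharacter_of_isIrrCharacter hχ)
  have h1 : χN 1 = (charDegree χ : ℂ) := by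
    show χ ((1 : N) : G) = _
    rw [Subgroup.coe_one, irr_one_eq_charDegree hχ]
  have hne0 : χN ≠ 0 := by
    intro h0
    have := congrFun h0 1
    rw [h1] at this
    have hpos := charDegree_pos hχ
    simp at this
    omega
  obtain ⟨ψ, hψ, hψne⟩ := Cfsg.Agent.Helper5.exists_constituent hχNc hne0
  refine ⟨ψ, hψ, ?_⟩
  have hfr : classInner (indFun N ψ) χ = classInner ψ χN :=
    frobenius_reciprocity N ψ (isClassFunction_of_isCharacter (isCharacter_of_isIrrCharacter hχ))
  have hne : classInner (indFun N ψ) χ ≠ 0 := by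
    rw [hfr, classInner_char_comm (isCharacter_of_isIrrCharacter hψ) hχNc]
    exact hψne
  obtain ⟨ρ, hρ, hsum⟩ := Cfsg.Agent.Helper5.exists_add_of_constituent
    (isCharacter_indFun N (isCharacter_of_isIrrCharacter hψ)) hχ hne
  obtain ⟨r, hr⟩ := char_one_eq hρ
  have h2 := congrFun hsum 1
  rw [indFun_one, Pi.add_apply, hr, irr_one_eq_charDegree hχ, irr_one_eq_charDegree hψ,
    charDegree_eq_one_of_comm hcomm hψ, hidx] at h2
  have h3 : charDegree χ * 1 = charDegree χ + r := by exact_mod_cast h2
  have hr0 : r = 0 := by omega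
  have hρ0 : ρ = 0 := char_eq_zero_of_one_eq_zero hρ (by rw [hr, hr0]; simp)
  rw [hsum, hρ0, add_zero]

/-- If `ψ` on the normal subgroup `N` induces irreducibly, its stabilizer has order `|N|`. -/
theorem card_stabilizer_of_induced_irr (N : Subgroup G) [hN : N.Normal] {ψ : N → ℂ}
    (hψ : IsIrrCharacter N ψ) (hirr : IsIrrCharacter G (indFun N ψ)) :
    Nat.card {x : G // Cfsg.Agent.Helper5.conjFun N x ψ = ψ} = Nat.card N := by
  classical
  haveI : Fintype N := Fintype.ofFinite _
  rw [Nat.card_eq_fintype_card, Fintype.card_subtype]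
  have h1 : classInner (indFun N ψ) (indFun N ψ) = 1 := by
    rw [irr_orthogonality hirr hirr, if_pos rfl]
  rw [frobenius_reciprocity N ψ (isClassFunction_of_isCharacter
    (isCharacter_of_isIrrCharacter hirr)), Cfsg.Agent.Helper5.indFun_normal_restrict,
    classInner_smul_right, classInner_sum_right] at h1
  have h2 : ∀ x : G, classInner ψ (Cfsg.Agent.Helper5.conjFun N x ψ) =
      if Cfsg.Agent.Helper5.conjFun N x ψ = ψ then 1 else 0 := by
    intro x
    rw [irr_orthogonality hψ (Cfsg.Agent.Helper5.isIrrCharacter_conjFun N x hψ)]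
    by_cases h : Cfsg.Agent.Helper5.conjFun N x ψ = ψ
    · rw [if_pos h, if_pos h.symm]
    · rw [if_neg h, if_neg (fun h' => h h'.symm)]
  simp only [h2, Finset.sum_boole, map_inv₀, map_natCast] at h1
  have hN0 : (Nat.card N : ℂ) ≠ 0 := by
    rw [Nat.cast_ne_zero]; exact Nat.card_pos.ne'
  have h3 : ((Finset.univ.filter (fun x : G => Cfsg.Agent.Helper5.conjFun N x ψ = ψ)).card : ℂ) =
      (Nat.card N : ℂ) := by
    field_simp at h1
    exact h1
  exact_mod_cast h3

/-- If `ψ` on the normal subgroup `N` induces irreducibly, the centralizer of `N` lies in `N`. -/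
theorem mem_of_centralizes_of_induced_irr (N : Subgroup G) [hN : N.Normal] {ψ : N → ℂ}
    (hψ : IsIrrCharacter N ψ) (hirr : IsIrrCharacter G (indFun N ψ)) (x : G)
    (hx : ∀ n ∈ N, x * n = n * x) : x ∈ N := by
  classical
  have hcard := card_stabilizer_of_induced_irr N hψ hirr
  rw [Nat.card_eq_fintype_card, Fintype.card_subtype] at hcard
  have hsub : Finset.univ.filter (fun x : G => x ∈ N) ⊆
      Finset.univ.filter (fun x : G => Cfsg.Agent.Helper5.conjFun N x ψ = ψ) := by
    intro y hy
    rw [Finset.mem_filter] at hy ⊢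
    refine ⟨Finset.mem_univ _, ?_⟩
    funext n
    rw [Cfsg.Agent.Helper5.conjFun_apply]
    have := isClassFunction_of_isCharacter (isCharacter_of_isIrrCharacter hψ) n ⟨y, hy.2⟩
    rw [← this]
    congr 1
  have hcardN : (Finset.univ.filter (fun x : G => x ∈ N)).card = Nat.card N := by
    rw [Nat.card_eq_fintype_card, Fintype.card_subtype]
  have heq := Finset.eq_of_subset_of_card_le hsub (by rw [hcard, hcardN])
  have hxmem : x ∈ Finset.univ.filter (fun x : G => Cfsg.Agent.Helper5.conjFun N x ψ = ψ) := by
    rw [Finset.mem_filter]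
    refine ⟨Finset.mem_univ _, ?_⟩
    funext n
    rw [Cfsg.Agent.Helper5.conjFun_apply]
    congr 1
    apply Subtype.ext
    show x * n * x⁻¹ = n
    rw [hx n n.2, mul_inv_cancel_right]
  rw [← heq, Finset.mem_filter] at hxmem
  exact hxmem.2

end

section

variable {G : Type u} [Group G] [Finite G]

/-- A complement of a self-centralizing normal subgroup of prime order is a Frobenius
complement. -/
theorem isFrobeniusComplement_of_complement (N H : Subgroup G) [hN : N.Normal] (p : ℕ)
    (hp : p.Prime) (hcard : Nat.card N = p) (hcent : ∀ x : G, (∀ n ∈ N, x * n = n * x) → x ∈ N)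
    (hc : Subgroup.IsComplement' N H) (hH : H ≠ ⊥) : IsFrobeniusComplement H := by
  have hdisj : N ⊓ H = ⊥ := hc.disjoint.eq_bot
  refine ⟨hH, ?_, ?_⟩
  · rintro rfl
    rw [inf_top_eq] at hdisj
    rw [hdisj, Subgroup.card_bot] at hcard
    exact hp.one_lt.ne' hcard.symm
  · intro g hg
    rw [eq_bot_iff]
    intro h hh
    rw [Subgroup.mem_inf] at hh
    obtain ⟨hhH, hh2⟩ := hh
    rw [Subgroup.mem_bot]
    -- write g = x * h'
    obtain ⟨⟨⟨x, hx⟩, ⟨h', hh'⟩⟩, hxh, -⟩ := hc.existsUnique g
    simp only at hxh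
    have hx1 : x ≠ 1 := by
      rintro rfl
      rw [one_mul] at hxh
      exact hg (hxh ▸ hh')
    obtain ⟨h₀, hh₀, hh₀eq⟩ := (Subgroup.mem_smul_pointwise_iff_exists _ _ _).mp hh2
    rw [MulAut.smul_def, MulAut.conj_apply] at hh₀eq
    -- h = x * h₂ * x⁻¹ with h₂ = h' h₀ h'⁻¹ ∈ H
    set h₂ := h' * h₀ * h'⁻¹ with hh₂
    have hh₂H : h₂ ∈ H := H.mul_mem (H.mul_mem hh' hh₀) (H.inv_mem hh')
    have heq : h = x * h₂ * x⁻¹ := by
      rw [← hh₀eq, ← hxh, hh₂]
      group
    -- h * h₂⁻¹ ∈ N ⊓ H
    have hmem : h * h₂⁻¹ ∈ N ⊓ H := by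
      rw [Subgroup.mem_inf]
      refine ⟨?_, H.mul_mem hhH (H.inv_mem hh₂H)⟩
      have : h * h₂⁻¹ = x * (h₂ * x⁻¹ * h₂⁻¹) := by rw [heq]; group
      rw [this]
      exact N.mul_mem hx (hN.conj_mem _ (N.inv_mem hx) h₂)
    rw [hdisj, Subgroup.mem_bot, mul_inv_eq_one] at hmem
    -- so h commutes with x
    have hcomm : h * x = x * h := by
      have : h = x * h * x⁻¹ := by rw [← hmem] at heq; exact heq
      calc h * x = x * h * x⁻¹ * x := by rw [← this]
        _ = x * h := by group
    -- h centralizes N
    have hK : N ⊓ Subgroup.centralizer ({h} : Set G) = N := by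
      apply Subgroup.eq_of_le_of_card_ge inf_le_left
      have hdvd : Nat.card ↥(N ⊓ Subgroup.centralizer ({h} : Set G)) ∣ p := by
        rw [← hcard]; exact Subgroup.card_dvd_of_le inf_le_left
      rcases (Nat.dvd_prime hp).mp hdvd with h1 | h1
      · exfalso
        have hbot := Subgroup.card_eq_one.mp h1
        have hxK : x ∈ N ⊓ Subgroup.centralizer ({h} : Set G) := by
          rw [Subgroup.mem_inf, Subgroup.mem_centralizer_singleton_iff]
          exact ⟨hx, hcomm.symm⟩
        rw [hbot, Subgroup.mem_bot] at hxK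
        exact hx1 hxK
      · rw [h1, hcard]
    have hhN : h ∈ N := by
      apply hcent
      intro n hn
      have : n ∈ N ⊓ Subgroup.centralizer ({h} : Set G) := by rw [hK]; exact hn
      rw [Subgroup.mem_inf, Subgroup.mem_centralizer_singleton_iff] at this
      exact this.2.symm
    have : h ∈ N ⊓ H := Subgroup.mem_inf.mpr ⟨hhN, hhH⟩
    rwa [hdisj, Subgroup.mem_bot] at this

end

/-- Let G be a finite group with a faithful irreducible complex character χ whose codegree #G / χ(1) is a prime p (for a faithful character the kernel is trivial, so the codegree is #G / χ(1)). Then either G is cyclic of order p, or G is a Frobenius group whose Frobenius kernel has order p: some proper non-trivial subgroup H satisfies H ∩ gHg⁻¹ = 1 for every element g outside H, and the set of elements lying in no conjugate of H, together with the identity, has exactly p elements. -/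
theorem result {G : Type*} [Group G] [Finite G] (χ : Cfsg.IrrCharacter G) (hfaith : ∀ g : G, (χ : G → ℂ) g = (χ : G → ℂ) 1 → g = 1) (p : ℕ) (hp : p.Prime) (hcod : Nat.card G = p * Cfsg.charDegree (χ : G → ℂ)) : (IsCyclic G ∧ Nat.card G = p) ∨ ∃ H : Subgroup G, Cfsg.IsFrobeniusComplement H ∧ Nat.card ↥(Cfsg.frobeniusKernel H) = p := by
  classical
  haveI : Fintype G := Fintype.ofFinite G
  haveI : Fact p.Prime := ⟨hp⟩
  have hd : charDegree (χ : G → ℂ) < p := degree_lt χ.2 hfaith p hp hcod
  have hdpos : 0 < charDegree (χ : G → ℂ) := charDegree_pos χ.2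
  set d := charDegree (χ : G → ℂ) with hd_def
  have hnd : ¬ p ∣ d := Nat.not_dvd_of_pos_of_lt hdpos hd
  -- the Sylow p-subgroup
  let P : Sylow p G := default
  have hPcard : Nat.card (P : Subgroup G) = p := by
    show Nat.card P = p
    rw [Sylow.card_eq_multiplicity, hcod,
      Nat.factorization_mul hp.ne_zero hdpos.ne', Finsupp.add_apply,
      Nat.factorization_eq_zero_of_not_dvd hnd, add_zero, hp.factorization_self, pow_one]
  have hPidx : (P : Subgroup G).index = d := by
    have h1 := Subgroup.card_mul_index (P : Subgroup G)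
    rw [hPcard, hcod] at h1
    exact Nat.eq_of_mul_eq_mul_left hp.pos h1
  have hPn : (P : Subgroup G).Normal := by
    have h1 : Nat.card (Sylow p G) ∣ d := by
      rw [← hPidx]; exact P.card_dvd_index
    have h2 : Nat.card (Sylow p G) ≡ 1 [MOD p] := card_sylow_modEq_one p G
    have h3 : Nat.card (Sylow p G) ≤ d := Nat.le_of_dvd hdpos h1
    have h4 : Nat.card (Sylow p G) = 1 := by
      have h5 : Nat.card (Sylow p G) % p = Nat.card (Sylow p G) := Nat.mod_eq_of_lt (by omega)
      have h6 : 1 % p = 1 := Nat.mod_eq_of_lt hp.one_lt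
      unfold Nat.ModEq at h2
      rw [h5, h6] at h2
      exact h2
    haveI : Subsingleton (Sylow p G) := (Nat.card_eq_one_iff_unique.mp h4).1
    exact P.normal_of_subsingleton
  have hcomm : ∀ a b : (P : Subgroup G), a * b = b * a := by
    haveI : IsCyclic (P : Subgroup G) := isCyclic_of_prime_card hPcard
    intro a b
    exact Std.Commutative.comm (op := fun x y : ↥(P : Subgroup G) => x * y) a b
  obtain ⟨ψ, hψ, hind⟩ := exists_induced_of_index_eq (P : Subgroup G) hcomm χ.2 hPidx
  have hirr : IsIrrCharacter G (indFun (P : Subgroup G) ψ) := hind ▸ χ.2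
  have hcent := mem_of_centralizes_of_induced_irr (P : Subgroup G) hψ hirr
  by_cases hd1 : d = 1
  · left
    have hG : Nat.card G = p := by rw [hcod, hd1, mul_one]
    exact ⟨isCyclic_of_prime_card hG, hG⟩
  · right
    have hcop : Nat.Coprime (Nat.card (P : Subgroup G)) (P : Subgroup G).index := by
      rw [hPcard, hPidx]
      exact (Nat.Prime.coprime_iff_not_dvd hp).mpr hnd
    obtain ⟨H, hH⟩ := Subgroup.exists_right_complement'_of_coprime hcop
    have hHcard : Nat.card H = d := by
      have h1 := hH.card_mul_card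
      rw [hPcard, hcod] at h1
      exact Nat.eq_of_mul_eq_mul_left hp.pos h1
    have hHbot : H ≠ ⊥ := by
      rintro rfl
      rw [Subgroup.card_bot] at hHcard
      exact hd1 hHcard.symm
    have hF := isFrobeniusComplement_of_complement (P : Subgroup G) H p hp hPcard hcent hH hHbot
    obtain ⟨N, hNset, -, hNc⟩ := Cfsg.Agent.S0035.result H hF
    refine ⟨H, hF, ?_⟩
    have h1 := hNc.card_mul_card
    rw [hHcard, hcod] at h1
    have h2 : Nat.card N = p := Nat.eq_of_mul_eq_mul_right hdpos h1
    rw [← hNset]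
    exact h2

end Cfsg.Agent.S4796
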