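import Mathlib
import Cfsg.Statements.S4797
import Cfsg.Agent.Lib.Helper24.CharHom
import Cfsg.Agent.Lib.Helper24.GroupLemmas

set_option autoImplicit false
open Cfsg

namespace Cfsg.Agent.S4797

open Cfsg.Agent.Helper24

universe u

theorem forward {G : Type u} [Group G] [Finite G] (hperf : commutator G = ⊤)
    {χ : G → ℂ} (hχ : IsIrrCharacter G χ) :
    ¬ (Nat.card G / (Nat.card {g : G // χ g = χ 1} * charDegree χ)).Prime := by
  intro hp
  have hc := isCharacter_of_isIrrCharacter hχ
  let K := charKer hc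
  haveI : K.Normal := charKer_normal hc
  obtain ⟨ψ, hψ, hχψ⟩ := exists_deflate K hχ (fun n hn => hn)
  have hfaith : ∀ x : G ⧸ K, ψ x = ψ 1 → x = 1 := by
    intro x hx
    obtain ⟨g, rfl⟩ := QuotientGroup.mk_surjective x
    have : χ g = χ 1 := by
      rw [hχψ]
      simpa using hx
    exact (QuotientGroup.eq_one_iff g).mpr this
  have hdeg : charDegree χ = charDegree ψ := by
    unfold charDegree
    rw [hχψ]
    simp
  have hcard : Nat.card G = Nat.card K * Nat.card (G ⧸ K) := by
    rw [mul_comm]
    exact Subgroup.card_eq_card_quotient_mul_card_subgroup K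
  haveI : Fintype (G ⧸ K) := Fintype.ofFinite _
  have hdvd : charDegree ψ ∣ Nat.card (G ⧸ K) := charDegree_dvd_card hψ
  obtain ⟨m, hm⟩ := hdvd
  have hdpos : 0 < charDegree ψ := charDegree_pos hψ
  have hKpos : 0 < Nat.card K := Nat.card_pos
  have hpm : Nat.card G / (Nat.card {g : G // χ g = χ 1} * charDegree χ) = m := by
    rw [card_charKer hc, hcard, hm, hdeg, ← mul_assoc]
    exact Nat.mul_div_cancel_left m (Nat.mul_pos hKpos hdpos)
  rw [hpm] at hp
  -- H = G ⧸ K has order d * m with m prime
  letI : Fintype (IrrCharacter (G ⧸ K)) := irrFintype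
  have hsum := sum_charDegree_sq (G := G ⧸ K)
  -- ψ is not the principal character
  have hne : (⟨ψ, hψ⟩ : IrrCharacter (G ⧸ K)) ≠ principalChar (G ⧸ K) := by
    intro heq
    have hψ1 : ψ = fun _ => (1 : ℂ) := congrArg Subtype.val heq
    have hsub : Subsingleton (G ⧸ K) := by
      constructor
      intro a b
      rw [hfaith a (by rw [hψ1]), hfaith b (by rw [hψ1])]
    have h1 : Nat.card (G ⧸ K) = 1 := Nat.card_eq_one_iff_unique.mpr ⟨hsub, ⟨1⟩⟩
    rw [hm] at h1
    have : m = 1 := Nat.eq_one_of_mul_eq_one_left h1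
    exact hp.ne_one this
  have hlt : charDegree ψ < m := by
    classical
    have h2 : ∑ x ∈ ({⟨ψ, hψ⟩, principalChar (G ⧸ K)} : Finset (IrrCharacter (G ⧸ K))),
        charDegree (x : G ⧸ K → ℂ) ^ 2 ≤ ∑ x : IrrCharacter (G ⧸ K), charDegree (x : G ⧸ K → ℂ) ^ 2 :=
      Finset.sum_le_sum_of_subset (Finset.subset_univ _)
    rw [Finset.sum_pair hne, hsum, hm] at h2
    have h3 : charDegree ((principalChar (G ⧸ K) : IrrCharacter (G ⧸ K)) : G ⧸ K → ℂ) = 1 := by
      apply charDegree_natCast 1
      simp [principalChar]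
    rw [h3] at h2
    simp only [] at h2
    by_contra hcon
    rw [not_lt] at hcon
    have : charDegree ψ * m ≤ charDegree ψ * charDegree ψ := Nat.mul_le_mul_left _ hcon
    nlinarith
  have hperfH : commutator (G ⧸ K) = ⊤ := by
    rw [commutator_def] at hperf ⊢
    have := Subgroup.map_commutator (⊤ : Subgroup G) ⊤ (QuotientGroup.mk' K)
    rw [hperf, Subgroup.map_top_of_surjective _ (QuotientGroup.mk'_surjective K)] at this
    exact this.symm
  exact commutator_ne_top_of_card_eq_mul_prime hp hdpos hlt hm hperfH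

theorem backward {G : Type u} [Group G] [Finite G] (hnp : commutator G ≠ ⊤) :
    ∃ χ : IrrCharacter G,
      (Nat.card G / (Nat.card {g : G // (χ : G → ℂ) g = (χ : G → ℂ) 1} *
        charDegree (χ : G → ℂ))).Prime := by
  obtain ⟨g, hg⟩ : ∃ g : G, g ∉ commutator G := by
    by_contra h
    rw [not_exists] at h
    exact hnp (eq_top_iff.mpr fun x _ => not_not.mp (h x))
  have ha : Abelianization.of g ≠ 1 := by
    intro h
    apply hg
    exact (QuotientGroup.eq_one_iff g).mp h
  obtain ⟨φ, hφ⟩ :=
    CommGroup.exists_apply_ne_one_of_hasEnoughRootsOfUnity (Abelianization G) ℂ ha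
  let f : G →* ℂˣ := φ.comp Abelianization.of
  have hf : f ≠ 1 := fun h => hφ (by
    have := DFunLike.congr_fun h g
    simpa [f] using this)
  have hford : IsOfFinOrder f := by
    rw [isOfFinOrder_iff_pow_eq_one]
    refine ⟨Nat.card G, Nat.card_pos, ?_⟩
    ext x
    simp [← map_pow]
  have hn1 : orderOf f ≠ 1 := fun h => hf (orderOf_eq_one_iff.mp h)
  have hp : (orderOf f).minFac.Prime := Nat.minFac_prime hn1
  set p := (orderOf f).minFac with hpdef
  haveI : Fact p.Prime := ⟨hp⟩
  let l : G →* ℂˣ := f ^ (orderOf f / p)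
  have hl : orderOf l = p :=
    orderOf_pow_orderOf_div (hford.orderOf_pos.ne') (Nat.minFac_dvd _)
  have hl1 : l ≠ 1 := by
    intro h
    rw [h, orderOf_one] at hl
    exact hp.ne_one hl.symm
  have hlp : l ^ p = 1 := by
    rw [← hl]
    exact pow_orderOf_eq_one l
  have hrange : l.range ≤ rootsOfUnity p ℂ := by
    rintro _ ⟨x, rfl⟩
    rw [mem_rootsOfUnity]
    have := DFunLike.congr_fun hlp x
    simpa using this
  have hcardR : Nat.card (rootsOfUnity p ℂ) = p := by
    haveI : NeZero p := ⟨hp.ne_zero⟩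
    exact Complex.card_rootsOfUnity p
  have hcard : Nat.card l.range = p := by
    have hdvd := Subgroup.card_dvd_of_le hrange
    rw [hcardR] at hdvd
    rcases (Nat.dvd_prime hp).mp hdvd with h1 | h1
    · exfalso
      apply hl1
      rw [Subgroup.card_eq_one] at h1
      exact (MonoidHom.range_eq_bot_iff).mp h1
    · exact h1
  have hidx : l.ker.index = p := by rw [Subgroup.index_ker, hcard]
  refine ⟨⟨fun g => ((l g : ℂˣ) : ℂ), isIrrCharacter_of_monoidHom l⟩, ?_⟩
  have hdeg : charDegree (fun g => ((l g : ℂˣ) : ℂ)) = 1 := by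
    apply charDegree_natCast 1
    simp
  have hker : Nat.card {g : G // ((l g : ℂˣ) : ℂ) = ((l 1 : ℂˣ) : ℂ)} = Nat.card l.ker := by
    apply Nat.card_congr
    apply Equiv.subtypeEquivRight
    intro x
    simp [MonoidHom.mem_ker]
  show (Nat.card G / (Nat.card {g : G // ((l g : ℂˣ) : ℂ) = ((l 1 : ℂˣ) : ℂ)} *
        charDegree (fun g => ((l g : ℂˣ) : ℂ)))).Prime
  rw [hdeg, hker, mul_one, ← Subgroup.card_mul_index l.ker, hidx,
    Nat.mul_div_cancel_left _ Nat.card_pos]
  exact hp

/-- The codegree of an irreducible complex character χ of a finite group G is [G : ker χ] / χ(1), where ker χ is the set of elements at which χ takes the value χ(1). A non-trivial finite group is perfect if and only if no irreducible complex character of it has prime codegree. -/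
theorem result {G : Type*} [Group G] [Finite G] [Nontrivial G] : commutator G = ⊤ ↔ ∀ χ : Cfsg.IrrCharacter G, ¬ ((Nat.card G / (Nat.card {g : G // (χ : G → ℂ) g = (χ : G → ℂ) 1} * Cfsg.charDegree (χ : G → ℂ)))).Prime := by
  constructor
  · intro h χ
    exact forward h χ.2
  · intro h
    by_contra hnp
    obtain ⟨χ, hχ⟩ := backward hnp
    exact h χ hχ

end Cfsg.Agent.S4797
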