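import Mathlib
import Cfsg.Statements.S4798
import Cfsg.Agent.Lib.Helper24.CharInduced
import Cfsg.Agent.Lib.Helper5.Clifford

set_option autoImplicit false
open Cfsg

namespace Cfsg.Agent.S4798

open Cfsg.Agent.Helper24
open scoped ComplexConjugate

universe u

section

variable {G : Type u} [Group G] [Fintype G]

/-- A character of degree zero vanishes. -/
theorem char_eq_zero_of_one_eq_zero {ρ : G → ℂ} (hρ : IsCharacter G ρ) (h1 : ρ 1 = 0) : ρ = 0 := by
  funext g
  have h := norm_le_charDegree hρ g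
  have h2 : charDegree ρ = 0 := charDegree_natCast 0 (by simpa using h1)
  rw [h2] at h
  simpa using h

/-- `⇐` direction. -/
theorem codegree_of_induced (p : ℕ) [Fact p.Prime] {χ : G → ℂ} (hχ : IsIrrCharacter G χ)
    (P : Sylow p G) (θ : ↥(P : Subgroup G) → ℂ) (hθ : IsCharacter ↥(P : Subgroup G) θ)
    (hind : χ = indFun (P : Subgroup G) θ) :
    ∃ k : ℕ, Nat.card G = p ^ k * charDegree χ := by
  have hp : p.Prime := Fact.out
  obtain ⟨n, hn⟩ := char_one_eq hθ
  have h1 : χ 1 = ((P : Subgroup G).index : ℂ) * n := by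
    rw [hind, indFun_one, hn]
  have hd : charDegree χ = (P : Subgroup G).index * n := by
    have := irr_one_eq_charDegree hχ
    rw [h1] at this
    exact_mod_cast this.symm
  have hdvd : charDegree χ ∣ Nat.card G := charDegree_dvd_card hχ
  obtain ⟨m, hm⟩ := IsPGroup.iff_card.mp P.isPGroup'
  have hmul := Subgroup.card_mul_index (P : Subgroup G)
  rw [hm] at hmul
  have hidx : (P : Subgroup G).index ≠ 0 := Subgroup.index_ne_zero_of_finite
  have hn_dvd : n ∣ p ^ m := by
    rw [hd, ← hmul, mul_comm (p ^ m)] at hdvd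
    exact Nat.dvd_of_mul_dvd_mul_left (Nat.pos_of_ne_zero hidx) hdvd
  obtain ⟨j, hj, rfl⟩ := (Nat.dvd_prime_pow hp).mp hn_dvd
  refine ⟨m - j, ?_⟩
  rw [hd, ← hmul]
  have : p ^ m = p ^ (m - j) * p ^ j := by rw [← pow_add]; congr 1; omega
  rw [this]
  ring

/-- `⇒` direction. -/
theorem induced_of_codegree (p : ℕ) [Fact p.Prime] {χ : G → ℂ} (hχ : IsIrrCharacter G χ)
    (k : ℕ) (hk : Nat.card G = p ^ k * charDegree χ) :
    ∃ (P : Sylow p G) (θ : ↥(P : Subgroup G) → ℂ), IsCharacter ↥(P : Subgroup G) θ ∧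
      χ = indFun (P : Subgroup G) θ := by
  classical
  have hp : p.Prime := Fact.out
  let P : Sylow p G := default
  haveI : Fintype ↥(P : Subgroup G) := Fintype.ofFinite _
  letI : Fintype (IrrCharacter ↥(P : Subgroup G)) := irrFintype
  obtain ⟨m, hm⟩ := IsPGroup.iff_card.mp P.isPGroup'
  have hmul := Subgroup.card_mul_index (P : Subgroup G)
  rw [hm] at hmul
  have hidx : ¬ p ∣ (P : Subgroup G).index := P.not_dvd_index
  set d := charDegree χ with hd
  -- k ≤ m and d = p^(m-k) * index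
  have hcop : Nat.Coprime (p ^ k) (P : Subgroup G).index :=
    Nat.Coprime.pow_left k ((Nat.Prime.coprime_iff_not_dvd hp).mpr hidx)
  have hkm : k ≤ m := by
    have h1 : p ^ k ∣ p ^ m * (P : Subgroup G).index := by
      rw [hmul, hk]; exact dvd_mul_right _ _
    have h2 : p ^ k ∣ p ^ m := hcop.dvd_of_dvd_mul_right h1
    exact (Nat.pow_dvd_pow_iff_le_right hp.one_lt).mp h2
  have hdeq : d = p ^ (m - k) * (P : Subgroup G).index := by
    have h1 : p ^ k * d = p ^ k * (p ^ (m - k) * (P : Subgroup G).index) := by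
      rw [← hk, ← hmul, ← mul_assoc, ← pow_add]
      congr 2
      omega
    exact Nat.eq_of_mul_eq_mul_left (pow_pos hp.pos k) h1
  -- restriction of χ to P
  set χP : ↥(P : Subgroup G) → ℂ := fun h => χ h with hχP
  have hχPc : IsCharacter ↥(P : Subgroup G) χP :=
    isCharacter_restrict (P : Subgroup G) (isCharacter_of_isIrrCharacter hχ)
  obtain ⟨hmult, hdec⟩ := isCharacter_decomp hχPc
  choose mult hmult using hmult
  -- degrees
  have hdeg : (d : ℂ) = ∑ ψ : IrrCharacter ↥(P : Subgroup G), (mult ψ : ℂ) * (charDegree (ψ : ↥(P : Subgroup G) → ℂ) : ℂ) := by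
    have h1 : χP 1 = (d : ℂ) := by
      show χ ((1 : ↥(P : Subgroup G)) : G) = _
      rw [Subgroup.coe_one, irr_one_eq_charDegree hχ]
    rw [← h1]
    conv_lhs => rw [hdec]
    rw [Finset.sum_apply]
    apply Finset.sum_congr rfl
    intro ψ _
    rw [Pi.smul_apply, smul_eq_mul, hmult ψ, irr_one_eq_charDegree ψ.2]
  have hdegN : d = ∑ ψ : IrrCharacter ↥(P : Subgroup G), mult ψ * charDegree (ψ : ↥(P : Subgroup G) → ℂ) := by
    exact_mod_cast hdeg
  -- some constituent has small degree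
  have hex : ∃ ψ : IrrCharacter ↥(P : Subgroup G), mult ψ ≠ 0 ∧
      charDegree (ψ : ↥(P : Subgroup G) → ℂ) ∣ p ^ (m - k) := by
    by_contra hcon
    push Not at hcon
    have hall : ∀ ψ : IrrCharacter ↥(P : Subgroup G),
        p ^ (m - k + 1) ∣ mult ψ * charDegree (ψ : ↥(P : Subgroup G) → ℂ) := by
      intro ψ
      by_cases h0 : mult ψ = 0
      · rw [h0, zero_mul]; exact dvd_zero _
      · have h1 := hcon ψ h0
        have h2 : charDegree (ψ : ↥(P : Subgroup G) → ℂ) ∣ p ^ m := by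
          rw [← hm]; exact charDegree_dvd_card ψ.2
        obtain ⟨j, hj, hj2⟩ := (Nat.dvd_prime_pow hp).mp h2
        rw [hj2] at h1 ⊢
        have : m - k < j := by
          by_contra hle
          exact h1 (pow_dvd_pow p (not_lt.mp hle))
        exact Dvd.dvd.mul_left (pow_dvd_pow p this) _
    have h3 : p ^ (m - k + 1) ∣ d := by
      rw [hdegN]
      exact Finset.dvd_sum (fun ψ _ => hall ψ)
    rw [hdeq, pow_succ] at h3
    have h4 : p ∣ (P : Subgroup G).index :=
      Nat.dvd_of_mul_dvd_mul_left (pow_pos hp.pos (m - k)) h3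
    exact hidx h4
  obtain ⟨ψ, hψ0, hψd⟩ := hex
  refine ⟨P, (ψ : ↥(P : Subgroup G) → ℂ), isCharacter_of_isIrrCharacter ψ.2, ?_⟩
  -- Frobenius reciprocity
  have hfr : classInner (indFun (P : Subgroup G) (ψ : ↥(P : Subgroup G) → ℂ)) χ = classInner (ψ : ↥(P : Subgroup G) → ℂ) χP :=
    frobenius_reciprocity (P : Subgroup G) (ψ : ↥(P : Subgroup G) → ℂ) (isClassFunction_of_isCharacter
      (isCharacter_of_isIrrCharacter hχ))
  have hne : classInner (indFun (P : Subgroup G) (ψ : ↥(P : Subgroup G) → ℂ)) χ ≠ 0 := by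
    rw [hfr, classInner_char_comm (isCharacter_of_isIrrCharacter ψ.2) hχPc, hmult ψ]
    exact_mod_cast hψ0
  obtain ⟨ρ, hρ, hsum⟩ := Cfsg.Agent.Helper5.exists_add_of_constituent
    (isCharacter_indFun (P : Subgroup G) (isCharacter_of_isIrrCharacter ψ.2)) hχ hne
  obtain ⟨r, hr⟩ := char_one_eq hρ
  have h1 := congrFun hsum 1
  rw [indFun_one, Pi.add_apply, hr, irr_one_eq_charDegree hχ, irr_one_eq_charDegree ψ.2] at h1
  have h2 : (P : Subgroup G).index * charDegree (ψ : ↥(P : Subgroup G) → ℂ) = d + r := by exact_mod_cast h1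
  have h3 : (P : Subgroup G).index * charDegree (ψ : ↥(P : Subgroup G) → ℂ) ≤ d := by
    rw [hdeq, mul_comm]
    exact Nat.mul_le_mul_right _ (Nat.le_of_dvd (pow_pos hp.pos _) hψd)
  have hr0 : r = 0 := by omega
  have hρ0 : ρ = 0 := char_eq_zero_of_one_eq_zero hρ (by rw [hr, hr0]; simp)
  rw [hsum, hρ0, add_zero]

end

/-- Let p be a prime and χ a faithful irreducible complex character of the finite group G (χ(g) = χ(1) only for g = 1), so that its codegree is #G / χ(1). Then #G / χ(1) is a power of p if and only if χ is induced from a character of a Sylow p-subgroup of G. -/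
theorem result {G : Type*} [Group G] [Fintype G] (p : ℕ) [Fact p.Prime] (χ : Cfsg.IrrCharacter G) (hfaith : ∀ g : G, (χ : G → ℂ) g = (χ : G → ℂ) 1 → g = 1) : (∃ k : ℕ, Nat.card G = p ^ k * Cfsg.charDegree (χ : G → ℂ)) ↔ ∃ (P : Sylow p G) (θ : ↥(P : Subgroup G) → ℂ), Cfsg.IsCharacter ↥(P : Subgroup G) θ ∧ (χ : G → ℂ) = Cfsg.indFun (P : Subgroup G) θ := by
  constructor
  · rintro ⟨k, hk⟩
    exact induced_of_codegree p χ.2 k hk
  · rintro ⟨P, θ, hθ, hind⟩
    exact codegree_of_induced p χ.2 P θ hθ hind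

end Cfsg.Agent.S4798
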