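import Mathlib
import Cfsg.Statements.S4801
import Cfsg.Agent.Lib.Helper24.CharCodegree

set_option autoImplicit false
open Cfsg

namespace Cfsg.Agent.S4801

open Cfsg.Agent.Helper24

/-- The codegree of an irreducible complex character χ of a finite group G is [G : ker χ] / χ(1), where ker χ is the set of elements at which χ takes the value χ(1). Let S be a finite simple group and G a finite group such that every codegree of an irreducible character of S is a codegree of an irreducible character of G. Then the order of S divides the order of G. -/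
theorem result {S : Type*} [Group S] [Finite S] (hS : IsSimpleGroup S) {G : Type*} [Group G] [Finite G] (hsub : ∀ χ : Cfsg.IrrCharacter S, ∃ ψ : Cfsg.IrrCharacter G, (Nat.card S / (Nat.card {g : S // (χ : S → ℂ) g = (χ : S → ℂ) 1} * Cfsg.charDegree (χ : S → ℂ))) = (Nat.card G / (Nat.card {g : G // (ψ : G → ℂ) g = (ψ : G → ℂ) 1} * Cfsg.charDegree (ψ : G → ℂ)))) : Nat.card S ∣ Nat.card G := by
  have hS0 : Nat.card S ≠ 0 := Nat.card_pos.ne'
  have hG0 : Nat.card G ≠ 0 := Nat.card_pos.ne'
  rw [← Nat.factorization_prime_le_iff_dvd hS0 hG0]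
  intro p hp
  by_cases hpS : p ∣ Nat.card S
  · obtain ⟨χ, hχ1, hχp⟩ := exists_nonprincipal_degree_not_dvd hp hpS
    obtain ⟨ψ, hψ⟩ := hsub χ
    have hker := card_ker_eq_one_of_simple hS χ.2 hχ1
    rw [hker, one_mul] at hψ
    have hdvd : Nat.card S / charDegree (χ : S → ℂ) ∣ Nat.card G := by
      rw [hψ]
      exact codegree_dvd_card ψ.2
    haveI : Fintype S := Fintype.ofFinite S
    have hd : charDegree (χ : S → ℂ) ∣ Nat.card S := charDegree_dvd_card χ.2
    obtain ⟨m, hm⟩ := hd
    have hdpos : 0 < charDegree (χ : S → ℂ) := charDegree_pos χ.2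
    have hm0 : m ≠ 0 := by
      rintro rfl
      rw [mul_zero] at hm
      exact hS0 hm
    rw [hm, Nat.mul_div_cancel_left m hdpos] at hdvd
    have h1 : (Nat.card S).factorization p = m.factorization p := by
      rw [hm, Nat.factorization_mul hdpos.ne' hm0, Finsupp.add_apply,
        Nat.factorization_eq_zero_of_not_dvd hχp, zero_add]
    rw [h1]
    exact (Nat.factorization_le_iff_dvd hm0 hG0).mpr hdvd p
  · rw [Nat.factorization_eq_zero_of_not_dvd hpS]
    exact Nat.zero_le _

end Cfsg.Agent.S4801
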