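import Mathlib
import Cfsg.Statements.S4802
import Cfsg.Agent.Lib.Helper24.CharNormal

set_option autoImplicit false
open Cfsg

namespace Cfsg.Agent.S4802

open Cfsg.Agent.Helper24
open scoped ComplexConjugate

/-- Let N < M be normal subgroups of the finite group G and g ∈ M ∖ N. Then the conjugacy class of g is exactly M ∖ N if and only if every irreducible complex character of G whose kernel contains N takes the same value at all elements of M ∖ N, and every irreducible complex character of G whose kernel does not contain N vanishes at g. -/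
theorem result {G : Type*} [Group G] [Finite G] (N M : Subgroup G) [N.Normal] [M.Normal] (hNM : N < M) (g : G) (hgM : g ∈ M) (hgN : g ∉ N) : {h : G | IsConj g h} = (M : Set G) \ (N : Set G) ↔ ((∀ χ : Cfsg.IrrCharacter G, (∀ x ∈ N, (χ : G → ℂ) x = (χ : G → ℂ) 1) → ∀ x ∈ M, x ∉ N → ∀ y ∈ M, y ∉ N → (χ : G → ℂ) x = (χ : G → ℂ) y) ∧ (∀ χ : Cfsg.IrrCharacter G, (∃ x ∈ N, (χ : G → ℂ) x ≠ (χ : G → ℂ) 1) → (χ : G → ℂ) g = 0)) := by
  classical
  haveI : Fintype G := Fintype.ofFinite G
  letI : Fintype (IrrCharacter G) := irrFintype
  haveI : Fintype N := Fintype.ofFinite N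
  constructor
  · intro hcl
    have hconj : ∀ x ∈ M, x ∉ N → IsConj g x := by
      intro x hxM hxN
      have : x ∈ (M : Set G) \ (N : Set G) := ⟨hxM, hxN⟩
      rw [← hcl] at this
      exact this
    constructor
    · intro χ _ x hxM hxN y hyM hyN
      have hcf := isClassFunction_of_isIrrCharacter χ.2
      rw [← classFunction_eq_of_isConj hcf (hconj x hxM hxN),
        ← classFunction_eq_of_isConj hcf (hconj y hyM hyN)]
    · intro χ hχN
      have hcf := isClassFunction_of_isIrrCharacter χ.2
      have h0 := sum_char_coset_eq_zero N χ.2 hχN g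
      have h1 : ∀ m : N, (χ : G → ℂ) (g * (m : G)) = (χ : G → ℂ) g := by
        intro m
        symm
        apply classFunction_eq_of_isConj hcf
        apply hconj
        · exact M.mul_mem hgM (hNM.le m.2)
        · intro h
          apply hgN
          have := N.mul_mem h (N.inv_mem m.2)
          rwa [mul_inv_cancel_right] at this
      simp only [h1, Finset.sum_const, Finset.card_univ, nsmul_eq_mul] at h0
      rcases mul_eq_zero.mp h0 with h | h
      · exfalso
        have : Fintype.card N ≠ 0 := Fintype.card_ne_zero
        exact this (by exact_mod_cast h)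
      · exact h
  · rintro ⟨hA, hB⟩
    ext x
    simp only [Set.mem_setOf_eq, Set.mem_diff, SetLike.mem_coe]
    constructor
    · intro hx
      obtain ⟨c, hc⟩ := isConj_iff.mp hx
      subst hc
      refine ⟨‹M.Normal›.conj_mem g hgM c, fun h => hgN ?_⟩
      have := ‹N.Normal›.conj_mem _ h c⁻¹
      simpa [mul_assoc] using this
    · rintro ⟨hxM, hxN⟩
      have hso := second_orthogonality x g
      let t : IrrCharacter G → ℝ := fun χ =>
        if (∀ x ∈ N, (χ : G → ℂ) x = (χ : G → ℂ) 1) then Complex.normSq ((χ : G → ℂ) g) else 0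
      have hterm : ∀ χ : IrrCharacter G,
          (χ : G → ℂ) x * conj ((χ : G → ℂ) g) = ((t χ : ℝ) : ℂ) := by
        intro χ
        by_cases h : ∀ x ∈ N, (χ : G → ℂ) x = (χ : G → ℂ) 1
        · simp only [t, if_pos h]
          rw [hA χ h x hxM hxN g hgM hgN, Complex.mul_conj]
        · simp only [t, if_neg h]
          have h' : ∃ x ∈ N, (χ : G → ℂ) x ≠ (χ : G → ℂ) 1 := by
            by_contra hcon
            apply h
            intro x hx
            by_contra hne
            exact hcon ⟨x, hx, hne⟩
          rw [hB χ h']
          simp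
      have htnn : ∀ χ ∈ (Finset.univ : Finset (IrrCharacter G)), 0 ≤ t χ := by
        intro χ _
        simp only [t]
        split_ifs
        · exact Complex.normSq_nonneg _
        · exact le_refl _
      have ht1 : t (principalChar G) = 1 := by
        simp [t, principalChar]
      have hge : 1 ≤ ∑ χ : IrrCharacter G, t χ := by
        rw [← ht1]
        exact Finset.single_le_sum htnn (Finset.mem_univ _)
      rw [Finset.sum_congr rfl (fun χ _ => hterm χ), ← Complex.ofReal_sum] at hso
      have hne : Nat.card {y : G // y * g * y⁻¹ = x} ≠ 0 := by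
        intro h0
        rw [h0, Nat.cast_zero] at hso
        have : (∑ χ : IrrCharacter G, t χ) = 0 := by exact_mod_cast hso
        linarith
      obtain ⟨⟨y, hy⟩⟩ : Nonempty {y : G // y * g * y⁻¹ = x} := by
        by_contra hemp
        rw [not_nonempty_iff] at hemp
        exact hne Nat.card_of_isEmpty
      exact isConj_iff.mpr ⟨y, hy⟩

end Cfsg.Agent.S4802
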