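import Mathlib
import Cfsg.Statements.S4808
import Cfsg.Agent.Lib.Helper24.CharQuotient

set_option autoImplicit false
open Cfsg

namespace Cfsg.Agent.S4808

open Cfsg.Agent.Helper24

universe u

/-- Every nontrivial finite group has a nontrivial normal subgroup contained in every other
nontrivial normal subgroup that meets it nontrivially (a minimal normal subgroup). -/
theorem exists_minimal_normal {G : Type u} [Group G] [Finite G] [Nontrivial G] :
    ∃ N : Subgroup G, N.Normal ∧ N ≠ ⊥ ∧
      ∀ M : Subgroup G, M.Normal → M ≠ ⊥ → M ≤ N → M = N := by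
  classical
  have hex : ∃ k : ℕ, ∃ N : Subgroup G, N.Normal ∧ N ≠ ⊥ ∧ Nat.card N = k :=
    ⟨_, ⊤, inferInstance, top_ne_bot, rfl⟩
  obtain ⟨N, hN1, hN2, hN3⟩ := Nat.find_spec hex
  refine ⟨N, hN1, hN2, fun M hM1 hM2 hMN => ?_⟩
  have hle : Nat.card M ≤ Nat.card N := Subgroup.card_le_of_le hMN
  have hge : Nat.card N ≤ Nat.card M := by
    rw [hN3]
    exact Nat.find_min' hex ⟨M, hM1, hM2, rfl⟩
  exact Subgroup.eq_of_le_of_card_ge hMN hge

theorem aux (p : ℕ) (hp : p.Prime) : ∀ n : ℕ, ∀ (G : Type u) [Group G] [Finite G],
    Nat.card G = n → p ∣ n → ∃ χ : IrrCharacter G,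
      p ∣ (Nat.card G / (Nat.card {g : G // (χ : G → ℂ) g = (χ : G → ℂ) 1} *
        charDegree (χ : G → ℂ))) := by
  intro n
  induction n using Nat.strong_induction_on with
  | _ n ih =>
    intro G _ _ hn hpn
    classical
    by_cases hA : ∃ N : Subgroup G, N.Normal ∧ N ≠ ⊥ ∧ p ∣ Nat.card (G ⧸ N)
    · obtain ⟨N, hN1, hN2, hN3⟩ := hA
      haveI := hN1
      have hlt : Nat.card (G ⧸ N) < n := by
        rw [← hn, Subgroup.card_eq_card_quotient_mul_card_subgroup N]
        have h1 : 1 < Nat.card N := by
          rw [Subgroup.one_lt_card_iff_ne_bot]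
          exact hN2
        have h2 : 0 < Nat.card (G ⧸ N) := Nat.card_pos
        nlinarith
      obtain ⟨ψ, hψ⟩ := ih _ hlt (G ⧸ N) rfl hN3
      refine ⟨⟨(ψ : G ⧸ N → ℂ) ∘ (QuotientGroup.mk : G → G ⧸ N), isIrrCharacter_inflate N ψ.2⟩, ?_⟩
      simp only
      rw [codegree_inflate N (isCharacter_of_isIrrCharacter ψ.2)]
      exact hψ
    · by_contra hcon
      rw [not_exists] at hcon
      have hB : ∀ N : Subgroup G, N.Normal → N ≠ ⊥ → ¬ p ∣ Nat.card (G ⧸ N) := by
        intro N h1 h2 h3
        exact hA ⟨N, h1, h2, h3⟩
      haveI : Nontrivial G := by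
        rw [← Finite.one_lt_card_iff_nontrivial, hn]
        exact lt_of_lt_of_le hp.one_lt (Nat.le_of_dvd (by rw [← hn]; exact Nat.card_pos) hpn)
      obtain ⟨N, hN1, hN2, hNmin⟩ := exists_minimal_normal (G := G)
      haveI := hN1
      have hpN : p ∣ Nat.card N := by
        have h1 : Nat.card G = Nat.card (G ⧸ N) * Nat.card N :=
          Subgroup.card_eq_card_quotient_mul_card_subgroup N
        rw [hn] at h1
        rw [h1] at hpn
        rcases (Nat.Prime.dvd_mul hp).mp hpn with h | h
        · exact absurd h (hB N hN1 hN2)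
        · exact h
      -- every nontrivial normal subgroup contains N
      have hcontain : ∀ M : Subgroup G, M.Normal → M ≠ ⊥ → N ≤ M := by
        intro M hM1 hM2
        haveI := hM1
        by_cases hint : N ⊓ M = ⊥
        · exfalso
          apply hB M hM1 hM2
          -- N embeds in G ⧸ M
          have hinj : Function.Injective ((QuotientGroup.mk' M).comp N.subtype) := by
            rw [injective_iff_map_eq_one]
            intro x hx
            have hxM : (x : G) ∈ M := by
              have : (QuotientGroup.mk' M) (x : G) = 1 := hx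
              rwa [QuotientGroup.mk'_apply, QuotientGroup.eq_one_iff] at this
            have : (x : G) ∈ N ⊓ M := ⟨x.2, hxM⟩
            rw [hint, Subgroup.mem_bot] at this
            exact Subtype.ext this
          have hdvd : Nat.card N ∣ Nat.card (G ⧸ M) :=
            Subgroup.card_dvd_of_injective _ hinj
          exact hpN.trans hdvd
        · have := hNmin (N ⊓ M) inferInstance hint inf_le_left
          rw [← this]
          exact inf_le_right
      -- split the sum of squares
      haveI : Fintype G := Fintype.ofFinite G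
      letI : Fintype (IrrCharacter G) := irrFintype
      have hsum := sum_charDegree_sq (G := G)
      rw [← Fintype.sum_subtype_add_sum_subtype
        (fun χ : IrrCharacter G => ∀ n ∈ N, (χ : G → ℂ) n = (χ : G → ℂ) 1)
        (fun χ => charDegree (χ : G → ℂ) ^ 2), sum_charDegree_sq_of_le_ker N] at hsum
      have h2 : p ∣ ∑ χ : {χ : IrrCharacter G // ¬ ∀ n ∈ N, (χ : G → ℂ) n = (χ : G → ℂ) 1},
          charDegree ((χ.1 : IrrCharacter G) : G → ℂ) ^ 2 := by
        apply Finset.dvd_sum
        rintro ⟨χ, hχ⟩ _
        simp only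
        apply dvd_pow _ two_ne_zero
        -- χ is faithful
        have hc := isCharacter_of_isIrrCharacter χ.2
        have hker : charKer hc = ⊥ := by
          by_contra hne
          apply hχ
          intro n hn'
          exact hcontain (charKer hc) (charKer_normal hc) hne hn'
        have hk1 : Nat.card {g : G // (χ : G → ℂ) g = (χ : G → ℂ) 1} = 1 := by
          rw [card_charKer hc, hker]
          exact Subgroup.card_bot
        have hmul := codegree_mul χ.2
        have hnd := hcon χ
        rw [hk1, one_mul] at hmul hnd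
        have : p ∣ Nat.card G / charDegree (χ : G → ℂ) * charDegree (χ : G → ℂ) := by
          rw [hmul, hn]; exact hpn
        rcases (Nat.Prime.dvd_mul hp).mp this with h | h
        · exact absurd h hnd
        · exact h
      have h3 : p ∣ Nat.card (G ⧸ N) := by
        have : p ∣ Nat.card (G ⧸ N) + ∑ χ : {χ : IrrCharacter G //
            ¬ ∀ n ∈ N, (χ : G → ℂ) n = (χ : G → ℂ) 1},
            charDegree ((χ.1 : IrrCharacter G) : G → ℂ) ^ 2 := by
          rw [hsum, hn]; exact hpn
        exact (Nat.dvd_add_left h2).mp this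
      exact hB N hN1 hN2 h3

/-- The codegree of an irreducible complex character χ of a finite group G is [G : ker χ] / χ(1), where ker χ is the set of elements at which χ takes the value χ(1). A prime divides the order of G if and only if it divides the codegree of some irreducible complex character of G. -/
theorem result {G : Type*} [Group G] [Finite G] (p : ℕ) (hp : p.Prime) : p ∣ Nat.card G ↔ ∃ χ : Cfsg.IrrCharacter G, p ∣ (Nat.card G / (Nat.card {g : G // (χ : G → ℂ) g = (χ : G → ℂ) 1} * Cfsg.charDegree (χ : G → ℂ))) := by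
  constructor
  · intro h
    exact aux p hp _ G rfl h
  · rintro ⟨χ, hχ⟩
    exact hχ.trans (codegree_dvd_card χ.2)

end Cfsg.Agent.S4808
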