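import Mathlib
import Cfsg.Statements.S4811
import Cfsg.Agent.Lib.Helper14.ManzKey

set_option autoImplicit false
open Cfsg

namespace Cfsg.Agent.S4811

open Cfsg.Agent.Helper14.Manz Cfsg.Agent.Helper24 Cfsg.Agent.Helper24.Cd3

theorem card_cc_le_two {V : Type*} (Γ : SimpleGraph V) (a b : V)
    (h : ∀ v, Γ.Reachable a v ∨ Γ.Reachable b v) : Nat.card Γ.ConnectedComponent ≤ 2 := by
  let g : Bool → Γ.ConnectedComponent := fun t =>
    if t then Γ.connectedComponentMk a else Γ.connectedComponentMk b
  have hg : Function.Surjective g := by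
    intro c
    induction c using SimpleGraph.ConnectedComponent.ind with
    | h v =>
      rcases h v with hv | hv
      · exact ⟨true, SimpleGraph.ConnectedComponent.eq.mpr hv⟩
      · exact ⟨false, SimpleGraph.ConnectedComponent.eq.mpr hv⟩
  have := Nat.card_le_card_of_surjective g hg
  simpa using this

theorem mem_degreePrimes_of {G : Type*} [Group G] {p : ℕ} (hp : p.Prime) {χ : G → ℂ}
    (hχ : IsIrrCharacter G χ) (h : p ∣ charDegree χ) : p ∈ degreePrimes G :=
  ⟨hp, charDegree χ, ⟨⟨χ, hχ⟩, rfl⟩, h⟩

theorem adj_of {G : Type*} [Group G] {p q : ℕ} (hp : p.Prime) (hq : q.Prime) (hne : p ≠ q)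
    {χ : G → ℂ} (hχ : IsIrrCharacter G χ) (h : p * q ∣ charDegree χ) :
    (degreeGraph G).Adj p q :=
  ⟨hne, hp, hq, charDegree χ, ⟨⟨χ, hχ⟩, rfl⟩, h⟩

/-- two primes dividing the same degree are equal or adjacent: reachable in the induced graph -/
theorem reach_of {G : Type*} [Group G] {p q : ℕ} (hp : p.Prime) (hq : q.Prime)
    {χ : G → ℂ} (hχ : IsIrrCharacter G χ) (h1 : p ∣ charDegree χ) (h2 : q ∣ charDegree χ) :
    ((degreeGraph G).induce (degreePrimes G)).Reachable
      ⟨p, mem_degreePrimes_of hp hχ h1⟩ ⟨q, mem_degreePrimes_of hq hχ h2⟩ := by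
  by_cases hne : p = q
  · subst hne
    exact SimpleGraph.Reachable.refl _
  · apply SimpleGraph.Adj.reachable
    rw [SimpleGraph.induce_adj]
    apply adj_of hp hq hne hχ
    exact Nat.Coprime.mul_dvd_of_dvd_of_dvd ((Nat.coprime_primes hp hq).mpr hne) h1 h2

/-- For every finite solvable group G the character degree graph of G (vertices: the primes dividing some irreducible complex character degree; edges: distinct primes whose product divides some degree) has at most two connected components. -/
theorem result {G : Type*} [Group G] [Finite G] [Group.IsSolvable G] : Nat.card ((Cfsg.degreeGraph G).induce (Cfsg.degreePrimes G)).ConnectedComponent ≤ 2 := by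
  classical
  letI : Fintype G := Fintype.ofFinite G
  set Γ := (Cfsg.degreeGraph G).induce (Cfsg.degreePrimes G) with hΓ
  by_cases hemp : IsEmpty (degreePrimes G)
  · haveI : IsEmpty Γ.ConnectedComponent := by
      constructor
      intro c
      induction c using SimpleGraph.ConnectedComponent.ind with
      | h v => exact hemp.false v
    simp
  rw [not_isEmpty_iff] at hemp
  obtain ⟨⟨v0, hv0p, d0, ⟨χ0, hd0⟩, hv0d⟩⟩ := hemp
  have hχ0nl : charDegree (χ0 : G → ℂ) ≠ 1 := by
    intro h
    rw [hd0] at h
    rw [h] at hv0d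
    exact hv0p.one_lt.ne' (Nat.dvd_one.mp hv0d)
  have hnc : ¬ commutator G ≤ ⊥ := by
    intro hle
    obtain ⟨k, hk, hne⟩ := rel_commutator χ0.2 hχ0nl
    have : k = 1 := by
      have := hle hk
      rwa [Subgroup.mem_bot] at this
    rw [this] at hne
    exact hne rfl
  rcases manz_key (G := G) hnc with ⟨u, hu, β, hβ, huβ, hall⟩ | ⟨f, s, hf1, hs, ⟨β, hβ, hβf⟩, hall⟩
  · -- everything is reachable from `u`
    let a : degreePrimes G := ⟨u, mem_degreePrimes_of hu hβ huβ⟩
    apply card_cc_le_two Γ a a
    rintro ⟨v, hvp, d, ⟨χ, hd⟩, hvd⟩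
    left
    rw [← hd] at hvd
    by_cases huχ : u ∣ charDegree (χ : G → ℂ)
    · exact reach_of hu hvp χ.2 huχ hvd
    · obtain ⟨ξ, hξ, hξd⟩ := hall χ χ.2 huχ
      have h1 : u ∣ charDegree ξ := by
        rw [hξd]
        exact Dvd.dvd.mul_right huβ _
      have h2 : v ∣ charDegree ξ := by
        rw [hξd]
        exact Dvd.dvd.mul_left hvd _
      exact reach_of hu hvp hξ h1 h2
  · -- reachable from a prime factor of `f` or from `s`
    have hw0 : (Nat.minFac f).Prime := Nat.minFac_prime (by omega)
    have hw0f : Nat.minFac f ∣ charDegree β := by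
      rw [hβf]
      exact Nat.minFac_dvd f
    let a : degreePrimes G := ⟨Nat.minFac f, mem_degreePrimes_of hw0 hβ hw0f⟩
    -- a vertex dividing `f`-related stuff
    have key : ∀ v : degreePrimes G, Γ.Reachable a v ∨
        ∃ hs' : s ∈ degreePrimes G, Γ.Reachable ⟨s, hs'⟩ v := by
      rintro ⟨v, hvp, d, ⟨χ, hd⟩, hvd⟩
      rw [← hd] at hvd
      by_cases hcop : (charDegree (χ : G → ℂ)).Coprime f
      · rcases hall χ χ.2 hcop with ⟨ξ, hξ, hξd⟩ | hsχ
        · left
          have h1 : Nat.minFac f ∣ charDegree ξ := by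
            rw [hξd]
            exact Dvd.dvd.mul_right (Nat.minFac_dvd f) _
          have h2 : v ∣ charDegree ξ := by
            rw [hξd]
            exact Dvd.dvd.mul_left hvd _
          exact reach_of hw0 hvp hξ h1 h2
        · right
          exact ⟨mem_degreePrimes_of hs χ.2 hsχ, reach_of hs hvp χ.2 hsχ hvd⟩
      · left
        obtain ⟨w, hw, hwdvd⟩ := Nat.Prime.not_coprime_iff_dvd.mp hcop
        have h1 : Γ.Reachable a ⟨w, mem_degreePrimes_of hw χ.2 hwdvd.1⟩ := by
          have hwβ : w ∣ charDegree β := by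
            rw [hβf]
            exact hwdvd.2
          exact reach_of hw0 hw hβ hw0f hwβ
        exact h1.trans (reach_of hw hvp χ.2 hwdvd.1 hvd)
    by_cases hs' : s ∈ degreePrimes G
    · apply card_cc_le_two Γ a ⟨s, hs'⟩
      intro v
      rcases key v with h | ⟨_, h⟩
      · exact Or.inl h
      · exact Or.inr h
    · apply card_cc_le_two Γ a a
      intro v
      rcases key v with h | ⟨hs'', _⟩
      · exact Or.inl h
      · exact absurd hs'' hs'

end Cfsg.Agent.S4811
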