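import Mathlib
import Cfsg.Statements.S4812
import Cfsg.Agent.Lib.Helper12.PSL2DegGraph

set_option autoImplicit false
open Cfsg

namespace Cfsg.Agent.S4812

open Cfsg.Agent.Helper12 Cfsg.Agent.Helper12.PSL2Deg

/-- Let F be a finite field of characteristic 2 with q ≥ 4 elements and let S be isomorphic to PSL(2,F) or to SL(2,F). Then the vertices of the character degree graph of S are the primes dividing q(q²−1), and two distinct primes are adjacent exactly when both divide q + 1 or both divide q − 1; so the graph has the three connected components {2}, the primes dividing q + 1 and the primes dividing q − 1, each complete. -/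
theorem result (F : Type*) [Field F] [Fintype F] [CharP F 2] (q : ℕ) (hq : Fintype.card F = q) (h4 : 4 ≤ q) {S : Type*} [Group S] [Finite S] (hS : Nonempty (S ≃* Matrix.ProjectiveSpecialLinearGroup (Fin 2) F) ∨ Nonempty (S ≃* Matrix.SpecialLinearGroup (Fin 2) F)) : Cfsg.degreePrimes S = {r : ℕ | r.Prime ∧ r ∣ q * (q ^ 2 - 1)} ∧ ∀ r s : ℕ, (Cfsg.degreeGraph S).Adj r s ↔ (r ≠ s ∧ r.Prime ∧ s.Prime ∧ ((r ∣ q + 1 ∧ s ∣ q + 1) ∨ (r ∣ q - 1 ∧ s ∣ q - 1))) := by
  classical
  subst hq
  haveI : Fact (Nat.Prime 2) := ⟨Nat.prime_two⟩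
  obtain ⟨n, -, hn⟩ := FiniteField.card F 2
  have heven : 2 ∣ Fintype.card F := by
    rw [hn]
    exact dvd_pow_self 2 n.ne_zero
  have hpow : ∀ r : ℕ, r.Prime → r ∣ Fintype.card F → r = 2 := by
    intro r hr hdiv
    rw [hn] at hdiv
    exact (Nat.prime_dvd_prime_iff_eq hr Nat.prime_two).mp (hr.dvd_of_dvd_pow hdiv)
  have h2F : (2 : F) = 0 := by
    have := CharP.cast_eq_zero F 2
    exact_mod_cast this
  have hD0 := hasDeg_q (F := F)
  have hD1 : HasDeg F (Fintype.card F + 1) := by
    apply hasDeg_q_add_one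
    obtain ⟨a, ha0, ha1⟩ : ∃ a : F, a ≠ 0 ∧ a ≠ 1 := by
      by_contra hcon
      push Not at hcon
      have hsub : (Finset.univ : Finset F) ⊆ {0, 1} := by
        intro a _
        rw [Finset.mem_insert, Finset.mem_singleton]
        by_cases h0 : a = 0
        · exact Or.inl h0
        · exact Or.inr (hcon a h0)
      have h1 := Finset.card_le_card hsub
      have h2 : ({0, 1} : Finset F).card ≤ 2 := Finset.card_le_two
      rw [Finset.card_univ] at h1
      omega
    refine ⟨a, ha0, ?_⟩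
    intro h
    apply ha1
    have h3 : (a - 1) ^ 4 = 0 := by
      linear_combination h + (1 - 2 * a ^ 3 + 3 * a ^ 2 - 2 * a) * h2F
    exact sub_eq_zero.mp (pow_eq_zero_iff (by norm_num) |>.mp h3)
  have hD2 : HasDeg F (Fintype.card F - 1) :=
    hasDeg_q_sub_one_even ((even_iff_two_dvd).mpr heven) (by omega)
  have main : ∀ (hshape : ∀ d ∈ charDegrees S, DegShape (Fintype.card F) d)
      (h0 : Fintype.card F ∈ charDegrees S) (h1 : Fintype.card F + 1 ∈ charDegrees S)
      (h2 : Fintype.card F - 1 ∈ charDegrees S),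
      Cfsg.degreePrimes S = {r : ℕ | r.Prime ∧ r ∣ Fintype.card F * (Fintype.card F ^ 2 - 1)} ∧
      ∀ r s : ℕ, (Cfsg.degreeGraph S).Adj r s ↔ (r ≠ s ∧ r.Prime ∧ s.Prime ∧
        ((r ∣ Fintype.card F + 1 ∧ s ∣ Fintype.card F + 1) ∨
          (r ∣ Fintype.card F - 1 ∧ s ∣ Fintype.card F - 1))) := by
    intro hshape h0 h1 h2
    exact ⟨degreePrimes_eq _ (by omega) hshape h0 h1 h2,
      adj_even _ (by omega) heven hpow hshape h1 h2⟩
  rcases hS with ⟨⟨e⟩⟩ | ⟨⟨e⟩⟩
  · have hcd := charDegrees_congr e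
    apply main
    · intro d hd
      rw [hcd] at hd
      exact degShape_PSL2 hd
    · rw [hcd]; exact mem_charDegrees_PSL2 hD0
    · rw [hcd]; exact mem_charDegrees_PSL2 hD1
    · rw [hcd]; exact mem_charDegrees_PSL2 hD2
  · have hcd := charDegrees_congr e
    apply main
    · intro d hd
      rw [hcd] at hd
      exact degShape_SL2 hd
    · rw [hcd]; exact mem_charDegrees_SL2 hD0
    · rw [hcd]; exact mem_charDegrees_SL2 hD1
    · rw [hcd]; exact mem_charDegrees_SL2 hD2

end Cfsg.Agent.S4812
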