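import Cfsg.Statements.S4813
import Cfsg.Agent.S4466
import Cfsg.Agent.S4811

set_option autoImplicit false
set_option linter.style.haveILetI false
open Cfsg

namespace Cfsg.Agent.S4813

/-- If every irreducible complex character of the finite group G of degree greater than one has prime degree, then G has at most three distinct irreducible character degrees. -/
theorem result {G : Type*} [Group G] [Finite G] (hprime : ∀ d ∈ Cfsg.charDegrees G, d = 1 ∨ d.Prime) : Nat.card ↥(Cfsg.charDegrees G) ≤ 3 := by
  classical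
  haveI : Fintype G := Fintype.ofFinite G
  haveI : Group.IsSolvable G :=
    Cfsg.Agent.S4466.result (fun χ h1 => (hprime _ ⟨χ, rfl⟩).resolve_left h1)
  have h2 := Cfsg.Agent.S4811.result (G := G)
  -- no edges
  have hnoadj : ∀ a b : ℕ, ¬ (Cfsg.degreeGraph G).Adj a b := by
    rintro a b ⟨-, ha, hb, d, hd, hdvd⟩
    have ha2 := ha.two_le
    have hb2 := hb.two_le
    rcases hprime d hd with h1 | hp
    · rw [h1] at hdvd
      have := Nat.dvd_one.mp hdvd
      nlinarith
    · rcases (Nat.dvd_prime hp).mp hdvd with h | h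
      · nlinarith
      · rw [← h] at hp
        exact Nat.not_prime_mul (by omega) (by omega) hp
  have hreach : ∀ a b : ↥(Cfsg.degreePrimes G),
      ((Cfsg.degreeGraph G).induce (Cfsg.degreePrimes G)).Reachable a b → a = b := by
    rintro a b ⟨w⟩
    cases w with
    | nil => rfl
    | cons h _ => exact absurd h (hnoadj _ _)
  -- finiteness
  have hfinP : (Cfsg.degreePrimes G).Finite := by
    apply Set.Finite.subset (Set.finite_le_nat (Nat.card G))
    rintro q ⟨hq, d, ⟨χ, rfl⟩, hqd⟩
    have h3 : Cfsg.charDegree (χ : G → ℂ) ∣ Nat.card G :=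
      Cfsg.Agent.Helper24.charDegree_dvd_card χ.2
    exact Nat.le_of_dvd Nat.card_pos (hqd.trans h3)
  haveI : Finite ↥(Cfsg.degreePrimes G) := hfinP
  have hinj : Function.Injective
      ((Cfsg.degreeGraph G).induce (Cfsg.degreePrimes G)).connectedComponentMk :=
    fun a b h => hreach a b (SimpleGraph.ConnectedComponent.exact h)
  have hcardP : Nat.card ↥(Cfsg.degreePrimes G) ≤ 2 :=
    (Nat.card_le_card_of_injective _ hinj).trans h2
  have hsub : Cfsg.charDegrees G ⊆ insert 1 (Cfsg.degreePrimes G) := by
    intro d hd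
    rcases hprime d hd with h1 | hp
    · left; exact h1
    · right; exact ⟨hp, d, hd, dvd_rfl⟩
  rw [Nat.card_coe_set_eq] at hcardP ⊢
  calc (Cfsg.charDegrees G).ncard ≤ (insert 1 (Cfsg.degreePrimes G)).ncard :=
        Set.ncard_le_ncard hsub (hfinP.insert 1)
    _ ≤ (Cfsg.degreePrimes G).ncard + 1 := Set.ncard_insert_le _ _
    _ ≤ 3 := by omega

end Cfsg.Agent.S4813
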