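import Mathlib
import Cfsg.Statements.S4856
import Cfsg.Agent.Lib.Helper24.CharCentral

set_option autoImplicit false
open Cfsg
open Cfsg.Agent.Helper24

namespace Cfsg.Agent.S4856

open scoped ComplexConjugate

/-- The number of pairs with commutator `z`, as a complex-valued function of `z`. -/
noncomputable def commCount {G : Type*} [Group G] [Fintype G] : G → ℂ := by
  classical exact fun z => ∑ x : G, ∑ y : G, if x * y * x⁻¹ * y⁻¹ = z then (1 : ℂ) else 0

theorem commCount_isClassFunction {G : Type*} [Group G] [Fintype G] :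
    IsClassFunction G (commCount (G := G)) := by
  classical
  intro g k
  simp only [commCount]
  rw [← Equiv.sum_comp (MulAut.conj k).toEquiv]
  refine Finset.sum_congr rfl fun x _ => ?_
  rw [← Equiv.sum_comp (MulAut.conj k).toEquiv]
  refine Finset.sum_congr rfl fun y _ => ?_
  simp only [MulEquiv.toEquiv_eq_coe, MulEquiv.coe_toEquiv, MulAut.conj_apply]
  have : k * x * k⁻¹ * (k * y * k⁻¹) * (k * x * k⁻¹)⁻¹ * (k * y * k⁻¹)⁻¹ = k * g * k⁻¹ ↔
      x * y * x⁻¹ * y⁻¹ = g := by
    constructor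
    · intro e
      have : k * (x * y * x⁻¹ * y⁻¹) * k⁻¹ = k * g * k⁻¹ := by rw [← e]; group
      exact mul_left_cancel (mul_right_cancel this)
    · intro e
      rw [← e]; group
  simp only [this]

theorem sum_char_commutator {G : Type*} [Group G] [Fintype G] {χ : G → ℂ}
    (hχ : IsIrrCharacter G χ) :
    ∑ x : G, ∑ y : G, χ (x * y * x⁻¹ * y⁻¹) = (Nat.card G : ℂ) ^ 2 / χ 1 := by
  have hcard : (Nat.card G : ℂ) ≠ 0 := by exact_mod_cast (Nat.card_pos (α := G)).ne'
  have h1 : ∀ x : G, ∑ y : G, χ (x * y * x⁻¹ * y⁻¹) = (Nat.card G : ℂ) * χ x * χ x⁻¹ / χ 1 := by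
    intro x
    rw [← sum_char_mul_conj hχ x x⁻¹]
    refine Finset.sum_congr rfl fun y _ => ?_
    congr 1
    group
  simp only [h1]
  have h2 := irr_orthogonality hχ hχ
  rw [if_pos rfl, classInner] at h2
  have h3 : ∑ g : G, χ g * conj (χ g) = Nat.card G := by
    field_simp at h2
    exact h2
  have h4 : ∀ x : G, χ x⁻¹ = conj (χ x) := by
    obtain ⟨n, ρ, -, rfl⟩ := hχ
    intro x
    exact char_inv ρ x
  simp only [h4]
  rw [← Finset.sum_div]
  have : ∑ x : G, (Nat.card G : ℂ) * χ x * conj (χ x) = (Nat.card G : ℂ) * ∑ x : G, χ x * conj (χ x) := by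
    rw [Finset.mul_sum]
    refine Finset.sum_congr rfl fun x _ => ?_
    ring
  rw [this, h3]
  ring

theorem classInner_commCount {G : Type*} [Group G] [Fintype G] {χ : G → ℂ}
    (hχ : IsIrrCharacter G χ) :
    classInner (commCount (G := G)) χ = (Nat.card G : ℂ) / χ 1 := by
  classical
  have hcard : (Nat.card G : ℂ) ≠ 0 := by exact_mod_cast (Nat.card_pos (α := G)).ne'
  have h1 : ∑ z : G, commCount z * conj (χ z) = ∑ x : G, ∑ y : G, conj (χ (x * y * x⁻¹ * y⁻¹)) := by
    simp only [commCount, Finset.sum_mul]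
    rw [Finset.sum_comm]
    refine Finset.sum_congr rfl fun x _ => ?_
    rw [Finset.sum_comm]
    refine Finset.sum_congr rfl fun y _ => ?_
    rw [Finset.sum_eq_single (x * y * x⁻¹ * y⁻¹)]
    · simp
    · intro b _ hb
      rw [if_neg (Ne.symm hb), zero_mul]
    · intro hh
      exact absurd (Finset.mem_univ _) hh
  rw [classInner, h1]
  have h2 : ∑ x : G, ∑ y : G, conj (χ (x * y * x⁻¹ * y⁻¹)) =
      conj (∑ x : G, ∑ y : G, χ (x * y * x⁻¹ * y⁻¹)) := by
    simp only [map_sum]
  rw [h2, sum_char_commutator hχ]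
  obtain ⟨n, -, hn⟩ := irr_one_eq hχ
  rw [hn]
  simp only [map_div₀, map_pow, map_natCast]
  field_simp

/-- For an element z of a finite group G, the number of pairs (x, y) of elements with x y x⁻¹ y⁻¹ = z equals the order of G times the sum over the irreducible characters χ of χ(z)/χ(1). -/
theorem result {G : Type*} [Group G] [Finite G] (z : G) : (Nat.card {xy : G × G // xy.1 * xy.2 * xy.1⁻¹ * xy.2⁻¹ = z} : ℂ) = (Nat.card G : ℂ) * ∑ᶠ χ : Cfsg.IrrCharacter G, (χ : G → ℂ) z / (χ : G → ℂ) 1 := by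
  classical
  haveI : Fintype G := Fintype.ofFinite G
  letI : Fintype (IrrCharacter G) := irrFintype
  have h1 := classFunction_expansion (commCount_isClassFunction (G := G))
  have h2 := congrFun h1 z
  simp only [Finset.sum_apply, Pi.smul_apply, smul_eq_mul] at h2
  have h3 : commCount z = (Nat.card {xy : G × G // xy.1 * xy.2 * xy.1⁻¹ * xy.2⁻¹ = z} : ℂ) := by
    simp only [commCount]
    rw [← Finset.sum_product', Finset.sum_boole, Nat.card_eq_fintype_card, Fintype.card_subtype]
    rfl
  rw [← h3, h2, finsum_eq_sum_of_fintype, Finset.mul_sum]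
  refine Finset.sum_congr rfl fun χ _ => ?_
  rw [classInner_commCount χ.2]
  ring

end Cfsg.Agent.S4856
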