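import Mathlib
import Cfsg.Statements.S4814
import Cfsg.Agent.Lib.Helper24.CharLinear
import Cfsg.Agent.S4856

set_option autoImplicit false
open Cfsg
open Cfsg.Agent.Helper24

namespace Cfsg.Agent.S4814

open scoped ComplexConjugate
open Cfsg.Agent.S4856 (commCount commCount_isClassFunction classInner_commCount)

/-- Expansion of the commutator count in irreducible characters. -/
theorem commCount_eq {G : Type*} [Group G] [Fintype G] [Fintype (IrrCharacter G)] (z : G) :
    commCount z = ∑ χ : IrrCharacter G, (Nat.card G : ℂ) / (χ : G → ℂ) 1 * (χ : G → ℂ) z := by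
  have h1 := classFunction_expansion (commCount_isClassFunction (G := G))
  have h2 := congrFun h1 z
  simp only [Finset.sum_apply, Pi.smul_apply, smul_eq_mul] at h2
  rw [h2]
  refine Finset.sum_congr rfl fun χ _ => ?_
  rw [classInner_commCount χ.2]

/-- The convolution square of the commutator count. -/
theorem conv_commCount {G : Type*} [Group G] [Fintype G] [Fintype (IrrCharacter G)] (g : G) :
    ∑ z : G, commCount z * commCount (z⁻¹ * g) =
      (Nat.card G : ℂ) ^ 3 * ∑ χ : IrrCharacter G, (χ : G → ℂ) g / ((χ : G → ℂ) 1) ^ 3 := by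
  classical
  simp only [commCount_eq, Finset.sum_mul, Finset.mul_sum]
  rw [Finset.sum_comm]
  refine Finset.sum_congr rfl fun χ _ => ?_
  rw [Finset.sum_comm]
  -- now: ∑ ψ, ∑ z, a_ψ ψ(z⁻¹ g) a_χ χ(z)... identify with generalized orthogonality
  have key : ∀ ψ : IrrCharacter G,
      ∑ z : G, (Nat.card G : ℂ) / (ψ : G → ℂ) 1 * (ψ : G → ℂ) z *
          ((Nat.card G : ℂ) / (χ : G → ℂ) 1 * (χ : G → ℂ) (z⁻¹ * g)) =
        if ψ = χ then (Nat.card G : ℂ) ^ 3 * ((χ : G → ℂ) g / ((χ : G → ℂ) 1) ^ 3) else 0 := by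
    intro ψ
    have h := generalized_orthogonality χ.2 ψ.2 g
    have e : ∑ z : G, (Nat.card G : ℂ) / (ψ : G → ℂ) 1 * (ψ : G → ℂ) z *
          ((Nat.card G : ℂ) / (χ : G → ℂ) 1 * (χ : G → ℂ) (z⁻¹ * g)) =
        (Nat.card G : ℂ) / (ψ : G → ℂ) 1 * ((Nat.card G : ℂ) / (χ : G → ℂ) 1) *
          ∑ z : G, (ψ : G → ℂ) z * (χ : G → ℂ) (z⁻¹ * g) := by
      rw [Finset.mul_sum]
      refine Finset.sum_congr rfl fun z _ => ?_
      ring
    rw [e, h]
    by_cases hχψ : ψ = χ
    · subst hχψ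
      rw [if_pos rfl, if_pos rfl]
      obtain ⟨n, hn, h1⟩ := irr_one_eq ψ.2
      rw [h1]
      have : (n : ℂ) ≠ 0 := by exact_mod_cast hn.ne'
      field_simp
    · rw [if_neg hχψ, if_neg (fun h' => hχψ (Subtype.ext h')), mul_zero]
  simp only [key]
  rw [Finset.sum_ite_eq', if_pos (Finset.mem_univ _)]

/-- Let G be a finite group such that the sum, over the irreducible complex characters χ of G, of 1/χ(1)² is less than 2. Then every element of G is a product of two commutators. -/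
theorem result {G : Type*} [Group G] [Finite G]
    (h : ∑ᶠ χ : Cfsg.IrrCharacter G, 1 / ‖(χ : G → ℂ) 1‖ ^ 2 < (2 : ℝ)) (g : G) :
    ∃ a b c d : G, (a * b * a⁻¹ * b⁻¹) * (c * d * c⁻¹ * d⁻¹) = g := by
  classical
  haveI : Fintype G := Fintype.ofFinite G
  letI : Fintype (IrrCharacter G) := irrFintype
  have hcard : (Nat.card G : ℂ) ≠ 0 := by exact_mod_cast (Nat.card_pos (α := G)).ne'
  rw [finsum_eq_sum_of_fintype] at h
  -- it suffices that the convolution is non-zero
  suffices hne : ∑ z : G, commCount z * commCount (z⁻¹ * g) ≠ 0 by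
    obtain ⟨z, -, hz⟩ := Finset.exists_ne_zero_of_sum_ne_zero hne
    have hz1 : commCount z ≠ 0 := left_ne_zero_of_mul hz
    have hz2 : commCount (z⁻¹ * g) ≠ 0 := right_ne_zero_of_mul hz
    have ex : ∀ w : G, commCount w ≠ 0 → ∃ x y : G, x * y * x⁻¹ * y⁻¹ = w := by
      intro w hw
      simp only [commCount] at hw
      obtain ⟨x, -, hx⟩ := Finset.exists_ne_zero_of_sum_ne_zero hw
      obtain ⟨y, -, hy⟩ := Finset.exists_ne_zero_of_sum_ne_zero hx
      refine ⟨x, y, ?_⟩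
      by_contra hc
      exact hy (if_neg hc)
    obtain ⟨a, b, hab⟩ := ex z hz1
    obtain ⟨c, d, hcd⟩ := ex _ hz2
    exact ⟨a, b, c, d, by rw [hab, hcd]; group⟩
  rw [conv_commCount]
  refine mul_ne_zero (pow_ne_zero 3 hcard) ?_
  -- split off the principal character
  set χ₀ : IrrCharacter G := principalChar G with hχ₀
  have hsplit : ∑ χ : IrrCharacter G, (χ : G → ℂ) g / ((χ : G → ℂ) 1) ^ 3 =
      1 + ∑ χ ∈ Finset.univ.erase χ₀, (χ : G → ℂ) g / ((χ : G → ℂ) 1) ^ 3 := by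
    rw [← Finset.add_sum_erase _ _ (Finset.mem_univ χ₀)]
    congr 1
    simp [hχ₀, principalChar]
  have hsplit2 : ∑ χ : IrrCharacter G, 1 / ‖(χ : G → ℂ) 1‖ ^ 2 =
      1 + ∑ χ ∈ Finset.univ.erase χ₀, 1 / ‖(χ : G → ℂ) 1‖ ^ 2 := by
    rw [← Finset.add_sum_erase _ _ (Finset.mem_univ χ₀)]
    congr 1
    simp [hχ₀, principalChar]
  rw [hsplit2] at h
  have hlt : ∑ χ ∈ Finset.univ.erase χ₀, 1 / ‖(χ : G → ℂ) 1‖ ^ 2 < 1 := by linarith
  have hbound : ‖∑ χ ∈ Finset.univ.erase χ₀, (χ : G → ℂ) g / ((χ : G → ℂ) 1) ^ 3‖ < 1 := by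
    refine lt_of_le_of_lt (norm_sum_le _ _) (lt_of_le_of_lt (Finset.sum_le_sum ?_) hlt)
    intro χ _
    obtain ⟨n, hn, h1⟩ := irr_one_eq χ.2
    have hdeg : charDegree (χ : G → ℂ) = n := charDegree_natCast n h1
    have hle := norm_le_charDegree (isCharacter_of_isIrrCharacter χ.2) g
    rw [hdeg] at hle
    rw [h1, norm_div, norm_pow, Complex.norm_natCast]
    have hn' : (0 : ℝ) < n := by exact_mod_cast hn
    rw [div_le_div_iff₀ (by positivity) (by positivity)]
    calc ‖(χ : G → ℂ) g‖ * (n : ℝ) ^ 2 ≤ n * (n : ℝ) ^ 2 := by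
          apply mul_le_mul_of_nonneg_right hle (by positivity)
      _ = 1 * (n : ℝ) ^ 3 := by ring
  rw [hsplit]
  intro h0
  have : ∑ χ ∈ Finset.univ.erase χ₀, (χ : G → ℂ) g / ((χ : G → ℂ) 1) ^ 3 = -1 := by
    linear_combination h0
  rw [this] at hbound
  simp at hbound

end Cfsg.Agent.S4814
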