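import Mathlib
import Cfsg.Statements.S4825
import Cfsg.Agent.Lib.Helper24.RelBlockOrtho

set_option autoImplicit false
set_option linter.style.haveILetI false
open Cfsg

namespace Cfsg.Agent.S4825

open Cfsg.Agent.Helper24 Cfsg.Agent.Helper24.RelOrtho Cfsg.Agent.Helper23.Blk
open scoped ComplexConjugate

/-- Squares of units mod 2 or 3 are 1. -/
theorem sq_mod_of_not_dvd {p : ℕ} (hp3 : p = 2 ∨ p = 3) {e : ℕ} (he : ¬ p ∣ e) :
    ((e : ZMod p)) ^ 2 = 1 := by
  have h0 : (e : ZMod p) ≠ 0 := by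
    intro h
    exact he ((ZMod.natCast_eq_zero_iff e p).mp h)
  rcases hp3 with rfl | rfl
  · have : ∀ x : ZMod 2, x ≠ 0 → x ^ 2 = 1 := by decide
    exact this _ h0
  · have : ∀ x : ZMod 3, x ≠ 0 → x ^ 2 = 1 := by decide
    exact this _ h0

/-- B a p-block of maximal defect, N ⊴ G with P ≰ N, θ ∈ Irr(N): k₀(B∣θ) is 0 or ≥ 2, and is divisible by p when p ≤ 3. -/
theorem result {G : Type*} [Group G] [Fintype G] (p : ℕ) [Fact p.Prime] (P : Sylow p G) (M : Ideal Cfsg.AlgInt) (hM : Cfsg.IsPModular p M) (B : Set (Cfsg.IrrCharacter G)) (hB : Cfsg.IsPBlock M B) (hBP : Cfsg.IsDefectGroup p M B P) (N : Subgroup G) [N.Normal] [Fintype N] (hPN : ¬ (P : Subgroup G) ≤ N) (θ : Cfsg.IrrCharacter N) :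
    (Nat.card {χ : Cfsg.IrrCharacter G // χ ∈ B ∧ ¬ p ∣ Cfsg.charDegree (χ : G → ℂ) ∧ Cfsg.classInner (fun n : N => (χ : G → ℂ) n) (θ : N → ℂ) ≠ 0} = 0 ∨
      2 ≤ Nat.card {χ : Cfsg.IrrCharacter G // χ ∈ B ∧ ¬ p ∣ Cfsg.charDegree (χ : G → ℂ) ∧ Cfsg.classInner (fun n : N => (χ : G → ℂ) n) (θ : N → ℂ) ≠ 0}) ∧
    (p ≤ 3 → p ∣ Nat.card {χ : Cfsg.IrrCharacter G // χ ∈ B ∧ ¬ p ∣ Cfsg.charDegree (χ : G → ℂ) ∧ Cfsg.classInner (fun n : N => (χ : G → ℂ) n) (θ : N → ℂ) ≠ 0}) := by
  classical
  letI : Fintype (IrrCharacter G) := irrFintype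
  have hp : p.Prime := Fact.out
  haveI hMp : M.IsPrime := hM.2.1.isPrime
  -- the p-element x outside N
  obtain ⟨x, hxP, hxN⟩ := SetLike.not_le_iff_exists.mp hPN
  obtain ⟨k, hk⟩ := P.2 ⟨x, hxP⟩
  have hxk : x ^ p ^ k = 1 := by
    have := congrArg Subtype.val hk
    simpa using this
  have hx' : ∀ h ∈ N, p ∣ orderOf (h⁻¹ * x) := by
    intro h hh
    have heq : ((h⁻¹ * x : G) : G ⧸ N) = (x : G ⧸ N) := by
      rw [QuotientGroup.eq]
      have : (h⁻¹ * x)⁻¹ * x = x⁻¹ * h * x := by group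
      rw [this]
      have := (inferInstance : N.Normal).conj_mem h hh x⁻¹
      simpa using this
    have hne : (x : G ⧸ N) ≠ 1 := fun h1 => hxN ((QuotientGroup.eq_one_iff x).mp h1)
    have hord : orderOf (x : G ⧸ N) ∣ p ^ k := by
      apply orderOf_dvd_of_pow_eq_one
      rw [← QuotientGroup.mk_pow, hxk, QuotientGroup.mk_one]
    obtain ⟨i, -, hi⟩ := (Nat.dvd_prime_pow hp).mp hord
    have hi0 : i ≠ 0 := by
      intro h0
      rw [h0, pow_zero, orderOf_eq_one_iff] at hi
      exact hne hi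
    have h3 : orderOf ((h⁻¹ * x : G) : G ⧸ N) ∣ orderOf (h⁻¹ * x) := by
      apply orderOf_dvd_of_pow_eq_one
      rw [← QuotientGroup.mk_pow, pow_orderOf_eq_one, QuotientGroup.mk_one]
    rw [heq, hi] at h3
    exact dvd_trans (dvd_pow_self p hi0) h3
  have hkey := rel_block_orthogonality hM hB N θ.2 x hx'
  -- multiplicities
  have hind : IsCharacter G (indFun N (θ : N → ℂ)) :=
    isCharacter_indFun N (isCharacter_of_isIrrCharacter θ.2)
  have he : ∀ χ : IrrCharacter G, ∃ e : ℕ, classInner (indFun N (θ : N → ℂ)) (χ : G → ℂ) = e :=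
    fun χ => classInner_char_nat hind (isCharacter_of_isIrrCharacter χ.2)
  choose e he using he
  have he' : ∀ χ : IrrCharacter G,
      classInner (fun n : N => (χ : G → ℂ) n) (θ : N → ℂ) = e χ := by
    intro χ
    have h1 := frobenius_reciprocity N (θ : N → ℂ) (isClassFunction_of_isIrrCharacter χ.2)
    rw [he χ] at h1
    rw [← classInner_conj_symm, ← h1, Complex.conj_natCast]
  -- the congruence
  have hT : p ∣ ∑ χ : IrrCharacter G, (if χ ∈ B then e χ * charDegree (χ : G → ℂ) else 0) := by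
    rw [← memLocalIdeal_natCast_iff hM]
    have h1 : ((∑ χ : IrrCharacter G,
        (if χ ∈ B then e χ * charDegree (χ : G → ℂ) else 0) : ℕ) : ℂ) =
        ∑ χ : IrrCharacter G, (if χ ∈ B then
          (e χ : ℂ) * ((χ : G → ℂ) 1 - (χ : G → ℂ) x) else 0) := by
      have h2 : ∑ χ : IrrCharacter G, (if χ ∈ B then
          (e χ : ℂ) * ((χ : G → ℂ) 1 - (χ : G → ℂ) x) else 0) =
          ∑ χ : IrrCharacter G, (if χ ∈ B then (e χ : ℂ) * (χ : G → ℂ) 1 else 0) -
          ∑ χ : IrrCharacter G, (if χ ∈ B then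
            classInner (indFun N (θ : N → ℂ)) (χ : G → ℂ) * (χ : G → ℂ) x else 0) := by
        rw [← Finset.sum_sub_distrib]
        apply Finset.sum_congr rfl
        intro χ _
        split_ifs
        · rw [he χ]; ring
        · ring
      rw [h2, hkey, sub_zero]
      push_cast
      apply Finset.sum_congr rfl
      intro χ _
      split_ifs
      · rw [irr_one_eq_charDegree χ.2]
      · rfl
    rw [h1]
    apply memLocalIdeal_sum
    intro χ _
    split_ifs
    · apply memLocalIdeal_mul_left (memLocalRing_natCast _)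
      have h3 := memLocalIdeal_char_mul_sub hM (isCharacter_of_isIrrCharacter χ.2)
        (Commute.one_right x) hxk
      rw [mul_one] at h3
      have h4 := memLocalIdeal_neg h3
      rw [neg_sub] at h4
      exact h4
    · exact memLocalIdeal_zero (Ideal.IsPrime.ne_top hMp)
  -- degrees
  set c := (orbitFinset N (θ : N → ℂ)).card * charDegree (θ : N → ℂ) with hc
  have hdeg : ∀ χ : IrrCharacter G, e χ ≠ 0 → charDegree (χ : G → ℂ) = c * e χ := by
    intro χ h0
    have h1 := clifford_degree N χ.2 θ.2 (e χ) (he' χ) h0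
    rw [irr_one_eq_charDegree χ.2, irr_one_eq_charDegree θ.2] at h1
    have h2 : charDegree (χ : G → ℂ) =
        (orbitFinset N (θ : N → ℂ)).card * e χ * charDegree (θ : N → ℂ) := by
      exact_mod_cast h1
    rw [h2, hc]
    ring
  have hT' : p ∣ c * ∑ χ : IrrCharacter G, (if χ ∈ B then e χ ^ 2 else 0) := by
    have : ∑ χ : IrrCharacter G, (if χ ∈ B then e χ * charDegree (χ : G → ℂ) else 0) =
        c * ∑ χ : IrrCharacter G, (if χ ∈ B then e χ ^ 2 else 0) := by
      rw [Finset.mul_sum]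
      apply Finset.sum_congr rfl
      intro χ _
      split_ifs
      · by_cases h0 : e χ = 0
        · rw [h0]; simp
        · rw [hdeg χ h0]; ring
      · simp
    rw [← this]
    exact hT
  -- the counted set
  set S := Finset.univ.filter (fun χ : IrrCharacter G =>
    χ ∈ B ∧ ¬ p ∣ charDegree (χ : G → ℂ) ∧ e χ ≠ 0) with hS
  have hcard : Nat.card {χ : Cfsg.IrrCharacter G // χ ∈ B ∧ ¬ p ∣ Cfsg.charDegree (χ : G → ℂ) ∧
      Cfsg.classInner (fun n : N => (χ : G → ℂ) n) (θ : N → ℂ) ≠ 0} = S.card := by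
    rw [Nat.card_eq_fintype_card, Fintype.card_subtype]
    congr 1
    ext χ
    simp only [hS, Finset.mem_filter, Finset.mem_univ, true_and]
    rw [he' χ]
    simp only [ne_eq, Nat.cast_eq_zero]
  rw [hcard]
  by_cases hpc : p ∣ c
  · have hS0 : S = ∅ := by
      apply Finset.eq_empty_of_forall_notMem
      intro χ hχ
      obtain ⟨-, hnd, h0⟩ := (Finset.mem_filter.mp hχ).2
      apply hnd
      rw [hdeg χ h0]
      exact dvd_mul_of_dvd_left hpc _
    rw [hS0, Finset.card_empty]
    exact ⟨Or.inl rfl, fun _ => dvd_zero p⟩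
  · have hQ : p ∣ ∑ χ : IrrCharacter G, (if χ ∈ B then e χ ^ 2 else 0) :=
      (hp.dvd_mul.mp hT').resolve_left hpc
    have hSe : ∀ χ ∈ S, ¬ p ∣ e χ := by
      intro χ hχ hdvd
      obtain ⟨-, hnd, h0⟩ := (Finset.mem_filter.mp hχ).2
      apply hnd
      rw [hdeg χ h0]
      exact dvd_mul_of_dvd_right hdvd _
    have hQS : p ∣ ∑ χ ∈ S, e χ ^ 2 := by
      have hsplit : ∑ χ : IrrCharacter G, (if χ ∈ B then e χ ^ 2 else 0) =
          ∑ χ ∈ S, e χ ^ 2 + ∑ χ ∈ Finset.univ.filter (fun χ => χ ∉ S),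
            (if χ ∈ B then e χ ^ 2 else 0) := by
        rw [← Finset.sum_filter_add_sum_filter_not Finset.univ (fun χ => χ ∈ S)]
        congr 1
        rw [Finset.filter_mem_eq_inter, Finset.univ_inter]
        apply Finset.sum_congr rfl
        intro χ hχ
        rw [if_pos (Finset.mem_filter.mp hχ).2.1]
      rw [hsplit] at hQ
      have hrest : p ∣ ∑ χ ∈ Finset.univ.filter (fun χ => χ ∉ S),
          (if χ ∈ B then e χ ^ 2 else 0) := by
        apply Finset.dvd_sum
        intro χ hχ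
        have hχS : χ ∉ S := (Finset.mem_filter.mp hχ).2
        split_ifs with hχB
        · by_cases h0 : e χ = 0
          · rw [h0]; simp
          · have hpd : p ∣ charDegree (χ : G → ℂ) := by
              by_contra hnd
              apply hχS
              rw [hS, Finset.mem_filter]
              exact ⟨Finset.mem_univ _, hχB, hnd, h0⟩
            rw [hdeg χ h0] at hpd
            have hpe : p ∣ e χ := (hp.dvd_mul.mp hpd).resolve_left hpc
            exact dvd_pow hpe two_ne_zero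
        · exact dvd_zero p
      exact (Nat.dvd_add_left hrest).mp hQ
    constructor
    · by_contra hcon
      push Not at hcon
      have h1 : S.card = 1 := by omega
      obtain ⟨χ, hχ⟩ := Finset.card_eq_one.mp h1
      rw [hχ, Finset.sum_singleton] at hQS
      have hχS : χ ∈ S := by rw [hχ]; exact Finset.mem_singleton_self χ
      exact hSe χ hχS (hp.dvd_of_dvd_pow hQS)
    · intro hp3
      have hp23 : p = 2 ∨ p = 3 := by
        have := hp.two_le
        rcases Nat.lt_or_ge p 3 with h | h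
        · left; omega
        · right; omega
      rw [← ZMod.natCast_eq_zero_iff] at hQS ⊢
      push_cast at hQS
      rw [Finset.sum_congr rfl (fun χ hχ => sq_mod_of_not_dvd hp23 (hSe χ hχ))] at hQS
      simpa using hQS

end Cfsg.Agent.S4825
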