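import Mathlib
import Cfsg.Statements.S4828
import Cfsg.Agent.Lib.Helper18.MaxPair

set_option autoImplicit false
open Cfsg

namespace Cfsg.Agent.S4828

/-- Let p be a prime, M a maximal ideal of the algebraic integers containing p, and (Q, e) a Brauer pair of the finite group G (Q a p-subgroup, e a block of C_G(Q)). Then (Q, e) is a maximal Brauer pair of some block of G if and only if e contains an irreducible character θ such that θ takes the value θ(1) at every element of Z(Q) = Q ∩ C_G(Q), the p-part of θ(1) times the p-part of the order of Z(Q) equals the p-part of the order of C_G(Q) (θ has defect zero as a character of C_G(Q)/Z(Q)), and every element of N_G(Q) of p-power order that stabilizes e lies in Q·C_G(Q) (the stabilizer of e in N_G(Q) has index prime to p over Q·C_G(Q)). -/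
theorem result {G : Type*} [Group G] [Finite G] (p : ℕ) [Fact p.Prime] (M : Ideal Cfsg.AlgInt) (hM : Cfsg.IsPModular p M) (Q : Subgroup G) (e : Set (Cfsg.IrrCharacter (Subgroup.centralizer (Q : Set G)))) (he : Cfsg.IsBrauerPair p M Q e) :
    (∃ B : Set (Cfsg.IrrCharacter G), Cfsg.IsMaximalBrauerPair p M B Q e) ↔
      ∃ θ ∈ e, (∀ z : Subgroup.centralizer (Q : Set G), (z : G) ∈ Q → (θ : Subgroup.centralizer (Q : Set G) → ℂ) z = (θ : Subgroup.centralizer (Q : Set G) → ℂ) 1) ∧
        (Cfsg.charDegree (θ : Subgroup.centralizer (Q : Set G) → ℂ)).factorization p + (Nat.card ↥(Q ⊓ Subgroup.centralizer (Q : Set G))).factorization p = (Nat.card (Subgroup.centralizer (Q : Set G))).factorization p ∧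
        (∀ g : G, g ∈ Subgroup.normalizer (Q : Set G) → Cfsg.StabilizesBlock (Subgroup.centralizer (Q : Set G)) e g → (∃ k : ℕ, orderOf g = p ^ k) → g ∈ Q ⊔ Subgroup.centralizer (Q : Set G)) := by
  classical
  haveI : Fintype G := Fintype.ofFinite G
  haveI : Fintype (Subgroup.centralizer (Q : Set G)) := Fintype.ofFinite _
  have hp : p.Prime := hM.1
  obtain ⟨hQ, heB⟩ := id he
  have hZp : IsPGroup p (Q.subgroupOf (Subgroup.centralizer (Q : Set G))) := hQ.comap_subtype
  have hcardZ : Nat.card (Q.subgroupOf (Subgroup.centralizer (Q : Set G))) =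
      Nat.card ↥(Q ⊓ Subgroup.centralizer (Q : Set G)) := by
    rw [← Subgroup.inf_subgroupOf_right]
    exact Nat.card_congr (Subgroup.subgroupOfEquivOfLe inf_le_right).toEquiv
  have hidx := Subgroup.card_mul_index (Q.subgroupOf (Subgroup.centralizer (Q : Set G)))
  have hfac : (Nat.card (Subgroup.centralizer (Q : Set G))).factorization p =
      (Nat.card ↥(Q ⊓ Subgroup.centralizer (Q : Set G))).factorization p +
        (Q.subgroupOf (Subgroup.centralizer (Q : Set G))).index.factorization p := by
    rw [← hidx, Nat.factorization_mul Nat.card_pos.ne' Subgroup.index_ne_zero_of_finite, hcardZ]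
    rfl
  constructor
  · rintro ⟨B, hmax⟩
    have hno : ∀ (R : Subgroup G) (g : Set (IrrCharacter (Subgroup.centralizer (R : Set G)))),
        IsNormalSubpair p M Q e R g → R = Q :=
      fun R g hsub => Cfsg.Agent.Helper18.MaxPair.eq_of_isMaximalBrauerPair hM hmax hsub
    have hZ := Cfsg.Agent.Helper18.MaxPair.isDefectGroup_of_no_superpair hM he hno
    obtain ⟨θ, hθ, hθZ⟩ := Cfsg.Agent.Helper18.exists_mem_block_trivial_on
      (Q.subgroupOf (Subgroup.centralizer (Q : Set G))) hM hZp heB
    refine ⟨θ, hθ, ?_, ?_, ?_⟩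
    · intro z hz
      exact hθZ z (Subgroup.mem_subgroupOf.2 hz)
    · have h1 := Cfsg.Agent.Helper18.Twist.factorization_degree_of_le_ker hM heB hZ hθ hθZ
      rw [h1, hfac]
      exact add_comm _ _
    · intro g hgN hgst hgo
      exact Cfsg.Agent.Helper18.MaxPair.mem_sup_of_no_superpair hM he hno hgN hgst hgo
  · rintro ⟨θ, hθ, h1, h2, h3⟩
    have hdeg : (charDegree (θ : Subgroup.centralizer (Q : Set G) → ℂ)).factorization p =
        (Q.subgroupOf (Subgroup.centralizer (Q : Set G))).index.factorization p := by
      rw [hfac] at h2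
      omega
    have hZ := Cfsg.Agent.Helper18.MaxPair.isDefectGroup_of_central_degree hM hZp
      (Cfsg.Agent.Helper18.MaxPair.subgroupOf_centralizer_le_center Q) heB hθ hdeg
    have hno : ∀ (R : Subgroup G) (g : Set (IrrCharacter (Subgroup.centralizer (R : Set G)))),
        IsNormalSubpair p M Q e R g → R = Q :=
      fun R g hsub => Cfsg.Agent.Helper18.MaxPair.eq_of_isNormalSubpair hM he hZ h3 hsub
    exact Cfsg.Agent.Helper18.MaxPair.exists_isMaximalBrauerPair hM he hno

end Cfsg.Agent.S4828
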