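import Mathlib
import Cfsg.Statements.S4835
import Cfsg.Agent.Lib.Helper24.Gagola

set_option autoImplicit false
open Cfsg

namespace Cfsg.Agent.S4835

open Cfsg.Agent.Helper24

/-- Let G be a finite group of order greater than 2 with an irreducible character χ that is nonzero on exactly two conjugacy classes. Then G has a unique minimal normal subgroup N; N is an elementary abelian p-group for some prime p; χ is nonzero exactly at the elements of N; and any two nonidentity elements of N are conjugate in G. -/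
theorem result {G : Type*} [Group G] [Finite G] (hG : 2 < Nat.card G) (χ : Cfsg.IrrCharacter G) (hχ : Nat.card {C : ConjClasses G // ∃ g ∈ C.carrier, (χ : G → ℂ) g ≠ 0} = 2) :
    ∃ N : Subgroup G, N.Normal ∧ N ≠ ⊥ ∧ (∀ K : Subgroup G, K.Normal → K ≠ ⊥ → N ≤ K) ∧
      (∃ p : ℕ, p.Prime ∧ Cfsg.IsElementaryAbelian p N) ∧
      (∀ g : G, (χ : G → ℂ) g ≠ 0 ↔ g ∈ N) ∧
      (∀ x ∈ N, ∀ y ∈ N, x ≠ 1 → y ≠ 1 → ∃ g : G, g * x * g⁻¹ = y) := by
  obtain ⟨x, hx⟩ := exists_twoClass χ hχ
  refine ⟨hx.support hG, hx.support_normal hG, hx.support_ne_bot hG, hx.support_le hG, ?_,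
    fun g => ((hx.mem_support hG g)).symm, ?_⟩
  · obtain ⟨p, hp, hord⟩ := hx.exists_prime_order hG
    refine ⟨p, hp, ⟨⟨fun a b => ?_⟩⟩, fun a ha => ?_⟩
    · apply Subtype.ext
      exact hx.support_comm hG a a.2 b b.2
    · by_cases ha1 : a = 1
      · rw [ha1, one_pow]
      · rw [← hord a ha ha1]
        exact pow_orderOf_eq_one a
  · intro a ha b hb ha1 hb1
    rcases (hx.mem_support_iff hG a).mp ha with h' | h'
    · exact absurd h' ha1
    · rcases (hx.mem_support_iff hG b).mp hb with h'' | h''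
      · exact absurd h'' hb1
      · exact isConj_iff.mp (h'.symm.trans h'')

end Cfsg.Agent.S4835
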