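import Mathlib
import Cfsg.Statements.S4837
import Cfsg.Agent.Lib.Helper24.Gagola
import Cfsg.Agent.Lib.Helper24.CharConjOrbits

set_option autoImplicit false
open Cfsg

namespace Cfsg.Agent.S4837

open Cfsg.Agent.Helper24

/-- Let G be a finite group of order greater than 2 with an irreducible character χ nonzero on exactly two conjugacy classes, and let N be the set of elements where χ is nonzero, given as a nontrivial normal p-subgroup of G for the prime p. Then for every nonidentity x in N the centralizer C_G(x) is a Sylow p-subgroup of G, and for every irreducible character λ ≠ 1 of N the stabilizer of λ in G (its inertia group) is a Sylow p-subgroup of G. -/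
theorem result {G : Type*} [Group G] [Finite G] (hG : 2 < Nat.card G) (χ : Cfsg.IrrCharacter G) (hχ : Nat.card {C : ConjClasses G // ∃ g ∈ C.carrier, (χ : G → ℂ) g ≠ 0} = 2) (p : ℕ) [Fact p.Prime] (N : Subgroup G) [N.Normal] (hN : ∀ g : G, g ∈ N ↔ (χ : G → ℂ) g ≠ 0) (hNp : IsPGroup p N) (hN1 : N ≠ ⊥) :
    (∀ x ∈ N, x ≠ 1 → ∃ P : Sylow p G, Subgroup.centralizer ({x} : Set G) = P) ∧
      (∀ μ : Cfsg.IrrCharacter N, (μ : N → ℂ) ≠ (fun _ => (1 : ℂ)) → ∃ P : Sylow p G, ∀ g : G, g ∈ (P : Subgroup G) ↔ ∀ n n' : N, (n' : G) = g * n * g⁻¹ → (μ : N → ℂ) n' = (μ : N → ℂ) n) := by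
  obtain ⟨x, hx⟩ := exists_twoClass χ hχ
  have hNeq : N = hx.support hG := by
    ext g
    rw [hN, hx.mem_support]
  subst hNeq
  refine ⟨fun y hy hy1 => hx.centralizer_sylow hG hNp hy hy1, ?_⟩
  intro μ hμ
  obtain ⟨k, a, ha0, hcN, hc1, hcard, -, hcG⟩ := hx.numerics hG hNp
  have hab : ∀ a b : hx.support hG, a * b = b * a := by
    intro a b
    apply Subtype.ext
    exact hx.support_comm hG a a.2 b b.2
  have htrans : ∀ a b : hx.support hG, a ≠ 1 → b ≠ 1 → ∃ g : G, MulAut.conjNormal g a = b := by
    intro a b ha hb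
    have ha' : IsConj x (a : G) := by
      rcases (hx.mem_support_iff hG a).mp a.2 with h' | h'
      · exact absurd (Subtype.ext h') ha
      · exact h'
    have hb' : IsConj x (b : G) := by
      rcases (hx.mem_support_iff hG b).mp b.2 with h' | h'
      · exact absurd (Subtype.ext h') hb
      · exact h'
    obtain ⟨g, hg⟩ := isConj_iff.mp (ha'.symm.trans hb')
    refine ⟨g, ?_⟩
    apply Subtype.ext
    rw [MulAut.conjNormal_apply]
    exact hg
  have hcim := card_inertia_mul (hx.support hG) hab htrans hN1 μ hμ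
  set c := (Subgroup.centralizer ({x} : Set G)).index with hc
  have hcpos : 0 < c := Nat.pos_of_ne_zero Subgroup.index_ne_zero_of_finite
  have hc' : Nat.card (hx.support hG) - 1 = c := by
    rw [hcN, ← hc1]
    simp
  rw [hc', hcG, mul_comm] at hcim
  have hcardI : Nat.card (inertia (hx.support hG) μ) = p ^ (2 * k + a) :=
    Nat.eq_of_mul_eq_mul_right hcpos hcim
  have h1 : IsPGroup p (inertia (hx.support hG) μ) := IsPGroup.of_card hcardI
  have hidx : (inertia (hx.support hG) μ).index = c := by
    have := Subgroup.card_mul_index (inertia (hx.support hG) μ)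
    rw [hcardI, hcG] at this
    exact Nat.eq_of_mul_eq_mul_left (pow_pos (Fact.out : p.Prime).pos _) this
  have h2 : ¬ p ∣ (inertia (hx.support hG) μ).index := by
    rw [hidx]
    intro hdvd
    have h3 : p ∣ c + 1 := by
      rw [hc1]
      exact dvd_pow_self p ha0.ne'
    have h4 : p ∣ 1 := (Nat.dvd_add_right hdvd).mp h3
    exact (Fact.out : p.Prime).one_lt.ne' (Nat.dvd_one.mp h4)
  refine ⟨h1.toSylow h2, fun g => ?_⟩
  rw [← mem_inertia_iff]
  exact h1.mem_toSylow h2

end Cfsg.Agent.S4837
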