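import Mathlib
import Cfsg.Statements.S4838
import Cfsg.Agent.Lib.Helper24.Gagola

set_option autoImplicit false
open Cfsg

namespace Cfsg.Agent.S4838

open Cfsg.Agent.Helper24
open scoped commutatorElement

universe u

section

variable {G : Type u} [Group G] [Finite G] {χ : G → ℂ} {x : G} {p : ℕ} [Fact p.Prime]

/-- The data shared by all parts. -/
structure Data (h : TwoClass χ x) (hG : 2 < Nat.card G) (N : Subgroup G) (k a c : ℕ) : Prop where
  a_pos : 0 < a
  cardN : Nat.card N = p ^ a
  c_succ : c + 1 = p ^ a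
  cardG : Nat.card G = p ^ (2 * k + a) * c
  c_pos : 0 < c
  not_dvd : ¬ p ∣ c

theorem exists_data (h : TwoClass χ x) (hG : 2 < Nat.card G) (N : Subgroup G)
    (hN : ∀ g : G, g ∈ N ↔ χ g ≠ 0) (hNp : IsPGroup p N) :
    ∃ k a c : ℕ, Data (p := p) h hG N k a c := by
  have hNeq : N = h.support hG := by
    ext g
    rw [hN, h.mem_support]
  subst hNeq
  obtain ⟨k, a, ha0, hcN, hc1, -, -, hcG⟩ := h.numerics hG hNp
  refine ⟨k, a, _, ha0, hcN, hc1, hcG, Nat.pos_of_ne_zero Subgroup.index_ne_zero_of_finite, ?_⟩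
  intro hdvd
  have h3 : p ∣ (Subgroup.centralizer ({x} : Set G)).index + 1 := by
    rw [hc1]
    exact dvd_pow_self p ha0.ne'
  have h4 : p ∣ 1 := (Nat.dvd_add_right hdvd).mp h3
  exact (Fact.out : p.Prime).one_lt.ne' (Nat.dvd_one.mp h4)

variable {h : TwoClass χ x} {hG : 2 < Nat.card G} {N : Subgroup G} {k a c : ℕ}

theorem Data.card_sylow (D : Data (p := p) h hG N k a c) (P : Sylow p G) :
    Nat.card P = p ^ (2 * k + a) := by
  have hp : p.Prime := Fact.out
  rw [Sylow.card_eq_multiplicity, D.cardG,
    Nat.factorization_mul (pow_ne_zero _ hp.ne_zero) D.c_pos.ne', Finsupp.add_apply,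
    Nat.factorization_eq_zero_of_not_dvd D.not_dvd, add_zero, hp.factorization_pow]
  simp

theorem Data.card_quot (D : Data (p := p) h hG N k a c) [N.Normal] :
    Nat.card (G ⧸ N) = p ^ (2 * k) * c := by
  have h1 := Subgroup.card_eq_card_quotient_mul_card_subgroup N
  rw [D.cardG, D.cardN] at h1
  have hp : p.Prime := Fact.out
  have : Nat.card (G ⧸ N) * p ^ a = p ^ (2 * k) * c * p ^ a := by
    rw [← h1, pow_add]
    ring
  exact Nat.eq_of_mul_eq_mul_right (pow_pos hp.pos a) this

/-- A `p`-subgroup centralizing an element outside `N` has order at most `p^(2k)`. -/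
theorem Data.card_dvd_of_le_centralizer (D : Data (p := p) h hG N k a c) [N.Normal]
    (hN : ∀ g : G, g ∈ N ↔ χ g ≠ 0) {z : G} (hz : z ∉ N) (H : Subgroup G)
    (hH : IsPGroup p H) (hle : H ≤ Subgroup.centralizer ({z} : Set G)) :
    Nat.card H ∣ p ^ (2 * k) := by
  have hp : p.Prime := Fact.out
  have h1 : Nat.card H ∣ Nat.card (Subgroup.centralizer ({z} : Set G)) :=
    Subgroup.card_dvd_of_le hle
  rw [h.card_centralizer_quot hG N hN hz] at h1
  have h2 : Nat.card (Subgroup.centralizer ({(z : G ⧸ N)} : Set (G ⧸ N))) ∣ Nat.card (G ⧸ N) :=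
    Subgroup.card_subgroup_dvd_card _
  rw [D.card_quot] at h2
  have h3 := h1.trans h2
  obtain ⟨j, hj⟩ := IsPGroup.iff_card.mp hH
  rw [hj] at h3 ⊢
  have hcop : Nat.Coprime (p ^ j) c :=
    Nat.Coprime.pow_left j ((Nat.Prime.coprime_iff_not_dvd hp).mpr D.not_dvd)
  exact hcop.dvd_of_dvd_mul_right h3

theorem Data.center_le (D : Data (p := p) h hG N k a c) [N.Normal]
    (hN : ∀ g : G, g ∈ N ↔ χ g ≠ 0) (P : Sylow p G) :
    (Subgroup.center ↥(P : Subgroup G)).map (P : Subgroup G).subtype ≤ N := by
  rintro _ ⟨z, hz, rfl⟩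
  by_contra hzN
  have hle : (P : Subgroup G) ≤ Subgroup.centralizer ({((P : Subgroup G).subtype z : G)} : Set G) := by
    intro y hy
    rw [Subgroup.mem_centralizer_singleton_iff]
    have := (Subgroup.mem_center_iff.mp hz) ⟨y, hy⟩
    have h' := Subtype.ext_iff.mp this
    simp only [Subgroup.coe_mul] at h'
    simpa using h'
  have h1 := D.card_dvd_of_le_centralizer hN hzN (P : Subgroup G) P.isPGroup' hle
  rw [D.card_sylow P] at h1
  have hp : p.Prime := Fact.out
  have := (Nat.pow_dvd_pow_iff_le_right hp.one_lt).mp h1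
  have := D.a_pos
  omega

theorem Data.center_eq_iff (D : Data (p := p) h hG N k a c) [N.Normal]
    (hN : ∀ g : G, g ∈ N ↔ χ g ≠ 0) (hNp : IsPGroup p N) (P : Sylow p G) :
    (Subgroup.center ↥(P : Subgroup G)).map (P : Subgroup G).subtype = N ↔
      (P : Subgroup G).Normal := by
  have hp : p.Prime := Fact.out
  have hNeq : N = h.support hG := by
    ext g
    rw [hN, h.mem_support]
  constructor
  · intro heq
    -- P centralizes every element of N
    have hPC : ∀ y ∈ N, y ≠ 1 → (P : Subgroup G) = Subgroup.centralizer ({y} : Set G) := by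
      intro y hy hy1
      have hle : (P : Subgroup G) ≤ Subgroup.centralizer ({y} : Set G) := by
        rw [← heq] at hy
        obtain ⟨z, hz, rfl⟩ := hy
        intro w hw
        rw [Subgroup.mem_centralizer_singleton_iff]
        have := (Subgroup.mem_center_iff.mp hz) ⟨w, hw⟩
        have h' := Subtype.ext_iff.mp this
        simp only [Subgroup.coe_mul] at h'
        simpa using h'
      have hy' : y ∈ h.support hG := by rw [← hNeq]; exact hy
      have hNp' : IsPGroup p (h.support hG) := by rw [← hNeq]; exact hNp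
      obtain ⟨Q, hQ⟩ := h.centralizer_sylow hG hNp' hy' hy1
      apply Subgroup.eq_of_le_of_card_ge hle
      rw [hQ]
      show Nat.card Q ≤ Nat.card P
      rw [D.card_sylow Q, D.card_sylow P]
    have hxN : x ∈ N := (hN x).mpr h.x_nz
    constructor
    intro n hn g
    rw [hPC x hxN h.x_ne, Subgroup.mem_centralizer_singleton_iff]
    have hyN : g⁻¹ * x * g ∈ N := by
      have := ‹N.Normal›.conj_mem x hxN g⁻¹
      simpa using this
    have hy1 : g⁻¹ * x * g ≠ 1 := by
      intro h'
      apply h.x_ne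
      have : x = g * (g⁻¹ * x * g) * g⁻¹ := by group
      rw [this, h']
      group
    rw [hPC _ hyN hy1, Subgroup.mem_centralizer_singleton_iff] at hn
    calc g * n * g⁻¹ * x = g * (n * (g⁻¹ * x * g)) * g⁻¹ := by group
      _ = g * ((g⁻¹ * x * g) * n) * g⁻¹ := by rw [hn]
      _ = x * (g * n * g⁻¹) := by group
  · intro hPn
    have := hPn
    apply le_antisymm (D.center_le hN P)
    haveI : Nontrivial (P : Subgroup G) := by
      rw [← Finite.one_lt_card_iff_nontrivial]
      show 1 < Nat.card P
      rw [D.card_sylow P]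
      have := D.a_pos
      exact Nat.one_lt_pow (by omega) hp.one_lt
    haveI := P.isPGroup'.center_nontrivial
    have hne : (Subgroup.center ↥(P : Subgroup G)).map (P : Subgroup G).subtype ≠ ⊥ := by
      intro hb
      rw [Subgroup.map_eq_bot_iff_of_injective _ (Subgroup.subtype_injective _)] at hb
      have := (Subgroup.nontrivial_iff_ne_bot _).mp ‹Nontrivial (Subgroup.center ↥(P : Subgroup G))›
      exact this hb
    rw [hNeq]
    exact h.support_le hG _ inferInstance hne

theorem Data.upper_step (D : Data (p := p) h hG N k a c) [N.Normal]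
    (hN : ∀ g : G, g ∈ N ↔ χ g ≠ 0) (P : Sylow p G) (hNP : N ≤ (P : Subgroup G)) (i : ℕ)
    (hlt : Subgroup.upperCentralSeries ↥(P : Subgroup G) i < N.subgroupOf (P : Subgroup G)) :
    Subgroup.upperCentralSeries ↥(P : Subgroup G) (i + 1) ≤ N.subgroupOf (P : Subgroup G) := by
  have hp : p.Prime := Fact.out
  intro y hy
  by_contra hyN
  rw [Subgroup.mem_subgroupOf] at hyN
  classical
  haveI : Fintype ↥(P : Subgroup G) := Fintype.ofFinite _
  have hcls := card_filter_isConj y
  -- the class of `y` injects into `Z_i`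
  have hle1 : (Finset.univ.filter (IsConj y)).card ≤
      (Finset.univ.filter (· ∈ Subgroup.upperCentralSeries ↥(P : Subgroup G) i)).card := by
    apply Finset.card_le_card_of_injOn (fun b => b * y⁻¹)
    · intro b hb
      rw [Finset.coe_filter, Set.mem_ofPred_eq] at hb
      obtain ⟨c, hc⟩ := isConj_iff.mp hb.2
      rw [Finset.coe_filter, Set.mem_ofPred_eq]
      refine ⟨Finset.mem_univ _, ?_⟩
      have h1 := Subgroup.mem_upperCentralSeries_succ_iff.mp hy c
      have h2 : b * y⁻¹ = (⁅y, c⁆)⁻¹ := by
        rw [← hc, commutatorElement_def]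
        group
      show b * y⁻¹ ∈ _
      rw [h2]
      exact inv_mem h1
    · intro b _ b' _ hbb
      exact mul_right_cancel hbb
  have hle2 : (Finset.univ.filter (· ∈ Subgroup.upperCentralSeries ↥(P : Subgroup G) i)).card =
      Nat.card (Subgroup.upperCentralSeries ↥(P : Subgroup G) i) := by
    rw [Nat.card_eq_fintype_card, Fintype.card_subtype]
  have hcardNP : Nat.card (N.subgroupOf (P : Subgroup G)) = p ^ a := by
    rw [Nat.card_congr (Subgroup.subgroupOfEquivOfLe hNP).toEquiv, D.cardN]
  have hlt2 : Nat.card (Subgroup.upperCentralSeries ↥(P : Subgroup G) i) < p ^ a := by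
    rw [← hcardNP]
    by_contra hge
    exact hlt.ne (Subgroup.eq_of_le_of_card_ge hlt.le (not_lt.mp hge))
  -- the centralizer of `y` in `P` is small
  have hdvd : Nat.card (Subgroup.centralizer ({y} : Set ↥(P : Subgroup G))) ∣ p ^ (2 * k) := by
    have hH := D.card_dvd_of_le_centralizer hN hyN
      ((Subgroup.centralizer ({y} : Set ↥(P : Subgroup G))).map (P : Subgroup G).subtype)
      (P.isPGroup'.to_le (Subgroup.map_subtype_le _)) ?_
    · rwa [Subgroup.card_map_of_injective (Subgroup.subtype_injective _)] at hH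
    · rintro _ ⟨w, hw, rfl⟩
      rw [Subgroup.mem_centralizer_singleton_iff]
      have := Subgroup.mem_centralizer_singleton_iff.mp hw
      have h' := Subtype.ext_iff.mp this
      simp only [Subgroup.coe_mul] at h'
      simpa using h'
  have hle3 : Nat.card (Subgroup.centralizer ({y} : Set ↥(P : Subgroup G))) ≤ p ^ (2 * k) :=
    Nat.le_of_dvd (pow_pos hp.pos _) hdvd
  have hmul := Subgroup.card_mul_index (Subgroup.centralizer ({y} : Set ↥(P : Subgroup G)))
  have hP : Nat.card ↥(P : Subgroup G) = p ^ (2 * k + a) := D.card_sylow P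
  rw [hP, ← hcls] at hmul
  have hidx : (Finset.univ.filter (IsConj y)).card < p ^ a := by
    rw [hle2] at hle1
    omega
  have hpos : 0 < Nat.card (Subgroup.centralizer ({y} : Set ↥(P : Subgroup G))) := Nat.card_pos
  have : Nat.card (Subgroup.centralizer ({y} : Set ↥(P : Subgroup G))) *
      (Finset.univ.filter (IsConj y)).card < p ^ (2 * k) * p ^ a :=
    Nat.mul_lt_mul_of_le_of_lt hle3 hidx (pow_pos hp.pos _)
  rw [hmul, pow_add] at this
  exact lt_irrefl _ this

theorem Data.exists_upper (D : Data (p := p) h hG N k a c) [N.Normal]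
    (hN : ∀ g : G, g ∈ N ↔ χ g ≠ 0) (hNp : IsPGroup p N) (P : Sylow p G) :
    ∃ i : ℕ, Subgroup.upperCentralSeries ↥(P : Subgroup G) i = N.subgroupOf (P : Subgroup G) := by
  have hp : p.Prime := Fact.out
  have hNP : N ≤ (P : Subgroup G) := hNp.le_sylow_of_normal P
  classical
  have : Group.IsNilpotent ↥(P : Subgroup G) := P.isPGroup'.isNilpotent
  obtain ⟨n, hn⟩ := (Group.isNilpotent_iff (G := ↥(P : Subgroup G))).mp inferInstance
  have hex : ∃ i, ¬ (Subgroup.upperCentralSeries ↥(P : Subgroup G) i <
      N.subgroupOf (P : Subgroup G)) := ⟨n, by rw [hn]; exact not_top_lt⟩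
  have hmin := fun m => Nat.find_min hex (m := m)
  have hspec := Nat.find_spec hex
  rcases hi : Nat.find hex with _ | j
  · exfalso
    rw [hi] at hspec
    apply hspec
    rw [Subgroup.upperCentralSeries_zero, bot_lt_iff_ne_bot]
    intro hb
    have hcardNP : Nat.card (N.subgroupOf (P : Subgroup G)) = p ^ a := by
      rw [Nat.card_congr (Subgroup.subgroupOfEquivOfLe hNP).toEquiv, D.cardN]
    rw [hb, Subgroup.card_bot] at hcardNP
    have := Nat.one_lt_pow D.a_pos.ne' hp.one_lt
    omega
  · rw [hi] at hspec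
    have hj : Subgroup.upperCentralSeries ↥(P : Subgroup G) j < N.subgroupOf (P : Subgroup G) := by
      by_contra hcon
      exact hmin j (by omega) hcon
    have hle := D.upper_step hN P hNP j hj
    refine ⟨j + 1, ?_⟩
    by_contra hne
    exact hspec (lt_of_le_of_ne hle hne)

end

/-- Let G be a finite group of order greater than 2 with an irreducible character χ nonzero on exactly two conjugacy classes, N the normal p-subgroup of elements where χ is nonzero, and P a Sylow p-subgroup of G. Then (a) for every x outside N the centralizer of x in G has the same order as the centralizer of xN in G/N; (b) the centre of P lies in N, and equals N exactly when P is normal in G; (c) N, viewed inside P, is a term of the upper central series of P. -/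
theorem result {G : Type*} [Group G] [Finite G] (hG : 2 < Nat.card G) (χ : Cfsg.IrrCharacter G) (hχ : Nat.card {C : ConjClasses G // ∃ g ∈ C.carrier, (χ : G → ℂ) g ≠ 0} = 2) (p : ℕ) [Fact p.Prime] (N : Subgroup G) [N.Normal] (hN : ∀ g : G, g ∈ N ↔ (χ : G → ℂ) g ≠ 0) (hNp : IsPGroup p N) (hN1 : N ≠ ⊥) (P : Sylow p G) :
    (∀ x : G, x ∉ N → Nat.card (Subgroup.centralizer ({x} : Set G)) = Nat.card (Subgroup.centralizer ({(x : G ⧸ N)} : Set (G ⧸ N)))) ∧
      ((Subgroup.center ↥(P : Subgroup G)).map (P : Subgroup G).subtype ≤ N ∧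
        ((Subgroup.center ↥(P : Subgroup G)).map (P : Subgroup G).subtype = N ↔ (P : Subgroup G).Normal)) ∧
      (∃ i : ℕ, Subgroup.upperCentralSeries ↥(P : Subgroup G) i = N.subgroupOf (P : Subgroup G)) := by
  obtain ⟨x, h⟩ := exists_twoClass χ hχ
  obtain ⟨k, a, c, D⟩ := exists_data (p := p) h hG N hN hNp
  exact ⟨fun g hg => h.card_centralizer_quot hG N hN hg,
    ⟨D.center_le hN P, D.center_eq_iff hN hNp P⟩, D.exists_upper hN hNp P⟩

end Cfsg.Agent.S4838
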