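import Mathlib
import Cfsg.Statements.S4839
import Cfsg.Agent.S4835
import Cfsg.Agent.S4837
import Cfsg.Agent.S4838
import Cfsg.Agent.Lib.Helper21.GAG39Defs
import Cfsg.Agent.Lib.Helper19.GAG39CAM
import Cfsg.Agent.Lib.Helper3.GAG39CGN
import Cfsg.Agent.Lib.Helper14.GAG39PCQ
import Cfsg.Agent.Lib.Helper3.GAG39CARD
import Cfsg.Agent.Lib.Helper15.GAG39FIX
import Cfsg.Agent.Lib.Helper2.GAG39PRIME
import Cfsg.Agent.Lib.Helper25.GAG39IDX
import Cfsg.Agent.Lib.GAG39.GAG39INV
import Cfsg.Agent.Lib.Helper27.GAG39SPLIT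
import Cfsg.Agent.Lib.Helper27.GAG39KILLA
import Cfsg.Agent.Lib.Helper15.GAG39KILLB
import Cfsg.Agent.Lib.Helper4.GAG39DIHA
import Cfsg.Agent.Lib.Helper28.GAG39DIHB
import Cfsg.Agent.Lib.GAG39.GAG39HALF
import Cfsg.Agent.Lib.GAG39.GAG39LIFT
import Cfsg.Agent.Lib.Helper15.GAG39FPF
import Cfsg.Agent.Lib.Helper9.GAG39HCARD
import Cfsg.Agent.Lib.Helper28.GAG39FROBTI
import Cfsg.Agent.Lib.Helper23.GAG39FROBKER
import Cfsg.Agent.Lib.Helper22.GAG39CONV

set_option autoImplicit false
open Cfsg

namespace Cfsg.Agent.S4839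

open Cfsg.Agent.Helper21.GAG39

section abstract

variable {G : Type*} [Group G] [Finite G] {p : ℕ} [Fact p.Prime] (N : Subgroup G) [N.Normal]

/-- `p` odd: the index of `N` is prime to `p`. -/
theorem s4839_odd_main (hS : Setting p N) (hNp : IsPGroup p N) (hp2 : p ≠ 2) (hcore : N = pCore p G) :
    ¬ p ∣ N.index := by
  classical
  have hpp : p.Prime := Fact.out
  obtain ⟨x, hxN, hx1⟩ : ∃ x ∈ N, x ≠ 1 := by
    by_contra hcon
    push Not at hcon
    exact hS.ne_bot ((Subgroup.eq_bot_iff_forall N).mpr hcon)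
  have hcard := card_eq N hS.trans x hxN hx1
  -- `|N|` is odd
  obtain ⟨a, ha⟩ := IsPGroup.iff_card.mp hNp
  have hpodd : Odd p := hpp.odd_of_ne_two hp2
  have hNodd : Odd (Nat.card N) := by rw [ha]; exact hpodd.pow
  have hN1 : 1 < Nat.card N := (Subgroup.one_lt_card_iff_ne_bot N).mpr hS.ne_bot
  have h2 : 2 ∣ Nat.card G := by
    rw [hcard]
    apply Dvd.dvd.mul_left
    obtain ⟨m, hm⟩ := hNodd
    exact ⟨m, by omega⟩
  obtain ⟨t, ht⟩ := exists_prime_orderOf_dvd_card' (G := G) 2 h2
  have htt : t * t = 1 := by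
    have := pow_orderOf_eq_one t
    rw [ht, pow_two] at this
    exact this
  have hfix : ∀ n ∈ N, t * n * t⁻¹ = n → n = 1 := by
    intro n hn hnt
    by_contra hn1
    have hP := hS.cent n hn hn1
    have htm : t ∈ Subgroup.centralizer ({n} : Set G) := by
      rw [Subgroup.mem_centralizer_iff]
      intro b hb
      rw [Set.mem_singleton_iff] at hb
      subst hb
      have : t * b = b * t := by
        have h3 : t * b * t⁻¹ * t = b * t := by rw [hnt]
        rwa [inv_mul_cancel_right] at h3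
      exact this.symm
    obtain ⟨k, hk⟩ := hP ⟨t, htm⟩
    have hk' : t ^ p ^ k = 1 := by
      have := congrArg Subtype.val hk
      simpa using this
    have hdvd : 2 ∣ p ^ k := by
      rw [← ht]
      exact orderOf_dvd_of_pow_eq_one hk'
    have : 2 ∣ p := Nat.Prime.dvd_of_dvd_pow Nat.prime_two hdvd
    exact hp2 ((Nat.prime_dvd_prime_iff_eq Nat.prime_two hpp).mp this).symm
  have hinv := inverts N hS.comm t htt hfix
  have hCN := centralizer_le N hS.ne_bot hS.cent hcore
  obtain ⟨hNC, hint⟩ := split_of_inverting N hNodd hS.comm hCN t htt hinv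
  set C := Subgroup.centralizer ({t} : Set G) with hC
  have hidx := index_eq_card N C hNC hint
  rw [hidx]
  intro hpC
  obtain ⟨u, hu⟩ := exists_prime_orderOf_dvd_card' (G := C) p hpC
  have huo : orderOf (u : G) = p := by
    rw [← hu]
    exact Subgroup.orderOf_coe u
  have hu1 : (u : G) ≠ 1 := by
    intro h
    rw [h, orderOf_one] at huo
    exact hpp.one_lt.ne huo
  have huN : (u : G) ∉ N := by
    intro h
    have : (u : G) ∈ N ⊓ C := ⟨h, u.2⟩
    rw [hint] at this
    exact hu1 ((Subgroup.mem_bot).mp this)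
  have h1 := hS.camina (u : G) huN
  have h2' := card_centralizer_quot N C hNC hint (u : G) u.2
  have h3 := card_mul_le N C hint (u : G)
  obtain ⟨n, hnN, hn1, hnu⟩ := exists_fixed N hNp hS.ne_bot (u : G) ⟨1, by rw [huo, pow_one]⟩
  have hfixcard : 1 < Nat.card ↥(fixN N (u : G)) := by
    rw [Subgroup.one_lt_card_iff_ne_bot]
    intro hbot
    have : n ∈ fixN N (u : G) := by
      rw [mem_fixN]
      refine ⟨hnN, ?_⟩
      have h3 : (u : G) * n * (u : G)⁻¹ * (u : G) = n * (u : G) := by rw [hnu]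
      rwa [inv_mul_cancel_right] at h3
    rw [hbot] at this
    exact hn1 ((Subgroup.mem_bot).mp this)
  have hpos : 0 < Nat.card ↥(C ⊓ Subgroup.centralizer ({(u : G)} : Set G)) := Nat.card_pos
  rw [h1, h2'] at h3
  have : Nat.card ↥(C ⊓ Subgroup.centralizer ({(u : G)} : Set G)) <
      Nat.card ↥(fixN N (u : G)) * Nat.card ↥(C ⊓ Subgroup.centralizer ({(u : G)} : Set G)) := by
    nlinarith
  omega

/-- `p = 2`: the index of `N` is odd. -/
theorem s4839_even_main (hS : Setting 2 N) (hNp : IsPGroup 2 N) (hcore : N = pCore 2 G) :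
    ¬ 2 ∣ N.index := by
  classical
  intro heven
  have hq : pCore 2 (G ⧸ N) = ⊥ := pCore_quotient_eq_bot (p := 2) N hNp hcore
  have heven' : 2 ∣ Nat.card (G ⧸ N) := by
    rwa [← Subgroup.index_eq_card]
  obtain ⟨abar, bbar, ha, hb, hab⟩ := exists_bad_pair (Q := G ⧸ N) hq heven'
  obtain ⟨sbar, hsp, hs2, hinv⟩ := exists_inverted_of_bad_pair abar bbar ha hb hab
  obtain ⟨a, rfl⟩ := QuotientGroup.mk_surjective abar
  obtain ⟨s, rfl⟩ := QuotientGroup.mk_surjective sbar
  set r := orderOf (s : G ⧸ N) with hr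
  have hrodd : Odd r := hsp.odd_of_ne_two hs2
  -- `a ∉ N`, `a * a ∈ N`
  have haN : a ∉ N := by
    intro h
    have : (a : G ⧸ N) = 1 := (QuotientGroup.eq_one_iff a).mpr h
    rw [this, orderOf_one] at ha
    omega
  have ha2 : a * a ∈ N := by
    rw [← QuotientGroup.eq_one_iff]
    have := pow_orderOf_eq_one (a : G ⧸ N)
    rw [ha, pow_two] at this
    exact_mod_cast this
  have hsr : s ^ r ∈ N := by
    rw [← QuotientGroup.eq_one_iff]
    have := pow_orderOf_eq_one (s : G ⧸ N)
    exact_mod_cast this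
  have hinvN : a * s * a⁻¹ * s ∈ N := by
    rw [← QuotientGroup.eq_one_iff]
    rw [QuotientGroup.mk_mul, QuotientGroup.mk_mul, QuotientGroup.mk_mul, QuotientGroup.mk_inv, hinv,
      inv_mul_cancel]
  have hsfix : ∀ v ∈ N, s * v * s⁻¹ = v → v = 1 := by
    intro v hv hsv
    by_contra hv1
    have hP := hS.cent v hv hv1
    have hsm : s ∈ Subgroup.centralizer ({v} : Set G) := by
      rw [Subgroup.mem_centralizer_iff]
      intro b hb
      rw [Set.mem_singleton_iff] at hb
      subst hb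
      have h3 : s * b * s⁻¹ * s = b * s := by rw [hsv]
      rw [inv_mul_cancel_right] at h3
      exact h3.symm
    obtain ⟨k, hk⟩ := hP ⟨s, hsm⟩
    have hk' : s ^ 2 ^ k = 1 := by
      have := congrArg Subtype.val hk
      simpa using this
    have hk'' : (s : G ⧸ N) ^ 2 ^ k = 1 := by
      have := congrArg (QuotientGroup.mk (s := N)) hk'
      simpa using this
    have hdvd : r ∣ 2 ^ k := orderOf_dvd_of_pow_eq_one hk''
    have : r ∣ 2 := Nat.Prime.dvd_of_dvd_pow hsp hdvd
    exact hs2 ((Nat.prime_dvd_prime_iff_eq hsp Nat.prime_two).mp this)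
  have hhalf := card_fix_sq_le N hS.comm a s r hrodd hinvN hsr hsfix
  have hCN := centralizer_le (p := 2) N hS.ne_bot hS.cent hcore
  have hnc : ∃ v ∈ N, a * v * a⁻¹ ≠ v := by
    by_contra hcon
    push Not at hcon
    apply haN
    apply hCN
    rw [Subgroup.mem_centralizer_iff]
    intro v hv
    have h3 := hcon v hv
    have h4 : a * v * a⁻¹ * a = v * a := by rw [h3]
    rw [inv_mul_cancel_right] at h4
    exact h4.symm
  have hexp : ∀ v ∈ N, v * v = 1 := by
    intro v hv
    have := hS.pow_p v hv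
    rwa [pow_two] at this
  obtain ⟨v₁, hv₁, v₂, hv₂, h1, h2⟩ := exists_lifts N hS.comm hexp a ha2 hhalf hnc
  have hx1 : v₁ * a ∉ N := by
    intro h
    apply haN
    have := N.mul_mem (N.inv_mem hv₁) h
    rwa [inv_mul_cancel_left] at this
  have hxy : ((v₂ * a : G) : G ⧸ N) = ((v₁ * a : G) : G ⧸ N) := by
    rw [QuotientGroup.mk_mul, QuotientGroup.mk_mul, (QuotientGroup.eq_one_iff v₁).mpr hv₁,
      (QuotientGroup.eq_one_iff v₂).mpr hv₂]
  obtain ⟨g, hg⟩ := conj_of_coset N hS.camina (v₁ * a) (v₂ * a) hx1 hxy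
  apply h2
  rw [← hg]
  calc g * (v₁ * a) * g⁻¹ * (g * (v₁ * a) * g⁻¹) = g * ((v₁ * a) * (v₁ * a)) * g⁻¹ := by group
    _ = 1 := by rw [h1]; group

/-- the Frobenius structure when `N` is a normal Hall subgroup -/
theorem s4839_frobenius (hG : 2 < Nat.card G) (hS : Setting p N) (hNp : IsPGroup p N)
    (hidx : ¬ p ∣ N.index) :
    ∃ H : Subgroup G, IsFrobeniusComplement H ∧ frobeniusKernel H = (N : Set G) ∧
      Nat.card H + 1 = Nat.card N := by
  classical
  have hpp : p.Prime := Fact.out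
  obtain ⟨a, ha⟩ := IsPGroup.iff_card.mp hNp
  have hcop : Nat.Coprime (Nat.card N) N.index := by
    rw [ha]
    exact Nat.Coprime.pow_left a ((Nat.Prime.coprime_iff_not_dvd hpp).mpr hidx)
  obtain ⟨H, hH⟩ := Subgroup.exists_right_complement'_of_coprime hcop
  have hfpf := fpf_of_complement N hS.cent hidx H hH
  have hcardH : Nat.card H = N.index := by
    have h1 := hH.card_mul_card
    have h2 := N.card_mul_index
    have hNpos : 0 < Nat.card N := Nat.card_pos
    rw [← h2] at h1
    exact Nat.eq_of_mul_eq_mul_left hNpos h1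
  have hidx1 := card_of_hall N hNp hS.comm hS.cent (fun x hx hx1 => card_eq N hS.trans x hx hx1)
    hS.ne_bot hidx
  have hcard : Nat.card H + 1 = Nat.card N := by rw [hcardH]; exact hidx1
  have hGcard : Nat.card G = Nat.card N * Nat.card H := hH.card_mul_card.symm
  refine ⟨H, ⟨?_, ?_, ti_of_fpf N H hH hfpf⟩, kernel_of_fpf N hS.comm H hH hfpf, hcard⟩
  · -- `H ≠ ⊥`
    intro hbot
    rw [hbot, Subgroup.card_bot] at hcard hGcard
    rw [← hcard] at hGcard
    omega
  · -- `H ≠ ⊤`
    intro htop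
    have h1 : N ⊓ H = ⊥ := hH.disjoint.eq_bot
    rw [htop, inf_top_eq] at h1
    exact hS.ne_bot h1

end abstract

/-- Let G be a finite group of order greater than 2 with an irreducible character χ nonzero on exactly two conjugacy classes, and let N be the normal p-subgroup of elements where χ is nonzero. Then N is the whole p-core O_p(G) if and only if G is a doubly transitive Frobenius group with kernel N: G has a Frobenius complement H whose Frobenius kernel is N and whose order is one less than that of N. -/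
theorem result {G : Type*} [Group G] [Finite G] (hG : 2 < Nat.card G) (χ : Cfsg.IrrCharacter G) (hχ : Nat.card {C : ConjClasses G // ∃ g ∈ C.carrier, (χ : G → ℂ) g ≠ 0} = 2) (p : ℕ) [Fact p.Prime] (N : Subgroup G) [N.Normal] (hN : ∀ g : G, g ∈ N ↔ (χ : G → ℂ) g ≠ 0) (hNp : IsPGroup p N) (hN1 : N ≠ ⊥) :
    N = Cfsg.pCore p G ↔ ∃ H : Subgroup G, Cfsg.IsFrobeniusComplement H ∧ Cfsg.frobeniusKernel H = (N : Set G) ∧ Nat.card H + 1 = Nat.card N := by
  classical
  -- the abstract setting from the proved rows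
  obtain ⟨N', hN'n, hN'1, -, ⟨q, hq, hel⟩, hsupp, htr⟩ := Cfsg.Agent.S4835.result hG χ hχ
  have hNN' : N' = N := by
    ext g
    rw [hN g, hsupp g]
  subst hNN'
  obtain ⟨hcomm, hpow⟩ := hel
  have hqp : q = p := prime_eq N' hNp hN1 q hq hpow
  subst hqp
  obtain ⟨hcent, -⟩ := Cfsg.Agent.S4837.result hG χ hχ q N' hN hNp hN1
  obtain ⟨P⟩ : Nonempty (Sylow q G) := inferInstance
  obtain ⟨hcam, -, -⟩ := Cfsg.Agent.S4838.result hG χ hχ q N' hN hNp hN1 P
  have hS : Setting q N' := by
    refine ⟨hN1, ?_, hpow, ?_, hcam, ?_⟩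
    · intro a ha b hb
      have := hcomm.is_comm.comm ⟨a, ha⟩ ⟨b, hb⟩
      exact congrArg Subtype.val this
    · intro x hx hx1
      obtain ⟨P', hP'⟩ := hcent x hx hx1
      rw [hP']
      exact P'.isPGroup'
    · intro x hx y hy hx1 hy1
      exact htr x hx y hy hx1 hy1
  constructor
  · intro hcore
    have hidx : ¬ q ∣ N'.index := by
      by_cases h2 : q = 2
      · subst h2
        exact s4839_even_main N' hS hNp hcore
      · exact s4839_odd_main N' hS hNp h2 hcore
    exact s4839_frobenius N' hG hS hNp hidx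
  · rintro ⟨H, hH, hker, hcard⟩
    exact core_of_frobenius N' hNp H hH hker hcard

end Cfsg.Agent.S4839
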