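import Mathlib
import Cfsg.Statements.S4840
import Cfsg.Agent.Lib.Helper14.GAG40Transfer
import Cfsg.Agent.Lib.Helper14.GAG40Main

set_option autoImplicit false

namespace Cfsg.Agent.S4840

open Cfsg Cfsg.Agent.Helper24 Cfsg.Agent.Helper14.Gag40

theorem result {G : Type*} [Group G] [Finite G] [hs : Group.IsSolvable G] (hG : 2 < Nat.card G) (χ : Cfsg.IrrCharacter G) (hχ : Nat.card {C : ConjClasses G // ∃ g ∈ C.carrier, (χ : G → ℂ) g ≠ 0} = 2) :
    ∃ p : ℕ, p.Prime ∧ (∀ q : ℕ, q.Prime → (Cfsg.pCore q G ≠ ⊥ ↔ q = p)) ∧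
      Cfsg.HasNormalPComplement p (G ⧸ Cfsg.pCore p G) ∧ ∀ Q : Sylow p (G ⧸ Cfsg.pCore p G), IsMulCommutative (Q : Subgroup (G ⧸ Cfsg.pCore p G)) := by
  obtain ⟨x, h⟩ := exists_twoClass χ hχ
  obtain ⟨p, hp, hord, hNp⟩ := gag_prime h hG
  haveI : Fact p.Prime := ⟨hp⟩
  have hxN : x ∈ h.support hG := h.x_nz
  have hxo : orderOf x = p := hord x hxN h.x_ne
  refine ⟨p, hp, ?_, ?_⟩
  · intro q hq
    haveI : Fact q.Prime := ⟨hq⟩
    constructor
    · intro hne
      have hle := h.support_le hG (Cfsg.pCore q G) (Cfsg.pCore_normal q G) hne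
      have hxq : x ∈ Cfsg.pCore q G := hle hxN
      obtain ⟨k, hk⟩ := (Cfsg.Agent.Helper9.pCore_isPGroup' q G) ⟨x, hxq⟩
      have hk' : x ^ q ^ k = 1 := by simpa using congrArg Subtype.val hk
      have hd : p ∣ q ^ k := hxo ▸ orderOf_dvd_of_pow_eq_one hk'
      have hpq : p ∣ q := hp.dvd_of_dvd_pow hd
      exact ((Nat.prime_dvd_prime_iff_eq hp hq).mp hpq).symm
    · rintro rfl
      intro hbot
      haveI : (h.support hG).Normal := h.support_normal hG
      have hle : h.support hG ≤ Cfsg.pCore q G :=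
        Cfsg.Agent.Helper14.le_pCore (h.support_normal hG) hNp
      rw [hbot] at hle
      exact h.support_ne_bot hG (eq_bot_iff.mpr hle)
  · obtain ⟨inst, hT⟩ := gag_tlin h hG p hord hNp
    exact @main_X p (G ⧸ Cfsg.pCore p G) (h.support hG) _ _ inst _ _ _ _ hT

end Cfsg.Agent.S4840
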