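import Cfsg.Statements.S4843
import Cfsg.Agent.Lib.Helper22.FC3
import Cfsg.Agent.Lib.Lead.FitCenB
import Cfsg.Agent.Lib.Helper11.FitCenA

set_option autoImplicit false
set_option linter.unusedSectionVars false
set_option linter.unusedVariables false
set_option linter.style.haveILetI false
open Cfsg

namespace Cfsg.Agent.S4843

open Cfsg.Agent Cfsg.Agent.Helper24 Cfsg.Agent.Helper22.FitCen

/-- The centre is contained in the Fitting subgroup. -/
theorem center_le_fitting {G : Type*} [Group G] : Subgroup.center G ≤ Cfsg.fittingSubgroup G := by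
  unfold Cfsg.fittingSubgroup
  apply le_sSup
  refine ⟨inferInstance, ?_⟩
  letI : CommGroup (Subgroup.center G) :=
    { (inferInstance : Group (Subgroup.center G)) with
      mul_comm := fun a b => Subtype.ext (Subgroup.mem_center_iff.mp b.2 a) }
  exact CommGroup.isNilpotent

/-- The main step: under the hypotheses every nilpotent normal subgroup is central. -/
theorem normal_nilpotent_le_center {G : Type*} [Group G] [Finite G] (χ : Cfsg.IrrCharacter G)
    (hfaith : ∀ g : G, (χ : G → ℂ) g = (χ : G → ℂ) 1 → g = 1) (k : ℕ)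
    (hk : Nat.Coprime k (Nat.card G))
    (hirr : Cfsg.IsIrrCharacter G (fun g => (χ : G → ℂ) g * (χ : G → ℂ) (g ^ k)))
    (N : Subgroup G) (hNn : N.Normal) (hNnil : Group.IsNilpotent N) :
    N ≤ Subgroup.center G := by
  classical
  letI := Fintype.ofFinite G
  by_contra hNZ
  haveI := hNn
  obtain ⟨U, hUn, hUZ, hUU, hmin⟩ :=
    Cfsg.Agent.Helper11.FitCenA.exists_min_noncentral N hNnil hNZ
  haveI := hUn
  letI : Fintype U := Fintype.ofFinite U
  by_cases hab : ∀ a ∈ U, ∀ b ∈ U, a * b = b * a
  · refine hUZ (Helper18.Winter.le_center_of_normal_abelian χ.2 hfaith ?_ U hab)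
    intro N' _ _ ϑ hϑ hcon
    exact inertia_eq_top_of_irr_mul_tw χ.2 hk hirr N' ϑ hϑ hcon
  · -- the class two case
    have hZU : ∀ u ∈ U, (∀ v ∈ U, u * v = v * u) → u ∈ Subgroup.center G := by
      have hMn : (U ⊓ Subgroup.centralizer (U : Set G)).Normal := inferInstance
      have hMlt : U ⊓ Subgroup.centralizer (U : Set G) < U := by
        refine lt_of_le_of_ne inf_le_left (fun h => hab ?_)
        intro a ha b hb
        have h1 : b ∈ U ⊓ Subgroup.centralizer (U : Set G) := by rw [h]; exact hb
        exact Subgroup.mem_centralizer_iff.mp h1.2 a ha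
      intro u hu hcomm
      apply hmin _ hMn hMlt
      refine ⟨hu, ?_⟩
      change u ∈ Subgroup.centralizer (U : Set G)
      rw [Subgroup.mem_centralizer_iff]
      intro v hv
      exact (hcomm v hv).symm
    obtain ⟨ω, hωinj, hω⟩ := exists_central_hom χ.2 hfaith
    have hk' : Nat.Coprime k (Fintype.card G) := by rwa [← Nat.card_eq_fintype_card]
    have hlt := Cfsg.Agent.Lead.FitCenB.sum_theta_gt U hUU hZU hUZ ω hωinj k hk'
      (theta (χ : G → ℂ)) (theta_nonneg _) (theta_one_pos χ.2) (theta_conj χ.2)
      (fun g z hz => theta_mul_central χ.2 ω hω g z hz)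
      (fun g v _ hz hne => theta_bad χ.2 ω hωinj hω g v hz hne)
    exact caseB_contra U χ.2 hk hirr hlt

/-- Let G be a finite group with a faithful irreducible character χ (taking the value χ(1) only at the identity) and let k be prime to the order of G, so that g ↦ χ(g^k) is a Galois conjugate of χ. If the pointwise product g ↦ χ(g)·χ(g^k) is again an irreducible character, then the Fitting subgroup of G equals its centre. -/
theorem result {G : Type*} [Group G] [Finite G] (χ : Cfsg.IrrCharacter G) (hfaith : ∀ g : G, (χ : G → ℂ) g = (χ : G → ℂ) 1 → g = 1) (k : ℕ) (hk : Nat.Coprime k (Nat.card G)) (hirr : Cfsg.IsIrrCharacter G (fun g => (χ : G → ℂ) g * (χ : G → ℂ) (g ^ k))) : Cfsg.fittingSubgroup G = Subgroup.center G := by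
  apply le_antisymm
  · unfold Cfsg.fittingSubgroup
    apply sSup_le
    rintro N ⟨hNn, hNnil⟩
    exact normal_nilpotent_le_center χ hfaith k hk hirr N hNn hNnil
  · exact center_le_fitting

end Cfsg.Agent.S4843
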