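import Mathlib
import Cfsg.Statements.S4859
import Cfsg.Agent.Lib.Helper24.FrobeniusSchur

set_option autoImplicit false
open Cfsg

namespace Cfsg.Agent.S4859

open Cfsg.Agent.Helper24
open scoped ComplexConjugate

universe u

section

variable {G : Type u} [Group G] [Finite G]

/-- `x * y` is not a square. -/
theorem not_square (p : ℕ) [Fact p.Prime] (hp : p ≠ 2) (x : G)
    (hx : ∃ k : ℕ, orderOf x = p ^ k)
    (heven : Even (Nat.card (Subgroup.centralizer ({x} : Set G)))) (y : G)
    (hy : y ∈ Subgroup.centralizer ({x} : Set G)) (hy2 : ∃ k : ℕ, orderOf y = 2 ^ k)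
    (hmax : ∀ z ∈ Subgroup.centralizer ({x} : Set G), (∃ k : ℕ, orderOf z = 2 ^ k) →
      orderOf z ≤ orderOf y) : ¬ ∃ u : G, u * u = x * y := by
  have hpp : p.Prime := Fact.out
  rintro ⟨u, hu⟩
  obtain ⟨k, hk⟩ := hx
  obtain ⟨j, hj⟩ := hy2
  have hxy : Commute y x := Subgroup.mem_centralizer_singleton_iff.mp hy
  -- j ≥ 1
  have hj1 : 1 ≤ j := by
    haveI : Fact (Nat.Prime 2) := ⟨Nat.prime_two⟩
    obtain ⟨z, hz⟩ := exists_prime_orderOf_dvd_card' 2 heven.two_dvd
    have h1 := hmax z.1 z.2 ⟨1, by rw [Subgroup.orderOf_coe, hz, pow_one]⟩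
    rw [Subgroup.orderOf_coe, hz, hj] at h1
    by_contra hcon
    have : j = 0 := by omega
    rw [this] at h1
    omega
  have hcop : Nat.Coprime (2 ^ j) (p ^ k) := by
    apply Nat.Coprime.pow
    rw [Nat.coprime_primes Nat.prime_two hpp]
    exact fun h => hp h.symm
  -- u commutes with x
  have hux : Commute u x := by
    have h1 : Commute u (x * y) := by
      rw [← hu]; exact (Commute.refl u).mul_right (Commute.refl u)
    have h2 : Commute u ((x * y) ^ (2 ^ j)) := h1.pow_right _
    rw [hxy.symm.mul_pow, ← hj, pow_orderOf_eq_one, mul_one] at h2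
    obtain ⟨m, hm⟩ := exists_pow_eq_self_of_coprime (x := x) (n := orderOf y)
      (by rw [hj, hk]; exact hcop)
    rw [← hm]
    exact h2.pow_right _
  set w := u ^ (p ^ k) with hw
  have hwx : Commute w x := hux.pow_left _
  have hw2 : w ^ 2 = y ^ (p ^ k) := by
    rw [hw, ← pow_mul, mul_comm, pow_mul, pow_two, hu, hxy.symm.mul_pow, ← hk,
      pow_orderOf_eq_one, one_mul]
  have ho2 : orderOf (w ^ 2) = 2 ^ j := by
    rw [hw2, Nat.Coprime.orderOf_pow (by rw [hj]; exact hcop), hj]
  have ho : orderOf w = 2 ^ (j + 1) := by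
    have h1 := orderOf_pow' w (n := 2) (by norm_num)
    rw [ho2] at h1
    have hpos : 0 < orderOf w := orderOf_pos w
    rcases Nat.even_or_odd (orderOf w) with he | hodd
    · have h2dvd : 2 ∣ orderOf w := he.two_dvd
      have hg : Nat.gcd (orderOf w) 2 = 2 := Nat.gcd_eq_right h2dvd
      rw [hg] at h1
      have : orderOf w = 2 * 2 ^ j := by
        rw [h1]
        exact (Nat.mul_div_cancel' h2dvd).symm
      rw [this, pow_succ]; ring
    · exfalso
      have hg : Nat.gcd (orderOf w) 2 = 1 := Nat.coprime_two_right.mpr hodd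
      rw [hg, Nat.div_one] at h1
      rw [← h1] at hodd
      have : Even (2 ^ j) := (Nat.even_pow.mpr ⟨even_two, by omega⟩)
      exact (Nat.not_even_iff_odd.mpr hodd) this
  have hmem : w ∈ Subgroup.centralizer ({x} : Set G) :=
    Subgroup.mem_centralizer_singleton_iff.mpr hwx
  have := hmax w hmem ⟨j + 1, ho⟩
  rw [ho, hj] at this
  have h2 : 2 ^ j < 2 ^ (j + 1) := Nat.pow_lt_pow_right (by norm_num) (by omega)
  omega

/-- If `g` has no square root, some nonprincipal real-valued irreducible character does not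
vanish at `g`. -/
theorem exists_real_of_not_square [Fintype G] (g : G) (hg : ¬ ∃ u : G, u * u = g) :
    ∃ χ : IrrCharacter G, ¬ ((χ : G → ℂ) = fun _ => (1 : ℂ)) ∧
      (∀ h : G, ((χ : G → ℂ) h).im = 0) ∧ (χ : G → ℂ) g ≠ 0 := by
  classical
  letI : Fintype (IrrCharacter G) := irrFintype
  have hsum := sum_fsInd_mul g
  have h0 : sqrtCount g = 0 := by
    unfold sqrtCount
    apply Finset.sum_eq_zero
    intro u _
    rw [if_neg]
    exact fun h => hg ⟨u, h⟩
  rw [h0] at hsum
  by_contra hcon
  push Not at hcon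
  have hterm : ∀ χ : IrrCharacter G, χ ≠ principalChar G →
      fsInd (χ : G → ℂ) * (χ : G → ℂ) g = 0 := by
    intro χ hχ
    by_cases hν : fsInd (χ : G → ℂ) = 0
    · rw [hν, zero_mul]
    · have hreal := (fsInd_ne_zero_iff χ.2).mp hν
      have h1 : ¬ ((χ : G → ℂ) = fun _ => (1 : ℂ)) := by
        intro h
        apply hχ
        exact Subtype.ext h
      have h2 : ∀ h : G, ((χ : G → ℂ) h).im = 0 := fun h =>
        Complex.conj_eq_iff_im.mp (hreal h)
      rw [hcon χ h1 h2, mul_zero]
  rw [Finset.sum_eq_single (principalChar G) (fun χ _ hχ => hterm χ hχ)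
    (fun h => absurd (Finset.mem_univ _) h)] at hsum
  have h1 : fsInd ((principalChar G : IrrCharacter G) : G → ℂ) = 1 := by
    unfold fsInd
    have hcard : (Nat.card G : ℂ) ≠ 0 := by exact_mod_cast (Nat.card_pos (α := G)).ne'
    simp only [principalChar, Finset.sum_const, Finset.card_univ, nsmul_eq_mul, mul_one]
    rw [← Nat.card_eq_fintype_card]
    exact inv_mul_cancel₀ hcard
  rw [h1] at hsum
  simp [principalChar] at hsum

end

/-- Let p be an odd prime, G a finite group and x an element of G whose order is a power of p (possibly 1) and whose centralizer has even order. Let y be a 2-element of the centralizer of x whose order is largest among the 2-elements of that centralizer. Then x * y is not a square in G, and some non-principal real-valued irreducible character of G does not vanish at x * y. -/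
theorem result {G : Type*} [Group G] [Finite G] (p : ℕ) [Fact p.Prime] (hp : p ≠ 2) (x : G) (hx : ∃ k : ℕ, orderOf x = p ^ k) (heven : Even (Nat.card (Subgroup.centralizer ({x} : Set G)))) (y : G) (hy : y ∈ Subgroup.centralizer ({x} : Set G)) (hy2 : ∃ k : ℕ, orderOf y = 2 ^ k) (hmax : ∀ z ∈ Subgroup.centralizer ({x} : Set G), (∃ k : ℕ, orderOf z = 2 ^ k) → orderOf z ≤ orderOf y) : (¬ ∃ u : G, u * u = x * y) ∧ ∃ χ : Cfsg.IrrCharacter G, ¬ ((χ : G → ℂ) = fun _ => (1 : ℂ)) ∧ (∀ g : G, ((χ : G → ℂ) g).im = 0) ∧ (χ : G → ℂ) (x * y) ≠ 0 := by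
  have h1 := not_square p hp x hx heven y hy hy2 hmax
  haveI : Fintype G := Fintype.ofFinite G
  exact ⟨h1, exists_real_of_not_square (x * y) h1⟩

end Cfsg.Agent.S4859
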