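import Mathlib
import Cfsg.Statements.S4864
import Cfsg.Agent.Lib.Helper24.RealNormD
import Cfsg.Agent.Lib.Helper24.RealPrimeH
import Cfsg.Agent.Lib.Helper24.CharQuotient
-- import your own Cfsg.Agent.* helpers here

set_option autoImplicit false
open Cfsg

namespace Cfsg.Agent.S4864

/-- Let p be a prime and G a finite group such that the subgroup generated by the p-elements of G is solvable and every real-valued irreducible complex character of G has degree prime to p. Then the normalizer of a Sylow p-subgroup of G contains an element of every real conjugacy class of G: every element conjugate to its inverse is conjugate to an element of that normalizer. -/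
theorem result {G : Type*} [Group G] [Finite G] (p : ℕ) [Fact p.Prime] (hsolv : Group.IsSolvable ↥(Subgroup.closure {g : G | ∃ k : ℕ, orderOf g = p ^ k})) (hreal : ∀ χ : Cfsg.IrrCharacter G, (∀ g : G, ((χ : G → ℂ) g).im = 0) → ¬ p ∣ Cfsg.charDegree (χ : G → ℂ)) (P : Sylow p G) (x : G) (hx : IsConj x x⁻¹) : ∃ y ∈ Subgroup.normalizer ((P : Subgroup G) : Set G), IsConj x y := by
  classical
  have hKn := Cfsg.Agent.Helper24.RealP.closure_pow_normal (G := G) 2
  set K : Subgroup G := Subgroup.closure {g : G | ∃ k : ℕ, orderOf g = 2 ^ k} with hKdef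
  have hKodd : Odd K.index := by
    rw [← Nat.not_even_iff_odd, even_iff_two_dvd]
    exact Cfsg.Agent.Helper24.RealP.not_dvd_index_closure (G := G) 2
  -- an inverting element inside `K`
  obtain ⟨g₀, hg₀⟩ := isConj_iff.mp hx
  have hpow : ∀ j : ℕ, g₀ ^ (2 * j + 1) * x * (g₀ ^ (2 * j + 1))⁻¹ = x⁻¹ := by
    intro j
    induction j with
    | zero => simpa using hg₀
    | succ j ih =>
      have e : g₀ ^ (2 * (j + 1) + 1) = g₀ * g₀ * g₀ ^ (2 * j + 1) := by
        rw [show 2 * (j + 1) + 1 = 2 + (2 * j + 1) by ring, pow_add, pow_two]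
      have e2 : g₀ * g₀ * g₀ ^ (2 * j + 1) * x * (g₀ * g₀ * g₀ ^ (2 * j + 1))⁻¹ =
          g₀ * (g₀ * (g₀ ^ (2 * j + 1) * x * (g₀ ^ (2 * j + 1))⁻¹) * g₀⁻¹) * g₀⁻¹ := by group
      rw [e, e2, ih]
      have e3 : g₀ * x⁻¹ * g₀⁻¹ = x := by
        have h5 : (g₀ * x * g₀⁻¹)⁻¹ = x := by rw [hg₀, inv_inv]
        calc g₀ * x⁻¹ * g₀⁻¹ = (g₀ * x * g₀⁻¹)⁻¹ := by group
          _ = x := h5
      rw [e3, hg₀]
  obtain ⟨j, hj⟩ := hKodd
  set t : G := g₀ ^ K.index with ht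
  have htK : t ∈ K := Subgroup.pow_index_mem K g₀
  have htx : t * x * t⁻¹ = x⁻¹ := by
    rw [ht, hj]
    exact hpow j
  have hKodd : Odd K.index := ⟨j, hj⟩
  have hxK : x ∈ K := by
    apply Cfsg.Agent.Helper24.OddReal.mem_of_sq_mem K hKodd
    have h1 : x⁻¹ * x⁻¹ ∈ K := by
      have e : x⁻¹ * x⁻¹ = t * (x * t⁻¹ * x⁻¹) := by
        rw [← htx]; group
      rw [e]
      exact K.mul_mem htK (hKn.conj_mem _ (K.inv_mem htK) x)
    have := K.inv_mem h1
    simpa using this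
  -- the normal Sylow `p`-subgroup of `K`
  obtain ⟨Q, hQ⟩ := Cfsg.Agent.Helper24.SylIn.exists_isSylIn p K
  have hgood := Cfsg.Agent.Helper24.RealP.good_all p (Nat.card G) G rfl
  have hQn : Q.Normal := by
    apply hgood _ (Cfsg.Agent.Helper24.RealP.closure_pow_normal p) hsolv
      (Cfsg.Agent.Helper24.RealP.not_dvd_index_closure p) hreal K 0 hKn
      (fun g hg => Subgroup.subset_closure hg) ?_ Q hQ.le hQ.isPGroup hQ.not_dvd_relIndex
    intro u hu
    simpa using hu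
  have hQP : Q ≤ (P : Subgroup G) := hQ.isPGroup.le_sylow_of_normal P
  -- pass to the quotient
  set π : G →* G ⧸ Q := QuotientGroup.mk' Q with hπ
  have hsurj : Function.Surjective π := QuotientGroup.mk'_surjective Q
  have hker : π.ker = Q := QuotientGroup.ker_mk' Q
  have hKbn : (K.map π).Normal := hKn.map π hsurj
  have hKbcard : ¬ p ∣ Nat.card (K.map π) := by
    have h1 := Subgroup.relIndex_map_map π Q K
    rw [hker, sup_idem, sup_eq_left.mpr hQ.le] at h1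
    have h2 : Q.map π = ⊥ := by
      rw [Subgroup.map_eq_bot_iff, hker]
    rw [h2, Subgroup.relIndex_bot_left] at h1
    rw [h1]
    exact hQ.not_dvd_relIndex
  have hKbodd : Odd (K.map π).index := Odd.of_dvd_nat hKodd (Subgroup.index_map_dvd K hsurj)
  have hrealb : ∀ χ : Cfsg.IrrCharacter (G ⧸ Q), (∀ g, ((χ : G ⧸ Q → ℂ) g).im = 0) →
      ¬ p ∣ Cfsg.charDegree (χ : G ⧸ Q → ℂ) := by
    intro χ hχ
    have h1 := hreal ⟨(χ : G ⧸ Q → ℂ) ∘ (QuotientGroup.mk : G → G ⧸ Q),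
      Cfsg.Agent.Helper24.isIrrCharacter_inflate Q χ.2⟩ (fun g => hχ _)
    rw [Cfsg.Agent.Helper24.charDegree_inflate] at h1
    exact h1
  have hxb : π x ∈ K.map π := Subgroup.mem_map_of_mem π hxK
  have htb : π t ∈ K.map π := Subgroup.mem_map_of_mem π htK
  have hconj : IsConj (⟨π x, hxb⟩ : ↥(K.map π)) (⟨π x, hxb⟩ : ↥(K.map π))⁻¹ := by
    apply isConj_iff.mpr
    refine ⟨⟨π t, htb⟩, ?_⟩
    apply Subtype.ext
    show π t * π x * (π t)⁻¹ = (π x)⁻¹
    rw [← map_inv, ← map_mul, ← map_mul, htx, map_inv]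
  obtain ⟨gb, hgb⟩ := Cfsg.Agent.Helper24.RealNorm.exists_conj_fixed p (K.map π) hKbcard hKbodd
    (P.mapSurjective hsurj) hrealb ⟨π x, hxb⟩ hconj
  obtain ⟨g, rfl⟩ := hsurj gb
  refine ⟨g * x * g⁻¹, ?_, isConj_iff.mpr ⟨g, rfl⟩⟩
  apply Cfsg.Agent.Helper24.RealNorm.mem_normalizer_of_conj_mem
  intro u hu
  have hu' : u⁻¹ ∈ (P : Subgroup G) := Subgroup.inv_mem _ hu
  have h1 := hgb (π u⁻¹) (by
    show π u⁻¹ ∈ ((P.mapSurjective hsurj : Sylow p (G ⧸ Q)) : Subgroup (G ⧸ Q))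
    rw [Sylow.coe_mapSurjective]
    exact Subgroup.mem_map_of_mem π hu')
  have h2 : π (u⁻¹ * (g * x * g⁻¹) * u⁻¹⁻¹ * (g * x * g⁻¹)⁻¹) = 1 := by
    have : π (u⁻¹ * (g * x * g⁻¹) * u⁻¹⁻¹) = π (g * x * g⁻¹) := by
      simp only [map_mul, map_inv] at h1 ⊢
      exact h1
    rw [map_mul, this, ← map_mul, mul_inv_cancel, map_one]
  have h3 : u⁻¹ * (g * x * g⁻¹) * u⁻¹⁻¹ * (g * x * g⁻¹)⁻¹ ∈ Q := by
    rw [← hker]
    exact h2
  have h4 := Subgroup.mul_mem _ hu (hQP h3)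
  have e : u * (u⁻¹ * (g * x * g⁻¹) * u⁻¹⁻¹ * (g * x * g⁻¹)⁻¹) =
      g * x * g⁻¹ * u * (g * x * g⁻¹)⁻¹ := by group
  rw [e] at h4
  exact h4

end Cfsg.Agent.S4864
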