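import Mathlib
import Cfsg.Statements.S4866
import Cfsg.Agent.Lib.Helper24.CharConj
import Cfsg.Agent.Lib.Helper24.CharBrauerPerm
import Cfsg.Agent.Lib.Helper24.GroupLemmas

set_option autoImplicit false
open Cfsg

namespace Cfsg.Agent.S4866

open Cfsg.Agent.Helper24
open scoped ComplexConjugate

universe u

theorem card_pairs_eq_sum {α β : Type*} [Fintype α] [Finite β] (P : α → β → Prop) :
    Nat.card {p : α × β // P p.1 p.2} = ∑ a, Nat.card {b // P a b} := by
  rw [← Nat.card_sigma]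
  exact Nat.card_congr (Equiv.subtypeProdEquivSigmaSubtype P)

section

variable {G : Type u} [Group G] (K : Subgroup G) [K.Normal]

/-- If `g` inverts `k` by conjugation then so does every odd power of `g`. -/
theorem conj_pow_odd_inv {g k : G} (h : g * k * g⁻¹ = k⁻¹) {m : ℕ} (hm : Odd m) :
    g ^ m * k * (g ^ m)⁻¹ = k⁻¹ := by
  have h2 : g ^ 2 * k * (g ^ 2)⁻¹ = k := by
    have : g ^ 2 * k * (g ^ 2)⁻¹ = g * (g * k * g⁻¹) * g⁻¹ := by
      rw [pow_two]
      group
    rw [this, h]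
    have : g * k⁻¹ * g⁻¹ = (g * k * g⁻¹)⁻¹ := by group
    rw [this, h, inv_inv]
  have h3 : ∀ j : ℕ, (g ^ 2) ^ j * k * ((g ^ 2) ^ j)⁻¹ = k := by
    intro j
    induction j with
    | zero => simp
    | succ j ih =>
      have : (g ^ 2) ^ (j + 1) * k * ((g ^ 2) ^ (j + 1))⁻¹ =
          (g ^ 2) ^ j * (g ^ 2 * k * (g ^ 2)⁻¹) * ((g ^ 2) ^ j)⁻¹ := by
        rw [pow_succ]
        group
      rw [this, h2, ih]
  obtain ⟨j, rfl⟩ := hm
  have : g ^ (2 * j + 1) * k * (g ^ (2 * j + 1))⁻¹ =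
      (g ^ 2) ^ j * (g * k * g⁻¹) * ((g ^ 2) ^ j)⁻¹ := by
    rw [pow_succ, pow_mul]
    group
  rw [this, h]
  have : (g ^ 2) ^ j * k⁻¹ * ((g ^ 2) ^ j)⁻¹ = ((g ^ 2) ^ j * k * ((g ^ 2) ^ j)⁻¹)⁻¹ := by group
  rw [this, h3]

theorem conjFun_pow_odd {g : G} {θ : K → ℂ} (h2 : conjFun K (g * g) θ = θ) {m : ℕ}
    (hm : Odd m) : conjFun K (g ^ m) θ = conjFun K g θ := by
  have h3 : ∀ j : ℕ, conjFun K ((g * g) ^ j) θ = θ := by
    intro j
    induction j with
    | zero => simp
    | succ j ih => rw [pow_succ, conjFun_mul, h2, ih]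
  obtain ⟨j, rfl⟩ := hm
  have : g ^ (2 * j + 1) = g * (g * g) ^ j := by
    rw [pow_succ', pow_mul, pow_two]
  rw [this, conjFun_mul, h3]

theorem real_of_sig_fixed (hodd : Odd K.index) (g : G) {θ : K → ℂ}
    (hθ : IsClassFunction K θ) (h : ∀ k, conj (conjFun K g θ k) = θ k) :
    conjFun K g θ = θ ∧ ∀ k, conj (θ k) = θ k := by
  have h2 : conjFun K (g * g) θ = θ := by
    ext k
    rw [conjFun_mul, conjFun_apply K g (conjFun K g θ) k]
    have h1 := h (MulAut.conjNormal g⁻¹ k)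
    have h1' : conjFun K g θ (MulAut.conjNormal g⁻¹ k) = conj (θ (MulAut.conjNormal g⁻¹ k)) := by
      rw [← h1, Complex.conj_conj]
    rw [h1', ← conjFun_apply K g θ k, h k]
  have h3 := conjFun_pow_odd K h2 hodd
  rw [conjFun_of_mem K hθ (Subgroup.pow_index_mem K g)] at h3
  refine ⟨h3.symm, fun k => ?_⟩
  have := h k
  rwa [← h3] at this

end

section Main

variable {G : Type u} [Group G] (K : Subgroup G) [K.Normal]

/-- real-valued irreducible characters of `K` -/
abbrev RealIrr := {θ : IrrCharacter K // ∀ k : K, ((θ : K → ℂ) k).im = 0}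

/-- real elements of `K` -/
abbrev RealEl := {x : K // IsConj x x⁻¹}

instance realIrrAction : MulAction G (RealIrr K) where
  smul g θ := ⟨⟨conjFun K g θ.1.1, isIrrCharacter_conjFun K g θ.1.2⟩, fun _ => θ.2 _⟩
  one_smul θ := Subtype.ext (Subtype.ext (conjFun_one K θ.1.1))
  mul_smul g h θ := Subtype.ext (Subtype.ext (conjFun_mul K g h θ.1.1))

theorem realIrr_smul_coe (g : G) (θ : RealIrr K) :
    ((g • θ : RealIrr K).1 : K → ℂ) = conjFun K g θ.1.1 := rfl

instance realElAction : MulAction G (RealEl K) where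
  smul g x := ⟨MulAut.conjNormal g x.1, by
    have := (MulAut.conjNormal g : K ≃* K).toMonoidHom.map_isConj x.2
    simpa using this⟩
  one_smul x := by
    apply Subtype.ext
    show MulAut.conjNormal (1 : G) x.1 = x.1
    simp
  mul_smul g h x := by
    apply Subtype.ext
    show MulAut.conjNormal (g * h) x.1 = MulAut.conjNormal g (MulAut.conjNormal h x.1)
    simp [map_mul]

theorem realEl_smul_coe (g : G) (x : RealEl K) :
    (((g • x : RealEl K).1 : K) : G) = g * (x.1 : G) * g⁻¹ := by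
  show ((MulAut.conjNormal g x.1 : K) : G) = _
  rw [MulAut.conjNormal_apply]

theorem step1 :
    Nat.card (Quot (fun θ η : RealIrr K => ∃ g : G, ∀ k k' : K,
      (k' : G) = g * (k : G) * g⁻¹ → (η.1 : K → ℂ) k' = (θ.1 : K → ℂ) k)) * Nat.card G =
    Nat.card {p : G × RealIrr K // p.1 • p.2 = p.2} := by
  apply card_quot_mul_card_group
  intro θ η
  constructor
  · rintro ⟨g, hg⟩
    refine ⟨g, ?_⟩
    apply Subtype.ext
    apply Subtype.ext
    ext k'
    rw [realIrr_smul_coe, conjFun_apply]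
    apply hg
    rw [MulAut.conjNormal_apply]
    group
  · rintro ⟨g, rfl⟩
    refine ⟨g, fun k k' hk => ?_⟩
    rw [realIrr_smul_coe]
    exact conjFun_eq_of_eq K g _ hk

theorem step2 :
    Nat.card (Quot (fun x y : RealEl K => ∃ g : G, ((y.1 : K) : G) = g * x.1 * g⁻¹)) *
      Nat.card G =
    Nat.card {p : G × RealEl K // p.1 • p.2 = p.2} := by
  apply card_quot_mul_card_group
  intro x y
  constructor
  · rintro ⟨g, hg⟩
    refine ⟨g, ?_⟩
    apply Subtype.ext
    apply Subtype.ext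
    rw [realEl_smul_coe, hg]
  · rintro ⟨g, rfl⟩
    exact ⟨g, realEl_smul_coe K g x⟩

variable [Finite G]

/-- The map `θ ↦ conj (θ^g)` on irreducible characters of `K`. -/
noncomputable def sig (g : G) (θ : IrrCharacter K) : IrrCharacter K :=
  haveI : Fintype K := Fintype.ofFinite K
  letI : Fintype (IrrCharacter K) := irrFintype
  ⟨fun k => conj (conjFun K g θ.1 k), isIrrCharacter_conj (isIrrCharacter_conjFun K g θ.2)⟩

theorem sig_coe (g : G) (θ : IrrCharacter K) (k : K) :
    (sig K g θ : K → ℂ) k = conj (conjFun K g θ.1 k) := rfl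

/-- The map `k ↦ (g k g⁻¹)⁻¹` on `K`. -/
def tau (g : G) : K ≃ K := (MulAut.conjNormal g : K ≃* K).toEquiv.trans (Equiv.inv K)

theorem tau_apply (g : G) (k : K) : tau K g k = (MulAut.conjNormal g k)⁻¹ := rfl

theorem tau_coe (g : G) (k : K) : ((tau K g k : K) : G) = g * (k : G)⁻¹ * g⁻¹ := by
  rw [tau_apply, Subgroup.coe_inv, MulAut.conjNormal_apply]
  group

theorem sig_tau (g : G) (θ : IrrCharacter K) (k : K) :
    (sig K g θ : K → ℂ) (tau K g k) = (θ : K → ℂ) k := by
  rw [sig_coe, tau_apply,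
    irr_inv (isCharacter_conjFun K g (isCharacter_of_isIrrCharacter θ.2)), Complex.conj_conj,
    conjFun_conjNormal]

theorem step3 (hodd : Odd K.index) (g : G) :
    Nat.card {θ : RealIrr K // g • θ = θ} = Nat.card {θ : IrrCharacter K // sig K g θ = θ} := by
  apply Nat.card_congr
  refine ⟨fun θ => ⟨θ.1.1, ?_⟩, fun θ => ⟨⟨θ.1, ?_⟩, ?_⟩, ?_, ?_⟩
  · apply Subtype.ext
    ext k
    rw [sig_coe]
    have h1 : conjFun K g θ.1.1.1 = θ.1.1.1 := by
      have := θ.2
      exact congrArg (fun η : RealIrr K => (η.1 : K → ℂ)) this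
    rw [h1, Complex.conj_eq_iff_im]
    exact θ.1.2 k
  · intro k
    have h := real_of_sig_fixed K hodd g (isClassFunction_of_isIrrCharacter θ.1.2)
      (fun k => by rw [← sig_coe, θ.2])
    exact Complex.conj_eq_iff_im.mp (h.2 k)
  · have h := real_of_sig_fixed K hodd g (isClassFunction_of_isIrrCharacter θ.1.2)
      (fun k => by rw [← sig_coe, θ.2])
    apply Subtype.ext
    apply Subtype.ext
    exact h.1
  · intro θ
    rfl
  · intro θ
    rfl

theorem step5 [Fintype G] :
    ∑ g : G, Nat.card {p : K × K // p.2 * tau K g p.1 * p.2⁻¹ = p.1} =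
      Nat.card K * Nat.card {p : G × K // p.1 * ((p.2 : K) : G)⁻¹ * p.1⁻¹ = (p.2 : G)} := by
  rw [← card_pairs_eq_sum (fun (g : G) (p : K × K) => p.2 * tau K g p.1 * p.2⁻¹ = p.1),
    ← Nat.card_prod]
  apply Nat.card_congr
  refine ⟨fun t => ⟨t.1.2.2, ⟨((t.1.2.2 : K) : G) * t.1.1, t.1.2.1⟩, ?_⟩,
    fun t => ⟨⟨((t.1 : K) : G)⁻¹ * t.2.1.1, (t.2.1.2, t.1)⟩, ?_⟩, ?_, ?_⟩
  · obtain ⟨⟨g, k, y⟩, h⟩ := t
    have := congrArg (Subtype.val : K → G) h
    simp only [Subgroup.coe_mul, tau_coe, Subgroup.coe_inv] at this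
    show (y : G) * g * (k : G)⁻¹ * ((y : G) * g)⁻¹ = (k : G)
    calc (y : G) * g * (k : G)⁻¹ * ((y : G) * g)⁻¹
        = (y : G) * (g * (k : G)⁻¹ * g⁻¹) * (y : G)⁻¹ := by group
      _ = k := this
  · obtain ⟨y, ⟨g, k⟩, h⟩ := t
    apply Subtype.ext
    simp only [Subgroup.coe_mul, tau_coe, Subgroup.coe_inv]
    simp only at h
    calc (y : G) * ((y : G)⁻¹ * g * (k : G)⁻¹ * ((y : G)⁻¹ * g)⁻¹) * (y : G)⁻¹
        = g * (k : G)⁻¹ * g⁻¹ := by group
      _ = k := h
  · rintro ⟨⟨g, k, y⟩, h⟩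
    apply Subtype.ext
    simp
  · rintro ⟨y, ⟨g, k⟩, h⟩
    simp

omit [Finite G] in
theorem real_of_inverted (hodd : Odd K.index) {g : G} {k : K}
    (h : g * ((k : K) : G)⁻¹ * g⁻¹ = (k : G)) : IsConj k k⁻¹ := by
  have h1 : g * (k : G) * g⁻¹ = (k : G)⁻¹ := by
    have : g * (k : G) * g⁻¹ = (g * (k : G)⁻¹ * g⁻¹)⁻¹ := by group
    rw [this, h]
  have h2 := conj_pow_odd_inv h1 hodd
  refine isConj_iff.mpr ⟨⟨g ^ K.index, Subgroup.pow_index_mem K g⟩, ?_⟩
  apply Subtype.ext
  simpa using h2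

/-- A choice of inverting element for each real element. -/
noncomputable def inverter (k : K) : K := by
  classical
  exact if h : IsConj k k⁻¹ then Classical.choose (isConj_iff.mp h) else 1

omit [K.Normal] [Finite G] in
theorem inverter_spec {k : K} (h : IsConj k k⁻¹) :
    inverter K k * k * (inverter K k)⁻¹ = k⁻¹ := by
  unfold inverter
  rw [dif_pos h]
  exact Classical.choose_spec (isConj_iff.mp h)

omit [K.Normal] [Finite G] in
theorem inverter_spec' {k : K} (h : IsConj k k⁻¹) :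
    ((inverter K k : K) : G) * (k : G) * ((inverter K k : K) : G)⁻¹ = (k : G)⁻¹ := by
  have := congrArg (Subtype.val : K → G) (inverter_spec K h)
  simpa using this

omit [Finite G] in
theorem step6 (hodd : Odd K.index) :
    Nat.card {p : G × K // p.1 * ((p.2 : K) : G)⁻¹ * p.1⁻¹ = (p.2 : G)} =
      Nat.card {p : G × RealEl K // p.1 • p.2 = p.2} := by
  apply Nat.card_congr
  refine ⟨fun t => ⟨(t.1.1 * (inverter K t.1.2 : K), ⟨t.1.2, real_of_inverted K hodd t.2⟩), ?_⟩,
    fun t => ⟨(t.1.1 * ((inverter K t.1.2.1 : K) : G)⁻¹, t.1.2.1), ?_⟩, ?_, ?_⟩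
  · obtain ⟨⟨g, k⟩, h⟩ := t
    apply Subtype.ext
    apply Subtype.ext
    rw [realEl_smul_coe]
    have hs := inverter_spec' K (real_of_inverted K hodd h)
    simp only at h ⊢
    calc g * ((inverter K k : K) : G) * (k : G) * (g * ((inverter K k : K) : G))⁻¹
        = g * (((inverter K k : K) : G) * (k : G) * ((inverter K k : K) : G)⁻¹) * g⁻¹ := by group
      _ = k := by rw [hs, h]
  · obtain ⟨⟨g, ⟨k, hk⟩⟩, h⟩ := t
    have hs := inverter_spec' K hk
    have h' : g * (k : G) * g⁻¹ = k := by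
      have := congrArg (fun x : RealEl K => ((x.1 : K) : G)) h
      simp only [realEl_smul_coe] at this
      exact this
    simp only
    have h3 : ((inverter K k : K) : G)⁻¹ * (k : G)⁻¹ * ((inverter K k : K) : G) = (k : G) := by
      rw [← hs]
      group
    calc g * ((inverter K k : K) : G)⁻¹ * (k : G)⁻¹ * (g * ((inverter K k : K) : G)⁻¹)⁻¹
        = g * (((inverter K k : K) : G)⁻¹ * (k : G)⁻¹ * ((inverter K k : K) : G)) * g⁻¹ := by
          group
      _ = k := by rw [h3, h']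
  · rintro ⟨⟨g, k⟩, h⟩
    apply Subtype.ext
    simp
  · rintro ⟨⟨g, ⟨k, hk⟩⟩, h⟩
    apply Subtype.ext
    simp

end Main

/-- Let K be a normal subgroup of odd index in the finite group G. Then G has as many orbits on the real-valued irreducible complex characters of K (acting by conjugation) as it has orbits on the conjugacy classes of K that are real in K; equivalently, the number of G-orbits of real-valued irreducible characters of K equals the number of G-conjugacy classes of elements of K that are conjugate in K to their inverses. -/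
theorem result {G : Type*} [Group G] [Finite G] (K : Subgroup G) [K.Normal] (hodd : Odd K.index) : Nat.card (Quot (fun θ η : {θ : Cfsg.IrrCharacter ↥K // (∀ k : ↥K, ((θ : ↥K → ℂ) k).im = 0)} => ∃ g : G, ∀ k k' : ↥K, (k' : G) = g * (k : G) * g⁻¹ → (η.1 : ↥K → ℂ) k' = (θ.1 : ↥K → ℂ) k)) = Nat.card (Quot (fun x y : {x : ↥K // IsConj x x⁻¹} => ∃ g : G, (y.1 : G) = g * x.1 * g⁻¹)) := by
  classical
  haveI : Fintype G := Fintype.ofFinite G
  haveI : Fintype K := Fintype.ofFinite K
  letI : Fintype (IrrCharacter K) := irrFintype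
  have h1 := step1 K
  have h2 := step2 K
  have hG : 0 < Nat.card G := Nat.card_pos
  have hK : 0 < Nat.card K := Nat.card_pos
  have h3 : Nat.card {p : G × RealIrr K // p.1 • p.2 = p.2} * Nat.card K =
      Nat.card K * Nat.card {p : G × RealEl K // p.1 • p.2 = p.2} := by
    rw [card_pairs_eq_sum (fun (g : G) (θ : RealIrr K) => g • θ = θ), Finset.sum_mul,
      ← step6 K hodd, ← step5 K]
    refine Finset.sum_congr rfl fun g _ => ?_
    rw [step3 K hodd g]
    exact brauer_permutation_count (sig K g) (tau K g) (sig_tau K g)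
  rw [← h1, ← h2] at h3
  have h4 : Nat.card (Quot (fun θ η : RealIrr K => ∃ g : G, ∀ k k' : K,
      (k' : G) = g * (k : G) * g⁻¹ → (η.1 : K → ℂ) k' = (θ.1 : K → ℂ) k)) * (Nat.card G * Nat.card K) =
      Nat.card (Quot (fun x y : RealEl K => ∃ g : G, ((y.1 : K) : G) = g * x.1 * g⁻¹)) *
        (Nat.card G * Nat.card K) := by
    calc _ = Nat.card (Quot (fun θ η : RealIrr K => ∃ g : G, ∀ k k' : K,
      (k' : G) = g * (k : G) * g⁻¹ → (η.1 : K → ℂ) k' = (θ.1 : K → ℂ) k)) * Nat.card G * Nat.card K := by ring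
      _ = _ := h3
      _ = _ := by ring
  exact Nat.eq_of_mul_eq_mul_right (Nat.mul_pos hG hK) h4

end Cfsg.Agent.S4866
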