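import Mathlib
import Cfsg.Statements.S4870
import Cfsg.Agent.Lib.Helper24.LinInduce

set_option autoImplicit false
set_option linter.style.haveILetI false
open Cfsg

namespace Cfsg.Agent.S4870

open Cfsg.Agent.Helper24 Cfsg.Agent.Helper24.LinInd Cfsg.Agent.Helper18

/-- If N is a non-abelian minimal normal subgroup and φ ∈ Irr(N) extends to its stabilizer I, then n₁(G) ≤ [G:I]·n_d(G) with d = φ(1)[G:I]. -/
theorem result {G : Type*} [Group G] [Finite G] (N : Subgroup G) (hN : N.Normal) (hN1 : N ≠ ⊥) (hmin : ∀ M : Subgroup G, M.Normal → M ≤ N → M = ⊥ ∨ M = N) (hna : ¬ IsMulCommutative ↥N) (φ : Cfsg.IrrCharacter ↥N) (I : Subgroup G) (hI : ∀ g : G, g ∈ I ↔ ∀ n n' : ↥N, (n' : G) = g * (n : G) * g⁻¹ → (φ : ↥N → ℂ) n' = (φ : ↥N → ℂ) n) (hNI : N ≤ I) (hext : ∃ ψ : Cfsg.IrrCharacter ↥I, ∀ n : ↥N, (ψ : ↥I → ℂ) (Subgroup.inclusion hNI n) = (φ : ↥N → ℂ) n) : Nat.card {χ : Cfsg.IrrCharacter G // Cfsg.charDegree (χ : G → ℂ) = 1} ≤ I.index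 * Nat.card {χ : Cfsg.IrrCharacter G // Cfsg.charDegree (χ : G → ℂ) = Cfsg.charDegree (φ : ↥N → ℂ) * I.index} := by
  classical
  haveI := hN
  letI : Fintype G := Fintype.ofFinite G
  obtain ⟨ψ, hψ⟩ := hext
  have hIiff : ∀ g : G, g ∈ I ↔ Cfsg.Agent.Helper5.conjFun N g (φ : N → ℂ) = (φ : N → ℂ) := by
    intro g
    rw [hI]
    constructor
    · intro h
      funext n
      rw [Cfsg.Agent.Helper5.conjFun_apply]
      exact h n _ rfl
    · intro h n n' hn'
      have := congrFun h n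
      rw [Cfsg.Agent.Helper5.conjFun_apply] at this
      rw [← this]
      apply congrArg (φ : N → ℂ)
      exact Subtype.ext hn'
  have hIle : inertia N (φ : N → ℂ) ≤ I := by
    intro g hg
    rw [hIiff]
    exact (mem_inertia N _ g).mp hg
  exact card_linear_le N φ.2 I hNI hIle (fun g hg => (hIiff g).mp hg) ψ.2
    (fun n => hψ n) (le_ker_of_minimal N hmin hna)

end Cfsg.Agent.S4870
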