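import Mathlib
import Cfsg.Statements.S4871
import Cfsg.Agent.Lib.Helper24.AcdSemi
import Cfsg.Agent.S0169

set_option autoImplicit false
set_option linter.style.haveILetI false
open Cfsg

namespace Cfsg.Agent.S4871

open Cfsg.Agent.Helper24 Cfsg.Agent.Helper24.AcdSemi Cfsg.Agent.Helper24.SemiTwo
open scoped ComplexConjugate

/-- The finsum form of the Frobenius–Schur indicator. -/
theorem finsum_eq_fsInd {X : Type*} [Group X] [Fintype X] (α : X → ℂ) :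
    (Nat.card X : ℂ)⁻¹ * ∑ᶠ g : X, α (g * g) = fsInd α := by
  unfold fsInd
  rw [finsum_eq_sum_of_fintype]

/-- For G = N ⋊ P, N elementary abelian of odd order the unique minimal normal subgroup, P ≠ 1 a 2-group: acd_{2,+}(G) ≥ 4/3. -/
theorem result {G : Type*} [Group G] [Finite G] (N P : Subgroup G) (hN : N.Normal) (q : ℕ) [Fact q.Prime] (hq : q ≠ 2) (hNel : Cfsg.IsElementaryAbelian q N) (hP : IsPGroup 2 ↥P) (hP1 : P ≠ ⊥) (hdisj : N ⊓ P = ⊥) (hprod : N ⊔ P = ⊤) (hmin : N ≠ ⊥ ∧ ∀ M : Subgroup G, M.Normal → M ≠ ⊥ → N ≤ M) : 4 * Nat.card {χ : Cfsg.IrrCharacter G // (Cfsg.charDegree (χ : G → ℂ) = 1 ∨ 2 ∣ Cfsg.charDegree (χ : G → ℂ)) ∧ (Nat.card G : ℂ)⁻¹ * ∑ᶠ g : G, (χ : G → ℂ) (g * g) = 1} ≤ 3 * (∑ᶠ χ : {χ : Cfsg.IrrCharacter G // (Cfsg.charDegree (χ : G → ℂ) = 1 ∨ 2 ∣ Cfsg.charDegree (χ : G → ℂ)) ∧ (Nat.card G : ℂ)⁻¹ * ∑ᶠ g : G, (χ : G → ℂ) (g * g) = 1}, Cfsg.charDegree (χ.1 : G → ℂ))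 := by
  classical
  haveI := hN
  letI : Fintype G := Fintype.ofFinite G
  letI : Fintype P := Fintype.ofFinite P
  letI := irrFintype (G := G)
  have hqodd : Odd q := (Fact.out : q.Prime).odd_of_ne_two hq
  have hNc : ∀ a ∈ N, ∀ b ∈ N, a * b = b * a := by
    intro a ha b hb
    have h := hNel.1.is_comm.comm (⟨a, ha⟩ : N) ⟨b, hb⟩
    exact congrArg Subtype.val h
  obtain ⟨t, htP, ht1, htt, htc, hinv⟩ := exists_inverting N P hNc hP hP1 hdisj hprod hmin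
  have hPtop : P ≠ ⊤ := by
    intro h
    apply hmin.1
    rw [← hdisj, h, inf_top_eq]
  obtain ⟨χ₀, hν0, hin0, hd0⟩ := exists_chi0 N P q hqodd hNel.2 hprod hPtop t htP hinv
  -- degrees
  have hcompl : Subgroup.IsComplement' P N := by
    apply Subgroup.isComplement'_of_disjoint_and_mul_eq_univ
    · rw [disjoint_iff, inf_comm]; exact hdisj
    · rw [← Subgroup.mul_normal, sup_comm, hprod]; rfl
  have hidx : N.index = Nat.card P := hcompl.index_eq_card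
  obtain ⟨k, hk⟩ := IsPGroup.iff_card.mp hP
  have hdeg : ∀ χ : IrrCharacter G, charDegree (χ : G → ℂ) = 1 ∨ 2 ∣ charDegree (χ : G → ℂ) := by
    intro χ
    have h := Cfsg.Agent.S0169.ito_aux (Nat.card G) G rfl N hNc χ χ.2
    rw [hidx, hk] at h
    obtain ⟨j, -, hj⟩ := (Nat.dvd_prime_pow Nat.prime_two).mp h
    rw [hj]
    rcases Nat.eq_zero_or_pos j with h0 | h0
    · left; rw [h0, pow_zero]
    · right; exact dvd_pow_self 2 h0.ne'
  have hmain := count_main N P q hqodd hNel.2 hprod t hinv hdeg χ₀ hν0 hin0 hd0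
  -- translate
  have hiff : ∀ χ : IrrCharacter G,
      ((Cfsg.charDegree (χ : G → ℂ) = 1 ∨ 2 ∣ Cfsg.charDegree (χ : G → ℂ)) ∧
        (Nat.card G : ℂ)⁻¹ * ∑ᶠ g : G, (χ : G → ℂ) (g * g) = 1) ↔ fsInd (χ : G → ℂ) = 1 := by
    intro χ
    rw [finsum_eq_fsInd]
    exact ⟨fun h => h.2, fun h => ⟨hdeg χ, h⟩⟩
  have hcard : Nat.card {χ : Cfsg.IrrCharacter G // (Cfsg.charDegree (χ : G → ℂ) = 1 ∨
      2 ∣ Cfsg.charDegree (χ : G → ℂ)) ∧
      (Nat.card G : ℂ)⁻¹ * ∑ᶠ g : G, (χ : G → ℂ) (g * g) = 1} =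
      (Finset.univ.filter (fun χ : IrrCharacter G => fsInd (χ : G → ℂ) = 1)).card := by
    rw [Nat.card_eq_fintype_card, Fintype.card_subtype]
    congr 1
    ext χ
    simp only [Finset.mem_filter, Finset.mem_univ, true_and]
    exact hiff χ
  have hsum : (∑ᶠ χ : {χ : Cfsg.IrrCharacter G // (Cfsg.charDegree (χ : G → ℂ) = 1 ∨
      2 ∣ Cfsg.charDegree (χ : G → ℂ)) ∧
      (Nat.card G : ℂ)⁻¹ * ∑ᶠ g : G, (χ : G → ℂ) (g * g) = 1},
      Cfsg.charDegree (χ.1 : G → ℂ)) =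
      ∑ χ ∈ Finset.univ.filter (fun χ : IrrCharacter G => fsInd (χ : G → ℂ) = 1),
        charDegree (χ : G → ℂ) := by
    rw [finsum_eq_sum_of_fintype]
    symm
    apply Finset.sum_subtype
    intro χ
    simp only [Finset.mem_filter, Finset.mem_univ, true_and]
    exact (hiff χ).symm
  rw [hcard, hsum]
  exact hmain

end Cfsg.Agent.S4871
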