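import Mathlib
import Cfsg.Statements.S4873
import Cfsg.Agent.Lib.Helper24.OddIndexReal

set_option autoImplicit false
set_option linter.style.haveILetI false
open Cfsg

namespace Cfsg.Agent.S4873

open Cfsg.Agent.Helper24 Cfsg.Agent.Helper24.OddReal
open scoped ComplexConjugate

/-- The finsum form of the Frobenius–Schur indicator. -/
theorem finsum_eq_fsInd {X : Type*} [Group X] [Fintype X] (α : X → ℂ) :
    (Nat.card X : ℂ)⁻¹ * ∑ᶠ g : X, α (g * g) = fsInd α := by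
  unfold fsInd
  rw [finsum_eq_sum_of_fintype]

/-- For N ⊴ G of odd index, each strongly real φ ∈ Irr(N) lies under a unique strongly real χ ∈ Irr(G). -/
theorem result {G : Type*} [Group G] [Finite G] (N : Subgroup G) [N.Normal] (hodd : Odd N.index) (φ : Cfsg.IrrCharacter ↥N) (hφ : (Nat.card ↥N : ℂ)⁻¹ * ∑ᶠ g : ↥N, (φ : ↥N → ℂ) (g * g) = 1) : ∃! χ : Cfsg.IrrCharacter G, (Nat.card G : ℂ)⁻¹ * ∑ᶠ g : G, (χ : G → ℂ) (g * g) = 1 ∧ (∑ᶠ n : ↥N, (χ : G → ℂ) n * (starRingEnd ℂ) ((φ : ↥N → ℂ) n)) ≠ 0 := by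
  classical
  letI : Fintype G := Fintype.ofFinite G
  letI : Fintype N := Fintype.ofFinite N
  letI := irrFintype (G := G)
  letI := irrFintype (G := N)
  rw [finsum_eq_fsInd] at hφ
  have hN0 : (Nat.card N : ℂ) ≠ 0 := by
    have : Nat.card N ≠ 0 := Nat.card_pos.ne'
    exact_mod_cast this
  have hiff : ∀ χ : IrrCharacter G,
      ((Nat.card G : ℂ)⁻¹ * ∑ᶠ g : G, (χ : G → ℂ) (g * g) = 1 ∧
        (∑ᶠ n : N, (χ : G → ℂ) n * (starRingEnd ℂ) ((φ : N → ℂ) n)) ≠ 0) ↔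
      (fsInd (χ : G → ℂ) = 1 ∧
        classInner (fun n : N => (χ : G → ℂ) n) (φ : N → ℂ) ≠ 0) := by
    intro χ
    rw [finsum_eq_fsInd, finsum_eq_sum_of_fintype]
    unfold classInner
    constructor
    · rintro ⟨h1, h2⟩
      exact ⟨h1, mul_ne_zero (inv_ne_zero hN0) h2⟩
    · rintro ⟨h1, h2⟩
      exact ⟨h1, (mul_ne_zero_iff.mp h2).2⟩
  -- existence
  have hsum := sum_fsInd_inner N hodd φ.2
  have hex : ∃ χ : IrrCharacter G, fsInd (χ : G → ℂ) = 1 ∧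
      classInner (fun n : N => (χ : G → ℂ) n) (φ : N → ℂ) ≠ 0 := by
    by_contra hcon
    push Not at hcon
    have hle : ∀ χ : IrrCharacter G,
        (fsInd (χ : G → ℂ) * classInner (fun n : N => (χ : G → ℂ) n) (φ : N → ℂ)).re ≤ 0 := by
      intro χ
      obtain ⟨m, hm⟩ := classInner_char_nat
        (isCharacter_restrict N (isCharacter_of_isIrrCharacter χ.2))
        (isCharacter_of_isIrrCharacter φ.2)
      rcases fsInd_cases χ.2 with ⟨-, h2 | h2⟩ | ⟨-, h2⟩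
      · rw [hcon χ h2]; simp
      · rw [h2, hm]; simp
      · rw [h2]; simp
    have h1 : (∑ χ : IrrCharacter G,
        fsInd (χ : G → ℂ) * classInner (fun n : N => (χ : G → ℂ) n) (φ : N → ℂ)).re ≤ 0 := by
      rw [Complex.re_sum]
      exact Finset.sum_nonpos (fun χ _ => hle χ)
    rw [hsum, hφ] at h1
    norm_num at h1
  obtain ⟨χ, hχν, hχc⟩ := hex
  refine ⟨χ, (hiff χ).mpr ⟨hχν, hχc⟩, ?_⟩
  intro χ' hχ'
  obtain ⟨hν', hc'⟩ := (hiff χ').mp hχ'
  have hreal : ∀ g, conj ((χ : G → ℂ) g) = (χ : G → ℂ) g :=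
    (fsInd_ne_zero_iff χ.2).mp (by rw [hχν]; exact one_ne_zero)
  have hreal' : ∀ g, conj ((χ' : G → ℂ) g) = (χ' : G → ℂ) g :=
    (fsInd_ne_zero_iff χ'.2).mp (by rw [hν']; exact one_ne_zero)
  obtain ⟨m, hmodd, hm⟩ := inner_restrict_odd N hodd χ'.2 χ.2 φ.2 hc' hχc
  have hΘ : IsCharacter G ((χ' : G → ℂ) * (χ : G → ℂ)) :=
    isCharacter_mul (isCharacter_of_isIrrCharacter χ'.2) (isCharacter_of_isIrrCharacter χ.2)
  have hΘreal : ∀ g, conj (((χ' : G → ℂ) * (χ : G → ℂ)) g) = ((χ' : G → ℂ) * (χ : G → ℂ)) g := by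
    intro g
    rw [Pi.mul_apply, map_mul, hreal g, hreal' g]
  obtain ⟨m', k, hm', hk, heven⟩ := parity_inner N hodd hΘ hΘreal
  have e1 : classInner (fun n : N => ((χ' : G → ℂ) * (χ : G → ℂ)) n) (fun _ => (1 : ℂ)) =
      classInner (fun n : N => (χ' : G → ℂ) n) (fun n : N => (χ : G → ℂ) n) := by
    unfold classInner
    congr 1
    apply Finset.sum_congr rfl
    intro n _
    show ((χ' : G → ℂ) * (χ : G → ℂ)) (n : G) * conj (1 : ℂ) =
      (χ' : G → ℂ) n * conj ((χ : G → ℂ) n)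
    rw [Pi.mul_apply, map_one, mul_one, hreal]
  have e2 : classInner ((χ' : G → ℂ) * (χ : G → ℂ)) (fun _ => (1 : ℂ)) =
      classInner (χ' : G → ℂ) (χ : G → ℂ) := by
    unfold classInner
    congr 1
    apply Finset.sum_congr rfl
    intro g _
    show ((χ' : G → ℂ) * (χ : G → ℂ)) g * conj (1 : ℂ) =
      (χ' : G → ℂ) g * conj ((χ : G → ℂ) g)
    rw [Pi.mul_apply, map_one, mul_one, hreal]
  by_contra hne
  have h0 : classInner (χ' : G → ℂ) (χ : G → ℂ) = 0 := by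
    rw [irr_orthogonality' χ' χ, if_neg hne]
  rw [e1, hm] at hm'
  rw [e2, h0] at hk
  have hmm : m = m' := by exact_mod_cast hm'
  have hk0 : k = 0 := by exact_mod_cast hk.symm
  rw [← hmm, hk0, add_zero] at heven
  exact (Nat.not_even_iff_odd.mpr hmodd) heven

end Cfsg.Agent.S4873
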