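import Mathlib
import Cfsg.Statements.S4888
import Cfsg.Agent.Lib.Helper24.PNilB0d
import Cfsg.Agent.Lib.Helper24.CharQuotient
import Cfsg.Agent.Lib.Helper24.CharIntegral
import Cfsg.Agent.Lib.Helper23.PrincipalQuot
import Cfsg.Agent.Lib.Helper22.PResidual
import Cfsg.Agent.Lib.Helper1.Tate
import Cfsg.Agent.Lib.Helper1.ResidualSplit

set_option autoImplicit false
set_option linter.style.haveILetI false
open Cfsg

namespace Cfsg.Agent.S4888

open Cfsg.Agent.Helper24 Cfsg.Agent.Helper23.Blk

theorem height_zero_iff {G : Type*} [Group G] [Finite G] (p : ℕ) [Fact p.Prime]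
    (M : Ideal Cfsg.AlgInt) (hM : Cfsg.IsPModular p M) (χ : Cfsg.IrrCharacter G) :
    Cfsg.blockHeight p (Cfsg.principalBlock M G) (χ : G → ℂ) = 0 ↔
      ¬ p ∣ Cfsg.charDegree (χ : G → ℂ) := by
  classical
  have hp : p.Prime := Fact.out
  haveI : Fintype G := Fintype.ofFinite G
  haveI hMp : M.IsPrime := isPrime_of_isPModular hM
  have hinf : sInf ((fun ψ : IrrCharacter G => (charDegree (ψ : G → ℂ)).factorization p) ''
      (principalBlock M G)) = 0 := by
    apply Nat.eq_zero_of_le_zero
    apply Nat.sInf_le
    refine ⟨principalChar G, principalChar_mem_principalBlock, ?_⟩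
    have : charDegree ((principalChar G : IrrCharacter G) : G → ℂ) = 1 := by
      unfold charDegree principalChar
      simp
    simp only [this, Nat.factorization_one, Finsupp.coe_zero, Pi.zero_apply]
  unfold blockHeight
  rw [hinf, Nat.sub_zero]
  have hpos : charDegree (χ : G → ℂ) ≠ 0 := (charDegree_pos χ.2).ne'
  constructor
  · intro h hdvd
    have := (hp.factorization_pos_of_dvd hpos hdvd)
    omega
  · intro h
    exact Nat.factorization_eq_zero_of_not_dvd h

/-- Let G be a finite group, p a prime and M a maximal ideal of the algebraic integers containing p. Then all height-zero irreducible characters of the principal p-block of G (equivalently, all its characters of degree prime to p) have the same degree if and only if G has a normal p-complement. -/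
theorem result {G : Type*} [Group G] [Finite G] (p : ℕ) [Fact p.Prime] (M : Ideal Cfsg.AlgInt) (hM : Cfsg.IsPModular p M) : (∃ d : ℕ, ∀ χ : Cfsg.IrrCharacter G, χ ∈ (Cfsg.principalBlock M G) → Cfsg.blockHeight p (Cfsg.principalBlock M G) (χ : G → ℂ) = 0 → Cfsg.charDegree (χ : G → ℂ) = d) ↔ Cfsg.HasNormalPComplement p G := by
  classical
  have hp : p.Prime := Fact.out
  haveI : Fintype G := Fintype.ofFinite G
  haveI hMp : M.IsPrime := isPrime_of_isPModular hM
  have hdeg1 : charDegree ((principalChar G : IrrCharacter G) : G → ℂ) = 1 := by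
    unfold charDegree principalChar
    simp
  constructor
  · rintro ⟨d, hd⟩
    have hd1 : d = 1 := by
      have h1 := hd (principalChar G) principalChar_mem_principalBlock
        ((height_zero_iff p M hM _).mpr (by rw [hdeg1]; exact hp.one_lt.ne' ∘ Nat.dvd_one.mp))
      rw [← h1, hdeg1]
    subst hd1
    haveI hKn : (Cfsg.pResidual p G).Normal := Cfsg.Agent.Helper22.pResidual_normal
    obtain ⟨P⟩ : Nonempty (Sylow p G) := inferInstance
    apply Cfsg.Agent.Helper1.hasNormalPComplement_of_not_dvd_card_pResidual
    apply PNilB0.not_dvd_card_of_hyp hM (Cfsg.pResidual p G) P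
      (Cfsg.Agent.Helper22.sylow_sup_pResidual_eq_top P) Cfsg.Agent.Helper22.index_pResidual
      (Cfsg.Agent.Helper1.pResidual_pResidual p)
    intro χ hχ hdeg
    exact hd χ hχ ((height_zero_iff p M hM χ).mpr hdeg)
  · rintro ⟨P, N, hN, hcompl⟩
    haveI := hN
    refine ⟨1, ?_⟩
    intro χ hχ hh
    rw [height_zero_iff p M hM] at hh
    obtain ⟨a, ha⟩ : ∃ a : ℕ, a = (Nat.card G).factorization p := ⟨_, rfl⟩
    have hcard : Nat.card N * Nat.card (P : Subgroup G) = Nat.card G := hcompl.card_mul_card
    have hPcard : Nat.card (P : Subgroup G) = p ^ a := by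
      rw [ha]
      exact P.card_eq_multiplicity
    have hpN : ¬ p ∣ Nat.card N := by
      intro hdvd
      have h1 : p ^ (a + 1) ∣ Nat.card G := by
        rw [← hcard, hPcard, pow_succ, mul_comm]
        exact Nat.mul_dvd_mul_right hdvd _
      rw [ha] at h1
      exact Nat.pow_succ_factorization_not_dvd (Nat.card_pos (α := G)).ne' hp h1
    have htriv := principalBlock_trivial_on hM N hpN hχ
    obtain ⟨ψ, hψ, hχψ⟩ := exists_deflate N χ.2 htriv
    have h1 : charDegree (χ : G → ℂ) = charDegree ψ := by
      rw [hχψ, charDegree_inflate]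
    have h2 : charDegree ψ ∣ Nat.card (G ⧸ N) := charDegree_dvd_card hψ
    have h3 : Nat.card (G ⧸ N) = p ^ a := by
      have h4 := Subgroup.card_eq_card_quotient_mul_card_subgroup N
      rw [← hcard, hPcard] at h4
      have hN0 : 0 < Nat.card N := Nat.card_pos
      nlinarith
    rw [h3, ← h1] at h2
    obtain ⟨j, -, hj⟩ := (Nat.dvd_prime_pow hp).mp h2
    rcases Nat.eq_zero_or_pos j with hj0 | hjpos
    · rw [hj, hj0, pow_zero]
    · exfalso
      apply hh
      rw [hj]
      exact dvd_pow_self p (by omega)

end Cfsg.Agent.S4888
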