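import Mathlib
import Cfsg.Statements.S4911
import Cfsg.Agent.Lib.Helper24.GlaubReal
import Cfsg.Agent.Lib.Helper24.GlaubTransfer

set_option autoImplicit false
set_option linter.style.haveILetI false
set_option linter.unusedSectionVars false
open Cfsg

namespace Cfsg.Agent.S4911

open Cfsg.Agent.Helper24 Cfsg.Agent.Helper24.Glaub

universe u

section

variable {G : Type u} [Group G] (P K : Subgroup G) (hPK : P ≤ Subgroup.normalizer (K : Set G))

theorem clsInv_conjHom_iff (c : ConjClasses K) :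
    ClsInv (conjHom K P hPK) c ↔
      ∀ k : K, ConjClasses.mk k = c → ∀ x ∈ P, ∀ k' : K, (k' : G) = x * (k : G) * x⁻¹ →
        ConjClasses.mk k' = c := by
  constructor
  · intro h k hk x hx k' hk'
    have := h ⟨x, hx⟩ k hk
    rw [← this]
    apply congrArg
    apply Subtype.ext
    rw [hk', conjHom_apply]
  · intro h a g hg
    exact h g hg a.1 a.2 _ (conjHom_apply K P hPK a g)

theorem isRealCls_mk {H : Type*} [Group H] {k : H} (hk : IsConj k k⁻¹) :
    IsRealCls (ConjClasses.mk k) := by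
  intro k₂ hk₂
  have h1 : IsConj k₂ k := ConjClasses.mk_eq_mk_iff_isConj.mp hk₂
  have h2 : IsConj k⁻¹ k₂⁻¹ := by
    obtain ⟨g, hg⟩ := isConj_iff.mp h1.symm
    apply isConj_iff.mpr
    refine ⟨g, ?_⟩
    rw [← hg]; group
  exact (h1.trans hk).trans h2

end

/-- Let P and K be subgroups of a finite group with P a p-group normalizing K and K of order prime to p. Then the number of P-invariant real-valued irreducible complex characters of K equals the number of conjugacy classes of K that are real (closed under inversion) and P-invariant. Moreover, if every real-valued irreducible character of K is P-invariant, then every real element of K (one conjugate in K to its inverse) is conjugate in K to an element centralized by P. -/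
theorem result {G : Type*} [Group G] [Finite G] (p : ℕ) [Fact p.Prime] (P K : Subgroup G) (hP : IsPGroup p ↥P) (hK : ¬ p ∣ Nat.card ↥K) (hPK : P ≤ Subgroup.normalizer (K : Set G)) : Nat.card {θ : Cfsg.IrrCharacter ↥K // (∀ k : ↥K, ((θ : ↥K → ℂ) k).im = 0) ∧ (∀ x ∈ P, ∀ k k' : ↥K, (k' : G) = x * (k : G) * x⁻¹ → (θ : ↥K → ℂ) k' = (θ : ↥K → ℂ) k)} = Nat.card {c : ConjClasses ↥K // (∀ k : ↥K, ConjClasses.mk k = c → IsConj k k⁻¹) ∧ ∀ k : ↥K, ConjClasses.mk k = c → ∀ x ∈ P, ∀ k' : ↥K, (k' : G) = x * (k : G) * x⁻¹ → ConjClasses.mk k' = c} ∧ ((∀ θ : Cfsg.IrrCharacter ↥K, (∀ k : ↥K, ((θ : ↥K → ℂ) k).im = 0) → (∀ x ∈ P, ∀ k k' : ↥K, (k' : G) = x * (k : G) * x⁻¹ → (θ : ↥K → ℂ) k' = (θ : ↥K → ℂ) k)) → ∀ k : ↥K, IsConj k k⁻¹ → ∃ k' : ↥K, IsConj k k' ∧ ∀ x ∈ P, x * (k' : G) * x⁻¹ = (k' : G)) := by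
  classical
  letI : Fintype K := Fintype.ofFinite K
  letI : Fintype (fixedSub (conjHom K P hPK)) := Fintype.ofFinite _
  constructor
  · have h := card_real_inv_eq (conjHom K P hPK) hP hK
    rw [Nat.card_congr (Equiv.subtypeEquivRight (fun θ : IrrCharacter K =>
        and_congr (Iff.rfl : IsRealFun (θ : K → ℂ) ↔ _)
          (isInv_conjHom_iff K P hPK (θ : K → ℂ)))),
      Nat.card_congr (Equiv.subtypeEquivRight (fun c : ConjClasses K =>
        and_congr (Iff.rfl : IsRealCls c ↔ _) (clsInv_conjHom_iff P K hPK c)))] at h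
    exact h
  · intro hall k hk
    have hall' : ∀ θ : IrrCharacter K, IsRealFun (θ : K → ℂ) →
        IsInv (conjHom K P hPK) (θ : K → ℂ) := by
      intro θ hθ
      rw [isInv_conjHom_iff]
      exact hall θ hθ
    have hinv := clsInv_of_real (conjHom K P hPK) hP hK hall' (ConjClasses.mk k) (isRealCls_mk hk)
    obtain ⟨c, hc⟩ := exists_fixedSub_in_class (conjHom K P hPK) hP hK _ hinv
    refine ⟨c.1, (ConjClasses.mk_eq_mk_iff_isConj.mp hc).symm, ?_⟩
    intro x hx
    have := congrArg Subtype.val (c.2 ⟨x, hx⟩)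
    rw [conjHom_apply] at this
    exact this

end Cfsg.Agent.S4911
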