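import Mathlib
import Cfsg.Statements.S4912
import Cfsg.Agent.Lib.Helper24.LinInduce
import Cfsg.Agent.Lib.Helper24.FSInduce

set_option autoImplicit false
set_option linter.style.haveILetI false
open Cfsg

namespace Cfsg.Agent.S4912

open Cfsg.Agent.Helper24 Cfsg.Agent.Helper24.LinInd Cfsg.Agent.Helper18
open scoped ComplexConjugate

/-- The finsum form of the Frobenius–Schur indicator. -/
theorem finsum_eq_fsInd {X : Type*} [Group X] [Fintype X] (α : X → ℂ) :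
    (Nat.card X : ℂ)⁻¹ * ∑ᶠ g : X, α (g * g) = fsInd α := by
  unfold fsInd
  rw [finsum_eq_sum_of_fintype]

/-- If N is a non-abelian minimal normal subgroup and φ ∈ Irr(N) extends to a strongly real character of its stabilizer I, then n_{1,+}(G) ≤ [G:I]·n_{d,+}(G), d = φ(1)[G:I]. -/
theorem result {G : Type*} [Group G] [Finite G] (N : Subgroup G) (hN : N.Normal) (hN1 : N ≠ ⊥) (hmin : ∀ M : Subgroup G, M.Normal → M ≤ N → M = ⊥ ∨ M = N) (hna : ¬ IsMulCommutative ↥N) (φ : Cfsg.IrrCharacter ↥N) (I : Subgroup G) (hI : ∀ g : G, g ∈ I ↔ ∀ n n' : ↥N, (n' : G) = g * (n : G) * g⁻¹ → (φ : ↥N → ℂ) n' = (φ : ↥N → ℂ) n) (hNI : N ≤ I) (hext : ∃ ψ : Cfsg.IrrCharacter ↥I, (Nat.card ↥I : ℂ)⁻¹ * ∑ᶠ g : ↥I, (ψ : ↥I → ℂ) (g * g) = 1 ∧ ∀ n : ↥N, (ψ : ↥I → ℂ) (Subgroup.inclusion hNI n) = (φ : ↥N → ℂ) n) : Nat.card {χ : Cfsg.IrrCharacter G // Cfsg.charDegree (χ : G → ℂ) = 1 ∧ (Nat.card G : ℂ)⁻¹ * ∑ᶠ g : G, (χ : G → ℂ) (g * g)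 = 1} ≤ I.index * Nat.card {χ : Cfsg.IrrCharacter G // Cfsg.charDegree (χ : G → ℂ) = Cfsg.charDegree (φ : ↥N → ℂ) * I.index ∧ (Nat.card G : ℂ)⁻¹ * ∑ᶠ g : G, (χ : G → ℂ) (g * g) = 1} := by
  classical
  haveI := hN
  letI : Fintype G := Fintype.ofFinite G
  letI : Fintype N := Fintype.ofFinite N
  letI : Fintype I := Fintype.ofFinite I
  letI := irrFintype (G := G)
  obtain ⟨ψ, hψν, hψ⟩ := hext
  rw [finsum_eq_fsInd] at hψν
  have hIiff : ∀ g : G, g ∈ I ↔ Cfsg.Agent.Helper5.conjFun N g (φ : N → ℂ) = (φ : N → ℂ) := by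
    intro g
    rw [hI]
    constructor
    · intro h
      funext n
      rw [Cfsg.Agent.Helper5.conjFun_apply]
      exact h n _ rfl
    · intro h n n' hn'
      have := congrFun h n
      rw [Cfsg.Agent.Helper5.conjFun_apply] at this
      rw [← this]
      apply congrArg (φ : N → ℂ)
      exact Subtype.ext hn'
  have hIle : inertia N (φ : N → ℂ) ≤ I := by
    intro g hg
    rw [hIiff]
    exact (mem_inertia N _ g).mp hg
  have hker := le_ker_of_minimal N hmin hna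
  have hext : ∀ n : N, (ψ : I → ℂ) ⟨n, hNI n.2⟩ = (φ : N → ℂ) n := fun n => hψ n
  -- the family of strongly real linear characters
  let e : {χ : IrrCharacter G // charDegree (χ : G → ℂ) = 1 ∧
      (Nat.card G : ℂ)⁻¹ * ∑ᶠ g : G, (χ : G → ℂ) (g * g) = 1} → (G →* ℂˣ) :=
    fun a => linearCharEquiv G ⟨a.1, (charDegree_eq_one_iff a.1.2).mp a.2.1⟩
  have he : Function.Injective e := by
    intro a a' h
    have h1 := (linearCharEquiv G).injective h
    apply Subtype.ext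
    exact congrArg (fun x : {χ : IrrCharacter G // χ.1 1 = 1} => x.1) h1
  have hval : ∀ a g, ((e a g : ℂˣ) : ℂ) = (a.1 : G → ℂ) g := fun a g => rfl
  have hsq : ∀ a g, ((e a g : ℂˣ) : ℂ) * ((e a g : ℂˣ) : ℂ) = 1 := by
    intro a g
    have hν : fsInd (a.1 : G → ℂ) = 1 := by rw [← finsum_eq_fsInd]; exact a.2.2
    have hreal := (fsInd_ne_zero_iff a.1.2).mp (by rw [hν]; exact one_ne_zero) g
    have h1 : e a g * e a g⁻¹ = 1 := by rw [← map_mul, mul_inv_cancel, map_one]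
    have h2 : ((e a g : ℂˣ) : ℂ) * ((e a g⁻¹ : ℂˣ) : ℂ) = 1 := by
      rw [← Units.val_mul, h1, Units.val_one]
    rw [hval a g⁻¹, irr_inv (isCharacter_of_isIrrCharacter a.1.2) g, hreal, ← hval a g] at h2
    exact h2
  have hQ : ∀ a, (fun χ : IrrCharacter G =>
      (Nat.card G : ℂ)⁻¹ * ∑ᶠ g : G, (χ : G → ℂ) (g * g) = 1)
      ⟨indFun I (tw I (ψ : I → ℂ) (e a)), ind_irr N φ.2 I hNI hIle ψ.2 hext hker (e a)⟩ := by
    intro a
    show (Nat.card G : ℂ)⁻¹ * ∑ᶠ g : G, indFun I (tw I (ψ : I → ℂ) (e a)) (g * g) = 1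
    rw [finsum_eq_fsInd]
    apply FSInd.fsInd_indFun N φ.2 I hNI hIle (tw_irr I ψ.2 (e a))
    · intro n
      exact congrFun (tw_res N I hNI hext hker (e a)) n
    · rw [← hψν]
      unfold fsInd
      congr 1
      apply Finset.sum_congr rfl
      intro i _
      show ((e a ((i * i : I) : G) : ℂˣ) : ℂ) * (ψ : I → ℂ) (i * i) = (ψ : I → ℂ) (i * i)
      rw [Subgroup.coe_mul, map_mul, Units.val_mul, hsq a, one_mul]
  exact card_le_of_injective N φ.2 I hNI hIle (fun g hg => (hIiff g).mp hg) ψ.2 hext hker e he _ hQ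

end Cfsg.Agent.S4912
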