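import Mathlib
import Cfsg.Statements.S4916
import Cfsg.Agent.S0876
import Cfsg.Agent.Lib.Helper23.BlockLocal
import Cfsg.Agent.Lib.Helper23.BlockOrtho
import Cfsg.Agent.Lib.Helper23.BlockDefectZero
import Cfsg.Agent.Lib.Helper24.CharLinear

set_option autoImplicit false
set_option linter.style.haveILetI false
open Cfsg

namespace Cfsg.Agent.S4916

open Cfsg.Agent.Helper24 Cfsg.Agent.Helper23 Cfsg.Agent.Helper23.Blk
open scoped ComplexConjugate

/-- Let G be a finite group, p a prime and M a maximal ideal of the algebraic integers containing p. Then the principal character is the only irreducible character of degree prime to p in the principal p-block of G if and only if p does not divide the order of G. -/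
theorem result {G : Type*} [Group G] [Finite G] (p : ℕ) [Fact p.Prime] (M : Ideal Cfsg.AlgInt) (hM : Cfsg.IsPModular p M) : (∀ χ : Cfsg.IrrCharacter G, χ ∈ Cfsg.principalBlock M G → ¬ p ∣ Cfsg.charDegree (χ : G → ℂ) → (χ : G → ℂ) = fun _ => (1 : ℂ)) ↔ ¬ p ∣ Nat.card G := by
  classical
  haveI hMp : M.IsPrime := isPrime_of_isPModular hM
  letI : Fintype G := Fintype.ofFinite G
  letI : Fintype (IrrCharacter G) := irrFintype
  have hdeg1 : charDegree ((principalChar G : IrrCharacter G) : G → ℂ) = 1 := by
    unfold charDegree
    show ⌊((1 : ℂ)).re⌋₊ = 1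
    simp
  constructor
  · intro H hdvd
    obtain ⟨y, hy⟩ := exists_prime_orderOf_dvd_card' p hdvd
    have hB : IsPBlock M (principalBlock M G) := ⟨principalChar G, rfl⟩
    have hortho := weak_block_orthogonality hM hB (x := (1 : G)) (y := y)
      (by rw [orderOf_one]; exact (Fact.out : p.Prime).one_lt.ne' ∘ Nat.dvd_one.mp)
      (by rw [hy])
    rw [finsum_mem_eq_finite_toFinset_sum _ (Set.toFinite _)] at hortho
    -- congruences
    have hcong : ∀ χ : IrrCharacter G,
        MemLocalIdeal M (conj ((χ : G → ℂ) y) - (χ : G → ℂ) 1) := by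
      intro χ
      have hc := isCharacter_of_isIrrCharacter χ.2
      rw [← irr_inv hc y]
      have hpp : IsPPart p y⁻¹ y⁻¹ := by
        refine ⟨1, mul_one _, Commute.one_right _, ⟨1, by rw [orderOf_inv, hy, pow_one]⟩, ?_⟩
        rw [orderOf_one]
        exact (Fact.out : p.Prime).one_lt.ne' ∘ Nat.dvd_one.mp
      have := Cfsg.Agent.S0876.congr_pRegPart hM hpp hc
      rw [inv_inv, mul_inv_cancel] at this
      exact this
    have hnat : ∀ χ : IrrCharacter G, (χ : G → ℂ) 1 = (charDegree (χ : G → ℂ) : ℂ) :=
      fun χ => irr_one_eq_charDegree χ.2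
    -- the sum of squares of degrees over the block is in the local ideal
    have hsq : MemLocalIdeal M
        (∑ χ ∈ (Set.toFinite (principalBlock M G)).toFinset,
          ((charDegree (χ : G → ℂ) : ℂ)) ^ 2) := by
      have h1 : ∑ χ ∈ (Set.toFinite (principalBlock M G)).toFinset,
          ((charDegree (χ : G → ℂ) : ℂ)) ^ 2 =
          - ∑ χ ∈ (Set.toFinite (principalBlock M G)).toFinset,
            (χ : G → ℂ) 1 * (conj ((χ : G → ℂ) y) - (χ : G → ℂ) 1) := by
        rw [← add_eq_zero_iff_eq_neg, ← Finset.sum_add_distrib, ← hortho]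
        apply Finset.sum_congr rfl
        intro χ _
        rw [hnat χ]
        ring
      rw [h1]
      apply memLocalIdeal_neg
      apply memLocalIdeal_sum
      intro χ _
      have h2 := hcong χ
      rw [hnat χ] at h2 ⊢
      exact memLocalIdeal_mul_left (memLocalRing_natCast _) h2
    -- split off the principal character
    have hmem : principalChar G ∈ (Set.toFinite (principalBlock M G)).toFinset := by
      rw [Set.Finite.mem_toFinset]
      show SameBlock M (fun _ : G => (1 : ℂ)) ((principalChar G : IrrCharacter G) : G → ℂ)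
      intro g
      have : (principalChar G : IrrCharacter G).1 = fun _ : G => (1 : ℂ) := rfl
      rw [this, sub_self]
      exact memLocalIdeal_zero hMp.ne_top
    rw [← Finset.add_sum_erase _ _ hmem, hdeg1] at hsq
    have hrest : MemLocalIdeal M
        (∑ χ ∈ ((Set.toFinite (principalBlock M G)).toFinset).erase (principalChar G),
          ((charDegree (χ : G → ℂ) : ℂ)) ^ 2) := by
      apply memLocalIdeal_sum
      intro χ hχ
      rw [Finset.mem_erase, Set.Finite.mem_toFinset] at hχ
      have hp : p ∣ charDegree (χ : G → ℂ) := by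
        by_contra hnd
        apply hχ.1
        apply Subtype.ext
        exact H χ hχ.2 hnd
      rw [pow_two]
      exact memLocalIdeal_mul_left (memLocalRing_natCast _)
        ((memLocalIdeal_natCast_iff hM _).mpr hp)
    have hone : MemLocalIdeal M 1 := by
      have := memLocalIdeal_sub hsq hrest
      simpa using this
    exact not_memLocalIdeal_one hone
  · intro hnd χ hχ _
    have h1 : ¬ p ∣ Nat.card G / charDegree ((principalChar G : IrrCharacter G) : G → ℂ) := by
      rw [hdeg1, Nat.div_one]
      exact hnd
    have h2 := (not_dvd_iff_blockOf_eq_singleton hM (principalChar G)).mp h1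
    have h3 : χ ∈ blockOf M ((principalChar G : IrrCharacter G) : G → ℂ) := hχ
    rw [h2, Set.mem_singleton_iff] at h3
    rw [h3]
    rfl

end Cfsg.Agent.S4916
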