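import Mathlib
import Cfsg.Statements.S4931
import Cfsg.Agent.Lib.Helper21.SylNormExt
import Cfsg.Agent.Lib.Helper24.CharIntegral

set_option autoImplicit false
open Cfsg

namespace Cfsg.Agent.S4931

open Cfsg.Agent.Helper24 Cfsg.Agent.Helper21.SylNormExt
open scoped commutatorElement

universe u

theorem backward {G : Type u} [Group G] [Finite G] (N K : Subgroup G) [K.Normal]
    (hsup : K ⊔ N = ⊤) (hinf : K ⊓ N = ⊥) (θ : IrrCharacter N) :
    ∃ χ : IrrCharacter G, ∀ x : N, (χ : G → ℂ) x = (θ : N → ℂ) x := by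
  have h : N.IsComplement' K := by
    apply Subgroup.isComplement'_of_disjoint_and_mul_eq_univ
    · rw [disjoint_iff, inf_comm]; exact hinf
    · rw [← Subgroup.mul_normal N K, sup_comm, hsup]; rfl
  let e : G ⧸ K ≃* N := h.QuotientMulEquiv
  let r : G →* N := e.toMonoidHom.comp (QuotientGroup.mk' K)
  have hr : Function.Surjective r := by
    intro n
    obtain ⟨q, hq⟩ := e.surjective n
    obtain ⟨g, rfl⟩ := QuotientGroup.mk'_surjective K q
    exact ⟨g, hq⟩
  have hrn : ∀ n : N, r (n : G) = n := by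
    intro n
    show e (QuotientGroup.mk (n : G)) = n
    rw [← MulEquiv.eq_symm_apply]
    rfl
  refine ⟨⟨(θ : N → ℂ) ∘ r, isIrrCharacter_comp_of_surjective r hr θ.2⟩, ?_⟩
  intro x
  show (θ : N → ℂ) (r (x : G)) = _
  rw [hrn]

theorem exists_normal_of_quotient_deg {G : Type u} [Group G] [Finite G] (p : ℕ) (N : Subgroup G)
    (hext : ∀ θ : IrrCharacter N, ¬ p ∣ charDegree (θ : N → ℂ) →
      ∃ χ : IrrCharacter G, ∀ x : N, (χ : G → ℂ) x = (θ : N → ℂ) x)
    (A : Subgroup N) [A.Normal]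
    (hdeg : ∀ ψ : IrrCharacter (N ⧸ A), ¬ p ∣ charDegree (ψ : N ⧸ A → ℂ)) :
    ∃ K : Subgroup G, K.Normal ∧ ∀ x : N, (x : G) ∈ K ↔ x ∈ A := by
  obtain ⟨K, hKn, hK⟩ := exists_normal_of_ext N
    {θ : IrrCharacter N | ¬ p ∣ charDegree (θ : N → ℂ) ∧ ∀ a ∈ A, (θ : N → ℂ) a = (θ : N → ℂ) 1}
    (fun θ hθ => hext θ hθ.1)
  refine ⟨K, hKn, fun x => ?_⟩
  rw [hK x]
  constructor
  · intro h
    by_contra hx
    obtain ⟨ψ, hψ⟩ := exists_irr_quotient_ne A hx
    have hmem : (⟨(ψ : N ⧸ A → ℂ) ∘ (QuotientGroup.mk : N → N ⧸ A),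
        isIrrCharacter_inflate A ψ.2⟩ : IrrCharacter N) ∈
        {θ : IrrCharacter N | ¬ p ∣ charDegree (θ : N → ℂ) ∧
          ∀ a ∈ A, (θ : N → ℂ) a = (θ : N → ℂ) 1} := by
      refine ⟨?_, ?_⟩
      · show ¬ p ∣ charDegree ((ψ : N ⧸ A → ℂ) ∘ (QuotientGroup.mk : N → N ⧸ A))
        rw [charDegree_inflate]
        exact hdeg ψ
      · intro a ha
        show (ψ : N ⧸ A → ℂ) (QuotientGroup.mk a) = (ψ : N ⧸ A → ℂ) (QuotientGroup.mk 1)
        rw [(QuotientGroup.eq_one_iff a).mpr ha, QuotientGroup.mk_one]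
    have := h _ hmem
    apply hψ
    have h2 : (ψ : N ⧸ A → ℂ) (QuotientGroup.mk x) = (ψ : N ⧸ A → ℂ) (QuotientGroup.mk 1) := this
    rw [h2, QuotientGroup.mk_one]
  · intro hx θ hθ
    exact hθ.2 x hx

variable {G : Type u} [Group G] [Finite G] {p : ℕ} [Fact p.Prime]

theorem not_dvd_index_subgroupOf (P : Sylow p G) (N : Subgroup G) (hPN : (P : Subgroup G) ≤ N) :
    ¬ p ∣ ((P : Subgroup G).subgroupOf N).index := by
  intro h
  apply P.not_dvd_index
  have h1 : ((P : Subgroup G).subgroupOf N).index = (P : Subgroup G).relIndex N := rfl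
  rw [h1] at h
  exact dvd_trans h (Subgroup.relIndex_dvd_index_of_le hPN)

theorem deg1 (P : Sylow p G) (N : Subgroup G) (hPN : (P : Subgroup G) ≤ N)
    [((P : Subgroup G).subgroupOf N).Normal]
    (ψ : IrrCharacter (N ⧸ (P : Subgroup G).subgroupOf N)) :
    ¬ p ∣ charDegree (ψ : N ⧸ (P : Subgroup G).subgroupOf N → ℂ) := by
  intro h
  apply not_dvd_index_subgroupOf P N hPN
  haveI : Fintype (N ⧸ (P : Subgroup G).subgroupOf N) := Fintype.ofFinite _
  have h1 := charDegree_dvd_card ψ.2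
  rw [← Subgroup.index_eq_card ((P : Subgroup G).subgroupOf N)] at h1
  exact dvd_trans h h1

theorem deg2 (P : Sylow p G) (N : Subgroup G) (hPN : (P : Subgroup G) ≤ N)
    [hn : ((P : Subgroup G).subgroupOf N).Normal]
    (ψ : IrrCharacter (N ⧸ ⁅(P : Subgroup G).subgroupOf N, (P : Subgroup G).subgroupOf N⁆)) :
    ¬ p ∣ charDegree
      (ψ : N ⧸ ⁅(P : Subgroup G).subgroupOf N, (P : Subgroup G).subgroupOf N⁆ → ℂ) := by
  intro h
  apply not_dvd_index_subgroupOf P N hPN
  set PN := (P : Subgroup G).subgroupOf N with hPNdef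
  set A := ⁅PN, PN⁆ with hA
  have hAle : A ≤ PN := Subgroup.commutator_le_left PN PN
  haveI hBn : (PN.map (QuotientGroup.mk' A)).Normal :=
    hn.map _ (QuotientGroup.mk'_surjective A)
  have hab : ∀ a ∈ PN.map (QuotientGroup.mk' A), ∀ b ∈ PN.map (QuotientGroup.mk' A),
      a * b = b * a := by
    rintro _ ⟨a, ha, rfl⟩ _ ⟨b, hb, rfl⟩
    rw [← map_mul, ← map_mul]
    show (QuotientGroup.mk (a * b) : N ⧸ A) = QuotientGroup.mk (b * a)
    rw [QuotientGroup.eq]
    have : (a * b)⁻¹ * (b * a) = ⁅b⁻¹, a⁻¹⁆ := by rw [commutatorElement_def]; group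
    rw [this]
    exact Subgroup.commutator_mem_commutator (PN.inv_mem hb) (PN.inv_mem ha)
  have h1 := Cfsg.Agent.Helper12.charDegree_dvd_index_of_abelian_normal
    (PN.map (QuotientGroup.mk' A)) hab ψ
  have h2 : (PN.map (QuotientGroup.mk' A)).index = PN.index := by
    rw [Subgroup.index_map, QuotientGroup.ker_mk', sup_of_le_left hAle,
      QuotientGroup.range_mk', Subgroup.index_top, mul_one]
  rw [h2] at h1
  exact dvd_trans h h1

/-- Let G be a finite group, p a prime and P a Sylow p-subgroup of G with normalizer N. Then every irreducible complex character of N of degree not divisible by p is the restriction of an irreducible character of G if and only if there is a normal subgroup K of G with KN = G and K ∩ N = 1. -/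
theorem result {G : Type*} [Group G] [Finite G] (p : ℕ) [Fact p.Prime] (P : Sylow p G) :
    (∀ θ : Cfsg.IrrCharacter ↥(Subgroup.normalizer ((P : Subgroup G) : Set G)), ¬ p ∣ Cfsg.charDegree (θ : ↥(Subgroup.normalizer ((P : Subgroup G) : Set G)) → ℂ) →
        ∃ χ : Cfsg.IrrCharacter G, ∀ x : ↥(Subgroup.normalizer ((P : Subgroup G) : Set G)), (χ : G → ℂ) x = (θ : ↥(Subgroup.normalizer ((P : Subgroup G) : Set G)) → ℂ) x) ↔
      ∃ K : Subgroup G, K.Normal ∧ K ⊔ Subgroup.normalizer ((P : Subgroup G) : Set G) = ⊤ ∧ K ⊓ Subgroup.normalizer ((P : Subgroup G) : Set G) = ⊥ := by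
  constructor
  · intro hext
    have hPN : (P : Subgroup G) ≤ Subgroup.normalizer ((P : Subgroup G) : Set G) :=
      Subgroup.le_normalizer
    haveI hn : ((P : Subgroup G).subgroupOf
        (Subgroup.normalizer ((P : Subgroup G) : Set G))).Normal :=
      Subgroup.normal_in_normalizer
    obtain ⟨KP, hKPn, hKP⟩ := exists_normal_of_quotient_deg p _ hext
      ((P : Subgroup G).subgroupOf (Subgroup.normalizer ((P : Subgroup G) : Set G)))
      (deg1 P _ hPN)
    obtain ⟨K0, hK0n, hK0⟩ := exists_normal_of_quotient_deg p _ hext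
      ⁅(P : Subgroup G).subgroupOf (Subgroup.normalizer ((P : Subgroup G) : Set G)),
        (P : Subgroup G).subgroupOf (Subgroup.normalizer ((P : Subgroup G) : Set G))⁆
      (deg2 P _ hPN)
    refine exists_normal_complement_normalizer P K0 KP ?_ ?_
    · intro x hx
      rw [hK0 ⟨x, hx⟩]
      have hmapc : (⁅(P : Subgroup G).subgroupOf (Subgroup.normalizer ((P : Subgroup G) : Set G)),
          (P : Subgroup G).subgroupOf (Subgroup.normalizer ((P : Subgroup G) : Set G))⁆).map
            (Subgroup.normalizer ((P : Subgroup G) : Set G)).subtype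
          = ⁅(P : Subgroup G), (P : Subgroup G)⁆ := by
        rw [Subgroup.map_commutator, Subgroup.subgroupOf_map_subtype, inf_of_le_left hPN]
      rw [← hmapc]
      exact (Subgroup.mem_map_iff_mem (Subgroup.subtype_injective _)
        (x := (⟨x, hx⟩ : Subgroup.normalizer ((P : Subgroup G) : Set G)))).symm
    · intro x hx
      rw [hKP ⟨x, hx⟩, Subgroup.mem_subgroupOf]
  · rintro ⟨K, hKn, hsup, hinf⟩ θ _
    exact backward _ K hsup hinf θ

end Cfsg.Agent.S4931
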