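import Mathlib
import Cfsg.Statements.S4956
import Cfsg.Agent.Lib.Helper24.CoprimeAction
import Cfsg.Agent.Lib.Helper24.GroupLemmas

set_option autoImplicit false
open Cfsg

namespace Cfsg.Agent.S4956

open Cfsg.Agent.Helper24

universe u

section

variable {X : Type u} [Group X] (V : Subgroup X) [V.Normal]

theorem conjNormal_iterate (t : X) (k : ℕ) (v : V) :
    (MulAut.conjNormal t : V ≃* V)^[k] v = MulAut.conjNormal (t ^ k) v := by
  induction k with
  | zero => simp
  | succ k ih =>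
    rw [Function.iterate_succ_apply', ih, pow_succ', map_mul]
    rfl

theorem conjNormal_eq_iff (t : X) (v : V) :
    MulAut.conjNormal t v = v ↔ t * (v : X) * t⁻¹ = v := by
  rw [Subtype.ext_iff, MulAut.conjNormal_apply]

/-- Number of solutions `(a, b)` of `a * ᵗb = b * ᵍa` in `V`. -/
theorem fiber_count [Finite X] (hab : ∀ a ∈ V, ∀ b ∈ V, a * b = b * a) (G : Subgroup X)
    (hcop : (Nat.card V).Coprime (Nat.card G)) {t g : X} (ht : t ∈ G) (hg : g ∈ G)
    (htg : t * g = g * t) :
    Nat.card {p : V × V // p.1 * MulAut.conjNormal t p.2 = p.2 * MulAut.conjNormal g p.1} =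
      Nat.card V *
        Nat.card {v : V // MulAut.conjNormal t v = v ∧ MulAut.conjNormal g v = v} := by
  letI : CommGroup V :=
    { (inferInstance : Group V) with mul_comm := fun a b => Subtype.ext (hab a a.2 b b.2) }
  have hpow : ∀ x ∈ G, x ^ Nat.card G = 1 := by
    intro x hx
    have := pow_card_eq_one' (G := G) (x := ⟨x, hx⟩)
    exact congrArg Subtype.val this
  refine card_pairs_twisted_commute_mul (MulAut.conjNormal t : V ≃* V).toMonoidHom
    (MulAut.conjNormal g : V ≃* V).toMonoidHom ?_ (Nat.card G) hcop ?_ ?_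
  · intro w
    show MulAut.conjNormal t (MulAut.conjNormal g w) = MulAut.conjNormal g (MulAut.conjNormal t w)
    rw [← MulAut.mul_apply, ← MulAut.mul_apply, ← map_mul, ← map_mul, htg]
  · intro w
    show (MulAut.conjNormal t : V ≃* V)^[Nat.card G] w = w
    rw [conjNormal_iterate, hpow t ht, map_one]
    rfl
  · intro w
    show (MulAut.conjNormal g : V ≃* V)^[Nat.card G] w = w
    rw [conjNormal_iterate, hpow g hg, map_one]
    rfl

/-- Commuting pairs of `X = V G` in coordinates. -/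
theorem comm_pairs_coord (G : Subgroup X) (hGV : Subgroup.IsComplement' V G) :
    Nat.card {p : X × X // Commute p.1 p.2} =
      Nat.card {q : (G × G) × (V × V) //
        ((q.1.1 : X) * (q.1.2 : X) = (q.1.2 : X) * (q.1.1 : X)) ∧
          q.2.1 * MulAut.conjNormal (q.1.1 : X) q.2.2 =
            q.2.2 * MulAut.conjNormal (q.1.2 : X) q.2.1} := by
  symm
  let e : V × G ≃ X := Equiv.ofBijective (fun x : V × G => (x.1 : X) * (x.2 : X)) hGV
  have he : ∀ (a : V) (t : G), e (a, t) = (a : X) * (t : X) := fun _ _ => rfl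
  let e2 : (G × G) × (V × V) ≃ (V × G) × (V × G) :=
    ⟨fun q => ((q.2.1, q.1.1), (q.2.2, q.1.2)), fun r => ((r.1.2, r.2.2), (r.1.1, r.2.1)),
      fun _ => rfl, fun _ => rfl⟩
  apply Nat.card_congr
  refine Equiv.subtypeEquiv (e2.trans (e.prodCongr e)) ?_
  rintro ⟨⟨t, g⟩, ⟨a, b⟩⟩
  simp only [Equiv.trans_apply, Equiv.prodCongr_apply, Prod.map, e2, Equiv.coe_fn_mk, he]
  have h1 : (a : X) * t * ((b : X) * g) =
      ((a * MulAut.conjNormal (t : X) b : V) : X) * ((t * g : G) : X) := by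
    simp only [Subgroup.coe_mul, MulAut.conjNormal_apply]
    group
  have h2 : (b : X) * g * ((a : X) * t) =
      ((b * MulAut.conjNormal (g : X) a : V) : X) * ((g * t : G) : X) := by
    simp only [Subgroup.coe_mul, MulAut.conjNormal_apply]
    group
  constructor
  · rintro ⟨h3, h4⟩
    show (a : X) * t * ((b : X) * g) = (b : X) * g * ((a : X) * t)
    rw [h1, h2, h4]
    congr 1
  · intro h
    have h' : (a : X) * t * ((b : X) * g) = (b : X) * g * ((a : X) * t) := h
    rw [h1, h2] at h'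
    have := hGV.1 (a₁ := (a * MulAut.conjNormal (t : X) b, t * g))
      (a₂ := (b * MulAut.conjNormal (g : X) a, g * t)) h'
    rw [Prod.mk.injEq] at this
    exact ⟨congrArg Subtype.val this.2, this.1⟩

theorem comm_count [Finite X] (hab : ∀ a ∈ V, ∀ b ∈ V, a * b = b * a) (G : Subgroup X)
    (hGV : Subgroup.IsComplement' V G) (hcop : (Nat.card V).Coprime (Nat.card G)) :
    Nat.card {p : X × X // Commute p.1 p.2} =
      Nat.card V * Nat.card {q : (G × G) × V //
        ((q.1.1 : X) * (q.1.2 : X) = (q.1.2 : X) * (q.1.1 : X)) ∧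
          MulAut.conjNormal (q.1.1 : X) q.2 = q.2 ∧ MulAut.conjNormal (q.1.2 : X) q.2 = q.2} := by
  haveI : Fintype (G × G) := Fintype.ofFinite _
  rw [comm_pairs_coord V G hGV,
    card_subtype_prod_eq_sum_fst (fun (tg : G × G) (ab : V × V) =>
      ((tg.1 : X) * (tg.2 : X) = (tg.2 : X) * (tg.1 : X)) ∧
          ab.1 * MulAut.conjNormal (tg.1 : X) ab.2 = ab.2 * MulAut.conjNormal (tg.2 : X) ab.1),
    card_subtype_prod_eq_sum_fst (fun (tg : G × G) (v : V) =>
      ((tg.1 : X) * (tg.2 : X) = (tg.2 : X) * (tg.1 : X)) ∧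
          MulAut.conjNormal (tg.1 : X) v = v ∧ MulAut.conjNormal (tg.2 : X) v = v),
    Finset.mul_sum]
  refine Finset.sum_congr rfl fun tg _ => ?_
  obtain ⟨t, g⟩ := tg
  by_cases hc : (t : X) * (g : X) = (g : X) * (t : X)
  · have e1 : Nat.card {ab : V × V // ((t : X) * (g : X) = (g : X) * (t : X)) ∧
        ab.1 * MulAut.conjNormal (t : X) ab.2 = ab.2 * MulAut.conjNormal (g : X) ab.1} =
        Nat.card {ab : V × V //
          ab.1 * MulAut.conjNormal (t : X) ab.2 = ab.2 * MulAut.conjNormal (g : X) ab.1} :=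
      Nat.card_congr (Equiv.subtypeEquivRight fun ab => by simp [hc])
    have e2 : Nat.card {v : V // ((t : X) * (g : X) = (g : X) * (t : X)) ∧
        MulAut.conjNormal (t : X) v = v ∧ MulAut.conjNormal (g : X) v = v} =
        Nat.card {v : V // MulAut.conjNormal (t : X) v = v ∧ MulAut.conjNormal (g : X) v = v} :=
      Nat.card_congr (Equiv.subtypeEquivRight fun ab => by simp [hc])
    simp only
    rw [e1, e2]
    exact fiber_count V hab G hcop t.2 g.2 hc
  · have z1 : Nat.card {ab : V × V // ((t : X) * (g : X) = (g : X) * (t : X)) ∧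
        ab.1 * MulAut.conjNormal (t : X) ab.2 = ab.2 * MulAut.conjNormal (g : X) ab.1} = 0 := by
      haveI : IsEmpty {ab : V × V // ((t : X) * (g : X) = (g : X) * (t : X)) ∧
          ab.1 * MulAut.conjNormal (t : X) ab.2 = ab.2 * MulAut.conjNormal (g : X) ab.1} :=
        ⟨fun x => hc x.2.1⟩
      exact Nat.card_of_isEmpty
    have z2 : Nat.card {v : V // ((t : X) * (g : X) = (g : X) * (t : X)) ∧
        MulAut.conjNormal (t : X) v = v ∧ MulAut.conjNormal (g : X) v = v} = 0 := by
      haveI : IsEmpty {v : V // ((t : X) * (g : X) = (g : X) * (t : X)) ∧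
          MulAut.conjNormal (t : X) v = v ∧ MulAut.conjNormal (g : X) v = v} :=
        ⟨fun x => hc x.2.1⟩
      exact Nat.card_of_isEmpty
    simp only
    rw [z1, z2, mul_zero]

end

section Orbits

variable {X : Type u} [Group X] (G : Subgroup X)

/-- Number of commuting pairs of `G` centralizing `v`. -/
noncomputable def F (v : X) : ℕ :=
  Nat.card {tg : G × G // ((tg.1 : X) * (tg.2 : X) = (tg.2 : X) * (tg.1 : X)) ∧
    (tg.1 : X) * v * (tg.1 : X)⁻¹ = v ∧ (tg.2 : X) * v * (tg.2 : X)⁻¹ = v}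

theorem F_conj {h : X} (hh : h ∈ G) (v : X) : F G (h * v * h⁻¹) = F G v := by
  unfold F
  apply Nat.card_congr
  let c : G ≃ G := (MulAut.conj (⟨h, hh⟩ : G)).toEquiv
  have hc : ∀ t : G, ((c t : G) : X) = h * t * h⁻¹ := fun t => rfl
  have hcs : ∀ t : G, ((c.symm t : G) : X) = h⁻¹ * t * h := fun t => by
    show (((MulAut.conj (⟨h, hh⟩ : G)).symm t : G) : X) = _
    rw [MulAut.conj_symm_apply]
    simp
  symm
  refine Equiv.subtypeEquiv (c.prodCongr c) ?_
  rintro ⟨t, g⟩
  simp only [Equiv.prodCongr_apply, Prod.map, hc]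
  constructor
  · rintro ⟨h1, h2, h3⟩
    refine ⟨?_, ?_, ?_⟩
    · calc h * t * h⁻¹ * (h * g * h⁻¹) = h * ((t : X) * g) * h⁻¹ := by group
        _ = h * ((g : X) * t) * h⁻¹ := by rw [h1]
        _ = _ := by group
    · calc h * t * h⁻¹ * (h * v * h⁻¹) * (h * t * h⁻¹)⁻¹ = h * ((t : X) * v * (t : X)⁻¹) * h⁻¹ := by
            group
        _ = _ := by rw [h2]
    · calc h * g * h⁻¹ * (h * v * h⁻¹) * (h * g * h⁻¹)⁻¹ = h * ((g : X) * v * (g : X)⁻¹) * h⁻¹ := by
            group
        _ = _ := by rw [h3]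
  · rintro ⟨h1, h2, h3⟩
    refine ⟨?_, ?_, ?_⟩
    · calc (t : X) * g = h⁻¹ * (h * t * h⁻¹ * (h * g * h⁻¹)) * h := by group
        _ = h⁻¹ * (h * g * h⁻¹ * (h * t * h⁻¹)) * h := by rw [h1]
        _ = _ := by group
    · calc (t : X) * v * (t : X)⁻¹
          = h⁻¹ * (h * t * h⁻¹ * (h * v * h⁻¹) * (h * t * h⁻¹)⁻¹) * h := by group
        _ = h⁻¹ * (h * v * h⁻¹) * h := by rw [h2]
        _ = v := by group
    · calc (g : X) * v * (g : X)⁻¹
          = h⁻¹ * (h * g * h⁻¹ * (h * v * h⁻¹) * (h * g * h⁻¹)⁻¹) * h := by group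
        _ = h⁻¹ * (h * v * h⁻¹) * h := by rw [h3]
        _ = v := by group

theorem mem_inf_centralizer_iff (s : X) (t : X) :
    t ∈ G ⊓ Subgroup.centralizer ({s} : Set X) ↔ t ∈ G ∧ t * s * t⁻¹ = s := by
  rw [Subgroup.mem_inf, Subgroup.mem_centralizer_singleton_iff]
  constructor
  · rintro ⟨h1, h2⟩
    exact ⟨h1, by rw [h2, mul_inv_cancel_right]⟩
  · rintro ⟨h1, h2⟩
    refine ⟨h1, ?_⟩
    calc t * s = t * s * t⁻¹ * t := by group
      _ = s * t := by rw [h2]

theorem F_eq (s : X) :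
    F G s = Nat.card (ConjClasses ↥(G ⊓ Subgroup.centralizer ({s} : Set X))) *
      Nat.card ↥(G ⊓ Subgroup.centralizer ({s} : Set X)) := by
  rw [← card_comm_eq_card_conjClasses_mul_card]
  unfold F
  apply Nat.card_congr
  refine ⟨fun tg => ⟨(⟨tg.1.1, (mem_inf_centralizer_iff G s _).mpr ⟨tg.1.1.2, tg.2.2.1⟩⟩,
      ⟨tg.1.2, (mem_inf_centralizer_iff G s _).mpr ⟨tg.1.2.2, tg.2.2.2⟩⟩), ?_⟩,
    fun p => ⟨(⟨p.1.1, ((mem_inf_centralizer_iff G s _).mp p.1.1.2).1⟩,
      ⟨p.1.2, ((mem_inf_centralizer_iff G s _).mp p.1.2.2).1⟩), ?_, ?_, ?_⟩, ?_, ?_⟩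
  · exact Subtype.ext tg.2.1
  · exact congrArg Subtype.val p.2
  · exact ((mem_inf_centralizer_iff G s _).mp p.1.1.2).2
  · exact ((mem_inf_centralizer_iff G s _).mp p.1.2.2).2
  · intro tg
    rfl
  · intro p
    rfl

theorem orbit_count [Finite X] (V : Subgroup X) [V.Normal] {s : X} (hs : s ∈ V) :
    Nat.card {v : V // ∃ h ∈ G, h * (v : X) * h⁻¹ = s} *
      Nat.card ↥(G ⊓ Subgroup.centralizer ({s} : Set X)) = Nat.card G := by
  classical
  haveI : Fintype V := Fintype.ofFinite V
  have h1 : Nat.card {p : V × G // (p.2 : X) * (p.1 : X) * (p.2 : X)⁻¹ = s} = Nat.card G := by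
    apply Nat.card_congr
    refine ⟨fun p => p.1.2, fun h => ⟨(⟨(h : X)⁻¹ * s * (h : X), ?_⟩, h), ?_⟩, ?_, ?_⟩
    · have := ‹V.Normal›.conj_mem s hs (h : X)⁻¹
      simpa using this
    · simp only
      group
    · rintro ⟨⟨v, h⟩, hp⟩
      apply Subtype.ext
      simp only [Prod.mk.injEq, and_true]
      apply Subtype.ext
      simp only at hp ⊢
      rw [← hp]
      group
    · intro h
      rfl
  rw [← h1, card_subtype_prod_eq_sum_fst (fun (v : V) (h : G) => (h : X) * (v : X) * (h : X)⁻¹ = s)]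
  have h3 : ∀ v : V, Nat.card {h : G // (h : X) * (v : X) * (h : X)⁻¹ = s} =
      (if (∃ h ∈ G, h * (v : X) * h⁻¹ = s) then 1 else 0) *
        Nat.card ↥(G ⊓ Subgroup.centralizer ({s} : Set X)) := by
    intro v
    split_ifs with hv
    · rw [one_mul]
      obtain ⟨h₀, hh₀, hv₀⟩ := hv
      apply Nat.card_congr
      refine ⟨fun h => ⟨(h.1 : X) * h₀⁻¹, ?_⟩, fun c => ⟨⟨(c : X) * h₀, ?_⟩, ?_⟩, ?_, ?_⟩
      · rw [mem_inf_centralizer_iff]
        refine ⟨G.mul_mem h.1.2 (G.inv_mem hh₀), ?_⟩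
        obtain ⟨h, hh⟩ := h
        simp only
        calc (h : X) * h₀⁻¹ * s * ((h : X) * h₀⁻¹)⁻¹
            = (h : X) * h₀⁻¹ * (h₀ * (v : X) * h₀⁻¹) * ((h : X) * h₀⁻¹)⁻¹ := by rw [hv₀]
          _ = (h : X) * (v : X) * (h : X)⁻¹ := by group
          _ = s := hh
      · exact G.mul_mem ((mem_inf_centralizer_iff G s _).mp c.2).1 hh₀
      · have hc := ((mem_inf_centralizer_iff G s _).mp c.2).2
        simp only
        calc (c : X) * h₀ * (v : X) * ((c : X) * h₀)⁻¹ = (c : X) * (h₀ * (v : X) * h₀⁻¹) * (c : X)⁻¹ := by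
              group
          _ = s := by rw [hv₀, hc]
      · intro h
        apply Subtype.ext
        apply Subtype.ext
        simp
      · intro c
        apply Subtype.ext
        simp
    · rw [zero_mul]
      haveI : IsEmpty {h : G // (h : X) * (v : X) * (h : X)⁻¹ = s} :=
        ⟨fun h => hv ⟨h.1, h.1.2, h.2⟩⟩
      exact Nat.card_of_isEmpty
  rw [Finset.sum_congr rfl (fun v _ => h3 v), ← Finset.sum_mul, Finset.sum_boole,
    Nat.card_eq_fintype_card, Fintype.card_subtype]
  simp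

end Orbits

/-- Let X be a finite group, V an abelian normal subgroup of X (any two elements of V commute) and G a complement to V in X whose order is coprime to that of V. Let S be a set of representatives of the orbits of G on V under conjugation: S lies in V and every element of V is conjugate under G to exactly one member of S. Then the number of conjugacy classes of X equals the sum, over s in S, of the number of conjugacy classes of the centralizer of s in G. -/
theorem result {X : Type*} [Group X] [Finite X] (V : Subgroup X) [V.Normal] (hab : ∀ a ∈ V, ∀ b ∈ V, a * b = b * a) (G : Subgroup X) (hGV : Subgroup.IsComplement' V G) (hcop : (Nat.card V).Coprime (Nat.card G)) (S : Finset X) (hSV : ∀ s ∈ S, s ∈ V) (hrep : ∀ v ∈ V, ∃! s, s ∈ S ∧ ∃ g ∈ G, g * v * g⁻¹ = s) : Nat.card (ConjClasses X) = ∑ s ∈ S, Nat.card (ConjClasses ↥(G ⊓ Subgroup.centralizer ({s} : Set X))) := by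
  classical
  haveI : Fintype V := Fintype.ofFinite V
  have hX : Nat.card V * Nat.card G = Nat.card X := hGV.card_mul_card
  have h1 := card_comm_eq_card_conjClasses_mul_card X
  rw [comm_count V hab G hGV hcop] at h1
  have hT : Nat.card {q : (G × G) × V //
        ((q.1.1 : X) * (q.1.2 : X) = (q.1.2 : X) * (q.1.1 : X)) ∧
          MulAut.conjNormal (q.1.1 : X) q.2 = q.2 ∧ MulAut.conjNormal (q.1.2 : X) q.2 = q.2} =
      ∑ v : V, F G (v : X) := by
    rw [card_subtype_prod_eq_sum_snd (fun (tg : G × G) (v : V) =>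
      ((tg.1 : X) * (tg.2 : X) = (tg.2 : X) * (tg.1 : X)) ∧
          MulAut.conjNormal (tg.1 : X) v = v ∧ MulAut.conjNormal (tg.2 : X) v = v)]
    refine Finset.sum_congr rfl fun v _ => ?_
    unfold F
    apply Nat.card_congr
    apply Equiv.subtypeEquivRight
    intro tg
    rw [conjNormal_eq_iff, conjNormal_eq_iff]
  simp only [ExistsUnique] at hrep
  choose! rep hrep1 hrep2 using hrep
  have hsum : ∑ v : V, F G (v : X) =
      Nat.card G * ∑ s ∈ S, Nat.card (ConjClasses ↥(G ⊓ Subgroup.centralizer ({s} : Set X))) := by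
    rw [← Finset.sum_fiberwise_of_maps_to (s := (Finset.univ : Finset V)) (t := S)
      (g := fun v : V => rep (v : X)) (fun v _ => (hrep1 v v.2).1), Finset.mul_sum]
    refine Finset.sum_congr rfl fun s hs => ?_
    have hF : ∀ v ∈ Finset.univ.filter (fun v : V => rep (v : X) = s), F G (v : X) = F G s := by
      intro v hv
      rw [Finset.mem_filter] at hv
      obtain ⟨g, hg, hgv⟩ := (hrep1 v v.2).2
      rw [← hv.2, ← hgv, F_conj G hg]
    rw [Finset.sum_congr rfl hF, Finset.sum_const, smul_eq_mul, F_eq G s]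
    have hcount : (Finset.univ.filter (fun v : V => rep (v : X) = s)).card =
        Nat.card {v : V // ∃ h ∈ G, h * (v : X) * h⁻¹ = s} := by
      rw [Nat.card_eq_fintype_card, Fintype.card_subtype]
      congr 1
      ext v
      simp only [Finset.mem_filter, Finset.mem_univ, true_and]
      constructor
      · intro hv
        rw [← hv]
        exact (hrep1 v v.2).2
      · intro hv
        exact (hrep2 v v.2 s ⟨hs, hv⟩).symm
    rw [hcount, ← orbit_count G V (hSV s hs)]
    ring
  rw [hT, hsum, ← mul_assoc, hX] at h1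
  have hpos : 0 < Nat.card X := Nat.card_pos
  rw [mul_comm (Nat.card X)] at h1
  exact (Nat.eq_of_mul_eq_mul_right hpos h1).symm

end Cfsg.Agent.S4956
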