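import Mathlib
import Cfsg.Statements.S4964
import Cfsg.Agent.Lib.Helper18.BlockQuotP
import Cfsg.Agent.Lib.Helper23.BurnsideFrattini
import Cfsg.Agent.Lib.Helper23.PGroup

set_option autoImplicit false
open Cfsg

namespace Cfsg.Agent.S4964

open Cfsg.Agent.Helper24 Cfsg.Agent.Helper18 Cfsg.Agent.Helper23.Blk
open scoped ComplexConjugate

theorem result {G : Type*} [Group G] [Finite G] (p : ℕ) [Fact p.Prime] (M : Ideal Cfsg.AlgInt) (hM : Cfsg.IsPModular p M) (D : Subgroup G) [D.Normal] (hD : IsPGroup p D) : (∀ χ ψ : Cfsg.IrrCharacter (G ⧸ ⁅D, D⁆), Cfsg.SameBlock M (χ : G ⧸ ⁅D, D⁆ → ℂ) (ψ : G ⧸ ⁅D, D⁆ → ℂ) ↔ Cfsg.SameBlock M ((χ : G ⧸ ⁅D, D⁆ → ℂ) ∘ QuotientGroup.mk) ((ψ : G ⧸ ⁅D, D⁆ → ℂ) ∘ QuotientGroup.mk)) ∧ ∀ B : Set (Cfsg.IrrCharacter G), Cfsg.IsPBlock M B → ∃ χ : Cfsg.IrrCharacter (G ⧸ ⁅D, D⁆), ∃ θ ∈ B, (θ : G → ℂ) = (χ : G ⧸ ⁅D, D⁆ → ℂ) ∘ QuotientGroup.mk := by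
  classical
  haveI : Fintype G := Fintype.ofFinite G
  haveI : Fintype (G ⧸ ⁅D, D⁆) := Fintype.ofFinite _
  have hp : p.Prime := Fact.out
  have hMp : M.IsPrime := isPrime_of_isPModular hM
  haveI := hMp
  have hD'le : ⁅D, D⁆ ≤ D := Subgroup.commutator_le_left D D
  have hD'p : IsPGroup p (⁅D, D⁆ : Subgroup G) := hD.to_le hD'le
  -- the Frattini subgroup of `D` inside `G`
  obtain ⟨Φ, hΦ⟩ : ∃ Φ : Subgroup G, Φ = (frattini D).map D.subtype := ⟨_, rfl⟩
  have hΦn : Φ.Normal := by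
    rw [hΦ]
    exact ConjAct.normal_of_characteristic_of_normal
  have hD'Φ : ⁅D, D⁆ ≤ Φ := by
    rw [hΦ, ← Subgroup.map_subtype_commutator D]
    exact Subgroup.map_mono (Cfsg.Agent.Helper23.commutator_le_frattini_pgroup p hD)
  constructor
  · intro χ ψ
    constructor
    · exact sameBlock_comp_mk ⁅D, D⁆
    · intro h
      have hQn : (D.map (QuotientGroup.mk' ⁅D, D⁆)).Normal :=
        Subgroup.Normal.map inferInstance _ (QuotientGroup.mk'_surjective _)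
      have hQp : IsPGroup p (D.map (QuotientGroup.mk' ⁅D, D⁆)) := hD.map _
      apply sameBlock_of_congr_on_centralizer hM (D.map (QuotientGroup.mk' ⁅D, D⁆)) hQp
      intro y hy hyC
      obtain ⟨g, hg, rfl⟩ := exists_pRegular_lift ⁅D, D⁆ hp y hy
      -- `g` centralizes `D`
      have hcop : (Nat.card (Subgroup.zpowers g)).Coprime p := by
        rw [Nat.card_zpowers]
        exact ((Nat.Prime.coprime_iff_not_dvd hp).mpr hg).symm
      have hnorm : Subgroup.zpowers g ≤ Subgroup.normalizer (Φ : Set G) := by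
        rw [Subgroup.normalizer_eq_top]
        exact le_top
      have hzle : Subgroup.zpowers g ≤
          (Subgroup.centralizer ((D.map (QuotientGroup.mk' ⁅D, D⁆) : Subgroup (G ⧸ ⁅D, D⁆)) :
            Set (G ⧸ ⁅D, D⁆))).comap (QuotientGroup.mk' ⁅D, D⁆) := by
        rw [Subgroup.zpowers_le]
        exact hyC
      have hact : ∀ a ∈ Subgroup.zpowers g, ∀ r ∈ D, a * r * a⁻¹ * r⁻¹ ∈ Φ := by
        intro a ha r hr
        apply hD'Φ
        rw [← QuotientGroup.eq_one_iff]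
        have h1 := hzle ha
        rw [Subgroup.mem_comap, Subgroup.mem_centralizer_iff] at h1
        have h2 := h1 (QuotientGroup.mk' ⁅D, D⁆ r) (Subgroup.mem_map_of_mem _ hr)
        simp only [QuotientGroup.mk'_apply] at h2
        rw [QuotientGroup.mk_mul, QuotientGroup.mk_mul, QuotientGroup.mk_mul,
          QuotientGroup.mk_inv, QuotientGroup.mk_inv, ← h2, mul_assoc ((r : G ⧸ ⁅D, D⁆)),
          mul_inv_cancel, mul_one, mul_inv_cancel]
      have hcent := Cfsg.Agent.Helper23.centralizes_of_frattini D hD (Subgroup.zpowers g) hcop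
        inferInstance (by rw [← hΦ]; exact hnorm) (by rw [← hΦ]; exact hact)
      have hgD' : g ∈ Subgroup.centralizer ((⁅D, D⁆ : Subgroup G) : Set G) := by
        rw [Subgroup.mem_centralizer_iff]
        intro d hd
        have h1 := hcent (hD'le hd)
        rw [Subgroup.mem_centralizer_iff] at h1
        exact (h1 g (Subgroup.mem_zpowers g)).symm
      have h1 := h g
      rw [centralChar_comp_mk_eq ⁅D, D⁆ hp hD'p _ hg hgD',
        centralChar_comp_mk_eq ⁅D, D⁆ hp hD'p _ hg hgD'] at h1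
      exact h1
  · intro B hB
    obtain ⟨θ, hθB, hθP⟩ := exists_mem_block_trivial_on ⁅D, D⁆ hM hD'p hB
    obtain ⟨ψ, hψ, hθψ⟩ := exists_deflate ⁅D, D⁆ θ.2 hθP
    exact ⟨⟨ψ, hψ⟩, θ, hθB, hθψ⟩

end Cfsg.Agent.S4964
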