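import Mathlib
import Cfsg.Statements.S4965

set_option autoImplicit false
open Cfsg

namespace Cfsg.Agent.S4965

universe u

section

variable {X : Type u} [Group X] (V : Subgroup X) [V.Normal]

/-- A chosen commuting pair of lifts for a pair of elements of the quotient (if there is one). -/
noncomputable def base (qr : (X ⧸ V) × (X ⧸ V)) : X × X := by
  classical
  exact if h : ∃ p : X × X, Commute p.1 p.2 ∧ (QuotientGroup.mk p.1 : X ⧸ V) = qr.1 ∧
      (QuotientGroup.mk p.2 : X ⧸ V) = qr.2 then Classical.choose h else (1, 1)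

theorem base_spec {x y : X} (hxy : Commute x y) :
    Commute (base V (QuotientGroup.mk x, QuotientGroup.mk y)).1
        (base V (QuotientGroup.mk x, QuotientGroup.mk y)).2 ∧
      (QuotientGroup.mk (base V (QuotientGroup.mk x, QuotientGroup.mk y)).1 : X ⧸ V) =
        QuotientGroup.mk x ∧
      (QuotientGroup.mk (base V (QuotientGroup.mk x, QuotientGroup.mk y)).2 : X ⧸ V) =
        QuotientGroup.mk y := by
  have h : ∃ p : X × X, Commute p.1 p.2 ∧
      (QuotientGroup.mk p.1 : X ⧸ V) = ((QuotientGroup.mk x : X ⧸ V), (QuotientGroup.mk y : X ⧸ V)).1 ∧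
      (QuotientGroup.mk p.2 : X ⧸ V) = ((QuotientGroup.mk x : X ⧸ V), (QuotientGroup.mk y : X ⧸ V)).2 :=
    ⟨(x, y), hxy, rfl, rfl⟩
  unfold base
  rw [dif_pos h]
  exact Classical.choose_spec h

theorem mul_inv_mem_of_mk_eq {x x₀ : X} (h : (QuotientGroup.mk x₀ : X ⧸ V) = QuotientGroup.mk x) :
    x * x₀⁻¹ ∈ V := by
  rw [← QuotientGroup.eq_one_iff, QuotientGroup.mk_mul, QuotientGroup.mk_inv, h, mul_inv_cancel]

end

/-- Let X be a finite group with an abelian normal subgroup V (any two elements of V commute), and let φ be the action of X ⧸ V on V induced by conjugation (well defined because V is abelian; the hypothesis hφ says that the class of x acts as conjugation by x). Then X has at most as many conjugacy classes as the semidirect product of V by X ⧸ V formed with this action: the split extension has the largest class number among extensions with the given action. -/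
theorem result {X : Type*} [Group X] [Finite X] (V : Subgroup X) [V.Normal] (hab : ∀ a ∈ V, ∀ b ∈ V, a * b = b * a) (φ : X ⧸ V →* MulAut ↥V) (hφ : ∀ (x : X) (v : ↥V), ((φ (QuotientGroup.mk x) v : ↥V) : X) = x * v * x⁻¹) : Nat.card (ConjClasses X) ≤ Nat.card (ConjClasses (SemidirectProduct ↥V (X ⧸ V) φ)) := by
  classical
  have hcardS : Nat.card (SemidirectProduct ↥V (X ⧸ V) φ) = Nat.card X := by
    rw [SemidirectProduct.card, mul_comm]
    exact (Subgroup.card_eq_card_quotient_mul_card_subgroup V).symm
  haveI : Finite (SemidirectProduct ↥V (X ⧸ V) φ) :=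
    Nat.finite_of_card_ne_zero (by rw [hcardS]; exact Nat.card_pos.ne')
  have h1 := card_comm_eq_card_conjClasses_mul_card X
  have h2 := card_comm_eq_card_conjClasses_mul_card (SemidirectProduct ↥V (X ⧸ V) φ)
  rw [hcardS] at h2
  have hpos : 0 < Nat.card X := Nat.card_pos
  suffices h : Nat.card {p : X × X // Commute p.1 p.2} ≤
      Nat.card {p : SemidirectProduct ↥V (X ⧸ V) φ × SemidirectProduct ↥V (X ⧸ V) φ //
        Commute p.1 p.2} by
    rw [h1, h2] at h
    exact Nat.le_of_mul_le_mul_right h hpos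
  -- the injection
  let f : {p : X × X // Commute p.1 p.2} →
      {p : SemidirectProduct ↥V (X ⧸ V) φ × SemidirectProduct ↥V (X ⧸ V) φ // Commute p.1 p.2} :=
    fun p =>
      ⟨(⟨⟨p.1.1 * (base V (QuotientGroup.mk p.1.1, QuotientGroup.mk p.1.2)).1⁻¹,
            mul_inv_mem_of_mk_eq V (base_spec V p.2).2.1⟩, QuotientGroup.mk p.1.1⟩,
        ⟨⟨p.1.2 * (base V (QuotientGroup.mk p.1.1, QuotientGroup.mk p.1.2)).2⁻¹,
            mul_inv_mem_of_mk_eq V (base_spec V p.2).2.2⟩, QuotientGroup.mk p.1.2⟩), by
        obtain ⟨⟨x, y⟩, hxy⟩ := p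
        obtain ⟨hc0, hx0, hy0⟩ := base_spec V hxy
        simp only at hc0 hx0 hy0 ⊢
        generalize base V ((QuotientGroup.mk x : X ⧸ V), (QuotientGroup.mk y : X ⧸ V)) = b
          at hc0 hx0 hy0 ⊢
        obtain ⟨x₀, y₀⟩ := b
        simp only at hc0 hx0 hy0 ⊢
        have hxy' : x * y = y * x := hxy
        have hc0' : x₀ * y₀ = y₀ * x₀ := hc0
        have e1 : ∀ v : V, ((φ (QuotientGroup.mk x) v : V) : X) = x₀ * v * x₀⁻¹ := by
          intro v
          rw [← hx0, hφ]
        have e2 : ∀ v : V, ((φ (QuotientGroup.mk y) v : V) : X) = y₀ * v * y₀⁻¹ := by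
          intro v
          rw [← hy0, hφ]
        apply SemidirectProduct.ext
        · apply Subtype.ext
          simp only [SemidirectProduct.mul_left, Subgroup.coe_mul]
          rw [e1, e2]
          simp only
          calc x * x₀⁻¹ * (x₀ * (y * y₀⁻¹) * x₀⁻¹) = x * y * (x₀ * y₀)⁻¹ := by group
            _ = y * x * (y₀ * x₀)⁻¹ := by rw [hxy', hc0']
            _ = y * y₀⁻¹ * (y₀ * (x * x₀⁻¹) * y₀⁻¹) := by group
        · simp only [SemidirectProduct.mul_right]
          rw [← QuotientGroup.mk_mul, ← QuotientGroup.mk_mul, hxy']⟩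
  have hf : Function.Injective f := by
    rintro ⟨⟨x, y⟩, hxy⟩ ⟨⟨x', y'⟩, hxy'⟩ h
    have h' := congrArg Subtype.val h
    simp only [f, Prod.mk.injEq] at h'
    obtain ⟨hl, hr⟩ := h'
    have hq : (QuotientGroup.mk x : X ⧸ V) = QuotientGroup.mk x' :=
      congrArg SemidirectProduct.right hl
    have hr' : (QuotientGroup.mk y : X ⧸ V) = QuotientGroup.mk y' :=
      congrArg SemidirectProduct.right hr
    have hl1 := congrArg (fun s => ((SemidirectProduct.left s : V) : X)) hl
    have hr1 := congrArg (fun s => ((SemidirectProduct.left s : V) : X)) hr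
    simp only at hl1 hr1
    rw [hq, hr'] at hl1 hr1
    apply Subtype.ext
    simp only [Prod.mk.injEq]
    exact ⟨mul_right_cancel hl1, mul_right_cancel hr1⟩
  exact Nat.card_le_card_of_injective f hf

end Cfsg.Agent.S4965
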