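import Mathlib
import Cfsg.Statements.S4966

set_option autoImplicit false
set_option linter.style.haveILetI false

open Cfsg

namespace Cfsg.Agent.S4966

open Module LinearMap

universe u v w

variable {F : Type u} [Field F] {G : Type w} [Group G]

section basics

variable {V : Type v} [AddCommGroup V] [Module F V]

/-- Invariance of a subspace. -/
def Inv (ρ : Representation F G V) (X : Submodule F V) : Prop :=
  ∀ g : G, ∀ x ∈ X, ρ g x ∈ X

theorem rho_inv_apply (ρ : Representation F G V) (g : G) (x : V) : ρ g⁻¹ (ρ g x) = x := by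
  have : ρ g⁻¹ (ρ g x) = (ρ g⁻¹ * ρ g) x := rfl
  rw [this, ← map_mul, inv_mul_cancel, map_one]
  rfl

theorem rho_apply_inv (ρ : Representation F G V) (g : G) (x : V) : ρ g (ρ g⁻¹ x) = x := by
  have := rho_inv_apply ρ g⁻¹ x
  rwa [inv_inv] at this

theorem rho_mul_apply (ρ : Representation F G V) (g h : G) (x : V) :
    ρ (g * h) x = ρ g (ρ h x) := by
  rw [map_mul]; rfl

/-- The restriction of a representation to an invariant subspace. -/
def subrep (ρ : Representation F G V) (X : Submodule F V) (hX : Inv ρ X) :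
    Representation F G X where
  toFun g := (ρ g).restrict (hX g)
  map_one' := by
    ext x
    simp
  map_mul' g h := by
    ext x
    simp

@[simp]
theorem subrep_apply (ρ : Representation F G V) (X : Submodule F V) (hX : Inv ρ X) (g : G)
    (x : X) : ((subrep ρ X hX g x : X) : V) = ρ g x := rfl

theorem inv_bot (ρ : Representation F G V) : Inv ρ ⊥ := by
  intro g x hx
  rw [Submodule.mem_bot] at hx ⊢
  rw [hx, map_zero]

theorem inv_top (ρ : Representation F G V) : Inv ρ ⊤ := fun _ _ _ => Submodule.mem_top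

theorem Inv.inf {ρ : Representation F G V} {X Y : Submodule F V} (hX : Inv ρ X) (hY : Inv ρ Y) :
    Inv ρ (X ⊓ Y) := fun g x hx => ⟨hX g x hx.1, hY g x hx.2⟩

theorem Inv.sup {ρ : Representation F G V} {X Y : Submodule F V} (hX : Inv ρ X) (hY : Inv ρ Y) :
    Inv ρ (X ⊔ Y) := by
  intro g x hx
  obtain ⟨a, ha, b, hb, rfl⟩ := Submodule.mem_sup.mp hx
  rw [map_add]
  exact Submodule.add_mem_sup (hX g a ha) (hY g b hb)

end basics

section maschke

variable {V : Type v} [AddCommGroup V] [Module F V]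

/-- Maschke's theorem for invariant subspaces. -/
theorem exists_inv_compl [Finite G] (ρ : Representation F G V) (hcard : (Nat.card G : F) ≠ 0)
    (R : Submodule F V) (hR : Inv ρ R) : ∃ N : Submodule F V, Inv ρ N ∧ IsCompl R N := by
  classical
  letI : Fintype G := Fintype.ofFinite G
  obtain ⟨Z, hZ⟩ := Submodule.exists_isCompl R
  set π₀ : V →ₗ[F] V := R.projection Z hZ with hπ₀
  have hπ₀_mem : ∀ v, π₀ v ∈ R := fun v => Submodule.projection_apply_mem hZ v
  have hπ₀_fix : ∀ r ∈ R, π₀ r = r := by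
    intro r hr
    exact (Submodule.projection_eq_self_iff hZ r).mpr hr
  set c : F := (Nat.card G : F)⁻¹ with hc
  let πt : V →ₗ[F] V := c • ∑ g : G, (ρ g) ∘ₗ π₀ ∘ₗ (ρ g⁻¹)
  have hπt_app : ∀ v, πt v = c • ∑ g : G, ρ g (π₀ (ρ g⁻¹ v)) := by
    intro v
    simp only [πt, LinearMap.smul_apply, LinearMap.sum_apply, LinearMap.comp_apply]
  have hπt_mem : ∀ v, πt v ∈ R := by
    intro v
    rw [hπt_app]
    apply R.smul_mem
    apply R.sum_mem
    intro g _
    exact hR g _ (hπ₀_mem _)
  have hπt_fix : ∀ r ∈ R, πt r = r := by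
    intro r hr
    rw [hπt_app]
    have : ∀ g : G, ρ g (π₀ (ρ g⁻¹ r)) = r := by
      intro g
      rw [hπ₀_fix _ (hR g⁻¹ r hr), rho_apply_inv]
    rw [Finset.sum_congr rfl (fun g _ => this g), Finset.sum_const, Finset.card_univ,
      ← Nat.card_eq_fintype_card, ← Nat.cast_smul_eq_nsmul F, smul_smul, hc,
      inv_mul_cancel₀ hcard, one_smul]
  have hπt_eq : ∀ (h : G) (v : V), πt (ρ h v) = ρ h (πt v) := by
    intro h v
    rw [hπt_app, hπt_app, map_smul, map_sum]
    congr 1
    apply Fintype.sum_equiv (Equiv.mulLeft h⁻¹)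
    intro g
    show ρ g (π₀ (ρ g⁻¹ (ρ h v))) = ρ h (ρ (h⁻¹ * g) (π₀ (ρ (h⁻¹ * g)⁻¹ v)))
    rw [← rho_mul_apply ρ h (h⁻¹ * g), mul_inv_cancel_left, mul_inv_rev, inv_inv,
      rho_mul_apply ρ g⁻¹ h]
  refine ⟨LinearMap.ker πt, ?_, ?_, ?_⟩
  · intro g x hx
    rw [LinearMap.mem_ker] at hx ⊢
    rw [hπt_eq, hx, map_zero]
  · rw [disjoint_iff]
    rw [Submodule.eq_bot_iff]
    rintro x ⟨hxR, hxK⟩
    rw [SetLike.mem_coe, LinearMap.mem_ker] at hxK
    rw [← hπt_fix x hxR, hxK]
  · rw [codisjoint_iff, eq_top_iff]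
    intro v _
    have h1 : v = πt v + (v - πt v) := by abel
    rw [h1]
    apply Submodule.add_mem_sup (hπt_mem v)
    rw [LinearMap.mem_ker, map_sub, hπt_fix _ (hπt_mem v), sub_self]

/-- Irreducible invariant subspaces exist below any nonzero invariant subspace. -/
theorem exists_irred [FiniteDimensional F V] (ρ : Representation F G V) :
    ∀ (n : ℕ) (C : Submodule F V), finrank F C = n → Inv ρ C → C ≠ ⊥ →
      ∃ M : Submodule F V, M ≤ C ∧ Inv ρ M ∧ M ≠ ⊥ ∧
        ∀ M' : Submodule F V, M' ≤ M → Inv ρ M' → M' = ⊥ ∨ M' = M := by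
  intro n
  induction n using Nat.strong_induction_on with
  | _ n ih =>
    intro C hn hC hC0
    by_cases hirr : ∀ M' : Submodule F V, M' ≤ C → Inv ρ M' → M' = ⊥ ∨ M' = C
    · exact ⟨C, le_rfl, hC, hC0, hirr⟩
    · push Not at hirr
      obtain ⟨M', hM'C, hM'inv, hM'0, hM'ne⟩ := hirr
      have hlt : M' < C := lt_of_le_of_ne hM'C hM'ne
      have hfin : finrank F M' < n := by
        rw [← hn]
        exact Submodule.finrank_lt_finrank_of_lt hlt
      obtain ⟨M, hM1, hM2, hM3, hM4⟩ := ih _ hfin M' rfl hM'inv hM'0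
      exact ⟨M, hM1.trans hM'C, hM2, hM3, hM4⟩

end maschke

section forms

variable {V : Type v} [AddCommGroup V] [Module F V]

/-- Invariance of a bilinear form. -/
def FInv (ρ : Representation F G V) (B : LinearMap.BilinForm F V) : Prop :=
  ∀ (g : G) (x y : V), B (ρ g x) (ρ g y) = B x y

theorem FInv.left {ρ : Representation F G V} {B : LinearMap.BilinForm F V} (hB : FInv ρ B)
    (g : G) (x y : V) : B (ρ g x) y = B x (ρ g⁻¹ y) := by
  rw [← hB g x (ρ g⁻¹ y), rho_apply_inv]

theorem FInv.right {ρ : Representation F G V} {B : LinearMap.BilinForm F V} (hB : FInv ρ B)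
    (g : G) (x y : V) : B x (ρ g y) = B (ρ g⁻¹ x) y := by
  rw [← hB g (ρ g⁻¹ x) y, rho_apply_inv]

theorem exists_repr [FiniteDimensional F V] (B : LinearMap.BilinForm F V) (X : Submodule F V)
    (hX : (B.restrict X).Nondegenerate) (f : Module.Dual F X) :
    ∃ x₀ : X, ∀ x' : X, B x' x₀ = f x' := by
  have hfl : (B.restrict X).flip.Nondegenerate := hX.flip
  refine ⟨((B.restrict X).flip.toDual hfl).symm f, fun x' => ?_⟩
  have h1 := LinearMap.BilinForm.apply_toDual_symm_apply (hB := hfl) f x'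
  exact h1

theorem isCompl_orthogonal [FiniteDimensional F V] (B : LinearMap.BilinForm F V)
    (X : Submodule F V) (hX : (B.restrict X).Nondegenerate) : IsCompl X (B.orthogonal X) := by
  constructor
  · rw [disjoint_iff, Submodule.eq_bot_iff]
    rintro x ⟨hx1, hx2⟩
    have h1 : ∀ x' : X, (B.restrict X) x' ⟨x, hx1⟩ = 0 := fun x' => hx2 x' x'.2
    have := hX.2 ⟨x, hx1⟩ h1
    exact congrArg Subtype.val this
  · rw [codisjoint_iff, eq_top_iff]
    intro v _
    obtain ⟨x₀, hx₀⟩ := exists_repr B X hX ((B.flip v).domRestrict X)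
    have h1 : v = (x₀ : V) + (v - x₀) := by abel
    rw [h1]
    apply Submodule.add_mem_sup x₀.2
    intro x' hx'
    show B x' (v - x₀) = 0
    rw [map_sub, sub_eq_zero]
    exact (hx₀ ⟨x', hx'⟩).symm

theorem orthogonal_inv {ρ : Representation F G V} {B : LinearMap.BilinForm F V} (hB : FInv ρ B)
    {X : Submodule F V} (hX : Inv ρ X) : Inv ρ (B.orthogonal X) := by
  intro g v hv x hx
  show B x (ρ g v) = 0
  rw [hB.right]
  exact hv _ (hX g⁻¹ x hx)

theorem restrict_orthogonal_nondeg [FiniteDimensional F V] (B : LinearMap.BilinForm F V)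
    (hB : B.Nondegenerate) (X : Submodule F V) (hc : IsCompl X (B.orthogonal X)) :
    (B.restrict (B.orthogonal X)).Nondegenerate := by
  apply LinearMap.BilinForm.Nondegenerate.ofSeparatingRight
  intro y hy
  apply Subtype.ext
  apply hB.2
  intro v
  have hv : v ∈ X ⊔ B.orthogonal X := by rw [hc.sup_eq_top]; exact Submodule.mem_top
  obtain ⟨a, ha, b, hb, rfl⟩ := Submodule.mem_sup.mp hv
  rw [map_add, LinearMap.add_apply]
  have h1 : B a y = 0 := y.2 a ha
  have h2 : B b y = 0 := hy ⟨b, hb⟩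
  rw [h1, h2, add_zero]

end forms

section assemble

variable {V : Type v} [AddCommGroup V] [Module F V]

/-- The conclusion of the theorem for a representation. -/
def Concl (p : ℕ) (ρ : Representation F G V) : Prop :=
  ∃ U W : Submodule F V, IsCompl U W ∧ (∀ g : G, ∀ u ∈ U, ρ g u ∈ U) ∧
    (∀ g : G, ∀ w ∈ W, ρ g w ∈ W) ∧
    (∃ A : LinearMap.BilinForm F V, (∀ x : V, A x x = 0) ∧
      (∀ g : G, ∀ x ∈ U, ∀ y ∈ U, A (ρ g x) (ρ g y) = A x y) ∧
      (∀ x ∈ U, (∀ y ∈ U, A x y = 0) → x = 0)) ∧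
    (∃ S : LinearMap.BilinForm F V, (∀ x y : V, S x y = S y x) ∧
      (∀ g : G, ∀ x ∈ W, ∀ y ∈ W, S (ρ g x) (ρ g y) = S x y) ∧
      (∀ x ∈ W, (∀ y ∈ W, S x y = 0) → x = 0)) ∧
    (p = 2 → ∀ g : G, ∀ w ∈ W, ρ g w = w)

theorem concl_of_isCompl (p : ℕ) (ρ : Representation F G V) (X Y : Submodule F V)
    (h : IsCompl X Y) (hX : Inv ρ X) (hY : Inv ρ Y) (cX : Concl p (subrep ρ X hX))
    (cY : Concl p (subrep ρ Y hY)) : Concl p ρ := by
  obtain ⟨UX, WX, hcX, hUXi, hWXi, ⟨AX, hAXa, hAXi, hAXs⟩, ⟨SX, hSXs, hSXi, hSXn⟩, hpX⟩ := cX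
  obtain ⟨UY, WY, hcY, hUYi, hWYi, ⟨AY, hAYa, hAYi, hAYs⟩, ⟨SY, hSYs, hSYi, hSYn⟩, hpY⟩ := cY
  set πX : V →ₗ[F] X := X.projectionOnto Y h with hπX
  set πY : V →ₗ[F] Y := Y.projectionOnto X h.symm with hπY
  have hdec : ∀ v : V, ((πX v : X) : V) + ((πY v : Y) : V) = v := by
    intro v
    have := Submodule.projection_add_projection_eq_self h v
    rw [Submodule.projection_apply, Submodule.projection_apply] at this
    exact this
  have hXX : ∀ x : X, πX x = x := fun x => Submodule.projectionOnto_apply_left h x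
  have hYX : ∀ y : Y, πX y = 0 := fun y => Submodule.projectionOnto_apply_right h y
  have hYY : ∀ y : Y, πY y = y := fun y => Submodule.projectionOnto_apply_left h.symm y
  have hXY : ∀ x : X, πY x = 0 := fun x => Submodule.projectionOnto_apply_right h.symm x
  have heqX : ∀ (g : G) (v : V), πX (ρ g v) = subrep ρ X hX g (πX v) := by
    intro g v
    have h1 : ρ g v = ((subrep ρ X hX g (πX v) : X) : V) + ((subrep ρ Y hY g (πY v) : Y) : V) := by
      rw [subrep_apply, subrep_apply, ← map_add, hdec]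
    rw [h1, map_add, hXX, hYX, add_zero]
  have heqY : ∀ (g : G) (v : V), πY (ρ g v) = subrep ρ Y hY g (πY v) := by
    intro g v
    have h1 : ρ g v = ((subrep ρ X hX g (πX v) : X) : V) + ((subrep ρ Y hY g (πY v) : Y) : V) := by
      rw [subrep_apply, subrep_apply, ← map_add, hdec]
    rw [h1, map_add, hXY, hYY, zero_add]
  have hzero : ∀ v : V, πX v = 0 → πY v = 0 → v = 0 := by
    intro v h1 h2
    rw [← hdec v, h1, h2]
    simp
  refine ⟨UX.comap πX ⊓ UY.comap πY, WX.comap πX ⊓ WY.comap πY, ⟨?_, ?_⟩, ?_, ?_,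
    ⟨AX.compl₁₂ πX πX + AY.compl₁₂ πY πY, ?_, ?_, ?_⟩,
    ⟨SX.compl₁₂ πX πX + SY.compl₁₂ πY πY, ?_, ?_, ?_⟩, ?_⟩
  · -- disjoint
    rw [disjoint_iff, Submodule.eq_bot_iff]
    rintro v ⟨⟨h1, h2⟩, ⟨h3, h4⟩⟩
    have e1 : πX v ∈ UX ⊓ WX := ⟨h1, h3⟩
    have e2 : πY v ∈ UY ⊓ WY := ⟨h2, h4⟩
    rw [hcX.inf_eq_bot, Submodule.mem_bot] at e1
    rw [hcY.inf_eq_bot, Submodule.mem_bot] at e2
    exact hzero v e1 e2
  · -- codisjoint
    rw [codisjoint_iff, eq_top_iff]
    intro v _
    have e1 : πX v ∈ UX ⊔ WX := by rw [hcX.sup_eq_top]; exact Submodule.mem_top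
    have e2 : πY v ∈ UY ⊔ WY := by rw [hcY.sup_eq_top]; exact Submodule.mem_top
    obtain ⟨a, ha, b, hb, hab⟩ := Submodule.mem_sup.mp e1
    obtain ⟨c, hc, d, hd, hcd⟩ := Submodule.mem_sup.mp e2
    have hv : v = ((a : V) + (c : V)) + ((b : V) + (d : V)) := by
      rw [← hdec v, ← hab, ← hcd]
      simp only [Submodule.coe_add]
      abel
    rw [hv]
    apply Submodule.add_mem_sup
    · refine ⟨?_, ?_⟩
      · show πX ((a : V) + (c : V)) ∈ UX
        rw [map_add, hXX, hYX, add_zero]; exact ha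
      · show πY ((a : V) + (c : V)) ∈ UY
        rw [map_add, hXY, hYY, zero_add]; exact hc
    · refine ⟨?_, ?_⟩
      · show πX ((b : V) + (d : V)) ∈ WX
        rw [map_add, hXX, hYX, add_zero]; exact hb
      · show πY ((b : V) + (d : V)) ∈ WY
        rw [map_add, hXY, hYY, zero_add]; exact hd
  · rintro g u ⟨h1, h2⟩
    refine ⟨?_, ?_⟩
    · show πX (ρ g u) ∈ UX
      rw [heqX]; exact hUXi g _ h1
    · show πY (ρ g u) ∈ UY
      rw [heqY]; exact hUYi g _ h2
  · rintro g u ⟨h1, h2⟩
    refine ⟨?_, ?_⟩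
    · show πX (ρ g u) ∈ WX
      rw [heqX]; exact hWXi g _ h1
    · show πY (ρ g u) ∈ WY
      rw [heqY]; exact hWYi g _ h2
  · intro x
    rw [LinearMap.add_apply, LinearMap.add_apply, LinearMap.compl₁₂_apply,
      LinearMap.compl₁₂_apply, hAXa, hAYa, add_zero]
  · rintro g x ⟨hx1, hx2⟩ y ⟨hy1, hy2⟩
    simp only [LinearMap.add_apply, LinearMap.compl₁₂_apply]
    rw [heqX, heqX, heqY, heqY, hAXi g _ hx1 _ hy1, hAYi g _ hx2 _ hy2]
  · rintro x ⟨hx1, hx2⟩ hx
    apply hzero
    · apply hAXs _ hx1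
      intro y hy
      have := hx (y : V) ⟨by show πX (y : V) ∈ UX; rw [hXX]; exact hy,
        by show πY (y : V) ∈ UY; rw [hXY]; exact UY.zero_mem⟩
      simp only [LinearMap.add_apply, LinearMap.compl₁₂_apply] at this
      rwa [hXX, hXY, map_zero, add_zero] at this
    · apply hAYs _ hx2
      intro y hy
      have := hx (y : V) ⟨by show πX (y : V) ∈ UX; rw [hYX]; exact UX.zero_mem,
        by show πY (y : V) ∈ UY; rw [hYY]; exact hy⟩
      simp only [LinearMap.add_apply, LinearMap.compl₁₂_apply] at this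
      rwa [hYX, hYY, map_zero, zero_add] at this
  · intro x y
    simp only [LinearMap.add_apply, LinearMap.compl₁₂_apply]
    rw [hSXs, hSYs]
  · rintro g x ⟨hx1, hx2⟩ y ⟨hy1, hy2⟩
    simp only [LinearMap.add_apply, LinearMap.compl₁₂_apply]
    rw [heqX, heqX, heqY, heqY, hSXi g _ hx1 _ hy1, hSYi g _ hx2 _ hy2]
  · rintro x ⟨hx1, hx2⟩ hx
    apply hzero
    · apply hSXn _ hx1
      intro y hy
      have := hx (y : V) ⟨by show πX (y : V) ∈ WX; rw [hXX]; exact hy,
        by show πY (y : V) ∈ WY; rw [hXY]; exact WY.zero_mem⟩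
      simp only [LinearMap.add_apply, LinearMap.compl₁₂_apply] at this
      rwa [hXX, hXY, map_zero, add_zero] at this
    · apply hSYn _ hx2
      intro y hy
      have := hx (y : V) ⟨by show πX (y : V) ∈ WX; rw [hYX]; exact WX.zero_mem,
        by show πY (y : V) ∈ WY; rw [hYY]; exact hy⟩
      simp only [LinearMap.add_apply, LinearMap.compl₁₂_apply] at this
      rwa [hYX, hYY, map_zero, zero_add] at this
  · rintro hp g w ⟨hw1, hw2⟩
    have e1 := hpX hp g _ hw1
    have e2 := hpY hp g _ hw2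
    rw [← hdec (ρ g w), heqX, heqY, e1, e2, hdec]

end assemble

section types

variable {V : Type v} [AddCommGroup V] [Module F V]

theorem concl_typeU (p : ℕ) (ρ : Representation F G V) (A : LinearMap.BilinForm F V)
    (hAa : ∀ x : V, A x x = 0) (hAi : FInv ρ A) (hAs : ∀ x : V, (∀ y : V, A x y = 0) → x = 0) :
    Concl p ρ := by
  refine ⟨⊤, ⊥, isCompl_top_bot, fun _ _ _ => Submodule.mem_top, inv_bot ρ,
    ⟨A, hAa, fun g x _ y _ => hAi g x y, fun x _ hx => hAs x (fun y => hx y Submodule.mem_top)⟩,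
    ⟨0, fun _ _ => rfl, fun _ _ _ _ _ => rfl, fun x hx _ => (Submodule.mem_bot F).mp hx⟩, ?_⟩
  intro _ g w hw
  rw [(Submodule.mem_bot F).mp hw, map_zero]

theorem concl_typeW (p : ℕ) (ρ : Representation F G V) (S : LinearMap.BilinForm F V)
    (hSs : ∀ x y : V, S x y = S y x) (hSi : FInv ρ S)
    (hSn : ∀ x : V, (∀ y : V, S x y = 0) → x = 0) (hp : p = 2 → ∀ g : G, ∀ w : V, ρ g w = w) :
    Concl p ρ := by
  refine ⟨⊥, ⊤, isCompl_bot_top, inv_bot ρ, fun _ _ _ => Submodule.mem_top,
    ⟨0, fun _ => rfl, fun _ _ _ _ _ => rfl, fun x hx _ => (Submodule.mem_bot F).mp hx⟩,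
    ⟨S, hSs, fun g x _ y _ => hSi g x y, fun x _ hx => hSn x (fun y => hx y Submodule.mem_top)⟩,
    fun h g w _ => hp h g w⟩

end types

section case1

variable {V : Type v} [AddCommGroup V] [Module F V]

/-- Irreducibility relative to the ambient representation. -/
def Irred (ρ : Representation F G V) (M : Submodule F V) : Prop :=
  Inv ρ M ∧ M ≠ ⊥ ∧ ∀ M' : Submodule F V, M' ≤ M → Inv ρ M' → M' = ⊥ ∨ M' = M

theorem FInv.flip {ρ : Representation F G V} {B : LinearMap.BilinForm F V} (hB : FInv ρ B) :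
    FInv ρ B.flip := fun g x y => hB g y x

theorem FInv.add {ρ : Representation F G V} {B C : LinearMap.BilinForm F V} (hB : FInv ρ B)
    (hC : FInv ρ C) : FInv ρ (B + C) := fun g x y => by
  rw [LinearMap.add_apply, LinearMap.add_apply, LinearMap.add_apply, LinearMap.add_apply,
    hB g x y, hC g x y]

theorem FInv.sub {ρ : Representation F G V} {B C : LinearMap.BilinForm F V} (hB : FInv ρ B)
    (hC : FInv ρ C) : FInv ρ (B - C) := fun g x y => by
  rw [LinearMap.sub_apply, LinearMap.sub_apply, LinearMap.sub_apply, LinearMap.sub_apply,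
    hB g x y, hC g x y]

/-- For an irreducible `M` and an invariant pairing with an invariant subspace `N`: the left
kernel in `M` is everything or zero. -/
theorem left_rad_cases {ρ : Representation F G V} {M : Submodule F V} (hM : Irred ρ M)
    {C : LinearMap.BilinForm F V} (hC : FInv ρ C) {N : Submodule F V} (hN : Inv ρ N) :
    (∀ m ∈ M, (∀ n ∈ N, C m n = 0) → m = 0) ∨ (∀ m ∈ M, ∀ n ∈ N, C m n = 0) := by
  let K : Submodule F V :=
    { carrier := {m | m ∈ M ∧ ∀ n ∈ N, C m n = 0}
      add_mem' := by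
        rintro a b ⟨ha, ha'⟩ ⟨hb, hb'⟩
        refine ⟨M.add_mem ha hb, fun n hn => ?_⟩
        rw [map_add, LinearMap.add_apply, ha' n hn, hb' n hn, add_zero]
      zero_mem' := ⟨M.zero_mem, fun n _ => by rw [map_zero, LinearMap.zero_apply]⟩
      smul_mem' := by
        rintro c a ⟨ha, ha'⟩
        refine ⟨M.smul_mem c ha, fun n hn => ?_⟩
        rw [map_smul, LinearMap.smul_apply, ha' n hn, smul_zero] }
  have hKM : K ≤ M := fun m hm => hm.1
  have hKinv : Inv ρ K := by
    rintro g m ⟨hm, hm'⟩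
    refine ⟨hM.1 g m hm, fun n hn => ?_⟩
    rw [hC.left]
    exact hm' _ (hN g⁻¹ n hn)
  rcases hM.2.2 K hKM hKinv with h0 | h1
  · left
    intro m hm hmn
    have : m ∈ K := ⟨hm, hmn⟩
    rw [h0] at this
    exact (Submodule.mem_bot F).mp this
  · right
    intro m hm n hn
    have : m ∈ K := by rw [h1]; exact hm
    exact this.2 n hn

/-- Same on the right. -/
theorem right_rad_cases {ρ : Representation F G V} {M : Submodule F V} (hM : Irred ρ M)
    {C : LinearMap.BilinForm F V} (hC : FInv ρ C) {N : Submodule F V} (hN : Inv ρ N) :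
    (∀ m ∈ M, (∀ n ∈ N, C n m = 0) → m = 0) ∨ (∀ m ∈ M, ∀ n ∈ N, C n m = 0) :=
  left_rad_cases hM hC.flip hN

theorem case1 [FiniteDimensional F V] (p : ℕ) [CharP F p] (ρ : Representation F G V)
    (B : LinearMap.BilinForm F V) (hBi : FInv ρ B) (M : Submodule F V) (hM : Irred ρ M)
    (hne : ∃ m ∈ M, ∃ m' ∈ M, B m m' ≠ 0) :
    (B.restrict M).Nondegenerate ∧ Concl p (subrep ρ M hM.1) := by
  obtain ⟨m₀, hm₀, m₀', hm₀', hne⟩ := hne
  have hsepL : ∀ m ∈ M, (∀ n ∈ M, B m n = 0) → m = 0 := by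
    rcases left_rad_cases hM hBi hM.1 with h | h
    · exact h
    · exact absurd (h m₀ hm₀ m₀' hm₀') hne
  have hnd : (B.restrict M).Nondegenerate := by
    apply LinearMap.BilinForm.Nondegenerate.ofSeparatingLeft
    intro x hx
    apply Subtype.ext
    exact hsepL x x.2 (fun n hn => hx ⟨n, hn⟩)
  refine ⟨hnd, ?_⟩
  have hsubinv : ∀ C : LinearMap.BilinForm F V, FInv ρ C →
      FInv (subrep ρ M hM.1) (C.restrict M) := by
    intro C hC g x y
    exact hC g x y
  by_cases hp2 : p = 2
  · -- characteristic two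
    subst hp2
    have h2 : (2 : F) = 0 := CharTwo.two_eq_zero
    have hneg : ∀ a : F, -a = a := fun a => by
      rw [neg_eq_iff_add_eq_zero, ← two_mul, h2, zero_mul]
    rcases left_rad_cases hM (hBi.add hBi.flip) hM.1 with h | h
    · apply concl_typeU 2 _ ((B + B.flip).restrict M)
      · intro x
        show (B + B.flip) x x = 0
        rw [LinearMap.add_apply]
        show B x x + B x x = 0
        rw [← two_mul, h2, zero_mul]
      · exact hsubinv _ (hBi.add hBi.flip)
      · intro x hx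
        apply Subtype.ext
        exact h x x.2 (fun n hn => hx ⟨n, hn⟩)
    · have hsymm : ∀ m ∈ M, ∀ n ∈ M, B m n = B n m := by
        intro m hm n hn
        have := h m hm n hn
        rw [LinearMap.add_apply] at this
        have h3 : B m n + B n m = 0 := this
        rw [← hneg (B n m)]
        exact eq_neg_of_add_eq_zero_left h3
      let K : Submodule F V :=
        { carrier := {m | m ∈ M ∧ B m m = 0}
          add_mem' := by
            rintro a b ⟨ha, ha'⟩ ⟨hb, hb'⟩
            refine ⟨M.add_mem ha hb, ?_⟩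
            have key : B (a + b) (a + b) = B a a + B b b + (B a b + B b a) := by
              simp only [map_add, LinearMap.add_apply]; ring
            rw [key, ha', hb', hsymm b hb a ha, add_zero, zero_add, ← two_mul, h2, zero_mul]
          zero_mem' := ⟨M.zero_mem, by simp⟩
          smul_mem' := by
            rintro c a ⟨ha, ha'⟩
            refine ⟨M.smul_mem c ha, ?_⟩
            have key : B (c • a) (c • a) = c * (c * B a a) := by
              simp only [map_smul, LinearMap.smul_apply, smul_eq_mul]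
            rw [key, ha', mul_zero, mul_zero] }
      have hKM : K ≤ M := fun m hm => hm.1
      have hKinv : Inv ρ K := by
        rintro g m ⟨hm, hm'⟩
        exact ⟨hM.1 g m hm, by rw [hBi g m m, hm']⟩
      rcases hM.2.2 K hKM hKinv with h0 | h1
      · -- trivial action, symmetric form
        apply concl_typeW 2 _ (B.restrict M)
        · intro x y
          exact hsymm x x.2 y y.2
        · exact hsubinv _ hBi
        · intro x hx
          apply Subtype.ext
          exact hsepL x x.2 (fun n hn => hx ⟨n, hn⟩)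
        · intro _ g w
          apply Subtype.ext
          show ρ g (w : V) = w
          have hmem : ρ g (w : V) - w ∈ K := by
            refine ⟨M.sub_mem (hM.1 g _ w.2) w.2, ?_⟩
            have key : B (ρ g (w : V) - w) (ρ g (w : V) - w) =
                B (ρ g (w : V)) (ρ g (w : V)) + B (w : V) w -
                  (B (ρ g (w : V)) w + B (w : V) (ρ g (w : V))) := by
              simp only [map_sub, LinearMap.sub_apply]; ring
            rw [key, hBi g, hsymm _ (hM.1 g _ w.2) _ w.2, ← two_mul, ← two_mul, h2, zero_mul,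
              zero_mul, sub_zero]
          rw [h0] at hmem
          exact sub_eq_zero.mp ((Submodule.mem_bot F).mp hmem)
      · -- alternating
        apply concl_typeU 2 _ (B.restrict M)
        · intro x
          have : (x : V) ∈ K := by rw [h1]; exact x.2
          exact this.2
        · exact hsubinv _ hBi
        · intro x hx
          apply Subtype.ext
          exact hsepL x x.2 (fun n hn => hx ⟨n, hn⟩)
  · -- odd characteristic (or anything but two)
    rcases left_rad_cases hM (hBi.sub hBi.flip) hM.1 with h | h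
    · apply concl_typeU p _ ((B - B.flip).restrict M)
      · intro x
        show (B - B.flip) x x = 0
        rw [LinearMap.sub_apply]
        show B x x - B x x = 0
        rw [sub_self]
      · exact hsubinv _ (hBi.sub hBi.flip)
      · intro x hx
        apply Subtype.ext
        exact h x x.2 (fun n hn => hx ⟨n, hn⟩)
    · apply concl_typeW p _ (B.restrict M)
      · intro x y
        have := h x x.2 y y.2
        rw [LinearMap.sub_apply] at this
        exact sub_eq_zero.mp this
      · exact hsubinv _ hBi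
      · intro x hx
        apply Subtype.ext
        exact hsepL x x.2 (fun n hn => hx ⟨n, hn⟩)
      · intro h
        exact absurd h hp2

end case1

section case2

variable {V : Type v} [AddCommGroup V] [Module F V]

theorem exists_N [FiniteDimensional F V] [Finite G] (ρ : Representation F G V)
    (hcard : (Nat.card G : F) ≠ 0) (B : LinearMap.BilinForm F V) (hB : B.Nondegenerate)
    (hBi : FInv ρ B) (M : Submodule F V) (hM : Irred ρ M) :
    ∃ N : Submodule F V, Inv ρ N ∧ N ⊓ B.orthogonal M = ⊥ ∧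
      (∀ m ∈ M, (∀ n ∈ N, B n m = 0) → m = 0) := by
  set R : Submodule F V := B.orthogonal M with hR
  set L : Submodule F V := B.flip.orthogonal M with hL
  have hRinv : Inv ρ R := orthogonal_inv hBi hM.1
  have hLinv : Inv ρ L := orthogonal_inv hBi.flip hM.1
  have hRmem : ∀ v, v ∈ R ↔ ∀ m ∈ M, B m v = 0 := fun v => Iff.rfl
  have hLmem : ∀ v, v ∈ L ↔ ∀ m ∈ M, B v m = 0 := fun v => Iff.rfl
  obtain ⟨N₁, hN₁inv, hN₁c⟩ := exists_inv_compl ρ hcard R hRinv
  rcases right_rad_cases hM hBi hN₁inv with hcond | hN₁L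
  · exact ⟨N₁, hN₁inv, by rw [inf_comm]; exact hN₁c.inf_eq_bot, hcond⟩
  -- now N₁ ≤ L
  have hLtop : L ≠ ⊤ := by
    intro h
    apply hM.2.1
    rw [Submodule.eq_bot_iff]
    intro m hm
    apply hB.2
    intro v
    have : v ∈ L := by rw [h]; exact Submodule.mem_top
    exact this m hm
  obtain ⟨C, hCinv, hCc⟩ := exists_inv_compl ρ hcard L hLinv
  have hC0 : C ≠ ⊥ := by
    intro h
    apply hLtop
    have := hCc.sup_eq_top
    rwa [h, sup_bot_eq] at this
  obtain ⟨N₂, hN₂C, hN₂inv, hN₂0, hN₂irr⟩ := exists_irred ρ _ C rfl hCinv hC0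
  have hN₂L : N₂ ⊓ L = ⊥ := by
    rw [eq_bot_iff]
    calc N₂ ⊓ L ≤ C ⊓ L := inf_le_inf_right _ hN₂C
      _ = ⊥ := by rw [inf_comm]; exact hCc.inf_eq_bot
  have hcond₂ : ∀ m ∈ M, (∀ n ∈ N₂, B n m = 0) → m = 0 := by
    rcases right_rad_cases hM hBi hN₂inv with h | h
    · exact h
    · exfalso
      apply hN₂0
      rw [eq_bot_iff, ← hN₂L]
      intro n hn
      exact ⟨hn, fun m hm => h m hm n hn⟩
  rcases hN₂irr (N₂ ⊓ R) inf_le_left (hN₂inv.inf hRinv) with h0 | h1
  · exact ⟨N₂, hN₂inv, h0, hcond₂⟩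
  have hN₂R : N₂ ≤ R := by rw [← h1]; exact inf_le_right
  -- surjectivity onto the dual of M
  have hsurj : ∀ v₀ : V, ∃ n₁ ∈ N₁, ∀ m ∈ M, B m n₁ = B v₀ m := by
    intro v₀
    have hfl : B.flip.Nondegenerate := hB.flip
    set v : V := (B.flip.toDual hfl).symm (B v₀) with hv
    have hvx : ∀ x, B x v = B v₀ x := by
      intro x
      exact LinearMap.BilinForm.apply_toDual_symm_apply (hB := hfl) (B v₀) x
    have hmem : v ∈ R ⊔ N₁ := by rw [hN₁c.sup_eq_top]; exact Submodule.mem_top
    obtain ⟨r, hr, n₁, hn₁, hrn⟩ := Submodule.mem_sup.mp hmem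
    refine ⟨n₁, hn₁, fun m hm => ?_⟩
    rw [← hvx m, ← hrn, map_add, hr m hm, zero_add]
  -- the diagonal
  let N : Submodule F V :=
    { carrier := {v | ∃ n₁ ∈ N₁, ∃ n₂ ∈ N₂, v = n₁ + n₂ ∧ ∀ m ∈ M, B m n₁ = B n₂ m}
      add_mem' := by
        rintro _ _ ⟨a₁, ha₁, a₂, ha₂, rfl, ha⟩ ⟨b₁, hb₁, b₂, hb₂, rfl, hb⟩
        refine ⟨a₁ + b₁, N₁.add_mem ha₁ hb₁, a₂ + b₂, N₂.add_mem ha₂ hb₂, by abel, ?_⟩
        intro m hm
        rw [map_add, map_add, LinearMap.add_apply, ha m hm, hb m hm]
      zero_mem' := ⟨0, N₁.zero_mem, 0, N₂.zero_mem, by simp, by simp⟩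
      smul_mem' := by
        rintro c _ ⟨a₁, ha₁, a₂, ha₂, rfl, ha⟩
        refine ⟨c • a₁, N₁.smul_mem c ha₁, c • a₂, N₂.smul_mem c ha₂, by rw [smul_add], ?_⟩
        intro m hm
        rw [map_smul, map_smul, LinearMap.smul_apply, ha m hm] }
  have hNinv : Inv ρ N := by
    rintro g _ ⟨a₁, ha₁, a₂, ha₂, rfl, ha⟩
    refine ⟨ρ g a₁, hN₁inv g a₁ ha₁, ρ g a₂, hN₂inv g a₂ ha₂, by rw [map_add], ?_⟩
    intro m hm
    rw [hBi.right g m a₁, ha _ (hM.1 g⁻¹ m hm)]
    exact (hBi.left g a₂ m).symm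
  refine ⟨N, hNinv, ?_, ?_⟩
  · rw [Submodule.eq_bot_iff]
    rintro _ ⟨⟨a₁, ha₁, a₂, ha₂, rfl, ha⟩, hvR⟩
    have ha₁R : a₁ ∈ R := by
      have : a₁ = (a₁ + a₂) - a₂ := by abel
      rw [this]
      exact R.sub_mem hvR (hN₂R ha₂)
    have ha₁0 : a₁ = 0 := by
      have : a₁ ∈ R ⊓ N₁ := ⟨ha₁R, ha₁⟩
      rw [hN₁c.inf_eq_bot] at this
      exact (Submodule.mem_bot F).mp this
    have ha₂0 : a₂ = 0 := by
      have : a₂ ∈ N₂ ⊓ L := by
        refine ⟨ha₂, fun m hm => ?_⟩
        show B a₂ m = 0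
        rw [← ha m hm, ha₁0, map_zero]
      rw [hN₂L] at this
      exact (Submodule.mem_bot F).mp this
    rw [ha₁0, ha₂0, add_zero]
  · intro m hm hmN
    apply hcond₂ m hm
    intro n₂ hn₂
    obtain ⟨n₁, hn₁, hn₁'⟩ := hsurj n₂
    have hmem : n₁ + n₂ ∈ N := ⟨n₁, hn₁, n₂, hn₂, rfl, hn₁'⟩
    have := hmN _ hmem
    rw [map_add, LinearMap.add_apply, hN₁L m hm n₁ hn₁, zero_add] at this
    exact this


/-- A hyperbolic pair of invariant subspaces gives an alternating form. -/
theorem concl_hyperbolic (p : ℕ) (ρ : Representation F G V) (B : LinearMap.BilinForm F V)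
    (hBi : FInv ρ B) (M N : Submodule F V) (hc : IsCompl M N) (hM : Inv ρ M) (hN : Inv ρ N)
    (hsepM : ∀ m ∈ M, (∀ n ∈ N, B m n = 0) → m = 0)
    (hsepN : ∀ n ∈ N, (∀ m ∈ M, B m n = 0) → n = 0) : Concl p ρ := by
  set πM : V →ₗ[F] V := M.subtype ∘ₗ M.projectionOnto N hc with hπM
  set πN : V →ₗ[F] V := N.subtype ∘ₗ N.projectionOnto M hc.symm with hπN
  have hdec : ∀ v : V, πM v + πN v = v := by
    intro v
    have := Submodule.projection_add_projection_eq_self hc v
    rw [Submodule.projection_apply, Submodule.projection_apply] at this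
    exact this
  have hMmem : ∀ v : V, πM v ∈ M := fun v => (M.projectionOnto N hc v).2
  have hNmem : ∀ v : V, πN v ∈ N := fun v => (N.projectionOnto M hc.symm v).2
  have hMM : ∀ m ∈ M, πM m = m := by
    intro m hm
    show ((M.projectionOnto N hc m : M) : V) = m
    have := Submodule.projectionOnto_apply_left hc ⟨m, hm⟩
    exact congrArg Subtype.val this
  have hNM : ∀ n ∈ N, πM n = 0 := by
    intro n hn
    show ((M.projectionOnto N hc n : M) : V) = 0
    have := Submodule.projectionOnto_apply_right hc ⟨n, hn⟩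
    exact congrArg Subtype.val this
  have hNN : ∀ n ∈ N, πN n = n := by
    intro n hn
    show ((N.projectionOnto M hc.symm n : N) : V) = n
    have := Submodule.projectionOnto_apply_left hc.symm ⟨n, hn⟩
    exact congrArg Subtype.val this
  have hMN : ∀ m ∈ M, πN m = 0 := by
    intro m hm
    show ((N.projectionOnto M hc.symm m : N) : V) = 0
    have := Submodule.projectionOnto_apply_right hc.symm ⟨m, hm⟩
    exact congrArg Subtype.val this
  have heqM : ∀ (g : G) (v : V), πM (ρ g v) = ρ g (πM v) := by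
    intro g v
    have h1 : ρ g v = ρ g (πM v) + ρ g (πN v) := by rw [← map_add, hdec]
    rw [h1, map_add, hMM _ (hM g _ (hMmem v)), hNM _ (hN g _ (hNmem v)), add_zero]
  have heqN : ∀ (g : G) (v : V), πN (ρ g v) = ρ g (πN v) := by
    intro g v
    have h1 : ρ g v = ρ g (πM v) + ρ g (πN v) := by rw [← map_add, hdec]
    rw [h1, map_add, hMN _ (hM g _ (hMmem v)), hNN _ (hN g _ (hNmem v)), zero_add]
  set C : LinearMap.BilinForm F V := B.compl₁₂ πM πN with hC
  have hCapp : ∀ x y : V, C x y = B (πM x) (πN y) := fun x y => LinearMap.compl₁₂_apply _ _ _ _ _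
  apply concl_typeU p ρ (C - C.flip)
  · intro x
    rw [LinearMap.sub_apply]
    show C x x - C x x = 0
    rw [sub_self]
  · intro g x y
    rw [LinearMap.sub_apply, LinearMap.sub_apply]
    show C (ρ g x) (ρ g y) - C (ρ g y) (ρ g x) = C x y - C y x
    rw [hCapp, hCapp, hCapp, hCapp, heqM, heqM, heqN, heqN, hBi, hBi]
  · intro x hx
    have hx' : ∀ y : V, B (πM x) (πN y) - B (πM y) (πN x) = 0 := by
      intro y
      have := hx y
      rw [LinearMap.sub_apply] at this
      change C x y - C y x = 0 at this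
      rwa [hCapp, hCapp] at this
    have h1 : πM x = 0 := by
      apply hsepM _ (hMmem x)
      intro n hn
      have := hx' n
      rwa [hNN n hn, hNM n hn, map_zero, LinearMap.zero_apply, sub_zero] at this
    have h2 : πN x = 0 := by
      apply hsepN _ (hNmem x)
      intro m hm
      have := hx' m
      rwa [hMN m hm, hMM m hm, map_zero, zero_sub, neg_eq_zero] at this
    rw [← hdec x, h1, h2, add_zero]

theorem case2 [FiniteDimensional F V] [Finite G] (p : ℕ) (ρ : Representation F G V)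
    (hcard : (Nat.card G : F) ≠ 0) (B : LinearMap.BilinForm F V) (hB : B.Nondegenerate)
    (hBi : FInv ρ B) (M : Submodule F V) (hM : Irred ρ M)
    (hiso : ∀ m ∈ M, ∀ m' ∈ M, B m m' = 0) :
    ∃ (X : Submodule F V) (hX : Inv ρ X), X ≠ ⊥ ∧ (B.restrict X).Nondegenerate ∧
      Concl p (subrep ρ X hX) := by
  obtain ⟨N, hNinv, hNR, hcond⟩ := exists_N ρ hcard B hB hBi M hM
  have hRmem : ∀ v, v ∈ B.orthogonal M ↔ ∀ m ∈ M, B m v = 0 := fun v => Iff.rfl
  have hNsep : ∀ n ∈ N, (∀ m ∈ M, B m n = 0) → n = 0 := by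
    intro n hn h
    have : n ∈ N ⊓ B.orthogonal M := ⟨hn, h⟩
    rw [hNR] at this
    exact (Submodule.mem_bot F).mp this
  have hMN : M ⊓ N = ⊥ := by
    rw [Submodule.eq_bot_iff]
    rintro x ⟨hxM, hxN⟩
    exact hNsep x hxN (fun m hm => hiso m hm x hxM)
  have hMsep : ∀ m ∈ M, (∀ n ∈ N, B m n = 0) → m = 0 := by
    rcases left_rad_cases hM hBi hNinv with h | h
    · exact h
    · intro m hm _
      apply hcond m hm
      intro n hn
      have : n = 0 := hNsep n hn (fun m' hm' => h m' hm' n hn)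
      rw [this, map_zero, LinearMap.zero_apply]
  have hXinv : Inv ρ (M ⊔ N) := hM.1.sup hNinv
  refine ⟨M ⊔ N, hXinv, ?_, ?_, ?_⟩
  · intro h
    apply hM.2.1
    rw [eq_bot_iff, ← h]
    exact le_sup_left
  · apply LinearMap.BilinForm.Nondegenerate.ofSeparatingRight
    intro y hy
    apply Subtype.ext
    obtain ⟨m, hm, n, hn, hmn⟩ := Submodule.mem_sup.mp y.2
    have hn0 : n = 0 := by
      apply hNsep n hn
      intro m' hm'
      have := hy ⟨m', Submodule.mem_sup_left hm'⟩
      change B m' (y : V) = 0 at this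
      rwa [← hmn, map_add, hiso m' hm' m hm, zero_add] at this
    have hm0 : m = 0 := by
      apply hcond m hm
      intro n' hn'
      have := hy ⟨n', Submodule.mem_sup_right hn'⟩
      change B n' (y : V) = 0 at this
      rwa [← hmn, hn0, add_zero] at this
    show (y : V) = 0
    rw [← hmn, hm0, hn0, add_zero]
  · set X : Submodule F V := M ⊔ N with hX
    set M' : Submodule F X := M.comap X.subtype with hM'
    set N' : Submodule F X := N.comap X.subtype with hN'
    have hc : IsCompl M' N' := by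
      constructor
      · rw [disjoint_iff, Submodule.eq_bot_iff]
        rintro x ⟨hx1, hx2⟩
        apply Subtype.ext
        have : (x : V) ∈ M ⊓ N := ⟨hx1, hx2⟩
        rw [hMN] at this
        exact (Submodule.mem_bot F).mp this
      · rw [codisjoint_iff, eq_top_iff]
        intro x _
        obtain ⟨m, hm, n, hn, hmn⟩ := Submodule.mem_sup.mp x.2
        have hx : x = (⟨m, Submodule.mem_sup_left hm⟩ : X) + ⟨n, Submodule.mem_sup_right hn⟩ := by
          apply Subtype.ext
          exact hmn.symm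
        rw [hx]
        exact Submodule.add_mem_sup (show (m : V) ∈ M from hm) (show (n : V) ∈ N from hn)
    apply concl_hyperbolic p (subrep ρ X hXinv) (B.restrict X) (fun g x y => hBi g x y) M' N' hc
    · intro g x hx
      exact hM.1 g x hx
    · intro g x hx
      exact hNinv g x hx
    · intro m hm h
      apply Subtype.ext
      apply hMsep m hm
      intro n hn
      exact h ⟨n, Submodule.mem_sup_right hn⟩ hn
    · intro n hn h
      apply Subtype.ext
      apply hNsep n hn
      intro m hm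
      exact h ⟨m, Submodule.mem_sup_left hm⟩ hm


theorem exists_piece [FiniteDimensional F V] [Finite G] (p : ℕ) [CharP F p]
    (ρ : Representation F G V) (hcard : (Nat.card G : F) ≠ 0) (B : LinearMap.BilinForm F V)
    (hB : B.Nondegenerate) (hBi : FInv ρ B) (hV : (⊤ : Submodule F V) ≠ ⊥) :
    ∃ (X : Submodule F V) (hX : Inv ρ X), X ≠ ⊥ ∧ (B.restrict X).Nondegenerate ∧
      Concl p (subrep ρ X hX) := by
  obtain ⟨M, _, hMinv, hM0, hMirr⟩ := exists_irred ρ _ ⊤ rfl (inv_top ρ) hV
  have hM : Irred ρ M := ⟨hMinv, hM0, hMirr⟩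
  by_cases hne : ∃ m ∈ M, ∃ m' ∈ M, B m m' ≠ 0
  · obtain ⟨hnd, hc⟩ := case1 p ρ B hBi M hM hne
    exact ⟨M, hMinv, hM0, hnd, hc⟩
  · push Not at hne
    exact case2 p ρ hcard B hB hBi M hM hne

end case2


section main

theorem main_aux [Finite G] (p : ℕ) [CharP F p] (hcard : (Nat.card G : F) ≠ 0) (n : ℕ) :
    ∀ (V : Type v) [AddCommGroup V] [Module F V] [FiniteDimensional F V]
      (ρ : Representation F G V) (B : LinearMap.BilinForm F V), finrank F V = n →
      B.Nondegenerate → FInv ρ B → Concl p ρ := by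
  induction n using Nat.strong_induction_on with
  | _ n ih =>
    intro V _ _ _ ρ B hn hB hBi
    by_cases hV : (⊤ : Submodule F V) = ⊥
    · have hsub : ∀ v : V, v = 0 := fun v => by
        have : v ∈ (⊤ : Submodule F V) := Submodule.mem_top
        rw [hV] at this
        exact (Submodule.mem_bot F).mp this
      apply concl_typeW p ρ 0
      · intro x y; rfl
      · intro g x y; rfl
      · intro x _; exact hsub x
      · intro _ g w; rw [hsub w, map_zero]
    · obtain ⟨X, hXinv, hX0, hXnd, hXc⟩ := exists_piece p ρ hcard B hB hBi hV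
      have hc : IsCompl X (B.orthogonal X) := isCompl_orthogonal B X hXnd
      have hYinv : Inv ρ (B.orthogonal X) := orthogonal_inv hBi hXinv
      have hYnd := restrict_orthogonal_nondeg B hB X hc
      have hlt : finrank F (B.orthogonal X) < n := by
        have h1 := Submodule.finrank_add_eq_of_isCompl hc
        have h2 : 0 < finrank F X := by
          rw [Nat.pos_iff_ne_zero]
          intro h0
          exact hX0 (Submodule.finrank_eq_zero.mp h0)
        omega
      have cY := ih _ hlt (B.orthogonal X) (subrep ρ _ hYinv) (B.restrict _) rfl hYnd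
        (fun g x y => hBi g x y)
      exact concl_of_isCompl p ρ X _ hc hXinv hYinv hXc cY

end main

/-- Let F be a finite field of characteristic p, G a finite group of order prime to p, and V a finite-dimensional representation of G over F carrying a nondegenerate G-invariant bilinear form (equivalently, V is self-dual). Then V is the direct sum of two G-invariant subspaces U and W such that U carries a G-invariant alternating bilinear form that is nondegenerate on U and W carries a G-invariant symmetric bilinear form that is nondegenerate on W; moreover when p = 2 the decomposition can be chosen with G acting trivially on W. -/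
theorem result {F : Type*} [Field F] [Fintype F] (p : ℕ) [Fact p.Prime] [CharP F p] {G : Type*} [Group G] [Finite G] (hcop : ¬ p ∣ Nat.card G) {V : Type*} [AddCommGroup V] [Module F V] [FiniteDimensional F V] (ρ : Representation F G V) (B : LinearMap.BilinForm F V) (hB : B.Nondegenerate) (hBinv : ∀ g : G, ∀ x y : V, B (ρ g x) (ρ g y) = B x y) : ∃ U W : Submodule F V, IsCompl U W ∧ (∀ g : G, ∀ u ∈ U, ρ g u ∈ U) ∧ (∀ g : G, ∀ w ∈ W, ρ g w ∈ W) ∧ (∃ A : LinearMap.BilinForm F V, (∀ x : V, A x x = 0) ∧ (∀ g : G, ∀ x ∈ U, ∀ y ∈ U, A (ρ g x) (ρ g y) = A x y) ∧ (∀ x ∈ U, (∀ y ∈ U, A x y = 0) → x = 0)) ∧ (∃ S : LinearMap.BilinForm F V, (∀ x y : V, S x y = S y x) ∧ (∀ g : G, ∀ x ∈ W, ∀ y ∈ W, S (ρ g x) (ρ g y) = S x y) ∧ (∀ x ∈ W, (∀ y ∈ W, S x y = 0) → x = 0)) ∧ (p = 2 → ∀ g : G, ∀ w ∈ W, ρ g w = w) := by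
  have hcard : (Nat.card G : F) ≠ 0 := by
    intro h
    exact hcop ((CharP.cast_eq_zero_iff F p _).mp h)
  exact main_aux p hcard _ V ρ B rfl hB hBinv

end Cfsg.Agent.S4966
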