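import Mathlib
import Cfsg.Statements.S4989
import Cfsg.Agent.Lib.Helper25.CharGalois2

set_option autoImplicit false
open Cfsg

namespace Cfsg.Agent.S4989

open Cfsg.Agent.Helper24 Cfsg.Agent.Helper25 in
open scoped ComplexConjugate in
/-- Let H be a subgroup of the finite group G and χ an irreducible complex character of G. Then the inner product of the restriction of χ to H with itself, (1/#H)·Σ_{h ∈ H} |χ(h)|², is at most 1 + #(Z ∖ H)/#H, where Z is the set of zeros of χ in G. -/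
theorem result {G : Type*} [Group G] [Finite G] (H : Subgroup G) (χ : Cfsg.IrrCharacter G) : (Nat.card ↥H : ℝ)⁻¹ * ∑ᶠ h : ↥H, ‖(χ : G → ℂ) h‖ ^ 2 ≤ 1 + (Set.ncard ({x : G | (χ : G → ℂ) x = 0} \ (H : Set G)) : ℝ) / (Nat.card ↥H : ℝ) := by
  classical
  letI : Fintype G := Fintype.ofFinite G
  obtain ⟨χ, hχ⟩ := χ
  change (Nat.card ↥H : ℝ)⁻¹ * ∑ᶠ h : ↥H, ‖χ h‖ ^ 2 ≤
    1 + (Set.ncard ({x : G | χ x = 0} \ (H : Set G)) : ℝ) / (Nat.card ↥H : ℝ)
  have hchar : IsCharacter G χ := by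
    obtain ⟨n, ρ, -, h⟩ := hχ
    exact ⟨n, ρ, h⟩
  have hHpos : (0 : ℝ) < (Nat.card ↥H : ℝ) := by exact_mod_cast Nat.card_pos
  -- total sum
  have htot : ∑ g : G, ‖χ g‖ ^ 2 = (Nat.card G : ℝ) := by
    have h1 := irr_orthogonality hχ hχ
    rw [if_pos rfl, classInner] at h1
    have hG : (Nat.card G : ℂ) ≠ 0 := by exact_mod_cast (Nat.card_pos (α := G)).ne'
    have h2 : ∑ g : G, χ g * conj (χ g) = (Nat.card G : ℂ) := by
      field_simp at h1
      exact h1
    have h3 : ∑ g : G, χ g * conj (χ g) = ((∑ g : G, ‖χ g‖ ^ 2 : ℝ) : ℂ) := by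
      rw [Complex.ofReal_sum]
      refine Finset.sum_congr rfl fun g _ => ?_
      rw [Complex.mul_conj, Complex.normSq_eq_norm_sq]
    rw [h3] at h2
    exact_mod_cast h2
  -- split
  have hsplit : ∑ g : G, ‖χ g‖ ^ 2 =
      ∑ g ∈ Finset.univ.filter (fun g : G => g ∈ H), ‖χ g‖ ^ 2 +
      ∑ g ∈ Finset.univ.filter (fun g : G => g ∉ H), ‖χ g‖ ^ 2 :=
    (Finset.sum_filter_add_sum_filter_not Finset.univ (fun g : G => g ∈ H) _).symm
  have hH : ∑ᶠ h : ↥H, ‖χ h‖ ^ 2 = ∑ g ∈ Finset.univ.filter (fun g : G => g ∈ H), ‖χ g‖ ^ 2 := by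
    rw [finsum_eq_sum_of_fintype]
    rw [← Finset.sum_subtype (Finset.univ.filter (fun g : G => g ∈ H)) (p := fun g => g ∈ H)
      (fun x => by simp) (fun g => ‖χ g‖ ^ 2)]
  have hoff := card_nonzero_le_sum_off H hchar
  -- cardinalities
  have hcardS : ((Finset.univ.filter (fun g : G => g ∉ H)).card : ℝ) =
      (Nat.card G : ℝ) - (Nat.card ↥H : ℝ) := by
    have h1 : (Finset.univ.filter (fun g : G => g ∈ H)).card +
        (Finset.univ.filter (fun g : G => g ∉ H)).card = Fintype.card G := by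
      rw [Finset.card_filter_add_card_filter_not, Finset.card_univ]
    have h2 : (Finset.univ.filter (fun g : G => g ∈ H)).card = Nat.card ↥H := by
      rw [Nat.card_eq_fintype_card, Fintype.card_subtype]
    rw [Nat.card_eq_fintype_card (α := G), ← h1, h2]
    push_cast
    ring
  have hcardZ : (Set.ncard ({x : G | χ x = 0} \ (H : Set G)) : ℝ) =
      (((Finset.univ.filter (fun g : G => g ∉ H)).filter (fun g => χ g = 0)).card : ℝ) := by
    congr 1
    rw [Set.ncard_eq_toFinset_card']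
    congr 1
    ext g
    simp [and_comm]
  have hcard2 : (((Finset.univ.filter (fun g : G => g ∉ H)).filter (fun g => χ g ≠ 0)).card : ℝ) +
      (((Finset.univ.filter (fun g : G => g ∉ H)).filter (fun g => χ g = 0)).card : ℝ) =
      ((Finset.univ.filter (fun g : G => g ∉ H)).card : ℝ) := by
    have := Finset.card_filter_add_card_filter_not (s := Finset.univ.filter (fun g : G => g ∉ H))
      (fun g => χ g = 0)
    rw [add_comm]
    exact_mod_cast this
  rw [hH, hcardZ]
  have hmain : ∑ g ∈ Finset.univ.filter (fun g : G => g ∈ H), ‖χ g‖ ^ 2 ≤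
      (Nat.card ↥H : ℝ) +
      (((Finset.univ.filter (fun g : G => g ∉ H)).filter (fun g => χ g = 0)).card : ℝ) := by
    linarith
  rw [inv_mul_le_iff₀ hHpos]
  have : (Nat.card ↥H : ℝ) * (1 + (((Finset.univ.filter (fun g : G => g ∉ H)).filter
      (fun g => χ g = 0)).card : ℝ) / (Nat.card ↥H : ℝ)) = (Nat.card ↥H : ℝ) +
      (((Finset.univ.filter (fun g : G => g ∉ H)).filter (fun g => χ g = 0)).card : ℝ) := by
    field_simp
  rw [this]
  exact hmain

end Cfsg.Agent.S4989
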