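import Mathlib
import Cfsg.Statements.S4996
import Cfsg.Agent.Lib.Helper25.CharGalois3
import Cfsg.Agent.Lib.Helper25.CharCosetAvg
import Cfsg.Agent.Lib.Helper24.CharComplete

set_option autoImplicit false
open Cfsg

namespace Cfsg.Agent.S4996

open Cfsg.Agent.Helper24 Cfsg.Agent.Helper25 in
open scoped ComplexConjugate in
/-- Let N be a normal subgroup of the finite group G and χ an irreducible complex character of G. Then the restriction of χ to N is not irreducible if and only if χ vanishes on some whole coset Nx of N in G. -/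
theorem result {G : Type*} [Group G] [Finite G] (N : Subgroup G) [N.Normal] (χ : Cfsg.IrrCharacter G) : ¬ Cfsg.IsIrrCharacter ↥N (fun n : ↥N => (χ : G → ℂ) n) ↔ ∃ x : G, ∀ n : ↥N, (χ : G → ℂ) ((n : G) * x) = 0 := by
  classical
  letI : Fintype G := Fintype.ofFinite G
  letI : Fintype N := Fintype.ofFinite N
  letI : Fintype (IrrCharacter ↥N) := irrFintype
  obtain ⟨χ, hχ⟩ := χ
  change ¬ IsIrrCharacter ↥N (fun n : ↥N => χ n) ↔ ∃ x : G, ∀ n : ↥N, χ ((n : G) * x) = 0
  have hchar : IsCharacter G χ := isCharacter_of_isIrrCharacter hχ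
  obtain ⟨ψ, hψdef⟩ : ∃ ψ : G → ℂ, ψ = fun g => χ g * conj (χ g) := ⟨_, rfl⟩
  have hψ : IsCharacter G ψ := by
    rw [hψdef]
    exact isCharacter_mul hchar (isCharacter_conj hchar)
  obtain ⟨F, hFdef⟩ : ∃ F : G → ℂ, F = cosetAvg N ψ := ⟨_, rfl⟩
  have hF : IsCharacter G F := by
    rw [hFdef]
    exact isCharacter_cosetAvg N hψ
  have hFreal : ∀ g, F g = (((Nat.card N : ℝ)⁻¹ * ∑ m : N, ‖χ (g * (m : G))‖ ^ 2 : ℝ) : ℂ) := by
    intro g
    rw [hFdef, hψdef]
    exact cosetAvg_normSq N χ g
  have hF0 : ∀ g, F g = 0 ↔ ∀ m : N, χ (g * (m : G)) = 0 := by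
    intro g
    rw [hFdef, hψdef]
    exact cosetAvg_normSq_eq_zero_iff N χ g
  have hrestr : IsCharacter N (fun n : N => χ n) := isCharacter_restrict N hchar
  obtain ⟨k, hk⟩ := classInner_char_nat hrestr hrestr
  have hF1 : F 1 = k := by
    rw [← hk, hFdef, hψdef, cosetAvg_apply, classInner]
    congr 1
    refine Finset.sum_congr rfl fun m _ => ?_
    rw [one_mul]
  have hirr : IsIrrCharacter N (fun n : N => χ n) ↔ k = 1 := by
    rw [isIrrCharacter_iff, hk]
    constructor
    · rintro ⟨-, h⟩
      exact_mod_cast h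
    · intro h
      exact ⟨hrestr, by rw [h]; simp⟩
  -- conjugation: right coset vs left coset
  have hconj : ∀ x : G, (∀ n : N, χ ((n : G) * x) = 0) ↔ ∀ m : N, χ (x * (m : G)) = 0 := by
    intro x
    constructor
    · intro h m
      have hmem : x * (m : G) * x⁻¹ ∈ N := Subgroup.Normal.conj_mem inferInstance _ m.2 x
      have := h ⟨_, hmem⟩
      simpa using this
    · intro h n
      have hmem : x⁻¹ * (n : G) * x ∈ N := by
        have := Subgroup.Normal.conj_mem (inferInstance : N.Normal) _ n.2 x⁻¹
        simpa using this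
      have := h ⟨_, hmem⟩
      simpa [mul_assoc] using this
  constructor
  · intro hnot
    have hk1 : k ≠ 1 := fun h => hnot (hirr.mpr h)
    have hk0 : k ≠ 0 := by
      intro h0
      rw [h0, Nat.cast_zero] at hF1
      have := (hF0 1).mp hF1 1
      rw [one_mul, OneMemClass.coe_one] at this
      obtain ⟨n, hn, hn1⟩ := irr_one_eq hχ
      rw [hn1] at this
      have : n = 0 := by exact_mod_cast this
      omega
    have hk2 : 2 ≤ k := by omega
    by_contra hcon
    push_neg at hcon
    have hFne : ∀ g, F g ≠ 0 := by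
      intro g h0
      obtain ⟨n, hn⟩ := hcon g
      exact hn (((hconj g).mpr ((hF0 g).mp h0)) n)
    -- total sum
    have hsumF : ∑ g : G, F g = (Nat.card G : ℂ) := by
      rw [hFdef, sum_cosetAvg, hψdef]
      have h1 := irr_orthogonality hχ hχ
      rw [if_pos rfl, classInner] at h1
      have hG : (Nat.card G : ℂ) ≠ 0 := by exact_mod_cast (Nat.card_pos (α := G)).ne'
      field_simp at h1
      exact h1
    have hnorm : ∀ g, ((‖F g‖ : ℝ) : ℂ) = F g := by
      intro g
      rw [hFreal g, Complex.norm_real, Real.norm_of_nonneg]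
      have : (0 : ℝ) ≤ (Nat.card N : ℝ)⁻¹ := by positivity
      exact mul_nonneg this (Finset.sum_nonneg fun m _ => by positivity)
    have hsumnorm : ∑ g : G, ‖F g‖ = (Nat.card G : ℝ) := by
      have : ((∑ g : G, ‖F g‖ : ℝ) : ℂ) = ((Nat.card G : ℝ) : ℂ) := by
        rw [Complex.ofReal_sum, Finset.sum_congr rfl (fun g _ => hnorm g), hsumF]
        simp
      exact_mod_cast this
    -- split
    have hsplit : ∑ g : G, ‖F g‖ =
        ∑ g ∈ Finset.univ.filter (fun g : G => g ∈ N), ‖F g‖ +
        ∑ g ∈ Finset.univ.filter (fun g : G => g ∉ N), ‖F g‖ :=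
      (Finset.sum_filter_add_sum_filter_not Finset.univ (fun g : G => g ∈ N) _).symm
    have hstable : ∀ m : ℕ, (Nat.card G).Coprime m → ∀ g : G,
        g ^ m ∈ Finset.univ.filter (fun g : G => g ∉ N) ↔
          g ∈ Finset.univ.filter (fun g : G => g ∉ N) := by
      intro m hm g
      simp only [Finset.mem_filter, Finset.mem_univ, true_and]
      rw [pow_mem_iff_of_coprime N hm]
    have hoff := card_nonzero_le_sum_norm_of_stable _ hstable hF
    have hfilt : (Finset.univ.filter (fun g : G => g ∉ N)).filter (fun g => F g ≠ 0) =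
        Finset.univ.filter (fun g : G => g ∉ N) :=
      Finset.filter_true_of_mem fun g _ => hFne g
    rw [hfilt] at hoff
    have hcardN : (Finset.univ.filter (fun g : G => g ∈ N)).card = Nat.card N := by
      rw [Nat.card_eq_fintype_card, Fintype.card_subtype]
    have hcardS : ((Finset.univ.filter (fun g : G => g ∉ N)).card : ℝ) =
        (Nat.card G : ℝ) - (Nat.card N : ℝ) := by
      have h1 : (Finset.univ.filter (fun g : G => g ∈ N)).card +
          (Finset.univ.filter (fun g : G => g ∉ N)).card = Fintype.card G := by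
        rw [Finset.card_filter_add_card_filter_not, Finset.card_univ]
      rw [Nat.card_eq_fintype_card (α := G), ← h1, hcardN]
      push_cast
      ring
    have hon : ∑ g ∈ Finset.univ.filter (fun g : G => g ∈ N), ‖F g‖ =
        (Nat.card N : ℝ) * k := by
      have : ∀ g ∈ Finset.univ.filter (fun g : G => g ∈ N), ‖F g‖ = (k : ℝ) := by
        intro g hg
        simp only [Finset.mem_filter, Finset.mem_univ, true_and] at hg
        have h1 : F g = F 1 := by
          have := cosetAvg_mul_mem N ψ 1 hg
          rw [one_mul] at this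
          rw [hFdef]
          exact this
        rw [h1, hF1]
        simp
      rw [Finset.sum_congr rfl this, Finset.sum_const, nsmul_eq_mul, hcardN]
    have hNpos : (0 : ℝ) < (Nat.card N : ℝ) := by exact_mod_cast Nat.card_pos
    have hk2' : (2 : ℝ) ≤ k := by exact_mod_cast hk2
    nlinarith
  · rintro ⟨x, hx⟩ hirrN
    have hk1 : k = 1 := hirr.mp hirrN
    have hF1' : F 1 = 1 := by
      rw [hF1, hk1]
      simp
    have hmul := char_mul_of_degree_one hF hF1' x x⁻¹
    rw [mul_inv_cancel, hF1'] at hmul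
    have h0 : F x = 0 := (hF0 x).mpr ((hconj x).mp hx)
    rw [h0, zero_mul] at hmul
    exact one_ne_zero hmul

end Cfsg.Agent.S4996
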