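import Mathlib
import Cfsg.Statements.S5001
import Cfsg.Agent.Lib.Helper23.BlockContrib3
import Cfsg.Agent.Lib.Helper23.BlockDefectGroup
import Cfsg.Agent.Lib.Helper23.BlockCongr
import Cfsg.Agent.Lib.Helper24.CharAlgebra
import Cfsg.Agent.Lib.Helper24.CharIntegral

set_option autoImplicit false
open Cfsg Cfsg.Agent.Helper23.Blk Cfsg.Agent.Helper24
open scoped ComplexConjugate
set_option linter.style.haveILetI false

namespace Cfsg.Agent.S5001

/-- a constituent of the restriction of an irreducible character has the same central character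
on the centre of the big group -/
theorem cRatio_eq_of_constituent {G : Type*} [Group G] [Fintype G] {χ : G → ℂ}
    (hχ : IsIrrCharacter G χ) (L : Subgroup G) [Fintype L] {θ : L → ℂ}
    (hθ : IsIrrCharacter L θ) (hne : classInner (fun c : L => χ (c : G)) θ ≠ 0) {z : G}
    (hz : z ∈ Subgroup.center G) (hzL : z ∈ L) : cRatio χ z = cRatio θ ⟨z, hzL⟩ := by
  classical
  have hzLc : (⟨z, hzL⟩ : L) ∈ Subgroup.center L := by
    rw [Subgroup.mem_center_iff]
    intro k
    apply Subtype.ext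
    rw [Subgroup.coe_mul, Subgroup.coe_mul]
    exact Subgroup.mem_center_iff.1 hz (k : G)
  have hS : ∑ k : L, χ (k : G) * conj (θ k) ≠ 0 := by
    intro h0
    apply hne
    unfold classInner
    rw [h0, mul_zero]
  have h1 : ∑ k : L, χ (k : G) * conj (θ k) =
      cRatio χ z * conj (cRatio θ ⟨z, hzL⟩) * ∑ k : L, χ (k : G) * conj (θ k) := by
    have h0 := (Equiv.sum_comp (Equiv.mulLeft (⟨z, hzL⟩ : L))
      (fun k : L => χ (k : G) * conj (θ k))).symm
    refine h0.trans ?_
    rw [Finset.mul_sum]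
    apply Finset.sum_congr rfl
    intro k _
    rw [Equiv.coe_mulLeft, apply_central_mul hθ hzLc k, Subgroup.coe_mul,
      apply_central_mul hχ hz (k : G), map_mul]
    ring
  have h2 : cRatio χ z * conj (cRatio θ ⟨z, hzL⟩) = 1 := by
    have h3 : (cRatio χ z * conj (cRatio θ ⟨z, hzL⟩) - 1) *
        ∑ k : L, χ (k : G) * conj (θ k) = 0 := by
      rw [sub_mul, one_mul, ← h1, sub_self]
    rcases mul_eq_zero.1 h3 with h | h
    · exact sub_eq_zero.1 h
    · exact absurd h hS
  have h4 := cRatio_mul_conj hθ hzLc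
  calc cRatio χ z = cRatio χ z * (cRatio θ ⟨z, hzL⟩ * conj (cRatio θ ⟨z, hzL⟩)) := by
        rw [h4, mul_one]
    _ = (cRatio χ z * conj (cRatio θ ⟨z, hzL⟩)) * cRatio θ ⟨z, hzL⟩ := by ring
    _ = cRatio θ ⟨z, hzL⟩ := by rw [h2, one_mul]

/-- Let p be a prime, G a finite group and B a p-block of G (relative to a maximal ideal M of the algebraic integers containing p) with defect group D. Let Z be a central p-subgroup of G contained in D and λ a linear character of Z (a homomorphism to the nonzero complex numbers). Say an irreducible character χ of G lies over λ when χ(z) = χ(1)λ(z) for all z ∈ Z. If some irreducible character in B lying over λ has height zero, then λ extends to a linear character of D. -/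
theorem result {G : Type*} [Group G] [Finite G] (p : ℕ) [Fact p.Prime] (M : Ideal Cfsg.AlgInt) (hM : Cfsg.IsPModular p M) (B : Set (Cfsg.IrrCharacter G)) (hB : Cfsg.IsPBlock M B) (D : Subgroup G) (hD : Cfsg.IsDefectGroup p M B D) (Z : Subgroup G) (hZc : Z ≤ Subgroup.center G) (hZp : IsPGroup p ↥Z) (hZD : Z ≤ D) (lam : ↥Z →* ℂˣ) (χ : Cfsg.IrrCharacter G) (hχ : χ ∈ B) (hover : (∀ z : ↥Z, (χ : G → ℂ) z = (χ : G → ℂ) 1 * (lam z : ℂ))) (h0 : Cfsg.blockHeight p B (χ : G → ℂ) = 0) : (∃ μ : ↥D →* ℂˣ, ∀ z : ↥Z, μ ⟨(z : G), hZD z.2⟩ = lam z) := by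
  classical
  haveI : Fintype G := Fintype.ofFinite G
  haveI hMp : M.IsPrime := hM.2.1.isPrime
  have hp : p.Prime := hM.1
  have hDp : IsPGroup p D := isPGroup_of_isDefectGroup hM hD
  obtain ⟨g, hg, P, hDP⟩ := hD
  have hDC : D ≤ Subgroup.centralizer ({g} : Set G) := by
    rw [hDP]
    exact Subgroup.map_subtype_le _
  -- `χ(g)` is a local unit
  have hχg : ¬ MemLocalIdeal M ((χ : G → ℂ) g) := by
    intro hI
    apply hg.2.2 χ hχ
    unfold centralChar
    obtain ⟨n, hn, hn1⟩ := irr_one_eq χ.2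
    have hdeg : charDegree (χ : G → ℂ) = n := charDegree_natCast n hn1
    have hmin := sInf_factorization_eq_of_isDefectClass hM hB hg
    have hle : n.factorization p ≤
        ((Subgroup.centralizer ({g} : Set G)).index).factorization p := by
      unfold blockHeight at h0
      rw [hmin, hdeg] at h0
      exact Nat.sub_eq_zero_iff_le.1 h0
    have hidx0 : (Subgroup.centralizer ({g} : Set G)).index ≠ 0 :=
      Subgroup.index_ne_zero_of_finite
    have hR := (memLocalRing_natCast_div hM hidx0 hn.ne' hle).1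
    rw [hn1]
    have : ((Subgroup.centralizer ({g} : Set G)).index : ℂ) * (χ : G → ℂ) g / (n : ℂ) =
        ((Subgroup.centralizer ({g} : Set G)).index : ℂ) / (n : ℂ) * (χ : G → ℂ) g := by ring
    rw [this]
    exact memLocalIdeal_mul_left hR hI
  -- the subgroup `K = D⟨g⟩`
  set K : Subgroup G := D ⊔ Subgroup.zpowers g with hK
  have hDK : D ≤ K := le_sup_left
  have hgK : g ∈ K := (le_sup_right : Subgroup.zpowers g ≤ K) (Subgroup.mem_zpowers g)
  have hKC : K ≤ Subgroup.centralizer ({g} : Set G) :=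
    sup_le hDC (Subgroup.zpowers_le.2 (self_mem_centralizer_singleton g))
  haveI : Fintype K := Fintype.ofFinite _
  letI : Fintype (IrrCharacter K) := irrFintype
  have hgKc : (⟨g, hgK⟩ : K) ∈ Subgroup.center K := by
    rw [Subgroup.mem_center_iff]
    intro k
    apply Subtype.ext
    rw [Subgroup.coe_mul, Subgroup.coe_mul]
    exact (Subgroup.mem_centralizer_iff.1 (hKC k.2) g rfl).symm
  obtain ⟨hm, hdec⟩ := isCharacter_decomp
    (isCharacter_restrict K (isCharacter_of_isIrrCharacter χ.2))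
  choose m hm using hm
  have hval : (χ : G → ℂ) g = ∑ θ : IrrCharacter K, (m θ : ℂ) * (θ : K → ℂ) ⟨g, hgK⟩ := by
    have h1 : (χ : G → ℂ) g = (∑ θ : IrrCharacter K,
        classInner (fun k : K => (χ : G → ℂ) k) (θ : K → ℂ) • (θ : K → ℂ)) ⟨g, hgK⟩ :=
      congrFun hdec ⟨g, hgK⟩
    rw [h1, Finset.sum_apply]
    apply Finset.sum_congr rfl
    intro θ _
    rw [Pi.smul_apply, smul_eq_mul, hm θ]
  obtain ⟨θ, hmθ, hθp⟩ : ∃ θ : IrrCharacter K, m θ ≠ 0 ∧ ¬ p ∣ charDegree (θ : K → ℂ) := by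
    by_contra hcon
    push Not at hcon
    apply hχg
    rw [hval]
    apply memLocalIdeal_sum
    intro θ _
    by_cases h0 : m θ = 0
    · rw [h0, Nat.cast_zero, zero_mul]
      exact memLocalIdeal_zero ne_top
    · have hdvd := hcon θ h0
      have h1 : (θ : K → ℂ) ⟨g, hgK⟩ = cRatio (θ : K → ℂ) ⟨g, hgK⟩ *
          (charDegree (θ : K → ℂ) : ℂ) := by
        unfold cRatio
        rw [← irr_one_eq_charDegree θ.2, div_mul_cancel₀ _ (irr_one_ne_zero θ.2)]
      have h2 : IsIntegral ℤ (cRatio (θ : K → ℂ) ⟨g, hgK⟩) := by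
        apply IsIntegral.of_pow (orderOf_pos (⟨g, hgK⟩ : K))
        rw [cRatio_pow_orderOf θ.2 hgKc]
        exact isIntegral_one
      rw [h1, ← mul_assoc]
      exact memLocalIdeal_mul_left
        (memLocalRing_mul (memLocalRing_natCast _) (memLocalRing_of_isIntegral h2 ne_top))
        ((memLocalIdeal_natCast_iff hM _).2 hdvd)
  -- restrict `θ` to `D`
  haveI : Fintype (D.subgroupOf K) := Fintype.ofFinite _
  letI : Fintype (IrrCharacter (D.subgroupOf K)) := irrFintype
  obtain ⟨hb, hdec2⟩ := isCharacter_decomp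
    (isCharacter_restrict (D.subgroupOf K) (isCharacter_of_isIrrCharacter θ.2))
  choose b hb using hb
  have hdeg2 : (charDegree (θ : K → ℂ) : ℂ) =
      ∑ μ : IrrCharacter (D.subgroupOf K), (b μ : ℂ) * (charDegree (μ : D.subgroupOf K → ℂ) : ℂ) := by
    have h1 : (θ : K → ℂ) 1 = (∑ μ : IrrCharacter (D.subgroupOf K),
        classInner (fun k : D.subgroupOf K => (θ : K → ℂ) k) (μ : D.subgroupOf K → ℂ) •
          (μ : D.subgroupOf K → ℂ)) 1 :=
      congrFun hdec2 1
    rw [← irr_one_eq_charDegree θ.2, h1, Finset.sum_apply]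
    apply Finset.sum_congr rfl
    intro μ _
    rw [Pi.smul_apply, smul_eq_mul, hb μ, irr_one_eq_charDegree μ.2]
  have hdeg2' : charDegree (θ : K → ℂ) =
      ∑ μ : IrrCharacter (D.subgroupOf K), b μ * charDegree (μ : D.subgroupOf K → ℂ) := by
    exact_mod_cast hdeg2
  obtain ⟨μ, hbμ, hμp⟩ : ∃ μ : IrrCharacter (D.subgroupOf K), b μ ≠ 0 ∧
      ¬ p ∣ charDegree (μ : D.subgroupOf K → ℂ) := by
    by_contra hcon
    push Not at hcon
    apply hθp
    rw [hdeg2']
    apply Finset.dvd_sum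
    intro μ _
    by_cases h0 : b μ = 0
    · rw [h0, zero_mul]
      exact dvd_zero p
    · exact Dvd.dvd.mul_left (hcon μ h0) _
  have hμ1 : charDegree (μ : D.subgroupOf K → ℂ) = 1 := by
    have h1 := charDegree_dvd_card μ.2
    have hDKp : IsPGroup p (D.subgroupOf K) := hDp.comap_subtype
    obtain ⟨d, hd⟩ := IsPGroup.iff_card.1 hDKp
    rw [hd] at h1
    obtain ⟨j, -, hj⟩ := (Nat.dvd_prime_pow hp).1 h1
    rcases Nat.eq_zero_or_pos j with hj0 | hj0
    · rw [hj, hj0, pow_zero]
    · exfalso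
      apply hμp
      rw [hj]
      exact dvd_pow_self p hj0.ne'
  have hμone : (μ : D.subgroupOf K → ℂ) 1 = 1 := by
    rw [irr_one_eq_charDegree μ.2, hμ1, Nat.cast_one]
  refine ⟨(linHom (isCharacter_of_isIrrCharacter μ.2) hμone).comp
    (Subgroup.subgroupOfEquivOfLe hDK).symm.toMonoidHom, ?_⟩
  intro z
  apply Units.ext
  have hzc : (z : G) ∈ Subgroup.center G := hZc z.2
  have hzK : (z : G) ∈ K := hDK (hZD z.2)
  have hzKc : (⟨(z : G), hzK⟩ : K) ∈ Subgroup.center K := by
    rw [Subgroup.mem_center_iff]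
    intro k
    apply Subtype.ext
    rw [Subgroup.coe_mul, Subgroup.coe_mul]
    exact Subgroup.mem_center_iff.1 hzc (k : G)
  have hzDK : (⟨(z : G), hzK⟩ : K) ∈ D.subgroupOf K := by
    rw [Subgroup.mem_subgroupOf]
    exact hZD z.2
  have e1 := cRatio_eq_of_constituent χ.2 K θ.2 (by rw [hm θ]; exact_mod_cast hmθ) hzc hzK
  have e2 := cRatio_eq_of_constituent θ.2 (D.subgroupOf K) μ.2
    (by rw [hb μ]; exact_mod_cast hbμ) hzKc hzDK
  have e3 : cRatio (χ : G → ℂ) (z : G) = (lam z : ℂ) := by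
    unfold cRatio
    rw [hover z, mul_div_cancel_left₀ _ (irr_one_ne_zero χ.2)]
  have e4 : cRatio (μ : D.subgroupOf K → ℂ) ⟨⟨(z : G), hzK⟩, hzDK⟩ =
      (μ : D.subgroupOf K → ℂ) ⟨⟨(z : G), hzK⟩, hzDK⟩ := by
    unfold cRatio
    rw [hμone, div_one]
  rw [← e3, e1, e2, e4]
  rfl

end Cfsg.Agent.S5001
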