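import Mathlib
import Cfsg.Statements.S5011

set_option autoImplicit false
open Cfsg

namespace Cfsg.Agent.S5011

/-- Let G be a finite non-abelian simple group and ρ an irreducible complex representation of G on a space of dimension greater than one (irreducible in the sense that the only subspaces invariant under every ρ(x) are 0 and the whole space). Then for every non-identity element g of G, the centralizer of g does not act irreducibly: there is a non-zero proper subspace invariant under ρ(c) for every c commuting with g. -/
theorem result {G : Type*} [Group G] [Finite G] [IsSimpleGroup G]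
    (hG : ¬ IsMulCommutative G) {V : Type*} [AddCommGroup V] [Module ℂ V] [FiniteDimensional ℂ V]
    (ρ : Representation ℂ G V)
    (hirr : ∀ W : Submodule ℂ V, (∀ x : G, ∀ v ∈ W, ρ x v ∈ W) → W = ⊥ ∨ W = ⊤)
    (hdim : 1 < Module.finrank ℂ V) (g : G) (hg : g ≠ 1) :
    ∃ W : Submodule ℂ V, W ≠ ⊥ ∧ W ≠ ⊤ ∧ ∀ c ∈ Subgroup.centralizer ({g} : Set G), ∀ v ∈ W, ρ c v ∈ W := by
  classical
  haveI : Nontrivial V := (Module.finrank_pos_iff (R := ℂ) (M := V)).mp (by omega)
  obtain ⟨μ, hμ⟩ := Module.End.exists_eigenvalue (ρ g)
  refine ⟨Module.End.eigenspace (ρ g) μ, hμ, ?_, ?_⟩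
  · intro htop
    have hsc : ∀ v, ρ g v = μ • v := fun v =>
      Module.End.mem_eigenspace_iff.mp (htop ▸ Submodule.mem_top)
    -- the kernel of ρ
    let K : Subgroup G :=
      { carrier := {x | ρ x = 1}
        one_mem' := map_one ρ
        mul_mem' := by
          intro a b ha hb
          simp only [Set.mem_setOf_eq] at ha hb ⊢
          rw [map_mul, ha, hb, one_mul]
        inv_mem' := by
          intro a ha
          simp only [Set.mem_setOf_eq] at ha ⊢
          have : ρ a⁻¹ * ρ a = 1 := by rw [← map_mul, inv_mul_cancel, map_one]
          rwa [ha, mul_one] at this }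
    have hKmem : ∀ x, x ∈ K ↔ ρ x = 1 := fun x => Iff.rfl
    haveI : K.Normal := by
      constructor
      intro n hn y
      rw [hKmem] at hn ⊢
      rw [map_mul, map_mul, hn, mul_one, ← map_mul, mul_inv_cancel, map_one]
    rcases Subgroup.Normal.eq_bot_or_eq_top (H := K) inferInstance with hK | hK
    · -- faithful: g is central
      have hcomm : ∀ x : G, g * x = x * g := by
        intro x
        have hmem : g * x * g⁻¹ * x⁻¹ ∈ K := by
          rw [hKmem]
          have h1 : ρ g * ρ x = ρ x * ρ g := by
            ext v
            simp only [Module.End.mul_apply, hsc, map_smul]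
          rw [map_mul, map_mul, map_mul, h1, mul_assoc (ρ x), ← map_mul, mul_inv_cancel, map_one,
            mul_one, ← map_mul, mul_inv_cancel, map_one]
        rw [hK, Subgroup.mem_bot] at hmem
        have := congrArg (fun z => z * x * g) hmem
        simpa [mul_assoc] using this
      have hcen : g ∈ Subgroup.center G := by
        rw [Subgroup.mem_center_iff]
        intro x
        exact (hcomm x).symm
      rcases Subgroup.Normal.eq_bot_or_eq_top (H := Subgroup.center G) inferInstance with hZ | hZ
      · rw [hZ, Subgroup.mem_bot] at hcen
        exact hg hcen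
      · apply hG
        refine ⟨⟨fun a b => ?_⟩⟩
        have : a ∈ Subgroup.center G := hZ ▸ Subgroup.mem_top a
        rw [Subgroup.mem_center_iff] at this
        exact (this b).symm
    · -- trivial representation: a line is invariant
      have htriv : ∀ x, ρ x = 1 := fun x => (hKmem x).mp (hK ▸ Subgroup.mem_top x)
      obtain ⟨v, hv⟩ := exists_ne (0 : V)
      rcases hirr (Submodule.span ℂ {v}) (by
        intro x w hw
        rw [htriv x]
        exact hw) with h | h
      · have : v ∈ Submodule.span ℂ ({v} : Set V) := Submodule.mem_span_singleton_self v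
        rw [h, Submodule.mem_bot] at this
        exact hv this
      · have h1 : Module.finrank ℂ (Submodule.span ℂ ({v} : Set V)) = 1 :=
          finrank_span_singleton hv
        rw [h, finrank_top] at h1
        omega
  · intro c hc v hv
    rw [Subgroup.mem_centralizer_iff] at hc
    have hcg : g * c = c * g := hc g (Set.mem_singleton g)
    rw [Module.End.mem_eigenspace_iff] at hv ⊢
    calc ρ g (ρ c v) = (ρ g * ρ c) v := rfl
      _ = ρ (g * c) v := by rw [map_mul]
      _ = ρ (c * g) v := by rw [hcg]
      _ = (ρ c * ρ g) v := by rw [map_mul]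
      _ = ρ c (ρ g v) := rfl
      _ = μ • ρ c v := by rw [hv, map_smul]

end Cfsg.Agent.S5011
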