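import Mathlib
import Cfsg.Statements.S5014
import Cfsg.Agent.Lib.Helper25.RankOne

set_option autoImplicit false
open Cfsg

namespace Cfsg.Agent.S5014

open Cfsg.Agent.Helper25 in
/-- Let X = ⟨A, B⟩ be a rank one group with unipotent subgroups A and B and let Ω be the set of conjugates of A under X. Then Ω has at least three members, X acts doubly transitively on Ω by conjugation (any two ordered pairs of distinct members are carried to one another by a single element of X), and A acts regularly on Ω with A removed: for C, D in Ω different from A there is exactly one element of A conjugating C to D. -/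
theorem result {G : Type*} [Group G] {A B : Subgroup G} (h : Cfsg.IsRankOnePair A B) :
    (∃ C₁ ∈ Cfsg.unipotentSubgroups A B, ∃ C₂ ∈ Cfsg.unipotentSubgroups A B, ∃ C₃ ∈ Cfsg.unipotentSubgroups A B,
      C₁ ≠ C₂ ∧ C₁ ≠ C₃ ∧ C₂ ≠ C₃) ∧
    (∀ C₁ ∈ Cfsg.unipotentSubgroups A B, ∀ C₂ ∈ Cfsg.unipotentSubgroups A B, ∀ D₁ ∈ Cfsg.unipotentSubgroups A B,
      ∀ D₂ ∈ Cfsg.unipotentSubgroups A B, C₁ ≠ C₂ → D₁ ≠ D₂ →
        ∃ x ∈ A ⊔ B, Cfsg.conjBy C₁ x = D₁ ∧ Cfsg.conjBy C₂ x = D₂) ∧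
    (∀ C ∈ Cfsg.unipotentSubgroups A B, ∀ D ∈ Cfsg.unipotentSubgroups A B, C ≠ A → D ≠ A →
      ∃! a : G, a ∈ A ∧ Cfsg.conjBy C a = D) := by
  have hAm := RankOne.left_mem A B
  have hBm := RankOne.right_mem h
  refine ⟨?_, ?_, ?_⟩
  · obtain ⟨a, ha, ha1⟩ := RankOne.exists_ne_one_left h
    refine ⟨A, hAm, B, hBm, Cfsg.conjBy B a, RankOne.conjBy_mem hBm (le_sup_left (a := A) ha),
      h.ne, (RankOne.conjBy_right_ne_left h ha).symm, ?_⟩
    intro hE
    exact ha1 (RankOne.eq_one_of_normalizes h ha hE.symm)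
  · intro C₁ hC₁ C₂ hC₂ D₁ hD₁ D₂ hD₂ hC hD
    exact RankOne.two_transitive h hC₁ hC₂ hD₁ hD₂ hC hD
  · intro C hC D hD hCA hDA
    rcases RankOne.cases_of_mem h hC with hC' | ⟨c, hc, rfl⟩
    · exact absurd hC' hCA
    rcases RankOne.cases_of_mem h hD with hD' | ⟨d, hd, rfl⟩
    · exact absurd hD' hDA
    refine ⟨d * c⁻¹, ⟨A.mul_mem hd (A.inv_mem hc), ?_⟩, ?_⟩
    · rw [conjBy_conjBy]; simp
    · rintro a ⟨ha, hE⟩
      rw [conjBy_conjBy] at hE
      -- conjBy B (a*c) = conjBy B d, so d⁻¹ * a * c normalizes B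
      have h1 : Cfsg.conjBy B (d⁻¹ * (a * c)) = B := by
        rw [← conjBy_conjBy, hE, conjBy_conjBy]; simp [conjBy_one]
      have h2 := RankOne.eq_one_of_normalizes h
        (A.mul_mem (A.inv_mem hd) (A.mul_mem ha hc)) h1
      have : a = d * (d⁻¹ * (a * c)) * c⁻¹ := by group
      rw [this, h2]; group

end Cfsg.Agent.S5014
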