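import Mathlib
import Cfsg.Statements.S5015
import Cfsg.Agent.Lib.Helper25.RankOne

set_option autoImplicit false
open Cfsg

namespace Cfsg.Agent.S5015

open Cfsg.Agent.Helper25

theorem exists_third {Ω : Type*} (hΩ : 3 ≤ ENat.card Ω) (α β : Ω) (hne : α ≠ β) :
    ∃ γ : Ω, γ ≠ α ∧ γ ≠ β := by
  by_contra hall
  push Not at hall
  have hsub : (Set.univ : Set Ω) ⊆ {α, β} := by
    intro γ _
    by_cases h : γ = α
    · left; exact h
    · right; exact hall γ h
  have h1 := Set.encard_le_encard hsub
  rw [Set.encard_univ, Set.encard_pair hne] at h1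
  have : (3 : ℕ∞) ≤ 2 := hΩ.trans h1
  exact absurd this (by norm_num)

/-- Let a group Y act doubly transitively on a set Ω with at least three points, and suppose that the stabilizer of a point α contains a nilpotent subgroup A, normalized by that stabilizer, which acts regularly on the points other than α. Then for any y in Y moving α, the subgroups A and y A y⁻¹ are the unipotent subgroups of a rank one group, and the normal closure of A in Y (the subgroup generated by all conjugates of A) is generated by A and y A y⁻¹ alone. -/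
theorem result {Y Ω : Type*} [Group Y] [MulAction Y Ω]
    (h2 : MulAction.IsMultiplyPretransitive Y Ω 2) (hΩ : 3 ≤ ENat.card Ω) (α : Ω) (A : Subgroup Y)
    (hA : A ≤ MulAction.stabilizer Y α) (hAn : ∀ y ∈ MulAction.stabilizer Y α, Cfsg.conjBy A y = A)
    (hnil : Group.IsNilpotent A) (hreg : ∀ β γ : Ω, β ≠ α → γ ≠ α → ∃! a : Y, a ∈ A ∧ a • β = γ)
    (y : Y) (hy : y ∉ MulAction.stabilizer Y α) :
    Cfsg.IsRankOnePair A (Cfsg.conjBy A y) ∧ Subgroup.normalClosure (A : Set Y) = A ⊔ Cfsg.conjBy A y := by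
  have hβ : y • α ≠ α := fun h => hy (MulAction.mem_stabilizer_iff.2 h)
  have hfixα : ∀ a ∈ A, a • α = α := fun a ha => MulAction.mem_stabilizer_iff.1 (hA ha)
  -- F1
  have F1 : ∀ g h : Y, g • α = h • α → Cfsg.conjBy A g = Cfsg.conjBy A h := by
    intro g h hgh
    have hs : h⁻¹ * g ∈ MulAction.stabilizer Y α := by
      rw [MulAction.mem_stabilizer_iff, mul_smul, hgh, inv_smul_smul]
    have e : g = h * (h⁻¹ * g) := by group
    rw [e, ← conjBy_conjBy, hAn _ hs]
  -- F2
  have F2 : ∀ a ∈ A, ∀ ω : Ω, ω ≠ α → a • ω = ω → a = 1 := by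
    intro a ha ω hω hfix
    obtain ⟨c, _, hc⟩ := hreg ω ω hω hω
    rw [hc a ⟨ha, hfix⟩, hc 1 ⟨A.one_mem, one_smul _ _⟩]
  have hyinv : y⁻¹ • α ≠ α := by
    intro h
    apply hβ
    rw [← h, smul_inv_smul, h]
  -- B fixes β
  have hBfix : ∀ b ∈ Cfsg.conjBy A y, b • (y • α) = y • α := by
    intro b hb
    rw [mem_conjBy] at hb
    have := hfixα _ hb
    rw [mul_smul, mul_smul] at this
    calc b • y • α = y • (y⁻¹ • b • y • α) := (smul_inv_smul _ _).symm
      _ = y • α := by rw [this]
  have hne : A ≠ Cfsg.conjBy A y := by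
    intro hE
    obtain ⟨γ, hγα, hγβ⟩ := exists_third hΩ α (y • α) hβ.symm
    obtain ⟨a, ⟨ha, haγ⟩, _⟩ := hreg (y • α) γ hβ hγα
    rw [hE] at ha
    rw [hBfix a ha] at haγ
    exact hγβ haγ.symm
  have hnilB : Group.IsNilpotent (Cfsg.conjBy A y) := by
    have e : A ≃* Cfsg.conjBy A y :=
      A.equivMapOfInjective _ (MulAut.conj y).injective
    exact (Group.isNilpotent_congr e).1 hnil
  -- left condition
  have hL : Cfsg.RankOneCondition A (Cfsg.conjBy A y) := by
    intro a ha ha1
    have h1 : y⁻¹ • (a⁻¹ • (y • α)) ≠ α := by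
      intro h
      apply ha1
      have h' : a⁻¹ • (y • α) = y • α := by
        have := congrArg (fun ω => y • ω) h
        simpa using this
      have := F2 a⁻¹ (A.inv_mem ha) (y • α) hβ h'
      simpa using this
    obtain ⟨a', ⟨ha', haE⟩, _⟩ := hreg (y⁻¹ • α) (y⁻¹ • (a⁻¹ • (y • α))) hyinv h1
    have hb'm : y * a' * y⁻¹ ∈ Cfsg.conjBy A y := by
      rw [mem_conjBy]; simpa [mul_assoc] using ha'
    have hb'α : (y * a' * y⁻¹) • α = a⁻¹ • (y • α) := by
      rw [mul_smul, mul_smul, haE, smul_inv_smul]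
    refine ⟨(y * a' * y⁻¹)⁻¹, Subgroup.inv_mem _ hb'm, ?_, ?_⟩
    · intro h
      have h' : y * a' * y⁻¹ = 1 := inv_eq_one.1 h
      rw [h', one_smul] at hb'α
      have : a • α = y • α := by
        calc a • α = a • (a⁻¹ • y • α) := congrArg (fun ω => a • ω) hb'α
          _ = y • α := smul_inv_smul _ _
      rw [hfixα a ha] at this
      exact hβ this.symm
    · rw [inv_inv, conjBy_conjBy]
      apply F1
      rw [hb'α, mul_smul]
  -- right condition
  have hR : Cfsg.RankOneCondition (Cfsg.conjBy A y) A := by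
    intro b hb hb1
    have hb' : y⁻¹ * b * y ∈ A := mem_conjBy.1 hb
    have h1 : b⁻¹ • α ≠ α := by
      intro h
      apply hb1
      have h2 : (y⁻¹ * b * y) • (y⁻¹ • α) = y⁻¹ • α := by
        rw [mul_smul, mul_smul, smul_inv_smul]
        have : b • α = α := by
          have := congrArg (fun ω => b • ω) h
          simpa using this.symm
        rw [this]
      have h3 := F2 _ hb' _ hyinv h2
      have : b = y * (y⁻¹ * b * y) * y⁻¹ := by group
      rw [this, h3]; group
    obtain ⟨a', ⟨ha', haE⟩, _⟩ := hreg (y • α) (b⁻¹ • α) hβ h1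
    refine ⟨a'⁻¹, A.inv_mem ha', ?_, ?_⟩
    · intro h
      have h' : a' = 1 := by simpa using h
      rw [h', one_smul] at haE
      have h4 := hBfix b hb
      have h5 : b • (y • α) = α := by rw [haE, smul_inv_smul]
      rw [h4] at h5
      exact hβ h5
    · rw [inv_inv, conjBy_conjBy]
      apply F1
      rw [mul_smul, haE]
  refine ⟨⟨hne, hnil, hnilB, hL, hR⟩, ?_⟩
  -- normal closure
  have hconj : ∀ g : Y, Cfsg.conjBy A g ≤ A ⊔ Cfsg.conjBy A y := by
    intro g
    by_cases hg : g • α = α
    · rw [hAn g (MulAction.mem_stabilizer_iff.2 hg)]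
      exact le_sup_left
    · obtain ⟨a, ⟨ha, haE⟩, _⟩ := hreg (y • α) (g • α) hβ hg
      have : Cfsg.conjBy A g = Cfsg.conjBy (Cfsg.conjBy A y) a := by
        rw [conjBy_conjBy]
        apply F1
        rw [mul_smul, haE]
      rw [this]
      intro x hx
      rw [mem_conjBy] at hx
      have e : x = a * (a⁻¹ * x * a) * a⁻¹ := by group
      rw [e]
      exact Subgroup.mul_mem _ (Subgroup.mul_mem _ (le_sup_left (a := A) ha)
        (le_sup_right (a := A) hx)) (Subgroup.inv_mem _ (le_sup_left (a := A) ha))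
  have hnormal : (A ⊔ Cfsg.conjBy A y).Normal := by
    constructor
    intro n hn g
    have h1 : Cfsg.conjBy (A ⊔ Cfsg.conjBy A y) g ≤ A ⊔ Cfsg.conjBy A y := by
      unfold Cfsg.conjBy
      rw [Subgroup.map_sup]
      refine sup_le (hconj g) ?_
      have := hconj (g * y)
      rw [← conjBy_conjBy] at this
      exact this
    apply h1
    rw [mem_conjBy]
    simpa [mul_assoc] using hn
  apply le_antisymm
  · exact Subgroup.normalClosure_le_normal (le_sup_left (a := A))
  · refine sup_le Subgroup.le_normalClosure ?_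
    intro x hx
    rw [mem_conjBy] at hx
    have h1 : y⁻¹ * x * y ∈ Subgroup.normalClosure (A : Set Y) := Subgroup.le_normalClosure hx
    have h2 := (Subgroup.normalClosure_normal (s := (A : Set Y))).conj_mem _ h1 y
    have e : y * (y⁻¹ * x * y) * y⁻¹ = x := by group
    rw [e] at h2
    exact h2

end Cfsg.Agent.S5015
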