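import Mathlib
import Cfsg.Statements.S5018
import Cfsg.Agent.Lib.Helper25.RankOne

set_option autoImplicit false
open Cfsg

namespace Cfsg.Agent.S5018

open Cfsg.Agent.Helper25 in
/-- A rank one group is not nilpotent, and its second centre equals its centre. -/
theorem result {X : Type*} [Group X] {A B : Subgroup X} (h : Cfsg.IsRankOneGroup X A B) :
    Subgroup.upperCentralSeries X 2 = Subgroup.center X ∧ ¬ Group.IsNilpotent X := by
  obtain ⟨htop, hp⟩ := h
  refine ⟨?_, ?_⟩
  · apply le_antisymm
    · exact RankOne.normal_le_center hp htop inferInstance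
        (RankOne.upperCentralSeries_normalizes hp htop 2)
    · rw [← Subgroup.upperCentralSeries_one]
      exact Subgroup.upperCentralSeries_mono X one_le_two
  · intro hnil
    obtain ⟨n, hn⟩ := hnil.nilpotent'
    obtain ⟨b, hb, hb1⟩ := RankOne.exists_ne_one_right hp
    have h1 := RankOne.upperCentralSeries_normalizes hp htop n b (by rw [hn]; exact Subgroup.mem_top b)
    exact hb1 (RankOne.eq_one_of_normalizes (Cfsg.RankOnePair_symm hp) hb h1)

end Cfsg.Agent.S5018
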