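import Mathlib
import Cfsg.Statements.S5020
import Cfsg.Agent.Lib.Helper25.SL2pG
import Cfsg.Agent.Lib.Helper25.RankOneP3
import Cfsg.Agent.Lib.Helper7.Quasisimple
import Cfsg.Agent.S5017

set_option autoImplicit false
open Cfsg

namespace Cfsg.Agent.S5020

open Cfsg.Agent.Helper25 Cfsg.Agent.Helper25.SpecialRankOne Matrix

/-- the centre of `SL₂(𝔽₂)` is trivial -/
theorem center_SL2_two : Subgroup.center (SpecialLinearGroup (Fin 2) (ZMod 2)) = ⊥ := by
  rw [eq_bot_iff]
  intro z hz
  rw [Subgroup.mem_bot]
  rw [Matrix.SpecialLinearGroup.mem_center_iff] at hz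
  obtain ⟨r, _, hrz⟩ := hz
  have hr1 : r = 1 := by
    have key : ∀ r : ZMod 2, r = 0 ∨ r = 1 := by decide
    rcases key r with h | h
    · exfalso
      rw [h] at hrz
      have hdet := z.det_coe
      rw [← hrz] at hdet
      simp at hdet
    · exact h
  apply Subtype.ext
  rw [← hrz, hr1]
  simp

/-- a subgroup of prime order is generated by any non-identity element -/
theorem le_closure_of_prime_card {X : Type*} [Group X] {A : Subgroup X} {q : ℕ} (hq : q.Prime)
    (hA : Nat.card A = q) {a : X} (ha : a ∈ A) (ha1 : a ≠ 1) (T : Subgroup X) (haT : a ∈ T) :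
    A ≤ T := by
  haveI : Fact q.Prime := ⟨hq⟩
  have hz : Subgroup.zpowers (⟨a, ha⟩ : A) = ⊤ :=
    zpowers_eq_top_of_prime_card hA (fun h => ha1 (congrArg Subtype.val h))
  intro x hx
  have : (⟨x, hx⟩ : A) ∈ Subgroup.zpowers (⟨a, ha⟩ : A) := by rw [hz]; exact Subgroup.mem_top _
  obtain ⟨k, hk⟩ := Subgroup.mem_zpowers_iff.1 this
  have hk' : a ^ k = x := by
    have := congrArg Subtype.val hk
    simpa using this
  rw [← hk']
  exact T.zpow_mem haT k

/-- Let X be a special rank one group with abelian unipotent subgroups A and B, and H = N(A) ∩ N(B) its diagonal subgroup. Then either A has at most three elements and X is isomorphic to SL₂(2), SL₂(3) or PSL₂(3); or X = X' A with the commutator subgroup X' quasisimple and the commutator subgroup ⁅A, H⁆ having more than three elements. -/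
theorem result {X : Type*} [Group X] {A B : Subgroup X} (h : Cfsg.IsRankOneGroup X A B)
    (hs : Cfsg.IsSpecialRankOnePair A B) (hab : Cfsg.HasAbelianUnipotents A B) :
    (ENat.card A ≤ 3 ∧ (Nonempty (X ≃* Matrix.SpecialLinearGroup (Fin 2) (ZMod 2)) ∨
        Nonempty (X ≃* Matrix.SpecialLinearGroup (Fin 2) (ZMod 3)) ∨
        Nonempty (X ≃* Matrix.ProjectiveSpecialLinearGroup (Fin 2) (ZMod 3)))) ∨
    (commutator X ⊔ A = ⊤ ∧ Cfsg.IsQuasisimple (commutator X) ∧
      3 < ENat.card ↥(⁅A, Cfsg.rankOneDiagonal A B⁆ : Subgroup X)) := by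
  have hp := hs.1
  by_cases hcard : ENat.card A ≤ 3
  · left
    refine ⟨hcard, ?_⟩
    obtain ⟨a, ha, ha1⟩ := RankOne.exists_ne_one_left hp
    obtain ⟨b, hrel⟩ := exists_right hp ha ha1
    have hb := hrel.2.2.1
    have hb1 := hrel.2.2.2.1
    -- finiteness and cardinality
    have hfin : Finite A := by
      by_contra hinf
      rw [not_finite_iff_infinite] at hinf
      rw [ENat.card_eq_top_of_infinite] at hcard
      exact absurd hcard (by simp)
    have hcN : Nat.card A ≤ 3 := by
      have : (Nat.card A : ℕ∞) ≤ 3 := by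
        rw [← ENat.card_eq_coe_natCard]; exact hcard
      exact_mod_cast this
    have hc1 : 1 < Nat.card A := by
      rw [Finite.one_lt_card_iff_nontrivial]
      exact ⟨⟨⟨a, ha⟩, 1, fun h => ha1 (congrArg Subtype.val h)⟩⟩
    -- B has the same cardinality
    have hBA : Nat.card B = Nat.card A := by
      have hn := RankOneP.conjA_n hs hrel
      rw [← hn]
      unfold Cfsg.conjBy
      exact Nat.card_congr (Subgroup.equivMapOfInjective A _ (MulAut.conj _).injective).symm.toEquiv
    have key : ∀ q : ℕ, q.Prime → Nat.card A = q → Subgroup.closure ({a, b} : Set X) = ⊤ ∧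
        ∀ x ∈ A, x ^ q = 1 := by
      intro q hq hAq
      constructor
      · rw [eq_top_iff, ← h.1]
        refine sup_le ?_ ?_
        · exact le_closure_of_prime_card hq hAq ha ha1 _ (Subgroup.subset_closure (by simp))
        · exact le_closure_of_prime_card hq (hBA.trans hAq) hb hb1 _
            (Subgroup.subset_closure (by simp))
      · intro x hx
        have := pow_card_eq_one' (G := A) (x := ⟨x, hx⟩)
        rw [hAq] at this
        exact congrArg Subtype.val this
    have hX : ∀ (Y : Type) [Group Y], Subgroup.closure ({a, b} : Set X) = ⊤ →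
        Nonempty (↥(Subgroup.closure ({a, b} : Set X)) ≃* Y) → Nonempty (X ≃* Y) := by
      intro Y _ htop ⟨e⟩
      exact ⟨(Subgroup.topEquiv.symm.trans (MulEquiv.subgroupCongr htop.symm)).trans e⟩
    have h23 : Nat.card A = 2 ∨ Nat.card A = 3 := by omega
    rcases h23 with h2 | h3
    · haveI : Fact (Nat.Prime 2) := ⟨Nat.prime_two⟩
      obtain ⟨htop, hexp⟩ := key 2 Nat.prime_two h2
      left
      rcases SL2p.closure_equiv (p := 2) hs hexp hrel with h' | h'
      · exact hX _ htop h'
      · obtain ⟨e⟩ := h'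
        refine hX _ htop ⟨e.trans ?_⟩
        exact (QuotientGroup.quotientMulEquivOfEq center_SL2_two).trans
          (QuotientGroup.quotientBot)
    · haveI : Fact (Nat.Prime 3) := ⟨Nat.prime_three⟩
      obtain ⟨htop, hexp⟩ := key 3 Nat.prime_three h3
      right
      rcases SL2p.closure_equiv (p := 3) hs hexp hrel with h' | h'
      · exact Or.inl (hX _ htop h')
      · exact Or.inr (hX _ htop h')
  · right
    have hcomm : ⁅A, Cfsg.rankOneDiagonal A B⁆ = A :=
      (RankOneP.card_le_three_or_comm_eq hs hab).resolve_left hcard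
    have hA : A ≤ commutator X := by
      rw [← hcomm, commutator_def]
      exact Subgroup.commutator_mono le_top le_top
    obtain ⟨a, ha, ha1⟩ := RankOne.exists_ne_one_left hp
    obtain ⟨b, hrel⟩ := exists_right hp ha ha1
    have hB : B ≤ commutator X := by
      rw [← RankOneP.conjA_n hs hrel]
      intro x hx
      rw [mem_conjBy] at hx
      have h2 := hA hx
      have h3 : x = (a * b⁻¹ * a) * ((a * b⁻¹ * a)⁻¹ * x * (a * b⁻¹ * a)) * (a * b⁻¹ * a)⁻¹ := by
        group
      rw [h3]
      exact (inferInstance : (commutator X).Normal).conj_mem _ h2 _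
    have hperf : commutator X = ⊤ := by
      rw [eq_top_iff, ← h.1]
      exact sup_le hA hB
    refine ⟨by rw [hperf]; exact top_sup_eq _, ?_, ?_⟩
    · have hq : Cfsg.IsQuasisimple X := (Cfsg.Agent.S5017.result h).2 ⟨hperf⟩
      have e : ↥(commutator X) ≃* X := (MulEquiv.subgroupCongr hperf).trans Subgroup.topEquiv
      exact Cfsg.Agent.Helper7.isQuasisimple_of_mulEquiv e.symm hq
    · rw [hcomm]
      exact not_le.1 hcard

end Cfsg.Agent.S5020
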