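import Mathlib
import Cfsg.Statements.S5021
import Cfsg.Agent.Lib.Helper25.SpecialRankOne

set_option autoImplicit false
open Cfsg

namespace Cfsg.Agent.S5021

open Cfsg.Agent.Helper25 Cfsg.Agent.Helper25.SpecialRankOne in
/-- In a special rank one group with abelian unipotent subgroups A and B, either A is an elementary abelian p-group for some prime p, or A is torsion-free and divisible (every element of A has an n-th root in A for every positive n). -/
theorem result {X : Type*} [Group X] {A B : Subgroup X} (h : Cfsg.IsRankOneGroup X A B)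
    (hs : Cfsg.IsSpecialRankOnePair A B) (hab : Cfsg.HasAbelianUnipotents A B) :
    (∃ p : ℕ, p.Prime ∧ Cfsg.IsElementaryAbelian p A) ∨
    ((∀ a ∈ A, a ≠ 1 → ¬ IsOfFinOrder a) ∧ ∀ a ∈ A, ∀ n : ℕ, 0 < n → ∃ c ∈ A, c ^ n = a) := by
  have hp := hs.1
  have hs' := special_symm hs
  have hcomm : ∀ x ∈ A, ∀ y ∈ A, x * y = y * x := by
    intro x hx y hy
    have := hab.1.is_comm.comm ⟨x, hx⟩ ⟨y, hy⟩
    exact congrArg Subtype.val this
  by_cases hfin : ∃ a ∈ A, a ≠ 1 ∧ IsOfFinOrder a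
  · left
    obtain ⟨a₀, ha₀, ha₀1, hfo⟩ := hfin
    have hord : orderOf a₀ ≠ 0 := (orderOf_pos_iff.mpr hfo).ne'
    have hord1 : orderOf a₀ ≠ 1 := by
      intro h1; exact ha₀1 (orderOf_eq_one_iff.mp h1)
    obtain ⟨p, hpp, hpd⟩ := Nat.exists_prime_and_dvd hord1
    have hop := orderOf_pow_orderOf_div hord hpd
    obtain ⟨a, haA, hao⟩ : ∃ a ∈ A, orderOf a = p := ⟨_, A.pow_mem ha₀ _, hop⟩
    have ha1 : a ≠ 1 := by
      intro h1; rw [h1, orderOf_one] at hao; exact hpp.one_lt.ne hao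
    have hap : a ^ p = 1 := by rw [← hao]; exact pow_orderOf_eq_one a
    refine ⟨p, hpp, hab.1, ?_⟩
    intro a' ha'
    by_contra hne
    have ha'1 : a' ≠ 1 := by
      intro h1; rw [h1, one_pow] at hne; exact hne rfl
    have haa' : (a * a') ^ p = a' ^ p := by
      rw [(show Commute a a' from hcomm a haA a' ha').mul_pow, hap, one_mul]
    have haa'1 : a * a' ≠ 1 := by
      intro h1; rw [h1, one_pow] at haa'; exact hne haa'.symm
    obtain ⟨b₁, hb₁⟩ := exists_right hp ha' ha'1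
    obtain ⟨b₂, hb₂⟩ := exists_right hp (A.mul_mem haA ha') haa'1
    obtain ⟨ψ, hψ⟩ := exists_right hp (A.pow_mem ha' p) hne
    obtain ⟨j, rfl⟩ : ∃ j, p = j + 1 := ⟨p - 1, (Nat.succ_pred_eq_of_pos hpp.pos).symm⟩
    have k1 := kstar j B A hs' b₁ a' ψ hb₁.symm hne hψ.symm
    have k2 := kstar j B A hs' b₂ (a * a') ψ hb₂.symm (by rw [haa']; exact hne)
      (by rw [haa']; exact hψ.symm)
    have hb12 : b₁ = b₂ := k1.symm.trans k2
    rw [← hb12] at hb₂
    have := Rel.unique_left hp hb₂ hb₁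
    exact ha1 (by simpa using this)
  · right
    push_neg at hfin
    refine ⟨hfin, ?_⟩
    intro a ha n hn
    by_cases ha1 : a = 1
    · exact ⟨1, A.one_mem, by rw [ha1, one_pow]⟩
    obtain ⟨b, hb⟩ := exists_right hp ha ha1
    have hbn : b ^ n ≠ 1 := by
      intro h0
      have := (hb.pow_eq_one_iff hs n).mpr h0
      exact hfin a ha ha1 (isOfFinOrder_iff_pow_eq_one.mpr ⟨n, hn, this⟩)
    obtain ⟨ψ, hψ⟩ := exists_left hp (B.pow_mem hb.2.2.1 n) hbn
    obtain ⟨j, rfl⟩ : ∃ j, n = j + 1 := ⟨n - 1, (Nat.succ_pred_eq_of_pos hn).symm⟩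
    exact ⟨ψ, hψ.1, kstar j A B hs a b ψ hb hbn hψ⟩

end Cfsg.Agent.S5021
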