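import Mathlib
import Cfsg.Statements.S5023
import Cfsg.Agent.Lib.Helper25.RankOneQuad

set_option autoImplicit false
open Cfsg

namespace Cfsg.Agent.S5023

open Cfsg.Agent.Helper25 Cfsg.Agent.Helper25.RankOneQuad in
/-- Let X be a rank one group with unipotent subgroups A and B that acts faithfully on an abelian group V (written additively) with A acting quadratically: a' • (a • v − v) = a • v − v for all a, a' in A and v in V. Then A is either torsion-free or an elementary abelian p-group for some prime p. -/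
theorem result {X : Type*} [Group X] {A B : Subgroup X} (h : Cfsg.IsRankOneGroup X A B)
    {V : Type*} [AddCommGroup V] [DistribMulAction X V] (hf : ∀ x : X, (∀ v : V, x • v = v) → x = 1)
    (hq : ∀ a ∈ A, ∀ a' ∈ A, ∀ v : V, a' • (a • v - v) = a • v - v) :
    (∀ a ∈ A, a ≠ 1 → ¬ IsOfFinOrder a) ∨ ∃ p : ℕ, p.Prime ∧ Cfsg.IsElementaryAbelian p A := by
  obtain ⟨htop, hpair⟩ := h
  by_cases htf : ∀ a ∈ A, a ≠ 1 → ¬ IsOfFinOrder a
  · exact Or.inl htf
  right
  push_neg at htf
  obtain ⟨a₀, ha₀, ha₀1, hfin⟩ := htf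
  -- an element of prime order
  have hn0 : orderOf a₀ ≠ 0 := (orderOf_pos_iff.mpr hfin).ne'
  have hn1 : orderOf a₀ ≠ 1 := fun h1 => ha₀1 (orderOf_eq_one_iff.mp h1)
  obtain ⟨p, hp, hpn⟩ := Nat.exists_prime_and_dvd hn1
  obtain ⟨a₁, ha₁def⟩ : ∃ a₁, a₁ = a₀ ^ (orderOf a₀ / p) := ⟨_, rfl⟩
  have hord : orderOf a₁ = p := by
    rw [ha₁def]
    exact orderOf_pow_orderOf_div hn0 hpn
  have ha₁ : a₁ ∈ A := by
    rw [ha₁def]
    exact A.pow_mem ha₀ _
  have ha₁1 : a₁ ≠ 1 := by
    intro h1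
    rw [h1, orderOf_one] at hord
    exact hp.one_lt.ne hord
  have hpow : a₁ ^ p = 1 := by
    rw [← hord]
    exact pow_orderOf_eq_one a₁
  have hkill : ∀ v : V, p • (a₁ • v - v) = 0 := by
    intro v
    have := pow_smul_of_quad hq ha₁ p v
    rw [hpow, one_smul] at this
    have h2 : v + p • (a₁ • v - v) = v + 0 := by rw [add_zero]; exact this.symm
    exact add_left_cancel h2
  -- fixed by A and B implies fixed by X
  have hfixX : ∀ z : V, (∀ a' ∈ A, a' • z = z) → (∀ b' ∈ B, b' • z = z) → ∀ x : X, x • z = z := by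
    intro z hzA hzB x
    have hx : x ∈ A ⊔ B := by rw [htop]; trivial
    rw [Subgroup.sup_eq_closure] at hx
    induction hx using Subgroup.closure_induction with
    | mem y hy =>
      rcases hy with hy | hy
      · exact hzA y hy
      · exact hzB y hy
    | one => exact one_smul _ _
    | mul y y' _ _ hy hy' => rw [mul_smul, hy', hy]
    | inv y _ hy =>
      rw [inv_smul_eq_iff]
      exact hy.symm
  -- commutativity of A
  have hcomm : IsMulCommutative A := by
    refine ⟨⟨?_⟩⟩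
    rintro ⟨a, ha⟩ ⟨a', ha'⟩
    apply Subtype.ext
    show a * a' = a' * a
    apply eq_of_smul_eq hf
    intro v
    have e1 : (a * a') • v = v + (a • v - v) + (a' • v - v) := by
      have : a' • v = v + (a' • v - v) := by abel
      rw [mul_smul, this, smul_add, hq a' ha' a ha]
      abel
    have e2 : (a' * a) • v = v + (a • v - v) + (a' • v - v) := by
      have : a • v = v + (a • v - v) := by abel
      rw [mul_smul, this, smul_add, hq a ha a' ha']
      abel
    rw [e1, e2]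
  refine ⟨p, hp, hcomm, fun a ha => ?_⟩
  by_contra hap
  -- a' = a^p is a non-identity element with [V, a'] fixed by X
  obtain ⟨b₁, hb₁, hb₁1, hrel₁⟩ := hpair.cond_left a₁ ha₁ ha₁1
  have hap' : a ^ p ∈ A := A.pow_mem ha p
  obtain ⟨b₂, hb₂, hb₂1, hrel₂⟩ := hpair.cond_left (a ^ p) hap' hap
  have hstep : ∀ v : V, ∀ x : X, x • ((a ^ p) • v - v) = (a ^ p) • v - v := by
    intro v
    have e : (a ^ p) • v - v = p • (a • v - v) := by
      rw [pow_smul_of_quad hq ha p v]
      abel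
    rw [e]
    have hfixA : ∀ a' ∈ A, a' • (a • v - v) = a • v - v := fun a' ha' => hq a ha a' ha' v
    obtain ⟨v', z, hzA, hzB, hdec⟩ := fixed_decomp hq ha₁ hb₁ hrel₁ hfixA
    rw [hdec, nsmul_add, hkill v', zero_add]
    intro x
    rw [smul_nsmul', hfixX z hzA hzB x]
  -- every vector fixed by A is fixed by X
  have hCA : ∀ u : V, (∀ a' ∈ A, a' • u = u) → ∀ x : X, x • u = u := by
    intro u hu x
    obtain ⟨v', z, hzA, hzB, hdec⟩ := fixed_decomp hq hap' hb₂ hrel₂ hu
    rw [hdec, smul_add, hstep v' x, hfixX z hzA hzB x]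
  have hVA : ∀ a' ∈ A, ∀ v : V, ∀ x : X, x • (a' • v - v) = a' • v - v :=
    fun a' ha' v x => hCA _ (fun a'' ha'' => hq a' ha' a'' ha'' v) x
  have hVB : ∀ b' ∈ B, ∀ v : V, ∀ x : X, x • (b' • v - v) = b' • v - v := by
    intro b' hb' v x
    obtain ⟨a', ha', rfl⟩ := exists_conj_of_rel hrel₁ hb'
    have e1 : (a₁ * b₁⁻¹ * a' * (a₁ * b₁⁻¹)⁻¹) • v - v =
        (a₁ * b₁⁻¹) • (a' • ((a₁ * b₁⁻¹)⁻¹ • v) - (a₁ * b₁⁻¹)⁻¹ • v) := by
      rw [smul_sub, mul_smul, mul_smul, smul_inv_smul]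
    rw [e1, hVA a' ha' _ (a₁ * b₁⁻¹), hVA a' ha' _ x]
  -- A and B commute elementwise
  have hAB : ∀ a' ∈ A, ∀ b' ∈ B, a' * b' = b' * a' := by
    intro a' ha' b' hb'
    apply eq_of_smul_eq hf
    intro v
    have e1 : (a' * b') • v = v + (a' • v - v) + (b' • v - v) := by
      have : b' • v = v + (b' • v - v) := by abel
      rw [mul_smul, this, smul_add, hVB b' hb' v a']
      abel
    have e2 : (b' * a') • v = v + (a' • v - v) + (b' • v - v) := by
      have : a' • v = v + (a' • v - v) := by abel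
      rw [mul_smul, this, smul_add, hVA a' ha' v b']
      abel
    rw [e1, e2]
  apply hpair.ne
  have h1 : conjBy A b₁⁻¹ = A := RankOne.conjBy_eq_of_commute (fun d hd =>
    (hAB d hd b₁⁻¹ (B.inv_mem hb₁)).symm)
  have h2 : conjBy B a₁⁻¹ = B := RankOne.conjBy_eq_of_commute (fun d hd =>
    hAB a₁⁻¹ (A.inv_mem ha₁) d hd)
  rw [← h1, hrel₁, h2]

end Cfsg.Agent.S5023
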