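import Mathlib
import Cfsg.Statements.S5024
import Cfsg.Agent.Lib.Helper25.RankOne2

set_option autoImplicit false
open Cfsg

namespace Cfsg.Agent.S5024

open Cfsg.Agent.Helper25
open scoped commutatorElement

/-- If `A ≠ B` are unipotent subgroups of the rank one pair `(C, D)` and themselves a rank one pair,
every unipotent subgroup of `(C, D)` is one of `(A, B)`. -/
theorem unipotent_subset_of_mem {G : Type*} [Group G] {A B C D : Subgroup G}
    (hCD : Cfsg.IsRankOnePair C D) (hAB : Cfsg.IsRankOnePair A B)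
    (hA : A ∈ Cfsg.unipotentSubgroups C D) (hB : B ∈ Cfsg.unipotentSubgroups C D) :
    Cfsg.unipotentSubgroups C D ⊆ Cfsg.unipotentSubgroups A B := by
  obtain ⟨x, hx, hx1, hx2⟩ := RankOne.exists_conj_pair hCD hA hB hAB.ne
  intro E hE
  have hE' : Cfsg.conjBy E x ∈ Cfsg.unipotentSubgroups C D := RankOne.conjBy_mem hE hx
  rcases RankOne.cases_of_mem hCD hE' with h1 | ⟨c, hc, h1⟩
  · have : E = A := by
      apply conjBy_injective x
      show Cfsg.conjBy E x = Cfsg.conjBy A x
      rw [h1, hx1]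
    rw [this]; exact RankOne.left_mem A B
  · have hcA : x⁻¹ * c * x ∈ A := by
      have : A = Cfsg.conjBy C x⁻¹ := conjBy_eq_iff.1 hx1
      rw [this, mem_conjBy]
      simpa [mul_assoc] using hc
    have : E = Cfsg.conjBy B (x⁻¹ * c * x) := by
      apply conjBy_injective x
      show Cfsg.conjBy E x = Cfsg.conjBy (Cfsg.conjBy B (x⁻¹ * c * x)) x
      rw [h1, conjBy_conjBy, ← hx2, conjBy_conjBy]
      congr 1; group
    rw [this]
    exact RankOne.conjBy_mem (RankOne.right_mem hAB) (le_sup_left (a := A) hcA)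

/-- Step 1: `A` is a unipotent subgroup of `(C, D)`. -/
theorem left_mem_of_le {G : Type*} [Group G] {S : Set (Subgroup G)} (hS : Cfsg.IsRootSubgroupSet S)
    {A B C D : Subgroup G} (hA : A ∈ S) (hC : C ∈ S)
    (hAB : Cfsg.IsRankOnePair A B) (hCD : Cfsg.IsRankOnePair C D) (hle : A ⊔ B ≤ C ⊔ D) :
    A ∈ Cfsg.unipotentSubgroups C D := by
  obtain ⟨a, ha, ha1⟩ := RankOne.exists_ne_one_left hAB
  have haY : a ∈ C ⊔ D := hle (le_sup_left (a := A) ha)
  -- some unipotent subgroup of (C, D) is moved by a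
  have hmoved : ∃ E ∈ Cfsg.unipotentSubgroups C D, Cfsg.conjBy E a ≠ E := by
    by_contra hall
    push Not at hall
    have hcomm := RankOne.commute_of_normalizes_all hCD hall
    apply ha1
    apply RankOne.eq_one_of_normalizes hAB ha
    apply RankOne.conjBy_eq_of_commute
    intro b hb
    exact (hcomm b (hle (le_sup_right (a := A) hb))).symm
  obtain ⟨E, hE, hEa⟩ := hmoved
  have hES : E ∈ S := by
    obtain ⟨g, _, rfl⟩ := hE
    exact hS.conj_mem C hC g
  have hEa' : Cfsg.conjBy E a ∈ Cfsg.unipotentSubgroups C D := RankOne.conjBy_mem hE haY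
  rcases hS.pair A hA E hES with hcom | hro | hcc
  · exfalso
    apply hEa
    apply RankOne.conjBy_eq_of_commute
    intro e he
    exact RankOne.commute_of_commutator_eq_bot hcom ha he
  · obtain ⟨e, he, he1⟩ := RankOne.exists_ne_one_right hro
    obtain ⟨a', ha', _, hEq⟩ := hro.cond_right e he he1
    have : A = Cfsg.conjBy E (e * a'⁻¹) := by
      rw [← conjBy_conjBy, hEq, conjBy_conjBy]
      simp [conjBy_one]
    rw [this]
    refine RankOne.conjBy_mem hE (Subgroup.mul_mem _ (RankOne.le_sup_of_mem hE he)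
      (Subgroup.inv_mem _ (hle (le_sup_left (a := A) ha'))))
  · exfalso
    obtain ⟨_, hcen, _, _⟩ := hcc
    apply hS.ne_bot E hES
    refine RankOne.eq_bot_of_commutators_commute hCD hE (g := a) hEa' hEa ?_
    intro e he e' he'
    have h1 : ⁅a, e⁆ ∈ ⁅A, E⁆ := Subgroup.commutator_mem_commutator ha he
    have h2 := hcen _ h1 e' (le_sup_right (a := A) he')
    rw [commutatorElement_def] at h2
    exact h2

/-- Let S be a set of abstract root subgroups of G, A and C members of S, B a rank one partner of A in S and D a rank one partner of C in S. If the rank one group ⟨A, B⟩ is contained in ⟨C, D⟩ then the two coincide, and C and D are conjugates of A inside ⟨A, B⟩. -/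
theorem result {G : Type*} [Group G] {S : Set (Subgroup G)} (hS : Cfsg.IsRootSubgroupSet S)
    {A B C D : Subgroup G} (hA : A ∈ S) (hC : C ∈ S) (hB : B ∈ Cfsg.rankOnePartners S A) (hD : D ∈ Cfsg.rankOnePartners S C)
    (hle : A ⊔ B ≤ C ⊔ D) : A ⊔ B = C ⊔ D ∧ C ∈ Cfsg.unipotentSubgroups A B ∧ D ∈ Cfsg.unipotentSubgroups A B := by
  obtain ⟨hBS, hAB⟩ := hB
  obtain ⟨hDS, hCD⟩ := hD
  have hAΩ := left_mem_of_le hS hA hC hAB hCD hle
  have hBΩ := left_mem_of_le hS hBS hC (Cfsg.RankOnePair_symm hAB) hCD (by rw [sup_comm]; exact hle)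
  have hsub := unipotent_subset_of_mem hCD hAB hAΩ hBΩ
  have hCm := hsub (RankOne.left_mem C D)
  have hDm := hsub (RankOne.right_mem hCD)
  exact ⟨le_antisymm hle (sup_le (RankOne.le_sup_of_mem hCm) (RankOne.le_sup_of_mem hDm)), hCm, hDm⟩

end Cfsg.Agent.S5024
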