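import Mathlib
import Cfsg.Statements.S5026
import Cfsg.Agent.Lib.Helper25.RankOne2

set_option autoImplicit false
open Cfsg

namespace Cfsg.Agent.S5026

open Cfsg.Agent.Helper25

theorem le_centralizer_zpowers_iff {G : Type*} [Group G] {C : Subgroup G} {g : G} :
    C ≤ Subgroup.centralizer ((Subgroup.zpowers g : Subgroup G) : Set G) ↔ ∀ c ∈ C, c * g = g * c := by
  constructor
  · intro h c hc
    have := h hc
    rw [Subgroup.mem_centralizer_iff] at this
    exact (this g (Subgroup.mem_zpowers g)).symm
  · intro h c hc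
    rw [Subgroup.mem_centralizer_iff]
    rintro x ⟨k, rfl⟩
    have hcomm : Commute g c := (h c hc).symm
    exact (hcomm.zpow_left k).eq

/-- Let S be a degenerate set of abstract root subgroups of G (a set of abstract transvection groups) and let a, b be commuting non-identity elements of members of S with a b ≠ 1. Then the members of S centralizing a b are exactly those centralizing both a and b. -/
theorem result {G : Type*} [Group G] {S : Set (Subgroup G)} (hS : Cfsg.IsRootSubgroupSet S) (hdeg : Cfsg.IsDegenerateRootSet S)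
    {a b : G} (ha : a ∈ Cfsg.rootElements S) (hb : b ∈ Cfsg.rootElements S) (hab : a * b = b * a) (hab1 : a * b ≠ 1) :
    Cfsg.centralizingMembers S (Subgroup.zpowers (a * b)) =
      Cfsg.centralizingMembers S (Subgroup.zpowers a) ∩ Cfsg.centralizingMembers S (Subgroup.zpowers b) := by
  obtain ⟨ha1, A₀, hA₀, haA⟩ := ha
  obtain ⟨hb1, B₀, hB₀, hbB⟩ := hb
  ext C
  simp only [Cfsg.centralizingMembers, Set.mem_setOf_eq, Set.mem_inter_iff, le_centralizer_zpowers_iff]
  constructor
  · rintro ⟨hC, hcen⟩
    -- it suffices to show that C commutes with a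
    suffices hCa : ∀ c ∈ C, c * a = a * c by
      refine ⟨⟨hC, hCa⟩, hC, ?_⟩
      intro c hc
      have h1 := hcen c hc
      have h2 := hCa c hc
      calc c * b = a⁻¹ * (a * c) * b := by group
        _ = a⁻¹ * (c * a) * b := by rw [h2]
        _ = a⁻¹ * (c * (a * b)) := by group
        _ = a⁻¹ * (a * b * c) := by rw [h1]
        _ = b * c := by group
    rcases hS.pair A₀ hA₀ C hC with hcom | hro | hcc
    · intro c hc
      exact (RankOne.commute_of_commutator_eq_bot hcom haA hc).symm
    · exfalso
      -- z = (a b)⁻¹ centralizes C and commutes with a; z * a = b⁻¹ ∈ B₀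
      have hz : ∀ c ∈ C, (a * b)⁻¹ * c = c * (a * b)⁻¹ := by
        intro c hc
        have h1 := hcen c hc
        calc (a * b)⁻¹ * c = (a * b)⁻¹ * (c * (a * b)) * (a * b)⁻¹ := by group
          _ = (a * b)⁻¹ * (a * b * c) * (a * b)⁻¹ := by rw [h1]
          _ = c * (a * b)⁻¹ := by group
      have hza : (a * b)⁻¹ * a = a * (a * b)⁻¹ := by
        calc (a * b)⁻¹ * a = b⁻¹ := by group
          _ = a * (b * a)⁻¹ := by group
          _ = a * (a * b)⁻¹ := by rw [hab]
      have hzaB : (a * b)⁻¹ * a ∈ B₀ := by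
        have : (a * b)⁻¹ * a = b⁻¹ := by group
        rw [this]; exact B₀.inv_mem hbB
      obtain ⟨c₀, hc₀, hBc⟩ := RankOne.exists_eq_conjBy_of_mul_mem hS hC hB₀ hro haA ha1 hza hz hzaB
      have hBΩ : B₀ ∈ Cfsg.unipotentSubgroups A₀ C := ⟨c₀, le_sup_right (a := A₀) hc₀, hBc⟩
      have hAΩ := RankOne.left_mem A₀ C
      by_cases hBA : B₀ = A₀
      · apply hab1
        apply RankOne.eq_one_of_normalizes hro (A₀.mul_mem haA (hBA ▸ hbB))
        apply RankOne.conjBy_eq_of_commute
        intro c hc
        exact (hcen c hc).symm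
      · -- a ∈ A₀ ∩ conjBy A₀ b
        have hbX : b ∈ A₀ ⊔ C := RankOne.le_sup_of_mem hBΩ hbB
        have hAb : Cfsg.conjBy A₀ b ∈ Cfsg.unipotentSubgroups A₀ C := RankOne.conjBy_mem hAΩ hbX
        have haAb : a ∈ Cfsg.conjBy A₀ b := by
          rw [mem_conjBy]
          have : b⁻¹ * a * b = a := by
            calc b⁻¹ * a * b = b⁻¹ * (a * b) := by group
              _ = b⁻¹ * (b * a) := by rw [hab]
              _ = a := by group
          rw [this]; exact haA
        have hEq : Cfsg.conjBy A₀ b = A₀ := by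
          by_contra hne
          have := RankOne.inf_eq_bot hro hAb hAΩ hne
          rw [Subgroup.eq_bot_iff_forall] at this
          exact ha1 (this a ⟨haAb, haA⟩)
        exact hb1 (RankOne.eq_one_of_normalizes' hro hBΩ hAΩ hBA hbB hEq)
    · exact absurd hcc (hdeg A₀ hA₀ C hC)
  · rintro ⟨⟨hC, hCa⟩, _, hCb⟩
    refine ⟨hC, ?_⟩
    intro c hc
    rw [← mul_assoc, hCa c hc, mul_assoc, hCb c hc, mul_assoc]

end Cfsg.Agent.S5026
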