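import Mathlib
import Cfsg.Statements.S5027
import Cfsg.Agent.Lib.Helper25.RankOne2
import Cfsg.Agent.S5025
import Cfsg.Agent.S5028

set_option autoImplicit false
open Cfsg

namespace Cfsg.Agent.S5027

open Cfsg.Agent.Helper25
open scoped commutatorElement

/-- Let S be a set of abstract root subgroups of G such that every member of S has a rank one partner in S (the graph of rank one pairs on S has no isolated vertex). Then the second centre of G equals its centre. -/
theorem result {G : Type*} [Group G] {S : Set (Subgroup G)} (hS : Cfsg.IsRootSubgroupSet S)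
    (hF : ∀ A ∈ S, ¬ Cfsg.IsIsolatedIn (Cfsg.FAdj S) S A) : Subgroup.upperCentralSeries G 2 = Subgroup.center G := by
  apply le_antisymm
  · intro z hz
    rw [Subgroup.mem_upperCentralSeries_succ_iff] at hz
    -- z commutes with every element of every member of S
    have key : ∀ A ∈ S, ∀ a ∈ A, a * z = z * a := by
      intro A hA a ha
      by_cases ha1 : a = 1
      · rw [ha1]; simp
      obtain ⟨B, hBS, hp⟩ := Cfsg.Agent.S5028.exists_partner_of_not_isolated (hF A hA) hA
      have he : ⁅z, a⁆ ∈ Subgroup.center G := by
        have := hz a
        rwa [Subgroup.upperCentralSeries_one] at this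
      by_contra hne
      have he1 : ⁅z, a⁆ ≠ 1 := by
        intro h1
        rw [commutatorElement_eq_one_iff_mul_comm] at h1
        exact hne h1.symm
      have hcen : ⁅z, a⁆ ∈ Subgroup.centralizer ((A ⊔ B : Subgroup G) : Set G) := by
        rw [Subgroup.mem_centralizer_iff]
        intro x _
        rw [Subgroup.mem_center_iff] at he
        exact he x
      apply Cfsg.Agent.S5025.result hS hA ⟨hBS, hp⟩ hcen he1 a ha ha1
      refine ⟨?_, Cfsg.conjBy A z, hS.conj_mem A hA z, ?_⟩
      · intro h1
        apply ha1
        have e : ⁅z, a⁆ * a = z * a * z⁻¹ := by rw [commutatorElement_def]; group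
        rw [e] at h1
        calc a = z⁻¹ * (z * a * z⁻¹) * z := by group
          _ = 1 := by rw [h1]; group
      · have e : ⁅z, a⁆ * a = z * a * z⁻¹ := by rw [commutatorElement_def]; group
        rw [e, mem_conjBy]
        simpa [mul_assoc] using ha
    have hle : (⨆ A ∈ S, A) ≤ Subgroup.centralizer ({z} : Set G) := by
      refine iSup₂_le fun A hA => ?_
      intro a ha
      rw [Subgroup.mem_centralizer_iff]
      intro y hy
      rw [Set.mem_singleton_iff] at hy
      rw [hy]
      exact (key A hA a ha).symm
    rw [hS.generates] at hle
    rw [Subgroup.mem_center_iff]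
    intro g
    have := hle (Subgroup.mem_top g)
    rw [Subgroup.mem_centralizer_iff] at this
    exact (this z rfl).symm
  · rw [← Subgroup.upperCentralSeries_one]
    exact Subgroup.upperCentralSeries_mono G one_le_two

end Cfsg.Agent.S5027
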