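import Mathlib
import Cfsg.Statements.S5030
import Cfsg.Agent.Lib.Helper25.RootTriple6

set_option autoImplicit false
open Cfsg

namespace Cfsg.Agent.S5030

open Cfsg.Agent.Helper25 Cfsg.Agent.Helper25.RootTriple

theorem isMulCommutative_of {G : Type*} [Group G] {X : Subgroup G}
    (h : ∀ x ∈ X, ∀ y ∈ X, x * y = y * x) : IsMulCommutative ↥X :=
  ⟨⟨fun x y => Subtype.ext (h x x.2 y y.2)⟩⟩

theorem comm_of_isMulCommutative {G : Type*} [Group G] {X : Subgroup G}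
    (h : IsMulCommutative ↥X) : ∀ x ∈ X, ∀ y ∈ X, x * y = y * x := by
  intro x hx y hy
  have := h.is_comm.comm ⟨x, hx⟩ ⟨y, hy⟩
  exact congrArg Subtype.val this

/-- Let S be a set of abstract root subgroups of G and A, B, C ∈ S with ⁅A, B⁆ ∈ S and ⁅B, C⁆ ∈ S, where A and C are different and commute. For a non-identity b ∈ B put X = ⟨A, b⁻¹ C b⟩ and Y = ⟨b⁻¹ A b, C⟩ and R = ⟨A, B, C⟩. Then X and Y are either both abelian or both nilpotent of class exactly two; X and Y commute elementwise; XY is normal in R with R = (XY) B; and R is nilpotent. -/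
theorem result {G : Type*} [Group G] {S : Set (Subgroup G)} (hS : Cfsg.IsRootSubgroupSet S)
    {A B C : Subgroup G} (hA : A ∈ S) (hB : B ∈ S) (hC : C ∈ S) (hAB : ⁅A, B⁆ ∈ S) (hBC : ⁅B, C⁆ ∈ S)
    (hAC : C ∈ Cfsg.commutingPartners S A)
    {b : G} (hb : b ∈ B) (hb1 : b ≠ 1) :
    ((IsMulCommutative ↥(A ⊔ Cfsg.conjBy C b⁻¹) ∧ IsMulCommutative ↥(Cfsg.conjBy A b⁻¹ ⊔ C)) ∨
      ((¬ IsMulCommutative ↥(A ⊔ Cfsg.conjBy C b⁻¹) ∧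
          ⁅⁅A ⊔ Cfsg.conjBy C b⁻¹, A ⊔ Cfsg.conjBy C b⁻¹⁆, A ⊔ Cfsg.conjBy C b⁻¹⁆ = ⊥) ∧
        (¬ IsMulCommutative ↥(Cfsg.conjBy A b⁻¹ ⊔ C) ∧
          ⁅⁅Cfsg.conjBy A b⁻¹ ⊔ C, Cfsg.conjBy A b⁻¹ ⊔ C⁆, Cfsg.conjBy A b⁻¹ ⊔ C⁆ = ⊥))) ∧
    ⁅A ⊔ Cfsg.conjBy C b⁻¹, Cfsg.conjBy A b⁻¹ ⊔ C⁆ = ⊥ ∧
    (∀ r ∈ A ⊔ B ⊔ C, Cfsg.conjBy ((A ⊔ Cfsg.conjBy C b⁻¹) ⊔ (Cfsg.conjBy A b⁻¹ ⊔ C)) r =
      (A ⊔ Cfsg.conjBy C b⁻¹) ⊔ (Cfsg.conjBy A b⁻¹ ⊔ C)) ∧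
    ((A ⊔ Cfsg.conjBy C b⁻¹) ⊔ (Cfsg.conjBy A b⁻¹ ⊔ C)) ⊔ B = A ⊔ B ⊔ C ∧
    Group.IsNilpotent ↥(A ⊔ B ⊔ C) := by
  have h : Config S A B C :=
    ⟨hS, hA, hB, hC, by rw [Subgroup.commutator_comm]; exact hAB, hBC, hAC.2.2⟩
  have hb' : b⁻¹ ∈ B := B.inv_mem hb
  have hb'1 : b⁻¹ ≠ 1 := by simpa using hb1
  have hsc : Cfsg.conjBy A b⁻¹ ⊔ C = C ⊔ Cfsg.conjBy A b⁻¹ := sup_comm _ _
  refine ⟨?_, comm_XY h hb', conjM_eq h hb' hb'1, M_sup_B h hb', nilpotent_R h⟩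
  by_cases hbot : ⁅A, ⁅B, C⁆⁆ = ⊥
  · left
    refine ⟨isMulCommutative_of (abelianX_of h hbot hb'), ?_⟩
    rw [hsc]
    exact isMulCommutative_of (abelianX_of h.symm (rot h hbot) hb')
  · right
    have hbot' : ⁅C, ⁅B, A⁆⁆ ≠ ⊥ := fun h0 => hbot (rot h.symm h0)
    refine ⟨⟨?_, class2X h hb'⟩, ?_⟩
    · intro hc
      exact not_abelianX h hbot hb' hb'1 (comm_of_isMulCommutative hc)
    · rw [hsc]
      refine ⟨?_, class2X h.symm hb'⟩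
      intro hc
      exact not_abelianX h.symm hbot' hb' hb'1 (comm_of_isMulCommutative hc)

end Cfsg.Agent.S5030
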