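import Mathlib
import Cfsg.Statements.S5033
import Cfsg.Agent.Lib.Helper25.RootQS2
import Cfsg.Agent.Lib.Helper7.Quasisimple

set_option autoImplicit false
open Cfsg

namespace Cfsg.Agent.S5033

open Cfsg.Agent.Helper25

theorem quasisimple_of_hyp {G : Type*} [Group G] {S : Set (Subgroup G)} (H : RootQS.Hyp S) :
    Cfsg.IsQuasisimple G := by
  refine ⟨⟨H.perfect⟩, ?_⟩
  obtain ⟨A₁, hA₁, _⟩ := H.h2
  obtain ⟨B₁, hB₁, hp⟩ := H.exists_partner hA₁
  have hnt : Nontrivial (G ⧸ Subgroup.center G) := by
    by_contra hnt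
    rw [not_nontrivial_iff_subsingleton] at hnt
    have hc : Subgroup.center G = ⊤ := QuotientGroup.subgroup_eq_top_of_subsingleton _ hnt
    obtain ⟨a, ha, ha1⟩ := RankOne.exists_ne_one_left hp
    apply ha1
    apply RankOne.eq_one_of_normalizes hp ha
    have hac : a ∈ Subgroup.center G := by rw [hc]; exact Subgroup.mem_top a
    ext x
    rw [mem_conjBy]
    have : a⁻¹ * x * a = x := by
      rw [Subgroup.mem_center_iff] at hac
      rw [mul_assoc, hac x, ← mul_assoc, inv_mul_cancel, one_mul]
    rw [this]
  refine { toNontrivial := hnt, eq_bot_or_eq_top_of_normal := ?_ }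
  intro M hM
  set π := QuotientGroup.mk' (Subgroup.center G) with hπ
  have hsurj : Function.Surjective π := QuotientGroup.mk'_surjective _
  have hMeq : M = (M.comap π).map π := (Subgroup.map_comap_eq_self_of_surjective hsurj M).symm
  have hNn : (M.comap π).Normal := hM.comap π
  rcases H.normal_le_center_or_eq_top hNn with hle | htop
  · left
    rw [hMeq, ← le_bot_iff, Subgroup.map_le_iff_le_comap]
    intro n hn
    rw [Subgroup.mem_comap, Subgroup.mem_bot]
    exact (QuotientGroup.eq_one_iff n).2 (hle hn)
  · right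
    rw [hMeq, htop, ← MonoidHom.range_eq_map]
    exact MonoidHom.range_eq_top.2 hsurj

/-- Quasisimplicity criterion for groups generated by abstract root subgroups. Let S be a set of abstract root subgroups of G with more than one member such that: the graph of rank one pairs on S is connected; no two different members of S have the same set of commuting members of S; if S is degenerate then every member of S has more than three elements; and every rank one pair in S is special. Then for every A ∈ S one has G = G' A with A ∩ G' ≠ 1, and the commutator subgroup G' is quasisimple. Moreover G is perfect if S is non-degenerate, or if some rank one pair A, B in S generates a perfect group. -/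
theorem result {G : Type*} [Group G] {S : Set (Subgroup G)} (hS : Cfsg.IsRootSubgroupSet S) (h2 : ∃ A ∈ S, ∃ B ∈ S, A ≠ B)
    (h1 : Cfsg.IsConnectedFamily (Cfsg.FAdj S) S)
    (h2' : ∀ A ∈ S, ∀ C ∈ S, A ≠ C → Cfsg.centralizingMembers S A ≠ Cfsg.centralizingMembers S C)
    (h3 : Cfsg.IsDegenerateRootSet S → ∀ A ∈ S, 3 < ENat.card A)
    (h4 : ∀ A ∈ S, ∀ B ∈ Cfsg.rankOnePartners S A, Cfsg.IsSpecialRankOnePair A B) :
    (∀ A ∈ S, commutator G ⊔ A = ⊤ ∧ A ⊓ commutator G ≠ ⊥) ∧ Cfsg.IsQuasisimple ↥(commutator G) ∧
    (Cfsg.IsNondegenerateRootSet S → commutator G = ⊤) ∧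
    ((∃ A ∈ S, ∃ B ∈ Cfsg.rankOnePartners S A, Group.IsPerfect ↥(A ⊔ B)) → commutator G = ⊤) := by
  have H : RootQS.Hyp S := ⟨hS, h2, h1, h2', h3, h4⟩
  have hperf := H.perfect
  refine ⟨?_, ?_, fun _ => hperf, fun _ => hperf⟩
  · intro A hA
    rw [hperf]
    refine ⟨top_sup_eq _, ?_⟩
    rw [inf_top_eq]
    exact hS.ne_bot A hA
  · have e : ↥(commutator G) ≃* G := (MulEquiv.subgroupCongr hperf).trans Subgroup.topEquiv
    exact Cfsg.Agent.Helper7.isQuasisimple_of_mulEquiv e.symm (quasisimple_of_hyp H)

end Cfsg.Agent.S5033
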