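import Mathlib
import Cfsg.Statements.S5037
import Cfsg.Agent.Lib.Helper25.RootLine5
import Cfsg.Agent.Lib.Helper25.RootConn
import Cfsg.Agent.Lib.Helper25.RootOrder

set_option autoImplicit false
open Cfsg

namespace Cfsg.Agent.S5037

open Cfsg.Agent.Helper25 Cfsg.Agent.Helper25.RootLine
open scoped commutatorElement

variable {G : Type*} [Group G] {S : Set (Subgroup G)}

theorem centralizing_conj (hS : Cfsg.IsRootSubgroupSet S) {A E : Subgroup G} (g : G)
    (hE : E ∈ Cfsg.centralizingMembers S A) :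
    Cfsg.conjBy E g ∈ Cfsg.centralizingMembers S (Cfsg.conjBy A g) := by
  refine ⟨hS.conj_mem E hE.1 g, ?_⟩
  intro x hx
  rw [Subgroup.mem_centralizer_iff]
  intro y hy
  rw [SetLike.mem_coe, mem_conjBy] at hy
  rw [mem_conjBy] at hx
  have h1 := hE.2 hx
  rw [Subgroup.mem_centralizer_iff] at h1
  have h := h1 _ hy
  calc y * x = g * ((g⁻¹ * y * g) * (g⁻¹ * x * g)) * g⁻¹ := by group
    _ = g * ((g⁻¹ * x * g) * (g⁻¹ * y * g)) * g⁻¹ := by rw [h]
    _ = x * y := by group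

theorem partners_conj (hS : Cfsg.IsRootSubgroupSet S) {A E : Subgroup G} (g : G)
    (hE : E ∈ Cfsg.rankOnePartners S A) :
    Cfsg.conjBy E g ∈ Cfsg.rankOnePartners S (Cfsg.conjBy A g) :=
  ⟨hS.conj_mem E hE.1 g, RankOne.conj_pair hE.2 g⟩

theorem self_mem_centralizing (hS : Cfsg.IsRootSubgroupSet S) {A : Subgroup G} (hA : A ∈ S) :
    A ∈ Cfsg.centralizingMembers S A := by
  refine ⟨hA, ?_⟩
  intro x hx
  rw [Subgroup.mem_centralizer_iff]
  intro y hy
  have := (hS.commutative A hA).is_comm.comm ⟨y, hy⟩ ⟨x, hx⟩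
  exact congrArg Subtype.val this

/-- conjugation invariance of the inclusion of centralizing members. -/
theorem centralizing_sub_conj (hS : Cfsg.IsRootSubgroupSet S) {A C : Subgroup G} (g : G)
    (hsub : Cfsg.centralizingMembers S A ⊆ Cfsg.centralizingMembers S C) :
    Cfsg.centralizingMembers S (Cfsg.conjBy A g) ⊆ Cfsg.centralizingMembers S (Cfsg.conjBy C g) := by
  intro E hE
  have h1 := centralizing_conj hS g⁻¹ hE
  rw [conjBy_conjBy, inv_mul_cancel, conjBy_one] at h1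
  have h2 := centralizing_conj hS g (hsub h1)
  rw [conjBy_conjBy, mul_inv_cancel, conjBy_one] at h2
  exact h2

/-- conjugation invariance of the inclusion of rank one partners. -/
theorem partners_sub_conj (hS : Cfsg.IsRootSubgroupSet S) {A C : Subgroup G} (g : G)
    (hsub : Cfsg.rankOnePartners S A ⊆ Cfsg.rankOnePartners S C) :
    Cfsg.rankOnePartners S (Cfsg.conjBy A g) ⊆ Cfsg.rankOnePartners S (Cfsg.conjBy C g) := by
  intro E hE
  have h1 := partners_conj hS g⁻¹ hE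
  rw [conjBy_conjBy, inv_mul_cancel, conjBy_one] at h1
  have h2 := partners_conj hS g (hsub h1)
  rw [conjBy_conjBy, mul_inv_cancel, conjBy_one] at h2
  exact h2

/-- if every member commuting with `A` commutes with `C`, then every rank one partner of `C` is
a rank one partner of `A`. -/
theorem partner_of_sub (hS : Cfsg.IsRootSubgroupSet S) {A C T : Subgroup G} (hA : A ∈ S)
    (hT : T ∈ S)
    (hsub : Cfsg.centralizingMembers S A ⊆ Cfsg.centralizingMembers S C)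
    (hCT : Cfsg.IsRankOnePair C T) : Cfsg.IsRankOnePair A T := by
  have hAA := self_mem_centralizing hS hA
  have hAcC : ∀ a ∈ A, ∀ c ∈ C, c * a = a * c := by
    intro a ha c hc
    exact Subgroup.mem_centralizer_iff.1 ((hsub hAA).2 ha) c hc
  rcases hS.pair A hA T hT with h0 | hp | hcc
  · exfalso
    have hTA : T ∈ Cfsg.centralizingMembers S A := by
      refine ⟨hT, ?_⟩
      intro t ht
      rw [Subgroup.mem_centralizer_iff]
      intro a ha
      exact RankOne.commute_of_commutator_eq_bot h0 ha ht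
    have hTC := (hsub hTA).2
    apply RootOrder.not_commute_of_rankOne hCT
    intro c hc t ht
    exact Subgroup.mem_centralizer_iff.1 (hTC ht) c hc
  · exact hp
  · exfalso
    have hD : ⁅A, T⁆ ∈ Cfsg.centralizingMembers S A := by
      refine ⟨hcc.1, ?_⟩
      intro d hd
      rw [Subgroup.mem_centralizer_iff]
      intro a ha
      exact (hcc.2.1 d hd a (Subgroup.mem_sup_left ha)).symm
    have hDC := (hsub hD).2
    obtain ⟨c, hc, hc1⟩ := RankOne.exists_ne_one_left hCT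
    obtain ⟨t, ht, ht1, hct⟩ := hCT.cond_left c hc hc1
    have h1 : Cfsg.conjBy A t⁻¹ ∈ Cfsg.centralizingMembers S (Cfsg.conjBy C t⁻¹) :=
      centralizing_conj hS t⁻¹ (hsub hAA)
    rw [hct] at h1
    apply hS.ne_bot _ hcc.1
    rw [Subgroup.commutator_eq_bot_iff_le_centralizer]
    intro x hx
    rw [Subgroup.mem_centralizer_iff]
    intro s hs
    have hy : t⁻¹ * x * t ∈ Cfsg.conjBy A t⁻¹ := by
      rw [mem_conjBy]
      have : t⁻¹⁻¹ * (t⁻¹ * x * t) * t⁻¹ = x := by group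
      rw [this]; exact hx
    have hz : c⁻¹ * s * c ∈ Cfsg.conjBy T c⁻¹ := by
      rw [mem_conjBy]
      have : c⁻¹⁻¹ * (c⁻¹ * s * c) * c⁻¹ = s := by group
      rw [this]; exact hs
    have hcomm : c⁻¹ * s * c * (t⁻¹ * x * t) = t⁻¹ * x * t * (c⁻¹ * s * c) :=
      Subgroup.mem_centralizer_iff.1 (h1.2 hy) _ hz
    -- `c` commutes with `t⁻¹ x t`
    have hcy : c * (t⁻¹ * x * t) = (t⁻¹ * x * t) * c := by
      have e : t⁻¹ * x * t = x * ⁅x⁻¹, t⁻¹⁆ := by
        rw [commutatorElement_def]; group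
      have hd : ⁅x⁻¹, t⁻¹⁆ ∈ ⁅A, T⁆ :=
        Subgroup.commutator_mem_commutator (A.inv_mem hx) (T.inv_mem ht)
      have h2 : c * ⁅x⁻¹, t⁻¹⁆ = ⁅x⁻¹, t⁻¹⁆ * c := Subgroup.mem_centralizer_iff.1 (hDC hd) c hc
      have h3 : c * x = x * c := hAcC x hx c hc
      rw [e, ← mul_assoc, h3, mul_assoc, h2, mul_assoc]
    -- hence `s` commutes with `t⁻¹ x t`
    have hsy : s * (t⁻¹ * x * t) = (t⁻¹ * x * t) * s := by
      have k1 : Commute (c⁻¹ * s * c) (t⁻¹ * x * t) := hcomm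
      have k2 : Commute c (t⁻¹ * x * t) := hcy
      have k3 : Commute (c * (c⁻¹ * s * c) * c⁻¹) (t⁻¹ * x * t) :=
        (k2.mul_left k1).mul_left k2.inv_left
      have e : c * (c⁻¹ * s * c) * c⁻¹ = s := by group
      rw [e] at k3
      exact k3
    have hst : s * t = t * s := by
      have := (hS.commutative T hT).is_comm.comm ⟨s, hs⟩ ⟨t, ht⟩
      exact congrArg Subtype.val this
    have hst' : s * t⁻¹ = t⁻¹ * s := by
      have := (hS.commutative T hT).is_comm.comm ⟨s, hs⟩ ⟨t⁻¹, T.inv_mem ht⟩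
      exact congrArg Subtype.val this
    calc s * x = t * (s * (t⁻¹ * x * t)) * t⁻¹ := by
          rw [← mul_assoc t s, ← hst]; group
      _ = t * ((t⁻¹ * x * t) * s) * t⁻¹ := by rw [hsy]
      _ = x * (t * (s * t⁻¹)) := by group
      _ = x * s := by rw [hst']; group

/-- first half. -/
theorem part1 (hS : Cfsg.IsRootSubgroupClass S)
    (hdn : Cfsg.IsDegenerateRootSet S ∨ Cfsg.IsNondegenerateRootSet S)
    {A C : Subgroup G} (hA : A ∈ S) (hC : C ∈ S)
    (hsub : Cfsg.centralizingMembers S A ⊆ Cfsg.centralizingMembers S C) :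
    Cfsg.centralizingMembers S A = Cfsg.centralizingMembers S C := by
  by_cases hro : ∃ X ∈ S, ∃ Y ∈ S, Cfsg.IsRankOnePair X Y
  · obtain ⟨T, hT, hCT⟩ := RootConn.exists_partner hS hro hC
    have hAT := partner_of_sub hS.1 hA hT hsub hCT
    have hAcC : ∀ a ∈ A, ∀ c ∈ C, a * c = c * a := by
      intro a ha c hc
      exact (Subgroup.mem_centralizer_iff.1 ((hsub (self_mem_centralizing hS.1 hA)).2 ha) c hc).symm
    have key := RootOrder.trick
      (R := fun X Y => X ∈ S ∧ Y ∈ S ∧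
        Cfsg.centralizingMembers S X ⊆ Cfsg.centralizingMembers S Y)
      (fun X Y Z h1 h2 => ⟨h1.1, h2.2.1, h1.2.2.trans h2.2.2⟩)
      (fun X Y g h => ⟨hS.1.conj_mem X h.1 g, hS.1.conj_mem Y h.2.1 g,
        centralizing_sub_conj hS.1 g h.2.2⟩)
      (by
        intro X Y h hp
        apply RootOrder.not_commute_of_rankOne hp
        intro x hx y hy
        have := (h.2.2 (self_mem_centralizing hS.1 h.1)).2 hx
        exact (Subgroup.mem_centralizer_iff.1 this y hy).symm)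
      hAcC hAT hCT ⟨hA, hC, hsub⟩
    exact Set.Subset.antisymm hsub key.2.2
  · apply Set.Subset.antisymm hsub
    intro E hE
    refine ⟨hE.1, ?_⟩
    have hcom : ⁅A, E⁆ = ⊥ := by
      rcases hS.1.pair A hA E hE.1 with h | h | h
      · exact h
      · exact absurd ⟨A, hA, E, hE.1, h⟩ hro
      · rcases hdn with hd | hn
        · exact absurd h (hd A hA E hE.1)
        · exact absurd hn.2.1 hro
    intro e he
    rw [Subgroup.mem_centralizer_iff]
    intro a ha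
    exact RankOne.commute_of_commutator_eq_bot hcom ha he

/-- in the commutator case `⁅A, C⁆ ∈ S` with `Ω_A ⊆ Ω_C`, every rank one partner `B` of `A` has
`⁅B, ⁅A, C⁆⁆ ∈ S`. -/
theorem comm_partner_mem (hS : Cfsg.IsRootSubgroupSet S)
    (hpart : ∀ A ∈ S, ∃ D ∈ S, Cfsg.IsRankOnePair A D)
    {A C B : Subgroup G} (hA : A ∈ S) (hC : C ∈ S)
    (hsub : Cfsg.rankOnePartners S A ⊆ Cfsg.rankOnePartners S C)
    (hcc : Cfsg.RootCommutatorCase S A C) (hB : B ∈ Cfsg.rankOnePartners S A) :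
    ⁅B, ⁅A, C⁆⁆ ∈ S := by
  have hCA : ⁅C, A⁆ ∈ S := by rw [Subgroup.commutator_comm]; exact hcc.1
  have h29 := Cfsg.Agent.S5029.result hS (not_isolated_of_hpart hpart C hC) hC hA hCA
  have hL : Line S (⁅C, A⁆ ⊔ C) := line_of_linePartner hS hCA h29.2.2.1
  have hB' := hsub hB
  have hC₀ : C ∈ Cfsg.membersIn S (⁅C, A⁆ ⊔ C) := ⟨hC, le_sup_right⟩
  obtain ⟨D, hD, hDC, hBD⟩ := hL.exists_comm_point hS hC₀ hB'.1 hB'.2
    ⟨⁅C, A⁆, ⟨hCA, le_sup_left⟩, h29.2.2.1.1.2.1.symm⟩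
  rw [sup_comm, h29.1] at hD
  rcases hD with ⟨a, ha, rfl⟩ | hD
  · exfalso
    have h1 := partners_sub_conj hS a hsub
    rw [conjBy_of_mem ha] at h1
    have h2 := (h1 hB).2
    exact RootComm.comm_not_mem_of_rankOne hS hB.1 (hS.conj_mem C hC a)
      (Cfsg.RankOnePair_symm h2) hBD
  · rw [Set.mem_singleton_iff] at hD
    rw [hD, Subgroup.commutator_comm C A] at hBD
    exact hBD

/-- on a line through `A`, at most one point has its commutator with a rank one partner `B`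
of `A` in `S`. -/
theorem unique_comm_point (hS : Cfsg.IsRootSubgroupSet S)
    (hpart : ∀ A ∈ S, ∃ D ∈ S, Cfsg.IsRankOnePair A D) {N : Subgroup G} (hL : Line S N)
    {A B M M' : Subgroup G} (hA : A ∈ Cfsg.membersIn S N) (hB : B ∈ S)
    (hp : Cfsg.IsRankOnePair A B) (hcompl : ∃ B' ∈ Cfsg.membersIn S N, A ⊔ B' = N)
    (hex : ∃ D' ∈ Cfsg.membersIn S N, D' ≠ A)
    (hM : M ∈ Cfsg.membersIn S N) (hM' : M' ∈ Cfsg.membersIn S N)
    (h1 : ⁅B, M⁆ ∈ S) (h2 : ⁅B, M'⁆ ∈ S) : M = M' := by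
  obtain ⟨D₀, hD₀, _, _, hF, _, F, _, hFeq, _, _, htr⟩ :=
    hL.point_lemma' hS hpart hA hB hp hcompl hex
  have hcc : Cfsg.RootCommutatorCase S B D₀ := RootComm.commCase_of_comm_mem hS hB hD₀.1 hF
  have key : ∀ M ∈ Cfsg.membersIn S N, ⁅B, M⁆ ∈ S → M = D₀ := by
    intro M hM h1
    by_contra hne
    obtain ⟨f, hf, rfl⟩ := htr M hM hne
    rw [hFeq] at hf
    have hpf := RankOne.conj_pair hp f
    have hBf : Cfsg.conjBy B f = B :=
      RankOne.conjBy_eq_of_commute (fun b hb => hcc.2.1 f hf b (Subgroup.mem_sup_left hb))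
    rw [hBf] at hpf
    exact RootComm.comm_not_mem_of_rankOne hS hB hM.1 (Cfsg.RankOnePair_symm hpf) h1
  rw [key M hM h1, key M' hM' h2]

/-- second half, the commutator case is impossible. -/
theorem not_commCase (hS : Cfsg.IsRootSubgroupClass S) (hnd : Cfsg.IsNondegenerateRootSet S)
    {A C : Subgroup G} (hA : A ∈ S) (hC : C ∈ S)
    (hsub : Cfsg.rankOnePartners S A ⊆ Cfsg.rankOnePartners S C)
    (hcc : Cfsg.RootCommutatorCase S A C) : False := by
  have hpart : ∀ A ∈ S, ∃ D ∈ S, Cfsg.IsRankOnePair A D :=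
    fun A hA => RootConn.exists_partner hS hnd.2.1 hA
  obtain ⟨B, hB, hAB⟩ := hpart A hA
  have hBΩ : B ∈ Cfsg.rankOnePartners S A := ⟨hB, hAB⟩
  have hD : ⁅A, C⁆ ∈ S := hcc.1
  have hAD : A ∈ Cfsg.linePartners S ⁅A, C⁆ :=
    (Cfsg.Agent.S5029.result hS.1 (not_isolated_of_hpart hpart A hA) hA hC hD).2.2.1
  have hDA : ⁅A, C⁆ ∈ Cfsg.linePartners S A := RootConn.linePartners_symm hD hAD
  obtain ⟨D₂, hD₂, hDD₂⟩ := exists_second hS.1 hpart hA hDA
  have hD₂S : D₂ ∈ S := hD₂.1.1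
  obtain ⟨d₂, hd₂, hd₂1⟩ : ∃ d ∈ D₂, d ≠ 1 := by
    rcases D₂.bot_or_exists_ne_one with h | h
    · exact absurd h (hS.1.ne_bot D₂ hD₂S)
    · exact h
  have hAd : Cfsg.conjBy A d₂ = A := by
    apply RankOne.conjBy_eq_of_commute
    intro a ha
    exact (RankOne.commute_of_commutator_eq_bot hD₂.1.2.2 ha hd₂).symm
  have hC₂ : Cfsg.conjBy C d₂ ∈ S := hS.1.conj_mem C hC d₂
  have hsub₂ : Cfsg.rankOnePartners S A ⊆ Cfsg.rankOnePartners S (Cfsg.conjBy C d₂) := by
    have := partners_sub_conj hS.1 d₂ hsub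
    rwa [hAd] at this
  have hcomm₂ : ⁅A, Cfsg.conjBy C d₂⁆ = Cfsg.conjBy ⁅A, C⁆ d₂ := by
    rw [conjBy_commutator, hAd]
  have hcc₂ : Cfsg.RootCommutatorCase S A (Cfsg.conjBy C d₂) :=
    RootComm.commCase_of_comm_mem hS.1 hA hC₂ (by rw [hcomm₂]; exact hS.1.conj_mem _ hD d₂)
  have h1 := comm_partner_mem hS.1 hpart hA hC hsub hcc hBΩ
  have h2 := comm_partner_mem hS.1 hpart hA hC₂ hsub₂ hcc₂ hBΩ
  rw [hcomm₂] at h2
  have hL : Line S (A ⊔ ⁅A, C⁆) := line_of_linePartner hS.1 hA hDA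
  have hccD : Cfsg.RootCommutatorCase S ⁅A, C⁆ D₂ :=
    RootComm.commCase_of_comm_mem hS.1 hD hD₂S (by rw [hDD₂]; exact hA)
  have hle : Cfsg.conjBy ⁅A, C⁆ d₂ ≤ A ⊔ ⁅A, C⁆ := by
    have := RootComm.conjBy_le_sup hccD hd₂
    rwa [hDD₂, sup_comm] at this
  have heq : ⁅A, C⁆ = Cfsg.conjBy ⁅A, C⁆ d₂ :=
    unique_comm_point hS.1 hpart hL ⟨hA, le_sup_left⟩ hB hAB
      ⟨⁅A, C⁆, ⟨hD, le_sup_right⟩, rfl⟩ ⟨⁅A, C⁆, ⟨hD, le_sup_right⟩, hDA.1.2.1⟩
      ⟨hD, le_sup_right⟩ ⟨hS.1.conj_mem _ hD d₂, hle⟩ h1 h2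
  -- `d₂` normalizes `⁅A, C⁆`, hence centralizes it
  obtain ⟨D', hD', hpD⟩ := hpart ⁅A, C⁆ hD
  have hinf := RootComm.left_inf_comm hS.1 hD hD' hpD hccD
  rw [hDD₂] at hinf
  obtain ⟨d, hd, hd1⟩ := RankOne.exists_ne_one_left hpD
  have hdd : d * d₂ = d₂ * d := by
    have hmem1 : d₂ * d * d₂⁻¹ ∈ ⁅A, C⁆ := by
      have : d₂ * d * d₂⁻¹ ∈ Cfsg.conjBy ⁅A, C⁆ d₂ := by
        rw [mem_conjBy]
        have e : d₂⁻¹ * (d₂ * d * d₂⁻¹) * d₂ = d := by group
        rw [e]; exact hd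
      rwa [← heq] at this
    have hmem2 : ⁅d₂, d⁆ ∈ ⁅A, C⁆ := by
      rw [commutatorElement_def]
      exact Subgroup.mul_mem _ hmem1 (Subgroup.inv_mem _ hd)
    have hmem3 : ⁅d₂, d⁆ ∈ A := by
      rw [← hDD₂, Subgroup.commutator_comm]
      exact Subgroup.commutator_mem_commutator hd₂ hd
    have : ⁅d₂, d⁆ ∈ ⁅A, C⁆ ⊓ A := Subgroup.mem_inf.2 ⟨hmem2, hmem3⟩
    rw [hinf, Subgroup.mem_bot, commutatorElement_eq_one_iff_mul_comm] at this
    exact this.symm
  exact hd₂1 (RootComm.eq_one_of_commute hS.1 hD hD' hpD hccD hd hd1 hd₂ hdd)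

/-- second half. -/
theorem part2 (hS : Cfsg.IsRootSubgroupClass S)
    (hdn : Cfsg.IsDegenerateRootSet S ∨ Cfsg.IsNondegenerateRootSet S)
    {A C : Subgroup G} (hA : A ∈ S) (hC : C ∈ S)
    (hsub : Cfsg.rankOnePartners S A ⊆ Cfsg.rankOnePartners S C) :
    ⁅A, C⁆ = ⊥ ∧ Cfsg.rankOnePartners S A = Cfsg.rankOnePartners S C := by
  have hcom : ⁅A, C⁆ = ⊥ := by
    rcases hS.1.pair A hA C hC with h | h | h
    · exact h
    · exact absurd rfl (hsub ⟨hC, h⟩).2.ne
    · rcases hdn with hd | hn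
      · exact absurd h (hd A hA C hC)
      · exact (not_commCase hS hn hA hC hsub h).elim
  refine ⟨hcom, ?_⟩
  by_cases hro : ∃ X ∈ S, ∃ Y ∈ S, Cfsg.IsRankOnePair X Y
  · obtain ⟨T, hT, hAT⟩ := RootConn.exists_partner hS hro hA
    have hCT := (hsub ⟨hT, hAT⟩).2
    have key := RootOrder.trick
      (R := fun X Y => X ∈ S ∧ Y ∈ S ∧
        Cfsg.rankOnePartners S X ⊆ Cfsg.rankOnePartners S Y)
      (fun X Y Z h1 h2 => ⟨h1.1, h2.2.1, h1.2.2.trans h2.2.2⟩)
      (fun X Y g h => ⟨hS.1.conj_mem X h.1 g, hS.1.conj_mem Y h.2.1 g,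
        partners_sub_conj hS.1 g h.2.2⟩)
      (by
        intro X Y h hp
        exact absurd rfl (h.2.2 ⟨h.2.1, hp⟩).2.ne)
      (fun a ha c hc => RankOne.commute_of_commutator_eq_bot hcom ha hc) hAT hCT ⟨hA, hC, hsub⟩
    exact Set.Subset.antisymm hsub key.2.2
  · apply Set.Subset.antisymm hsub
    intro E hE
    exact absurd ⟨C, hC, E, hE.1, hE.2⟩ hro

/-- Let S be a class of abstract root subgroups of G that is either degenerate or non-degenerate (so either the commutator case never occurs, or all three cases occur), and A ≠ C members of S. If every member of S commuting with A commutes with C, then A and C have the same commuting members of S; and if every rank one partner of A is a rank one partner of C, then A and C commute and have the same rank one partners. -/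
theorem result {G : Type*} [Group G] {S : Set (Subgroup G)} (hS : Cfsg.IsRootSubgroupClass S)
    (hdn : Cfsg.IsDegenerateRootSet S ∨ Cfsg.IsNondegenerateRootSet S)
    {A C : Subgroup G} (hA : A ∈ S) (hC : C ∈ S) (hAC : A ≠ C) :
    (Cfsg.centralizingMembers S A ⊆ Cfsg.centralizingMembers S C →
      Cfsg.centralizingMembers S A = Cfsg.centralizingMembers S C) ∧
    (Cfsg.rankOnePartners S A ⊆ Cfsg.rankOnePartners S C →
      ⁅A, C⁆ = ⊥ ∧ Cfsg.rankOnePartners S A = Cfsg.rankOnePartners S C) :=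
  ⟨part1 hS hdn hA hC, part2 hS hdn hA hC⟩

end Cfsg.Agent.S5037
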