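import Mathlib
import Cfsg.Statements.S5041
import Cfsg.Agent.Lib.Helper25.RootConn

set_option autoImplicit false
open Cfsg

namespace Cfsg.Agent.S5041

open Cfsg.Agent.Helper25 Cfsg.Agent.Helper25.RootConn

/-- the subgroup of elements preserving the `E(S)`-component of `A`. -/
def stabSub {G : Type*} [Group G] (S : Set (Subgroup G)) (A : Subgroup G)
    (hconj : ∀ B ∈ S, ∀ g : G, Cfsg.conjBy B g ∈ S) : Subgroup G where
  carrier := {g | ∀ B ∈ S, Relation.ReflTransGen (Cfsg.EAdj S S) A B →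
    (Relation.ReflTransGen (Cfsg.EAdj S S) A (Cfsg.conjBy B g) ∧
      Relation.ReflTransGen (Cfsg.EAdj S S) A (Cfsg.conjBy B g⁻¹))}
  one_mem' := by
    intro B _ hAB
    simp only [inv_one, conjBy_one]
    exact ⟨hAB, hAB⟩
  mul_mem' := by
    intro g k hg hk B hB hAB
    constructor
    · rw [← conjBy_conjBy]
      exact (hg _ (hconj B hB k) (hk B hB hAB).1).1
    · rw [mul_inv_rev, ← conjBy_conjBy]
      exact (hk _ (hconj B hB g⁻¹) (hg B hB hAB).2).2
  inv_mem' := by
    intro g hg B hB hAB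
    rw [inv_inv]
    exact ⟨(hg B hB hAB).2, (hg B hB hAB).1⟩

/-- Let S be a non-degenerate class of abstract root subgroups of G. Then the graph on S joining A to its line partners, and the commuting graph on S, are both connected. -/
theorem result {G : Type*} [Group G] {S : Set (Subgroup G)} (hS : Cfsg.IsRootSubgroupClass S) (hnd : Cfsg.IsNondegenerateRootSet S) :
    Cfsg.IsConnectedFamily (Cfsg.EAdj S S) S ∧ Cfsg.IsConnectedFamily (Cfsg.DAdj S) S := by
  have hE : Cfsg.IsConnectedFamily (Cfsg.EAdj S S) S := by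
    intro A hA B hB
    have hle : (⨆ C ∈ S, C) ≤ stabSub S A hS.1.conj_mem := by
      refine iSup₂_le ?_
      intro C hC g hg B' hB' hAB'
      exact ⟨reach_conj_of_mem hS hnd hA hB' hC hg hAB',
        reach_conj_of_mem hS hnd hA hB' hC (C.inv_mem hg) hAB'⟩
    rw [hS.1.generates] at hle
    obtain ⟨g, rfl⟩ := hS.2.2 A hA B hB
    exact ((hle (Subgroup.mem_top g)) A hA Relation.ReflTransGen.refl).1
  refine ⟨hE, ?_⟩
  intro A hA B hB
  have hmono : ∀ X Y : Subgroup G, Cfsg.EAdj S S X Y → Cfsg.DAdj S X Y := by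
    intro X Y hXY
    exact ⟨hXY.1, hXY.2.1, hXY.2.2.1.2.1.symm, hXY.2.2.1.2.2⟩
  exact Relation.ReflTransGen.mono hmono A B (hE A hA B hB)

end Cfsg.Agent.S5041
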