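import Mathlib
import Cfsg.Statements.S5042
import Cfsg.Agent.Lib.Helper25.RootLine5
import Cfsg.Agent.Lib.Helper25.RootConn
import Cfsg.Agent.Lib.Helper25.RootTriple4
import Cfsg.Agent.S5041

set_option autoImplicit false
open Cfsg

namespace Cfsg.Agent.S5042

open Cfsg.Agent.Helper25 Cfsg.Agent.Helper25.RootLine

/-- every point of a line through `A` is conjugate to `A` under any subgroup `R` containing
`A`, the line partners of `A` and a rank one partner `B` of `A`. -/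
theorem points_conj {G : Type*} [Group G] {S : Set (Subgroup G)} (hS : Cfsg.IsRootSubgroupSet S)
    (hpart : ∀ A ∈ S, ∃ D ∈ S, Cfsg.IsRankOnePair A D) {A B : Subgroup G} (hA : A ∈ S)
    (hB : B ∈ S) (hp : Cfsg.IsRankOnePair A B) {R : Subgroup G} (hAR : A ≤ R) (hBR : B ≤ R)
    (hΛR : ∀ C ∈ Cfsg.linePartners S A, C ≤ R) {C : Subgroup G} (hC : C ∈ Cfsg.linePartners S A) :
    ∀ M ∈ Cfsg.membersIn S (A ⊔ C), ∃ r ∈ R, M = Cfsg.conjBy A r := by
  have hL : Line S (A ⊔ C) := line_of_linePartner hS hA hC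
  have hA' : A ∈ Cfsg.membersIn S (A ⊔ C) := ⟨hA, le_sup_left⟩
  have hC' : C ∈ Cfsg.membersIn S (A ⊔ C) := ⟨hC.1.1, le_sup_right⟩
  obtain ⟨D, hD, hDA, hsup, hF, hFD, F, hFS, hFeq, hFN, hFfix, htr⟩ :=
    hL.point_lemma' hS hpart hA' hB hp ⟨C, hC', rfl⟩ ⟨C, hC', hC.1.2.1⟩
  have hNR : A ⊔ C ≤ R := sup_le hAR (hΛR C hC)
  have hFR : F ≤ R := by
    rw [hFeq]
    exact RootTriple.commutator_le_of_le hBR (hD.2.trans hNR)
  have hDΛ : D ∈ Cfsg.linePartners S A :=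
    ⟨⟨hD.1, hDA, hL.comm_bot hA' hD⟩, by rw [hsup]; exact hL.part⟩
  obtain ⟨C₂, hC₂, hDC₂⟩ := exists_second hS hpart hA hDΛ
  have hcc : Cfsg.RootCommutatorCase S D C₂ :=
    RootComm.commCase_of_comm_mem hS hD.1 hC₂.1.1 (by rw [hDC₂]; exact hA)
  obtain ⟨D', hD', hpD⟩ := hpart D hD.1
  have hmem := Cfsg.Agent.S5029.membersIn_eq hS hD.1 hD' hpD hcc
  rw [hDC₂, sup_comm, hsup] at hmem
  obtain ⟨T, hT, hTA, hTD⟩ := hL.exists_third hS hA' hD hDA
  obtain ⟨f, hf, hTf⟩ := htr T hT hTD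
  have hT' := hT
  rw [hmem] at hT'
  rcases hT' with ⟨c₂, hc₂, hTc⟩ | hTA'
  · intro M hM
    by_cases hMD : M = D
    · refine ⟨c₂⁻¹ * f, R.mul_mem (R.inv_mem (hΛR C₂ hC₂ hc₂)) (hFR hf), ?_⟩
      rw [hMD, ← conjBy_conjBy, ← hTf]
      have hTc' : Cfsg.conjBy D c₂ = T := hTc
      exact conjBy_eq_iff.1 hTc'
    · obtain ⟨f', hf', hMf⟩ := htr M hM hMD
      exact ⟨f', hFR hf', hMf⟩
  · exact absurd hTA' hTA

/-- Let S be a non-degenerate class of abstract root subgroups of G, A ∈ S and B a rank one partner of A. Then G is generated by the line partners of A together with B. -/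
theorem result {G : Type*} [Group G] {S : Set (Subgroup G)} (hS : Cfsg.IsRootSubgroupClass S) (hnd : Cfsg.IsNondegenerateRootSet S)
    {A B : Subgroup G} (hA : A ∈ S) (hB : B ∈ Cfsg.rankOnePartners S A) :
    (⨆ C ∈ Cfsg.linePartners S A, C) ⊔ B = ⊤ := by
  have hpart : ∀ A ∈ S, ∃ D ∈ S, Cfsg.IsRankOnePair A D :=
    fun A hA => RootConn.exists_partner hS hnd.2.1 hA
  obtain ⟨R, hR⟩ : ∃ R, R = (⨆ C ∈ Cfsg.linePartners S A, C) ⊔ B := ⟨_, rfl⟩
  rw [← hR]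
  have hΛR : ∀ C ∈ Cfsg.linePartners S A, C ≤ R := by
    intro C hC
    rw [hR]
    exact le_sup_of_le_left (le_biSup (fun C => C) hC)
  have hBR : B ≤ R := by rw [hR]; exact le_sup_right
  have hAR : A ≤ R := by
    obtain ⟨C, hC, _⟩ := (Cfsg.Agent.S5034.result hS hnd hA hB).1
    obtain ⟨C₂, hC₂, hCC₂⟩ := exists_second hS.1 hpart hA hC
    rw [← hCC₂]
    exact RootTriple.commutator_le_of_le (hΛR C hC) (hΛR C₂ hC₂)
  -- members E-joined to A are R-conjugates of A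
  have hreach : ∀ M : Subgroup G, Relation.ReflTransGen (Cfsg.EAdj S S) A M →
      ∃ r ∈ R, M = Cfsg.conjBy A r := by
    intro M hM
    induction hM with
    | refl => exact ⟨1, R.one_mem, (conjBy_one A).symm⟩
    | tail _ hXY ih =>
      obtain ⟨r, hr, rfl⟩ := ih
      have h1 := linePartners_conj hS.1 hXY.2.2 r⁻¹
      rw [conjBy_cancel_inv] at h1
      have hmem : Cfsg.conjBy _ r⁻¹ ∈ Cfsg.membersIn S (A ⊔ Cfsg.conjBy _ r⁻¹) :=
        ⟨h1.1.1, le_sup_right⟩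
      obtain ⟨r', hr', hE⟩ := points_conj hS.1 hpart hA hB.1 hB.2 hAR hBR hΛR h1 _ hmem
      refine ⟨r * r', R.mul_mem hr hr', ?_⟩
      rw [← conjBy_conjBy, ← hE, conjBy_inv_cancel]
  have hall : ∀ M ∈ S, M ≤ R := by
    intro M hM
    obtain ⟨r, hr, rfl⟩ := hreach M ((Cfsg.Agent.S5041.result hS hnd).1 A hA M hM)
    intro x hx
    rw [mem_conjBy] at hx
    have : x = r * (r⁻¹ * x * r) * r⁻¹ := by group
    rw [this]
    exact R.mul_mem (R.mul_mem hr (hAR hx)) (R.inv_mem hr)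
  rw [eq_top_iff, ← hS.1.generates]
  exact iSup₂_le hall

end Cfsg.Agent.S5042
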