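import Mathlib
import Cfsg.Statements.S5040
import Cfsg.Agent.Lib.Helper25.RootLine5
import Cfsg.Agent.Lib.Helper25.RootConn
import Cfsg.Agent.Lib.Helper25.RootTriple6
import Cfsg.Agent.Lib.Helper25.RankOne4
import Cfsg.Agent.Lib.Helper25.WeakTI
import Cfsg.Agent.S5042

set_option autoImplicit false
open Cfsg

namespace Cfsg.Agent.S5040

open Cfsg.Agent.Helper25 Cfsg.Agent.Helper25.RootLine

/-- a weak TI-subset of a non-degenerate class contains no rank one pair. -/
theorem no_rankOne {G : Type*} [Group G] {S : Set (Subgroup G)} (hS : Cfsg.IsRootSubgroupClass S)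
    (hnd : Cfsg.IsNondegenerateRootSet S) {Δ : Set (Subgroup G)} (hΔ : Cfsg.IsWeakTISubset S Δ)
    {A B : Subgroup G} (hA : A ∈ Δ) (hB : B ∈ Δ) (hp : Cfsg.IsRankOnePair A B) : False := by
  have hAS : A ∈ S := hΔ.1 hA
  have hBS : B ∈ S := hΔ.1 hB
  have hgen := Cfsg.Agent.S5042.result hS hnd hAS (show B ∈ Cfsg.rankOnePartners S A from ⟨hBS, hp⟩)
  have hle : (⨆ C ∈ Cfsg.linePartners S A, C) ⊔ B ≤ WeakTI.stab Δ := by
    apply sup_le
    · apply iSup₂_le
      intro C hC
      apply WeakTI.le_stab hΔ hC.1.1 hA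
      intro c hc a ha
      exact (RankOne.commute_of_commutator_eq_bot hC.1.2.2 ha hc).symm
    · apply WeakTI.le_stab hΔ hBS hB
      intro b hb b' hb'
      have := (hS.1.commutative B hBS).is_comm.comm ⟨b, hb⟩ ⟨b', hb'⟩
      exact congrArg Subtype.val this
  rw [hgen] at hle
  apply hΔ.2.2.1
  apply Set.Subset.antisymm hΔ.1
  intro E hE
  obtain ⟨g, rfl⟩ := hS.2.2 A hAS E hE
  exact WeakTI.conjBy_mem_of_mem_stab (hle (Subgroup.mem_top g)) hA

/-- Let S be a non-degenerate class of abstract root subgroups of G and Δ a weak TI-subset of S. Then the members of Δ commute with one another elementwise. -/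
theorem result {G : Type*} [Group G] {S : Set (Subgroup G)} (hS : Cfsg.IsRootSubgroupClass S) (hnd : Cfsg.IsNondegenerateRootSet S)
    {Δ : Set (Subgroup G)} (hΔ : Cfsg.IsWeakTISubset S Δ) : Cfsg.IsAbelianFamily Δ := by
  have hpart : ∀ A ∈ S, ∃ D ∈ S, Cfsg.IsRankOnePair A D :=
    fun A hA => RootConn.exists_partner hS hnd.2.1 hA
  intro A hA B hB
  have hAS : A ∈ S := hΔ.1 hA
  have hBS : B ∈ S := hΔ.1 hB
  rcases hS.1.pair A hAS B hBS with h0 | hp | hcc
  · intro a ha b hb
    exact RankOne.commute_of_commutator_eq_bot h0 ha hb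
  · exact (no_rankOne hS hnd hΔ hA hB hp).elim
  · exfalso
    have hCS : ⁅A, B⁆ ∈ S := hcc.1
    have hAC : A ∈ Cfsg.linePartners S ⁅A, B⁆ :=
      (Cfsg.Agent.S5029.result hS.1 (not_isolated_of_hpart hpart A hAS) hAS hBS hCS).2.2.1
    have hCA : ⁅A, B⁆ ∈ Cfsg.linePartners S A := RootConn.linePartners_symm hCS hAC
    obtain ⟨E, hE, hCE⟩ := exists_second hS.1 hpart hAS hCA
    have hES : E ∈ S := hE.1.1
    -- `(B, E)` is a rank one pair
    have hpBE : Cfsg.IsRankOnePair B E := by
      rcases hS.1.pair B hBS E hES with h0 | hp | hcc'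
      · exfalso
        -- `B` commutes with `⁅A,B⁆` and `E`, hence with `A`
        have h1 : ∀ z ∈ ⁅⁅A, B⁆, E⁆, ∀ b ∈ B, z * b = b * z := by
          intro z hz b hb
          refine RootTriple.commutator_commute (P := ⁅A, B⁆) (Q := E) ?_ ?_ z hz
          · intro p hp
            exact hcc.2.1 p hp b (Subgroup.mem_sup_right hb)
          · intro q hq
            exact (RankOne.commute_of_commutator_eq_bot h0 hb hq).symm
        rw [hCE] at h1
        have : ⁅A, B⁆ = ⊥ := by
          rw [Subgroup.commutator_eq_bot_iff_le_centralizer]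
          intro a ha
          rw [Subgroup.mem_centralizer_iff]
          intro b hb
          exact (h1 a ha b hb).symm
        exact hS.1.ne_bot _ hCS this
      · exact hp
      · exfalso
        have hcfg : RootTriple.Config S A B E :=
          ⟨hS.1, hAS, hBS, hES, by rw [Subgroup.commutator_comm]; exact hCS, hcc'.1, hE.1.2.2⟩
        have hAT : A ≤ RootTriple.Tsub hcfg := by
          have := RootTriple.Z2_le_T hcfg
          rwa [Subgroup.commutator_comm B A, Subgroup.commutator_comm E, hCE] at this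
        have hbot : ⁅A, ⁅B, E⁆⁆ = ⊥ := by
          rw [Subgroup.commutator_eq_bot_iff_le_centralizer]
          intro a ha
          rw [Subgroup.mem_centralizer_iff]
          intro f hf
          exact (RootTriple.comm_T_F hcfg (hAT ha) hf).symm
        have := RootTriple.rot hcfg hbot
        rw [Subgroup.commutator_comm B A, Subgroup.commutator_comm E, hCE] at this
        exact hS.1.ne_bot A hAS this
    -- `E` stabilizes `Δ`
    have hEle : E ≤ WeakTI.stab Δ := by
      apply WeakTI.le_stab hΔ hES hA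
      intro e he a ha
      exact (RankOne.commute_of_commutator_eq_bot hE.1.2.2 ha he).symm
    obtain ⟨e, he, he1⟩ := RankOne.exists_ne_one_right hpBE
    have hB' : Cfsg.conjBy B e ∈ Δ := WeakTI.conjBy_mem_of_mem_stab (hEle he) hB
    have hne : B ≠ Cfsg.conjBy B e := by
      intro h
      exact he1 (RankOne.eq_one_of_normalizes (Cfsg.RankOnePair_symm hpBE) he h.symm)
    have hp' : Cfsg.IsRankOnePair B (Cfsg.conjBy B e) := by
      apply RankOne.pair_of_mem hpBE ⟨1, Subgroup.one_mem _, (conjBy_one B).symm⟩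
        ⟨e, Subgroup.mem_sup_right he, rfl⟩ hne
    exact no_rankOne hS hnd hΔ hB hB' hp'

end Cfsg.Agent.S5040
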