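import Mathlib
import Cfsg.Statements.S5043
import Cfsg.Agent.Lib.Helper25.RootSL5
import Cfsg.Agent.Lib.Helper25.RootOrder
import Cfsg.Agent.Lib.Helper25.RootComm2
import Cfsg.Agent.S5032

set_option autoImplicit false
open Matrix
open Cfsg

namespace Cfsg.Agent.S5043

open Cfsg.Agent.Helper25 Cfsg.Agent.Helper25.RootSL
open scoped commutatorElement

theorem ne01 (n : ℕ) : (0 : Fin (n + 3)) ≠ 1 := by simp

theorem ne02 (n : ℕ) : (0 : Fin (n + 3)) ≠ 2 := by
  intro h
  have := congrArg Fin.val h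
  rw [Fin.val_zero, Fin.val_two] at this
  omega

theorem ne12 (n : ℕ) : (1 : Fin (n + 3)) ≠ 2 := by
  intro h
  have := congrArg Fin.val h
  rw [Fin.val_one, Fin.val_two] at this
  omega

theorem closure_eq (k : Type*) [Field k] (n : ℕ) :
    Subgroup.closure {t : Matrix.SpecialLinearGroup (Fin (n + 3)) k |
      ∃ c : k, (t : Matrix (Fin (n + 3)) (Fin (n + 3)) k) = Matrix.transvection 0 1 c} =
    R (Pi.single 0 (1 : k)) (Pi.single 1 1) := by
  unfold R
  congr 1
  ext t
  constructor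
  · rintro ⟨c, hc⟩
    exact ⟨c, by rw [hc, transvection_eq]⟩
  · rintro ⟨c, hc⟩
    exact ⟨c, by rw [hc, transvection_eq]⟩

theorem set_eq (k : Type*) [Field k] (n : ℕ) :
    {A : Subgroup (Matrix.SpecialLinearGroup (Fin (n + 3)) k) |
        ∃ g : Matrix.SpecialLinearGroup (Fin (n + 3)) k,
          A = Cfsg.conjBy (Subgroup.closure {t : Matrix.SpecialLinearGroup (Fin (n + 3)) k |
            ∃ c : k, (t : Matrix (Fin (n + 3)) (Fin (n + 3)) k) = Matrix.transvection 0 1 c}) g} =
    flagGroups (Fin (n + 3)) k := by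
  rw [closure_eq]
  ext A
  constructor
  · rintro ⟨g, rfl⟩
    exact flag_conj_mem (flag_mem (single_ne_zero' 0) (single_ne_zero' 1)
      (single_dot_ne (ne01 n))) g
  · intro hA
    exact flag_trans (ne01 n) hA

theorem conjClass (k : Type*) [Field k] (n : ℕ) :
    Cfsg.IsConjClassOfSubgroups (flagGroups (Fin (n + 3)) k) := by
  refine ⟨⟨_, flag_mem (single_ne_zero' 0) (single_ne_zero' 1) (single_dot_ne (ne01 n))⟩, ?_⟩
  intro A hA B hB
  obtain ⟨g, rfl⟩ := flag_trans (ne01 n) hA
  obtain ⟨h, rfl⟩ := flag_trans (ne01 n) hB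
  refine ⟨h * g⁻¹, ?_⟩
  rw [conjBy_conjBy, inv_mul_cancel_right]

theorem rankOne01 (k : Type*) [Field k] (n : ℕ) :
    Cfsg.IsRankOnePair (R (Pi.single (0 : Fin (n + 3)) (1 : k)) (Pi.single 1 1))
      (R (Pi.single (1 : Fin (n + 3)) (1 : k)) (Pi.single 0 1)) := by
  apply rankOne_of (single_dot_ne (ne01 n)) (single_dot_ne (ne01 n).symm)
  · rw [single_dot_self]; exact one_ne_zero
  · rw [single_dot_self]; exact one_ne_zero

theorem nondeg (k : Type*) [Field k] (n : ℕ) :
    Cfsg.IsNondegenerateRootSet (flagGroups (Fin (n + 3)) k) := by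
  have m01 : R (Pi.single (0 : Fin (n + 3)) (1 : k)) (Pi.single 1 1) ∈ flagGroups (Fin (n + 3)) k :=
    flag_mem (single_ne_zero' 0) (single_ne_zero' 1) (single_dot_ne (ne01 n))
  have m02 : R (Pi.single (0 : Fin (n + 3)) (1 : k)) (Pi.single 2 1) ∈ flagGroups (Fin (n + 3)) k :=
    flag_mem (single_ne_zero' 0) (single_ne_zero' 2) (single_dot_ne (ne02 n))
  have m10 : R (Pi.single (1 : Fin (n + 3)) (1 : k)) (Pi.single 0 1) ∈ flagGroups (Fin (n + 3)) k :=
    flag_mem (single_ne_zero' 1) (single_ne_zero' 0) (single_dot_ne (ne01 n).symm)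
  have m20 : R (Pi.single (2 : Fin (n + 3)) (1 : k)) (Pi.single 0 1) ∈ flagGroups (Fin (n + 3)) k :=
    flag_mem (single_ne_zero' 2) (single_ne_zero' 0) (single_dot_ne (ne02 n).symm)
  refine ⟨⟨_, m01, _, m02, ?_, ?_⟩, ⟨_, m01, _, m10, rankOne01 k n⟩, ⟨_, m01, _, m20, ?_⟩⟩
  · intro h
    have h1 : T (Pi.single (0 : Fin (n + 3)) (1 : k)) (Pi.single 1 1) (single_dot_ne (ne01 n)) 1 ∈
        R (Pi.single (0 : Fin (n + 3)) (1 : k)) (Pi.single 2 1) := by
      rw [← h]; exact T_mem _ _ _ _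
    obtain ⟨c, hc⟩ := (mem_R (single_dot_ne (ne02 n))).1 h1
    have h2 := congrFun (congrFun hc 0) 1
    rw [T_val] at h2
    unfold tmat at h2
    simp [vecMulVec_apply, Pi.single_apply, (ne12 n)] at h2
  · exact comm_eq_bot (single_dot_ne (ne01 n)) (single_dot_ne (ne02 n)) (single_dot_ne (ne01 n))
      (single_dot_ne (ne02 n))
  · refine commCase (single_ne_zero' 0) (single_ne_zero' 1) (single_ne_zero' 2) (single_ne_zero' 0)
      (single_dot_ne (ne01 n)) (single_dot_ne (ne02 n).symm) (single_dot_ne (ne12 n).symm) ?_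
      (flag_mem (single_ne_zero' 2) (single_ne_zero' 1) (single_dot_ne (ne12 n).symm))
    rw [single_dot_self]; exact one_ne_zero

/-- Let k be a field and n a natural number. In SL_{n+3}(k) (so in every dimension at least 3) the conjugates of the root subgroup of elementary transvections 1 + c E₁₂ (c ∈ k) — that is, the groups of transvections attached to an incident point–hyperplane pair — form a non-degenerate class of abstract k-root subgroups of SL_{n+3}(k) whose graph of rank one pairs is connected. -/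
theorem result (k : Type*) [Field k] (n : ℕ) :
    Cfsg.IsRootSubgroupClass {A : Subgroup (Matrix.SpecialLinearGroup (Fin (n + 3)) k) |
        ∃ g : Matrix.SpecialLinearGroup (Fin (n + 3)) k,
          A = Cfsg.conjBy (Subgroup.closure {t : Matrix.SpecialLinearGroup (Fin (n + 3)) k |
            ∃ c : k, (t : Matrix (Fin (n + 3)) (Fin (n + 3)) k) = Matrix.transvection 0 1 c}) g} ∧
    Cfsg.IsNondegenerateRootSet {A : Subgroup (Matrix.SpecialLinearGroup (Fin (n + 3)) k) |
        ∃ g : Matrix.SpecialLinearGroup (Fin (n + 3)) k,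
          A = Cfsg.conjBy (Subgroup.closure {t : Matrix.SpecialLinearGroup (Fin (n + 3)) k |
            ∃ c : k, (t : Matrix (Fin (n + 3)) (Fin (n + 3)) k) = Matrix.transvection 0 1 c}) g} ∧
    Cfsg.IsKRootSubgroupSet k {A : Subgroup (Matrix.SpecialLinearGroup (Fin (n + 3)) k) |
        ∃ g : Matrix.SpecialLinearGroup (Fin (n + 3)) k,
          A = Cfsg.conjBy (Subgroup.closure {t : Matrix.SpecialLinearGroup (Fin (n + 3)) k |
            ∃ c : k, (t : Matrix (Fin (n + 3)) (Fin (n + 3)) k) = Matrix.transvection 0 1 c}) g} ∧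
    Cfsg.IsConnectedFamily (Cfsg.FAdj {A : Subgroup (Matrix.SpecialLinearGroup (Fin (n + 3)) k) |
        ∃ g : Matrix.SpecialLinearGroup (Fin (n + 3)) k,
          A = Cfsg.conjBy (Subgroup.closure {t : Matrix.SpecialLinearGroup (Fin (n + 3)) k |
            ∃ c : k, (t : Matrix (Fin (n + 3)) (Fin (n + 3)) k) = Matrix.transvection 0 1 c}) g})
      {A : Subgroup (Matrix.SpecialLinearGroup (Fin (n + 3)) k) |
        ∃ g : Matrix.SpecialLinearGroup (Fin (n + 3)) k,
          A = Cfsg.conjBy (Subgroup.closure {t : Matrix.SpecialLinearGroup (Fin (n + 3)) k |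
            ∃ c : k, (t : Matrix (Fin (n + 3)) (Fin (n + 3)) k) = Matrix.transvection 0 1 c}) g} := by
  rw [set_eq]
  have hS : Cfsg.IsRootSubgroupSet (flagGroups (Fin (n + 3)) k) := flag_rootSet
  have hnd := nondeg k n
  have hcc := conjClass k n
  refine ⟨⟨hS, hcc⟩, hnd, ⟨hS, ?_⟩, ?_⟩
  · rintro A ⟨v, f, hv, hf, hfv, rfl⟩ B ⟨w, h, hw, hh, hhw, rfl⟩ hp
    rcases flag_cases hv hf hw hh hfv hhw with h1 | h1 | h1
    · exfalso
      apply RootOrder.not_commute_of_rankOne hp
      intro a ha b hb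
      have : ⁅a, b⁆ ∈ ⁅R v f, R w h⁆ := Subgroup.commutator_mem_commutator ha hb
      rw [h1, Subgroup.mem_bot, commutatorElement_eq_one_iff_mul_comm] at this
      exact this
    · exact h1.2
    · exact absurd h1.1 (RootComm.comm_not_mem_of_rankOne hS (flag_mem hv hf hfv)
        (flag_mem hw hh hhw) hp)
  · obtain ⟨⟨A, hA, B, hB, hAB, _⟩, _, _⟩ := hnd
    refine (Cfsg.Agent.S5032.result hS ⟨A, hA, B, hB, hAB⟩).2 ⟨hcc, _,
      flag_mem (single_ne_zero' 0) (single_ne_zero' 1) (single_dot_ne (ne01 n)), ?_⟩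
    exact Cfsg.Agent.S5032.not_isolated_of_partner
      (flag_mem (single_ne_zero' 0) (single_ne_zero' 1) (single_dot_ne (ne01 n)))
      (flag_mem (single_ne_zero' 1) (single_ne_zero' 0) (single_dot_ne (ne01 n).symm))
      (rankOne01 k n)

end Cfsg.Agent.S5043
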