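import Mathlib
import Cfsg.Statements.S5048
import Cfsg.Agent.Lib.Helper25.RootInv5

set_option autoImplicit false
open Cfsg

namespace Cfsg.Agent.S5048

open Cfsg.Agent.Helper25 Cfsg.Agent.Helper25.RootInv

theorem not_solvable {G : Type*} [Group G] [Finite G] {D : Set G}
    (hD : Cfsg.IsRootInvolutionSet D)
    (hX : ∀ d ∈ D, ∃ e, e ∈ Cfsg.productPartners D d)
    (hclass : ∀ a ∈ D, ∀ b ∈ D, ∃ g : G, b = g * a * g⁻¹)
    (hne : Cfsg.twoZCore G ≠ ⊤) {d₀ : G} (hd₀ : d₀ ∈ D) : ¬ Group.IsSolvable G := by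
  intro hsol
  haveI := hsol
  haveI hsimple := simple_quot hD hX hclass hne
  have hcomm : ∀ a b : G ⧸ Cfsg.twoZCore G, a * b = b * a :=
    (IsSimpleGroup.comm_iff_isSolvable).2 inferInstance
  apply hne
  have hd₀Z : d₀ ∈ Cfsg.twoZCore G := by
    rw [mem_twoZCore_iff]
    intro g
    have hg : g ∈ Subgroup.closure D := by rw [hD.generates]; exact Subgroup.mem_top g
    have hle : Subgroup.closure D ≤
        (Subgroup.centralizer {(QuotientGroup.mk' (Cfsg.pCore 2 G)) d₀}).comap
          (QuotientGroup.mk' (Cfsg.pCore 2 G)) := by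
      rw [Subgroup.closure_le]
      intro d hd
      obtain ⟨x, rfl⟩ := hclass d₀ hd₀ d hd
      have h1 : (QuotientGroup.mk' (Cfsg.twoZCore G)) (d₀⁻¹ * (x * d₀ * x⁻¹)) = 1 := by
        simp only [map_mul, map_inv]
        rw [hcomm ((QuotientGroup.mk' (Cfsg.twoZCore G)) x)]
        group
      rw [QuotientGroup.mk'_apply, QuotientGroup.eq_one_iff] at h1
      have h2 := mem_twoZCore_iff.1 h1 d₀
      show (QuotientGroup.mk' (Cfsg.pCore 2 G)) (x * d₀ * x⁻¹) ∈ Subgroup.centralizer _
      rw [Subgroup.mem_centralizer_singleton_iff]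
      rw [map_mul _ d₀⁻¹, map_inv, mul_inv_cancel_left] at h2
      calc (QuotientGroup.mk' (Cfsg.pCore 2 G)) (x * d₀ * x⁻¹) *
            (QuotientGroup.mk' (Cfsg.pCore 2 G)) d₀
          = (QuotientGroup.mk' (Cfsg.pCore 2 G)) d₀ *
            (((QuotientGroup.mk' (Cfsg.pCore 2 G)) d₀)⁻¹ *
              (QuotientGroup.mk' (Cfsg.pCore 2 G)) (x * d₀ * x⁻¹) *
              (QuotientGroup.mk' (Cfsg.pCore 2 G)) d₀) := by group
        _ = (QuotientGroup.mk' (Cfsg.pCore 2 G)) d₀ *
            (QuotientGroup.mk' (Cfsg.pCore 2 G)) (x * d₀ * x⁻¹) := by rw [← h2]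
    have := hle hg
    rw [Subgroup.mem_comap, Subgroup.mem_centralizer_singleton_iff] at this
    exact this
  rw [eq_top_iff, ← hD.generates, Subgroup.closure_le]
  intro d hd
  obtain ⟨x, rfl⟩ := hclass d₀ hd₀ d hd
  exact (Cfsg.twoZCore_normal G).conj_mem d₀ hd₀Z x

/-- Let G be a finite group generated by a set D of root involutions whose odd-order-product graph is connected, with some product of two different commuting members of D again in D. Then the largest solvable normal subgroup of G is the preimage of the centre of G/O₂(G), and the quotient of G by it is a simple group. -/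
theorem result {G : Type*} [Group G] [Finite G] {D : Set G} (hD : Cfsg.IsRootInvolutionSet D)
    (hc : Cfsg.IsConnectedSet (Cfsg.OddAdj D) D) (hDD : (D ∩ Cfsg.commutingProducts D).Nonempty) :
    Cfsg.solvableRadical G = Cfsg.twoZCore G ∧ IsSimpleGroup (G ⧸ Cfsg.twoZCore G) := by
  have hDD' := hDD
  obtain ⟨y, hyD, a, ha, b, hb, hab, hab1, rfl⟩ := hDD'
  have hneab : a ≠ b := by
    rintro rfl
    exact hab1 (sq hD ha)
  have hX : ∀ d ∈ D, ∃ e, e ∈ Cfsg.productPartners D d :=
    fun d hd => exists_productPartner hD hc hDD hd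
  have hclass : ∀ a ∈ D, ∀ b ∈ D, ∃ g : G, b = g * a * g⁻¹ :=
    fun a ha b hb => conj_of_reach hD (hc a ha b hb)
  have hne := twoZCore_ne_top hD hc ha hb hneab
  refine ⟨?_, simple_quot hD hX hclass hne⟩
  apply le_antisymm
  · apply sSup_le
    rintro N ⟨hNn, hNs⟩
    by_cases hN : N = ⊤
    · exfalso
      subst hN
      apply not_solvable hD hX hclass hne ha
      haveI := hNs
      exact solvable_of_surjective (f := (⊤ : Subgroup G).subtype)
        (fun g => ⟨⟨g, Subgroup.mem_top g⟩, rfl⟩)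
    · haveI := hNn
      exact le_twoZCore_of_ne_top hD hX hclass hN
  · exact le_sSup ⟨Cfsg.twoZCore_normal G, twoZCore_solvable⟩

end Cfsg.Agent.S5048
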