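import Mathlib
import Cfsg.Statements.S5049
import Cfsg.Agent.Lib.Helper25.StronglyEmbedded

set_option autoImplicit false
open Cfsg

namespace Cfsg.Agent.S5049

open Cfsg.Agent.Helper25
open scoped commutatorElement

variable {G : Type*} [Group G]

theorem pCore_two_normal : (Cfsg.pCore 2 G).Normal :=
  Subgroup.sSup_normal _ fun _ hH => hH.1

theorem eq_one_of_odd_of_mem_pCore {x : G} (hx : x ∈ Cfsg.pCore 2 G) (hodd : Odd (orderOf x)) :
    x = 1 := by
  haveI : Fact (Nat.Prime 2) := ⟨Nat.prime_two⟩
  obtain ⟨k, hk⟩ := (isPGroup_pCore' 2 G) ⟨x, hx⟩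
  have hk' : x ^ 2 ^ k = 1 := by
    have := congrArg Subtype.val hk
    simpa using this
  have hdvd : orderOf x ∣ 2 ^ k := orderOf_dvd_of_pow_eq_one hk'
  have hcop : (orderOf x).Coprime (2 ^ k) := (Nat.coprime_two_right.2 hodd).pow_right k
  exact orderOf_eq_one_iff.1 (Nat.Coprime.eq_one_of_dvd hcop hdvd)

theorem mul_self_of_mem {D : Set G} (hD : Cfsg.IsRootInvolutionSet D) {d : G} (hd : d ∈ D) :
    d * d = 1 := by
  have := pow_orderOf_eq_one d
  rw [hD.orderOf_eq d hd, pow_two] at this
  exact this

theorem inv_eq_of_mem {D : Set G} (hD : Cfsg.IsRootInvolutionSet D) {d : G} (hd : d ∈ D) :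
    d⁻¹ = d := inv_eq_of_mul_eq_one_left (mul_self_of_mem hD hd)

/-- Two odd transpositions whose product is a 2-element of `O₂(G)` commute. -/
theorem commute_of_mul_mem_pCore {D : Set G} (hD : Cfsg.IsOddTranspositionSet D) {d d' : G}
    (hd : d ∈ D) (hd' : d' ∈ D) (hQ : d * d' ∈ Cfsg.pCore 2 G) : d * d' = d' * d := by
  rcases hD.1.pair d hd d' hd' with h | h | h
  · exact h
  · have h1 := eq_one_of_odd_of_mem_pCore hQ h
    have h2 : d' = d⁻¹ := (inv_eq_of_mul_eq_one_right h1).symm
    rw [h2]; group
  · exact absurd h.1 (hD.2 d hd d' hd')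

/-- Let G be a finite group generated by a set D of odd transpositions (root involutions with no product of order 4), Q = O₂(G), and for a ∈ D let Q_a be the commutator subgroup of Q with a. Then every member of D commuting with a centralizes Q_a; and for b ∈ D with ab of odd order greater than 1, the centralizer of ab in Q is the intersection of the centralizers of a and b in Q. -/
theorem result {G : Type*} [Group G] [Finite G] {D : Set G} (hD : Cfsg.IsOddTranspositionSet D) {a : G} (ha : a ∈ D) :
    (∀ e ∈ Cfsg.commutingMembers D a, ∀ q ∈ ⁅Cfsg.pCore 2 G, Subgroup.zpowers a⁆, e * q = q * e) ∧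
    (∀ b ∈ Cfsg.oddPartners D a,
      Cfsg.pCore 2 G ⊓ Subgroup.centralizer {a * b} = Cfsg.pCore 2 G ⊓ Subgroup.centralizer {a} ⊓ Subgroup.centralizer {b}) := by
  have hQn : (Cfsg.pCore 2 G).Normal := pCore_two_normal
  have haa : a * a = 1 := mul_self_of_mem hD.1 ha
  have hainv : a⁻¹ = a := inv_eq_of_mem hD.1 ha
  refine ⟨?_, ?_⟩
  · rintro e ⟨heD, hea⟩
    have hee : e * e = 1 := mul_self_of_mem hD.1 heD
    have heinv : e⁻¹ = e := inv_eq_of_mem hD.1 heD
    suffices hle : ⁅Cfsg.pCore 2 G, Subgroup.zpowers a⁆ ≤ Subgroup.centralizer ({e} : Set G) by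
      intro q hq
      have := hle hq
      rw [Subgroup.mem_centralizer_iff] at this
      exact this e rfl
    rw [Subgroup.commutator_le]
    intro q hq g hg
    -- g = 1 or g = a
    have hg' : g = 1 ∨ g = a := by
      obtain ⟨k, rfl⟩ := Subgroup.mem_zpowers_iff.1 hg
      rcases Int.even_or_odd k with ⟨m, rfl⟩ | ⟨m, rfl⟩
      · left
        rw [← two_mul, zpow_mul, zpow_ofNat, pow_two, haa, one_zpow]
      · right
        rw [zpow_add, zpow_mul, zpow_ofNat, pow_two, haa, one_zpow, one_mul, zpow_one]
    rcases hg' with rfl | rfl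
    · rw [commutatorElement_one_right]; exact Subgroup.one_mem _
    -- y = q a q⁻¹ a⁻¹ = a'' a
    rw [Subgroup.mem_centralizer_iff]
    intro e' he'
    rw [Set.mem_singleton_iff] at he'
    subst he'
    set a'' := q * g * q⁻¹ with ha''
    have ha''D : a'' ∈ D := hD.1.conj_mem g ha q
    have hy : ⁅q, g⁆ = a'' * g := by rw [commutatorElement_def, hainv]
    have hyQ : a'' * g ∈ Cfsg.pCore 2 G := by
      have : a'' * g = q * (g * q⁻¹ * g⁻¹) := by rw [ha'', hainv]; group
      rw [this]
      exact Subgroup.mul_mem _ hq (hQn.conj_mem _ (Subgroup.inv_mem _ hq) g)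
    have hcomm : a'' * g = g * a'' := commute_of_mul_mem_pCore hD ha''D ha hyQ
    have ha''sq : a'' * a'' = 1 := mul_self_of_mem hD.1 ha''D
    rw [hy]
    obtain ⟨y, hydef⟩ : ∃ y, y = a'' * g := ⟨_, rfl⟩
    rw [← hydef] at hyQ ⊢
    have hyy : y * y = 1 := by
      calc y * y = a'' * (g * a'') * g := by rw [hydef]; group
        _ = a'' * (a'' * g) * g := by rw [hcomm]
        _ = (a'' * a'') * (g * g) := by group
        _ = 1 := by rw [ha''sq, haa, one_mul]
    have hyg : y * g = g * y := by
      calc y * g = a'' * g * g := by rw [hydef]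
        _ = g * a'' * g := by rw [hcomm]
        _ = g * y := by rw [hydef]; group
    have ha''y : a'' = y * g := by
      rw [hydef, mul_assoc, haa, mul_one]
    -- (e a'')² = (e y)²
    have hsq : (e' * a'') * (e' * a'') = (e' * y) * (e' * y) := by
      calc (e' * a'') * (e' * a'') = e' * y * (g * e') * (y * g) := by rw [ha''y]; group
        _ = e' * y * (e' * g) * (y * g) := by rw [hea]
        _ = e' * y * e' * (g * y) * g := by group
        _ = e' * y * e' * (y * g) * g := by rw [hyg]
        _ = e' * y * e' * y * (g * g) := by group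
        _ = (e' * y) * (e' * y) := by rw [haa]; group
    have hey2 : (e' * y) * (e' * y) = 1 := by
      rcases hD.1.pair e' heD a'' ha''D with h | h | h
      · rw [← hsq]
        calc (e' * a'') * (e' * a'') = e' * (a'' * e') * a'' := by group
          _ = e' * (e' * a'') * a'' := by rw [h]
          _ = (e' * e') * (a'' * a'') := by group
          _ = 1 := by rw [hee, ha''sq, one_mul]
      · -- z = e a'' has odd order; z² ∈ Q
        have hzQ : (e' * a'') * (e' * a'') ∈ Cfsg.pCore 2 G := by
          rw [hsq]
          have : (e' * y) * (e' * y) = (e' * y * e'⁻¹) * y := by rw [heinv]; group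
          rw [this]
          exact Subgroup.mul_mem _ (hQn.conj_mem _ hyQ e') hyQ
        have hodd2 : Odd (orderOf ((e' * a'') * (e' * a''))) := by
          rw [← pow_two]
          have hd : orderOf ((e' * a'') ^ 2) ∣ orderOf (e' * a'') := orderOf_pow_dvd 2
          exact Odd.of_dvd_nat h hd
        rw [← hsq]
        exact eq_one_of_odd_of_mem_pCore hzQ hodd2
      · exact absurd h.1 (hD.2 e' heD a'' ha''D)
    -- conclude
    calc e' * y = (e' * y) * ((e' * y) * (e' * y))⁻¹ := by rw [hey2]; group
      _ = y⁻¹ * e'⁻¹ := by group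
      _ = y * e' := by rw [heinv, inv_eq_of_mul_eq_one_left hyy]
  · rintro b ⟨hbD, hba, hodd⟩
    have hbb : b * b = 1 := mul_self_of_mem hD.1 hbD
    have hbinv : b⁻¹ = b := inv_eq_of_mem hD.1 hbD
    apply le_antisymm
    · intro q hq0
      rw [Subgroup.mem_inf] at hq0
      obtain ⟨hq, hqc⟩ := hq0
      rw [Subgroup.mem_centralizer_iff] at hqc
      have hqab : a * b * q = q * (a * b) := hqc (a * b) rfl
      set a' := q⁻¹ * a * q with ha'def
      have ha'D : a' ∈ D := by
        have := hD.1.conj_mem a ha q⁻¹
        rwa [inv_inv] at this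
      have hxQ : a * a' ∈ Cfsg.pCore 2 G := by
        have : a * a' = (a * q⁻¹ * a⁻¹) * q := by rw [ha'def, hainv]; group
        rw [this]
        exact Subgroup.mul_mem _ (hQn.conj_mem _ (Subgroup.inv_mem _ hq) a) hq
      have hcomm : a * a' = a' * a := commute_of_mul_mem_pCore hD ha ha'D hxQ
      have ha'sq : a' * a' = 1 := mul_self_of_mem hD.1 ha'D
      obtain ⟨x, hxdef⟩ : ∃ x, x = a * a' := ⟨_, rfl⟩
      rw [← hxdef] at hxQ
      have hxx : x * x = 1 := by
        calc x * x = a * (a' * a) * a' := by rw [hxdef]; group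
          _ = a * (a * a') * a' := by rw [hcomm]
          _ = (a * a) * (a' * a') := by group
          _ = 1 := by rw [haa, ha'sq, one_mul]
      have hxinv : x⁻¹ = x := inv_eq_of_mul_eq_one_left hxx
      have hxa : x * a = a * x := by
        calc x * a = a * (a' * a) := by rw [hxdef]; group
          _ = a * (a * a') := by rw [hcomm]
          _ = a * x := by rw [hxdef]
      have ha'x : a' = a * x := by rw [hxdef, ← mul_assoc, haa, one_mul]
      -- b' = q⁻¹ b q = x b
      set b' := q⁻¹ * b * q with hb'def
      have hb'D : b' ∈ D := by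
        have := hD.1.conj_mem b hbD q⁻¹
        rwa [inv_inv] at this
      have hab' : a' * b' = a * b := by
        calc a' * b' = q⁻¹ * (a * b * q) := by rw [ha'def, hb'def]; group
          _ = q⁻¹ * (q * (a * b)) := by rw [hqab]
          _ = a * b := by group
      have hb'x : b' = x * b := by
        calc b' = a'⁻¹ * (a' * b') := by group
          _ = a'⁻¹ * (a * b) := by rw [hab']
          _ = (a * x)⁻¹ * (a * b) := by rw [← ha'x]
          _ = x⁻¹ * b := by group
          _ = x * b := by rw [hxinv]
      have hb'sq : b' * b' = 1 := mul_self_of_mem hD.1 hb'D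
      have hxb : x * b = b * x := by
        rw [hb'x] at hb'sq
        calc x * b = (x * b) * ((x * b) * (x * b))⁻¹ := by rw [hb'sq]; group
          _ = b⁻¹ * x⁻¹ := by group
          _ = b * x := by rw [hbinv, hxinv]
      -- a' b = x (a b)
      have hx1 : x = 1 := by
        have ha'b : a' * b = x * (a * b) := by rw [ha'x, ← hxa]; group
        have hxab : Commute x (a * b) := by
          show x * (a * b) = a * b * x
          rw [← mul_assoc, hxa, mul_assoc, hxb, mul_assoc]
        rcases hD.1.pair a' ha'D b hbD with h | h | h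
        · -- (a'b)² = 1 so (ab)² = 1 so ab = 1
          exfalso
          have h1 : (a' * b) * (a' * b) = 1 := by
            calc (a' * b) * (a' * b) = a' * (b * a') * b := by group
              _ = a' * (a' * b) * b := by rw [h]
              _ = (a' * a') * (b * b) := by group
              _ = 1 := by rw [ha'sq, hbb, one_mul]
          have h2 : (a * b) ^ 2 = 1 := by
            rw [ha'b] at h1
            have : (x * (a * b)) * (x * (a * b)) = (x * x) * ((a * b) * (a * b)) := by
              calc (x * (a * b)) * (x * (a * b)) = x * ((a * b) * x) * (a * b) := by group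
                _ = x * (x * (a * b)) * (a * b) := by rw [hxab.eq]
                _ = (x * x) * ((a * b) * (a * b)) := by group
            rw [this, hxx, one_mul] at h1
            rw [pow_two]; exact h1
          have h3 : orderOf (a * b) ∣ 2 := orderOf_dvd_of_pow_eq_one h2
          have h4 : orderOf (a * b) = 1 := by
            have hcop : (orderOf (a * b)).Coprime 2 := Nat.coprime_two_right.2 hodd
            exact Nat.Coprime.eq_one_of_dvd hcop h3
          rw [orderOf_eq_one_iff] at h4
          apply hba
          calc b = a⁻¹ * (a * b) := by group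
            _ = a := by rw [h4, mul_one, hainv]
        · -- odd order m
          set m := orderOf (a' * b) with hm
          have h1 : (a' * b) ^ m = 1 := pow_orderOf_eq_one _
          rw [ha'b, hxab.mul_pow] at h1
          obtain ⟨j, hj⟩ := h
          have hxm : x ^ m = x := by
            rw [hj, pow_succ, pow_mul, pow_two, hxx, one_pow, one_mul]
          rw [hxm] at h1
          -- x = ((a b)^m)⁻¹ ∈ zpowers (a b), of odd order
          have hx_eq : x = ((a * b) ^ m)⁻¹ := eq_inv_of_mul_eq_one_left h1
          have hdvd : orderOf x ∣ orderOf (a * b) := by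
            rw [hx_eq, orderOf_inv]
            exact orderOf_pow_dvd m
          have hoddx : Odd (orderOf x) := Odd.of_dvd_nat hodd hdvd
          exact eq_one_of_odd_of_mem_pCore hxQ hoddx
        · exact absurd h.1 (hD.2 a' ha'D b hbD)
      have haq : a * q = q * a := by
        have : a' = a := by rw [ha'x, hx1, mul_one]
        rw [ha'def] at this
        calc a * q = q * (q⁻¹ * a * q) := by group
          _ = q * a := by rw [this]
      have hbq : b * q = q * b := by
        calc b * q = a⁻¹ * (a * b * q) := by group
          _ = a⁻¹ * (q * (a * b)) := by rw [hqab]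
          _ = a * q * a * b := by rw [hainv]; group
          _ = q * a * a * b := by rw [haq]
          _ = q * b := by rw [mul_assoc q, haa, mul_one]
      rw [Subgroup.mem_inf, Subgroup.mem_inf]
      refine ⟨⟨hq, ?_⟩, ?_⟩
      · rw [Subgroup.mem_centralizer_iff]
        intro g hg
        rw [Set.mem_singleton_iff] at hg
        rw [hg]; exact haq
      · rw [Subgroup.mem_centralizer_iff]
        intro g hg
        rw [Set.mem_singleton_iff] at hg
        rw [hg]; exact hbq
    · intro q hq0
      rw [Subgroup.mem_inf, Subgroup.mem_inf] at hq0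
      obtain ⟨⟨hq, hqa⟩, hqb⟩ := hq0
      rw [Subgroup.mem_inf]
      refine ⟨hq, ?_⟩
      rw [Subgroup.mem_centralizer_iff] at hqa hqb ⊢
      intro g hg
      rw [Set.mem_singleton_iff] at hg
      rw [hg, mul_assoc, hqb b rfl, ← mul_assoc, hqa a rfl, mul_assoc]

end Cfsg.Agent.S5049
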