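import Mathlib
import Cfsg.Statements.S5057

set_option autoImplicit false
open Cfsg

namespace Cfsg.Agent.S5057

def a0 : alternatingGroup (Fin 6) :=
  ⟨Equiv.swap 0 1 * Equiv.swap 2 3, by rw [Equiv.Perm.mem_alternatingGroup]; decide⟩

set_option maxRecDepth 100000 in
theorem a6_conj : ∀ b : alternatingGroup (Fin 6), (b ^ 2 = 1 ∧ b ≠ 1) →
    ∃ g : alternatingGroup (Fin 6), b = g * a0 * g⁻¹ := by
  decide +kernel

set_option maxRecDepth 100000 in
theorem a6_pairs : ∀ d : alternatingGroup (Fin 6), (d ^ 2 = 1 ∧ d ≠ 1) →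
    ∀ e : alternatingGroup (Fin 6), (e ^ 2 = 1 ∧ e ≠ 1) →
    d * e = e * d ∨ (d * e) ^ 3 = 1 ∨ (d * e) ^ 5 = 1 ∨ ((d * e) ^ 4 = 1 ∧ (d * e) ^ 2 ≠ 1) := by
  decide +kernel

theorem a0_invol : a0 ^ 2 = 1 ∧ a0 ≠ 1 := by decide +kernel

theorem invol_iff {G : Type*} [Group G] (g : G) : orderOf g = 2 ↔ (g ^ 2 = 1 ∧ g ≠ 1) := by
  constructor
  · intro h
    refine ⟨?_, ?_⟩
    · rw [← h]; exact pow_orderOf_eq_one g
    · intro h1
      rw [h1, orderOf_one] at h
      omega
  · rintro ⟨h1, h2⟩
    exact orderOf_eq_prime h1 h2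

theorem result :
    Cfsg.IsRootInvolutionClass {g : ↥(alternatingGroup (Fin 6)) | orderOf g = 2} ∧
    ∀ d ∈ {g : ↥(alternatingGroup (Fin 6)) | orderOf g = 2}, ∀ e ∈ {g : ↥(alternatingGroup (Fin 6)) | orderOf g = 2},
      orderOf (d * e) ≤ 5 := by
  have ha0 : a0 ∈ {g : ↥(alternatingGroup (Fin 6)) | orderOf g = 2} := (invol_iff a0).2 a0_invol
  have hconjmem : ∀ d ∈ {g : ↥(alternatingGroup (Fin 6)) | orderOf g = 2},
      ∀ g : ↥(alternatingGroup (Fin 6)), g * d * g⁻¹ ∈ {g : ↥(alternatingGroup (Fin 6)) | orderOf g = 2} := by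
    intro d hd g
    show orderOf (g * d * g⁻¹) = 2
    have : g * d * g⁻¹ = MulAut.conj g d := by simp [MulAut.conj_apply]
    rw [this, MulEquiv.orderOf_eq]
    exact hd
  refine ⟨⟨⟨fun d hd => hd, ?_, hconjmem, ?_⟩, ⟨a0, ha0⟩, ?_⟩, ?_⟩
  · -- generation, by simplicity
    haveI : IsSimpleGroup (alternatingGroup (Fin 6)) := alternatingGroup.isSimpleGroup (by simp)
    have hnormal : (Subgroup.closure {g : ↥(alternatingGroup (Fin 6)) | orderOf g = 2}).Normal := by
      constructor
      intro n hn g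
      have h1 : (Subgroup.closure {g : ↥(alternatingGroup (Fin 6)) | orderOf g = 2}).map
          (MulAut.conj g).toMonoidHom ≤ Subgroup.closure {g : ↥(alternatingGroup (Fin 6)) | orderOf g = 2} := by
        rw [MonoidHom.map_closure, Subgroup.closure_le]
        rintro _ ⟨d, hd, rfl⟩
        apply Subgroup.subset_closure
        have := hconjmem d hd g
        simpa [MulAut.conj_apply] using this
      apply h1
      exact ⟨n, hn, by simp [MulAut.conj_apply]⟩
    rcases hnormal.eq_bot_or_eq_top with h | h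
    · exfalso
      have h1 : a0 ∈ Subgroup.closure {g : ↥(alternatingGroup (Fin 6)) | orderOf g = 2} :=
        Subgroup.subset_closure ha0
      rw [h, Subgroup.mem_bot] at h1
      exact a0_invol.2 h1
    · exact h
  · -- pair
    intro a ha b hb
    rcases a6_pairs a ((invol_iff a).1 ha) b ((invol_iff b).1 hb) with h | h | h | ⟨h4, h2⟩
    · exact Or.inl h
    · right; left
      have := orderOf_dvd_of_pow_eq_one h
      rcases (Nat.dvd_prime Nat.prime_three).1 this with h1 | h1 <;> rw [h1] <;> decide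
    · right; left
      have := orderOf_dvd_of_pow_eq_one h
      rcases (Nat.dvd_prime Nat.prime_five).1 this with h1 | h1 <;> rw [h1] <;> decide
    · right; right
      refine ⟨?_, ?_⟩
      · haveI : Fact (Nat.Prime 2) := ⟨Nat.prime_two⟩
        exact orderOf_eq_prime_pow (p := 2) (n := 1) (by simpa using h2) (by simpa using h4)
      · show orderOf ((a * b) ^ 2) = 2
        rw [invol_iff]
        refine ⟨?_, h2⟩
        rw [← pow_mul]; exact h4
  · -- single class
    intro a ha b hb
    obtain ⟨g, hg⟩ := a6_conj a ((invol_iff a).1 ha)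
    obtain ⟨k, hk⟩ := a6_conj b ((invol_iff b).1 hb)
    refine ⟨k * g⁻¹, ?_⟩
    rw [hk, hg]; group
  · intro d hd e he
    rcases a6_pairs d ((invol_iff d).1 hd) e ((invol_iff e).1 he) with h | h | h | ⟨h4, h2⟩
    · have h2 : (d * e) ^ 2 = 1 := by
        have hd2 := ((invol_iff d).1 hd).1
        have he2 := ((invol_iff e).1 he).1
        rw [pow_two] at hd2 he2 ⊢
        calc d * e * (d * e) = d * (e * d) * e := by group
          _ = d * (d * e) * e := by rw [h]
          _ = (d * d) * (e * e) := by group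
          _ = 1 := by rw [hd2, he2, one_mul]
      have := Nat.le_of_dvd (by norm_num) (orderOf_dvd_of_pow_eq_one h2)
      omega
    · have := Nat.le_of_dvd (by norm_num) (orderOf_dvd_of_pow_eq_one h)
      omega
    · exact Nat.le_of_dvd (by norm_num) (orderOf_dvd_of_pow_eq_one h)
    · have := Nat.le_of_dvd (by norm_num) (orderOf_dvd_of_pow_eq_one h4)
      omega

end Cfsg.Agent.S5057
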