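import Mathlib
import Cfsg.Statements.S5058
import Cfsg.Agent.Lib.Helper25.RootSL6

set_option autoImplicit false
open Matrix
open Cfsg

namespace Cfsg.Agent.S5058

open Cfsg.Agent.Helper25 Cfsg.Agent.Helper25.RootSL
open scoped commutatorElement

theorem ne01 (n : ℕ) : (0 : Fin (n + 3)) ≠ 1 := by simp

theorem ne02 (n : ℕ) : (0 : Fin (n + 3)) ≠ 2 := by
  intro h
  have := congrArg Fin.val h
  rw [Fin.val_zero, Fin.val_two] at this
  omega

theorem ne12 (n : ℕ) : (1 : Fin (n + 3)) ≠ 2 := by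
  intro h
  have := congrArg Fin.val h
  rw [Fin.val_one, Fin.val_two] at this
  omega

variable {F : Type*} [Field F]

/-- the statement's set is the set of transvections. -/
theorem set_eq (n : ℕ) :
    {t : Matrix.SpecialLinearGroup (Fin (n + 3)) F | ∃ c : F, c ≠ 0 ∧
        ∃ g : Matrix.SpecialLinearGroup (Fin (n + 3)) F,
          ((g⁻¹ * t * g : Matrix.SpecialLinearGroup (Fin (n + 3)) F) :
          Matrix (Fin (n + 3)) (Fin (n + 3)) F) = Matrix.transvection 0 1 c} =
    transv (Fin (n + 3)) F := by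
  ext t
  constructor
  · rintro ⟨c, hc, g, hg⟩
    have hs : g⁻¹ * t * g = T (Pi.single 0 (1 : F)) (Pi.single 1 1) (single_dot_ne (ne01 n)) c := by
      apply Subtype.ext
      rw [hg, transvection_eq]
      rfl
    have ht : t = g * (g⁻¹ * t * g) * g⁻¹ := by group
    rw [ht, hs, conj_T]
    exact T_mem_transv (mulVec_ne_zero g (single_ne_zero' 0)) (vecMul_ne_zero g⁻¹ (single_ne_zero' 1))
      _ hc
  · rintro ⟨v, f, hv, hf, hfv, rfl⟩
    obtain ⟨g, hg⟩ := flag_trans (ne01 n) (flag_mem hv hf hfv)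
    have h1 : T v f hfv 1 ∈ Cfsg.conjBy (R (Pi.single 0 (1 : F)) (Pi.single 1 1)) g := by
      rw [← hg]
      exact T_mem _ _ _ _
    rw [mem_conjBy, mem_R (single_dot_ne (ne01 n))] at h1
    obtain ⟨c, hc⟩ := h1
    refine ⟨c, ?_, g, by rw [hc, transvection_eq]⟩
    rintro rfl
    rw [tmat_zero] at hc
    have h2 : g⁻¹ * T v f hfv 1 * g = 1 := Subtype.ext hc
    have h3 : T v f hfv 1 = 1 := by
      have : T v f hfv 1 = g * (g⁻¹ * T v f hfv 1 * g) * g⁻¹ := by group
      rw [this, h2]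
      group
    exact one_ne_zero ((T_eq_one_iff hv hf hfv 1).1 h3)

/-- the standard transvection. -/
def t₀ (F : Type*) [Field F] (n : ℕ) : Matrix.SpecialLinearGroup (Fin (n + 3)) F :=
  T (Pi.single 0 (1 : F)) (Pi.single 1 1) (single_dot_ne (ne01 n)) 1

theorem t₀_mem (n : ℕ) : t₀ F n ∈ transv (Fin (n + 3)) F :=
  ⟨_, _, single_ne_zero' 0, single_ne_zero' 1, _, rfl⟩

/-- every transvection is conjugate to the standard one. -/
theorem conj_t₀ (n : ℕ) {t : Matrix.SpecialLinearGroup (Fin (n + 3)) F}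
    (ht : t ∈ transv (Fin (n + 3)) F) :
    ∃ x : Matrix.SpecialLinearGroup (Fin (n + 3)) F, t = x * t₀ F n * x⁻¹ := by
  rw [← set_eq] at ht
  obtain ⟨c, hc, g, hg⟩ := ht
  have hs : g⁻¹ * t * g = T (Pi.single 0 (1 : F)) (Pi.single 1 1) (single_dot_ne (ne01 n)) c := by
    apply Subtype.ext
    rw [hg, transvection_eq]
    rfl
  have hd0 : ((SpecialLinearGroup.diag2n (ne02 n) c hc : Matrix.SpecialLinearGroup (Fin (n + 3)) F) :
      Matrix (Fin (n + 3)) (Fin (n + 3)) F) *ᵥ Pi.single 0 1 = c • Pi.single 0 (1 : F) := by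
    rw [SpecialLinearGroup.diag2n_coe, diagonal_mulVec_single, if_pos rfl, mul_one,
      ← Pi.single_smul, smul_eq_mul, mul_one]
  have hd1 : (Pi.single 1 (1 : F) : Fin (n + 3) → F) ᵥ*
      ((SpecialLinearGroup.diag2n (ne02 n) c hc : Matrix.SpecialLinearGroup (Fin (n + 3)) F) :
      Matrix (Fin (n + 3)) (Fin (n + 3)) F) = Pi.single 1 1 := by
    rw [SpecialLinearGroup.diag2n_coe, single_vecMul_diagonal, if_neg (ne01 n).symm,
      if_neg (ne12 n), mul_one]
  have hd2 : (Pi.single 1 (1 : F) : Fin (n + 3) → F) ᵥ*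
      (((SpecialLinearGroup.diag2n (ne02 n) c hc)⁻¹ : Matrix.SpecialLinearGroup (Fin (n + 3)) F) :
      Matrix (Fin (n + 3)) (Fin (n + 3)) F) = Pi.single 1 1 := by
    conv_lhs => rw [← hd1]
    rw [vecMul_vecMul, val_mul_inv, vecMul_one]
  have hc' : T (Pi.single 0 (1 : F)) (Pi.single 1 1) (single_dot_ne (ne01 n)) c =
      SpecialLinearGroup.diag2n (ne02 n) c hc * t₀ F n * (SpecialLinearGroup.diag2n (ne02 n) c hc)⁻¹ := by
    unfold t₀
    rw [conj_T]
    apply Subtype.ext
    rw [T_val, T_val, hd0, hd2, tmat_smul_left, one_mul]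
  refine ⟨g * SpecialLinearGroup.diag2n (ne02 n) c hc, ?_⟩
  have ht : t = g * (g⁻¹ * t * g) * g⁻¹ := by group
  rw [ht, hs, hc']
  group

variable [Fintype F] [CharP F 2]

theorem rootInv (n : ℕ) : Cfsg.IsRootInvolutionSet (transv (Fin (n + 3)) F) where
  orderOf_eq := fun d hd => orderOf_transv hd
  generates := transv_generates
  conj_mem := fun d hd g => transv_conj hd g
  pair := by
    rintro a ⟨v, f, hv, hf, hfv, rfl⟩ b ⟨w, h, hw, hh, hhw, rfl⟩
    by_cases hfw : f ⬝ᵥ w = 0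
    · by_cases hhv : h ⬝ᵥ v = 0
      · exact Or.inl (T_commute hfv hhw hfw hhv 1 1)
      · obtain ⟨h1, h2, _, _⟩ := four_case hv hf hw hh hfv hhw hfw hhv
        exact Or.inr (Or.inr ⟨h1, h2⟩)
    · by_cases hhv : h ⬝ᵥ v = 0
      · obtain ⟨_, _, h1, h2⟩ := four_case hw hh hv hf hhw hfv hhv hfw
        exact Or.inr (Or.inr ⟨h1, h2⟩)
      · exact Or.inr (Or.inl (odd_case hfv hhw hfw hhv).1)

theorem eq_one_of_card (hF : Fintype.card F = 2) {x : F} (hx : x ≠ 0) : x = 1 := by
  have := FiniteField.pow_card_sub_one_eq_one x hx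
  rw [hF] at this
  simpa using this

/-- Let F be a finite field of characteristic 2 and n a natural number. Then the transvections of SL_{n+3}(F) (so in every dimension at least 3) (the conjugates of the elementary matrices 1 + c E₁₂, c ≠ 0) form a class of root involutions of SL_{n+3}(F); when F has two elements they form a class of {3,4}⁺-transpositions (every product of odd order has order 1 or 3). -/
theorem result (F : Type*) [Field F] [Fintype F] [CharP F 2] (n : ℕ) :
    Cfsg.IsRootInvolutionClass {t : Matrix.SpecialLinearGroup (Fin (n + 3)) F | ∃ c : F, c ≠ 0 ∧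
        ∃ g : Matrix.SpecialLinearGroup (Fin (n + 3)) F, ((g⁻¹ * t * g : Matrix.SpecialLinearGroup (Fin (n + 3)) F) :
          Matrix (Fin (n + 3)) (Fin (n + 3)) F) = Matrix.transvection 0 1 c} ∧
    (Fintype.card F = 2 → Cfsg.IsThreeFourPlusTranspositionSet {t : Matrix.SpecialLinearGroup (Fin (n + 3)) F | ∃ c : F, c ≠ 0 ∧
        ∃ g : Matrix.SpecialLinearGroup (Fin (n + 3)) F, ((g⁻¹ * t * g : Matrix.SpecialLinearGroup (Fin (n + 3)) F) :
          Matrix (Fin (n + 3)) (Fin (n + 3)) F) = Matrix.transvection 0 1 c}) := by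
  rw [set_eq]
  refine ⟨⟨rootInv n, ⟨_, t₀_mem n⟩, ?_⟩, ?_⟩
  · intro a ha b hb
    obtain ⟨x, rfl⟩ := conj_t₀ n ha
    obtain ⟨y, rfl⟩ := conj_t₀ n hb
    refine ⟨y * x⁻¹, ?_⟩
    group
  · intro hF
    refine ⟨rootInv n, ?_⟩
    rintro a ⟨v, f, hv, hf, hfv, rfl⟩ b ⟨w, h, hw, hh, hhw, rfl⟩ hodd
    by_cases hfw : f ⬝ᵥ w = 0
    · by_cases hhv : h ⬝ᵥ v = 0
      · left
        have h1 : (T v f hfv 1 * T w h hhw 1) ^ 2 = 1 := by
          rw [pow_two, mul_assoc, ← mul_assoc (T w h hhw 1), ← T_commute hfv hhw hfw hhv 1 1,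
            mul_assoc, T_sq, mul_one, T_sq]
        have h2 := orderOf_dvd_of_pow_eq_one h1
        rcases (Nat.dvd_prime Nat.prime_two).1 h2 with h3 | h3
        · exact h3
        · rw [h3] at hodd
          exact absurd hodd (by decide)
      · obtain ⟨h1, _, _, _⟩ := four_case hv hf hw hh hfv hhw hfw hhv
        rw [h1] at hodd
        exact absurd hodd (by decide)
    · by_cases hhv : h ⬝ᵥ v = 0
      · obtain ⟨_, _, h1, _⟩ := four_case hw hh hv hf hhw hfv hhv hfw
        rw [h1] at hodd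
        exact absurd hodd (by decide)
      · have h1 := (odd_case hfv hhw hfw hhv).2 (by
          rw [eq_one_of_card hF hfw, eq_one_of_card hF hhv, one_mul])
        have h2 := orderOf_dvd_of_pow_eq_one h1
        rcases (Nat.dvd_prime Nat.prime_three).1 h2 with h3 | h3
        · exact Or.inl h3
        · exact Or.inr h3

end Cfsg.Agent.S5058
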