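import Mathlib
import Cfsg.Statements.S5059

set_option autoImplicit false
universe u
open Cfsg

namespace Cfsg.Agent.S5059

variable {k : Type u} [Field k] {M : Type u} [AddCommGroup M] [Module k M]

/-- data of a member of `E_σ` in convenient form -/
structure Good (G : Subgroup (LinearMap.GeneralLinearGroup k M)) (σ τ : LinearMap.GeneralLinearGroup k M) :
    Prop where
  mem : τ ∈ G
  sq : ((τ : M →ₗ[k] M) - 1) * ((τ : M →ₗ[k] M) - 1) = 0
  ne : (τ : M →ₗ[k] M) - 1 ≠ 0
  fam : Cfsg.scalarFamily τ ⊆ (G : Set (LinearMap.GeneralLinearGroup k M))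
  ker_eq : LinearMap.ker ((τ : M →ₗ[k] M) - 1) = LinearMap.ker ((σ : M →ₗ[k] M) - 1)
  range_eq : LinearMap.range ((τ : M →ₗ[k] M) - 1) = LinearMap.range ((σ : M →ₗ[k] M) - 1)

theorem good_of_mem {G : Subgroup (LinearMap.GeneralLinearGroup k M)}
    {σ τ : LinearMap.GeneralLinearGroup k M} (h : τ ∈ Cfsg.sameActionClass G σ) : Good G σ τ :=
  ⟨h.1.1.1, h.1.1.2.1.1, h.1.1.2.1.2, h.1.1.2.2, h.2.1, h.2.2⟩

theorem mem_of_good {G : Subgroup (LinearMap.GeneralLinearGroup k M)}
    {σ τ : LinearMap.GeneralLinearGroup k M} (hσ : σ ∈ Cfsg.minimalQuadraticElements G)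
    (h : Good G σ τ) : τ ∈ Cfsg.sameActionClass G σ := by
  refine ⟨⟨⟨h.mem, ⟨h.sq, h.ne⟩, h.fam⟩, ?_⟩, h.ker_eq, h.range_eq⟩
  intro τ' hτ'
  have : Cfsg.commutatorRank τ = Cfsg.commutatorRank σ := by
    unfold Cfsg.commutatorRank
    rw [h.range_eq]
  rw [this]
  exact hσ.2 τ' hτ'

/-- range ≤ ker for a square-zero endomorphism -/
theorem range_le_ker_of_sq {N : M →ₗ[k] M} (h : N * N = 0) : LinearMap.range N ≤ LinearMap.ker N := by
  rintro _ ⟨m, rfl⟩
  rw [LinearMap.mem_ker]
  have := congrArg (fun f : M →ₗ[k] M => f m) h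
  simpa using this

theorem mul_eq_zero_of_good {G : Subgroup (LinearMap.GeneralLinearGroup k M)}
    {σ τ₁ τ₂ : LinearMap.GeneralLinearGroup k M} (h1 : Good G σ τ₁) (h2 : Good G σ τ₂) :
    ((τ₁ : M →ₗ[k] M) - 1) * ((τ₂ : M →ₗ[k] M) - 1) = 0 := by
  ext m
  have hm : ((τ₂ : M →ₗ[k] M) - 1) m ∈ LinearMap.ker ((τ₁ : M →ₗ[k] M) - 1) := by
    rw [h1.ker_eq, ← h2.ker_eq]
    exact range_le_ker_of_sq h2.sq (LinearMap.mem_range_self _ m)
  rw [LinearMap.mem_ker] at hm
  simpa using hm

theorem val_mul_of_good {G : Subgroup (LinearMap.GeneralLinearGroup k M)}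
    {σ τ₁ τ₂ : LinearMap.GeneralLinearGroup k M} (h1 : Good G σ τ₁) (h2 : Good G σ τ₂) :
    ((τ₁ * τ₂ : LinearMap.GeneralLinearGroup k M) : M →ₗ[k] M) - 1 =
      ((τ₁ : M →ₗ[k] M) - 1) + ((τ₂ : M →ₗ[k] M) - 1) := by
  have h := mul_eq_zero_of_good h1 h2
  rw [Units.val_mul]
  have : (τ₁ : M →ₗ[k] M) * (τ₂ : M →ₗ[k] M) =
      ((τ₁ : M →ₗ[k] M) - 1) * ((τ₂ : M →ₗ[k] M) - 1) + (τ₁ : M →ₗ[k] M) + (τ₂ : M →ₗ[k] M) - 1 := by
    noncomm_ring
  rw [this, h]; abel

theorem good_mul [FiniteDimensional k M] {G : Subgroup (LinearMap.GeneralLinearGroup k M)}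
    {σ τ₁ τ₂ : LinearMap.GeneralLinearGroup k M} (hσ : σ ∈ Cfsg.minimalQuadraticElements G)
    (h1 : Good G σ τ₁) (h2 : Good G σ τ₂) (hne : τ₁ * τ₂ ≠ 1) : Good G σ (τ₁ * τ₂) := by
  have hN := val_mul_of_good h1 h2
  have h12 := mul_eq_zero_of_good h1 h2
  have h21 := mul_eq_zero_of_good h2 h1
  set N₁ := (τ₁ : M →ₗ[k] M) - 1 with hN₁
  set N₂ := (τ₂ : M →ₗ[k] M) - 1 with hN₂
  have hsq : (N₁ + N₂) * (N₁ + N₂) = 0 := by
    have : (N₁ + N₂) * (N₁ + N₂) = N₁ * N₁ + N₁ * N₂ + N₂ * N₁ + N₂ * N₂ := by noncomm_ring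
    rw [this, h1.sq, h2.sq, h12, h21]; simp
  have hne0 : N₁ + N₂ ≠ 0 := by
    intro h0
    apply hne
    apply Units.ext
    have : ((τ₁ * τ₂ : LinearMap.GeneralLinearGroup k M) : M →ₗ[k] M) - 1 = 0 := by rw [hN, h0]
    rw [Units.val_one]
    exact sub_eq_zero.1 this
  have hfam : Cfsg.scalarFamily (τ₁ * τ₂) ⊆ (G : Set (LinearMap.GeneralLinearGroup k M)) := by
    rintro τ' ⟨c, hc⟩
    rw [hN] at hc
    -- the units 1 + c N₁ and 1 + c N₂
    have e1 : (1 + c • N₁) * (1 - c • N₁) = 1 := by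
      have : (1 + c • N₁) * (1 - c • N₁) = 1 - (c * c) • (N₁ * N₁) := by
        rw [mul_sub, add_mul, add_mul]
        simp only [one_mul, mul_one, smul_mul_smul_comm]
        abel
      rw [this, h1.sq]; simp
    have e1' : (1 - c • N₁) * (1 + c • N₁) = 1 := by
      have : (1 - c • N₁) * (1 + c • N₁) = 1 - (c * c) • (N₁ * N₁) := by
        rw [mul_add, sub_mul, sub_mul]
        simp only [one_mul, mul_one, smul_mul_smul_comm]
        abel
      rw [this, h1.sq]; simp
    have e2 : (1 + c • N₂) * (1 - c • N₂) = 1 := by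
      have : (1 + c • N₂) * (1 - c • N₂) = 1 - (c * c) • (N₂ * N₂) := by
        rw [mul_sub, add_mul, add_mul]
        simp only [one_mul, mul_one, smul_mul_smul_comm]
        abel
      rw [this, h2.sq]; simp
    have e2' : (1 - c • N₂) * (1 + c • N₂) = 1 := by
      have : (1 - c • N₂) * (1 + c • N₂) = 1 - (c * c) • (N₂ * N₂) := by
        rw [mul_add, sub_mul, sub_mul]
        simp only [one_mul, mul_one, smul_mul_smul_comm]
        abel
      rw [this, h2.sq]; simp
    let ρ₁ : LinearMap.GeneralLinearGroup k M := ⟨1 + c • N₁, 1 - c • N₁, e1, e1'⟩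
    let ρ₂ : LinearMap.GeneralLinearGroup k M := ⟨1 + c • N₂, 1 - c • N₂, e2, e2'⟩
    have hρ₁ : ρ₁ ∈ G := h1.fam ⟨c, rfl⟩
    have hρ₂ : ρ₂ ∈ G := h2.fam ⟨c, rfl⟩
    have : τ' = ρ₁ * ρ₂ := by
      apply Units.ext
      rw [Units.val_mul, hc]
      show 1 + c • (N₁ + N₂) = (1 + c • N₁) * (1 + c • N₂)
      have : (1 + c • N₁) * (1 + c • N₂) = 1 + c • N₁ + c • N₂ + (c * c) • (N₁ * N₂) := by
        rw [mul_add, add_mul, add_mul]
        simp only [one_mul, mul_one, smul_mul_smul_comm]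
        abel
      rw [this, h12, smul_add]; simp [add_assoc]
    rw [this]
    exact G.mul_mem hρ₁ hρ₂
  -- range and kernel
  have hRle : LinearMap.range (N₁ + N₂) ≤ LinearMap.range ((σ : M →ₗ[k] M) - 1) := by
    rintro _ ⟨m, rfl⟩
    rw [LinearMap.add_apply]
    refine Submodule.add_mem _ ?_ ?_
    · rw [← h1.range_eq]; exact LinearMap.mem_range_self _ m
    · rw [← h2.range_eq]; exact LinearMap.mem_range_self _ m
  have hKle : LinearMap.ker ((σ : M →ₗ[k] M) - 1) ≤ LinearMap.ker (N₁ + N₂) := by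
    intro m hm
    rw [LinearMap.mem_ker, LinearMap.add_apply]
    have hm1 : N₁ m = 0 := by rw [← LinearMap.mem_ker, h1.ker_eq]; exact hm
    have hm2 : N₂ m = 0 := by rw [← LinearMap.mem_ker, h2.ker_eq]; exact hm
    rw [hm1, hm2, add_zero]
  have hQ : (τ₁ * τ₂) ∈ Cfsg.quadraticElements G := by
    refine ⟨G.mul_mem h1.mem h2.mem, ⟨?_, ?_⟩, hfam⟩
    · rw [hN]; exact hsq
    · rw [hN]; exact hne0
  have hrank : Module.finrank k (LinearMap.range ((σ : M →ₗ[k] M) - 1)) ≤
      Module.finrank k (LinearMap.range (N₁ + N₂)) := by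
    have := hσ.2 _ hQ
    unfold Cfsg.commutatorRank at this
    rw [hN] at this
    exact this
  have hReq : LinearMap.range (N₁ + N₂) = LinearMap.range ((σ : M →ₗ[k] M) - 1) :=
    Submodule.eq_of_le_of_finrank_le hRle hrank
  have hKeq : LinearMap.ker (N₁ + N₂) = LinearMap.ker ((σ : M →ₗ[k] M) - 1) := by
    symm
    apply Submodule.eq_of_le_of_finrank_le hKle
    have e1 := LinearMap.finrank_range_add_finrank_ker (N₁ + N₂)
    have e2 := LinearMap.finrank_range_add_finrank_ker ((σ : M →ₗ[k] M) - 1)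
    rw [hReq] at e1
    omega
  refine ⟨G.mul_mem h1.mem h2.mem, ?_, ?_, hfam, ?_, ?_⟩
  · rw [hN]; exact hsq
  · rw [hN]; exact hne0
  · rw [hN]; exact hKeq
  · rw [hN]; exact hReq

theorem val_inv_of_sq {τ : LinearMap.GeneralLinearGroup k M}
    (hsq : ((τ : M →ₗ[k] M) - 1) * ((τ : M →ₗ[k] M) - 1) = 0) :
    ((τ⁻¹ : LinearMap.GeneralLinearGroup k M) : M →ₗ[k] M) - 1 = -((τ : M →ₗ[k] M) - 1) := by
  have h1 : (τ : M →ₗ[k] M) * (1 - ((τ : M →ₗ[k] M) - 1)) = 1 := by
    have : (τ : M →ₗ[k] M) * (1 - ((τ : M →ₗ[k] M) - 1)) =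
        1 - ((τ : M →ₗ[k] M) - 1) * ((τ : M →ₗ[k] M) - 1) := by noncomm_ring
    rw [this, hsq, sub_zero]
  have h2 : ((τ⁻¹ : LinearMap.GeneralLinearGroup k M) : M →ₗ[k] M) = 1 - ((τ : M →ₗ[k] M) - 1) := by
    have := congrArg (fun f => ((τ⁻¹ : LinearMap.GeneralLinearGroup k M) : M →ₗ[k] M) * f) h1
    simp only [← mul_assoc, Units.inv_mul, one_mul, mul_one] at this
    exact this.symm
  rw [h2]; abel

theorem good_inv {G : Subgroup (LinearMap.GeneralLinearGroup k M)}
    {σ τ : LinearMap.GeneralLinearGroup k M} (h : Good G σ τ) : Good G σ τ⁻¹ := by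
  have hN := val_inv_of_sq h.sq
  refine ⟨G.inv_mem h.mem, ?_, ?_, ?_, ?_, ?_⟩
  · rw [hN, neg_mul_neg]; exact h.sq
  · rw [hN]; exact neg_ne_zero.2 h.ne
  · rintro τ' ⟨c, hc⟩
    apply h.fam
    refine ⟨-c, ?_⟩
    rw [hc, hN, smul_neg, neg_smul]
  · rw [hN, LinearMap.ker_neg]; exact h.ker_eq
  · rw [hN, LinearMap.range_neg]; exact h.range_eq

theorem commute_of_good {G : Subgroup (LinearMap.GeneralLinearGroup k M)}
    {σ τ₁ τ₂ : LinearMap.GeneralLinearGroup k M} (h1 : Good G σ τ₁) (h2 : Good G σ τ₂) :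
    τ₁ * τ₂ = τ₂ * τ₁ := by
  apply Units.ext
  have e1 := val_mul_of_good h1 h2
  have e2 := val_mul_of_good h2 h1
  have : ((τ₁ * τ₂ : LinearMap.GeneralLinearGroup k M) : M →ₗ[k] M) - 1 =
      ((τ₂ * τ₁ : LinearMap.GeneralLinearGroup k M) : M →ₗ[k] M) - 1 := by
    rw [e1, e2, add_comm]
  exact sub_left_injective this

theorem pow_of_sq {N : M →ₗ[k] M} (h : N * N = 0) (n : ℕ) : (1 + N) ^ n = 1 + (n : k) • N := by
  induction n with
  | zero => simp
  | succ n ih =>
    rw [pow_succ, ih]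
    have ha : ((n : k) • N) * N = 0 := by rw [smul_mul_assoc, h, smul_zero]
    have : (1 + (n : k) • N) * (1 + N) = 1 + (n : k) • N + N + ((n : k) • N) * N := by
      rw [mul_add, mul_one, add_mul, one_mul]
      abel
    rw [this, ha, add_zero, Nat.cast_succ, add_smul, one_smul, add_assoc]

/-- Let k be a field of characteristic not 2 with k not of order 3, M a finite-dimensional k-vector space and G ≤ GL(M) such that (G, M) is a quadratic pair (M irreducible for G, and G generated by its quadratically acting elements σ whose scalar family 1 + c(σ − 1), c ∈ k, lies in G). Write 𝒬_d for the quadratic elements of G of minimal commutator rank, E(σ) for the subgroup generated by the members of 𝒬_d with the same fixed space and commutator space as σ, and Σ for the set of these subgroups. Then for σ ∈ 𝒬_d the subgroup E(σ) consists exactly of those members together with the identity, it is abelian, and if k has prime characteristic p every element of E(σ) has order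 dividing p. -/
theorem result {k : Type u} [Field k] (hk2 : ringChar k ≠ 2) (hk3 : Nat.card k ≠ 3)
    {M : Type u} [AddCommGroup M] [Module k M] [FiniteDimensional k M]
    {G : Subgroup (LinearMap.GeneralLinearGroup k M)} (hG : Cfsg.IsQuadraticPair G)
    {σ : LinearMap.GeneralLinearGroup k M} (hσ : σ ∈ Cfsg.minimalQuadraticElements G) :
    (Cfsg.sameActionSubgroup G σ : Set (LinearMap.GeneralLinearGroup k M)) = Cfsg.sameActionClass G σ ∪ {1} ∧
    IsMulCommutative ↥(Cfsg.sameActionSubgroup G σ) ∧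
    (∀ p : ℕ, p.Prime → ringChar k = p → ∀ x ∈ Cfsg.sameActionSubgroup G σ, x ^ p = 1) := by
  -- the subgroup with carrier E_σ ∪ {1}
  let H : Subgroup (LinearMap.GeneralLinearGroup k M) :=
    { carrier := Cfsg.sameActionClass G σ ∪ {1}
      one_mem' := Or.inr rfl
      mul_mem' := by
        rintro a b (ha | ha) (hb | hb)
        · by_cases h1 : a * b = 1
          · exact Or.inr h1
          · exact Or.inl (mem_of_good hσ (good_mul hσ (good_of_mem ha) (good_of_mem hb) h1))
        · rw [Set.mem_singleton_iff] at hb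
          rw [hb, mul_one]; exact Or.inl ha
        · rw [Set.mem_singleton_iff] at ha
          rw [ha, one_mul]; exact Or.inl hb
        · rw [Set.mem_singleton_iff] at ha hb
          rw [ha, hb, mul_one]; exact Or.inr rfl
      inv_mem' := by
        rintro a (ha | ha)
        · exact Or.inl (mem_of_good hσ (good_inv (good_of_mem ha)))
        · rw [Set.mem_singleton_iff] at ha
          rw [ha, inv_one]; exact Or.inr rfl }
  have hset : (Cfsg.sameActionSubgroup G σ : Set (LinearMap.GeneralLinearGroup k M)) =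
      Cfsg.sameActionClass G σ ∪ {1} := by
    apply Set.Subset.antisymm
    · have : Cfsg.sameActionSubgroup G σ ≤ H := by
        unfold Cfsg.sameActionSubgroup
        rw [Subgroup.closure_le]
        intro x hx
        exact Or.inl hx
      exact this
    · rintro x (hx | hx)
      · exact Subgroup.subset_closure hx
      · rw [Set.mem_singleton_iff] at hx
        rw [hx]; exact Subgroup.one_mem _
  have hmem : ∀ x ∈ Cfsg.sameActionSubgroup G σ, x ∈ Cfsg.sameActionClass G σ ∨ x = 1 := by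
    intro x hx
    have : x ∈ (Cfsg.sameActionSubgroup G σ : Set (LinearMap.GeneralLinearGroup k M)) := hx
    rw [hset] at this
    exact this
  refine ⟨hset, ?_, ?_⟩
  · rw [isMulCommutative_iff]
    rintro ⟨a, ha⟩ ⟨b, hb⟩
    apply Subtype.ext
    show a * b = b * a
    rcases hmem a ha with ha' | rfl
    · rcases hmem b hb with hb' | rfl
      · exact commute_of_good (good_of_mem ha') (good_of_mem hb')
      · simp
    · simp
  · intro p hp hchar x hx
    rcases hmem x hx with hx' | rfl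
    · have hgood := good_of_mem hx'
      apply Units.ext
      rw [Units.val_pow_eq_pow_val, Units.val_one]
      have : (x : M →ₗ[k] M) = 1 + ((x : M →ₗ[k] M) - 1) := by abel
      rw [this, pow_of_sq hgood.sq p]
      have hp0 : (p : k) = 0 := by
        rw [← hchar]; exact ringChar.Nat.cast_ringChar
      rw [hp0, zero_smul, add_zero]
    · exact one_pow p

end Cfsg.Agent.S5059
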