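import Mathlib
import Cfsg.Statements.S5061
import Cfsg.Agent.Lib.Helper25.Unipotent5
import Cfsg.Agent.Lib.Helper25.SylowIn

set_option autoImplicit false
open Cfsg

namespace Cfsg.Agent.S5061

open Cfsg.Agent.Helper25 Cfsg.Agent.Helper25.Unip in
/-- Let M be a finite-dimensional vector space over a field k, G ≤ GL(M), and 𝒲 a set of subgroups of G, invariant under conjugation by G, such that any two members of 𝒲 generate a subgroup acting unipotently on M (for some n all products of n endomorphisms g − 1 from it vanish). Then the subgroup generated by all members of 𝒲 acts unipotently on M and is normal in G. -/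
theorem result {k : Type*} [Field k] {M : Type*} [AddCommGroup M] [Module k M] [FiniteDimensional k M]
    {G : Subgroup (LinearMap.GeneralLinearGroup k M)} {W : Set (Subgroup (LinearMap.GeneralLinearGroup k M))} (hWG : ∀ A ∈ W, A ≤ G)
    (hWW : ∀ A ∈ W, ∀ B ∈ W, Cfsg.IsUnipotentOn (A ⊔ B)) (hWconj : ∀ A ∈ W, ∀ g ∈ G, Cfsg.conjBy A g ∈ W) :
    Cfsg.IsUnipotentOn (⨆ A ∈ W, A) ∧ ∀ g ∈ G, Cfsg.conjBy (⨆ A ∈ W, A) g = ⨆ A ∈ W, A := by
  constructor
  · rw [isUnipotentOn_iff]
    exact main (fun A hA B hB => (isUnipotentOn_iff _).mp (hWW A hA B hB)) hWG hWconj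
  · intro g hg
    unfold Cfsg.conjBy
    rw [Subgroup.map_iSup]
    simp_rw [Subgroup.map_iSup]
    apply le_antisymm
    · apply iSup₂_le
      intro A hA
      exact le_iSup₂_of_le (Cfsg.conjBy A g) (hWconj A hA g hg) le_rfl
    · apply iSup₂_le
      intro A hA
      have h1 : Cfsg.conjBy A g⁻¹ ∈ W := hWconj A hA g⁻¹ (G.inv_mem hg)
      refine le_iSup₂_of_le (Cfsg.conjBy A g⁻¹) h1 ?_
      have : Cfsg.conjBy (Cfsg.conjBy A g⁻¹) g = A := conjBy_conjBy_inv A g
      exact this.ge

end Cfsg.Agent.S5061
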