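import Mathlib
import Cfsg.Statements.S5067

set_option autoImplicit false
open Cfsg

namespace Cfsg.Agent.S5067

open Subgroup
open scoped commutatorElement

/-- If `E` is abelian then `⁅E ⊔ P', E ⊔ P'⁆ ≤ γ₃(P)`. -/
theorem commutator_sup_le {P : Type*} [Group P] {E : Subgroup P} (hE : IsMulCommutative ↥E) :
    ⁅E ⊔ (⊤ : Subgroup P).lowerCentralSeries 1, E ⊔ (⊤ : Subgroup P).lowerCentralSeries 1⁆ ≤
      (⊤ : Subgroup P).lowerCentralSeries 2 := by
  set K := (⊤ : Subgroup P).lowerCentralSeries 2 with hK
  haveI hKn : K.Normal := inferInstance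
  set π := QuotientGroup.mk' K with hπ
  set H := E ⊔ (⊤ : Subgroup P).lowerCentralSeries 1 with hH
  have hbot : ⁅H.map π, H.map π⁆ = ⊥ := by
    rw [Subgroup.commutator_eq_bot_iff_le_centralizer]
    have hPc : ((⊤ : Subgroup P).lowerCentralSeries 1).map π ≤ Subgroup.center (P ⧸ K) := by
      rintro _ ⟨x, hx, rfl⟩
      rw [Subgroup.mem_center_iff]
      intro y
      obtain ⟨y, rfl⟩ := QuotientGroup.mk'_surjective K y
      have h1 : ⁅x, y⁆ ∈ K := by
        rw [hK, Subgroup.lowerCentralSeries_succ]
        exact Subgroup.commutator_mem_commutator hx (Subgroup.mem_top y)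
      have h2 : π ⁅x, y⁆ = 1 := (QuotientGroup.eq_one_iff _).2 h1
      rw [map_commutatorElement, commutatorElement_eq_one_iff_mul_comm] at h2
      exact h2.symm
    have hEE : E.map π ≤ Subgroup.centralizer ((E.map π : Subgroup (P ⧸ K)) : Set (P ⧸ K)) := by
      rintro _ ⟨x, hx, rfl⟩
      rw [Subgroup.mem_centralizer_iff]
      rintro _ ⟨y, hy, rfl⟩
      have := (isMulCommutative_iff.1 hE) ⟨y, hy⟩ ⟨x, hx⟩
      have h' : y * x = x * y := congrArg Subtype.val this
      rw [← map_mul, ← map_mul, h']
    rw [hH, Subgroup.map_sup]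
    refine sup_le ?_ ?_
    · rw [Subgroup.le_centralizer_iff]
      refine sup_le hEE ?_
      exact hPc.trans (Subgroup.center_le_centralizer _)
    · exact hPc.trans (Subgroup.center_le_centralizer _)
  intro x hx
  have h1 : π x ∈ (⁅H, H⁆).map π := Subgroup.mem_map_of_mem π hx
  rw [Subgroup.map_commutator, hbot, Subgroup.mem_bot] at h1
  exact (QuotientGroup.eq_one_iff x).1 h1

theorem class_lt {P : Type*} [Group P] [Group.IsNilpotent P]
    (hna : ¬ IsMulCommutative P) {E F : Subgroup P} (hE : IsMulCommutative ↥E) (hF : IsMulCommutative ↥F)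
    (hgen : E ⊔ F = ⊤) :
    Group.nilpotencyClass ↥(Subgroup.normalClosure (E : Set P)) < Group.nilpotencyClass P := by
  set N := Subgroup.normalClosure (E : Set P) with hN
  -- class of P is at least 2
  have hc : 2 ≤ Group.nilpotencyClass P := by
    by_contra hlt
    push Not at hlt
    have h1 : Group.nilpotencyClass P ≤ 1 := by omega
    rw [← Subgroup.lowerCentralSeries_eq_bot_iff_nilpotencyClass_le, Subgroup.top_lowerCentralSeries_one,
      commutator_eq_bot_iff] at h1
    exact hna h1
  -- N ≤ E ⊔ P'
  have hP'n : (E ⊔ (⊤ : Subgroup P).lowerCentralSeries 1).Normal := by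
    apply Subgroup.Normal.of_commutator_le
    rw [top_lowerCentralSeries_one]
    exact le_sup_right
  have hNle : N ≤ E ⊔ (⊤ : Subgroup P).lowerCentralSeries 1 :=
    Subgroup.normalClosure_le_normal (le_sup_left (a := E))
  -- key claim
  have key : ∀ i : ℕ, N.lowerCentralSeries (i + 1) ≤ (⊤ : Subgroup P).lowerCentralSeries (i + 2) := by
    intro i
    induction i with
    | zero =>
      rw [Subgroup.lowerCentralSeries_succ, Subgroup.lowerCentralSeries_zero]
      exact (Subgroup.commutator_mono hNle hNle).trans (commutator_sup_le hE)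
    | succ i ih =>
      rw [Subgroup.lowerCentralSeries_succ, Subgroup.lowerCentralSeries_succ (n := i + 1 + 1)]
      exact Subgroup.commutator_mono ih le_top
  obtain ⟨c, hcc⟩ : ∃ c, Group.nilpotencyClass P = c + 2 := ⟨Group.nilpotencyClass P - 2, by omega⟩
  have h1 : N.lowerCentralSeries (c + 1) = ⊥ := by
    rw [eq_bot_iff]
    refine (key c).trans ?_
    rw [← hcc, Subgroup.lowerCentralSeries_nilpotencyClass]
  have h2 : (⊤ : Subgroup ↥N).lowerCentralSeries (c + 1) = ⊥ := by
    have := top_subtype_lowerCentralSeries N (c + 1)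
    rw [h1] at this
    exact (Subgroup.map_eq_bot_iff_of_injective _ N.subtype_injective).1 this
  rw [Subgroup.lowerCentralSeries_eq_bot_iff_nilpotencyClass_le] at h2
  omega

/-- Let P be a non-abelian nilpotent p-group (every element of p-power order; P possibly infinite) generated by two abelian subgroups E and F. Then the normal closure of E in P, and likewise that of F, has nilpotency class strictly smaller than that of P. -/
theorem result {P : Type*} [Group P] {p : ℕ} [Fact p.Prime] (hP : IsPGroup p P) [Group.IsNilpotent P]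
    (hna : ¬ IsMulCommutative P) {E F : Subgroup P} (hE : IsMulCommutative ↥E) (hF : IsMulCommutative ↥F) (hgen : E ⊔ F = ⊤) :
    Group.nilpotencyClass ↥(Subgroup.normalClosure (E : Set P)) < Group.nilpotencyClass P ∧
    Group.nilpotencyClass ↥(Subgroup.normalClosure (F : Set P)) < Group.nilpotencyClass P := by
  exact ⟨class_lt hna hE hF hgen, class_lt hna hF hE (by rw [sup_comm]; exact hgen)⟩

end Cfsg.Agent.S5067
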