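import Mathlib
import Cfsg.Statements.S5075
import Cfsg.Agent.Lib.Helper4.McLFin
import Cfsg.Agent.Lib.Helper27.McLREC

set_option autoImplicit false
open Cfsg

namespace Cfsg.Agent.S5075

open Cfsg.Agent.Helper4.McL

/-- Let p be an odd prime, V a finite-dimensional vector space over the field with p elements, and H a group of linear automorphisms of V generated by transvections (elements of order p fixing a hyperplane pointwise) and having no nontrivial normal p-subgroup. Then for some n ≥ 1 there are a decomposition V = V₀ ⊕ V₁ ⊕ ⋯ ⊕ Vₙ into H-invariant subspaces and a decomposition of H as the internal direct product of normal subgroups H₁, …, Hₙ such that Hⱼ acts trivially on every Vᵢ with i ≠ j, and Hⱼ induces on Vⱼ exactly the special linear group of Vⱼ or exactly the isometry group of a non-degenerate alternating form on Vⱼ. -/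
theorem result {p : ℕ} [Fact p.Prime] (hp : Odd p) {V : Type*} [AddCommGroup V] [Module (ZMod p) V] [Finite V]
    (H : Subgroup (V ≃ₗ[ZMod p] V)) (T : Set (V ≃ₗ[ZMod p] V)) (hHT : H = Subgroup.closure T)
    (hT : ∀ t ∈ T, orderOf t = p ∧
      Module.finrank (ZMod p) ↥(LinearMap.ker ((t : V →ₗ[ZMod p] V) - LinearMap.id)) + 1 =
        Module.finrank (ZMod p) V)
    (hOp : Cfsg.pCore p ↥H = ⊥) :
    ∃ (n : ℕ) (W : Fin (n + 1) → Submodule (ZMod p) V) (K : Fin n → Subgroup (V ≃ₗ[ZMod p] V)),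
      1 ≤ n ∧ DirectSum.IsInternal W ∧
      (∀ h ∈ H, ∀ i, (W i).map (h : V →ₗ[ZMod p] V) = W i) ∧
      (∀ j, K j ≤ H ∧ ((K j).subgroupOf H).Normal) ∧ ⨆ j, K j = H ∧
      (∀ j, K j ⊓ (⨆ j' ∈ {j' : Fin n | j' ≠ j}, K j') = ⊥) ∧
      (∀ j j', j ≠ j' → ∀ a ∈ K j, ∀ b ∈ K j', a * b = b * a) ∧
      (∀ j, ∀ h ∈ K j, ∀ i : Fin (n + 1), i ≠ j.succ → ∀ v ∈ W i, h v = v) ∧
      (∀ j, ∃ ρ : ↥(K j) →* (↥(W j.succ) ≃ₗ[ZMod p] ↥(W j.succ)),
        (∀ (h : ↥(K j)) (v : ↥(W j.succ)), ((ρ h v : ↥(W j.succ)) : V) = (h : V ≃ₗ[ZMod p] V) (v : V)) ∧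
        ((ρ.range : Set (↥(W j.succ) ≃ₗ[ZMod p] ↥(W j.succ))) =
            {f : ↥(W j.succ) ≃ₗ[ZMod p] ↥(W j.succ) | LinearMap.det (f : ↥(W j.succ) →ₗ[ZMod p] ↥(W j.succ)) = 1} ∨
          ∃ B : LinearMap.BilinForm (ZMod p) ↥(W j.succ), B.IsAlt ∧ B.Nondegenerate ∧
            (ρ.range : Set (↥(W j.succ) ≃ₗ[ZMod p] ↥(W j.succ))) = {f : ↥(W j.succ) ≃ₗ[ZMod p] ↥(W j.succ) | ∀ x y, B (f x) (f y) = B x y})) := by
  classical
  have hpp : p.Prime := Fact.out
  have hp2 : p ≠ 2 := by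
    rintro rfl
    exact absurd hp (by decide)
  have : Module.Finite (ZMod p) V := Module.Finite.of_finite
  have hT' : ∀ t ∈ T, t ∈ tvSet H := by
    intro t ht
    obtain ⟨ho, hk⟩ := hT t ht
    refine ⟨hHT ▸ Subgroup.subset_closure ht, isTv_of_orderOf t ho hk, ?_⟩
    rintro rfl
    rw [orderOf_one] at ho
    exact hpp.one_lt.ne ho
  have hH : H = Subgroup.closure (tvSet H) := by
    apply le_antisymm
    · conv_lhs => rw [hHT]
      exact Subgroup.closure_mono hT'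
    · rw [Subgroup.closure_le]
      intro g hg
      exact hg.1
  have hO : ∀ N : Subgroup (V ≃ₗ[ZMod p] V), N ≤ H → (∀ g ∈ H, ∀ n ∈ N, g * n * g⁻¹ ∈ N) →
      IsPGroup p N → N = ⊥ := by
    intro N hN hnorm hpg
    have h1 : (N.subgroupOf H) ≤ Cfsg.pCore p ↥H := by
      apply le_sSup
      refine ⟨⟨?_⟩, ?_⟩
      · intro n hn g
        rw [Subgroup.mem_subgroupOf] at hn ⊢
        exact hnorm g g.2 n hn
      · exact hpg.comap_of_injective H.subtype (Subgroup.subtype_injective H)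
    rw [hOp, le_bot_iff, Subgroup.subgroupOf_eq_bot] at h1
    have h2 : N ⊓ H = ⊥ := disjoint_iff.1 h1
    rwa [inf_eq_left.2 hN] at h2
  exact mcl_main hp2 H hH hO

end Cfsg.Agent.S5075
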