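import Mathlib
import Cfsg.Statements.S5078
import Cfsg.Agent.Lib.Helper25.Fusion

set_option autoImplicit false
open Cfsg

namespace Cfsg.Agent.S5078

open Cfsg.Agent.Helper25 Cfsg.FusionSystem

/-- In any fusion system over a finite subgroup S, a receptive subgroup is fully centralized. -/
theorem result {Ω : Type*} [Group Ω] {S : Subgroup Ω} [Finite S] (F : Cfsg.FusionSystem S) (P : Subgroup Ω) (hP : F.IsReceptive P) : F.IsFullyCentralized P := by
  refine ⟨hP.1, fun Q hQ => ?_⟩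
  -- a map φ : Q → Ω with range P
  obtain ⟨φ, hφ, hr⟩ := isConj_symm F hQ
  have hQS : Q ≤ S := (F.le_of_mem hφ).1
  obtain ⟨ψ, hψ, hext⟩ := hP.2 Q φ hφ hr
  -- Q ≤ N_φ and C_S(Q) ≤ N_φ
  have hQN : Q ≤ extender S Q φ := by
    intro x hx
    rw [mem_extender_iff]
    refine ⟨hQS hx, Subgroup.le_normalizer hx, φ ⟨x, hx⟩, (F.le_of_mem hφ).2 _, fun y hy => ?_⟩
    have : (⟨x * (y : Ω) * x⁻¹, hy⟩ : Q) = ⟨x, hx⟩ * y * ⟨x, hx⟩⁻¹ := Subtype.ext rfl
    rw [this, map_mul, map_mul, map_inv]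
  have hCN : centralizerIn S Q ≤ extender S Q φ := by
    intro c hc
    rw [mem_extender_iff]
    have hc' := mem_centralizerIn.mp hc
    refine ⟨hc'.1, Subgroup.centralizer_le_normalizer _ hc.2, 1, S.one_mem, fun y hy => ?_⟩
    have : (⟨c * (y : Ω) * c⁻¹, hy⟩ : Q) = y := by
      apply Subtype.ext
      show c * (y : Ω) * c⁻¹ = y
      rw [← hc'.2 y y.2, mul_inv_cancel_right]
    rw [this]; simp
  have hinj := F.injective_of_mem hψ
  have hψS := (F.le_of_mem hψ).2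
  haveI : Finite (centralizerIn S P) :=
    Finite.of_injective (Subgroup.inclusion (centralizerIn_le (S := S) (P := P)))
      (Subgroup.inclusion_injective _)
  have hmap : ∀ c : centralizerIn S Q, ψ ⟨c, hCN c.2⟩ ∈ centralizerIn S P := by
    intro c
    rw [mem_centralizerIn]
    refine ⟨hψS _, ?_⟩
    intro y hy
    rw [← hr] at hy
    obtain ⟨x, rfl⟩ := hy
    rw [← hext x x.2 (hQN x.2), ← map_mul, ← map_mul]
    congr 1
    apply Subtype.ext
    exact (mem_centralizerIn.mp c.2).2 x x.2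
  refine Nat.card_le_card_of_injective (fun c => ⟨ψ ⟨c, hCN c.2⟩, hmap c⟩) ?_
  intro c d hcd
  have h1 : ψ ⟨c, hCN c.2⟩ = ψ ⟨d, hCN d.2⟩ := congrArg Subtype.val hcd
  have h2 := hinj h1
  have h3 : ((⟨c, hCN c.2⟩ : extender S Q φ) : Ω) = ((⟨d, hCN d.2⟩ : extender S Q φ) : Ω) :=
    congrArg Subtype.val h2
  exact Subtype.ext h3

end Cfsg.Agent.S5078
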