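import Mathlib
import Cfsg.Statements.S5081
import Cfsg.Agent.Lib.Helper25.FusionAlperin3

set_option autoImplicit false

namespace Cfsg.Agent.S5081

open Cfsg Cfsg.FusionSystem Cfsg.Agent.Helper25

theorem result {Ω : Type*} [Group Ω] {S : Subgroup Ω} [Finite S] (p : ℕ) [Fact p.Prime] (hS : IsPGroup p S) (F : Cfsg.FusionSystem S) (hF : F.IsSaturated p) (P : Subgroup Ω) (hPS : P < S) (hPn : F.IsFullyNormalized P) (H : Subgroup (MulAut P)) (hH : H = Subgroup.closure {α : MulAut P | ∃ (Q : Subgroup Ω) (hPQ : P < Q) (φ : Q →* Ω), φ ∈ F.Hom Q ∧ ∀ x : P, φ (Subgroup.inclusion hPQ.le x) = α x}) : (¬ F.IsEssential p P ∧ H = F.autGroup P) ∨ (F.IsEssential p P ∧ ∃ _ : ((Cfsg.Inn P).subgroupOf (F.autGroup P)).Normal, Cfsg.IsStronglyPEmbedded p ((H.subgroupOf (F.autGroup P)).map (QuotientGroup.mk' ((Cfsg.Inn P).subgroupOf (F.autGroup P))))) := by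
  have hH' : H = Subgroup.closure (extSet F P) := hH
  have hne : P ≠ S := hPS.ne
  by_cases hess : F.IsEssential p P
  · right
    refine ⟨hess, inn_subgroupOf_normal P _, ?_⟩
    haveI := inn_subgroupOf_normal P (F.autGroup P)
    have hcen : centralizerIn S P ≤ P := hess.1.2 P (isConj_refl F hPn.1)
    obtain ⟨Rbar, -, hpdvd, hkey⟩ := out_facts p hS F hF hne hPn hcen
    rw [hH']
    exact ⟨hpdvd, image_closure_extSet_ne_top p hS F hF hne hPn hess, Rbar, hkey⟩
  · left
    refine ⟨hess, ?_⟩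
    rw [hH']
    apply le_antisymm
    · rw [Subgroup.closure_le]
      exact extSet_subset_autGroup F P
    · exact autGroup_le_closure_extSet p hS F hF hne hPn hess

end Cfsg.Agent.S5081
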