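import Mathlib
import Cfsg.Statements.S5094
import Cfsg.Agent.Lib.Helper1.ZStarWC

set_option autoImplicit false
set_option linter.style.haveILetI false
open Cfsg

namespace Cfsg.Agent.S5094

open Cfsg.Agent.Helper10 Cfsg.Agent.Helper1.ZW

/-- a Sylow 2-subgroup meets the odd core trivially -/
theorem sylow_inf_oddCore {G : Type*} [Group G] [Finite G] (S : Sylow 2 G) :
    (S : Subgroup G) ⊓ Cfsg.pPrimeCore 2 G = ⊥ := by
  haveI : Fact (Nat.Prime 2) := ⟨Nat.prime_two⟩
  rw [← disjoint_iff]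
  apply Subgroup.disjoint_of_coprime_natCard
  obtain ⟨k, hk⟩ := IsPGroup.iff_card.mp S.2
  rw [hk]
  exact Nat.Coprime.pow_left k (Nat.Coprime.symm (Cfsg.Agent.Helper22.card_pPrimeCore_coprime 2))

/-- Glauberman's Z*-Theorem in fusion language: for a finite group G with Sylow 2-subgroup S, the centre of the fusion system of G on S is the set of elements of S whose image in G/O(G) is central, O(G) being the largest normal subgroup of odd order. -/
theorem result {G : Type*} [Group G] [Finite G] (S : Sylow 2 G) : (Cfsg.groupFusionSystem (S : Subgroup G)).center = (S : Subgroup G) ⊓ (Subgroup.center (G ⧸ Cfsg.oddCore G)).comap (QuotientGroup.mk' (Cfsg.oddCore G)) := by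
  haveI : Fact (Nat.Prime 2) := ⟨Nat.prime_two⟩
  haveI hKn : (Cfsg.pPrimeCore 2 G).Normal := Cfsg.Agent.Helper22.pPrimeCore_normal 2
  show (Cfsg.groupFusionSystem (S : Subgroup G)).center = (S : Subgroup G) ⊓
    (Subgroup.center (G ⧸ Cfsg.pPrimeCore 2 G)).comap (QuotientGroup.mk' (Cfsg.pPrimeCore 2 G))
  set K := Cfsg.pPrimeCore 2 G with hK
  set Zs : Subgroup G := (Subgroup.center (G ⧸ K)).comap (QuotientGroup.mk' K) with hZs
  haveI hZsn : Zs.Normal := Subgroup.Normal.comap inferInstance _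
  have hSK : (S : Subgroup G) ⊓ K = ⊥ := sylow_inf_oddCore S
  -- membership in `Zs` in terms of commutators
  have hZs_comm : ∀ z ∈ Zs, ∀ g : G, g * z * g⁻¹ * z⁻¹ ∈ K := by
    intro z hz g
    rw [hZs, Subgroup.mem_comap, Subgroup.mem_center_iff] at hz
    have h1 := hz (QuotientGroup.mk' K g)
    rw [← QuotientGroup.eq_one_iff, ← QuotientGroup.mk'_apply]
    simp only [map_mul, map_inv]
    rw [h1]; group
  apply le_antisymm
  · -- central subgroups consist of elements of `Z*`
    apply sSup_le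
    rintro Q ⟨hQS, hQ⟩
    have hwc : ∀ y ∈ Q, WC (S : Subgroup G) y := by
      intro y hy
      refine ⟨hQS hy, fun g hg => ?_⟩
      have hPS : Subgroup.zpowers y ≤ (S : Subgroup G) := by
        rw [Subgroup.zpowers_le]; exact hQS hy
      let φ : ↥(Subgroup.zpowers y) →* G :=
        ((MulAut.conj g).toMonoidHom).comp (Subgroup.zpowers y).subtype
      have hφ : φ ∈ (Cfsg.groupFusionSystem (S : Subgroup G)).Hom (Subgroup.zpowers y) := by
        refine ⟨hPS, ?_, g, fun x => rfl⟩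
        rintro ⟨w, hw⟩
        obtain ⟨j, rfl⟩ := Subgroup.mem_zpowers_iff.mp hw
        show g * y ^ j * g⁻¹ ∈ (S : Subgroup G)
        have : g * y ^ j * g⁻¹ = (g * y * g⁻¹) ^ j := by
          rw [conj_zpow]
        rw [this]
        exact Subgroup.zpow_mem _ hg j
      obtain ⟨ψ, -, h1, h2⟩ := hQ (Subgroup.zpowers y) φ hφ
      have e1 := h1 ⟨y, Subgroup.mem_zpowers y⟩
      have e2 := h2 ⟨y, hy⟩
      have e3 : (Subgroup.inclusion le_sup_left ⟨y, Subgroup.mem_zpowers y⟩ :
          ↥(Subgroup.zpowers y ⊔ Q)) = Subgroup.inclusion le_sup_right ⟨y, hy⟩ := rfl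
      rw [e3, e2] at e1
      exact e1.symm
    intro x hxQ
    have hZx : Cfsg.InZStar 2 x := wc_zstar S x (fun y hy => hwc y
      ((Subgroup.zpowers_le.mpr hxQ) hy))
    refine ⟨hQS hxQ, ?_⟩
    show QuotientGroup.mk' K x ∈ Subgroup.center (G ⧸ K)
    rw [Subgroup.mem_center_iff]
    intro gb
    obtain ⟨g, rfl⟩ := QuotientGroup.mk'_surjective K gb
    have h1 : QuotientGroup.mk' K (g * x * g⁻¹ * x⁻¹) = 1 := by
      rw [QuotientGroup.mk'_apply, QuotientGroup.eq_one_iff]; exact hZx g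
    simp only [map_mul, map_inv] at h1
    have : QuotientGroup.mk' K g * QuotientGroup.mk' K x =
        (QuotientGroup.mk' K g * QuotientGroup.mk' K x * (QuotientGroup.mk' K g)⁻¹ *
          (QuotientGroup.mk' K x)⁻¹) * QuotientGroup.mk' K x * QuotientGroup.mk' K g := by group
    rw [this, h1, one_mul]
  · -- `S ∩ Z*` is central in the fusion system
    set Z : Subgroup G := (S : Subgroup G) ⊓ Zs with hZ
    apply le_sSup
    have hZS : Z ≤ (S : Subgroup G) := inf_le_left
    have hZZs : Z ≤ Zs := inf_le_right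
    -- `Z` is central in `S`
    have hZcS : ∀ z ∈ Z, ∀ s ∈ (S : Subgroup G), s * z = z * s := by
      intro z hz s hs
      have h1 : s * z * s⁻¹ * z⁻¹ ∈ (S : Subgroup G) ⊓ K :=
        ⟨Subgroup.mul_mem _ (Subgroup.mul_mem _ (Subgroup.mul_mem _ hs (hZS hz))
          (Subgroup.inv_mem _ hs)) (Subgroup.inv_mem _ (hZS hz)), hZs_comm z (hZZs hz) s⟩
      rw [hSK, Subgroup.mem_bot] at h1
      have : s * z = (s * z * s⁻¹ * z⁻¹) * z * s := by group
      rw [this, h1, one_mul]
    -- normalizing `Z` means centralizing it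
    have hNZ : ∀ h ∈ Subgroup.normalizer (Z : Set G), ∀ z ∈ Z, h * z * h⁻¹ = z := by
      intro h hh z hz
      have h0 : h * z * h⁻¹ ∈ Z := (Subgroup.mem_normalizer_iff.mp hh z).mp hz
      have h1 : h * z * h⁻¹ * z⁻¹ ∈ (S : Subgroup G) ⊓ K :=
        ⟨Subgroup.mul_mem _ (hZS h0) (Subgroup.inv_mem _ (hZS hz)), hZs_comm z (hZZs hz) h⟩
      rw [hSK, Subgroup.mem_bot] at h1
      have : h * z * h⁻¹ = (h * z * h⁻¹ * z⁻¹) * z := by group
      rw [this, h1, one_mul]
    refine ⟨hZS, ?_⟩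
    rintro P φ ⟨hPS, hφS, g, hg⟩
    -- the conjugate `P' = g P g⁻¹`
    set P' : Subgroup G := P.map (MulAut.conj g).toMonoidHom with hP'
    have hP'S : P' ≤ (S : Subgroup G) := by
      rintro _ ⟨x, hx, rfl⟩
      have := hφS ⟨x, hx⟩
      rw [hg] at this
      exact this
    set D : Subgroup G := Zs ⊓ Subgroup.centralizer (P' : Set G) with hD
    have hZD : Z ≤ D := by
      refine le_inf hZZs ?_
      intro z hz
      rw [Subgroup.mem_centralizer_iff]
      intro w hw
      exact hZcS z hz w (hP'S hw)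
    set Z' : Subgroup G := rcg g⁻¹ Z with hZ'
    have hZ'D : Z' ≤ D := by
      intro w hw
      rw [hZ', mem_rcg, inv_inv] at hw
      refine ⟨?_, ?_⟩
      · have := hZsn.conj_mem _ (hZZs hw) g
        have e : g * (g⁻¹ * w * g) * g⁻¹ = w := by group
        rwa [e] at this
      · show w ∈ Subgroup.centralizer (P' : Set G)
        rw [Subgroup.mem_centralizer_iff]
        rintro _ ⟨x, hx, rfl⟩
        show g * x * g⁻¹ * w = w * (g * x * g⁻¹)
        have h1 := hZcS _ hw x (hPS hx)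
        have e1 : g * x * g⁻¹ * w = g * (x * (g⁻¹ * w * g)) * g⁻¹ := by group
        have e2 : w * (g * x * g⁻¹) = g * ((g⁻¹ * w * g) * x) * g⁻¹ := by group
        rw [e1, e2, h1]
    have hZ2 : IsPGroup 2 ↥Z := S.2.to_le hZS
    have hidx : ¬ 2 ∣ Z.relIndex D := by
      have h1 : ¬ 2 ∣ ((S : Subgroup G) ⊓ Zs).relIndex Zs :=
        inf_normal_relSylow (S : Subgroup G) Zs S.2 S.not_dvd_index
      intro h2
      apply h1
      rw [← Subgroup.relIndex_mul_relIndex _ _ _ hZD (inf_le_left : D ≤ Zs)]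
      exact Dvd.dvd.mul_right h2 _
    obtain ⟨c, hcD, hc⟩ := conj_into_relSylow (p := 2) D Z Z' hZD hZ2 hidx hZ'D
      (isPGroup_rcg _ hZ2)
    rw [hZ', ← rcg_mul] at hc
    have hnorm : g⁻¹ * c ∈ Subgroup.normalizer (Z : Set G) :=
      mem_normalizer_iff_rcg.mpr (rcg_eq_of_le_of_finite hc)
    set h := c⁻¹ * g with hh
    have hhN : h ∈ Subgroup.normalizer (Z : Set G) := by
      have := Subgroup.inv_mem _ hnorm
      rwa [mul_inv_rev, inv_inv] at this
    have hcC : c ∈ Subgroup.centralizer (P' : Set G) := hcD.2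
    have hhP : ∀ x ∈ P, h * x * h⁻¹ = g * x * g⁻¹ := by
      intro x hx
      have h1 : g * x * g⁻¹ ∈ P' := ⟨x, hx, rfl⟩
      have h2 := Subgroup.mem_centralizer_iff.mp hcC _ h1
      have e : h * x * h⁻¹ = c⁻¹ * ((g * x * g⁻¹) * c) := by rw [hh]; group
      rw [e, h2]; group
    have hhZ : ∀ z ∈ Z, h * z * h⁻¹ = z := hNZ h hhN
    have hle : P ⊔ Z ≤ (S : Subgroup G).comap (MulAut.conj h).toMonoidHom := by
      apply sup_le
      · intro x hx
        show h * x * h⁻¹ ∈ (S : Subgroup G)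
        rw [hhP x hx]
        exact hP'S ⟨x, hx, rfl⟩
      · intro z hz
        show h * z * h⁻¹ ∈ (S : Subgroup G)
        rw [hhZ z hz]; exact hZS hz
    refine ⟨((MulAut.conj h).toMonoidHom).comp (P ⊔ Z).subtype,
      ⟨sup_le hPS hZS, fun w => hle w.2, h, fun w => rfl⟩, ?_, ?_⟩
    · intro x
      show h * (x : G) * h⁻¹ = φ x
      rw [hhP x x.2, hg]
    · intro z
      show h * (z : G) * h⁻¹ = z
      exact hhZ z z.2

end Cfsg.Agent.S5094
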