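import Mathlib
import Cfsg.Statements.S5095
import Cfsg.Agent.Lib.Helper25.FusionCentric
import Cfsg.Agent.S5082

set_option autoImplicit false

namespace Cfsg.Agent.S5095

open Cfsg Cfsg.FusionSystem Cfsg.Agent.Helper25

variable {Ω : Type*} [Group Ω] {S : Subgroup Ω}

/-- (NC2) the case where `P` normalizes `Q`. -/
theorem normal_case [Finite S] (p : ℕ) [Fact p.Prime] (hS : IsPGroup p S)
    (F : FusionSystem S) (hF : F.IsSaturated p) {P Q : Subgroup Ω} (hQP : Q ≤ P)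
    (hnorm : ∀ g ∈ P, ∀ q ∈ Q, g * q * g⁻¹ ∈ Q) (hQ : F.IsCentric Q) {φ φ' : P →* Ω}
    (hφ : φ ∈ F.Hom P) (hφ' : φ' ∈ F.Hom P) (h : ∀ x : P, (x : Ω) ∈ Q → φ x = φ' x) :
    ∃ z : P, (z : Ω) ∈ Q ∧ (z : Ω) ∈ Subgroup.centralizer (Q : Set Ω) ∧
      ∀ y : P, φ' y = φ (z * y * z⁻¹) := by
  have hPS : P ≤ S := (F.le_of_mem hφ).1
  haveI : Finite P := finite_of_le_finite hPS
  -- image of Q under φ
  have hφQ := restrict_mem F hQP hφ
  set φQ : Q →* Ω := φ.comp (Subgroup.inclusion hQP) with hφQdef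
  have hcen := hQ.2 _ ⟨φQ, hφQ, rfl⟩
  -- the difference lies in φ(Q)
  have hd : ∀ x : P, ∃ q : Q, φ' x = φ (x * Subgroup.inclusion hQP q) := by
    intro x
    have hdC : (φ x)⁻¹ * φ' x ∈ centralizerIn S φQ.range := by
      rw [mem_centralizerIn]
      refine ⟨S.mul_mem (S.inv_mem ((F.le_of_mem hφ).2 x)) ((F.le_of_mem hφ').2 x), ?_⟩
      rintro _ ⟨q, rfl⟩
      have hxq : (x : Ω) * q * (x : Ω)⁻¹ ∈ Q := hnorm x x.2 q q.2
      have e1 : φ (x * Subgroup.inclusion hQP q * x⁻¹) = φ' (x * Subgroup.inclusion hQP q * x⁻¹) :=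
        h _ hxq
      have e2 : φ (Subgroup.inclusion hQP q) = φ' (Subgroup.inclusion hQP q) := h _ q.2
      rw [map_mul, map_mul, map_inv, map_mul, map_mul, map_inv, ← e2] at e1
      show φ (Subgroup.inclusion hQP q) * ((φ x)⁻¹ * φ' x) =
        (φ x)⁻¹ * φ' x * φ (Subgroup.inclusion hQP q)
      set a := φ (Subgroup.inclusion hQP q) with ha
      calc a * ((φ x)⁻¹ * φ' x) = (φ x)⁻¹ * (φ x * a * (φ x)⁻¹) * φ' x := by group
        _ = (φ x)⁻¹ * (φ' x * a * (φ' x)⁻¹) * φ' x := by rw [e1]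
        _ = (φ x)⁻¹ * φ' x * a := by group
    obtain ⟨q, hq⟩ := hcen hdC
    refine ⟨q, ?_⟩
    rw [map_mul]
    have : φ (Subgroup.inclusion hQP q) = (φ x)⁻¹ * φ' x := hq
    rw [this]; group
  -- ranges agree
  have hrle : φ'.range ≤ φ.range := by
    rintro _ ⟨x, rfl⟩
    obtain ⟨q, hq⟩ := hd x
    exact ⟨_, hq.symm⟩
  have hcard : Nat.card φ.range = Nat.card φ'.range :=
    (Nat.card_congr (homEquiv F hφ).toEquiv).symm.trans (Nat.card_congr (homEquiv F hφ').toEquiv)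
  haveI : Finite φ.range := finite_of_le_finite (range_le F hφ)
  have hreq : φ'.range = φ.range := Subgroup.eq_of_le_of_card_ge hrle (le_of_eq hcard)
  -- the inverse of φ
  obtain ⟨θ, hθ, hθinv, hθr⟩ := exists_inv F hφ rfl
  have hφ'val : ∀ x : P, φ' x ∈ φ.range := fun x => hrle ⟨x, rfl⟩
  set ψ₀ : P →* Ω := θ.comp (φ'.codRestrict φ.range hφ'val) with hψ₀
  have hψ₀F : ψ₀ ∈ F.Hom P := F.comp_mem hφ' hθ hφ'val
  have hψ₀apply : ∀ x : P, ∀ q : Q, φ' x = φ (x * Subgroup.inclusion hQP q) →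
      ψ₀ x = ((x * Subgroup.inclusion hQP q : P) : Ω) := by
    intro x q hq
    show θ ⟨φ' x, _⟩ = _
    rw [← hθinv (x * Subgroup.inclusion hQP q) ⟨_, rfl⟩]
    congr 1
    exact Subtype.ext hq
  have hψ₀P : ∀ x : P, ψ₀ x ∈ P := by
    intro x
    obtain ⟨q, hq⟩ := hd x
    rw [hψ₀apply x q hq]; exact Subtype.property _
  have hψ₀r : ψ₀.range = P := by
    have hle : ψ₀.range ≤ P := by rintro _ ⟨x, rfl⟩; exact hψ₀P x
    exact Subgroup.eq_of_le_of_card_ge hle (le_of_eq (Nat.card_congr (homEquiv F hψ₀F).toEquiv))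
  obtain ⟨ψ, hψ, hψψ₀⟩ := exists_aut_of_range_eq F hψ₀F hψ₀r
  have hψapply : ∀ x : P, ((ψ x : P) : Ω) = ψ₀ x := by
    intro x
    rw [← hψψ₀]; rfl
  -- φ ∘ ψ = φ'
  have hφψ : ∀ y : P, φ (ψ y) = φ' y := by
    intro y
    obtain ⟨q, hq⟩ := hd y
    have : ψ y = y * Subgroup.inclusion hQP q := Subtype.ext ((hψapply y).trans (hψ₀apply y q hq))
    rw [this, hq]
  have hfix : ∀ x : P, (x : Ω) ∈ Q → ψ x = x := by
    intro x hx
    apply F.injective_of_mem hφ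
    rw [hφψ, h x hx]
  have hmod : ∀ x : P, ((x⁻¹ * ψ x : P) : Ω) ∈ Q := by
    intro x
    obtain ⟨q, hq⟩ := hd x
    have : ψ x = x * Subgroup.inclusion hQP q := Subtype.ext ((hψapply x).trans (hψ₀apply x q hq))
    rw [this, inv_mul_cancel_left]
    exact q.2
  obtain ⟨z, hzQ, hzC, hz⟩ := exists_conj_of_fixes_centric p hS F hF hPS hQP hQ hψ hfix hmod
  exact ⟨z, hzQ, hzC, fun y => by rw [← hφψ y, hz y]⟩

theorem aux [Finite S] (p : ℕ) [Fact p.Prime] (hS : IsPGroup p S)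
    (F : FusionSystem S) (hF : F.IsSaturated p) :
    ∀ (n : ℕ) (P Q : Subgroup Ω), Q ≤ P → Nat.card P - Nat.card Q = n → F.IsCentric Q →
      ∀ φ φ' : P →* Ω, φ ∈ F.Hom P → φ' ∈ F.Hom P → (∀ x : P, (x : Ω) ∈ Q → φ x = φ' x) →
      ∃ z : P, (z : Ω) ∈ Q ∧ (z : Ω) ∈ Subgroup.centralizer (Q : Set Ω) ∧
        ∀ y : P, φ' y = φ (z * y * z⁻¹) := by
  intro n
  induction n using Nat.strong_induction_on with
  | _ n ih =>
  intro P Q hQP hn hQ φ φ' hφ hφ' h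
  have hPS : P ≤ S := (F.le_of_mem hφ).1
  haveI : Finite P := finite_of_le_finite hPS
  have hPp : IsPGroup p P := hS.to_le hPS
  by_cases hQeq : Q = P
  · refine ⟨1, Q.one_mem, Subgroup.one_mem _, fun y => ?_⟩
    have : (y : Ω) ∈ Q := by rw [hQeq]; exact y.2
    rw [← h y this]; simp
  · -- N = N_P(Q)
    obtain ⟨g₀, hg₀N, hg₀Q⟩ := exists_mem_normalizerIn_not_mem hPp hQP hQeq
    set N := normalizerIn P Q with hN
    have hNP : N ≤ P := normalizerIn_le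
    have hQN : Q ≤ N := le_normalizerIn hQP
    have hNS : N ≤ S := hNP.trans hPS
    have hcardlt : Nat.card Q < Nat.card N := card_lt_of_lt hNS (lt_of_le_of_ne hQN (fun h => hg₀Q (h ▸ hg₀N)))
    have hcardNP : Nat.card N ≤ Nat.card P := Subgroup.card_le_of_le hNP
    have hnormN : ∀ g ∈ N, ∀ q ∈ Q, g * q * g⁻¹ ∈ Q :=
      fun g hg q hq => (Subgroup.mem_normalizer_iff.mp hg.2 q).mp hq
    -- normal case on N
    have hφN := restrict_mem F hNP hφ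
    have hφ'N := restrict_mem F hNP hφ'
    obtain ⟨z₁, hz₁Q, hz₁C, hz₁⟩ := normal_case p hS F hF hQN hnormN hQ hφN hφ'N
      (fun x hx => h (Subgroup.inclusion hNP x) hx)
    -- φ₁ = φ ∘ c_{z₁}
    set w₁ : P := Subgroup.inclusion hNP z₁ with hw₁
    have hcz : conjHom P (w₁ : Ω) ∈ F.Hom P := F.conj_mem hPS (hPS w₁.2)
    have hczP : ∀ y : P, conjHom P (w₁ : Ω) y ∈ P := fun y =>
      P.mul_mem (P.mul_mem w₁.2 y.2) (P.inv_mem w₁.2)
    set φ₁ : P →* Ω := φ.comp ((conjHom P (w₁ : Ω)).codRestrict P hczP) with hφ₁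
    have hφ₁F : φ₁ ∈ F.Hom P := F.comp_mem hcz hφ hczP
    have hφ₁apply : ∀ y : P, φ₁ y = φ (w₁ * y * w₁⁻¹) := by
      intro y
      show φ ⟨(w₁ : Ω) * y * (w₁ : Ω)⁻¹, _⟩ = _
      congr 1
    have hagree : ∀ x : P, (x : Ω) ∈ N → φ₁ x = φ' x := by
      intro x hx
      have := hz₁ ⟨x, hx⟩
      rw [hφ₁apply]
      exact this.symm
    have hNcen : F.IsCentric N := isCentric_of_le F hQ hQN hNS
    obtain ⟨z₂, hz₂N, hz₂C, hz₂⟩ := ih (Nat.card P - Nat.card N) (by omega) P N hNP rfl hNcen φ₁ φ'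
      hφ₁F hφ' hagree
    -- z₂ ∈ C_S(Q) ≤ Q
    have hz₂Q : (z₂ : Ω) ∈ Q := by
      apply hQ.2 Q (isConj_refl F (hQN.trans hNS))
      rw [mem_centralizerIn]
      refine ⟨hPS z₂.2, fun q hq => ?_⟩
      exact Subgroup.mem_centralizer_iff.mp hz₂C q (hQN hq)
    refine ⟨w₁ * z₂, Q.mul_mem hz₁Q hz₂Q, ?_, fun y => ?_⟩
    · apply Subgroup.mem_centralizer_iff.mpr
      intro q hq
      have e1 := Subgroup.mem_centralizer_iff.mp hz₁C q hq
      have e2 := Subgroup.mem_centralizer_iff.mp hz₂C q (hQN hq)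
      show q * ((w₁ : Ω) * (z₂ : Ω)) = (w₁ : Ω) * (z₂ : Ω) * q
      have e1' : q * (w₁ : Ω) = (w₁ : Ω) * q := e1
      calc q * ((w₁ : Ω) * (z₂ : Ω)) = (q * (w₁ : Ω)) * (z₂ : Ω) := by group
        _ = (w₁ : Ω) * (q * (z₂ : Ω)) := by rw [e1']; group
        _ = (w₁ : Ω) * (z₂ : Ω) * q := by rw [e2]; group
    · rw [hz₂ y, hφ₁apply]
      congr 1
      group

theorem result {Ω : Type*} [Group Ω] {S : Subgroup Ω} [Finite S] (p : ℕ) [Fact p.Prime] (hS : IsPGroup p S) (F : Cfsg.FusionSystem S) (hF : F.IsSaturated p) (P Q : Subgroup Ω) (hQP : Q ≤ P) (hQ : F.IsCentric Q) (φ φ' : P →* Ω) (hφ : φ ∈ F.Hom P) (hφ' : φ' ∈ F.Hom P) (h : ∀ x : P, (x : Ω) ∈ Q → φ x = φ' x) : ∃ z : P, (z : Ω) ∈ Q ∧ (z : Ω) ∈ Subgroup.centralizer (Q : Set Ω) ∧ ∀ y : P, φ' y = φ (z * y * z⁻¹) :=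
  aux p hS F hF _ P Q hQP rfl hQ φ φ' hφ hφ' h

end Cfsg.Agent.S5095
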