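import Mathlib
import Cfsg.Statements.S5100
import Cfsg.Agent.Lib.Helper25.FusionSylow

set_option autoImplicit false
open Cfsg

namespace Cfsg.Agent.S5100

open Cfsg.Agent.Helper25 Cfsg.FusionSystem

/-- In the fusion system of a finite group G on a Sylow p-subgroup S, a subgroup P ≤ S is fully normalized if and only if N_S(P) is a Sylow p-subgroup of N_G(P). -/
theorem result {G : Type*} [Group G] [Finite G] (p : ℕ) [Fact p.Prime] (S : Sylow p G) (P : Subgroup G) (hP : P ≤ S) : (Cfsg.groupFusionSystem (S : Subgroup G)).IsFullyNormalized P ↔ ∃ R : Sylow p ↥(Subgroup.normalizer (P : Set G)), (R : Subgroup ↥(Subgroup.normalizer (P : Set G))) = (Cfsg.FusionSystem.normalizerIn (S : Subgroup G) P).subgroupOf (Subgroup.normalizer (P : Set G)) := by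
  have hle : normalizerIn (S : Subgroup G) P ≤ Subgroup.normalizer (P : Set G) := inf_le_right
  rw [← isSylowIn_iff_exists_sylow hle]
  unfold normalizerIn
  rw [← fully_iff_isSylowIn (fun X => Subgroup.normalizer (X : Set G))
    (fun X g => normalizer_conjBy X g) (fun X => le_rfl) S hP]
  unfold FusionSystem.IsFullyNormalized normalizerIn
  constructor
  · rintro ⟨-, h⟩ g hg
    exact h _ (groupFusionSystem_isConj_iff.mpr ⟨hP, hg, g, rfl⟩)
  · intro h
    refine ⟨hP, fun Q hQ => ?_⟩
    obtain ⟨-, hQS, g, rfl⟩ := groupFusionSystem_isConj_iff.mp hQ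
    exact h g hQS

end Cfsg.Agent.S5100
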