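import Mathlib
import Cfsg.Statements.S5102
import Cfsg.Agent.Lib.Helper25.FusionNormal

set_option autoImplicit false
open Cfsg

namespace Cfsg.Agent.S5102

open Cfsg.Agent.Helper25 Cfsg.FusionSystem

/-- A normal p-subgroup of a finite group G is normal in the fusion system of G on a Sylow p-subgroup. -/
theorem result {G : Type*} [Group G] [Finite G] (p : ℕ) [Fact p.Prime] (S : Sylow p G) (R : Subgroup G) [R.Normal] (hR : IsPGroup p R) : (Cfsg.groupFusionSystem (S : Subgroup G)).IsNormal R := by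
  have hRS : R ≤ (S : Subgroup G) := hR.le_sylow_of_normal S
  refine ⟨hRS, fun P φ hφ => ?_⟩
  obtain ⟨hPS, hφS, g, hg⟩ := hφ
  have hconjR : ∀ x ∈ R, g * x * g⁻¹ ∈ R := fun x hx => ‹R.Normal›.conj_mem x hx g
  have hval : ∀ x ∈ P ⊔ R, g * x * g⁻¹ ∈ (S : Subgroup G) := by
    intro x hx
    refine sup_induction (C := fun x => g * x * g⁻¹ ∈ (S : Subgroup G)) ?_ ?_ ?_ hx
    · intro x hx
      have := hφS ⟨x, hx⟩
      rwa [hg] at this
    · intro x hx
      exact hRS (hconjR x hx)
    · intro a b _ _ ha hb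
      have : g * (a * b) * g⁻¹ = (g * a * g⁻¹) * (g * b * g⁻¹) := by group
      rw [this]; exact Subgroup.mul_mem _ ha hb
  refine ⟨conjHom (P ⊔ R) g, ⟨sup_le hPS hRS, fun x => hval x x.2, g, fun x => rfl⟩, fun x => ?_, ?_⟩
  · rw [hg]; rfl
  · ext y
    rw [mem_map_subgroupOf]
    constructor
    · rintro ⟨x, hK, hxR, rfl⟩
      exact hconjR x hxR
    · intro hy
      refine ⟨g⁻¹ * y * g, le_sup_right (a := P) ?_, ?_, ?_⟩
      · have := ‹R.Normal›.conj_mem y hy g⁻¹
        simpa using this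
      · have := ‹R.Normal›.conj_mem y hy g⁻¹
        simpa using this
      · show g * (g⁻¹ * y * g) * g⁻¹ = y
        group

end Cfsg.Agent.S5102
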