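import Mathlib
import Cfsg.Statements.S5103
import Cfsg.Agent.Lib.Helper25.FusionRealized

set_option autoImplicit false
open Cfsg

namespace Cfsg.Agent.S5103

open Cfsg.FusionSystem Cfsg.Agent.Helper25 in
/-- A fusion system over a finite p-group that has a model (a finite group realizing it on a Sylow p-subgroup with self-centralizing largest normal p-subgroup) is constrained. -/
theorem result {Ω : Type*} [Group Ω] {S : Subgroup Ω} [Finite S] (p : ℕ) [Fact p.Prime] (hS : IsPGroup p S) (F : Cfsg.FusionSystem S) {G : Type*} [Group G] (ι : S →* G) (hG : F.IsModel p G ι) : F.IsConstrained p := by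
  obtain ⟨hfin, hreal, ⟨T, hT⟩, hcen⟩ := hG
  haveI := hfin
  refine ⟨isSaturated_of_realized F ι hreal T hT, ?_⟩
  obtain ⟨hι, hr⟩ := hreal
  have hOn : (pCore p G).Normal := Subgroup.sSup_normal _ (fun _ hH => hH.1)
  have hOp : IsPGroup p (pCore p G) := Sylow.sSup_of_normal _ (fun _ h => h.2) (fun _ h => h.1)
  have hOT : pCore p G ≤ ι.range := hT ▸ hOp.le_sylow_of_normal T
  obtain ⟨Q, hQdef⟩ : ∃ Q : Subgroup Ω, Q = ((pCore p G).comap ι).map S.subtype := ⟨_, rfl⟩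
  have hmemQ : ∀ y : Ω, y ∈ Q ↔ ∃ h : y ∈ S, ι ⟨y, h⟩ ∈ pCore p G := by
    intro y
    rw [hQdef]
    constructor
    · rintro ⟨s, hs, rfl⟩
      exact ⟨s.2, hs⟩
    · rintro ⟨h, hy⟩
      exact ⟨⟨y, h⟩, hy, rfl⟩
  have hQS : Q ≤ S := fun y hy => ((hmemQ y).mp hy).1
  -- conjugation by an element of G realizing a map preserves Q
  have hconjO : ∀ g : G, ∀ o ∈ pCore p G, g * o * g⁻¹ ∈ pCore p G := fun g o ho => hOn.conj_mem o ho g
  have hconjO' : ∀ g : G, ∀ o ∈ pCore p G, g⁻¹ * o * g ∈ pCore p G := by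
    intro g o ho
    have := hOn.conj_mem o ho g⁻¹
    simpa using this
  -- elements of Q from elements of O
  have hexQ : ∀ o ∈ pCore p G, ∃ s : S, (s : Ω) ∈ Q ∧ ι s = o := by
    intro o ho
    obtain ⟨s, rfl⟩ := hOT ho
    exact ⟨s, (hmemQ _).mpr ⟨s.2, ho⟩, rfl⟩
  refine ⟨Q, ⟨hQS, ?_⟩, ⟨hQS, ?_⟩⟩
  · -- normal
    intro P φ hφ
    obtain ⟨hPS, hφS⟩ := F.le_of_mem hφ
    obtain ⟨g, hg⟩ := (hr P hPS φ hφS).mp hφ
    have hPQS : P ⊔ Q ≤ S := sup_le hPS hQS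
    obtain ⟨K', hK'⟩ : ∃ K' : Subgroup S, K' = (ι.range.comap (MulAut.conj g).toMonoidHom).comap ι :=
      ⟨_, rfl⟩
    have hmemK' : ∀ s : S, s ∈ K' ↔ g * ι s * g⁻¹ ∈ ι.range := by
      intro s
      rw [hK']
      rfl
    have hPK : P ≤ K'.map S.subtype := by
      intro x hx
      refine ⟨⟨x, hPS hx⟩, ?_, rfl⟩
      rw [SetLike.mem_coe, hmemK', ← hg ⟨x, hx⟩]
      exact ⟨_, rfl⟩
    have hQK : Q ≤ K'.map S.subtype := by
      intro x hx
      obtain ⟨hxS, hxO⟩ := (hmemQ x).mp hx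
      refine ⟨⟨x, hxS⟩, ?_, rfl⟩
      rw [SetLike.mem_coe, hmemK']
      exact hOT (hconjO g _ hxO)
    have hval : ∀ y : ↥(P ⊔ Q), ((MulAut.conj g).toMonoidHom.comp (ι.comp (Subgroup.inclusion hPQS))) y
        ∈ ι.range := by
      intro y
      obtain ⟨s, hs, hsy⟩ := (sup_le hPK hQK) y.2
      have : Subgroup.inclusion hPQS y = s := Subtype.ext hsy.symm
      show g * ι (Subgroup.inclusion hPQS y) * g⁻¹ ∈ ι.range
      rw [this]
      exact (hmemK' s).mp hs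
    obtain ⟨ψ, hψdef⟩ : ∃ ψ : ↥(P ⊔ Q) →* Ω, ψ = (realInv ι hι).comp
        (((MulAut.conj g).toMonoidHom.comp (ι.comp (Subgroup.inclusion hPQS))).codRestrict
          ι.range hval) := ⟨_, rfl⟩
    have hψS : ∀ y, ψ y ∈ S := by
      intro y; rw [hψdef]; exact realInv_mem ι hι _
    have hιψ : ∀ y : ↥(P ⊔ Q), ι ⟨ψ y, hψS y⟩ = g * ι ⟨y, hPQS y.2⟩ * g⁻¹ := by
      intro y
      have h1 := map_realInv ι hι ((((MulAut.conj g).toMonoidHom.comp
        (ι.comp (Subgroup.inclusion hPQS))).codRestrict ι.range hval) y)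
      have e : (⟨ψ y, hψS y⟩ : S) = ⟨realInv ι hι ((((MulAut.conj g).toMonoidHom.comp
        (ι.comp (Subgroup.inclusion hPQS))).codRestrict ι.range hval) y), realInv_mem ι hι _⟩ := by
        apply Subtype.ext
        show ψ y = realInv ι hι ((((MulAut.conj g).toMonoidHom.comp
          (ι.comp (Subgroup.inclusion hPQS))).codRestrict ι.range hval) y)
        rw [hψdef]
        rfl
      rw [e, h1]
      rfl
    have hψF : ψ ∈ F.Hom (P ⊔ Q) := (hr _ hPQS ψ hψS).mpr ⟨g, hιψ⟩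
    refine ⟨ψ, hψF, fun x => ?_, ?_⟩
    · have h1 := hιψ (Subgroup.inclusion le_sup_left x)
      have h2 := hg x
      have h3 : ι ⟨ψ (Subgroup.inclusion le_sup_left x), hψS _⟩ = ι ⟨φ x, hφS x⟩ := by
        rw [h1, h2]
        rfl
      exact congrArg Subtype.val (hι h3)
    · ext z
      constructor
      · rintro ⟨y, hy, rfl⟩
        rw [hmemQ]
        refine ⟨hψS y, ?_⟩
        rw [hιψ y]
        apply hconjO
        exact ((hmemQ _).mp (Subgroup.mem_subgroupOf.mp hy)).2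
      · intro hz
        obtain ⟨hzS, hzO⟩ := (hmemQ z).mp hz
        obtain ⟨s, hsQ, hs⟩ := hexQ _ (hconjO' g _ hzO)
        refine ⟨⟨s, (le_sup_right : Q ≤ P ⊔ Q) hsQ⟩, Subgroup.mem_subgroupOf.mpr hsQ, ?_⟩
        have h1 := hιψ ⟨s, (le_sup_right : Q ≤ P ⊔ Q) hsQ⟩
        have h3 : ι ⟨ψ ⟨s, (le_sup_right : Q ≤ P ⊔ Q) hsQ⟩, hψS _⟩ = ι ⟨z, hzS⟩ := by
          rw [h1]
          have : (⟨((s : S) : Ω), hPQS ((le_sup_right : Q ≤ P ⊔ Q) hsQ)⟩ : S) = s := Subtype.ext rfl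
          rw [this, hs]
          group
        exact congrArg Subtype.val (hι h3)
  · -- centric
    rintro Q₂ ⟨φ, hφ, rfl⟩
    obtain ⟨-, hφS⟩ := F.le_of_mem hφ
    obtain ⟨g, hg⟩ := (hr Q hQS φ hφS).mp hφ
    have hrange : φ.range = Q := by
      ext z
      constructor
      · rintro ⟨q, rfl⟩
        rw [hmemQ]
        refine ⟨hφS q, ?_⟩
        rw [hg q]
        exact hconjO g _ ((hmemQ _).mp q.2).2
      · intro hz
        obtain ⟨hzS, hzO⟩ := (hmemQ z).mp hz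
        obtain ⟨s, hsQ, hs⟩ := hexQ _ (hconjO' g _ hzO)
        refine ⟨⟨s, hsQ⟩, ?_⟩
        have h3 : ι ⟨φ ⟨s, hsQ⟩, hφS _⟩ = ι ⟨z, hzS⟩ := by
          rw [hg]
          have : (⟨((⟨(s : Ω), hsQ⟩ : Q) : Ω), hQS hsQ⟩ : S) = s := Subtype.ext rfl
          rw [this, hs]
          group
        exact congrArg Subtype.val (hι h3)
    rw [hrange]
    intro c hc
    obtain ⟨hcS, hcC⟩ := mem_centralizerIn.mp hc
    rw [hmemQ]
    refine ⟨hcS, hcen ?_⟩
    rw [Subgroup.mem_centralizer_iff]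
    intro o ho
    obtain ⟨s, hsQ, rfl⟩ := hexQ o ho
    have h1 := hcC s hsQ
    have h2 : s * ⟨c, hcS⟩ = ⟨c, hcS⟩ * s := Subtype.ext h1
    rw [← map_mul, ← map_mul, h2]

end Cfsg.Agent.S5103
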