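import Mathlib
import Cfsg.Statements.S5104
import Cfsg.Agent.Lib.Helper25.Fusion

set_option autoImplicit false
open Cfsg

namespace Cfsg.Agent.S5104

open Cfsg.Agent.Helper25 Cfsg.FusionSystem

/-- In a saturated fusion system over a finite p-group S, a fully centralized subgroup U with C_S(U) ≤ U is centric. -/
theorem result {Ω : Type*} [Group Ω] {S : Subgroup Ω} [Finite S] (p : ℕ) [Fact p.Prime] (hS : IsPGroup p S) (F : Cfsg.FusionSystem S) (hF : F.IsSaturated p) (U : Subgroup Ω) (hU : F.IsFullyCentralized U) (hC : Cfsg.FusionSystem.centralizerIn S U ≤ U) : F.IsCentric U := by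
  refine ⟨hU.1, fun Q hQ => ?_⟩
  have hQS : Q ≤ S := isConj_le_right F hQ
  have hcard := hU.2 Q hQ
  obtain ⟨φ, hφ, rfl⟩ := hQ
  have hinj := F.injective_of_mem hφ
  -- Z(Q) := Q ⊓ centralizer Q
  have hZle : φ.range ⊓ Subgroup.centralizer (φ.range : Set Ω) ≤ centralizerIn S φ.range := by
    intro g hg
    exact ⟨hQS hg.1, hg.2⟩
  haveI : Finite (centralizerIn S φ.range) :=
    Finite.of_injective (Subgroup.inclusion (centralizerIn_le (S := S) (P := φ.range)))
      (Subgroup.inclusion_injective _)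
  -- an injection C_S(U) → Z(Q)
  have hmap : ∀ c : centralizerIn S U, φ ⟨c, hC c.2⟩ ∈
      φ.range ⊓ Subgroup.centralizer (φ.range : Set Ω) := by
    intro c
    refine ⟨⟨_, rfl⟩, ?_⟩
    apply Subgroup.mem_centralizer_iff.mpr
    rintro _ ⟨x, rfl⟩
    rw [← map_mul, ← map_mul]
    congr 1
    apply Subtype.ext
    exact (mem_centralizerIn.mp c.2).2 x x.2
  haveI : Finite (φ.range ⊓ Subgroup.centralizer (φ.range : Set Ω) : Subgroup Ω) :=
    Finite.of_injective (Subgroup.inclusion hZle) (Subgroup.inclusion_injective _)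
  have hle : Nat.card (centralizerIn S U) ≤
      Nat.card (φ.range ⊓ Subgroup.centralizer (φ.range : Set Ω) : Subgroup Ω) := by
    refine Nat.card_le_card_of_injective (fun c => ⟨φ ⟨c, hC c.2⟩, hmap c⟩) ?_
    intro c d hcd
    have h1 : φ ⟨c, hC c.2⟩ = φ ⟨d, hC d.2⟩ := congrArg Subtype.val hcd
    have h2 := hinj h1
    have h3 : ((⟨c, hC c.2⟩ : U) : Ω) = ((⟨d, hC d.2⟩ : U) : Ω) := congrArg Subtype.val h2
    exact Subtype.ext h3
  have heq := Subgroup.eq_of_le_of_card_ge hZle (hcard.trans hle)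
  rw [← heq]
  exact inf_le_left

end Cfsg.Agent.S5104
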