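import Mathlib
import Cfsg.Statements.S5106
import Cfsg.Agent.Lib.Helper25.FusionNormal3

set_option autoImplicit false

namespace Cfsg.Agent.S5106

open Cfsg Cfsg.FusionSystem Cfsg.Agent.Helper25

variable {Ω : Type*} [Group Ω] {S : Subgroup Ω}

/-- The auxiliary condition on automorphisms of `P` relative to `R`. -/
def RStab (F : FusionSystem S) (R P : Subgroup Ω) (β : MulAut P) : Prop :=
  β ∈ F.autGroup P ∧ (∃ r ∈ R, ∀ y : P, (y : Ω) ∈ R → ((β y : P) : Ω) = r * (y : Ω) * r⁻¹) ∧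
    ∀ y : P, (y : Ω)⁻¹ * ((β y : P) : Ω) ∈ R

theorem RStab.one (F : FusionSystem S) (R P : Subgroup Ω) : RStab F R P 1 :=
  ⟨Subgroup.one_mem _, ⟨1, R.one_mem, fun y _ => by simp⟩, fun y => by simp⟩

theorem RStab.mul {F : FusionSystem S} {R P : Subgroup Ω} {β γ : MulAut P} (hβ : RStab F R P β)
    (hγ : RStab F R P γ) : RStab F R P (β * γ) := by
  obtain ⟨hβA, ⟨r, hr, hβr⟩, hβ3⟩ := hβ
  obtain ⟨hγA, ⟨s, hs, hγs⟩, hγ3⟩ := hγ
  refine ⟨Subgroup.mul_mem _ hβA hγA, ⟨r * s, R.mul_mem hr hs, fun y hy => ?_⟩, fun y => ?_⟩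
  · rw [MulAut.mul_apply]
    have h1 : ((γ y : P) : Ω) ∈ R := by
      rw [hγs y hy]; exact R.mul_mem (R.mul_mem hs hy) (R.inv_mem hs)
    rw [hβr (γ y) h1, hγs y hy]
    group
  · rw [MulAut.mul_apply]
    have : (y : Ω)⁻¹ * ((β (γ y) : P) : Ω) =
        ((y : Ω)⁻¹ * ((γ y : P) : Ω)) * (((γ y : P) : Ω)⁻¹ * ((β (γ y) : P) : Ω)) := by group
    rw [this]
    exact R.mul_mem (hγ3 y) (hβ3 (γ y))

theorem RStab.pow {F : FusionSystem S} {R P : Subgroup Ω} {β : MulAut P} (hβ : RStab F R P β) (n : ℕ) :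
    RStab F R P (β ^ n) := by
  induction n with
  | zero => simpa using RStab.one F R P
  | succ n ih => rw [pow_succ]; exact ih.mul hβ

theorem RStab.inv {F : FusionSystem S} {R P : Subgroup Ω} [Finite P] {β : MulAut P}
    (hβ : RStab F R P β) : RStab F R P β⁻¹ := by
  have h1 : β ^ (orderOf β - 1) * β = 1 := by
    rw [← pow_succ, Nat.sub_add_cancel (orderOf_pos β), pow_orderOf_eq_one]
  have h2 : β⁻¹ = β ^ (orderOf β - 1) := (eq_inv_of_mul_eq_one_left h1).symm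
  rw [h2]; exact hβ.pow _

/-- The subgroup of `Aut_F(P)` cut out by `RStab`. -/
def rStabSubgroup (F : FusionSystem S) (R P : Subgroup Ω) [Finite P] : Subgroup (MulAut P) where
  carrier := {β | RStab F R P β}
  one_mem' := RStab.one F R P
  mul_mem' := fun hβ hγ => hβ.mul hγ
  inv_mem' := fun hβ => hβ.inv

theorem rstab_pow_apply {R P : Subgroup Ω} {β : MulAut P} {r : Ω} (hr : r ∈ R)
    (hβr : ∀ y : P, (y : Ω) ∈ R → ((β y : P) : Ω) = r * (y : Ω) * r⁻¹) (n : ℕ) :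
    ∀ y : P, (y : Ω) ∈ R → (((β ^ n) y : P) : Ω) = r ^ n * (y : Ω) * (r ^ n)⁻¹ := by
  induction n with
  | zero => intro y _; simp
  | succ n ih =>
    intro y hy
    rw [pow_succ', MulAut.mul_apply]
    have h1 : (((β ^ n) y : P) : Ω) ∈ R := by
      rw [ih y hy]; exact R.mul_mem (R.mul_mem (R.pow_mem hr n) hy) (R.inv_mem (R.pow_mem hr n))
    rw [hβr _ h1, ih y hy, pow_succ']
    group

theorem result {Ω : Type*} [Group Ω] {S : Subgroup Ω} [Finite S] (p : ℕ) [Fact p.Prime] (hS : IsPGroup p S) (F : Cfsg.FusionSystem S) (hF : F.IsSaturated p) (R : Subgroup Ω) (hRS : R ≤ S) : F.IsNormal R ↔ ∀ (P : Subgroup Ω) (hPR : P ≤ R) (φ : P →* Ω), φ ∈ F.Hom P → ∃ α ∈ F.autGroup R, ∀ x : P, ((α (Subgroup.inclusion hPR x) : R) : Ω) = φ x := by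
  constructor
  · intro hR P hPR φ hφ
    obtain ⟨ψ, hψ, hψP, himg⟩ := hR.2 P φ hφ
    have hle : R ≤ P ⊔ R := le_sup_right
    have hψR := restrict_mem F hle hψ
    have hrange : (ψ.comp (Subgroup.inclusion hle)).range = R := by
      ext y
      constructor
      · rintro ⟨x, rfl⟩
        have h1 : ψ (Subgroup.inclusion hle x) ∈ (R.subgroupOf (P ⊔ R)).map ψ := by
          rw [mem_map_subgroupOf]; exact ⟨x, hle x.2, x.2, rfl⟩
        rw [himg] at h1
        exact h1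
      · intro hy
        have h1 : y ∈ (R.subgroupOf (P ⊔ R)).map ψ := by rw [himg]; exact hy
        rw [mem_map_subgroupOf] at h1
        obtain ⟨x, hK, hx, rfl⟩ := h1
        exact ⟨⟨x, hx⟩, rfl⟩
    obtain ⟨α, hα, hαψ⟩ := exists_aut_of_range_eq F hψR hrange
    refine ⟨α, hα, fun x => ?_⟩
    have h1 : ((α (Subgroup.inclusion hPR x) : R) : Ω) =
        (R.subtype.comp α.toMonoidHom) (Subgroup.inclusion hPR x) := rfl
    rw [h1, hαψ, ← hψP x]
    rfl
  · intro H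
    have hsc : F.StronglyClosed R := by
      refine ⟨hRS, fun P hPR φ hφ x => ?_⟩
      obtain ⟨α, -, hα⟩ := H P hPR φ hφ
      rw [← hα x]; exact (α _).2
    apply isNormal_of_stronglyClosed_of_forall p hS F hF hsc
    intro P hc hr x hxR hxN
    have hPS : P ≤ S := hc.1
    haveI : Finite P := finite_of_le_finite hPS
    have hPp : IsPGroup p P := hS.to_le hPS
    set A := F.autGroup P with hA
    set B := rStabSubgroup F R P with hB
    have hBA : B ≤ A := fun β hβ => hβ.1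
    -- B is normal in A
    have hBnorm : (B.subgroupOf A).Normal := by
      constructor
      rintro ⟨β, hβA⟩ hβ ⟨α, hαA⟩
      have hβB : RStab F R P β := Subgroup.mem_subgroupOf.mp hβ
      apply Subgroup.mem_subgroupOf.mpr
      show RStab F R P (α * β * α⁻¹)
      obtain ⟨-, ⟨r, hr, hβr⟩, hβ3⟩ := hβB
      have hαinvA : α⁻¹ ∈ A := Subgroup.inv_mem _ hαA
      -- extension of α restricted to P ⊓ R to an automorphism of R
      have hαF := (mem_autGroup_iff F hPS α).mp hαA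
      have hle : P ⊓ R ≤ P := inf_le_left
      have hα₀ := restrict_mem F hle hαF
      obtain ⟨αhat, -, hαhat⟩ := H (P ⊓ R) inf_le_right _ hα₀
      refine ⟨Subgroup.mul_mem _ (Subgroup.mul_mem _ hαA hβA) hαinvA,
        ⟨((αhat ⟨r, hr⟩ : R) : Ω), (αhat ⟨r, hr⟩).2, fun y hy => ?_⟩, fun y => ?_⟩
      · rw [MulAut.mul_apply, MulAut.mul_apply]
        set z := α⁻¹ y with hz
        have hzR : (z : Ω) ∈ R := aut_mem_of_stronglyClosed F hsc hPS hαinvA hy
        have hβz : ((β z : P) : Ω) = r * (z : Ω) * r⁻¹ := hβr z hzR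
        have hβzR : ((β z : P) : Ω) ∈ R := by
          rw [hβz]; exact R.mul_mem (R.mul_mem hr hzR) (R.inv_mem hr)
        have h1 := hαhat ⟨((β z : P) : Ω), ⟨(β z).2, hβzR⟩⟩
        have h2 := hαhat ⟨(z : Ω), ⟨z.2, hzR⟩⟩
        have h1' : ((α (β z) : P) : Ω) =
            ((αhat ⟨((β z : P) : Ω), hβzR⟩ : R) : Ω) := h1.symm
        have h2' : ((α z : P) : Ω) = ((αhat ⟨(z : Ω), hzR⟩ : R) : Ω) := h2.symm
        have hαz : α z = y := by rw [hz]; simp
        rw [h1']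
        have e : (⟨((β z : P) : Ω), hβzR⟩ : R) = ⟨r, hr⟩ * ⟨(z : Ω), hzR⟩ * ⟨r, hr⟩⁻¹ :=
          Subtype.ext hβz
        rw [e, map_mul, map_mul, map_inv]
        show ((αhat ⟨r, hr⟩ : R) : Ω) * ((αhat ⟨(z : Ω), hzR⟩ : R) : Ω) * ((αhat ⟨r, hr⟩ : R) : Ω)⁻¹ = _
        rw [← h2', hαz]
      · rw [MulAut.mul_apply, MulAut.mul_apply]
        set z := α⁻¹ y with hz
        have hαz : α z = y := by rw [hz]; simp
        have h3 := hβ3 z
        have h4 : ((z⁻¹ * β z : P) : Ω) ∈ R := h3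
        have h5 := aut_mem_of_stronglyClosed F hsc hPS hαA h4
        rw [map_mul, map_inv, hαz] at h5
        exact h5
    -- B is a p-group
    have hBp : IsPGroup p B := by
      rintro ⟨β, hβ⟩
      have hβ' : RStab F R P β := hβ
      obtain ⟨hβA, ⟨r, hr, hβr⟩, hβ3⟩ := hβ'
      obtain ⟨k, hk⟩ := hS ⟨r, hRS hr⟩
      have hk' : r ^ p ^ k = 1 := congrArg Subtype.val hk
      obtain ⟨n, hn⟩ := hPp.exists_card_eq
      refine ⟨k + n, Subtype.ext ?_⟩
      show β ^ p ^ (k + n) = 1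
      have hfix : ∀ u ∈ R.subgroupOf P, (β ^ p ^ k) u = u := by
        intro u hu
        apply Subtype.ext
        rw [rstab_pow_apply hr hβr (p ^ k) u (Subgroup.mem_subgroupOf.mp hu), hk']
        simp
      have hst : ∀ y ∈ (⊤ : Subgroup P), y⁻¹ * (β ^ p ^ k) y ∈ R.subgroupOf P := by
        intro y _
        exact Subgroup.mem_subgroupOf.mpr ((RStab.pow (hβ : RStab F R P β) (p ^ k)).2.2 y)
      have hkill : ∀ u ∈ R.subgroupOf P, u ^ p ^ n = 1 := by
        intro u _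
        rw [← hn]; exact pow_card_eq_one'
      have := pow_fixes_of_stabilizes hfix hst hkill
      rw [← pow_mul, ← pow_add] at this
      ext y
      exact congrArg Subtype.val (this y trivial)
    have hle : B.subgroupOf A ≤ pCore p A :=
      le_pCore' hBnorm (hBp.comap_of_injective A.subtype A.subtype_injective)
    -- c_x lies in B
    set β : MulAut P := P.normalizerMonoidHom ⟨x, hxN⟩ with hβ
    have hβA : β ∈ A := by
      apply autInducedBy_le_autGroup F hPS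
      exact (mem_autInducedBy_iff β).mpr ⟨x, hRS hxR, fun y => rfl⟩
    have hβB : β ∈ B := by
      refine ⟨hβA, ⟨x, hxR, fun y _ => rfl⟩, fun y => ?_⟩
      show (y : Ω)⁻¹ * (x * (y : Ω) * x⁻¹) ∈ R
      have h1 := conj_mem_of_stronglyClosed' F hsc (hPS y.2) hxR
      have : (y : Ω)⁻¹ * (x * (y : Ω) * x⁻¹) = ((y : Ω)⁻¹ * x * (y : Ω)) * x⁻¹ := by group
      rw [this]
      exact R.mul_mem h1 (R.inv_mem hxR)
    exact ⟨⟨β, hβA⟩, hle (Subgroup.mem_subgroupOf.mpr hβB), rfl⟩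

end Cfsg.Agent.S5106
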