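import Mathlib
import Cfsg.Statements.S5107
import Cfsg.Agent.Lib.Helper25.FusionNormal3
import Cfsg.Agent.Lib.Helper25.FusionSylow3

set_option autoImplicit false

namespace Cfsg.Agent.S5107

open Cfsg Cfsg.FusionSystem Cfsg.Agent.Helper25

theorem result {G : Type*} [Group G] [Finite G] (p : ℕ) [Fact p.Prime] (S : Sylow p G) (hcl : ⁅(S : Subgroup G), (S : Subgroup G)⁆ ≤ (S : Subgroup G) ⊓ Subgroup.centralizer ((S : Subgroup G) : Set G)) (hZ : Cfsg.IsStronglyClosed ((S : Subgroup G) ⊓ Subgroup.centralizer ((S : Subgroup G) : Set G)) (S : Subgroup G)) : (∀ (P : Subgroup G) (φ : P →* G), φ ∈ (Cfsg.groupFusionSystem (S : Subgroup G)).Hom P → ∃ g ∈ Subgroup.normalizer ((S : Subgroup G) : Set G), ∀ x : P, φ x = g * (x : G) * g⁻¹) ∧ (Cfsg.groupFusionSystem (S : Subgroup G)).core = S := by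
  set F := Cfsg.groupFusionSystem (S : Subgroup G) with hF
  have hsat : F.IsSaturated p := groupFusionSystem_isSaturated p S
  have hSp : IsPGroup p (S : Subgroup G) := S.isPGroup'
  set Z := (S : Subgroup G) ⊓ Subgroup.centralizer ((S : Subgroup G) : Set G) with hZdef
  have hZsc : F.StronglyClosed Z := by
    refine ⟨inf_le_left, fun R hR φ hφ x => ?_⟩
    obtain ⟨-, hval, g, hg⟩ := hφ
    have := hval x
    rw [hg] at this ⊢
    exact hZ.2 _ (hR x.2) g this
  have hSsc : F.StronglyClosed (S : Subgroup G) :=
    ⟨le_rfl, fun R _ φ hφ x => (F.le_of_mem hφ).2 x⟩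
  have hSn : F.IsNormal (S : Subgroup G) := by
    apply isNormal_of_chain p hSp F hsat hSsc
      (fun i => if i = 0 then ⊥ else if i = 1 then Z else (S : Subgroup G)) 2
    · simp
    · intro i hi
      interval_cases i
      · simp
      · simp only [one_ne_zero, if_false, if_true]
        norm_num
        exact inf_le_left
    · intro i hi
      interval_cases i
      · simpa using stronglyClosed_bot F
      · simpa using hZsc
      · simpa using hSsc
    · intro i hi
      interval_cases i
      · simp only [zero_add, one_ne_zero, if_false, if_true]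
        rw [le_bot_iff, Subgroup.commutator_eq_bot_iff_le_centralizer]
        intro s hs
        apply Subgroup.mem_centralizer_iff.mpr
        intro z hz
        exact (Subgroup.mem_centralizer_iff.mp hz.2 s hs).symm
      · simp only [one_ne_zero, if_false, if_true]
        norm_num
        exact hcl
    · intro P _ _ α _
      refine ⟨0, fun y hy => ?_⟩
      simp only [if_true] at hy
      have : y = 1 := Subtype.ext (Subgroup.mem_bot.mp hy)
      rw [this, map_one]
  constructor
  · intro P φ hφ
    obtain ⟨ψ, hψ, hψP, himg⟩ := hSn.2 P φ hφ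
    obtain ⟨-, -, g, hg⟩ := hψ
    refine ⟨g, ?_, fun x => ?_⟩
    · apply mem_normalizer_of_forall
      · intro s hs
        have : ψ ⟨s, le_sup_right (a := P) hs⟩ ∈ (Subgroup.subgroupOf (S : Subgroup G) (P ⊔ S)).map ψ := by
          rw [mem_map_subgroupOf]; exact ⟨s, _, hs, rfl⟩
        rw [himg, hg] at this
        exact this
      · intro s hs
        rw [← himg, mem_map_subgroupOf] at hs
        obtain ⟨s', hK, hs', rfl⟩ := hs
        rw [hg]
        have : g⁻¹ * (g * s' * g⁻¹) * g = s' := by group
        rw [this]; exact hs'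
    · rw [← hψP x, hg]; rfl
  · apply le_antisymm
    · apply sSup_le
      intro Q hQ
      exact hQ.1
    · exact le_sSup hSn

end Cfsg.Agent.S5107
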