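import Mathlib
import Cfsg.Statements.S5111
import Cfsg.Agent.Lib.Helper25.FusionRS

set_option autoImplicit false

namespace Cfsg.Agent.S5111

open Cfsg Cfsg.FusionSystem Cfsg.Agent.Helper25

theorem result {Ω : Type*} [Group Ω] {S : Subgroup Ω} [Finite S] (p : ℕ) [Fact p.Prime] (hS : IsPGroup p S) (F : Cfsg.FusionSystem S) : F.IsSaturated p ↔ (F.IsFullyAutomized p S ∧ ∀ P : Subgroup Ω, F.IsFullyNormalized P → F.IsReceptive P) := by
  constructor
  · intro hF
    exact ⟨isFullyAutomized_self p F hF, fun P hP => (of_fullyNormalized p hS F hF hP).2.2⟩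
  · rintro ⟨h1, h2⟩ P hP
    obtain ⟨Q, hconj, hFN⟩ := exists_isConj_fullyNormalized F hP
    exact ⟨Q, hconj, isFullyAutomized_of_fullyNormalized p hS F h1 h2 hFN, h2 Q hFN⟩

end Cfsg.Agent.S5111
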