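import Mathlib
import Cfsg.Statements.S5112
import Cfsg.Agent.Lib.Helper25.FusionRS
import Cfsg.Agent.Lib.Helper25.AutTwoGroup

set_option autoImplicit false

namespace Cfsg.Agent.S5112

open Cfsg Cfsg.FusionSystem Cfsg.Agent.Helper25

theorem result {Ω : Type*} [Group Ω] {S : Subgroup Ω} [Finite S] (n : ℕ) (hn : 4 ≤ n) (hshape : Nonempty (S ≃* DihedralGroup (2 ^ (n - 1))) ∨ Nonempty (S ≃* QuaternionGroup (2 ^ (n - 2)))) (F : Cfsg.FusionSystem S) (hF : F.IsSaturated 2) : F.autGroup S = Cfsg.Inn S := by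
  have hAut : IsPGroup 2 (MulAut S) := by
    rcases hshape with h | h
    all_goals obtain ⟨e⟩ := h
    · exact (isPGroup_mulAut_dihedral (n - 1) (by omega)).of_equiv (MulAut.congr e).symm
    · exact (isPGroup_mulAut_quaternion (n - 2) (by omega)).of_equiv (MulAut.congr e).symm
  have hp : IsPGroup 2 (F.autGroup S) := hAut.to_subgroup _
  have hFA := isFullyAutomized_self 2 F hF
  rw [← autInducedBy_eq_autGroup_of_isPGroup F 2 hFA hp]
  ext α
  rw [mem_autInducedBy_iff]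
  constructor
  · rintro ⟨g, hg, h⟩
    refine ⟨⟨g, hg⟩, ?_⟩
    ext x
    rw [h]; rfl
  · rintro ⟨g, rfl⟩
    exact ⟨g, g.2, fun x => rfl⟩

end Cfsg.Agent.S5112
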