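import Mathlib
import Cfsg.Statements.S5118
import Cfsg.Agent.Lib.Helper25.FusionSubSys
import Cfsg.Agent.Lib.Helper25.NormalSubsys

set_option autoImplicit false
open Cfsg

namespace Cfsg.Agent.S5118

open Cfsg.FusionSystem Cfsg.Agent.Helper25 in
/-- For a finite group G with Sylow p-subgroup S and a normal subgroup H, the fusion system of H on S ∩ H is a normal subsystem of the fusion system of G on S. -/
theorem result {G : Type*} [Group G] [Finite G] (p : ℕ) [Fact p.Prime] (S : Sylow p G) (H : Subgroup G) [H.Normal] : (Cfsg.fusionSystemOfSubgroup H ((S : Subgroup G) ⊓ H) inf_le_right).IsNormalIn (Cfsg.groupFusionSystem (S : Subgroup G)) p := by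
  have hHn : H.Normal := inferInstance
  have hTS : (S : Subgroup G) ⊓ H ≤ (S : Subgroup G) := inf_le_left
  have hTH : (S : Subgroup G) ⊓ H ≤ H := inf_le_right
  have hsyl : IsSylowIn p ((S : Subgroup G) ⊓ H) H :=
    (isSylowIn_top_of_sylow S).inf_of_normal le_top (fun n _ => conjBy_normal H n)
  have hEmem : ∀ {P : Subgroup G} {φ : P →* G},
      φ ∈ (fusionSystemOfSubgroup H ((S : Subgroup G) ⊓ H) inf_le_right).Hom P ↔
      P ≤ (S : Subgroup G) ⊓ H ∧ (∀ x : P, φ x ∈ (S : Subgroup G) ⊓ H) ∧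
        ∃ g ∈ H, ∀ x : P, φ x = g * (x : G) * g⁻¹ := fun {P φ} => Iff.rfl
  have hFmem : ∀ {P : Subgroup G} {φ : P →* G},
      φ ∈ (groupFusionSystem (S : Subgroup G)).Hom P ↔
      P ≤ (S : Subgroup G) ∧ (∀ x : P, φ x ∈ (S : Subgroup G)) ∧
        ∃ g : G, ∀ x : P, φ x = g * (x : G) * g⁻¹ := fun {P φ} => Iff.rfl
  have hconjH : ∀ (g x : G), x ∈ H → g * x * g⁻¹ ∈ H := fun g x hx => hHn.conj_mem x hx g
  refine ⟨⟨fusionSystemOfSubgroup_isSaturated hsyl, groupFusionSystem_isSaturated p S,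
    ?_, ⟨hTS, ?_⟩, ?_, ?_⟩, ?_⟩
  · -- subsystem
    intro P φ hφ
    obtain ⟨hPT, hφT, g, -, hg⟩ := hEmem.mp hφ
    exact hFmem.mpr ⟨hPT.trans hTS, fun x => (hφT x).1, g, hg⟩
  · -- strongly closed
    intro R hR φ hφ x
    obtain ⟨-, hφS, g, hg⟩ := hFmem.mp hφ
    refine ⟨hφS x, ?_⟩
    rw [hg]
    exact hconjH g _ (hR x.2).2
  · -- invariance
    intro P hPT φ hφ α hα
    obtain ⟨-, hφT, h, hhH, hh⟩ := hEmem.mp hφ
    obtain ⟨-, -, n, hn⟩ := hFmem.mp ((mem_autGroup_iff _ hTS α).mp hα)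
    have hn' : ∀ x : ↥((S : Subgroup G) ⊓ H), ((α x : ↥((S : Subgroup G) ⊓ H)) : G) = n * x * n⁻¹ :=
      fun x => hn x
    have hmemP₂ : ∀ y : G, y ∈ (P.subgroupOf ((S : Subgroup G) ⊓ H)).map
        (((S : Subgroup G) ⊓ H).subtype.comp α.toMonoidHom) ↔
        ∃ x : ↥((S : Subgroup G) ⊓ H), (x : G) ∈ P ∧ ((α x : ↥((S : Subgroup G) ⊓ H)) : G) = y := by
      intro y
      rw [Subgroup.mem_map]
      constructor
      · rintro ⟨x, hx, rfl⟩; exact ⟨x, Subgroup.mem_subgroupOf.mp hx, rfl⟩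
      · rintro ⟨x, hx, rfl⟩; exact ⟨x, Subgroup.mem_subgroupOf.mpr hx, rfl⟩
    have hkey : ∀ (x : P), n * h * n⁻¹ * (n * (x : G) * n⁻¹) * (n * h * n⁻¹)⁻¹ =
        n * φ x * n⁻¹ := by
      intro x
      rw [hh]; group
    refine ⟨conjHom _ (n * h * n⁻¹), hEmem.mpr ⟨?_, ?_, n * h * n⁻¹, hconjH n h hhH, fun y => rfl⟩, ?_⟩
    · intro y hy
      obtain ⟨x, -, rfl⟩ := (hmemP₂ y).mp hy
      exact (α x).2
    · rintro ⟨y, hy⟩
      obtain ⟨x, hxP, rfl⟩ := (hmemP₂ y).mp hy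
      rw [conjHom_apply]
      show n * h * n⁻¹ * ((α x : ↥((S : Subgroup G) ⊓ H)) : G) * (n * h * n⁻¹)⁻¹ ∈ _
      rw [hn', hkey ⟨x, hxP⟩, ← hn' ⟨φ ⟨x, hxP⟩, hφT _⟩]
      exact (α _).2
    · intro x hφx hαx
      rw [conjHom_apply]
      show n * h * n⁻¹ * ((α ⟨x, hPT x.2⟩ : ↥((S : Subgroup G) ⊓ H)) : G) * (n * h * n⁻¹)⁻¹ = _
      rw [hn', hkey x, hn']
  · -- Frattini
    intro P hPT φ hφ
    obtain ⟨-, hφS, g, hg⟩ := hFmem.mp hφ
    obtain ⟨R, hR⟩ := (isSylowIn_iff_exists_sylow hsyl.le).mp hsyl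
    have hfrat := Sylow.normalizer_sup_eq_top R
    have hmap : (R : Subgroup H).map H.subtype = (S : Subgroup G) ⊓ H := by
      rw [hR]; exact Subgroup.map_subgroupOf_eq_of_le hTH
    have hg_top : g ∈ Subgroup.normalizer ((((R : Subgroup H).map H.subtype : Subgroup G)) : Set G) ⊔ H := by
      rw [hfrat]; trivial
    rw [hmap] at hg_top
    obtain ⟨n, hn, h, hhH, rfl⟩ := Subgroup.mem_sup_of_normal_right.mp hg_top
    have hn_inv : n⁻¹ ∈ Subgroup.normalizer ((((S : Subgroup G) ⊓ H : Subgroup G)) : Set G) :=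
      Subgroup.inv_mem _ hn
    have hφ₀T : ∀ x : P, conjHom P h x ∈ (S : Subgroup G) ⊓ H := by
      intro x
      rw [conjHom_apply]
      have h1 : n * h * (x : G) * (n * h)⁻¹ ∈ (S : Subgroup G) ⊓ H := by
        refine ⟨?_, hconjH _ _ (hPT x.2).2⟩
        rw [← hg]; exact hφS x
      have h2 := (Subgroup.mem_normalizer_iff.mp hn_inv _).mp h1
      have e : n⁻¹ * (n * h * (x : G) * (n * h)⁻¹) * n⁻¹⁻¹ = h * (x : G) * h⁻¹ := by group
      rwa [e] at h2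
    refine ⟨((S : Subgroup G) ⊓ H).normalizerMonoidHom ⟨n, hn⟩, ?_, conjHom P h,
      hEmem.mpr ⟨hPT, hφ₀T, h, hhH, fun x => rfl⟩, fun x hx => ?_⟩
    · rw [mem_autGroup_iff _ hTS]
      exact hFmem.mpr ⟨hTS, fun x => hTS (Subtype.property _), n, fun x => rfl⟩
    · rw [hg]
      show n * h * (x : G) * (n * h)⁻¹ = n * (conjHom P h x) * n⁻¹
      rw [conjHom_apply]; group
  · -- extension condition
    intro α hα
    obtain ⟨-, -, h, hhH, hh⟩ := hEmem.mp ((mem_autGroup_iff _ le_rfl α).mp hα)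
    have hh' : ∀ x : ↥((S : Subgroup G) ⊓ H), ((α x : ↥((S : Subgroup G) ⊓ H)) : G) = h * x * h⁻¹ :=
      fun x => hh x
    have hhN : h ∈ Subgroup.normalizer ((((S : Subgroup G) ⊓ H : Subgroup G)) : Set G) :=
      mem_normalizer_of_aut α hh'
    obtain ⟨k, hkH, hkR, hkT, hkx⟩ := exists_extension_elt S H hhH hhN
    have hRS : ((S : Subgroup G) ⊓ H) ⊔ centralizerIn (S : Subgroup G) ((S : Subgroup G) ⊓ H) ≤
        (S : Subgroup G) := sup_le hTS centralizerIn_le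
    refine ⟨(((S : Subgroup G) ⊓ H) ⊔ centralizerIn (S : Subgroup G)
      ((S : Subgroup G) ⊓ H)).normalizerMonoidHom ⟨k, hkR⟩, ?_, ?_, ?_⟩
    · rw [mem_autGroup_iff _ hRS]
      exact hFmem.mpr ⟨hRS, fun x => hRS (Subtype.property _), k, fun x => rfl⟩
    · intro x
      show k * (x : G) * k⁻¹ = _
      rw [hkx x x.2, hh']
    · intro c hc
      show (c : G)⁻¹ * (k * (c : G) * k⁻¹) ∈ _
      have hcS : (c : G) ∈ (S : Subgroup G) := hc.1
      have hcZ : (c : G) ∈ Subgroup.centralizer ((((S : Subgroup G) ⊓ H : Subgroup G)) : Set G) := hc.2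
      have hβc : k * (c : G) * k⁻¹ ∈ ((S : Subgroup G) ⊓ H) ⊔
          centralizerIn (S : Subgroup G) ((S : Subgroup G) ⊓ H) :=
        (Subgroup.mem_normalizer_iff.mp hkR _).mp c.2
      refine ⟨⟨Subgroup.mul_mem _ (Subgroup.inv_mem _ hcS) (hRS hβc), ?_⟩, ?_⟩
      · have h1 : (c : G)⁻¹ * k * (c : G)⁻¹⁻¹ ∈ H := hconjH _ _ hkH
        have e : (c : G)⁻¹ * (k * (c : G) * k⁻¹) = ((c : G)⁻¹ * k * (c : G)⁻¹⁻¹) * k⁻¹ := by group
        rw [e]
        exact H.mul_mem h1 (H.inv_mem hkH)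
      · apply Subgroup.mul_mem _ (Subgroup.inv_mem _ hcZ)
        have h2 : k * (c : G) * k⁻¹ ∈ Cfsg.conjBy
            (Subgroup.centralizer ((((S : Subgroup G) ⊓ H : Subgroup G)) : Set G)) k := by
          rw [mem_conjBy]; simpa [mul_assoc] using hcZ
        rw [← centralizer_conjBy, mem_normalizer_iff_conjBy.mp hkT] at h2
        exact h2

end Cfsg.Agent.S5118
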