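import Mathlib
import Cfsg.Statements.S5122
import Cfsg.Agent.Lib.Helper25.FusionSylow2

set_option autoImplicit false
open Cfsg

namespace Cfsg.Agent.S5122

open Cfsg.Agent.Helper25 Cfsg.FusionSystem

/-- Let G be a finite group with Sylow p-subgroup S. Every subgroup P of S has a G-conjugate Q ≤ S such that N_S(Q) is a Sylow p-subgroup of N_G(Q); and for any Q ≤ S with that property, C_S(Q) is a Sylow p-subgroup of C_G(Q) and the automorphisms of Q induced by N_S(Q) form a Sylow p-subgroup of those induced by N_G(Q). -/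
theorem result {G : Type*} [Group G] [Finite G] (p : ℕ) [Fact p.Prime] (S : Sylow p G) : (∀ P : Subgroup G, P ≤ S → ∃ g : G, P.map (MulAut.conj g).toMonoidHom ≤ S ∧ (∃ R : Sylow p ↥(Subgroup.normalizer ((P.map (MulAut.conj g).toMonoidHom : Subgroup G) : Set G)), (R : Subgroup ↥(Subgroup.normalizer ((P.map (MulAut.conj g).toMonoidHom : Subgroup G) : Set G))) = (Cfsg.FusionSystem.normalizerIn (S : Subgroup G) (P.map (MulAut.conj g).toMonoidHom)).subgroupOf (Subgroup.normalizer ((P.map (MulAut.conj g).toMonoidHom : Subgroup G) : Set G)))) ∧ ∀ Q : Subgroup G, Q ≤ S → (∃ R : Sylow p ↥(Subgroup.normalizer (Q : Set G)), (R : Subgroup ↥(Subgroup.normalizer (Q : Set G))) = (Cfsg.FusionSystem.normalizerIn (S : Subgroup G) Q).subgroupOf (Subgroup.normalizer (Q : Set G))) → (∃ R : Sylow p ↥(Subgroup.centralizer (Q : Set G)), (R : Subgroup ↥(Subgroup.centralizer (Q : Set G))) = (Cfsg.FusionSystem.centralizerIn (S : Subgroup G) Q).subgroupOf (Subgroup.centralizer (Q : Set G))) ∧ (∃ R : Sylow p ↥(Cfsg.autInducedBy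 ⊤ Q), (R : Subgroup ↥(Cfsg.autInducedBy ⊤ Q)) = (Cfsg.autInducedBy (S : Subgroup G) Q).subgroupOf (Cfsg.autInducedBy ⊤ Q)) := by
  refine ⟨fun P hP => ?_, fun Q hQ hsyl => ⟨?_, ?_⟩⟩
  · obtain ⟨g, hg, hs⟩ := exists_conj_sylow (fun X => Subgroup.normalizer (X : Set G))
      (fun X g => normalizer_conjBy X g) (fun X => le_rfl) S hP
    refine ⟨g, hg, ?_⟩
    have hle : normalizerIn (S : Subgroup G) (Cfsg.conjBy P g) ≤
        Subgroup.normalizer ((Cfsg.conjBy P g : Subgroup G) : Set G) := inf_le_right
    exact (isSylowIn_iff_exists_sylow hle).mp hs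
  · have hle : normalizerIn (S : Subgroup G) Q ≤ Subgroup.normalizer (Q : Set G) := inf_le_right
    have hs : IsSylowIn p (normalizerIn (S : Subgroup G) Q) (Subgroup.normalizer (Q : Set G)) :=
      (isSylowIn_iff_exists_sylow hle).mpr hsyl
    have hle' : centralizerIn (S : Subgroup G) Q ≤ Subgroup.centralizer (Q : Set G) := inf_le_right
    rw [← isSylowIn_iff_exists_sylow hle']
    have h1 := hs.inf_of_normal (C := Subgroup.centralizer (Q : Set G))
      (Subgroup.centralizer_le_normalizer _) (fun n hn => by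
        rw [← centralizer_conjBy, mem_normalizer_iff_conjBy.mp hn])
    have e : normalizerIn (S : Subgroup G) Q ⊓ Subgroup.centralizer (Q : Set G) =
        centralizerIn (S : Subgroup G) Q := by
      unfold normalizerIn centralizerIn
      rw [inf_assoc, inf_eq_right.mpr (Subgroup.centralizer_le_normalizer _)]
    rwa [e] at h1
  · obtain ⟨T, hT⟩ := hsyl
    have h1 := isSylowIn_map_range (Q.normalizerMonoidHom) T
    rw [hT] at h1
    have e1 : ((normalizerIn (S : Subgroup G) Q).subgroupOf (Subgroup.normalizer (Q : Set G))).map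
        Q.normalizerMonoidHom = autInducedBy (S : Subgroup G) Q := by
      rw [autInducedBy_eq_map]; rfl
    rw [e1, ← autInducedBy_top_eq_range] at h1
    exact (isSylowIn_iff_exists_sylow h1.1).mp h1

end Cfsg.Agent.S5122
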