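import Mathlib
import Cfsg.Statements.S5123
import Cfsg.Agent.Lib.Helper25.FusionSylow2

set_option autoImplicit false
open Cfsg

namespace Cfsg.Agent.S5123

open Cfsg.Agent.Helper25 Cfsg.FusionSystem
open scoped Pointwise

/-- Core group-theoretic statement, in terms of `conjBy`. -/
theorem core {G : Type*} [Group G] [Finite G] (p : ℕ) [Fact p.Prime] (S : Sylow p G) (Q : Subgroup G)
    (hs : IsSylowIn p (normalizerIn (S : Subgroup G) Q) (Subgroup.normalizer (Q : Set G)))
    (X : Subgroup G) (hXp : IsPGroup p X)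
    (hX : X ≤ normalizerIn (S : Subgroup G) Q ⊔ Subgroup.centralizer (Q : Set G)) :
    ∃ h ∈ Subgroup.centralizer (Q : Set G), Cfsg.conjBy X h ≤ normalizerIn (S : Subgroup G) Q := by
  set T := normalizerIn (S : Subgroup G) Q with hT
  set C := Subgroup.centralizer (Q : Set G) with hC
  have hTN : T ≤ Subgroup.normalizer (Q : Set G) := inf_le_right
  have hCN : C ≤ Subgroup.normalizer (Q : Set G) := Subgroup.centralizer_le_normalizer _
  have hM : T ⊔ C ≤ Subgroup.normalizer (Q : Set G) := sup_le hTN hCN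
  have hsM : IsSylowIn p T (T ⊔ C) := hs.of_le le_sup_left hM
  obtain ⟨m, hm, hXm⟩ := hsM.exists_conj_le hX hXp
  -- T normalizes C
  have hTnC : T ≤ Subgroup.normalizer (C : Set G) := by
    intro n hn
    rw [mem_normalizer_iff_conjBy, hC, ← centralizer_conjBy, mem_normalizer_iff_conjBy.mp (hTN hn)]
  have hm' : m ∈ ((T ⊔ C : Subgroup G) : Set G) := hm
  rw [Subgroup.coe_mul_of_left_le_normalizer_right T C hTnC] at hm'
  obtain ⟨s, hsT, c, hcC, rfl⟩ := hm'
  refine ⟨c, hcC, ?_⟩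
  rw [← conjBy_conjBy] at hXm
  have := conjBy_le_iff.mp hXm
  rwa [conjBy_of_mem (T.inv_mem hsT)] at this

/-- Let G be a finite group with Sylow p-subgroup S, P, Q ≤ S and g ∈ G with gPg⁻¹ = Q, and suppose N_S(Q) is a Sylow p-subgroup of N_G(Q). Let N be the set of x ∈ N_S(P) with gxg⁻¹ ∈ N_S(Q)C_G(Q). Then some h ∈ C_G(Q) satisfies (hg)N(hg)⁻¹ ≤ S. -/
theorem result {G : Type*} [Group G] [Finite G] (p : ℕ) [Fact p.Prime] (S : Sylow p G) (P Q : Subgroup G) (hP : P ≤ S) (hQ : Q ≤ S) (g : G) (hg : P.map (MulAut.conj g).toMonoidHom = Q) (hN : (∃ R : Sylow p ↥(Subgroup.normalizer (Q : Set G)), (R : Subgroup ↥(Subgroup.normalizer (Q : Set G))) = (Cfsg.FusionSystem.normalizerIn (S : Subgroup G) Q).subgroupOf (Subgroup.normalizer (Q : Set G)))) : ∃ h ∈ Subgroup.centralizer (Q : Set G), ((Cfsg.FusionSystem.normalizerIn (S : Subgroup G) P) ⊓ (Cfsg.FusionSystem.normalizerIn (S : Subgroup G) Q ⊔ Subgroup.centralizer (Q : Set G)).comap (MulAut.conj g).toMonoidHom).map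 (MulAut.conj (h * g)).toMonoidHom ≤ S := by
  have hle : normalizerIn (S : Subgroup G) Q ≤ Subgroup.normalizer (Q : Set G) := inf_le_right
  have hs : IsSylowIn p (normalizerIn (S : Subgroup G) Q) (Subgroup.normalizer (Q : Set G)) :=
    (isSylowIn_iff_exists_sylow hle).mpr hN
  set N := (normalizerIn (S : Subgroup G) P) ⊓
    (normalizerIn (S : Subgroup G) Q ⊔ Subgroup.centralizer (Q : Set G)).comap
      (MulAut.conj g).toMonoidHom with hNdef
  have hNp : IsPGroup p N := S.isPGroup'.to_le (inf_le_left.trans inf_le_left)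
  have hX : Cfsg.conjBy N g ≤ normalizerIn (S : Subgroup G) Q ⊔ Subgroup.centralizer (Q : Set G) := by
    rintro _ ⟨x, hx, rfl⟩
    exact hx.2
  obtain ⟨h, hh, hle2⟩ := core p S Q hs (Cfsg.conjBy N g) (isPGroup_conjBy hNp g) hX
  refine ⟨h, hh, ?_⟩
  rw [conjBy_conjBy] at hle2
  exact hle2.trans inf_le_left

end Cfsg.Agent.S5123
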