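import Mathlib
import Cfsg.Statements.S5125
import Cfsg.Agent.Lib.Helper25.FusionNormal3

set_option autoImplicit false

namespace Cfsg.Agent.S5125

open Cfsg Cfsg.FusionSystem Cfsg.Agent.Helper25

theorem result {Ω : Type*} [Group Ω] {S : Subgroup Ω} [Finite S] (p : ℕ) [Fact p.Prime] (hS : IsPGroup p S) (F : Cfsg.FusionSystem S) (hF : F.IsSaturated p) (Q Q₁ : Subgroup Ω) (hQ : F.StronglyClosed Q) (hQ₁Q : Q₁ ≤ Q) (hQ₁ : F.IsNormal Q₁) (hab : ⁅Q, Q⁆ ≤ Q₁) (hAut : IsPGroup p ↥(F.autGroup Q₁)) : F.IsNormal Q := by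
  have hsc₁ := stronglyClosed_of_isNormal F hQ₁
  apply isNormal_of_chain p hS F hF hQ (fun i => if i = 0 then Q₁ else Q) 1
  · simp
  · intro i hi
    have : i = 0 := by omega
    subst this
    simpa using hQ₁Q
  · intro i hi
    by_cases h0 : i = 0
    · subst h0; simpa using hsc₁
    · simpa [h0] using hQ
  · intro i hi
    have : i = 0 := by omega
    subst this
    simpa using hab
  · intro P hc hr α hα
    have hPS : P ≤ S := hc.1
    have hQ₁P : Q₁ ≤ P := le_of_isNormal_of_centric_radical p hS F hQ₁ hc hr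
    obtain ⟨κ, hκ⟩ := exists_restrict_aut hQ₁P α (map_aut_eq_of_stronglyClosed F hsc₁ hPS hQ₁P hα)
    have hκF : κ ∈ F.autGroup Q₁ := by
      rw [mem_autGroup_iff F hQ₁.1]
      have hαF := (mem_autGroup_iff F hPS α).mp hα
      have h1 := restrict_mem F hQ₁P hαF
      have : Q₁.subtype.comp κ.toMonoidHom =
          (P.subtype.comp α.toMonoidHom).comp (Subgroup.inclusion hQ₁P) := by
        ext x
        have := hκ x
        exact (congrArg Subtype.val this).symm
      rw [this]; exact h1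
    obtain ⟨k, hk⟩ := hAut ⟨κ, hκF⟩
    have hk' : κ ^ p ^ k = 1 := congrArg Subtype.val hk
    have hc' : AutCompat hQ₁P α κ := hκ
    refine ⟨k, fun y hy => ?_⟩
    simp only [if_true] at hy
    have := (hc'.pow (p ^ k)) ⟨(y : Ω), hy⟩
    rw [hk'] at this
    have e : Subgroup.inclusion hQ₁P ⟨(y : Ω), hy⟩ = y := Subtype.ext rfl
    rw [e] at this
    rw [this]
    exact Subtype.ext rfl

end Cfsg.Agent.S5125
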