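import Cfsg.Statements.S5127
import Cfsg.Agent.Lib.CSX.CSXAlperin
-- import your own Cfsg.Agent.* helpers here

set_option autoImplicit false
open Cfsg

namespace Cfsg.Agent.S5127

/-- Let F be a saturated fusion system over a finite p-group S and E a normal subsystem of F over T. Among the subgroups Y of C_S(T) whose centralizer system C_F(Y) contains E there is a largest one, C_S(E), and it is strongly closed in F. -/
theorem result {Ω : Type*} [Group Ω] {S : Subgroup Ω} [Finite S] (p : ℕ) [Fact p.Prime] (hS : IsPGroup p S) (F : Cfsg.FusionSystem S) (hF : F.IsSaturated p) {T : Subgroup Ω} (E : Cfsg.FusionSystem T) (hE : E.IsNormalIn F p) : ∃ C : Subgroup Ω, C ≤ Cfsg.FusionSystem.centralizerIn S T ∧ (∀ P : Subgroup Ω, E.Hom P ⊆ F.centralizerHom C P) ∧ (∀ Y : Subgroup Ω, Y ≤ Cfsg.FusionSystem.centralizerIn S T → (∀ P : Subgroup Ω, E.Hom P ⊆ F.centralizerHom Y P) → Y ≤ C) ∧ F.StronglyClosed C := by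
  have hinv := hE.1.2.2
  have hTS : T ≤ S := hinv.2.1.1
  have hC := Cfsg.Agent.Helper5.CSX.inX_cSE p hS F hF E hE
  refine ⟨Cfsg.Agent.Helper5.CSX.cSE F E, Cfsg.Agent.Helper5.CSX.cSE_le F E, ?_, ?_,
    Cfsg.Agent.Helper5.CSX.stronglyClosed_cSE p hS F hF E hE⟩
  · intro P φ hφ
    have hXC := Cfsg.Agent.Helper5.CSX.cSE_le F E
    have hTX : T ≤ Cfsg.FusionSystem.centralizerIn S (Cfsg.Agent.Helper5.CSX.cSE F E) := by
      intro t ht
      refine Cfsg.Agent.Helper25.mem_centralizerIn.mpr ⟨hTS ht, fun x hx => ?_⟩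
      have := (Cfsg.Agent.Helper25.mem_centralizerIn.mp (hXC hx)).2 t ht
      exact this.symm
    have hPT : P ≤ T := (E.le_of_mem hφ).1
    exact ⟨hinv.1 P hφ, hPT.trans hTX, fun x => hTX ((E.le_of_mem hφ).2 x), hC.2 P φ hφ⟩
  · intro Y hY hYE
    apply Cfsg.Agent.Helper5.CSX.le_cSE
    exact ⟨hY, fun P φ hφ => (hYE P hφ).2.2.2⟩

end Cfsg.Agent.S5127
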