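import Mathlib
import Cfsg.Statements.S5130
import Cfsg.Agent.Lib.Helper25.FusionProduct3

set_option autoImplicit false
open Cfsg

namespace Cfsg.Agent.S5130

open Cfsg.FusionSystem Cfsg.Agent.Helper25 in
/-- Let F be a saturated fusion system over a finite p-group S that is the direct product of two subgroups S₁ and S₂, each strongly closed in F. Let R be the full subsystem of F over S₁ (all maps of F between subgroups of S₁) and R′ the subsystem over S₁ of those maps that extend to the subgroup generated with S₂ fixing S₂ elementwise. Then R and R′ are saturated, R′ is normal in F and in R, and R is weakly normal in F. -/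
theorem result {Ω : Type*} [Group Ω] {S : Subgroup Ω} [Finite S] (p : ℕ) [Fact p.Prime] (hS : IsPGroup p S) (F : Cfsg.FusionSystem S) (hF : F.IsSaturated p) (S₁ S₂ : Subgroup Ω) (hprod : Cfsg.IsInternalDirectProduct S₁ S₂ S) (h₁ : F.StronglyClosed S₁) (h₂ : F.StronglyClosed S₂) (R R' : Cfsg.FusionSystem S₁) (hR : ∀ P : Subgroup Ω, P ≤ S₁ → R.Hom P = F.Hom P) (hR' : ∀ P : Subgroup Ω, P ≤ S₁ → R'.Hom P = F.centralizerHom S₂ P) : R.IsSaturated p ∧ R'.IsSaturated p ∧ R'.IsNormalIn F p ∧ R'.IsNormalIn R p ∧ R.IsWeaklyNormalIn F p := by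
  have hprod' := hprod
  obtain ⟨hS₁S, hS₂S, hcomm, hinf, hsup⟩ := hprod
  haveI : Finite S₁ := finite_of_le_finite hS₁S
  have hS₁p : IsPGroup p S₁ := hS.to_le hS₁S
  have hRsat : R.IsSaturated p := fullSub_isSaturated p F hF h₁ hcomm hsup R hR
  have hR'sat : R'.IsSaturated p := centralizer_factor_isSaturated p hS F hF hprod' h₁ h₂ R' hR'
  -- subsystem relations
  have hRF : R.IsSubsystemOf F := by
    intro P φ hφ
    rw [← hR P (R.le_of_mem hφ).1]
    exact hφ
  have hR'F : R'.IsSubsystemOf F := by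
    intro P φ hφ
    have := hφ
    rw [hR' P (R'.le_of_mem hφ).1] at this
    exact this.1
  have hR'R : R'.IsSubsystemOf R := by
    intro P φ hφ
    rw [hR P (R'.le_of_mem hφ).1]
    exact hR'F P hφ
  have hRcl : R.StronglyClosed S₁ := ⟨le_rfl, fun R₀ _ φ hφ x => (R.le_of_mem hφ).2 x⟩
  -- strong invariance
  have hSI' : StrongInv F R' := strongInv_centralizer p F hF h₁ h₂ hcomm R' hR'
  have hSI'R : StrongInv R R' := by
    intro P Q hPQ hQT φ hφ hφQ ψ hψ
    exact hSI' P Q hPQ hQT φ hφ hφQ ψ (hRF Q hψ)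
  have hSIR : StrongInv F R := by
    intro P Q hPQ hQT φ hφ hφQ ψ hψ
    obtain ⟨χ, hχ, hχv⟩ := exists_conj_map F hPQ hψ (hRF P hφ) (fun l => hφQ l)
    refine ⟨χ, ?_, hχv⟩
    rw [hR]
    · exact hχ
    · rintro _ ⟨x, hx, rfl⟩
      exact h₁.2 Q hQT ψ hψ x
  have hinv'F : R'.IsInvariantIn F := isInvariantIn_of_strongInv p hS hF hR'F h₁ hSI'
  have hinv'R : R'.IsInvariantIn R := isInvariantIn_of_strongInv p hS₁p hRsat hR'R hRcl hSI'R
  have hinvRF : R.IsInvariantIn F := isInvariantIn_of_strongInv p hS hF hRF h₁ hSIR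
  refine ⟨hRsat, hR'sat, ⟨⟨hR'sat, hF, hinv'F⟩, ?_⟩, ⟨⟨hR'sat, hRsat, hinv'R⟩, ?_⟩,
    ⟨hRsat, hF, hinvRF⟩⟩
  · -- extension condition in F
    intro α hα
    have hαR' := (mem_autGroup_iff R' le_rfl α).mp hα
    rw [hR' S₁ le_rfl] at hαR'
    obtain ⟨-, -, -, ψ, hψ, hψP, hψT⟩ := hαR'
    have hU : S₁ ⊔ centralizerIn S S₁ = S₁ ⊔ S₂ := by
      apply le_antisymm
      · apply sup_le le_sup_left
        rw [hsup]
        exact centralizerIn_le
      · apply sup_le le_sup_left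
        refine le_trans ?_ (le_sup_right (a := S₁))
        intro b hb
        rw [mem_centralizerIn]
        exact ⟨hS₂S hb, fun a ha => hcomm a ha b hb⟩
    have hψU := hom_transport F hU hψ
    have hvalU : ∀ x, (ψ.comp (Subgroup.inclusion hU.le)) x ∈ S₁ ⊔ centralizerIn S S₁ := by
      intro x
      exact hU.ge (hsup.ge ((F.le_of_mem hψ).2 _))
    obtain ⟨β, hβ, hβv⟩ := exists_aut_of_hom F hψU hvalU
    refine ⟨β, hβ, fun x => ?_, fun c hc => ?_⟩
    · rw [hβv]
      exact hψP x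
    · rw [hβv]
      obtain ⟨c, hcU⟩ := c
      have hcS : c ∈ S₁ ⊔ S₂ := hU.le hcU
      obtain ⟨a, ha, b, hb, rfl⟩ := exists_mul_of_mem_sup_commute hcomm hcS
      have hc' : a * b ∈ centralizerIn S S₁ := hc
      rw [mem_centralizerIn] at hc'
      -- a is central in S₁
      have haZ : a ∈ Subgroup.centralizer (S₁ : Set Ω) := by
        rw [Subgroup.mem_centralizer_iff]
        intro y hy
        have h1 := hc'.2 y hy
        have h2 := hcomm y hy b hb
        have : y * a * b = a * y * b := by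
          calc y * a * b = y * (a * b) := by group
            _ = a * b * y := h1
            _ = a * (b * y) := by group
            _ = a * (y * b) := by rw [h2]
            _ = a * y * b := by group
        exact mul_right_cancel this
      have hval : (ψ.comp (Subgroup.inclusion hU.le)) ⟨a * b, hcU⟩ =
          ((α ⟨a, ha⟩ : S₁) : Ω) * b := by
        have e : (Subgroup.inclusion hU.le ⟨a * b, hcU⟩ : ↥(S₁ ⊔ S₂)) =
            Subgroup.inclusion le_sup_left ⟨a, ha⟩ * Subgroup.inclusion le_sup_right ⟨b, hb⟩ :=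
          Subtype.ext rfl
        rw [MonoidHom.comp_apply, e, map_mul, hψP, hψT]
        rfl
      rw [hval]
      have hαa := center_aut_mem α (a := ⟨a, ha⟩) haZ
      have hcomm2 : ((α ⟨a, ha⟩ : S₁) : Ω) * b = b * ((α ⟨a, ha⟩ : S₁) : Ω) :=
        hcomm _ (α ⟨a, ha⟩).2 b hb
      have hw : a⁻¹ * ((α ⟨a, ha⟩ : S₁) : Ω) ∈ S₁ :=
        S₁.mul_mem (S₁.inv_mem ha) (α ⟨a, ha⟩).2
      have hcomm3 := hcomm _ hw b hb
      have : (a * b)⁻¹ * (((α ⟨a, ha⟩ : S₁) : Ω) * b) = a⁻¹ * ((α ⟨a, ha⟩ : S₁) : Ω) := by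
        calc (a * b)⁻¹ * (((α ⟨a, ha⟩ : S₁) : Ω) * b)
            = b⁻¹ * (a⁻¹ * ((α ⟨a, ha⟩ : S₁) : Ω) * b) := by group
          _ = b⁻¹ * (b * (a⁻¹ * ((α ⟨a, ha⟩ : S₁) : Ω))) := by rw [hcomm3]
          _ = a⁻¹ * ((α ⟨a, ha⟩ : S₁) : Ω) := by group
      show (a * b)⁻¹ * (((α ⟨a, ha⟩ : S₁) : Ω) * b) ∈ S₁ ⊓ Subgroup.centralizer (S₁ : Set Ω)
      rw [this]
      exact Subgroup.mul_mem _ (Subgroup.inv_mem _ ⟨ha, haZ⟩) hαa
  · -- extension condition in R
    intro α hα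
    have hαF : S₁.subtype.comp α.toMonoidHom ∈ F.Hom S₁ :=
      hR'F S₁ ((mem_autGroup_iff R' le_rfl α).mp hα)
    have hU : S₁ ⊔ centralizerIn S₁ S₁ = S₁ := sup_eq_left.mpr centralizerIn_le
    have hψU : (S₁.subtype.comp α.toMonoidHom).comp (Subgroup.inclusion hU.le) ∈
        R.Hom (S₁ ⊔ centralizerIn S₁ S₁) := by
      rw [hR _ hU.le]
      exact hom_transport F hU hαF
    have hvalU : ∀ x, ((S₁.subtype.comp α.toMonoidHom).comp (Subgroup.inclusion hU.le)) x ∈
        S₁ ⊔ centralizerIn S₁ S₁ := by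
      intro x
      exact hU.ge (α _).2
    obtain ⟨β, hβ, hβv⟩ := exists_aut_of_hom R hψU hvalU
    refine ⟨β, hβ, fun x => ?_, fun c hc => ?_⟩
    · rw [hβv]
      rfl
    · rw [hβv]
      obtain ⟨c, hcU⟩ := c
      have hc' : c ∈ centralizerIn S₁ S₁ := hc
      rw [mem_centralizerIn] at hc'
      have hαc := center_aut_mem α (a := ⟨c, hc'.1⟩) hc'.2
      show c⁻¹ * ((α ⟨c, _⟩ : S₁) : Ω) ∈ S₁ ⊓ Subgroup.centralizer (S₁ : Set Ω)
      exact Subgroup.mul_mem _ (Subgroup.inv_mem _ ⟨hc'.1, hc'.2⟩) hαc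

end Cfsg.Agent.S5130
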