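import Mathlib
import Cfsg.Statements.S5135
import Cfsg.Agent.Lib.Helper25.FusionFactor
import Cfsg.Agent.Lib.Helper25.SylowIn

set_option autoImplicit false
open Cfsg

namespace Cfsg.Agent.S5135

open Cfsg.Agent.Helper25 Cfsg.FusionSystem

/-- Let G be a finite group, S a Sylow p-subgroup and H a normal subgroup of G. Then the fusion system of G/H on the image SH/H of S is the factor system of the fusion system of G on S modulo S ∩ H, read through the quotient map restricted to S: for each subgroup P' of SH/H, the conjugation maps by elements of G/H defined on P' with values in SH/H are exactly the homomorphisms induced by the conjugation maps by elements of G defined on the full preimage of P' in S with values in S. -/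
theorem result {G : Type*} [Group G] [Finite G] (p : ℕ) [Fact p.Prime] (S : Sylow p G) (H : Subgroup G) [H.Normal] : (Cfsg.groupFusionSystem (S : Subgroup G)).IsFactorSystem ((S : Subgroup G) ⊓ H) ((QuotientGroup.mk' H).comp (S : Subgroup G).subtype) (Cfsg.groupFusionSystem ((S : Subgroup G).map (QuotientGroup.mk' H))) := by
  set π := QuotientGroup.mk' H with hπ
  set θ := π.comp (S : Subgroup G).subtype with hθ
  have hθapp : ∀ s : (S : Subgroup G), θ s = π (s : G) := fun s => rfl
  have hrange : θ.range = (S : Subgroup G).map π := by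
    rw [hθ, MonoidHom.range_comp, Subgroup.range_subtype]
  refine ⟨inf_le_left, ?_, hrange, ?_⟩
  · intro s
    rw [hθapp, hπ, QuotientGroup.mk'_apply, QuotientGroup.eq_one_iff]
    constructor
    · intro h; exact ⟨s.2, h⟩
    · intro h; exact h.2
  · intro P' φ'
    constructor
    · rintro ⟨hP', hφ'S, gb, hgb⟩
      refine ⟨hP', ?_⟩
      obtain ⟨g, rfl⟩ := QuotientGroup.mk'_surjective H gb
      set P := preimageAlong θ P' with hP
      have hPS : P ≤ (S : Subgroup G) := preimageAlong_le θ P'
      have hPmem : ∀ x : P, π (x : G) ∈ P' := fun x => map_mem_of_mem_preimageAlong x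
      set K := ((S : Subgroup G).map π).comap π with hK
      have hSK : (S : Subgroup G) ≤ K := Subgroup.le_comap_map π _
      have hL : Cfsg.conjBy P g ≤ K := by
        intro y hy
        rw [mem_conjBy] at hy
        rw [hK, Subgroup.mem_comap]
        have h1 := hφ'S ⟨π (g⁻¹ * y * g), hPmem ⟨_, hy⟩⟩
        rw [hgb] at h1
        have h2 : (QuotientGroup.mk' H) g * π (g⁻¹ * y * g) * ((QuotientGroup.mk' H) g)⁻¹ = π y := by
          rw [← hπ, ← map_mul, ← map_inv, ← map_mul]
          congr 1; group
        rw [← h2]; exact h1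
      have hLp : IsPGroup p (Cfsg.conjBy P g) :=
        isPGroup_conjBy (S.isPGroup'.to_le hPS) g
      have hSyl : IsSylowIn p (S : Subgroup G) K :=
        (isSylowIn_top_of_sylow S).of_le hSK le_top
      obtain ⟨k, hk, hkL⟩ := hSyl.exists_conj_le hL hLp
      rw [hK, Subgroup.mem_comap] at hk
      obtain ⟨s, hs, hsk⟩ := hk
      -- g₁ = s⁻¹ k g
      have hg₁ : Cfsg.conjBy P (s⁻¹ * k * g) ≤ (S : Subgroup G) := by
        have e : s⁻¹ * k * g = s⁻¹ * (k * g) := by group
        rw [e, ← conjBy_conjBy, ← conjBy_conjBy]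
        have h1 := conjBy_mono hkL s⁻¹
        rw [conjBy_of_mem ((S : Subgroup G).inv_mem hs)] at h1
        exact h1
      have hπg₁ : π (s⁻¹ * k * g) = π g := by
        rw [map_mul, map_mul, map_inv, hsk, inv_mul_cancel, one_mul]
      have hvalS : ∀ x : P, conjHom P (s⁻¹ * k * g) x ∈ (S : Subgroup G) := by
        intro x
        apply hg₁
        rw [mem_conjBy, conjHom_apply]
        have : (s⁻¹ * k * g)⁻¹ * (s⁻¹ * k * g * (x : G) * (s⁻¹ * k * g)⁻¹) * (s⁻¹ * k * g) = x := by
          group
        rw [this]; exact x.2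
      refine ⟨conjHom P (s⁻¹ * k * g), ⟨hPS, hvalS, s⁻¹ * k * g, fun x => rfl⟩, hPS, hvalS,
        fun x => hPmem x, ?_⟩
      intro x
      rw [hgb]
      show (QuotientGroup.mk' H) g * π (x : G) * ((QuotientGroup.mk' H) g)⁻¹ =
        π (conjHom P (s⁻¹ * k * g) x)
      rw [conjHom_apply, map_mul, map_mul, map_inv, hπg₁]
    · rintro ⟨hP', φ, ⟨hPS, hφS, g, hg⟩, hP, hφS', hPP', hind⟩
      have hval : ∀ x' : P', φ' x' = π g * (x' : G ⧸ H) * (π g)⁻¹ := by
        intro x'
        obtain ⟨x, hx⟩ := exists_preimage hrange hP' x'.2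
        have h1 := hind x
        have e : (⟨θ ⟨(x : G), hP x.2⟩, hPP' x⟩ : P') = x' := Subtype.ext hx
        rw [e] at h1
        rw [h1, hθapp, ← hx, hθapp]
        show π (φ x) = _
        rw [hg, map_mul, map_mul, map_inv]
      refine ⟨hP', ?_, π g, hval⟩
      intro x'
      obtain ⟨x, hx⟩ := exists_preimage hrange hP' x'.2
      have h1 := hind x
      have e : (⟨θ ⟨(x : G), hP x.2⟩, hPP' x⟩ : P') = x' := Subtype.ext hx
      rw [e] at h1
      rw [h1, ← hrange]
      exact ⟨_, rfl⟩

end Cfsg.Agent.S5135
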