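import Mathlib
import Cfsg.Statements.S5136

set_option autoImplicit false
open Cfsg

namespace Cfsg.Agent.S5136

theorem hom_cast {Ω : Type*} [Group Ω] {S : Subgroup Ω} (F : Cfsg.FusionSystem S)
    {P Q : Subgroup Ω} (h : P = Q) {ψ : P →* Ω} (hψ : ψ ∈ F.Hom P) :
    ∃ ψ' ∈ F.Hom Q, ∀ (x : Ω) (hP : x ∈ P) (hQ : x ∈ Q), ψ' ⟨x, hQ⟩ = ψ ⟨x, hP⟩ := by
  subst h
  exact ⟨ψ, hψ, fun _ _ _ => rfl⟩

/-- Let F₁ and F₂ be fusion systems over finite p-groups S₁ and S₂ (inside ambient groups Ω₁ and Ω₂). Then their direct product exists: there is a fusion system over S₁ × S₂ inside Ω₁ × Ω₂ whose maps with source P ≤ S₁ × S₂ are exactly the restrictions to P of the homomorphisms (x₁, x₂) ↦ (φ₁ x₁, φ₂ x₂) with φ₁ a map of F₁ on the first projection of P and φ₂ a map of F₂ on the second projection. -/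
theorem result {Ω₁ Ω₂ : Type*} [Group Ω₁] [Group Ω₂] {S₁ : Subgroup Ω₁} {S₂ : Subgroup Ω₂} [Finite S₁] [Finite S₂] (p : ℕ) [Fact p.Prime] (h₁ : IsPGroup p S₁) (h₂ : IsPGroup p S₂) (F₁ : Cfsg.FusionSystem S₁) (F₂ : Cfsg.FusionSystem S₂) : ∃ E : Cfsg.FusionSystem (S₁.prod S₂), Cfsg.FusionSystem.IsProductSystem F₁ F₂ E := by
  classical
  let HomE : (P : Subgroup (Ω₁ × Ω₂)) → Set (P →* Ω₁ × Ω₂) := fun P => {φ | P ≤ S₁.prod S₂ ∧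
      ∃ φ₁ ∈ F₁.Hom (P.map (MonoidHom.fst Ω₁ Ω₂)), ∃ φ₂ ∈ F₂.Hom (P.map (MonoidHom.snd Ω₁ Ω₂)),
        ∀ (x : P) (h₁ : (x : Ω₁ × Ω₂).1 ∈ P.map (MonoidHom.fst Ω₁ Ω₂))
          (h₂ : (x : Ω₁ × Ω₂).2 ∈ P.map (MonoidHom.snd Ω₁ Ω₂)),
          φ x = (φ₁ ⟨(x : Ω₁ × Ω₂).1, h₁⟩, φ₂ ⟨(x : Ω₁ × Ω₂).2, h₂⟩)}
  have hfst : ∀ {P : Subgroup (Ω₁ × Ω₂)} (x : P), (x : Ω₁ × Ω₂).1 ∈ P.map (MonoidHom.fst Ω₁ Ω₂) :=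
    fun {P} x => ⟨x, x.2, rfl⟩
  have hsnd : ∀ {P : Subgroup (Ω₁ × Ω₂)} (x : P), (x : Ω₁ × Ω₂).2 ∈ P.map (MonoidHom.snd Ω₁ Ω₂) :=
    fun {P} x => ⟨x, x.2, rfl⟩
  have hle1 : ∀ {P : Subgroup (Ω₁ × Ω₂)}, P ≤ S₁.prod S₂ → P.map (MonoidHom.fst Ω₁ Ω₂) ≤ S₁ := by
    rintro P hP _ ⟨x, hx, rfl⟩
    exact (Subgroup.mem_prod.mp (hP hx)).1
  have hle2 : ∀ {P : Subgroup (Ω₁ × Ω₂)}, P ≤ S₁.prod S₂ → P.map (MonoidHom.snd Ω₁ Ω₂) ≤ S₂ := by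
    rintro P hP _ ⟨x, hx, rfl⟩
    exact (Subgroup.mem_prod.mp (hP hx)).2
  refine ⟨{ Hom := HomE, le_of_mem := ?_, injective_of_mem := ?_, conj_mem := ?_, comp_mem := ?_,
            inv_mem := ?_ }, fun P φ => Iff.rfl⟩
  · -- le_of_mem
    rintro P φ ⟨hP, φ₁, hφ₁, φ₂, hφ₂, h⟩
    refine ⟨hP, fun x => ?_⟩
    rw [h x (hfst x) (hsnd x), Subgroup.mem_prod]
    exact ⟨(F₁.le_of_mem hφ₁).2 _, (F₂.le_of_mem hφ₂).2 _⟩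
  · -- injective
    rintro P φ ⟨hP, φ₁, hφ₁, φ₂, hφ₂, h⟩ x y hxy
    rw [h x (hfst x) (hsnd x), h y (hfst y) (hsnd y)] at hxy
    have e1 := F₁.injective_of_mem hφ₁ (congrArg Prod.fst hxy)
    have e2 := F₂.injective_of_mem hφ₂ (congrArg Prod.snd hxy)
    apply Subtype.ext
    exact Prod.ext (congrArg Subtype.val e1) (congrArg Subtype.val e2)
  · -- conj_mem
    intro P g hP hg
    refine ⟨hP, Cfsg.conjHom _ g.1, F₁.conj_mem (hle1 hP) (Subgroup.mem_prod.mp hg).1,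
      Cfsg.conjHom _ g.2, F₂.conj_mem (hle2 hP) (Subgroup.mem_prod.mp hg).2, ?_⟩
    intro x _ _
    exact Prod.ext (by simp [Cfsg.conjHom]) (by simp [Cfsg.conjHom])
  · -- comp_mem
    rintro P Q φ ψ ⟨hP, φ₁, hφ₁, φ₂, hφ₂, hφ⟩ ⟨hQ, ψ₁, hψ₁, ψ₂, hψ₂, hψ⟩ h
    have h1' : ∀ x₁ : P.map (MonoidHom.fst Ω₁ Ω₂), φ₁ x₁ ∈ Q.map (MonoidHom.fst Ω₁ Ω₂) := by
      rintro ⟨_, x, hx, rfl⟩
      refine ⟨φ ⟨x, hx⟩, h ⟨x, hx⟩, ?_⟩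
      rw [hφ ⟨x, hx⟩ (hfst _) (hsnd _)]
      rfl
    have h2' : ∀ x₂ : P.map (MonoidHom.snd Ω₁ Ω₂), φ₂ x₂ ∈ Q.map (MonoidHom.snd Ω₁ Ω₂) := by
      rintro ⟨_, x, hx, rfl⟩
      refine ⟨φ ⟨x, hx⟩, h ⟨x, hx⟩, ?_⟩
      rw [hφ ⟨x, hx⟩ (hfst _) (hsnd _)]
      rfl
    refine ⟨hP, _, F₁.comp_mem hφ₁ hψ₁ h1', _, F₂.comp_mem hφ₂ hψ₂ h2', ?_⟩
    intro x hx1 hx2
    simp only [MonoidHom.comp_apply]
    rw [hψ _ (hfst _) (hsnd _)]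
    have e := hφ x hx1 hx2
    congr 1
    · apply congrArg
      apply Subtype.ext
      simp only [MonoidHom.codRestrict_apply]
      rw [e]
    · apply congrArg
      apply Subtype.ext
      simp only [MonoidHom.codRestrict_apply]
      rw [e]
  · -- inv_mem
    rintro P φ ⟨hP, φ₁, hφ₁, φ₂, hφ₂, hφ⟩
    obtain ⟨ψ₁, hψ₁, hψ₁'⟩ := F₁.inv_mem hφ₁
    obtain ⟨ψ₂, hψ₂, hψ₂'⟩ := F₂.inv_mem hφ₂
    have hr1 : φ.range.map (MonoidHom.fst Ω₁ Ω₂) = φ₁.range := by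
      ext a
      constructor
      · rintro ⟨_, ⟨x, rfl⟩, rfl⟩
        refine ⟨⟨(x : Ω₁ × Ω₂).1, hfst x⟩, ?_⟩
        rw [hφ x (hfst x) (hsnd x)]
        rfl
      · rintro ⟨⟨_, x, hx, rfl⟩, rfl⟩
        refine ⟨φ ⟨x, hx⟩, ⟨⟨x, hx⟩, rfl⟩, ?_⟩
        rw [hφ ⟨x, hx⟩ (hfst _) (hsnd _)]
        rfl
    have hr2 : φ.range.map (MonoidHom.snd Ω₁ Ω₂) = φ₂.range := by
      ext a
      constructor
      · rintro ⟨_, ⟨x, rfl⟩, rfl⟩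
        refine ⟨⟨(x : Ω₁ × Ω₂).2, hsnd x⟩, ?_⟩
        rw [hφ x (hfst x) (hsnd x)]
        rfl
      · rintro ⟨⟨_, x, hx, rfl⟩, rfl⟩
        refine ⟨φ ⟨x, hx⟩, ⟨⟨x, hx⟩, rfl⟩, ?_⟩
        rw [hφ ⟨x, hx⟩ (hfst _) (hsnd _)]
        rfl
    obtain ⟨ψ₁', hψ₁m, hψ₁e⟩ := hom_cast F₁ hr1.symm hψ₁
    obtain ⟨ψ₂', hψ₂m, hψ₂e⟩ := hom_cast F₂ hr2.symm hψ₂
    let α₁ : φ.range →* φ.range.map (MonoidHom.fst Ω₁ Ω₂) :=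
      ((MonoidHom.fst Ω₁ Ω₂).comp φ.range.subtype).codRestrict _ (fun r => ⟨r, r.2, rfl⟩)
    let α₂ : φ.range →* φ.range.map (MonoidHom.snd Ω₁ Ω₂) :=
      ((MonoidHom.snd Ω₁ Ω₂).comp φ.range.subtype).codRestrict _ (fun r => ⟨r, r.2, rfl⟩)
    refine ⟨(ψ₁'.comp α₁).prod (ψ₂'.comp α₂), ⟨?_, ψ₁', hψ₁m, ψ₂', hψ₂m, ?_⟩, ?_⟩
    · rintro _ ⟨x, rfl⟩
      rw [hφ x (hfst x) (hsnd x), Subgroup.mem_prod]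
      exact ⟨(F₁.le_of_mem hφ₁).2 _, (F₂.le_of_mem hφ₂).2 _⟩
    · intro r hr1' hr2'
      rfl
    · intro x
      have e := hφ x (hfst x) (hsnd x)
      have e1 : (φ x).1 = φ₁ ⟨(x : Ω₁ × Ω₂).1, hfst x⟩ := by rw [e]
      have e2 : (φ x).2 = φ₂ ⟨(x : Ω₁ × Ω₂).2, hsnd x⟩ := by rw [e]
      apply Prod.ext
      · show ψ₁' ⟨(φ x).1, _⟩ = (x : Ω₁ × Ω₂).1
        have hm : (φ x).1 ∈ φ₁.range := ⟨⟨(x : Ω₁ × Ω₂).1, hfst x⟩, e1.symm⟩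
        refine (hψ₁e (φ x).1 hm _).trans ?_
        have := hψ₁' ⟨(x : Ω₁ × Ω₂).1, hfst x⟩
        simp only [] at this
        rw [← this]
        congr 1
        exact Subtype.ext e1
      · show ψ₂' ⟨(φ x).2, _⟩ = (x : Ω₁ × Ω₂).2
        have hm : (φ x).2 ∈ φ₂.range := ⟨⟨(x : Ω₁ × Ω₂).2, hsnd x⟩, e2.symm⟩
        refine (hψ₂e (φ x).2 hm _).trans ?_
        have := hψ₂' ⟨(x : Ω₁ × Ω₂).2, hsnd x⟩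
        simp only [] at this
        rw [← this]
        congr 1
        exact Subtype.ext e2

end Cfsg.Agent.S5136
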