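import Mathlib
import Cfsg.Statements.S5139
import Cfsg.Agent.S5093
import Cfsg.Agent.Lib.Helper26.FusionRestrict
import Cfsg.Agent.Lib.Helper25.FusionSubSys
import Cfsg.Agent.Lib.Helper25.FusionHyp
import Cfsg.Agent.Lib.Helper25.NormalSubsys
import Cfsg.Agent.Lib.Helper22.PResidual

set_option autoImplicit false
open Cfsg

namespace Cfsg.Agent.S5139

open Cfsg.FusionSystem Cfsg.Agent.Helper25 Cfsg.Agent.Helper26

/-- An automorphism of order prime to `p` induced by the group is induced by an element of `O^p(G)`. -/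
theorem mem_autInducedBy_pResidual {G : Type*} [Group G] [Finite G] (p : ℕ) [Fact p.Prime]
    {Q : Subgroup G} (α : MulAut Q) (hα : α ∈ autInducedBy (⊤ : Subgroup G) Q)
    (hord : (orderOf α).Coprime p) : α ∈ autInducedBy (Cfsg.pResidual p G) Q := by
  obtain ⟨g, -, hg⟩ := (mem_autInducedBy_iff α).mp hα
  obtain ⟨a, ha⟩ := Cfsg.Agent.Helper22.exists_pow_mem_pResidual (p := p) g
  have hpow : ∀ k : ℕ, ∀ x : Q, (((α ^ k) x : Q) : G) = g ^ k * (x : G) * (g ^ k)⁻¹ := by
    intro k
    induction k with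
    | zero => intro x; simp
    | succ k ih =>
      intro x
      rw [pow_succ, MulAut.mul_apply, ih, hg, pow_succ]
      group
  have h1 : α ^ (p ^ a) ∈ autInducedBy (Cfsg.pResidual p G) Q :=
    (mem_autInducedBy_iff _).mpr ⟨g ^ (p ^ a), ha, hpow _⟩
  have hcop : (p ^ a).Coprime (orderOf α) := (Nat.Coprime.pow_right a hord).symm
  obtain ⟨m, hm⟩ := exists_pow_eq_self_of_coprime hcop
  rw [← hm]
  exact Subgroup.pow_mem _ h1 m

/-- Let G be a finite group with Sylow p-subgroup S and O^p(G) the subgroup generated by the elements of order prime to p. Then the p-residual subsystem of the fusion system of G on S — the saturated subsystem of p-power index over the hyperfocal subgroup — is the fusion system of O^p(G) on S ∩ O^p(G): its maps are exactly the conjugation maps by elements of O^p(G) between subgroups of S ∩ O^p(G). -/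
theorem result {G : Type*} [Group G] [Finite G] (p : ℕ) [Fact p.Prime] (S : Sylow p G) (E : Cfsg.FusionSystem ((Cfsg.groupFusionSystem (S : Subgroup G)).hyperfocalSubgroup p)) (hE : (Cfsg.groupFusionSystem (S : Subgroup G)).IsPResidual p E) : ∃ h : (S : Subgroup G) ⊓ Cfsg.pResidual p G ≤ Cfsg.pResidual p G, ∀ P : Subgroup G, E.Hom P = (Cfsg.fusionSystemOfSubgroup (Cfsg.pResidual p G) ((S : Subgroup G) ⊓ Cfsg.pResidual p G) h).Hom P := by
  refine ⟨inf_le_right, fun P => ?_⟩
  obtain ⟨hEsat, hEsub, -, hEres⟩ := hE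
  have hhyp := Cfsg.Agent.S5093.result p S
  haveI hRn : (Cfsg.pResidual p G).Normal := Cfsg.Agent.Helper22.pResidual_normal
  have hsyl : IsSylowIn p ((S : Subgroup G) ⊓ Cfsg.pResidual p G) (Cfsg.pResidual p G) :=
    (isSylowIn_top_of_sylow S).inf_of_normal le_top (fun n _ => conjBy_normal _ n)
  have hE'sat := fusionSystemOfSubgroup_isSaturated hsyl
  have hTS : (S : Subgroup G) ⊓ Cfsg.pResidual p G ≤ (S : Subgroup G) := inf_le_left
  have hhypS : (Cfsg.groupFusionSystem (S : Subgroup G)).hyperfocalSubgroup p ≤ (S : Subgroup G) :=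
    hhyp.le.trans hTS
  have hTp : IsPGroup p ↥((S : Subgroup G) ⊓ Cfsg.pResidual p G) := S.isPGroup'.to_le hTS
  have hhypp : IsPGroup p ↥((Cfsg.groupFusionSystem (S : Subgroup G)).hyperfocalSubgroup p) :=
    S.isPGroup'.to_le hhypS
  -- automorphism groups of the system of `O^p(G)`
  have hE'aut : ∀ Q : Subgroup G, Q ≤ (S : Subgroup G) ⊓ Cfsg.pResidual p G →
      ∀ α : MulAut Q, α ∈ (Cfsg.fusionSystemOfSubgroup (Cfsg.pResidual p G)
        ((S : Subgroup G) ⊓ Cfsg.pResidual p G) inf_le_right).autGroup Q ↔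
        α ∈ autInducedBy (Cfsg.pResidual p G) Q := by
    intro Q hQ α
    rw [mem_autGroup_iff _ hQ, mem_autInducedBy_iff, mem_fusionSystemOfSubgroup]
    constructor
    · rintro ⟨-, -, g, hg, hgx⟩
      exact ⟨g, hg, fun x => hgx x⟩
    · rintro ⟨g, hg, hgx⟩
      exact ⟨hQ, fun x => hQ (α x).2, g, hg, fun x => hgx x⟩
  apply Set.Subset.antisymm
  · -- `E ≤ E'`
    refine le_resSys_of_pResidual p hhypp E hEsat _ hhyp.le ?_ P
    intro Q hQ ν hν
    have hQS : Q ≤ (S : Subgroup G) := hQ.trans hhypS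
    rw [hE'aut Q (hQ.trans hhyp.le)]
    unfold Cfsg.pResidual at hν
    induction hν using Subgroup.closure_induction with
    | mem x hx =>
      apply mem_autInducedBy_pResidual p
      · rw [← groupFusionSystem_autGroup hQS, mem_autGroup_iff _ hQS]
        exact hEsub Q ((mem_autGroup_iff E hQ _).mp x.2)
      · have hx' : (orderOf x).Coprime p := hx
        rwa [← Subgroup.orderOf_coe] at hx'
    | one => exact Subgroup.one_mem _
    | mul a b _ _ ha hb => exact Subgroup.mul_mem _ ha hb
    | inv a _ ha => exact Subgroup.inv_mem _ ha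
  · -- `E' ≤ E`
    refine le_resSys_of_pResidual p hTp _ hE'sat E hhyp.ge ?_ P
    intro Q hQ ν hν
    have hQS : Q ≤ (S : Subgroup G) := hQ.trans hTS
    have hle : ∀ a ∈ (Cfsg.fusionSystemOfSubgroup (Cfsg.pResidual p G)
        ((S : Subgroup G) ⊓ Cfsg.pResidual p G) inf_le_right).autGroup Q,
        (MonoidHom.id (MulAut Q)) a ∈ (Cfsg.groupFusionSystem (S : Subgroup G)).autGroup Q := by
      intro a ha
      rw [hE'aut Q hQ] at ha
      rw [groupFusionSystem_autGroup hQS]
      obtain ⟨g, -, hg⟩ := (mem_autInducedBy_iff a).mp ha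
      exact (mem_autInducedBy_iff a).mpr ⟨g, Subgroup.mem_top g, hg⟩
    have h1 := pResidual_transport p (MonoidHom.id (MulAut Q)) (fun _ _ h => h) hle hν
    exact hEres Q (hQ.trans hhyp.ge) ⟨_, h1, rfl⟩

end Cfsg.Agent.S5139
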