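import Mathlib
import Cfsg.Statements.S5330
import Cfsg.Agent.Lib.Helper25.FusionSat4
import Cfsg.Agent.Lib.Helper25.FusionNormal
import Cfsg.Agent.Lib.Helper25.FusionRS
import Cfsg.Agent.Lib.Helper26.CoprimeAbelian

set_option autoImplicit false
open Cfsg

namespace Cfsg.Agent.S5330

open Cfsg.FusionSystem Cfsg.Agent.Helper25 Cfsg.Agent.Helper26

variable {Ω : Type*} [Group Ω] {S : Subgroup Ω}

lemma centralizerIn_eq_of_abelian (hab : ∀ x ∈ S, ∀ y ∈ S, x * y = y * x) {R : Subgroup Ω}
    (hR : R ≤ S) : centralizerIn S R = S := by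
  apply le_antisymm centralizerIn_le
  intro g hg
  rw [mem_centralizerIn]
  exact ⟨hg, fun x hx => hab x (hR hx) g hg⟩

/-- over an abelian `S`, every map of a saturated system extends to an automorphism of `S` -/
lemma exists_aut_extension [Finite S] (p : ℕ) [Fact p.Prime] (hS : IsPGroup p S)
    (F : FusionSystem S) (hF : F.IsSaturated p) (hab : ∀ x ∈ S, ∀ y ∈ S, x * y = y * x)
    {P : Subgroup Ω} {φ : P →* Ω} (hφ : φ ∈ F.Hom P) :
    ∃ α : MulAut S, α ∈ F.autGroup S ∧ ∀ (x : P) (hx : (x : Ω) ∈ S), ((α ⟨x, hx⟩ : S) : Ω) = φ x := by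
  have hPS : P ≤ S := (F.le_of_mem hφ).1
  have hQS : φ.range ≤ S := range_le F hφ
  have hQfc : F.IsFullyCentralized φ.range := by
    refine ⟨hQS, fun R hR => ?_⟩
    rw [centralizerIn_eq_of_abelian hab hQS, centralizerIn_eq_of_abelian hab (isConj_le_right F hR)]
  have hrec := isReceptive_of_fullyCentralized p hS F hF hQfc
  obtain ⟨ψ, hψ, hext⟩ := hrec.2 P φ hφ rfl
  have hE : S = extender S P φ := by
    apply le_antisymm _ (extender_le S φ)
    calc S = centralizerIn S P := (centralizerIn_eq_of_abelian hab hPS).symm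
      _ ≤ extender S P φ := centralizerIn_le_extender φ
  have hψ' : ψ.comp (Subgroup.inclusion hE.le) ∈ F.Hom S := hom_transport F hE hψ
  set ψ' := ψ.comp (Subgroup.inclusion hE.le) with hψ'def
  have hinj := F.injective_of_mem hψ'
  have hval := (F.le_of_mem hψ').2
  have hinj' : Function.Injective (ψ'.codRestrict S hval) := by
    intro a b h
    exact hinj (congrArg Subtype.val h)
  have hbij : Function.Bijective (ψ'.codRestrict S hval) :=
    ⟨hinj', Finite.injective_iff_surjective.mp hinj'⟩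
  refine ⟨MulEquiv.ofBijective (ψ'.codRestrict S hval) hbij, ?_, ?_⟩
  · rw [mem_autGroup_iff F le_rfl]
    have : S.subtype.comp (MulEquiv.ofBijective (ψ'.codRestrict S hval) hbij).toMonoidHom = ψ' := by
      ext x; rfl
    rw [this]; exact hψ'
  · intro x hx
    show ψ' ⟨x, hx⟩ = φ x
    exact hext x x.2 (hE.le hx)

lemma autInducedBy_self_eq_bot (hab : ∀ x ∈ S, ∀ y ∈ S, x * y = y * x) :
    autInducedBy S S = ⊥ := by
  rw [eq_bot_iff]
  intro α hα
  rw [mem_autInducedBy_iff] at hα
  obtain ⟨g, hg, h⟩ := hα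
  rw [Subgroup.mem_bot]
  ext x
  rw [h x, hab g hg x x.2, mul_inv_cancel_right]
  rfl

lemma coprime_card [Finite S] (p : ℕ) [Fact p.Prime] (hS : IsPGroup p S)
    (F : FusionSystem S) (hF : F.IsSaturated p) (hab : ∀ x ∈ S, ∀ y ∈ S, x * y = y * x) :
    (Nat.card S).Coprime (Nat.card (F.autGroup S)) := by
  have hfa := (isFullyAutomized_iff F p le_rfl).1 (isFullyAutomized_self p F hF)
  rw [autInducedBy_self_eq_bot hab] at hfa
  have hnd : ¬ p ∣ Nat.card (F.autGroup S) := by
    intro hdvd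
    obtain ⟨α, hα⟩ := exists_prime_orderOf_dvd_card' p hdvd
    have hL : IsPGroup p ((Subgroup.zpowers α).map (F.autGroup S).subtype) := by
      apply IsPGroup.map
      rw [IsPGroup.iff_card]
      exact ⟨1, by rw [Nat.card_zpowers, hα, pow_one]⟩
    have := hfa.2.2 _ (Subgroup.map_subtype_le _) hL bot_le
    have hmem : (α : MulAut S) ∈ (Subgroup.zpowers α).map (F.autGroup S).subtype :=
      ⟨α, Subgroup.mem_zpowers α, rfl⟩
    rw [this, Subgroup.mem_bot] at hmem
    have h1 : α = 1 := Subtype.ext hmem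
    rw [h1, orderOf_one] at hα
    exact (Fact.out : p.Prime).one_lt.ne hα
  obtain ⟨k, hk⟩ := IsPGroup.exists_card_eq hS
  rw [hk]
  exact Nat.Coprime.pow_left k ((Nat.Prime.coprime_iff_not_dvd Fact.out).2 hnd)

/-- Let F be a saturated fusion system over a finite abelian p-group S. Then S is the internal direct product of the centre of the system and the focal subgroup: Z(F) ∩ foc(F) = 1 and Z(F)·foc(F) = S. -/
theorem result {Ω : Type*} [Group Ω] {S : Subgroup Ω} [Finite S] (p : ℕ) [Fact p.Prime] (hS : IsPGroup p S) (F : Cfsg.FusionSystem S) (hF : F.IsSaturated p) (hab : ∀ x ∈ S, ∀ y ∈ S, x * y = y * x) : F.center ⊓ F.focalSubgroup = ⊥ ∧ F.center ⊔ F.focalSubgroup = S := by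
  classical
  letI : CommGroup S :=
    { (inferInstance : Group S) with mul_comm := fun a b => Subtype.ext (hab a a.2 b b.2) }
  have hcop := coprime_card p hS F hF hab
  have hcenter_le : F.center ≤ S := by
    unfold FusionSystem.center
    apply sSup_le
    intro Q hQ
    exact hQ.1
  have hfoc_le : F.focalSubgroup ≤ S := by
    unfold FusionSystem.focalSubgroup
    rw [Subgroup.closure_le]
    rintro _ ⟨P, φ, x, hφ, rfl⟩
    exact S.mul_mem (S.inv_mem ((F.le_of_mem hφ).1 x.2)) ((F.le_of_mem hφ).2 x)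
  -- the centre is fixed by all automorphisms of `S`
  have hcenter_fixed : ∀ (z : Ω) (hz : z ∈ F.center) (hzS : z ∈ S), ∀ α ∈ F.autGroup S,
      α ⟨z, hzS⟩ = ⟨z, hzS⟩ := by
    intro z hz hzS α hα
    have hαF := (mem_autGroup_iff F le_rfl α).1 hα
    obtain ⟨ψ, -, h1, h2⟩ := (isCentral_center F).2 S _ hαF
    have e1 := h1 ⟨z, hzS⟩
    have e2 := h2 ⟨z, hz⟩
    have : (Subgroup.inclusion le_sup_left (⟨z, hzS⟩ : S) : ↥(S ⊔ F.center)) =
        Subgroup.inclusion le_sup_right (⟨z, hz⟩ : F.center) := Subtype.ext rfl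
    rw [this, e2] at e1
    exact Subtype.ext e1.symm
  -- the fixed points form a central subgroup
  let C : Subgroup S :=
    { carrier := {z | ∀ α ∈ F.autGroup S, α z = z}
      one_mem' := fun α _ => map_one α
      mul_mem' := fun {a b} ha hb α hα => by rw [map_mul, ha α hα, hb α hα]
      inv_mem' := fun {a} ha α hα => by rw [map_inv, ha α hα] }
  have hCcentral : F.IsCentral (C.map S.subtype) := by
    refine ⟨Subgroup.map_subtype_le _, fun P φ hφ => ?_⟩
    obtain ⟨α, hα, hαφ⟩ := exists_aut_extension p hS F hF hab hφ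
    have hαF := (mem_autGroup_iff F le_rfl α).1 hα
    have hPS : P ≤ S := (F.le_of_mem hφ).1
    have hle : P ⊔ C.map S.subtype ≤ S := sup_le hPS (Subgroup.map_subtype_le _)
    refine ⟨_, restrict_mem F hle hαF, fun x => ?_, fun x => ?_⟩
    · exact hαφ x (hPS x.2)
    · obtain ⟨c, hc, hcx⟩ := x.2
      show ((α ⟨x, _⟩ : S) : Ω) = x
      have : (⟨(x : Ω), hle (Subgroup.inclusion le_sup_right x).2⟩ : S) = c := Subtype.ext hcx.symm
      have h2 : (Subgroup.inclusion hle (Subgroup.inclusion le_sup_right x) : S) = c :=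
        Subtype.ext hcx.symm
      show ((α (Subgroup.inclusion hle (Subgroup.inclusion le_sup_right x)) : S) : Ω) = x
      rw [h2, hc α hα]
      exact hcx
  have hC_le : C.map S.subtype ≤ F.center := le_sSup hCcentral
  -- focal subgroup versus commutators
  have hfoc_map : F.focalSubgroup ≤ (Subgroup.closure (commGens (F.autGroup S))).map S.subtype := by
    unfold FusionSystem.focalSubgroup
    rw [Subgroup.closure_le]
    rintro _ ⟨P, φ, x, hφ, rfl⟩
    obtain ⟨α, hα, hαφ⟩ := exists_aut_extension p hS F hF hab hφ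
    have hPS : P ≤ S := (F.le_of_mem hφ).1
    refine ⟨(⟨x, hPS x.2⟩ : S)⁻¹ * α ⟨x, hPS x.2⟩, ?_, ?_⟩
    · exact Subgroup.subset_closure ⟨α, hα, ⟨x, hPS x.2⟩, rfl⟩
    · show ((x : Ω))⁻¹ * ((α ⟨x, hPS x.2⟩ : S) : Ω) = _
      rw [hαφ x (hPS x.2)]
  have hfoc_ge : (Subgroup.closure (commGens (F.autGroup S))).map S.subtype ≤ F.focalSubgroup := by
    rw [Subgroup.map_le_iff_le_comap, Subgroup.closure_le]
    rintro _ ⟨α, hα, x, rfl⟩
    have hαF := (mem_autGroup_iff F le_rfl α).1 hα
    show S.subtype (x⁻¹ * α x) ∈ F.focalSubgroup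
    unfold FusionSystem.focalSubgroup
    apply Subgroup.subset_closure
    exact ⟨S, _, x, hαF, rfl⟩
  constructor
  · rw [eq_bot_iff]
    rintro z ⟨hzc, hzf⟩
    have hzS : z ∈ S := hcenter_le hzc
    obtain ⟨w, hw, hwz⟩ := hfoc_map hzf
    have hwz' : w = ⟨z, hzS⟩ := Subtype.ext hwz
    have hfix := hcenter_fixed z hzc hzS
    rw [← hwz'] at hfix
    have := eq_one_of_fixed_of_comm (F.autGroup S) hcop hfix hw
    rw [Subgroup.mem_bot, ← hwz, this]
    rfl
  · apply le_antisymm (sup_le hcenter_le hfoc_le)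
    intro s hs
    obtain ⟨c, d, hsd, hc, hd⟩ := exists_fixed_mul_comm (F.autGroup S) hcop (⟨s, hs⟩ : S)
    have hs' : s = (c : Ω) * (d : Ω) := by
      have := congrArg Subtype.val hsd
      exact this
    rw [hs']
    apply Subgroup.mul_mem
    · apply Subgroup.mem_sup_left
      exact hC_le ⟨c, hc, rfl⟩
    · apply Subgroup.mem_sup_right
      exact hfoc_ge ⟨d, hd, rfl⟩

end Cfsg.Agent.S5330
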