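import Mathlib
import Cfsg.Statements.S5337
import Cfsg.Agent.S5330

set_option autoImplicit false
open Cfsg

namespace Cfsg.Agent.S5337

open Cfsg.FusionSystem Cfsg.Agent.Helper25

variable {Ω : Type*} [Group Ω] {S : Subgroup Ω}

/-- maps of the inner system of an abelian group are inclusions -/
lemma inner_hom_iff {T : Subgroup Ω} (habT : ∀ x ∈ T, ∀ y ∈ T, x * y = y * x) {P : Subgroup Ω}
    (φ : P →* Ω) : φ ∈ (innerFusionSystem T).Hom P ↔ P ≤ T ∧ φ = P.subtype := by
  constructor
  · rintro ⟨hP, g, hg, h⟩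
    refine ⟨hP, ?_⟩
    ext x
    rw [h x, habT g hg x (hP x.2), mul_inv_cancel_right]
    rfl
  · rintro ⟨hP, rfl⟩
    exact ⟨hP, 1, T.one_mem, fun x => by simp⟩

lemma inner_autGroup_eq_bot {T : Subgroup Ω} (habT : ∀ x ∈ T, ∀ y ∈ T, x * y = y * x)
    (P : Subgroup Ω) : (innerFusionSystem T).autGroup P = ⊥ := by
  rw [eq_bot_iff]
  unfold FusionSystem.autGroup
  rw [Subgroup.closure_le]
  intro α hα
  have := ((inner_hom_iff habT _).1 hα).2
  rw [SetLike.mem_coe, Subgroup.mem_bot]
  ext x
  have h := congrArg (fun f : P →* Ω => f x) this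
  exact h

lemma inner_isSaturated {T : Subgroup Ω} (habT : ∀ x ∈ T, ∀ y ∈ T, x * y = y * x) (p : ℕ)
    [Fact p.Prime] : (innerFusionSystem T).IsSaturated p := by
  intro P hP
  refine ⟨P, isConj_refl _ hP, ⟨hP, ?_⟩, hP, ?_⟩
  · haveI : Subsingleton ((innerFusionSystem T).autGroup P) := by
      rw [inner_autGroup_eq_bot habT]
      infer_instance
    haveI : Subsingleton (Subgroup ((innerFusionSystem T).autGroup P)) :=
      Subgroup.subsingleton_iff.2 inferInstance
    exact ⟨default, Subsingleton.elim _ _⟩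
  · intro P' φ hφ _
    refine ⟨(extender T P' φ).subtype, subtype_mem _ (extender_le T φ), fun x hP' hN => ?_⟩
    have h := congrArg (fun f : P' →* Ω => f ⟨x, hP'⟩) ((inner_hom_iff habT _).1 hφ).2
    exact h.symm

/-- the inner system of a strongly closed subgroup of an abelian `S` is normal, provided maps extend -/
lemma inner_isNormalIn (p : ℕ) [Fact p.Prime] (F : FusionSystem S) (hF : F.IsSaturated p)
    (hab : ∀ x ∈ S, ∀ y ∈ S, x * y = y * x) (T : Subgroup Ω) (hT : F.StronglyClosed T)
    (hext : ∀ (P : Subgroup Ω), P ≤ T → ∀ φ ∈ F.Hom P, ∃ α ∈ F.autGroup T,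
      ∀ (x : P) (hx : (x : Ω) ∈ T), ((α ⟨x, hx⟩ : T) : Ω) = φ x) :
    (innerFusionSystem T).IsNormalIn F p := by
  have hTS : T ≤ S := hT.1
  have habT : ∀ x ∈ T, ∀ y ∈ T, x * y = y * x := fun x hx y hy => hab x (hTS hx) y (hTS hy)
  refine ⟨⟨inner_isSaturated habT p, hF, ?_, hT, ?_, ?_⟩, ?_⟩
  · -- subsystem
    intro P φ hφ
    obtain ⟨hP, rfl⟩ := (inner_hom_iff habT _).1 hφ
    exact subtype_mem F (hP.trans hTS)
  · -- invariance
    intro P hPT φ hφ α _
    obtain ⟨-, rfl⟩ := (inner_hom_iff habT _).1 hφ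
    have hle : (P.subgroupOf T).map (T.subtype.comp α.toMonoidHom) ≤ T := by
      rintro _ ⟨y, -, rfl⟩
      exact (α y).2
    refine ⟨_, (inner_hom_iff habT _).2 ⟨hle, rfl⟩, fun x hφx hαx => ?_⟩
    rfl
  · -- Frattini
    intro P hPT φ hφ
    obtain ⟨α, hα, h⟩ := hext P hPT φ hφ
    exact ⟨α, hα, P.subtype, (inner_hom_iff habT _).2 ⟨hPT, rfl⟩, fun x hx => (h x hx).symm⟩
  · -- extension condition
    intro α hα
    rw [inner_autGroup_eq_bot habT, Subgroup.mem_bot] at hα
    subst hα
    refine ⟨1, Subgroup.one_mem _, fun x => rfl, fun c _ => ?_⟩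
    simp

/-- Let F be a saturated fusion system over a finite abelian p-group S. Then F is simple if and only if S has order p and F is the inner system of S (whose only maps are the inclusions, S being abelian). -/
theorem result {Ω : Type*} [Group Ω] {S : Subgroup Ω} [Finite S] (p : ℕ) [Fact p.Prime] (hS : IsPGroup p S) (F : Cfsg.FusionSystem S) (hF : F.IsSaturated p) (hab : ∀ x ∈ S, ∀ y ∈ S, x * y = y * x) : F.IsSimple p ↔ (Nat.card S = p ∧ ∀ P : Subgroup Ω, F.Hom P = (Cfsg.innerFusionSystem S).Hom P) := by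
  have hp : p.Prime := Fact.out
  constructor
  · rintro ⟨-, hne, hsimple⟩
    -- Step 1: the inner system of S is normal, hence equals F
    have hSsc : F.StronglyClosed S := ⟨le_rfl, fun R _ φ hφ x => (F.le_of_mem hφ).2 x⟩
    have hN1 : (innerFusionSystem S).IsNormalIn F p :=
      inner_isNormalIn p F hF hab S hSsc (fun P _ φ hφ =>
        Cfsg.Agent.S5330.exists_aut_extension p hS F hF hab hφ)
    have hinner : ∀ P : Subgroup Ω, F.Hom P = (innerFusionSystem S).Hom P := by
      rcases hsimple S _ hN1 with h | ⟨-, h⟩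
      · exact absurd h hne
      · exact fun P => (h P).symm
    refine ⟨?_, hinner⟩
    -- Step 2: a subgroup of order p carries a normal subsystem
    have hcard : p ∣ Nat.card S := by
      obtain ⟨k, hk⟩ := IsPGroup.exists_card_eq hS
      rcases Nat.eq_zero_or_pos k with rfl | hkpos
      · exfalso
        rw [pow_zero] at hk
        apply hne
        rw [eq_bot_iff]
        intro x hx
        have : Subsingleton S := (Nat.card_eq_one_iff_unique.mp hk).1
        have h1 : (⟨x, hx⟩ : S) = 1 := Subsingleton.elim _ _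
        rw [Subgroup.mem_bot]
        exact congrArg Subtype.val h1
      · rw [hk]; exact dvd_pow_self p hkpos.ne'
    obtain ⟨x, hx⟩ := exists_prime_orderOf_dvd_card' p hcard
    set T : Subgroup Ω := (Subgroup.zpowers x).map S.subtype with hTdef
    have hTS : T ≤ S := Subgroup.map_subtype_le _
    have hTcard : Nat.card T = p := by
      rw [hTdef, Subgroup.card_map_of_injective S.subtype_injective, Nat.card_zpowers, hx]
    have hTsc : F.StronglyClosed T := by
      refine ⟨hTS, fun R hR φ hφ y => ?_⟩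
      rw [hinner R] at hφ
      have := ((inner_hom_iff hab _).1 hφ).2
      rw [this]
      exact hR y.2
    have hN2 : (innerFusionSystem T).IsNormalIn F p := by
      apply inner_isNormalIn p F hF hab T hTsc
      intro P hPT φ hφ
      rw [hinner P] at hφ
      have := ((inner_hom_iff hab _).1 hφ).2
      refine ⟨1, Subgroup.one_mem _, fun y hy => ?_⟩
      rw [this]
      rfl
    rcases hsimple T _ hN2 with h | ⟨h, -⟩
    · exfalso
      rw [h] at hTcard
      rw [Subgroup.card_bot] at hTcard
      exact hp.one_lt.ne hTcard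
    · rw [← h]; exact hTcard
  · rintro ⟨hcard, hinner⟩
    have hne : S ≠ ⊥ := by
      intro h
      rw [h, Subgroup.card_bot] at hcard
      exact hp.one_lt.ne hcard
    refine ⟨hF, hne, fun T E hE => ?_⟩
    have hsub : E.IsSubsystemOf F := hE.1.2.2.1
    have hTS : T ≤ S := hE.1.2.2.2.1.1
    haveI : Fact (Nat.card S).Prime := ⟨hcard ▸ hp⟩
    rcases Subgroup.eq_bot_or_eq_top_of_prime_card (T.subgroupOf S) with h | h
    · left
      rw [Subgroup.subgroupOf_eq_bot] at h
      exact disjoint_self.mp (h.mono_right hTS)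
    · right
      have hST : S ≤ T := Subgroup.subgroupOf_eq_top.mp h
      have hTeq : T = S := le_antisymm hTS hST
      refine ⟨hTeq, fun P => ?_⟩
      apply Set.Subset.antisymm (hsub P)
      intro φ hφ
      rw [hinner P] at hφ
      obtain ⟨hP, rfl⟩ := (inner_hom_iff hab _).1 hφ
      exact subtype_mem E (hP.trans hST)

end Cfsg.Agent.S5337
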