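import Mathlib
import Cfsg.Statements.S5148
import Cfsg.Agent.Lib.Helper25.FusionGrun
import Cfsg.Agent.Lib.Helper25.FusionFactor
import Cfsg.Agent.Lib.Helper25.FusionNormal
import Cfsg.Agent.S5134
import Cfsg.Agent.S5337

set_option autoImplicit false
open Cfsg Cfsg.FusionSystem Cfsg.Agent.Helper25

namespace Cfsg.Agent.S5148

/-- A quasisimple fusion system over a finite p-group S (saturated, equal to its p-residual subsystem, with simple — in particular nontrivial — factor system modulo its centre) has S nonabelian. -/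
theorem result {Ω : Type*} [Group Ω] {S : Subgroup Ω} [Finite S] (p : ℕ) [Fact p.Prime] (hS : IsPGroup p S) (F : Cfsg.FusionSystem S) (hq : F.Quasisimple p) : ¬ IsMulCommutative S := by
  intro hab
  obtain ⟨hF, hhyp, hsimple⟩ := hq
  have hZ : F.IsCentral F.center := isCentral_center F
  have hZS : F.center ≤ S := hZ.1
  have hZsc : F.StronglyClosed F.center := by
    refine ⟨hZS, fun R hR φ hφ x => ?_⟩
    rw [Grun.central_fix F hZ hφ x (hR x.2)]
    exact hR x.2
  have hker : ∀ s : S, QuotientGroup.mk' (F.center.subgroupOf S) s = 1 ↔ (s : Ω) ∈ F.center := by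
    intro s
    rw [QuotientGroup.mk'_apply, QuotientGroup.eq_one_iff, Subgroup.mem_subgroupOf]
  have hrange : (QuotientGroup.mk' (F.center.subgroupOf S)).range = ⊤ :=
    MonoidHom.range_eq_top.2 (QuotientGroup.mk'_surjective _)
  obtain ⟨E, hE⟩ := exists_factorSystem F F.center hZsc
    (QuotientGroup.mk' (F.center.subgroupOf S)) hker ⊤ hrange
  have hEs := hsimple E hE
  have hsurj := Cfsg.Agent.S5134.result p hS F hF F.center hZsc _ E hE
  have hS'p : IsPGroup p ↥(⊤ : Subgroup (↥S ⧸ F.center.subgroupOf S)) :=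
    IsPGroup.of_injective (hS.to_quotient (F.center.subgroupOf S)) (Subgroup.subtype _)
      (Subgroup.subtype_injective _)
  have hab' : ∀ x ∈ (⊤ : Subgroup (↥S ⧸ F.center.subgroupOf S)),
      ∀ y ∈ (⊤ : Subgroup (↥S ⧸ F.center.subgroupOf S)), x * y = y * x := by
    intro x _ y _
    obtain ⟨a, rfl⟩ := QuotientGroup.mk'_surjective (F.center.subgroupOf S) x
    obtain ⟨b, rfl⟩ := QuotientGroup.mk'_surjective (F.center.subgroupOf S) y
    rw [← map_mul, ← map_mul, hab.is_comm.comm a b]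
  have hinner := ((Cfsg.Agent.S5337.result p hS'p E hEs.1 hab').mp hEs).2
  -- every map of F is the identity modulo the centre
  have hmod : ∀ (P : Subgroup Ω) (φ : P →* Ω), φ ∈ F.Hom P → ∀ x : P,
      (x : Ω)⁻¹ * φ x ∈ F.center := by
    intro P φ hφ x
    obtain ⟨⟨hθS', hmor⟩, -, -⟩ := hsurj
    obtain ⟨φ', hφ', hP, hφS, hP', hind⟩ := hmor P φ hφ
    rw [hinner] at hφ'
    obtain ⟨-, hφ'eq⟩ := (Cfsg.Agent.S5337.inner_hom_iff hab' φ').mp hφ'
    have h1 := hind x
    rw [hφ'eq] at h1
    have h2 : QuotientGroup.mk' (F.center.subgroupOf S) ⟨x, hP x.2⟩ =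
        QuotientGroup.mk' (F.center.subgroupOf S) ⟨φ x, hφS x⟩ := h1
    have h3 : QuotientGroup.mk' (F.center.subgroupOf S)
        ((⟨x, hP x.2⟩ : S)⁻¹ * ⟨φ x, hφS x⟩) = 1 := by
      rw [map_mul, map_inv, h2, inv_mul_cancel]
    exact (hker _).1 h3
  have hle : F.hyperfocalSubgroup p ≤ F.center := by
    unfold FusionSystem.hyperfocalSubgroup
    rw [Subgroup.closure_le]
    rintro y ⟨P, α, x, hPS, -, rfl⟩
    have hαF := (mem_autGroup_iff F hPS (α : MulAut P)).mp α.2
    exact hmod P _ hαF x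
  rw [hhyp] at hle
  -- so the quotient is trivial
  apply hEs.2.1
  rw [eq_bot_iff]
  intro y _
  obtain ⟨a, rfl⟩ := QuotientGroup.mk'_surjective (F.center.subgroupOf S) y
  rw [Subgroup.mem_bot]
  exact (hker a).2 (hle a.2)

end Cfsg.Agent.S5148
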