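import Mathlib
import Cfsg.Statements.S5153
import Cfsg.Agent.Lib.Helper25.FusionSat3
import Cfsg.Agent.Lib.Helper25.FusionRecept

set_option autoImplicit false
open Cfsg

namespace Cfsg.Agent.S5153

open Cfsg.FusionSystem Cfsg.Agent.Helper25

variable {Ω : Type*} [Group Ω]

/-- A subsystem lives on a subgroup. -/
theorem le_of_isSubsystemOf {S T : Subgroup Ω} {E : FusionSystem T} {F : FusionSystem S}
    (h : E.IsSubsystemOf F) : T ≤ S :=
  (F.le_of_mem (h T (subtype_mem E le_rfl))).1

/-- One step: a subgroup of a strongly closed `U` fully normalized in `F` is fully normalized in every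
subsystem over `U`. -/
theorem step {S U : Subgroup Ω} [Finite S] (p : ℕ) [Fact p.Prime] (hS : IsPGroup p S)
    (F : FusionSystem S) (hF : F.IsSaturated p) (D : FusionSystem U) (hDF : D.IsSubsystemOf F)
    (hU : F.StronglyClosed U) (P : Subgroup Ω) (hPU : P ≤ U) (hP : F.IsFullyNormalized P) :
    D.IsFullyNormalized P := by
  refine ⟨hPU, fun Q hQ => ?_⟩
  obtain ⟨-, hfa, hrec⟩ := of_fullyNormalized p hS F hF hP
  have hQF : F.IsConj Q P := by
    obtain ⟨φ, hφ, hr⟩ := hQ
    exact isConj_symm F ⟨φ, hDF P hφ, hr⟩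
  obtain ⟨φ, hφ, hφN, -, -⟩ := exists_normalizer_map p hS F P Q hfa hrec hQF
  have hUS : U ≤ S := hU.1
  have hle : normalizerIn U Q ≤ normalizerIn S Q := fun x hx => ⟨hUS hx.1, hx.2⟩
  have hφ' := restrict_mem F hle hφ
  have hval : ∀ x : normalizerIn U Q, (φ.comp (Subgroup.inclusion hle)) x ∈ normalizerIn U P := by
    intro x
    refine ⟨?_, (hφN _).2⟩
    exact hU.2 (normalizerIn U Q) (fun y hy => hy.1) _ hφ' x
  haveI : Finite (normalizerIn U P) :=
    finite_of_le_finite (fun x hx => hUS hx.1 : normalizerIn U P ≤ S)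
  apply Nat.card_le_card_of_injective
    ((φ.comp (Subgroup.inclusion hle)).codRestrict (normalizerIn U P) hval)
  intro a b hab
  have h1 : (φ.comp (Subgroup.inclusion hle)) a = (φ.comp (Subgroup.inclusion hle)) b :=
    congrArg Subtype.val hab
  exact F.injective_of_mem hφ' h1

theorem main {T S : Subgroup Ω} (p : ℕ) (E : FusionSystem T) (F : FusionSystem S)
    (hE : E.IsSubnormalIn F p) :
    T ≤ S ∧ ∀ [Finite S] [Fact p.Prime], IsPGroup p S → F.IsSaturated p →
      ∀ P : Subgroup Ω, P ≤ T → F.IsFullyNormalized P → E.IsFullyNormalized P := by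
  induction hE with
  | refl F p => exact ⟨le_rfl, fun _ _ _ _ hP => hP⟩
  | step hED hDF ih =>
    rename_i T U S E D F p
    obtain ⟨hTU, ih⟩ := ih
    have hUS : U ≤ S := le_of_isSubsystemOf hDF.1.2.2.1
    refine ⟨hTU.trans hUS, ?_⟩
    intro _ _ hS hF P hPT hP
    haveI : Finite U := finite_of_le_finite hUS
    have hUp : IsPGroup p U := hS.to_le hUS
    have hDsat : D.IsSaturated p := hDF.1.1
    have h1 := step p hS F hF D hDF.1.2.2.1 hDF.1.2.2.2.1 P (hPT.trans hTU) hP
    exact ih hUp hDsat P hPT h1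

/-- Let F be a saturated fusion system over a finite p-group S and E a subnormal subsystem of F over T. Then every subgroup of T that is fully normalized in F is fully normalized in E. -/
theorem result {Ω : Type*} [Group Ω] {S : Subgroup Ω} [Finite S] (p : ℕ) [Fact p.Prime] (hS : IsPGroup p S) (F : Cfsg.FusionSystem S) (hF : F.IsSaturated p) {T : Subgroup Ω} (E : Cfsg.FusionSystem T) (hE : E.IsSubnormalIn F p) (P : Subgroup Ω) (hPT : P ≤ T) (hP : F.IsFullyNormalized P) : E.IsFullyNormalized P :=
  (main p E F hE).2 hS hF P hPT hP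

end Cfsg.Agent.S5153
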