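import Cfsg.Statements.S5155
import Cfsg.Agent.S5097
import Cfsg.Agent.S5099
import Cfsg.Agent.S5113
import Cfsg.Agent.S5120
import Cfsg.Agent.S5127
import Cfsg.Agent.S5293
import Cfsg.Agent.S5140
import Cfsg.Agent.S5141
import Cfsg.Agent.Lib.CFE.CFEWN
import Cfsg.Agent.Lib.CFE.CFEFacts

set_option autoImplicit false
open Cfsg

namespace Cfsg.Agent.S5155

/-- Let F be a saturated fusion system over a finite p-group S, E a normal subsystem over T, and Y the largest subgroup of C_S(T) such that E is a subsystem of the centralizer system of Y (every map of E extends to a map of F fixing Y elementwise). Then there is a normal subsystem of F over Y that is a subsystem of the centralizer system of T. -/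
theorem result {Ω : Type*} [Group Ω] {S : Subgroup Ω} [Finite S] (p : ℕ) [Fact p.Prime] (hS : IsPGroup p S) (F : Cfsg.FusionSystem S) (hF : F.IsSaturated p) {T : Subgroup Ω} (E : Cfsg.FusionSystem T) (hE : E.IsNormalIn F p) (Y : Subgroup Ω) (hY : Y ≤ Cfsg.FusionSystem.centralizerIn S T) (hEY : ∀ P : Subgroup Ω, E.Hom P ⊆ F.centralizerHom Y P) (hmax : ∀ Y' : Subgroup Ω, Y' ≤ Cfsg.FusionSystem.centralizerIn S T → (∀ P : Subgroup Ω, E.Hom P ⊆ F.centralizerHom Y' P) → Y' ≤ Y) : ∃ D : Cfsg.FusionSystem Y, D.IsNormalIn F p ∧ ∀ P : Subgroup Ω, D.Hom P ⊆ F.centralizerHom T P := by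
  classical
  have hinv : E.IsInvariantIn F := hE.1.2.2
  have hT : F.StronglyClosed T := hinv.2.1
  have hTS : T ≤ S := hT.1
  -- `Y = C_S(E)` is strongly closed in `F`
  have hYsc : F.StronglyClosed Y := by
    obtain ⟨C', hC'le, hC'E, hC'max, hC'sc⟩ := Cfsg.Agent.S5127.result p hS F hF E hE
    have h1 : Y ≤ C' := hC'max Y hY hEY
    have h2 : C' ≤ Y := hmax C' hC'le hC'E
    rw [le_antisymm h1 h2]
    exact hC'sc
  -- the centralizer system `C = C_F(T)` over `K = C_S(T)`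
  obtain ⟨C, hC⟩ := Cfsg.Agent.S5097.result F T hTS
  have hK : Cfsg.FusionSystem.centralizerIn S T ≤ S := inf_le_left
  haveI : Finite ↥(Cfsg.FusionSystem.centralizerIn S T) :=
    Cfsg.Agent.Helper25.finite_of_le_finite hK
  have hKp : IsPGroup p ↥(Cfsg.FusionSystem.centralizerIn S T) := hS.to_le hK
  have hTfc : F.IsFullyCentralized T :=
    (Cfsg.Agent.Helper25.of_fullyNormalized p hS F hF
      (Cfsg.Agent.Helper16.PPowNormal.isFullyNormalized_of_stronglyClosed F hT)).1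
  have hCsat : C.IsSaturated p := Cfsg.Agent.S5099.result p hS F hF T hTfc C hC
  have hset : Cfsg.Agent.Helper9.CFE.Setup p F T Y C := ⟨hS, hF, hT, hYsc, hY, hC⟩
  -- `hyp(C) ≤ foc(C) ≤ Y`
  have hhyp : C.hyperfocalSubgroup p ≤ Y := by
    refine (Cfsg.Agent.Helper9.CFE.cfe_hyperfocal_le_focal C p).trans ?_
    refine (Cfsg.Agent.S5293.result p hS F hF E hE _ rfl C hC).trans ?_
    exact sSup_le (fun X hX => hmax X hX.1 hX.2)
  -- the saturated subsystem `D₀` of `p`-power index in `C` over `Y`; it is normal in `C`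
  obtain ⟨D₀, ⟨hD₀s, hD₀i⟩, -⟩ := Cfsg.Agent.S5113.result p hKp C hCsat Y hY hhyp
  have hYn : (Y.subgroupOf (Cfsg.FusionSystem.centralizerIn S T)).Normal :=
    Cfsg.Agent.Helper9.CFE.cfe_normal_of_stronglyClosed hYsc hK
  have hD₀n : D₀.IsNormalIn C p :=
    Cfsg.Agent.S5120.result p hKp C hCsat Y hY hYn hhyp D₀ hD₀s hD₀i
  -- `D₀` is weakly normal in `F`
  have hwn : D₀.IsWeaklyNormalIn F p :=
    Cfsg.Agent.Helper9.CFE.weaklyNormal hset D₀ hD₀s hD₀i hD₀n.1.2.2
  -- `D = O^{p'}(D₀)` is normal in `F`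
  have hYS : Y ≤ S := hYsc.1
  haveI : Finite ↥Y := Cfsg.Agent.Helper25.finite_of_le_finite hYS
  have hYp : IsPGroup p ↥Y := hS.to_le hYS
  obtain ⟨D, hD⟩ := Cfsg.Agent.S5140.result p hYp D₀ hD₀s
  refine ⟨D, Cfsg.Agent.S5141.result p hS F hF D₀ hwn D hD, ?_⟩
  intro P φ hφ
  have h1 : φ ∈ D₀.Hom P := hD.2.1.1 P hφ
  have h2 : φ ∈ C.Hom P := hD₀i.1 P h1
  rw [hC P] at h2
  exact h2

end Cfsg.Agent.S5155
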