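import Mathlib
import Cfsg.Statements.S5159
import Cfsg.Agent.Lib.Helper25.FusionSolv3

set_option autoImplicit false
open Cfsg Cfsg.FusionSystem Cfsg.Agent.Helper25

namespace Cfsg.Agent.S5159

/-- Let F be a saturated fusion system over a finite p-group S, E a normal subsystem over T, and D the factor system of F modulo T (read through any homomorphism on S with kernel T). Then F is solvable if and only if E and D are solvable (solvable, for a system over a subgroup S: for every subgroup R other than S that is strongly closed in F, the factor system of F modulo R has a nontrivial subgroup normal in it). -/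
theorem result {Ω : Type*} [Group Ω] {S : Subgroup Ω} [Finite S] (p : ℕ) [Fact p.Prime] (hS : IsPGroup p S) (F : Cfsg.FusionSystem S) (hF : F.IsSaturated p) {T : Subgroup Ω} (E : Cfsg.FusionSystem T) (hE : E.IsNormalIn F p) {Ω' : Type*} [Group Ω'] {S' : Subgroup Ω'} (θ : S →* Ω') (D : Cfsg.FusionSystem S') (hD : F.IsFactorSystem T θ D) : F.IsSolvableSystem ↔ (E.IsSolvableSystem ∧ D.IsSolvableSystem) := by
  obtain ⟨⟨hEsat, -, hinv⟩, -⟩ := hE
  have hTsc : F.StronglyClosed T := hinv.2.1
  have hTS : T ≤ S := hTsc.1
  haveI : Finite T := finite_of_le_finite hTS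
  have hTp : IsPGroup p T := hS.to_le hTS
  have hsurj := Cfsg.Agent.S5134.result p hS F hF T hTsc θ D hD
  have hDsat : D.IsSaturated p := isSaturated_of_surj hS hF hsurj
  have hrange : θ.range = S' := hD.2.2.1
  haveI : Finite S' := by
    rw [← hrange]
    exact Finite.of_surjective θ.rangeRestrict θ.rangeRestrict_surjective
  have hS'p : IsPGroup p S' := by
    rw [← hrange]
    exact IsPGroup.of_surjective hS θ.rangeRestrict θ.rangeRestrict_surjective
  constructor
  · intro hsolv
    have hc := Solv.hasChain_of_solvable p hS hF hsolv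
    exact ⟨Solv.solvable_of_hasChain p hTp hEsat (Solv.hasChain_inf hinv.1 hTS hc),
      Solv.solvable_of_hasChain p hS'p hDsat (Solv.hasChain_image hD hc)⟩
  · rintro ⟨hEs, hDs⟩
    have hc1 := Solv.hasChain_autCore hinv (Solv.hasChain_of_solvable p hTp hEsat hEs)
    have hc2 := Solv.hasChain_preimage p hS hF hTsc hD
      (Solv.hasChain_of_solvable p hS'p hDsat hDs)
    exact Solv.solvable_of_hasChain p hS hF (hc1.trans hc2)

end Cfsg.Agent.S5159
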