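import Mathlib
import Cfsg.Statements.S5160
import Cfsg.Agent.Lib.Helper25.FusionSimpCrit
import Cfsg.Agent.Lib.Helper25.FusionSylow3

set_option autoImplicit false
open Cfsg Cfsg.FusionSystem Cfsg.Agent.Helper25

namespace Cfsg.Agent.S5160

/-- Let G be a finite group with nontrivial Sylow p-subgroup S and F its fusion system on S. Suppose (a) no nontrivial proper subgroup of S is strongly closed in F, and (b) the automorphisms of S induced by G are generated by those induced, for R running over the fully normalized radical centric subgroups of F, by the subgroup of N_G(R) generated by its elements of p-power order. Then F is simple. -/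
theorem result {G : Type*} [Group G] [Finite G] (p : ℕ) [Fact p.Prime] (S : Sylow p G) (hS1 : (S : Subgroup G) ≠ ⊥) (ha : ∀ T : Subgroup G, (Cfsg.groupFusionSystem (S : Subgroup G)).StronglyClosed T → T = ⊥ ∨ T = (S : Subgroup G)) (hb : Cfsg.autInducedBy ⊤ (S : Subgroup G) = ⨆ (R : Subgroup G) (_ : (Cfsg.groupFusionSystem (S : Subgroup G)).IsFullyNormalized R ∧ (Cfsg.groupFusionSystem (S : Subgroup G)).IsRadical p R ∧ (Cfsg.groupFusionSystem (S : Subgroup G)).IsCentric R), Cfsg.autInducedBy (Subgroup.closure {g : G | g ∈ Subgroup.normalizer (R : Set G) ∧ ∃ k : ℕ, orderOf g = p ^ k}) (S : Subgroup G)) : (Cfsg.groupFusionSystem (S : Subgroup G)).IsSimple p := by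
  have hF : (Cfsg.groupFusionSystem (S : Subgroup G)).IsSaturated p :=
    groupFusionSystem_isSaturated p S
  have hSp : IsPGroup p (S : Subgroup G) := S.isPGroup'
  refine ⟨hF, hS1, fun T E hE => ?_⟩
  obtain ⟨⟨hEsat, -, hinv⟩, -⟩ := hE
  rcases ha T hinv.2.1 with hT | hT
  · exact Or.inl hT
  · right
    subst hT
    refine ⟨rfl, fun P => ?_⟩
    apply SimpCrit.hom_eq_of_autGroup_le hinv
    rw [groupFusionSystem_autGroup le_rfl, hb]
    apply iSup_le
    intro R
    apply iSup_le
    rintro ⟨hRfn, hRrad, hRc⟩
    intro β hβ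
    obtain ⟨g, hg, hgβ⟩ := (mem_autInducedBy_iff β).mp hβ
    have hgN : g ∈ Subgroup.normalizer (R : Set G) :=
      (Subgroup.closure_le _).mpr (fun x hx => hx.1) hg
    have hβF : β ∈ (Cfsg.groupFusionSystem (S : Subgroup G)).autGroup (S : Subgroup G) := by
      rw [groupFusionSystem_autGroup le_rfl]
      exact (mem_autInducedBy_iff β).mpr ⟨g, trivial, hgβ⟩
    refine SimpCrit.mem_autGroup_of_restrict_mem_closure p hSp _ hF hEsat hinv hβF hRc
      (R.normalizerMonoidHom ⟨g, hgN⟩) ?_ (fun x => ?_)
    · have key : ∀ x (hx : x ∈ Subgroup.closure {g : G | g ∈ Subgroup.normalizer (R : Set G) ∧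
          ∃ k : ℕ, orderOf g = p ^ k}), ∃ hN : x ∈ Subgroup.normalizer (R : Set G),
          R.normalizerMonoidHom ⟨x, hN⟩ ∈ Subgroup.closure {δ : MulAut R |
            δ ∈ (Cfsg.groupFusionSystem (S : Subgroup G)).autGroup R ∧
              ∃ k : ℕ, δ ^ p ^ k = 1} := by
        intro x hx
        induction hx using Subgroup.closure_induction with
        | mem y hy =>
          obtain ⟨hyN, k, hk⟩ := hy
          refine ⟨hyN, Subgroup.subset_closure ⟨?_, k, ?_⟩⟩
          · rw [groupFusionSystem_autGroup hRc.1]
            exact (mem_autInducedBy_iff _).mpr ⟨y, trivial, fun z => rfl⟩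
          · rw [← map_pow]
            have : (⟨y, hyN⟩ : Subgroup.normalizer (R : Set G)) ^ p ^ k = 1 := by
              apply Subtype.ext
              show y ^ p ^ k = 1
              rw [← hk]; exact pow_orderOf_eq_one y
            rw [this, map_one]
        | one =>
          refine ⟨Subgroup.one_mem _, ?_⟩
          have : (⟨1, Subgroup.one_mem _⟩ : Subgroup.normalizer (R : Set G)) = 1 := rfl
          rw [this, map_one]
          exact Subgroup.one_mem _
        | mul a b _ _ iha ihb =>
          obtain ⟨haN, ha'⟩ := iha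
          obtain ⟨hbN, hb'⟩ := ihb
          refine ⟨Subgroup.mul_mem _ haN hbN, ?_⟩
          have : (⟨a * b, Subgroup.mul_mem _ haN hbN⟩ : Subgroup.normalizer (R : Set G)) =
              ⟨a, haN⟩ * ⟨b, hbN⟩ := rfl
          rw [this, map_mul]
          exact Subgroup.mul_mem _ ha' hb'
        | inv a _ iha =>
          obtain ⟨haN, ha'⟩ := iha
          refine ⟨Subgroup.inv_mem _ haN, ?_⟩
          have : (⟨a⁻¹, Subgroup.inv_mem _ haN⟩ : Subgroup.normalizer (R : Set G)) =
              (⟨a, haN⟩ : Subgroup.normalizer (R : Set G))⁻¹ := rfl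
          rw [this, map_inv]
          exact Subgroup.inv_mem _ ha'
      obtain ⟨hN', h'⟩ := key g hg
      exact h'
    · rw [hgβ]
      rfl

end Cfsg.Agent.S5160
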