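import Mathlib
import Cfsg.Statements.S5163
import Cfsg.Agent.Lib.Helper25.PSLFus13

set_option autoImplicit false
open Cfsg Cfsg.FusionSystem Cfsg.Agent.Helper25

namespace Cfsg.Agent.S5163

/-- For a finite field K of characteristic p and n ≥ 3, the p-fusion system of the projective special linear group PSL_n(K) on a Sylow p-subgroup is simple. -/
theorem result {K : Type*} [Field K] [Fintype K] (p : ℕ) [Fact p.Prime] [CharP K p] (n : ℕ) (hn : 3 ≤ n) (S : Sylow p (Matrix.ProjectiveSpecialLinearGroup (Fin n) K)) : (Cfsg.groupFusionSystem (S : Subgroup (Matrix.ProjectiveSpecialLinearGroup (Fin n) K))).IsSimple p := by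
  obtain ⟨m, rfl⟩ : ∃ m, n = m + 3 := ⟨n - 3, by omega⟩
  exact SimpCrit.isSimple_of_data p (PSLFus.PSylow p m K) (PSLFus.PSylow_ne_bot p)
    (PSLFus.PSylow_noClosed p) (PSLFus.PSylow_autGen p) S

end Cfsg.Agent.S5163
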