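import Mathlib
import Cfsg.Statements.S5164
import Cfsg.Agent.Lib.Helper17.SylowAlt

set_option autoImplicit false
open Cfsg

namespace Cfsg.Agent.S5164

open Cfsg.Agent.Helper17.SylowAlt

/-- For n ≥ 6 and a prime p, a nontrivial Sylow p-subgroup of the alternating group of degree n is abelian if and only if n < p². -/
theorem result (n p : ℕ) (hn : 6 ≤ n) [Fact p.Prime] (S : Sylow p (alternatingGroup (Fin n))) (hS : (S : Subgroup (alternatingGroup (Fin n))) ≠ ⊥) : IsMulCommutative S ↔ n < p ^ 2 := by
  classical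
  have hp := (Fact.out : p.Prime)
  constructor
  · -- a commutative Sylow subgroup forces `n < p ^ 2`
    intro hS'
    by_contra hge
    push Not at hge
    rcases hp.eq_two_or_odd' with h2 | hodd
    · subst h2
      have hcard : Fintype.card ((ZMod 2 × ZMod 2) ⊕ Fin 2) ≤ Fintype.card (Fin n) := by
        simp only [Fintype.card_sum, Fintype.card_prod, ZMod.card, Fintype.card_fin]
        omega
      obtain ⟨ι⟩ := Function.Embedding.nonempty_of_card_le hcard
      let ψ : Equiv.Perm (ZMod 2 × ZMod 2) →* Equiv.Perm (Fin n) :=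
        (Equiv.Perm.extendDomainHom (Equiv.ofInjective ι ι.2)).comp (signFix (ZMod 2 × ZMod 2))
      have hψ : Function.Injective ψ :=
        (Equiv.Perm.extendDomainHom_injective (Equiv.ofInjective ι ι.2)).comp
          (signFix_injective (ZMod 2 × ZMod 2))
      have himg : ∀ σ ∈ heis 2, ψ σ ∈ alternatingGroup (Fin n) := by
        intro σ _
        rw [Equiv.Perm.mem_alternatingGroup]
        show Equiv.Perm.sign (Equiv.Perm.extendDomain (signFix (ZMod 2 × ZMod 2) σ)
          (Equiv.ofInjective ι ι.2)) = 1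
        rw [Equiv.Perm.sign_extendDomain, sign_signFix]
      exact heis_not_comm 2 (comm_of_sylow_comm S hS' ψ hψ (heis 2) (heis_isPGroup 2) himg
        (heisA_mem 2) (heisB_mem 2))
    · have hcard : Fintype.card (ZMod p × ZMod p) ≤ Fintype.card (Fin n) := by
        simp only [Fintype.card_prod, ZMod.card, Fintype.card_fin]
        rw [← pow_two]
        exact hge
      obtain ⟨ι⟩ := Function.Embedding.nonempty_of_card_le hcard
      let ψ : Equiv.Perm (ZMod p × ZMod p) →* Equiv.Perm (Fin n) :=
        Equiv.Perm.extendDomainHom (Equiv.ofInjective ι ι.2)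
      have hψ : Function.Injective ψ :=
        Equiv.Perm.extendDomainHom_injective (Equiv.ofInjective ι ι.2)
      have himg : ∀ σ ∈ heis p, ψ σ ∈ alternatingGroup (Fin n) := by
        intro σ hσ
        rw [Equiv.Perm.mem_alternatingGroup]
        show Equiv.Perm.sign (Equiv.Perm.extendDomain σ (Equiv.ofInjective ι ι.2)) = 1
        rw [Equiv.Perm.sign_extendDomain]
        obtain ⟨k, hk⟩ := heis_isPGroup p ⟨σ, hσ⟩
        have hk' : σ ^ (p ^ k) = 1 := congrArg Subtype.val hk
        exact sign_eq_one_of_pow σ (hodd.pow) hk'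
      exact heis_not_comm p (comm_of_sylow_comm S hS' ψ hψ (heis p) (heis_isPGroup p) himg
        (heisA_mem p) (heisB_mem p))
  · intro hlt
    let P : Subgroup (Equiv.Perm (Fin n)) :=
      (S : Subgroup (alternatingGroup (Fin n))).map (alternatingGroup (Fin n)).subtype
    have hP : IsPGroup p P := S.2.map _
    refine ⟨⟨fun a b => ?_⟩⟩
    apply Subtype.ext
    apply Subtype.ext
    have ha : ((a : alternatingGroup (Fin n)) : Equiv.Perm (Fin n)) ∈ P := ⟨a.1, a.2, rfl⟩
    have hb : ((b : alternatingGroup (Fin n)) : Equiv.Perm (Fin n)) ∈ P := ⟨b.1, b.2, rfl⟩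
    exact comm_of_card_lt P hP (by rw [Fintype.card_fin]; exact hlt) ha hb

end Cfsg.Agent.S5164
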