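import Mathlib
import Cfsg.Statements.S5171
import Cfsg.Agent.Lib.Helper25.PSpFus12

set_option autoImplicit false
open Cfsg Cfsg.FusionSystem Cfsg.Agent.Helper25

namespace Cfsg.Agent.S5171

/-- For a finite field K of characteristic p and m ≥ 2, excluding the case m = 2 with K of two elements, the p-fusion system of the projective symplectic group PSp_{2m}(K) on a Sylow p-subgroup is simple. -/
theorem result {K : Type*} [Field K] [Fintype K] (p : ℕ) [Fact p.Prime] [CharP K p] (m : ℕ) (hm : 2 ≤ m) (hex : m = 2 → 3 ≤ Fintype.card K) (S : Sylow p (Cfsg.PSp m K)) : (Cfsg.groupFusionSystem (S : Subgroup (Cfsg.PSp m K))).IsSimple p := by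
  haveI : NeZero m := ⟨by omega⟩
  haveI : Nonempty (Fin m) := ⟨0⟩
  have hZ : ∀ z ∈ Subgroup.center (Matrix.symplecticGroup (Fin m) K), ∀ k : ℕ,
      z ^ p ^ k = 1 → z = 1 := by
    intro z hz k hk
    rcases (Cfsg.Agent.Helper2.Sp.mem_center_iff z).mp hz with h | h
    · exact h
    · rw [h]
      rw [h] at hk
      -- `negOne ^ p ^ k = 1` forces `-1 = 1`
      rw [Cfsg.Agent.Helper2.Sp.negOne_eq_one_iff]
      have h1 := congrArg Subtype.val hk
      rw [PSpFus.spv_pow, Cfsg.Agent.Helper2.Sp.negOne_coe, PSpFus.spv_one] at h1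
      have h2 := congrFun (congrFun h1 (Sum.inl 0)) (Sum.inl 0)
      rw [Matrix.one_apply_eq] at h2
      have h3 : ((-1 : Matrix (Fin m ⊕ Fin m) (Fin m ⊕ Fin m) K) ^ p ^ k) =
          Matrix.diagonal (fun _ => (-1 : K) ^ p ^ k) := by
        have : (-1 : Matrix (Fin m ⊕ Fin m) (Fin m ⊕ Fin m) K) =
            Matrix.diagonal (fun _ => (-1 : K)) := by
          rw [← Matrix.diagonal_one, ← Matrix.diagonal_neg]
        rw [this, Matrix.diagonal_pow]
        rfl
      rw [h3, Matrix.diagonal_apply_eq] at h2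
      -- `(-1)^(p^k) = 1` in `K`
      rcases Nat.Prime.eq_two_or_odd' (Fact.out : p.Prime) with hp2 | hodd
      · subst hp2
        exact CharTwo.neg_eq (1 : K)
      · have : Odd (p ^ k) := hodd.pow
        rw [this.neg_one_pow] at h2
        exact h2
  have hU1 : ((PSpFus.USylowSp p : Sylow p (Matrix.symplecticGroup (Fin m) K)) :
      Subgroup (Matrix.symplecticGroup (Fin m) K)) ≠ ⊥ := by
    rw [PSpFus.coe_USylowSp]
    intro hbot
    have hmem : PSpFus.xl (0 : Fin m) (1 : K) ∈ PSpFus.USp m K := PSpFus.sg_mem_USp _ _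
    rw [hbot, Subgroup.mem_bot] at hmem
    have h1 := congrArg Subtype.val hmem
    rw [PSpFus.xl_val, PSpFus.spv_one] at h1
    have h2 := congrFun (congrFun h1 (Sum.inl 0)) (Sum.inr 0)
    rw [Matrix.add_apply, Matrix.one_apply_ne Sum.inl_ne_inr, Matrix.single_apply_same,
      zero_add] at h2
    exact one_ne_zero h2
  have hNoClosed : SimpCrit.NoClosed ((PSpFus.USylowSp p :
      Sylow p (Matrix.symplecticGroup (Fin m) K)) :
      Subgroup (Matrix.symplecticGroup (Fin m) K)) := by
    rw [PSpFus.coe_USylowSp]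
    intro T hTU hne hfc
    exact PSpFus.eq_USp_of_fusClosed p hm hex T hTU hne hfc
  have hAG := PSpFus.autGen_USp (K := K) p hm
  exact SimpCrit.isSimple_of_central_quotient p (PSpFus.USylowSp p) hZ hU1 hNoClosed
    (by rw [PSpFus.coe_USylowSp]; exact hAG) S

end Cfsg.Agent.S5171
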