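import Mathlib
import Cfsg.Statements.S5178
import Cfsg.Agent.Lib.Helper14.FusExtraG
import Cfsg.Agent.Lib.Helper3.SmallCenter6
import Cfsg.Agent.S5087

set_option autoImplicit false
universe u
open Cfsg

namespace Cfsg.Agent.S5178

/-- Let p be an odd prime, S a finite p-group containing an extraspecial subgroup Q of index p, and F a saturated fusion system over S whose largest subgroup normal in F is trivial. Then the centre of S equals the centre of Q. -/
theorem result {Ω : Type u} [Group Ω] {S : Subgroup Ω} [Finite S] (p : ℕ) [Fact p.Prime] (hp : Odd p) (hS : IsPGroup p S)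
    (Q : Subgroup Ω) (hQS : Q ≤ S) (hQ : Cfsg.IsExtraspecial p ↥Q) (hQi : (Q.subgroupOf S).index = p)
    (F : Cfsg.FusionSystem S) (hF : F.IsSaturated p) (hO : F.core = ⊥) :
    S ⊓ Subgroup.centralizer (S : Set Ω) = Q ⊓ Subgroup.centralizer (Q : Set Ω) := by
  classical
  have hp' : p.Prime := Fact.out
  have hp2 : p ≠ 2 := by
    rintro rfl
    exact absurd hp (by decide)
  have hZc : ∀ z ∈ Cfsg.Agent.Helper14.FusExtra.zQ Q, ∀ s ∈ S, s * z = z * s :=
    fun z hz s hs => Cfsg.Agent.Helper14.FusExtra.zQ_central hS hQS hQ hQi hz hs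
  have hQeq : Q ⊓ Subgroup.centralizer (Q : Set Ω) = Cfsg.Agent.Helper14.FusExtra.zQ Q := by
    ext z
    rw [Subgroup.mem_inf, Subgroup.mem_centralizer_iff, Cfsg.Agent.Helper14.FusExtra.mem_zQ_iff]
    rfl
  rw [hQeq]
  have hZS : Cfsg.Agent.Helper14.FusExtra.zQ Q ≤ S := (Cfsg.Agent.Helper14.FusExtra.zQ_le Q).trans hQS
  apply le_antisymm
  · intro w hw
    obtain ⟨hwS, hwc⟩ := Subgroup.mem_inf.mp hw
    have hwc' : ∀ s ∈ S, s * w = w * s := fun s hs => Subgroup.mem_centralizer_iff.mp hwc s hs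
    by_contra hwZ
    have hwQ : w ∉ Q := fun h =>
      hwZ (Cfsg.Agent.Helper14.FusExtra.mem_zQ_iff.mpr ⟨h, fun q hq => hwc' q (hQS hq)⟩)
    have hdec : ∀ s ∈ S, ∃ q ∈ Q, ∃ k : ℤ, s = w ^ k * q := fun s hs =>
      Cfsg.Agent.Helper14.FusExtra.exists_decomp_of_not_mem hS hQi hwS hwQ hs
    have hcomm : ∀ a ∈ S, ∀ b ∈ S, a * b * a⁻¹ * b⁻¹ ∈ Cfsg.Agent.Helper14.FusExtra.zQ Q :=
      fun a ha b hb => Cfsg.Agent.Helper14.FusExtra.comm_mem_zQ_of_central hQ hQS hwS hwc' hdec ha hb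
    obtain ⟨z₀, hz₀, hz₀1, hgen⟩ := Cfsg.Agent.Helper14.FusExtra.exists_gen_zQ hQ
    -- `Q` is not abelian
    obtain ⟨q₁, hq₁, q₂, hq₂, hq12⟩ : ∃ q₁ ∈ Q, ∃ q₂ ∈ Q, q₁ * q₂ ≠ q₂ * q₁ := by
      by_contra h
      push Not at h
      have h1 : commutator ↥Q = ⊥ := by
        rw [commutator_def, Subgroup.commutator_eq_bot_iff_le_centralizer]
        intro a _
        rw [Subgroup.mem_centralizer_iff]
        intro b _
        exact Subtype.ext (h b b.2 a a.2)
      have h2 : Subgroup.center ↥Q = ⊥ := by rw [← hQ.1.2.2, h1]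
      have h3 := hQ.2
      rw [h2, Subgroup.card_bot] at h3
      exact hp'.one_lt.ne' h3.symm
    -- the centre of `Q` is not normal in `F`
    have hnn : ¬ F.IsNormal (Cfsg.Agent.Helper14.FusExtra.zQ Q) := by
      intro hN
      have h1 := Cfsg.Agent.Helper3.SC.eq_bot_of_isNormal hO hN
      rw [h1] at hz₀
      exact hz₀1 (Subgroup.mem_bot.mp hz₀)
    rw [Cfsg.Agent.S5087.result p hS F hF (Cfsg.Agent.Helper14.FusExtra.zQ Q)] at hnn
    push Not at hnn
    obtain ⟨P, hP, hPn⟩ := hnn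
    have hPS : P ≤ S := by
      rcases hP with rfl | hP
      · exact le_rfl
      · exact hP.1.1
    have hZP : Cfsg.Agent.Helper14.FusExtra.zQ Q ≤ P := by
      rcases hP with rfl | hP
      · exact hZS
      · refine le_trans ?_ (hP.1.2 P (Cfsg.Agent.Helper25.isConj_refl F hPS))
        intro z hz
        rw [Cfsg.Agent.Helper25.mem_centralizerIn]
        exact ⟨hZS hz, fun x hx => hZc z hz x (hPS hx)⟩
    obtain ⟨α, hα, hαne⟩ := hPn hZP
    have habP : ∀ x ∈ P, ∀ y ∈ P, x * y = y * x := by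
      by_contra h
      push Not at h
      obtain ⟨e₁, he₁, e₂, he₂, hne⟩ := h
      exact hαne (Cfsg.Agent.Helper14.FusExtra.map_zQ_eq_of_nonabelian hQ hPS hcomm he₁ he₂ hne α)
    have hPess : F.IsEssential p P := by
      rcases hP with rfl | hP
      · exact absurd (habP q₁ (hQS hq₁) q₂ (hQS hq₂)) hq12
      · exact hP
    have hPne : P ≠ S := by
      rintro rfl
      exact Cfsg.Agent.Helper25.Omit.not_isEssential_self p F hF hPess
    obtain ⟨hcen, hfn, hnormal, H, hH⟩ := hPess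
    have hCE : Cfsg.FusionSystem.centralizerIn S P ≤ P :=
      hcen.2 P (Cfsg.Agent.Helper25.isConj_refl F hPS)
    haveI := hnormal
    obtain ⟨y, hy, hyc⟩ := Cfsg.Agent.Helper14.FusExtra.exists_cent_le_of_abelian p hS F hQ hPS hCE habP
      hZP hcomm H hH
    have hidx := Cfsg.Agent.Helper14.FusExtra.index_center_le hQ hQS hcomm hZc hPS habP hPne hy hyc
    have hS1 : S ≠ ⊥ := by
      intro h
      have h1 := hZS hz₀
      rw [h] at h1
      exact hz₀1 (Subgroup.mem_bot.mp h1)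
    have Hy : Cfsg.Agent.Helper3.SC.Hyp p F := ⟨hS, hF, hO, hS1, hidx⟩
    have hZSd := Cfsg.Agent.Helper3.SC.Zc_eq_Sd_odd hp2 Hy
    have hwZc : w ∈ Cfsg.FusionSystem.centralizerIn S S :=
      Cfsg.Agent.Helper25.mem_centralizerIn.mpr ⟨hwS, hwc'⟩
    rw [hZSd] at hwZc
    apply hwZ
    have hle : Cfsg.Agent.Helper3.SC.Sd S ≤ Cfsg.Agent.Helper14.FusExtra.zQ Q := by
      unfold Cfsg.Agent.Helper3.SC.Sd
      rw [Subgroup.closure_le]
      rintro _ ⟨a, ha, b, hb, rfl⟩
      exact hcomm a ha b hb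
    exact hle hwZc
  · intro z hz
    exact Subgroup.mem_inf.mpr ⟨hZS hz, Subgroup.mem_centralizer_iff.mpr fun s hs => hZc z hz s hs⟩

end Cfsg.Agent.S5178
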