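import Mathlib
import Cfsg.Statements.S5179
import Cfsg.Agent.Lib.Helper14.FusExtraD
import Cfsg.Agent.S5080

set_option autoImplicit false
universe u
open Cfsg

namespace Cfsg.Agent.S5179

/-- Let p be an odd prime, S a finite p-group of order at least p⁶ containing an extraspecial subgroup Q of index p, and F a saturated fusion system over S whose largest subgroup normal in F is trivial. Then no proper subgroup of Q is essential in F: an essential subgroup of F contained in Q equals Q. -/
theorem result {Ω : Type u} [Group Ω] {S : Subgroup Ω} [Finite S] (p : ℕ) [Fact p.Prime] (hp : Odd p) (hS : IsPGroup p S)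
    (Q : Subgroup Ω) (hQS : Q ≤ S) (hQ : Cfsg.IsExtraspecial p ↥Q) (hQi : (Q.subgroupOf S).index = p)
    (h6 : p ^ 6 ≤ Nat.card S)
    (F : Cfsg.FusionSystem S) (hF : F.IsSaturated p) (hO : F.core = ⊥)
    (E : Subgroup Ω) (hEQ : E ≤ Q) (hE : F.IsEssential p E) : E = Q := by
  classical
  have hp : p.Prime := Fact.out
  by_contra hne
  have hrad : F.IsRadical p E := Cfsg.Agent.S5080.result p hS F hF E hE
  obtain ⟨hcen, hfn, hnormal, H, hH⟩ := hE
  have hES : E ≤ S := hcen.1
  have hCE : Cfsg.FusionSystem.centralizerIn S E ≤ E :=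
    hcen.2 E (Cfsg.Agent.Helper25.isConj_refl F hES)
  haveI : Finite Q := Cfsg.Agent.Helper25.finite_of_le_finite hQS
  -- |Q| ≥ p^5
  have h5 : p ^ 5 ≤ Nat.card Q := by
    have h1 : Nat.card (Q.subgroupOf S) * (Q.subgroupOf S).index = Nat.card S :=
      Subgroup.card_mul_index _
    have h2 : Nat.card (Q.subgroupOf S) = Nat.card Q :=
      Nat.card_congr (Subgroup.subgroupOfEquivOfLe hQS).toEquiv
    rw [hQi, h2] at h1
    rw [← h1] at h6
    have h3 : p ^ 6 = p ^ 5 * p := by ring
    rw [h3] at h6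
    exact Nat.le_of_mul_le_mul_right h6 hp.pos
  by_cases hab : ∀ x ∈ E, ∀ y ∈ E, x * y = y * x
  · haveI := hnormal
    exact Cfsg.Agent.Helper14.FusExtra.false_of_abelian p hS F hQS hQ h5 hEQ hCE hab hne H hH
  · push Not at hab
    obtain ⟨e₁, he₁, e₂, he₂, h12⟩ := hab
    obtain ⟨q₀, hq₀Q, hq₀E⟩ : ∃ q₀ ∈ Q, q₀ ∉ E := by
      by_contra h
      push Not at h
      exact hne (le_antisymm hEQ h)
    exact Cfsg.Agent.Helper14.FusExtra.false_of_nonabelian p F hQS hQ hEQ hCE hrad he₁ he₂ h12
      hq₀Q hq₀E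

end Cfsg.Agent.S5179
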