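import Mathlib
import Cfsg.Statements.S5186
import Cfsg.Agent.Lib.Helper26.EssentialChain
import Cfsg.Agent.Lib.Helper26.OrderCube

set_option autoImplicit false
universe u
open Cfsg

namespace Cfsg.Agent.S5186

open Cfsg.FusionSystem Cfsg.Agent.Helper25 Cfsg.Agent.Helper26

/-- The chain `⊥ ≤ K₁ ≤ K₂ ≤ ⊤ ≤ ⊤ ≤ ⋯`. -/
def chainOf {B : Type*} [Group B] (K₁ K₂ : Subgroup B) : ℕ → Subgroup B
  | 0 => ⊥
  | 1 => K₁
  | 2 => K₂
  | _ => ⊤

/-- Let F be a saturated fusion system over a finite p-group S and H an essential subgroup of order p³. Then H is elementary abelian, or p is odd and H is extraspecial of exponent p, or p = 2 and H is the quaternion group of order 8. -/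
theorem result {Ω : Type u} [Group Ω] {S : Subgroup Ω} [Finite S] (p : ℕ) [Fact p.Prime] (hS : IsPGroup p S)
    (F : Cfsg.FusionSystem S) (hF : F.IsSaturated p) (H : Subgroup Ω) (hH : F.IsEssential p H) (hcard : Nat.card H = p ^ 3) :
    Cfsg.IsElementaryAbelian p H ∨ (Odd p ∧ Cfsg.IsExtraspecial p ↥H ∧ ∀ x ∈ H, x ^ p = 1) ∨
      (p = 2 ∧ Nonempty (↥H ≃* QuaternionGroup 2)) := by
  have hp : p.Prime := Fact.out
  have hHS : H ≤ S := hH.2.1.1
  haveI : Finite H := finite_of_le_finite hHS
  have hcoe : ∀ (x : Ω) (hx : x ∈ H), (⟨x, hx⟩ : H) ^ p = 1 → x ^ p = 1 := by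
    intro x hx h
    have := congrArg Subtype.val h
    simpa using this
  rcases cube_cases p hcard with ⟨hab, hexp⟩ | ⟨hp2, hext, hexp⟩ | ⟨hp2, hq⟩ | ⟨K₁, K₂, h12, hc1, hc2, hi1, hi2⟩
  · exact Or.inl ⟨hab, fun a ha => hcoe a ha (hexp ⟨a, ha⟩)⟩
  · exact Or.inr (Or.inl ⟨hp.odd_of_ne_two hp2, hext, fun a ha => hcoe a ha (hexp ⟨a, ha⟩)⟩)
  · exact Or.inr (Or.inr ⟨hp2, hq⟩)
  · exfalso
    refine not_essential_of_chain p hS F hF hH (chainOf K₁ K₂) 3 rfl rfl ?_ ?_ ?_
    · intro i
      rcases i with _ | _ | _ | i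
      · exact bot_le
      · exact h12
      · exact le_top
      · exact le_rfl
    · intro i α _ y hy
      rcases i with _ | _ | _ | i
      · have : y = 1 := by simpa [chainOf] using hy
        rw [this, map_one]
        exact Subgroup.one_mem _
      · exact hi1 α y hy
      · exact hi2 α y hy
      · exact Subgroup.mem_top _
    · intro i
      rcases i with _ | _ | _ | i
      · right
        show Nat.card K₁ = p * Nat.card (⊥ : Subgroup H)
        rw [hc1, Subgroup.card_bot, mul_one]
      · right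
        show Nat.card K₂ = p * Nat.card K₁
        rw [hc1, hc2, pow_two]
      · right
        show Nat.card (⊤ : Subgroup H) = p * Nat.card K₂
        rw [hc2, Subgroup.card_top, hcard]
        ring
      · left
        rfl

end Cfsg.Agent.S5186
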