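import Mathlib
import Cfsg.Statements.S5187
import Cfsg.Agent.Lib.Helper1.AbEssD
import Cfsg.Agent.Lib.Helper25.StronglyEmbedded

set_option autoImplicit false
universe u
open Cfsg

namespace Cfsg.Agent.S5187

open Cfsg.Agent.Helper1

/-- Let F be a saturated fusion system over a finite p-group S and H an abelian essential subgroup that can be generated by two elements (its Frattini quotient has order at most p²). Then H is elementary abelian of order p², or p ≤ 3 and H is homocyclic of rank two, that is isomorphic to C_{pᵏ} × C_{pᵏ} for some k. -/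
theorem result {Ω : Type u} [Group Ω] {S : Subgroup Ω} [Finite S] (p : ℕ) [Fact p.Prime] (hS : IsPGroup p S)
    (F : Cfsg.FusionSystem S) (hF : F.IsSaturated p) (H : Subgroup Ω) (hH : F.IsEssential p H) (hab : IsMulCommutative ↥H) (hrk : (frattini ↥H).index ≤ p ^ 2) :
    (Cfsg.IsElementaryAbelian p H ∧ Nat.card H = p ^ 2) ∨
      (p ≤ 3 ∧ ∃ k : ℕ, Nonempty (↥H ≃* Multiplicative (ZMod (p ^ k) × ZMod (p ^ k)))) := by
  obtain ⟨hcen, -, hnorm, E, hE⟩ := hH
  have hHS : H ≤ S := hcen.1
  haveI : Finite H :=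
    Finite.of_injective (Subgroup.inclusion hHS) (Subgroup.inclusion_injective hHS)
  have hHp : IsPGroup p H := hS.to_le hHS
  letI : CommGroup H := { (inferInstance : Group H) with mul_comm := hab.is_comm.comm }
  haveI := hnorm
  have hN₀bot : (Inn H).subgroupOf (F.autGroup H) = ⊥ := by
    rw [eq_bot_iff]
    rintro ⟨α, hαA⟩ hα
    rw [Subgroup.mem_subgroupOf] at hα
    obtain ⟨h, hh⟩ := hα
    rw [Subgroup.mem_bot]
    apply Subtype.ext
    show α = 1
    have hh' : MulAut.conj h = α := hh
    rw [← hh']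
    ext x
    rw [MulAut.conj_apply, MulAut.one_apply, hab.is_comm.comm h x, mul_inv_cancel_right]
  have hQ : p ∣ Nat.card (F.autGroup H ⧸ (Inn H).subgroupOf (F.autGroup H)) := hE.1
  have hcardA : Nat.card (F.autGroup H) =
      Nat.card (F.autGroup H ⧸ (Inn H).subgroupOf (F.autGroup H)) := by
    rw [Subgroup.card_eq_card_quotient_mul_card_subgroup ((Inn H).subgroupOf (F.autGroup H)),
      hN₀bot, Subgroup.card_bot, mul_one]
  have hpA : p ∣ Nat.card (F.autGroup H) := by rw [hcardA]; exact hQ
  have hOp : ∀ N : Subgroup (F.autGroup H), N.Normal → IsPGroup p N → N = ⊥ := by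
    intro N hNn hNp
    have hmap : N.map (QuotientGroup.mk' ((Inn H).subgroupOf (F.autGroup H))) = ⊥ := by
      haveI : (N.map (QuotientGroup.mk' ((Inn H).subgroupOf (F.autGroup H)))).Normal :=
        Subgroup.Normal.map hNn _ (QuotientGroup.mk'_surjective _)
      exact Cfsg.Agent.Helper25.eq_bot_of_normal_of_isStronglyPEmbedded p hE (hNp.map _)
    rw [eq_bot_iff]
    intro x hx
    have h1 : QuotientGroup.mk' ((Inn H).subgroupOf (F.autGroup H)) x ∈
        N.map (QuotientGroup.mk' ((Inn H).subgroupOf (F.autGroup H))) := ⟨x, hx, rfl⟩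
    rw [hmap, Subgroup.mem_bot] at h1
    have hx' : x ∈ (Inn H).subgroupOf (F.autGroup H) := (QuotientGroup.eq_one_iff x).mp h1
    rwa [hN₀bot] at hx'
  rcases AbEss.core hHp (F.autGroup H) hpA hOp hrk with ⟨h1, h2⟩ | h
  · left
    refine ⟨⟨hab, fun a ha => ?_⟩, h2⟩
    have := h1 ⟨a, ha⟩
    exact congrArg Subtype.val this
  · right; exact h

end Cfsg.Agent.S5187
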