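import Cfsg.Statements.S5188
import Cfsg.Agent.S5187
import Cfsg.Agent.Lib.Helper26.EssentialChain
import Cfsg.Agent.Lib.Helper26.OrderCube
import Cfsg.Agent.Lib.E4.E4Main
import Cfsg.Agent.Lib.E4.E4TYPE0

set_option autoImplicit false
universe u
open Cfsg

namespace Cfsg.Agent.S5188

open Cfsg.FusionSystem Cfsg.Agent.Helper25 Cfsg.Agent.Helper26 Cfsg.Agent.Helper8.E4

/-- The chain `⊥ ≤ K₁ ≤ K₂ ≤ K₃ ≤ ⊤ ≤ ⊤ ≤ ⋯`. -/
def chainOf4 {B : Type*} [Group B] (K₁ K₂ K₃ : Subgroup B) : ℕ → Subgroup B
  | 0 => ⊥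
  | 1 => K₁
  | 2 => K₂
  | 3 => K₃
  | _ => ⊤

/-- Let F be a saturated fusion system over a finite p-group S and H an essential subgroup of order p⁴. Then H is isomorphic to one of: C_p⁴ or C_{p²} × C_p × C_p (any p); C_{p²} × C_{p²} with p ∈ {2, 3}; p^{1+2}_+ × C_p with p odd (the direct product of an extraspecial group of order p³ and exponent p with a group of order p); Q₈ × C₂ (p = 2); or the non-abelian group of order p⁴ of exponent p² whose centre is cyclic of order p² (the central product of an extraspecial group of order p³ with a cyclic group of order p²; for p = 2 this is D₈ ∘ C₄). -/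
theorem result {Ω : Type u} [Group Ω] {S : Subgroup Ω} [Finite S] (p : ℕ) [Fact p.Prime] (hS : IsPGroup p S)
    (F : Cfsg.FusionSystem S) (hF : F.IsSaturated p) (H : Subgroup Ω) (hH : F.IsEssential p H) (hcard : Nat.card H = p ^ 4) :
    Cfsg.IsElementaryAbelian p H ∨
      Nonempty (↥H ≃* Multiplicative (ZMod (p ^ 2) × ZMod p × ZMod p)) ∨
      ((p = 2 ∨ p = 3) ∧ Nonempty (↥H ≃* Multiplicative (ZMod (p ^ 2) × ZMod (p ^ 2)))) ∨
      (Odd p ∧ ∃ (E : Type) (_ : Group E) (_ : Finite E), Cfsg.IsExtraspecial p E ∧ Nat.card E = p ^ 3 ∧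
        (∀ x : E, x ^ p = 1) ∧ Nonempty (↥H ≃* E × Multiplicative (ZMod p))) ∨
      (p = 2 ∧ Nonempty (↥H ≃* QuaternionGroup 2 × Multiplicative (ZMod 2))) ∨
      (¬ IsMulCommutative ↥H ∧ (∀ x ∈ H, x ^ (p ^ 2) = 1) ∧ IsCyclic ↥(Subgroup.center ↥H) ∧
        Nat.card (Subgroup.center ↥H) = p ^ 2) := by
  have hp : p.Prime := Fact.out
  have hHS : H ≤ S := hH.2.1.1
  haveI : Finite H := finite_of_le_finite hHS
  have hcoe : ∀ (n : ℕ) (x : Ω) (hx : x ∈ H), (⟨x, hx⟩ : H) ^ n = 1 → x ^ n = 1 := by
    intro n x hx h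
    have := congrArg Subtype.val h
    simpa using this
  rcases fourth_cases (p := p) (B := ↥H) hcard with
    ⟨hab, hexp⟩ | h2 | ⟨hab, hfr⟩ | ⟨hp2, E, hE, hEna, hexp, hiso⟩ | ⟨hp2, hq⟩ |
      ⟨hna, hexp, hcyc, hZ⟩ | ⟨K₁, K₂, K₃, h12, h23, hc1, hc2, hc3, hi1, hi2, hi3⟩
  · -- elementary abelian
    exact Or.inl ⟨⟨⟨fun a b => hab a b⟩⟩, fun a ha => hcoe p a ha (hexp ⟨a, ha⟩)⟩
  · exact Or.inr (Or.inl h2)
  · -- abelian of rank at most two: S5187
    have habm : IsMulCommutative ↥H := ⟨⟨fun a b => hab a b⟩⟩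
    rcases Cfsg.Agent.S5187.result p hS F hF H hH habm hfr with ⟨_, h2⟩ | ⟨hp3, k, ⟨e⟩⟩
    · exfalso
      rw [hcard] at h2
      have h1 : 1 < p := hp.one_lt
      have := Nat.pow_right_injective (show 2 ≤ p from hp.two_le) h2
      omega
    · have hk : k = 2 := by
        have h1 := Nat.card_congr e.toEquiv
        rw [hcard, Nat.card_eq_fintype_card] at h1
        have h3 : Fintype.card (Multiplicative (ZMod (p ^ k) × ZMod (p ^ k))) = p ^ k * p ^ k := by
          haveI : NeZero (p ^ k) := ⟨pow_ne_zero k hp.ne_zero⟩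
          rw [Fintype.card_congr Multiplicative.toAdd, Fintype.card_prod, ZMod.card]
        rw [h3, ← pow_add] at h1
        have := Nat.pow_right_injective (show 2 ≤ p from hp.two_le) h1
        omega
      subst hk
      refine Or.inr (Or.inr (Or.inl ⟨?_, ⟨e⟩⟩))
      have h2 : 2 ≤ p := hp.two_le
      rcases Nat.lt_or_ge p 3 with h | h
      · left; omega
      · right; omega
  · -- extraspecial of exponent p times cyclic of order p
    obtain ⟨E', iG, iF, ⟨e⟩⟩ := exists_small_copy (↥E)
    have hE' : Nat.card E' = p ^ 3 := by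
      rw [← hE]
      exact (Nat.card_congr e.toEquiv).symm
    have hna' : ¬ IsMulCommutative E' := by
      intro h
      apply hEna
      intro a ha b hb
      have h1 := h.is_comm.comm (e ⟨a, ha⟩) (e ⟨b, hb⟩)
      rw [← map_mul, ← map_mul] at h1
      have h2 := e.injective h1
      exact congrArg Subtype.val h2
    have hext : Cfsg.IsExtraspecial p E' := isExtraspecial_of_card_cube p hE' hna'
    have hexp' : ∀ x : E', x ^ p = 1 := by
      intro x
      obtain ⟨y, rfl⟩ := e.surjective x
      rw [← map_pow]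
      have : y ^ p = 1 := by
        apply Subtype.ext
        rw [Subgroup.coe_pow, hexp (y : ↥H)]
        rfl
      rw [this, map_one]
    exact Or.inr (Or.inr (Or.inr (Or.inl ⟨hp.odd_of_ne_two hp2, E', iG, iF, hext, hE', hexp',
      ⟨hiso.some.trans (MulEquiv.prodCongr e (MulEquiv.refl _))⟩⟩)))
  · exact Or.inr (Or.inr (Or.inr (Or.inr (Or.inl ⟨hp2, hq⟩))))
  · -- nonabelian of exponent p² with cyclic centre of order p²
    refine Or.inr (Or.inr (Or.inr (Or.inr (Or.inr ⟨?_, ?_, hcyc, hZ⟩))))
    · intro h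
      exact hna (fun a b => h.is_comm.comm a b)
    · intro x hx
      exact hcoe (p ^ 2) x hx (hexp ⟨x, hx⟩)
  · -- an invariant chain: impossible
    exfalso
    refine not_essential_of_chain p hS F hF hH (chainOf4 K₁ K₂ K₃) 4 rfl rfl ?_ ?_ ?_
    · intro i
      rcases i with _ | _ | _ | _ | i
      · exact bot_le
      · exact h12
      · exact h23
      · exact le_top
      · exact le_rfl
    · intro i α _ y hy
      rcases i with _ | _ | _ | _ | i
      · have : y = 1 := by simpa [chainOf4] using hy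
        rw [this, map_one]
        exact Subgroup.one_mem _
      · exact hi1 α y hy
      · exact hi2 α y hy
      · exact hi3 α y hy
      · exact Subgroup.mem_top _
    · intro i
      rcases i with _ | _ | _ | _ | i
      · right
        show Nat.card K₁ = p * Nat.card (⊥ : Subgroup H)
        rw [hc1, Subgroup.card_bot, mul_one]
      · right
        show Nat.card K₂ = p * Nat.card K₁
        rw [hc1, hc2, pow_two]
      · right
        show Nat.card K₃ = p * Nat.card K₂
        rw [hc2, hc3]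
        ring
      · right
        show Nat.card (⊤ : Subgroup H) = p * Nat.card K₃
        rw [hc3, Subgroup.card_top, hcard]
        ring
      · left
        rfl

end Cfsg.Agent.S5188
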