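import Mathlib
import Cfsg.Statements.S5191

set_option autoImplicit false
universe u
open Cfsg
open scoped Pointwise

namespace Cfsg.Agent.S5191

/-- General version: `N` any normal subgroup. -/
lemma aux {G : Type*} [Group G] [Finite G] {p : ℕ} [Fact p.Prime]
    (N : Subgroup G) [hN : N.Normal] (S : Sylow p G) (P : Subgroup G) (hP : P ≤ (S : Subgroup G))
    (γ : G ⧸ N)
    (hγ : ∀ x ∈ P, γ * QuotientGroup.mk x * γ⁻¹ ∈ ((S : Subgroup G).map (QuotientGroup.mk' N))) :
    ∃ g : G, ∀ x ∈ P, g * x * g⁻¹ ∈ S ∧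
      (QuotientGroup.mk (g * x * g⁻¹) : G ⧸ N) = γ * QuotientGroup.mk x * γ⁻¹ := by
  obtain ⟨g₀, rfl⟩ := QuotientGroup.mk_surjective γ
  -- H = S N
  set H : Subgroup G := ((S : Subgroup G).map (QuotientGroup.mk' N)).comap (QuotientGroup.mk' N) with hH
  have hSH : (S : Subgroup G) ≤ H := Subgroup.le_comap_map _ _
  -- the conjugate Q of P
  set f : G →* G := (MulAut.conj g₀).toMonoidHom with hf
  have hfx : ∀ x, f x = g₀ * x * g₀⁻¹ := fun x => rfl
  have hQH : P.map f ≤ H := by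
    rintro _ ⟨x, hx, rfl⟩
    rw [hH, Subgroup.mem_comap]
    have := hγ x hx
    simpa [hfx] using this
  have hPp : IsPGroup p P := S.isPGroup'.to_le hP
  have hQp : IsPGroup p ((P.map f).subgroupOf H) := (hPp.map f).comap_subtype
  obtain ⟨R, hR⟩ := hQp.exists_le_sylow
  obtain ⟨h, hh⟩ := MulAction.exists_smul_eq H (S.subtype hSH) R
  -- for y ∈ Q : h⁻¹ y h ∈ S
  have key : ∀ y ∈ P.map f, (h : G)⁻¹ * y * (h : G) ∈ (S : Subgroup G) := by
    intro y hy
    have hyR : (⟨y, hQH hy⟩ : H) ∈ (R : Subgroup H) := hR (by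
      rw [Subgroup.mem_subgroupOf]; exact hy)
    rw [← hh, Sylow.coe_subgroup_smul, Subgroup.mem_pointwise_smul_iff_inv_smul_mem,
      Sylow.coe_subtype, Subgroup.mem_subgroupOf] at hyR
    simpa [MulAut.smul_def] using hyR
  -- h⁻¹ ∈ H, so h⁻¹ = s * n with s ∈ S, n ∈ N
  have hk : (h : G)⁻¹ ∈ ((S : Subgroup G).map (QuotientGroup.mk' N)).comap (QuotientGroup.mk' N) :=
    (h⁻¹).2
  rw [Subgroup.mem_comap, Subgroup.mem_map] at hk
  obtain ⟨s, hs, hsk⟩ := hk
  -- n = s⁻¹ * h⁻¹ ∈ N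
  set n : G := s⁻¹ * (h : G)⁻¹ with hn
  have hnN : n ∈ N := by
    have : (QuotientGroup.mk' N) s = (QuotientGroup.mk' N) ((h : G)⁻¹) := by
      simpa using hsk
    rw [hn, ← QuotientGroup.eq]
    simpa using this
  refine ⟨n * g₀, fun x hx => ⟨?_, ?_⟩⟩
  · have h1 := key (f x) (Subgroup.mem_map_of_mem f hx)
    have h2 : n * g₀ * x * (n * g₀)⁻¹ = s⁻¹ * ((h : G)⁻¹ * f x * (h : G)) * s := by
      rw [hn, hfx]; group
    rw [h2]
    exact (S : Subgroup G).mul_mem ((S : Subgroup G).mul_mem ((S : Subgroup G).inv_mem hs) h1) hs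
  · have hn1 : (QuotientGroup.mk n : G ⧸ N) = 1 := (QuotientGroup.eq_one_iff n).mpr hnN
    simp only [QuotientGroup.mk_mul, QuotientGroup.mk_inv, hn1, one_mul, mul_inv_rev, inv_one, mul_one]

/-- Fusion in a finite group G and in its quotient by O_{p'}(G) agree. Let S be a Sylow p-subgroup of G, N = O_{p'}(G) and P ≤ S. If an element of G/N conjugates the image of P into the image of S, then some element g of G conjugates P into S and induces the same map on P modulo N. (Together with the injectivity of S → G/N this says that g ↦ gN induces an isomorphism of the fusion system of G on S with that of G/N on SN/N.) -/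
theorem result {G : Type*} [Group G] [Finite G] {p : ℕ} [Fact p.Prime]
    [hN : (Cfsg.pPrimeCore p G).Normal] (S : Sylow p G) (P : Subgroup G) (hP : P ≤ (S : Subgroup G))
    (γ : G ⧸ Cfsg.pPrimeCore p G)
    (hγ : ∀ x ∈ P, γ * QuotientGroup.mk x * γ⁻¹ ∈ ((S : Subgroup G).map (QuotientGroup.mk' (Cfsg.pPrimeCore p G)))) :
    ∃ g : G, ∀ x ∈ P, g * x * g⁻¹ ∈ S ∧
      (QuotientGroup.mk (g * x * g⁻¹) : G ⧸ Cfsg.pPrimeCore p G) = γ * QuotientGroup.mk x * γ⁻¹ :=
  aux _ S P hP γ hγ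

end Cfsg.Agent.S5191
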