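import Mathlib
import Cfsg.Statements.S5204
import Cfsg.Agent.Lib.Helper3.KLApply
import Cfsg.Agent.S0659

set_option autoImplicit false
set_option linter.style.haveILetI false
set_option linter.unusedSectionVars false
open Cfsg

namespace Cfsg.Agent.S5204

open Cfsg.FusionSystem Cfsg.Agent.Helper25 Cfsg.Agent.Helper3.KL Cfsg.Agent.Helper3.Model

universe u

/-- no freeness hypothesis -/
def FreeT : ∀ (Ω : Type u) [Group Ω] (S : Subgroup Ω), FusionSystem S → Prop :=
  fun _ _ _ _ => True

/-- the local hypothesis: `N_F(Z(J(S)))` is inner -/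
def LocZJ : ∀ (Ω : Type u) [Group Ω] (S : Subgroup Ω), FusionSystem S → Prop :=
  fun _ _ S F => ∀ N : FusionSystem (normalizerIn S (centerThompsonAOf S)),
    F.IsNormalizerSystem (centerThompsonAOf S) N → IsInner N

theorem scheme (p : ℕ) [Fact p.Prime] (hp : p ≠ 2) : Scheme.{u} p FreeT LocZJ where
  free_norm := by intros; trivial
  free_quot := by intros; trivial
  loc_of_char := by
    intro Ω _ S _ hS hS1 F hF h N hN
    exact h _ (zjOf_le S) (zjOf_ne_bot p hS hS1) (zjOf_char S) N hN
  loc_sub := by
    intro Ω _ S _ hS F hloc T N hTS hNF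
    subst hTS
    intro M hM
    exact isInner_normalizer_of_subsystem hNF _ (zjOf_le T) hloc M hM
  final := by
    intro Ω _ S _ hS N hNsat Q hQn hQc _ hloc
    obtain ⟨G, _, ι, hm⟩ := exists_model p hS N ⟨hNsat, Q, hQn, hQc⟩
    apply isInner_of_isModel_of_npc p N ι hm
    obtain ⟨hfin, hreal, ⟨T, hT⟩, hcen⟩ := hm
    haveI := hfin
    apply Cfsg.Agent.S0659.result hp T
    rw [hT, zjOf_range ι hreal.1]
    obtain ⟨M, hM⟩ := Cfsg.Agent.S5096.result N (centerThompsonAOf S) (zjOf_le S)
    exact npc_normalizer_of_inner p hS N ι hreal T hT _ (zjOf_le S)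
      (le_normalizer_of_char (zjOf_le S) (zjOf_char S)) M hM (hloc M hM)

/-- The Glauberman–Thompson normal p-complement criterion for fusion systems, p odd. Let F be a saturated fusion system over a finite p-group S with p odd, and let Z(J(S)) be the centre of the subgroup generated by the abelian subgroups of S of largest order. Then F is the inner fusion system of S if and only if the normalizer fusion system of Z(J(S)) in F is the inner fusion system of N_S(Z(J(S))) = S. -/
theorem result {Ω : Type*} [Group Ω] {S : Subgroup Ω} [Finite S] (p : ℕ) [Fact p.Prime] (hS : IsPGroup p S) (F : Cfsg.FusionSystem S) (hF : F.IsSaturated p) (hp : p ≠ 2) : (∀ P : Subgroup Ω, F.Hom P = (Cfsg.innerFusionSystem S).Hom P) ↔ ∀ N : Cfsg.FusionSystem (Cfsg.FusionSystem.normalizerIn S (Cfsg.centerThompsonAOf S)), F.IsNormalizerSystem (Cfsg.centerThompsonAOf S) N → ∀ P : Subgroup Ω, N.Hom P = (Cfsg.innerFusionSystem (Cfsg.FusionSystem.normalizerIn S (Cfsg.centerThompsonAOf S))).Hom P := by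
  constructor
  · intro h N hN
    rw [← isInner_iff]
    have hFi := (isInner_iff F).mpr h
    intro P φ hφ
    rw [hN P] at hφ
    obtain ⟨g, hg, hgφ⟩ := hFi P φ hφ.1
    refine ⟨g, ?_, hgφ⟩
    rw [normalizerIn_eq_of_le (le_normalizer_of_char (zjOf_le S) (zjOf_char S))]
    exact hg
  · intro h
    rw [← isInner_iff]
    exact skeleton (scheme p hp) _ rfl hS F hF trivial
      (fun N hN => (isInner_iff N).mpr (h N hN))

end Cfsg.Agent.S5204
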