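import Mathlib
import Cfsg.Statements.S5206
import Cfsg.Agent.Lib.Helper3.QdData2
import Cfsg.Agent.Lib.Helper3.QdData3
import Cfsg.Agent.Lib.Helper25.FusionSylow3

set_option autoImplicit false
set_option linter.style.haveILetI false
set_option linter.unusedSectionVars false
universe u
open Cfsg

namespace Cfsg.Agent.S5206

open Cfsg.FusionSystem Cfsg.Agent.Helper25 Cfsg.Agent.Helper3.KL Cfsg.Agent.Helper3.QdD
open Cfsg.Agent.Helper4.SLF Cfsg.Agent.Helper4.QDF Cfsg.Agent.S2761

theorem isRealizedBy_subtype {G : Type u} [Group G] (S : Subgroup G) :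
    (groupFusionSystem S).IsRealizedBy S.subtype := by
  refine ⟨S.subtype_injective, fun P hP φ hφ => ?_⟩
  constructor
  · rintro ⟨-, -, g, hg⟩
    exact ⟨g, fun x => hg x⟩
  · rintro ⟨g, hg⟩
    exact ⟨hP, hφ, g, fun x => hg x⟩

theorem inv_aff_iff {p : ℕ} {L : Type u} [Group L] :
    Inv ↥(affSubgroup (ZMod p)) L ↔ Involves ↥(Cfsg.qd p) L := by
  constructor
  · intro h
    have h1 : Inv ↥(Cfsg.qd p) L := by
      by_contra h2
      exact (qdfree_iff_afffree.mp h2) h
    obtain ⟨K, f, hf⟩ := h1
    exact involves_of_surj K f hf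
  · intro h
    obtain ⟨K, f, hf⟩ := exists_surj_of_involves h
    by_contra h2
    exact (qdfree_iff_afffree.mpr h2) ⟨K, f, hf⟩

/-- Let p be an odd prime, G a finite group and P a Sylow p-subgroup of G. Then the fusion system of G on P is Qd(p)-free (Qd(p), the natural semidirect product of an elementary abelian group of order p² by SL₂(p), is not involved in any model of the normalizer system of a fully normalized centric subgroup) if and only if Qd(p) is not involved in G. -/
theorem result {G : Type u} [Group G] [Finite G] {p : ℕ} [Fact p.Prime] (hp : p ≠ 2) (P : Sylow p G) : (Cfsg.groupFusionSystem (P : Subgroup G)).IsSectionFree p ↥(Cfsg.qd p) ↔ ¬ Cfsg.Involves ↥(Cfsg.qd p) G := by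
  have hS : IsPGroup p ↥(P : Subgroup G) := P.isPGroup'
  have hF := groupFusionSystem_isSaturated p P
  have hreal := isRealizedBy_subtype (P : Subgroup G)
  constructor
  · intro hfree hinv
    have h1 := inv_aff_iff.mpr hinv
    have h2 := grpData_of_inv h1
    have hR : (P : Subgroup G) = (P : Subgroup G).subtype.range := (Subgroup.range_subtype _).symm
    obtain ⟨X, hd⟩ := fusData_of_grpData (groupFusionSystem (P : Subgroup G)) _ hreal P hR h2
    exact not_free_of_fusData p hp _ (P : Subgroup G) _ hS hF rfl X hd hfree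
  · intro hG Q hQfn hQc N hN L _ ι hm hinvL
    apply hG
    obtain ⟨hfin, hrealN, ⟨T, hT⟩, -⟩ := hm
    haveI := hfin
    have h1 := inv_aff_iff.mpr hinvL
    have h2 := grpData_of_inv h1
    obtain ⟨X, hd⟩ := fusData_of_grpData N ι hrealN T hT h2
    have hXN : X ≤ normalizerIn (P : Subgroup G) Q := hd.1
    have hXP : X ≤ (P : Subgroup G) := hXN.trans normalizerIn_le
    have hdF : FusData p (groupFusionSystem (P : Subgroup G)) X := by
      refine hd.mono _ hXP (fun α hα => ?_)
      rw [mem_autGroup_iff _ hXP]
      have h3 := (mem_autGroup_iff N hXN α).mp hα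
      rw [hN X] at h3
      exact h3.1
    exact inv_aff_iff.mp (inv_of_fusData hp hS hdF _ hreal)

end Cfsg.Agent.S5206
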