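import Mathlib
import Cfsg.Statements.S5219
import Cfsg.Agent.Lib.Helper3.GilSer3
import Cfsg.Agent.Lib.Helper3.GilSer4

set_option autoImplicit false
set_option linter.style.haveILetI false
set_option linter.unusedSectionVars false
set_option linter.deprecated false

open Cfsg

namespace Cfsg.Agent.S5219

open Cfsg.Agent.Helper3.GS Cfsg.Agent.Helper3.SC Cfsg.FusionSystem

/-- Let p be a prime, n a natural number, S a nontrivial finite p-group of nilpotence class at most n(p−1)+1, and F a saturated fusion system over S with no nontrivial normal subgroup (O_p(F) = 1). Then S has exponent dividing p^(n²(p−1)+n). -/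
theorem result {Ω : Type*} [Group Ω] {S : Subgroup Ω} [Finite S] (p : ℕ) [Fact p.Prime] (hS : IsPGroup p S) (F : Cfsg.FusionSystem S) (hF : F.IsSaturated p) (n : ℕ) (hS1 : S ≠ ⊥) (hcl : Subgroup.lowerCentralSeries S (n * (p - 1) + 1) = ⊥) (hcore : F.core = ⊥) : Monoid.exponent ↥S ∣ p ^ (n ^ 2 * (p - 1) + n) := by
  have hnorm := Qn_isNormal hS hF n hcl
  have hbot : Qn p n S = ⊥ := eq_bot_of_isNormal hcore hnorm
  haveI : Group.IsNilpotent ↥S := hS.isNilpotent
  have hZ : ∀ z ∈ Subgroup.center ↥S, z ^ (p ^ n) = 1 := by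
    intro z hz
    have h1 : (z : Ω) ∈ centralizerIn S S := by
      rw [center_eq, Subgroup.mem_subgroupOf] at hz
      exact hz
    have h2 : (z : Ω) ^ (p ^ n) ∈ Qn p n S := Subgroup.subset_closure ⟨z, h1, rfl⟩
    rw [hbot, Subgroup.mem_bot] at h2
    apply Subtype.ext
    rw [Subgroup.coe_pow]
    exact h2
  have hc : (⊤ : Subgroup ↥S).lowerCentralSeries (n * (p - 1) + 1) = ⊥ := by
    have h1 := Subgroup.top_subtype_lowerCentralSeries S (n * (p - 1) + 1)
    rw [hcl] at h1
    exact (Subgroup.map_eq_bot_iff_of_injective _ S.subtype_injective).mp h1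
  have h3 := exponent_dvd_of_class hZ hc
  have h4 : (p ^ n) ^ (n * (p - 1) + 1) = p ^ (n ^ 2 * (p - 1) + n) := by
    rw [← pow_mul]
    congr 1
    ring
  rw [h4] at h3
  exact h3

end Cfsg.Agent.S5219
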