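import Mathlib
import Cfsg.Statements.S5223
import Cfsg.Agent.S5083

set_option autoImplicit false
open Cfsg

namespace Cfsg.Agent.S5223

open Cfsg.FusionSystem Cfsg.Agent.Helper25

variable {Ω : Type*} [Group Ω] {S : Subgroup Ω}

lemma pow_apply_of_fixed {P : Type*} [Group P] (β : MulAut P) {y : P} (hy : β y = y) (m : ℕ) :
    (β ^ m) y = y := by
  induction m with
  | zero => simp
  | succ m ih => rw [pow_succ, MulAut.mul_apply, hy, ih]

lemma pow_apply_mul {P : Type*} [Group P] (β : MulAut P) {x y : P} (hx : β x = x * y)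
    (hy : β y = y) (m : ℕ) : (β ^ m) x = x * y ^ m := by
  induction m with
  | zero => simp
  | succ m ih =>
    rw [pow_succ, MulAut.mul_apply, hx, map_mul, ih, pow_apply_of_fixed β hy, pow_succ, mul_assoc]

/-- Let F be a saturated fusion system over a finite p-group S. Suppose there are subgroups Q₀ = S, Q₁, …, Qₙ = 1 (not required to be nested) such that for each i < n the focal subgroup of Qᵢ (generated by the elements x⁻¹φ(x), x ∈ Qᵢ, φ a map of F defined on the cyclic group generated by x) lies in Qᵢ₊₁. Then F is the inner fusion system of S. -/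
theorem result {Ω : Type*} [Group Ω] {S : Subgroup Ω} [Finite S] (p : ℕ) [Fact p.Prime] (hS : IsPGroup p S) (F : Cfsg.FusionSystem S) (hF : F.IsSaturated p) (n : ℕ) (Q : Fin (n + 1) → Subgroup Ω) (hQ0 : Q 0 = S) (hQn : Q (Fin.last n) = ⊥) (hstep : ∀ i : Fin n, Subgroup.closure {y : Ω | ∃ x ∈ Q i.castSucc, ∃ φ ∈ F.Hom (Subgroup.zpowers x), y = x⁻¹ * φ ⟨x, Subgroup.mem_zpowers x⟩} ≤ Q i.succ) : ∀ P : Subgroup Ω, F.Hom P = (Cfsg.innerFusionSystem S).Hom P := by
  have key : ∀ P : Subgroup Ω, P ≤ S → IsPGroup p (F.autGroup P) := by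
    intro P hPS
    haveI : Finite P := finite_of_le_finite hPS
    obtain ⟨e, he⟩ := IsPGroup.exists_card_eq (hS.to_le hPS)
    rintro ⟨α, hα⟩
    -- claim A
    have claimA : ∀ (i : Fin n) (β : MulAut P), β ∈ F.autGroup P → ∀ x : P, (x : Ω) ∈ Q i.castSucc →
        ((x⁻¹ * β x : P) : Ω) ∈ Q i.succ := by
      intro i β hβ x hx
      apply hstep i
      apply Subgroup.subset_closure
      have hβF := (mem_autGroup_iff F hPS β).1 hβ
      have hle : Subgroup.zpowers (x : Ω) ≤ P := by
        rw [Subgroup.zpowers_le]; exact x.2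
      refine ⟨x, hx, _, restrict_mem F hle hβF, ?_⟩
      rfl
    -- claim B by reverse induction
    have claimB : ∀ i : Fin (n + 1), ∃ k : ℕ, ∀ x : P, (x : Ω) ∈ Q i → (α ^ (p ^ k)) x = x := by
      intro i
      induction i using Fin.reverseInduction with
      | last =>
        refine ⟨0, fun x hx => ?_⟩
        rw [hQn, Subgroup.mem_bot] at hx
        have : x = 1 := Subtype.ext hx
        rw [this, map_one]
      | cast i ih =>
        obtain ⟨k, hk⟩ := ih
        refine ⟨k + e, fun x hx => ?_⟩
        set β : MulAut P := α ^ (p ^ k) with hβ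
        have hβA : β ∈ F.autGroup P := Subgroup.pow_mem _ hα _
        have hy := claimA i β hβA x hx
        have hyfix : β (x⁻¹ * β x) = x⁻¹ * β x := hk _ hy
        have hx' : β x = x * (x⁻¹ * β x) := by group
        have := pow_apply_mul β hx' hyfix (p ^ e)
        rw [← he, pow_card_eq_one', mul_one, hβ, ← pow_mul, he, ← pow_add] at this
        exact this
    obtain ⟨k, hk⟩ := claimB 0
    refine ⟨k, ?_⟩
    apply Subtype.ext
    show α ^ (p ^ k) = 1
    ext x
    rw [hk x (by rw [hQ0]; exact hPS x.2)]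
    rfl
  have := Cfsg.Agent.S5083.result p hS F hF key
  intro P
  rw [this]

end Cfsg.Agent.S5223
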