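import Mathlib
import Cfsg.Statements.S5225
import Cfsg.Agent.Lib.Helper3.BisetYoshidaCore
import Cfsg.Agent.Lib.Helper3.BisetTransport

set_option autoImplicit false
set_option linter.style.haveILetI false
set_option linter.unusedSectionVars false
open Cfsg

namespace Cfsg.Agent.S5225

open Cfsg.FusionSystem Cfsg.Agent.Helper25 Cfsg.Agent.Helper3.Biset Cfsg.Agent.Helper3.Wreath in
/-- Yoshida's Theorem for fusion systems. Let F be a saturated fusion system over a finite p-group S and N the normalizer fusion system of S in F. If the focal subgroups of F and N differ (N does not control transfer in F), then S has a quotient isomorphic to the wreath product C_p ≀ C_p (realised as a Sylow p-subgroup of the symmetric group of degree p²). -/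
theorem result {Ω : Type*} [Group Ω] {S : Subgroup Ω} [Finite S] (p : ℕ) [Fact p.Prime] (hS : IsPGroup p S) (F : Cfsg.FusionSystem S) (hF : F.IsSaturated p) (N : Cfsg.FusionSystem (Cfsg.FusionSystem.normalizerIn S S)) (hN : F.IsNormalizerSystem S N) (hne : N.focalSubgroup ≠ F.focalSubgroup) : ∃ (W : Sylow p (Equiv.Perm (Fin (p ^ 2)))) (f : ↥S →* ↥(W : Subgroup (Equiv.Perm (Fin (p ^ 2))))), Function.Surjective f := by
  haveI : Finite ↥S := inferInstance
  obtain ⟨E, hE⟩ := exists_topCopy F
  have hEsat := hE.isSaturated hS hF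
  by_cases hW : WreathQuot p ↥S
  · exact hW.exists_surj
  · exfalso
    apply hne
    have hcore := focal_le_focN hS hEsat hW
    apply le_antisymm
    · unfold FusionSystem.focalSubgroup
      apply Subgroup.closure_mono
      rintro _ ⟨P, φ, x, hφ, rfl⟩
      rw [hN P] at hφ
      exact ⟨P, φ, x, hφ.1, rfl⟩
    · refine (hE.focal_le).trans ((Subgroup.map_mono hcore).trans ?_)
      rw [Subgroup.map_le_iff_le_comap]
      unfold focN
      rw [Subgroup.closure_le]
      rintro _ ⟨α, x, hα, rfl⟩
      show S.subtype ((x : ↥S)⁻¹ * α x) ∈ N.focalSubgroup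
      obtain ⟨φ, hφ, hφeq⟩ := hE.exists_of_mem hα
      have hmap : (⊤ : Subgroup ↥S).map S.subtype = S := by
        rw [← MonoidHom.range_eq_map, Subgroup.range_subtype]
      have hφS : φ.comp (Subgroup.inclusion hmap.symm.le) ∈ F.Hom S :=
        hom_transport F hmap.symm hφ
      set φS := φ.comp (Subgroup.inclusion hmap.symm.le) with hφSdef
      have hφSS := (F.le_of_mem hφS).2
      have hφN : φS ∈ N.Hom S := by
        rw [hN S]
        refine ⟨hφS, ?_, ?_, ?_⟩
        · intro s hs
          exact Subgroup.mem_inf.2 ⟨hs, Subgroup.le_normalizer hs⟩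
        · intro s
          exact Subgroup.mem_inf.2 ⟨hφSS s, Subgroup.le_normalizer (hφSS s)⟩
        · have hsup : S ⊔ S = S := sup_idem S
          refine ⟨φS.comp (Subgroup.inclusion hsup.le), hom_transport F hsup hφS,
            fun s => rfl, ?_⟩
          apply le_antisymm
          · rintro _ ⟨w, -, rfl⟩
            exact hφSS _
          · intro s hs
            have hinj : Function.Injective (fun s' : ↥S => (⟨φS s', hφSS s'⟩ : ↥S)) := by
              intro a b hab
              exact F.injective_of_mem hφS (congrArg Subtype.val hab)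
            obtain ⟨s', hs'⟩ := (Finite.injective_iff_surjective.1 hinj) ⟨s, hs⟩
            have hs'' : φS s' = s := congrArg Subtype.val hs'
            refine ⟨⟨s'.1, hsup.ge s'.2⟩, Subgroup.mem_subgroupOf.2 s'.2, ?_⟩
            rw [← hs'']
            rfl
      have hx : (((x : ↥(⊤ : Subgroup ↥S)) : ↥S) : Ω) ∈ S := (x : ↥S).2
      refine Subgroup.subset_closure ⟨S, φS, ⟨((x : ↥S) : Ω), hx⟩, hφN, ?_⟩
      have hval : φS ⟨((x : ↥S) : Ω), hx⟩ = ((α x : ↥S) : Ω) :=
        hφeq x (by rw [hmap]; exact hx)
      rw [hval]
      rfl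

end Cfsg.Agent.S5225
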