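import Mathlib
import Cfsg.Statements.S5236
import Cfsg.Agent.S0120
import Cfsg.Agent.S5290
import Cfsg.Agent.Lib.Helper25.FusionNormal3
import Cfsg.Agent.Lib.Helper25.StabChain

set_option autoImplicit false
open Cfsg

namespace Cfsg.Agent.S5236

open Cfsg.FusionSystem Cfsg.Agent.Helper25
open scoped commutatorElement

variable {Ω : Type*} [Group Ω] {S : Subgroup Ω}

/-- restriction of powers -/
lemma restrict_pow {U R : Subgroup Ω} (hUR : U ≤ R) (δ : MulAut R) (κ : MulAut U)
    (h : ∀ x : U, δ (Subgroup.inclusion hUR x) = Subgroup.inclusion hUR (κ x)) (m : ℕ) :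
    ∀ x : U, (δ ^ m) (Subgroup.inclusion hUR x) = Subgroup.inclusion hUR ((κ ^ m) x) := by
  induction m with
  | zero => intro x; simp
  | succ m ih =>
    intro x
    rw [pow_succ, pow_succ, MulAut.mul_apply, MulAut.mul_apply, h, ih]

lemma pow_apply_of_fixed {X : Type*} [Group X] {β : MulAut X} {y : X} (h : β y = y) (j : ℕ) :
    (β ^ j) y = y := by
  induction j with
  | zero => simp
  | succ j ih => rw [pow_succ, MulAut.mul_apply, h, ih]

/-- a `p'`-automorphism of the finite `p`-group `R` (`p` odd) fixing the elements of order `p` of an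
invariant subgroup `U` and acting trivially modulo `U` is trivial -/
theorem aut_eq_one_of_stab {R : Subgroup Ω} [Finite R] (p : ℕ) [Fact p.Prime] (hp : p ≠ 2)
    (hRp : IsPGroup p R) {U : Subgroup Ω} (hUR : U ≤ R) (δ : MulAut R)
    (hcop : (orderOf δ).Coprime p)
    (hUinv : (U.subgroupOf R).map δ.toMonoidHom = U.subgroupOf R)
    (hfix : ∀ y : R, (y : Ω) ∈ U → (y : Ω) ^ p = 1 → δ y = y)
    (hstab : ∀ y : R, ((y⁻¹ * δ y : R) : Ω) ∈ U) : δ = 1 := by
  haveI : Finite U := finite_of_le_finite (S := R) hUR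
  obtain ⟨κ, hκ⟩ := exists_restrict_aut hUR δ hUinv
  have hκpow : κ ^ orderOf δ = 1 := by
    ext x
    have h1 := restrict_pow hUR δ κ hκ (orderOf δ) x
    rw [pow_orderOf_eq_one] at h1
    have h2 := Subgroup.inclusion_injective hUR h1
    rw [← h2]; rfl
  have hκcop : (orderOf κ).Coprime p :=
    Nat.Coprime.coprime_dvd_left (orderOf_dvd_of_pow_eq_one hκpow) hcop
  have hκ1 : κ = 1 := by
    apply Cfsg.Agent.S0120.result hp (hRp.to_le hUR) κ hκcop
    intro x hx
    have h1 : δ (Subgroup.inclusion hUR x) = Subgroup.inclusion hUR x := by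
      apply hfix _ x.2
      have := congrArg (fun w : U => (w : Ω)) hx
      simpa using this
    rw [hκ] at h1
    exact Subgroup.inclusion_injective hUR h1
  have hUfix : ∀ u ∈ U.subgroupOf R, δ u = u := by
    intro u hu
    have h1 := hκ ⟨(u : Ω), Subgroup.mem_subgroupOf.mp hu⟩
    rw [hκ1] at h1
    have h2 : Subgroup.inclusion hUR ⟨(u : Ω), Subgroup.mem_subgroupOf.mp hu⟩ = u := Subtype.ext rfl
    rw [h2] at h1
    exact h1
  have hpow : ∀ x ∈ (⊤ : Subgroup R), (δ ^ Nat.card R) x = x :=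
    pow_fixes_of_stabilizes (U := U.subgroupOf R) (V := ⊤) hUfix
      (fun x _ => Subgroup.mem_subgroupOf.mpr (hstab x)) (fun u _ => pow_card_eq_one')
  have hδN : δ ^ Nat.card R = 1 := by
    ext x
    exact congrArg Subtype.val (hpow x trivial)
  obtain ⟨e, he⟩ := hRp.exists_card_eq
  have h1 : orderOf δ ∣ p ^ e := by rw [← he]; exact orderOf_dvd_of_pow_eq_one hδN
  have h2 : orderOf δ = 1 := Nat.Coprime.eq_one_of_dvd (Nat.Coprime.pow_right e hcop) h1
  exact orderOf_eq_one_iff.mp h2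

/-- invariance of `P ⊓ R` under `Aut_F(R)` for strongly closed `P` -/
lemma map_inf_eq (F : FusionSystem S) {P R : Subgroup Ω} (hP : F.StronglyClosed P) (hRS : R ≤ S)
    {α : MulAut R} (hα : α ∈ F.autGroup R) :
    ((P ⊓ R).subgroupOf R).map α.toMonoidHom = (P ⊓ R).subgroupOf R := by
  have key : ∀ β ∈ F.autGroup R, ∀ y : R, y ∈ (P ⊓ R).subgroupOf R → β y ∈ (P ⊓ R).subgroupOf R := by
    intro β hβ y hy
    have hy' : (y : Ω) ∈ P := (Subgroup.mem_subgroupOf.mp hy).1
    exact Subgroup.mem_subgroupOf.mpr ⟨aut_mem_of_stronglyClosed F hP hRS hβ hy', (β y).2⟩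
  apply le_antisymm
  · rintro _ ⟨y, hy, rfl⟩
    exact key α hα y hy
  · intro y hy
    refine ⟨α⁻¹ y, key α⁻¹ (Subgroup.inv_mem _ hα) y hy, ?_⟩
    simp

/-- the chain criterion through `Ω₁(P)` for odd `p`, with a chain indexed by natural numbers -/
theorem isNormal_of_omega_chain [Finite S] (p : ℕ) [Fact p.Prime] (hS : IsPGroup p S)
    (F : FusionSystem S) (hF : F.IsSaturated p) (hp : p ≠ 2) {P : Subgroup Ω}
    (hP : F.StronglyClosed P) (n : ℕ) (D : ℕ → Subgroup Ω) (h0 : D 0 = ⊥)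
    (hn : ∀ k, n ≤ k → D k = omegaOne p P) (hmono : ∀ k, D k ≤ D (k + 1))
    (hsc : ∀ k, F.StronglyClosed (D k)) (hcomm : ∀ k, k < n → ⁅D (k + 1), P⁆ ≤ D k) :
    F.IsNormal P := by
  have hp' : p.Prime := Fact.out
  have hPS : P ≤ S := hP.1
  apply isNormal_of_stronglyClosed_of_forall p hS F hF hP
  intro R hc hr x hxP hxN
  have hRS : R ≤ S := hc.1
  haveI : Finite R := finite_of_le_finite hRS
  have hRp : IsPGroup p R := hS.to_le hRS
  set A := F.autGroup R with hA
  set c₁ : ℕ → Subgroup R := fun k => (D k).subgroupOf R with hc₁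
  set c₂ : ℕ → Subgroup R := fun k => if k = 0 then P.subgroupOf R else ⊤ with hc₂
  have hc₂0 : c₂ 0 = P.subgroupOf R := by simp [hc₂]
  have hc₂s : ∀ i, c₂ (i + 1) = ⊤ := fun i => by simp [hc₂]
  have hmono₁ : ∀ i, c₁ i ≤ c₁ (i + 1) := fun i => Subgroup.subgroupOf_mono R (hmono i)
  have hmono₂ : ∀ i, c₂ i ≤ c₂ (i + 1) := fun i => by rw [hc₂s]; exact le_top
  have hinv₁ : ∀ i, ∀ α ∈ A, ∀ y ∈ c₁ i, α y ∈ c₁ i := by
    intro i α hα y hy
    exact Subgroup.mem_subgroupOf.mpr
      (aut_mem_of_stronglyClosed F (hsc i) hRS hα (Subgroup.mem_subgroupOf.mp hy))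
  have hinv₂ : ∀ i, ∀ α ∈ A, ∀ y ∈ c₂ i, α y ∈ c₂ i := by
    intro i α hα y hy
    rcases Nat.eq_zero_or_pos i with hi | hi
    · subst hi
      rw [hc₂0] at hy ⊢
      exact Subgroup.mem_subgroupOf.mpr
        (aut_mem_of_stronglyClosed F hP hRS hα (Subgroup.mem_subgroupOf.mp hy))
    · obtain ⟨i', rfl⟩ : ∃ i', i = i' + 1 := ⟨i - 1, by omega⟩
      rw [hc₂s]; trivial
  set B : Subgroup (MulAut R) := stabChain A c₁ hmono₁ ⊓ stabChain A c₂ hmono₂ with hB
  have hBA : B ≤ A := fun γ hγ => hγ.1.1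
  have hBnorm : (B.subgroupOf A).Normal := by
    constructor
    rintro ⟨γ, hγA⟩ hγ ⟨α, hαA⟩
    have hγB : γ ∈ B := Subgroup.mem_subgroupOf.mp hγ
    apply Subgroup.mem_subgroupOf.mpr
    exact ⟨StabilizesChain.conj hinv₁ hγB.1 hαA, StabilizesChain.conj hinv₂ hγB.2 hαA⟩
  obtain ⟨e, he⟩ := hRp.exists_card_eq
  have hkill : ∀ (U : Subgroup R), ∀ u ∈ U, u ^ p ^ e = 1 := by
    intro U u _
    rw [← he]; exact pow_card_eq_one'
  have hBp : IsPGroup p B := by
    rintro ⟨γ, hγ⟩
    have hγ₁ : StabilizesChain A c₁ γ := hγ.1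
    have hγ₂ : StabilizesChain A c₂ γ := hγ.2
    have ho : orderOf γ ≠ 0 := (orderOf_pos γ).ne'
    obtain ⟨a, m, hm, hom⟩ := Nat.exists_eq_pow_mul_and_not_dvd ho p hp'.ne_one
    set δ : MulAut R := γ ^ (p ^ a) with hδ
    have hδord : orderOf δ = m := by
      rw [hδ, orderOf_pow_of_dvd (pow_ne_zero a hp'.ne_zero) (Dvd.intro m hom.symm), hom,
        Nat.mul_div_cancel_left _ (pow_pos hp'.pos a)]
    have hcop : (orderOf δ).Coprime p := by
      rw [hδord]
      exact ((Nat.Prime.coprime_iff_not_dvd hp').mpr hm).symm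
    have hδ₁ : StabilizesChain A c₁ δ := hγ₁.pow hmono₁ (p ^ a)
    have hδ₂ : StabilizesChain A c₂ δ := hγ₂.pow hmono₂ (p ^ a)
    have key : ∀ i, ∃ k : ℕ, ∀ y ∈ c₁ i, (δ ^ p ^ k) y = y := by
      intro i
      induction i with
      | zero =>
        refine ⟨0, fun y hy => ?_⟩
        have h1 : (y : Ω) ∈ D 0 := Subgroup.mem_subgroupOf.mp hy
        rw [h0, Subgroup.mem_bot] at h1
        have hy1 : y = 1 := Subtype.ext h1
        rw [hy1, map_one]
      | succ i ih =>
        obtain ⟨k, hk⟩ := ih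
        refine ⟨k + e, ?_⟩
        have hst := hδ₁.pow hmono₁ (p ^ k)
        have := pow_fixes_of_stabilizes (β := δ ^ p ^ k) hk (hst.2 i) (hkill (c₁ i))
        rw [← pow_mul, ← pow_add] at this
        exact this
    obtain ⟨k, hk⟩ := key n
    obtain ⟨j, hj⟩ := exists_pow_eq_self_of_coprime (x := δ) (n := p ^ k)
      (Nat.Coprime.pow_left k hcop.symm)
    have hδfix : ∀ y ∈ c₁ n, δ y = y := by
      intro y hy
      rw [← hj]
      exact pow_apply_of_fixed (hk y hy) j
    have hδ1 : δ = 1 := by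
      refine aut_eq_one_of_stab p hp hRp (inf_le_right : P ⊓ R ≤ R) δ hcop
        (map_inf_eq F hP hRS hδ₁.1) ?_ ?_
      · intro y hy hyp
        apply hδfix
        apply Subgroup.mem_subgroupOf.mpr
        rw [hn n le_rfl]
        exact Subgroup.subset_closure ⟨hy.1, hyp⟩
      · intro y
        refine ⟨?_, (y⁻¹ * δ y).2⟩
        have h1 := hδ₂.2 0 y (by rw [hc₂s]; trivial)
        rw [hc₂0] at h1
        exact Subgroup.mem_subgroupOf.mp h1
    exact ⟨a, Subtype.ext hδ1⟩
  have hle : B.subgroupOf A ≤ Cfsg.pCore p A :=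
    le_pCore' hBnorm (hBp.comap_of_injective A.subtype A.subtype_injective)
  -- the automorphism induced by `x`
  set β : MulAut R := R.normalizerMonoidHom ⟨x, hxN⟩ with hβ
  have hβA : β ∈ A := by
    apply autInducedBy_le_autGroup F hRS
    exact (mem_autInducedBy_iff β).mpr ⟨x, hPS hxP, fun y => rfl⟩
  have hβapply : ∀ y : R, ((y⁻¹ * β y : R) : Ω) = (y : Ω)⁻¹ * x * (y : Ω) * x⁻¹ := by
    intro y
    show (y : Ω)⁻¹ * (x * (y : Ω) * x⁻¹) = _
    group
  have hcommelt : ∀ (y : Ω), ⁅y⁻¹, x⁆ = y⁻¹ * x * y * x⁻¹ := by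
    intro y
    rw [commutatorElement_def, inv_inv]
  have hβB : β ∈ B := by
    refine ⟨⟨hβA, fun i y hy => ?_⟩, ⟨hβA, fun i y hy => ?_⟩⟩
    · rcases Nat.lt_or_ge i n with hi | hi
      · apply Subgroup.mem_subgroupOf.mpr
        rw [hβapply, ← hcommelt]
        apply hcomm i hi
        exact Subgroup.commutator_mem_commutator
          (Subgroup.inv_mem _ (Subgroup.mem_subgroupOf.mp hy)) hxP
      · have hyi : y ∈ c₁ i := by
          apply Subgroup.mem_subgroupOf.mpr
          have h1 : (y : Ω) ∈ D (i + 1) := Subgroup.mem_subgroupOf.mp hy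
          rw [hn (i + 1) (by omega)] at h1
          rw [hn i hi]
          exact h1
        exact (c₁ i).mul_mem ((c₁ i).inv_mem hyi) (hinv₁ i β hβA y hyi)
    · rcases Nat.eq_zero_or_pos i with hi | hi
      · subst hi
        rw [hc₂0]
        apply Subgroup.mem_subgroupOf.mpr
        rw [hβapply]
        exact P.mul_mem (conj_mem_of_stronglyClosed' F hP (hRS y.2) hxP) (P.inv_mem hxP)
      · obtain ⟨i', rfl⟩ : ∃ i', i = i' + 1 := ⟨i - 1, by omega⟩
        rw [hc₂s]; trivial
  exact ⟨⟨β, hβA⟩, hle (Subgroup.mem_subgroupOf.mpr hβB), rfl⟩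

/-- characteristic subgroups of a subgroup normal in the system are strongly closed -/
theorem stronglyClosed_of_characteristic (F : FusionSystem S) {P : Subgroup Ω} (hN : F.IsNormal P)
    (Z : Subgroup P) [hZ : Z.Characteristic] : F.StronglyClosed (Z.map P.subtype) := by
  have hext := Cfsg.Agent.S5290.extendsToAut_of_isNormal F hN
  have hCP : Z.map P.subtype ≤ P := by
    rintro _ ⟨z, -, rfl⟩; exact z.2
  refine ⟨hCP.trans hN.1, fun R hR φ hφ x => ?_⟩
  obtain ⟨α, -, hαφ⟩ := hext R (hR.trans hCP) φ hφ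
  obtain ⟨z, hz, hzx⟩ := hR x.2
  have hchar : Z.map α.toMonoidHom = Z := Subgroup.characteristic_iff_map_eq.mp hZ α
  have h1 := hαφ x (hCP (hR x.2))
  have h2 : (⟨(x : Ω), hCP (hR x.2)⟩ : P) = z := Subtype.ext hzx.symm
  rw [h2] at h1
  rw [← h1]
  have : α z ∈ Z.map α.toMonoidHom := ⟨z, hz, rfl⟩
  rw [hchar] at this
  exact ⟨α z, this, rfl⟩

/-- `Ω₁` of a group, as a subgroup of that group -/
def omegaSub (p : ℕ) (X : Type*) [Group X] : Subgroup X := Subgroup.closure {x : X | x ^ p = 1}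

instance omegaSub_characteristic (p : ℕ) (X : Type*) [Group X] : (omegaSub p X).Characteristic := by
  rw [Subgroup.characteristic_iff_map_le]
  intro φ
  unfold omegaSub
  rw [MonoidHom.map_closure, Subgroup.closure_le]
  rintro _ ⟨x, hx, rfl⟩
  apply Subgroup.subset_closure
  show (φ x) ^ p = 1
  have hx' : x ^ p = 1 := hx
  rw [← map_pow, hx', map_one]

lemma omegaSub_map (p : ℕ) (P : Subgroup Ω) : (omegaSub p P).map P.subtype = omegaOne p P := by
  unfold omegaSub omegaOne
  rw [MonoidHom.map_closure]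
  congr 1
  ext y
  constructor
  · rintro ⟨x, hx, rfl⟩
    have hx' : x ^ p = 1 := hx
    refine ⟨x.2, ?_⟩
    have := congrArg (fun w : P => (w : Ω)) hx'
    simpa using this
  · rintro ⟨hy, hyp⟩
    refine ⟨⟨y, hy⟩, ?_, rfl⟩
    show (⟨y, hy⟩ : P) ^ p = 1
    exact Subtype.ext (by simpa using hyp)

/-- Let p be an odd prime, F a saturated fusion system over a finite p-group S and P a subgroup of S strongly closed in F. Then P is normal in F if and only if Ω₁(P) (the subgroup generated by the elements of order p of P) has a chain of subgroups 1 = Q₀ ≤ Q₁ ≤ ⋯ ≤ Qₙ = Ω₁(P), each strongly closed in F, with [Qᵢ₊₁, P] ≤ Qᵢ for all i. -/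
theorem result {Ω : Type*} [Group Ω] {S : Subgroup Ω} [Finite S] (p : ℕ) [Fact p.Prime] (hS : IsPGroup p S) (F : Cfsg.FusionSystem S) (hF : F.IsSaturated p) (hp : p ≠ 2) (P : Subgroup Ω) (hP : F.StronglyClosed P) : F.IsNormal P ↔ ∃ (n : ℕ) (Q : Fin (n + 1) → Subgroup Ω), Q 0 = ⊥ ∧ Q (Fin.last n) = Cfsg.omegaOne p P ∧ Monotone Q ∧ (∀ i : Fin (n + 1), F.StronglyClosed (Q i)) ∧ ∀ i : Fin n, ⁅Q i.succ, P⁆ ≤ Q i.castSucc := by
  constructor
  · intro hN
    have hPS : P ≤ S := hN.1
    haveI : Finite P := finite_of_le_finite hPS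
    have hPp : IsPGroup p P := hS.to_le hPS
    haveI : Group.IsNilpotent P := hPp.isNilpotent
    obtain ⟨n, hn⟩ := Group.IsNilpotent.nilpotent P
    refine ⟨n, fun i => (Subgroup.upperCentralSeries P i.val ⊓ omegaSub p P).map P.subtype,
      ?_, ?_, ?_, ?_, ?_⟩
    · show (Subgroup.upperCentralSeries P 0 ⊓ omegaSub p P).map P.subtype = ⊥
      rw [Subgroup.upperCentralSeries_zero, bot_inf_eq, Subgroup.map_bot]
    · show (Subgroup.upperCentralSeries P n ⊓ omegaSub p P).map P.subtype = omegaOne p P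
      rw [hn, top_inf_eq, omegaSub_map]
    · intro i j hij
      exact Subgroup.map_mono (inf_le_inf_right _ (Subgroup.upperCentralSeries_mono P hij))
    · intro i
      exact stronglyClosed_of_characteristic F hN _
    · intro i
      show ⁅(Subgroup.upperCentralSeries P (i.val + 1) ⊓ omegaSub p P).map P.subtype, P⁆
        ≤ (Subgroup.upperCentralSeries P i.val ⊓ omegaSub p P).map P.subtype
      have hPtop : ⁅(Subgroup.upperCentralSeries P (i.val + 1) ⊓ omegaSub p P).map P.subtype, P⁆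
          = (⁅Subgroup.upperCentralSeries P (i.val + 1) ⊓ omegaSub p P, (⊤ : Subgroup P)⁆).map
            P.subtype := by
        rw [Subgroup.map_commutator, ← MonoidHom.range_eq_map, Subgroup.range_subtype]
      rw [hPtop]
      apply Subgroup.map_mono
      apply le_inf
      · rw [Subgroup.commutator_le]
        intro g₁ h₁ g₂ _
        exact (Subgroup.mem_upperCentralSeries_succ_iff.mp h₁.1) g₂
      · exact (Subgroup.commutator_mono inf_le_right le_rfl).trans
          (Subgroup.commutator_le_left _ _)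
  · rintro ⟨n, Q, h0, hn, hmono, hsc, hcomm⟩
    have hlt : ∀ k, min k n < n + 1 := fun k => Nat.lt_succ_of_le (Nat.min_le_right k n)
    refine isNormal_of_omega_chain p hS F hF hp hP n (fun k => Q ⟨min k n, hlt k⟩) ?_ ?_ ?_ ?_ ?_
    · have h1 : (⟨min 0 n, hlt 0⟩ : Fin (n + 1)) = 0 := Fin.ext (by simp)
      show Q ⟨min 0 n, _⟩ = ⊥
      rw [h1, h0]
    · intro k hk
      have h1 : (⟨min k n, hlt k⟩ : Fin (n + 1)) = Fin.last n := Fin.ext (by simp [hk])
      show Q ⟨min k n, _⟩ = omegaOne p P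
      rw [h1, hn]
    · intro k
      apply hmono
      show min k n ≤ min (k + 1) n
      omega
    · intro k
      exact hsc _
    · intro k hk
      have h1 : (⟨min (k + 1) n, hlt (k + 1)⟩ : Fin (n + 1)) = (⟨k, hk⟩ : Fin n).succ := by
        apply Fin.ext
        show min (k + 1) n = k + 1
        omega
      have h2 : (⟨min k n, hlt k⟩ : Fin (n + 1)) = (⟨k, hk⟩ : Fin n).castSucc := by
        apply Fin.ext
        show min k n = k
        omega
      show ⁅Q ⟨min (k + 1) n, _⟩, P⁆ ≤ Q ⟨min k n, _⟩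
      rw [h1, h2]
      exact hcomm ⟨k, hk⟩

end Cfsg.Agent.S5236
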