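import Cfsg.Statements.S5238
import Cfsg.Agent.Lib.Helper11.Pearl2
import Cfsg.Agent.Lib.MC4.MC4PS
-- import your own Cfsg.Agent.* helpers here

set_option autoImplicit false
open Cfsg

namespace Cfsg.Agent.S5238

/-- Let p be an odd prime and F a saturated fusion system over a finite p-group S having a pearl: an F-essential subgroup E that is elementary abelian of order p² or nonabelian of order p³. Then S has maximal nilpotency class (if S has order pⁿ with n ≥ 3, the term of index n − 2 of its lower central series, counting S itself as the term of index 0, is nontrivial), and every subgroup of S can be generated by at most p elements (the sectional rank of S is at most p). -/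
theorem result {Ω : Type*} [Group Ω] {S : Subgroup Ω} [Finite S] (p : ℕ) [Fact p.Prime] (hS : IsPGroup p S) (F : Cfsg.FusionSystem S) (hF : F.IsSaturated p) (hp : p ≠ 2) (E : Subgroup Ω) (hE : F.IsEssential p E) (hpearl : (Nat.card E = p ^ 2 ∧ ∀ x ∈ E, x ^ p = 1 ∧ IsMulCommutative ↥E) ∨ (Nat.card E = p ^ 3 ∧ ¬ IsMulCommutative ↥E)) : (∀ n : ℕ, Nat.card S = p ^ n → 3 ≤ n → Subgroup.lowerCentralSeries S (n - 2) ≠ ⊥) ∧ ∀ H : Subgroup Ω, H ≤ S → ∃ T : Finset Ω, T.card ≤ p ∧ Subgroup.closure (T : Set Ω) = H := by
  have hpp : p.Prime := Fact.out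
  refine Cfsg.Agent.Helper11.Pearl.pearl_main2 p hS F hp E hE hpearl ?_
  intro n _ hn hmax H hH hbig
  -- `H` is a proper subgroup of order at least `p ^ (p + 1)`, hence `p + 2 ≤ n`
  have hlt : Nat.card H < Nat.card ↥S := by
    refine lt_of_le_of_ne (Subgroup.card_le_card_group H) ?_
    intro h
    exact hH ((Subgroup.card_eq_iff_eq_top H).1 h)
  have hpn : p + 1 < n := by
    have h1 : p ^ (p + 1) < p ^ n := by
      rw [← hn]
      exact lt_of_le_of_lt hbig hlt
    exact (Nat.pow_lt_pow_iff_right hpp.one_lt).1 h1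
  have h2 : 2 ≤ p := hpp.two_le
  exact Cfsg.Agent.Helper21.MC.mc4_relIndex_le (by omega) ⟨hn, hmax⟩ hp (by omega) H

end Cfsg.Agent.S5238
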