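import Mathlib
import Cfsg.Statements.S5245
import Cfsg.Agent.Lib.Helper25.FusionCyc
import Cfsg.Agent.Lib.Helper25.FusionHyp
import Cfsg.Agent.Lib.Helper25.FusionNormal2
import Cfsg.Agent.S5083

set_option autoImplicit false
open Cfsg Cfsg.FusionSystem Cfsg.Agent.Helper25

namespace Cfsg.Agent.S5245

/-- Let F be an extremely sparse fusion system over a finite p-group S (saturated, not the inner system, and every saturated fusion system over any subgroup T of S contained in F is F itself or the inner system of T). Then S is normal in F, the focal and hyperfocal subgroups of F are both S, and Aut_F(S) is generated by the inner automorphisms of S together with a single automorphism of prime order q ≠ p (F is the fusion system of the semidirect product of S by a cyclic group of prime order). -/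
theorem result {Ω : Type*} [Group Ω] {S : Subgroup Ω} [Finite S] (p : ℕ) [Fact p.Prime] (hS : IsPGroup p S) (F : Cfsg.FusionSystem S) (hF : F.IsSaturated p) (hxs : ¬ (∀ P : Subgroup Ω, F.Hom P = (Cfsg.innerFusionSystem S).Hom P) ∧ ∀ (T : Subgroup Ω) (E : Cfsg.FusionSystem T), E.IsSaturated p → E.IsSubsystemOf F → (T = S ∧ ∀ P : Subgroup Ω, E.Hom P = F.Hom P) ∨ (∀ P : Subgroup Ω, E.Hom P = (Cfsg.innerFusionSystem T).Hom P)) : F.IsNormal S ∧ F.focalSubgroup = S ∧ F.hyperfocalSubgroup p = S ∧ ∃ (q : ℕ) (β : MulAut ↥S), q.Prime ∧ q ≠ p ∧ β ∈ F.autGroup S ∧ orderOf β = q ∧ (F.autGroup S : Subgroup (MulAut ↥S)) = Cfsg.Inn ↥S ⊔ Subgroup.zpowers β := by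
  classical
  obtain ⟨hni, hsp⟩ := hxs
  have hp : p.Prime := Fact.out
  -- Lemma A: a prime-order p'-automorphism in Aut_F(T) forces T = S and F = cycSys
  have lemA : ∀ (T : Subgroup Ω) (hTS : T ≤ S) (β : MulAut T) (q : ℕ), q.Prime → q ≠ p →
      β ∈ F.autGroup T → orderOf β = q →
      T = S ∧ ∀ P : Subgroup Ω, (Cyc.cycSys T β).Hom P = F.Hom P := by
    intro T hTS β q hq hqp hβ hβq
    haveI : Finite T := finite_of_le_finite hTS
    have hTp : IsPGroup p T := hS.to_le hTS
    have hcop : Nat.Coprime (orderOf β) p := by rw [hβq]; exact (Nat.coprime_primes hq hp).mpr hqp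
    rcases hsp T (Cyc.cycSys T β) (Cyc.cycSys_isSaturated hTp β hcop) (Cyc.cycSys_sub F hTS hβ) with h | h
    · exact h
    · exact absurd h (Cyc.cycSys_not_inner hTp hq hqp hβq)
  -- some automizer is not a p-group
  have hex : ∃ Q : Subgroup Ω, Q ≤ S ∧ ¬ IsPGroup p (F.autGroup Q) := by
    by_contra hcon
    push_neg at hcon
    have := Cfsg.Agent.S5083.result p hS F hF hcon
    exact hni (fun P => by rw [this])
  obtain ⟨Q, hQS, hQ⟩ := hex
  haveI : Finite Q := finite_of_le_finite hQS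
  haveI : Finite (MulAut Q) := Finite.of_injective (fun e : MulAut Q => (e : Q → Q))
    (fun a b h => MulEquiv.ext (congrFun h))
  obtain ⟨q, b, hq, hqp, hbq⟩ := Cyc.exists_prime_order_of_not_isPGroup hQ
  have hbq' : orderOf (b : MulAut Q) = q := by rw [Subgroup.orderOf_coe]; exact hbq
  obtain ⟨hQeq, hEF⟩ := lemA Q hQS (b : MulAut Q) q hq hqp b.2 hbq'
  subst hQeq
  set β : MulAut Q := (b : MulAut Q) with hβdef
  have hβ : β ∈ F.autGroup Q := b.2
  have hβF : Q.subtype.comp β.toMonoidHom ∈ F.Hom Q := (mem_autGroup_iff F le_rfl β).mp hβ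
  have hβq : β ^ q = 1 := by rw [← hbq']; exact pow_orderOf_eq_one β
  have hcopq : Nat.Coprime q p := (Nat.coprime_primes hq hp).mpr hqp
  -- T = [S, β]
  set T : Subgroup Ω := Subgroup.closure {y : Ω | ∃ x : Q, y = (x : Ω)⁻¹ * ((β x : Q) : Ω)} with hT
  have hTS : T ≤ Q := by
    rw [hT, Subgroup.closure_le]
    rintro _ ⟨x, rfl⟩
    exact Q.mul_mem (Q.inv_mem x.2) (β x).2
  have hgen : ∀ x : Q, (x : Ω)⁻¹ * ((β x : Q) : Ω) ∈ T := fun x => Subgroup.subset_closure ⟨x, rfl⟩
  have hβT : ∀ y (hyT : y ∈ T) (hy : y ∈ Q), ((β ⟨y, hy⟩ : Q) : Ω) ∈ T := by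
    intro y hyT
    rw [hT] at hyT
    induction hyT using Subgroup.closure_induction with
    | mem y hy0 =>
      obtain ⟨x, rfl⟩ := hy0
      intro hy
      have e : (⟨(x : Ω)⁻¹ * ((β x : Q) : Ω), hy⟩ : Q) = x⁻¹ * β x := Subtype.ext rfl
      rw [e, map_mul, map_inv]
      exact hgen (β x)
    | one =>
      intro hy
      have e : (⟨(1 : Ω), hy⟩ : Q) = 1 := Subtype.ext rfl
      rw [e, map_one]
      exact T.one_mem
    | mul y₁ y₂ h₁ h₂ ih₁ ih₂ =>
      intro hy
      have hy₁ : y₁ ∈ Q := hTS (by rw [hT]; exact h₁)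
      have hy₂ : y₂ ∈ Q := hTS (by rw [hT]; exact h₂)
      have e : (⟨y₁ * y₂, hy⟩ : Q) = ⟨y₁, hy₁⟩ * ⟨y₂, hy₂⟩ := Subtype.ext rfl
      rw [e, map_mul]
      exact T.mul_mem (ih₁ hy₁) (ih₂ hy₂)
    | inv y₁ h₁ ih₁ =>
      intro hy
      have hy₁ : y₁ ∈ Q := hTS (by rw [hT]; exact h₁)
      have e : (⟨y₁⁻¹, hy⟩ : Q) = ⟨y₁, hy₁⟩⁻¹ := Subtype.ext rfl
      rw [e, map_inv]
      exact T.inv_mem (ih₁ hy₁)
  have hmap : (T.subgroupOf Q).map β.toMonoidHom = T.subgroupOf Q := by
    have hle : (T.subgroupOf Q).map β.toMonoidHom ≤ T.subgroupOf Q := by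
      rintro _ ⟨s, hs, rfl⟩
      rw [Subgroup.mem_subgroupOf]
      exact hβT s (Subgroup.mem_subgroupOf.mp hs) s.2
    apply Subgroup.eq_of_le_of_card_ge hle
    rw [Subgroup.card_map_of_injective β.injective]
  obtain ⟨κ, hκ⟩ := exists_restrict_aut hTS β hmap
  have hκF : κ ∈ F.autGroup T := by
    rw [mem_autGroup_iff F hTS]
    have h1 := restrict_mem F hTS hβF
    have e : T.subtype.comp κ.toMonoidHom = (Q.subtype.comp β.toMonoidHom).comp (Subgroup.inclusion hTS) := by
      ext x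
      have := congrArg (fun t : Q => (t : Ω)) (hκ x)
      exact this.symm
    rw [e]; exact h1
  have hκpow : ∀ (n : ℕ) (x : T), (β ^ n) (Subgroup.inclusion hTS x) = Subgroup.inclusion hTS ((κ ^ n) x) := by
    intro n
    induction n with
    | zero => intro x; simp
    | succ n ih =>
      intro x
      rw [pow_succ', pow_succ', MulAut.mul_apply, MulAut.mul_apply, ih, hκ]
  have hκq : κ ^ q = 1 := by
    ext x
    have := hκpow q x
    rw [hβq, MulAut.one_apply] at this
    have h2 := Subgroup.inclusion_injective hTS this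
    rw [MulAut.one_apply, ← h2]
  have hκord : orderOf κ = q := by
    rcases (Nat.dvd_prime hq).mp (orderOf_dvd_of_pow_eq_one hκq) with h1 | h1
    · exfalso
      have hκ1 : κ = 1 := orderOf_eq_one_iff.mp h1
      have hfix : ∀ s : Q, β s = s := by
        intro s
        apply Cyc.coprime_fix hS β hβq hcopq s
        have hmem : ((s⁻¹ * β s : Q) : Ω) ∈ T := hgen s
        have := hκ ⟨((s⁻¹ * β s : Q) : Ω), hmem⟩
        rw [hκ1, MulAut.one_apply] at this
        exact this
      have hβ1 : β = 1 := by ext s; rw [hfix s]; rfl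
      rw [hβ1, orderOf_one] at hbq'
      exact hq.one_lt.ne' hbq'.symm
    · exact h1
  obtain ⟨hTeq, -⟩ := lemA T hTS κ q hq hqp hκF hκord
  -- conclusions
  have hfoc : F.focalSubgroup = Q := by
    apply le_antisymm
    · unfold FusionSystem.focalSubgroup
      rw [Subgroup.closure_le]
      rintro _ ⟨P, φ, x, hφ, rfl⟩
      exact Q.mul_mem (Q.inv_mem ((F.le_of_mem hφ).1 x.2)) ((F.le_of_mem hφ).2 x)
    · calc Q = T := hTeq.symm
        _ ≤ F.focalSubgroup := by
          rw [hT, Subgroup.closure_le]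
          rintro _ ⟨x, rfl⟩
          exact Subgroup.subset_closure ⟨Q, Q.subtype.comp β.toMonoidHom, x, hβF, rfl⟩
  have hhyp : F.hyperfocalSubgroup p = Q := by
    apply le_antisymm (hyperfocalSubgroup_le F p)
    calc Q = T := hTeq.symm
      _ ≤ F.hyperfocalSubgroup p := by
        rw [hT, Subgroup.closure_le]
        rintro _ ⟨x, rfl⟩
        have hν : (⟨β, hβ⟩ : F.autGroup Q) ∈ pResidual p ↥(F.autGroup Q) := by
          apply Subgroup.subset_closure
          show Nat.Coprime (orderOf (⟨β, hβ⟩ : F.autGroup Q)) p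
          rw [Subgroup.orderOf_mk, hbq']
          exact hcopq
        exact hyperfocal_gen_mem F p le_rfl ⟨β, hβ⟩ hν x
  have hmemcyc : ∀ {P : Subgroup Ω} {φ : P →* Ω}, φ ∈ F.Hom P → ∃ hP : P ≤ Q, ∃ g : Q, ∃ k : ℤ,
      ∀ y : P, φ y = ((g * (β ^ k) ⟨y, hP y.2⟩ * g⁻¹ : Q) : Ω) := by
    intro P φ hφ
    rw [← hEF P] at hφ
    exact hφ
  refine ⟨⟨le_rfl, fun P φ hφ => ?_⟩, hfoc, hhyp, q, β, hq, hqp, hβ, hbq', ?_⟩
  · obtain ⟨hP, g, k, h⟩ := hmemcyc hφ
    have hγ : MulAut.conj g * β ^ k ∈ F.autGroup Q :=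
      (F.autGroup Q).mul_mem (autInducedBy_le_autGroup F le_rfl (inn_le_autInducedBy le_rfl ⟨g, rfl⟩))
        ((F.autGroup Q).zpow_mem hβ k)
    have h1 := (mem_autGroup_iff F le_rfl _).mp hγ
    have hle : P ⊔ Q ≤ Q := sup_le hP le_rfl
    refine ⟨(Q.subtype.comp (MulAut.conj g * β ^ k).toMonoidHom).comp (Subgroup.inclusion hle),
      restrict_mem F hle h1, fun x => ?_, ?_⟩
    · rw [h x]; rfl
    · ext y
      rw [mem_map_subgroupOf]
      constructor
      · rintro ⟨x, hK, hxQ, rfl⟩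
        exact Subtype.property _
      · intro hy
        refine ⟨(((MulAut.conj g * β ^ k)⁻¹ ⟨y, hy⟩ : Q) : Ω), le_sup_right (a := P) (Subtype.property _),
          Subtype.property _, ?_⟩
        show (((MulAut.conj g * β ^ k) ((MulAut.conj g * β ^ k)⁻¹ ⟨y, hy⟩) : Q) : Ω) = y
        rw [MulAut.apply_inv_self]
  · apply le_antisymm
    · intro α hα
      have h1 := (mem_autGroup_iff F le_rfl α).mp hα
      obtain ⟨hP, g, k, h⟩ := hmemcyc h1
      have e : α = MulAut.conj g * β ^ k := by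
        ext y
        exact h y
      rw [e]
      exact Subgroup.mul_mem _ (Subgroup.mem_sup_left ⟨g, rfl⟩)
        (Subgroup.mem_sup_right (Subgroup.zpow_mem_zpowers β k))
    · exact sup_le ((inn_le_autInducedBy le_rfl).trans (autInducedBy_le_autGroup F le_rfl))
        (Subgroup.zpowers_le.mpr hβ)

end Cfsg.Agent.S5245
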