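import Mathlib
import Cfsg.Statements.S5249
import Cfsg.Agent.Lib.Helper1.FusQuot

set_option autoImplicit false
open Cfsg

namespace Cfsg.Agent.S5249

open Cfsg.Agent.Helper1.DF Subgroup FusionSystem

/-- Let p be an odd prime, G a finite group in which Qd(p) (the natural semidirect product of an elementary abelian group of order p² by SL₂(p)) is not involved, and P a Sylow p-subgroup of G. Then the fusion system of G on P is a solvable fusion system. -/
theorem result {G : Type*} [Group G] [Finite G] {p : ℕ} [Fact p.Prime] (hp : p ≠ 2) (hqd : ¬ Cfsg.Involves ↥(Cfsg.qd p) G) (P : Sylow p G) : (Cfsg.groupFusionSystem (P : Subgroup G)).IsSolvableSystem := by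
  have hG : Cfsg.Agent.Helper4.QDF.QdFree p G := Cfsg.Agent.Helper4.QDF.qdfree_iff.mpr hqd
  intro R hR hne hRn E hE
  -- `R` is strongly closed in the group-theoretic sense
  have hRP : R ≤ (P : Subgroup G) := hR.1
  have hsc : IsStronglyClosed R (P : Subgroup G) := by
    refine ⟨hRP, ?_⟩
    intro x hx g hgx
    have hA : zpowers x ≤ R := (zpowers_le).mpr hx
    have hφ : conjHom (zpowers x) g ∈ (groupFusionSystem (P : Subgroup G)).Hom (zpowers x) := by
      refine ⟨hA.trans hRP, ?_, g, fun y => rfl⟩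
      rintro ⟨y, k, rfl⟩
      show g * x ^ k * g⁻¹ ∈ (P : Subgroup G)
      have e : g * x ^ k * g⁻¹ = (g * x * g⁻¹) ^ k := by
        have := map_zpow (MulAut.conj g) x k
        simpa [MulAut.conj_apply] using this
      rw [e]
      exact zpow_mem hgx k
    exact hR.2 (zpowers x) hA _ hφ ⟨x, mem_zpowers x⟩
  have hPN : (P : Subgroup G) ≤ normalizer (R : Set G) :=
    (normal_subgroupOf_iff_le_normalizer hRP).mp hRn
  set N := normalizer (R : Set G) with hN
  set R₁ := R.subgroupOf N with hR₁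
  set π := QuotientGroup.mk' R₁ with hπ
  have hπs : Function.Surjective π := QuotientGroup.mk'_surjective R₁
  set Pb := ((P : Subgroup G).subgroupOf N).map π with hPb
  have hGb : Cfsg.Agent.Helper4.QDF.QdFree p (↥N ⧸ R₁) := (hG.subgroup N).quotient R₁
  have hPbp : IsPGroup p Pb := (P.isPGroup'.comap_subtype).map π
  have hPbidx : ¬ p ∣ Pb.index := by
    intro hd
    apply P.not_dvd_index
    refine hd.trans ((Subgroup.index_map_dvd _ hπs).trans ?_)
    exact Subgroup.relIndex_dvd_index_of_le hPN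
  obtain ⟨Qb, hQbP, hQb, hmax⟩ := exists_max_fnormal Pb
  have hcen := centric_of_max_card hp hGb Pb Qb hPbp hPbidx hQbP hQb hmax
  have hnorm := isNormal_comap (P : Subgroup G) R hsc E hE hPN Qb hQbP hQb
  intro hcore
  have hQ' : Qb.comap (jmap (P : Subgroup G) R hPN) ≤ ⊥ := by
    rw [← hcore]
    exact le_sSup hnorm
  -- `Qb = ⊥`
  have hQb1 : Qb = ⊥ := by
    rw [eq_bot_iff]
    intro q hq
    have h1 : q ∈ (jmap (P : Subgroup G) R hPN).range := by
      rw [jmap_range]; exact hQbP hq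
    obtain ⟨y, rfl⟩ := h1
    have h2 : y ∈ (⊥ : Subgroup _) := hQ' hq
    rw [mem_bot] at h2
    rw [h2, map_one]
    exact one_mem _
  -- then `Pb = ⊥`
  have hPb1 : Pb ≤ ⊥ := by
    intro y hy
    rw [← hQb1]
    apply hcen
    refine ⟨hy, ?_⟩
    rw [hQb1]
    show y ∈ centralizer ((⊥ : Subgroup (↥N ⧸ R₁)) : Set (↥N ⧸ R₁))
    rw [mem_centralizer_iff]
    intro h hh
    have : h = 1 := hh
    rw [this, one_mul, mul_one]
  apply hne
  apply le_antisymm hRP
  intro x hx
  have h1 : π ⟨x, hPN hx⟩ ∈ Pb := ⟨⟨x, hPN hx⟩, mem_subgroupOf.mpr hx, rfl⟩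
  have h2 := hPb1 h1
  rw [mem_bot] at h2
  have h3 : (⟨x, hPN hx⟩ : ↥N) ∈ R₁ := (QuotientGroup.eq_one_iff _).mp h2
  exact mem_subgroupOf.mp h3

end Cfsg.Agent.S5249
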