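import Mathlib
import Cfsg.Statements.S5250
import Cfsg.Agent.Lib.Helper3.KLRadical
import Cfsg.Agent.Lib.Helper3.KLInvolves

set_option autoImplicit false
set_option linter.style.haveILetI false
set_option linter.unusedSectionVars false
universe u
open Cfsg

namespace Cfsg.Agent.S5250

open Cfsg.FusionSystem Cfsg.Agent.Helper25 Cfsg.Agent.Helper3.KL Cfsg.Agent.Helper3.Model

/-- A property of local models, closed under passing to subgroups, which holds at the fully
normalized centric radical subgroups holds at all fully normalized centric subgroups. -/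
theorem localProp_of_radical {Ω : Type u} [Group Ω] {S : Subgroup Ω} [Finite S] (p : ℕ)
    [Fact p.Prime] (hS : IsPGroup p S) (F : FusionSystem S) (hF : F.IsSaturated p)
    (Pr : ∀ (L : Type u) [Group L], Prop)
    (hsub : ∀ {L L' : Type u} [Group L] [Group L'] (f : L' →* L), Function.Injective f →
      Pr L → Pr L')
    (h : ∀ Q : Subgroup Ω, F.IsFullyNormalized Q → F.IsCentric Q → F.IsRadical p Q →
      ∀ N : FusionSystem (normalizerIn S Q), F.IsNormalizerSystem Q N →
      ∀ (L : Type u) [Group L] (ι : ↥(normalizerIn S Q) →* L), N.IsModel p L ι → Pr L) :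
    LocalProp F p Pr := by
  suffices H : ∀ (k : ℕ) (Q : Subgroup Ω), Nat.card S - Nat.card Q = k →
      F.IsFullyNormalized Q → F.IsCentric Q →
      ∀ N : FusionSystem (normalizerIn S Q), F.IsNormalizerSystem Q N →
      ∀ (L : Type u) [Group L] (ι : ↥(normalizerIn S Q) →* L), N.IsModel p L ι → Pr L by
    intro Q hQfn hQc N hN L _ ι hm
    exact H _ Q rfl hQfn hQc N hN L ι hm
  intro k
  induction k using Nat.strong_induction_on with
  | _ k ih =>
  intro Q hk hQfn hQc N hN L _ ι hm
  by_cases hO : pCore p L ≤ (Q.subgroupOf (normalizerIn S Q)).map ι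
  · exact h Q hQfn hQc (isRadical_of_pCore_le p hS F hF hQfn hQc N hN ι hm hO) N hN L ι hm
  · have hQS : Q ≤ S := hQfn.1
    have hQT : Q ≤ normalizerIn S Q := le_normalizerIn hQS
    have hTS : normalizerIn S Q ≤ S := normalizerIn_le
    have hTp : IsPGroup p (normalizerIn S Q) := hS.to_le hTS
    haveI : Finite (normalizerIn S Q) := finite_of_le_finite hTS
    haveI : Finite L := hm.1
    have hreal := hm.2.1
    have hι := hreal.1
    have hNsat := normalizerSystem_isSaturated p hS F hF hQfn N hN
    have hQnormal : N.IsNormal Q := normalizerSystem_isNormal F hQS N hN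
    haveI hOn : (pCore p L).Normal := pCore_normal p L
    have hOp : IsPGroup p (pCore p L) := isPGroup_pCore p L
    obtain ⟨R₁, hR₁⟩ := hm.2.2.1
    have hOle : pCore p L ≤ ι.range := hR₁ ▸ hOp.le_sylow_of_normal R₁
    obtain ⟨R, hRdef⟩ : ∃ R : Subgroup Ω, R = ((pCore p L).comap ι).map (normalizerIn S Q).subtype :=
      ⟨_, rfl⟩
    have hmem : ∀ y : Ω, y ∈ R ↔ ∃ h : y ∈ normalizerIn S Q, ι ⟨y, h⟩ ∈ pCore p L := by
      intro y
      rw [hRdef]
      constructor
      · rintro ⟨s, hs, rfl⟩
        exact ⟨s.2, hs⟩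
      · rintro ⟨h, hy⟩
        exact ⟨⟨y, h⟩, hy, rfl⟩
    have hRnormal : N.IsNormal R := by
      rw [hRdef]
      exact isNormal_pb N ι hreal (pCore p L) hOle
    have hRT : R ≤ normalizerIn S Q := hRnormal.1
    have hRS : R ≤ S := hRT.trans hTS
    have hQn : ((Q.subgroupOf (normalizerIn S Q)).map ι).Normal :=
      normal_map_of_isNormal_of_isModel p N ι hm hQnormal
    have hQp : IsPGroup p ((Q.subgroupOf (normalizerIn S Q)).map ι) :=
      (hTp.to_subgroup _).map ι
    have hQO : (Q.subgroupOf (normalizerIn S Q)).map ι ≤ pCore p L := le_pCore hQn hQp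
    have hQR : Q ≤ R := by
      intro q hq
      exact (hmem q).mpr ⟨hQT hq, hQO ⟨⟨q, hQT hq⟩, Subgroup.mem_subgroupOf.mpr hq, rfl⟩⟩
    have hlt : Nat.card Q < Nat.card R := by
      obtain ⟨y, hy, hyQ⟩ := SetLike.not_le_iff_exists.mp hO
      obtain ⟨t, rfl⟩ := hOle hy
      have htR : (t : Ω) ∈ R := (hmem _).mpr ⟨t.2, hy⟩
      have htQ : (t : Ω) ∉ Q := fun hq => hyQ ⟨t, Subgroup.mem_subgroupOf.mpr hq, rfl⟩
      exact card_lt_of_le_of_mem hRS hQR htR htQ
    have hTn : normalizerIn S Q ≤ Subgroup.normalizer (R : Set Ω) :=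
      le_normalizer_of_isNormal N hRnormal
    have hRfnN : N.IsFullyNormalized R := isFullyNormalized_of_normal N hRT hTn
    have hRcF : F.IsCentric R := isCentric_of_le F hQc hQR hRS
    obtain ⟨V, hRV, hVfn⟩ := exists_isConj_fullyNormalized F hRS
    have hVc := isCentric_of_isConj F hRcF hRV
    obtain ⟨-, hVfa, hVrec⟩ := of_fullyNormalized p hS F hF hVfn
    obtain ⟨ψ, hψ, hψN, -, hψU⟩ := exists_normalizer_map p hS F V R hVfa hVrec hRV
    obtain ⟨NV, hNV⟩ := Cfsg.Agent.S5096.result F V hVfn.1
    have hTVp : IsPGroup p (normalizerIn S V) := hS.to_le normalizerIn_le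
    haveI : Finite (normalizerIn S V) := finite_of_le_finite normalizerIn_le
    have hNVsat := normalizerSystem_isSaturated p hS F hF hVfn NV hNV
    obtain ⟨LV, _, ιV, hmV⟩ := exists_model p hTVp NV ⟨hNVsat, V,
      normalizerSystem_isNormal F hVfn.1 NV hNV, normalizerSystem_isCentric F hVc NV hNV⟩
    obtain ⟨M₁, hM₁⟩ := Cfsg.Agent.S5096.result N R hRT
    have hT'' : normalizerIn (normalizerIn S Q) R = normalizerIn S Q := normalizerIn_eq_of_le hTn
    have hHom : ∀ P : Subgroup Ω, M₁.Hom P = N.Hom P := by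
      intro P
      rw [hM₁ P]
      exact normalizerHom_eq_of_isNormal N hRnormal P
    obtain ⟨ι'₁, hm'₁⟩ := isModel_congr hT'' M₁ N hHom p ι hm
    let D : EmbData p F Q R V LV :=
      { hS := hS, hF := hF, hQfn := hQfn, N := N, hN := hN, hQU := hQR, hUfn := hRfnN,
        hUc := hRcF, hVc := hVc, hVfn := hVfn, ψ := ψ, hψ := hψ, hψN := hψN, hψU := hψU,
        NV := NV, hNV := hNV, ιV := ιV, hmV := hmV }
    obtain ⟨f, hf⟩ := D.exists_embedding M₁ hM₁ ι'₁ hm'₁
    have hcV : Nat.card R = Nat.card V := card_eq_of_isConj F hRV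
    have hVle : Nat.card V ≤ Nat.card S := Subgroup.card_le_of_le hVfn.1
    have hk' : Nat.card S - Nat.card V < k := by omega
    exact hsub f hf (ih _ hk' V rfl hVfn hVc NV hNV LV ιV hmV)

/-- Let F be a saturated fusion system over a finite p-group S such that Qd(p) (the natural semidirect product of an elementary abelian group of order p² by SL₂(p)) is involved in no model of the normalizer system of any fully normalized subgroup that is both centric and radical in F. Then F is Qd(p)-free: Qd(p) is involved in no model of the normalizer system of any fully normalized centric subgroup. -/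
theorem result {Ω : Type u} [Group Ω] {S : Subgroup Ω} [Finite S] (p : ℕ) [Fact p.Prime] (hS : IsPGroup p S) (F : Cfsg.FusionSystem S) (hF : F.IsSaturated p) (h : ∀ Q : Subgroup Ω, F.IsFullyNormalized Q → F.IsCentric Q → F.IsRadical p Q → ∀ N : Cfsg.FusionSystem (Cfsg.FusionSystem.normalizerIn S Q), F.IsNormalizerSystem Q N → ∀ (L : Type u) [Group L] (ι : ↥(Cfsg.FusionSystem.normalizerIn S Q) →* L), N.IsModel p L ι → ¬ Cfsg.Involves ↥(Cfsg.qd p) L) : F.IsSectionFree p ↥(Cfsg.qd p) := by
  rw [isSectionFree_iff]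
  refine localProp_of_radical p hS F hF _ ?_ h
  intro L L' _ _ f hf h1 h2
  exact h1 (involves_of_injective f hf h2)

end Cfsg.Agent.S5250
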