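import Mathlib
import Cfsg.Statements.S5251
import Cfsg.Agent.Lib.Helper25.FusionNormal3
import Cfsg.Agent.Lib.Helper25.FusionRecept
import Cfsg.Agent.Lib.Helper25.FusionTransport
import Cfsg.Agent.Lib.Helper25.FusionAlperin
import Cfsg.Agent.Lib.Helper25.StabChain

set_option autoImplicit false
open Cfsg

namespace Cfsg.Agent.S5251

open Cfsg.FusionSystem Cfsg.Agent.Helper25

variable {Ω : Type*} [Group Ω] {S : Subgroup Ω}

/-- an automorphism centralizing `X ∩ T` and `X / (X ∩ T)` lies in `O_p(Aut_F(X))` -/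
lemma mem_pCore_of_stab (p : ℕ) [Fact p.Prime] (F : FusionSystem S) {T : Subgroup Ω}
    (hT : F.StronglyClosed T) {X : Subgroup Ω} (hXS : X ≤ S) [Finite X] (hXp : IsPGroup p X)
    {β : MulAut X} (hβ : β ∈ F.autGroup X) (h1 : ∀ y : X, (y : Ω) ∈ T → β y = y)
    (h2 : ∀ y : X, ((y⁻¹ * β y : X) : Ω) ∈ T) :
    β ∈ (pCore p (F.autGroup X)).map (F.autGroup X).subtype := by
  let c : ℕ → Subgroup X := fun i => if i = 0 then ⊥ else if i = 1 then T.subgroupOf X else ⊤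
  have hc0 : c 0 = ⊥ := rfl
  have hc1 : c 1 = T.subgroupOf X := rfl
  have hc2 : ∀ i, 2 ≤ i → c i = ⊤ := by
    intro i hi
    have h0 : i ≠ 0 := by omega
    have h1 : i ≠ 1 := by omega
    simp [c, h0, h1]
  have hmono : ∀ i, c i ≤ c (i + 1) := by
    intro i
    rcases Nat.lt_or_ge i 1 with h | h
    · have : i = 0 := by omega
      subst this
      rw [hc0]; exact bot_le
    · rw [hc2 (i + 1) (by omega)]; exact le_top
  have hinv : ∀ i, ∀ α ∈ F.autGroup X, ∀ y ∈ c i, α y ∈ c i := by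
    intro i α hα y hy
    rcases Nat.lt_or_ge i 1 with h | h
    · have : i = 0 := by omega
      subst this
      rw [hc0, Subgroup.mem_bot] at hy ⊢
      rw [hy, map_one]
    · rcases Nat.lt_or_ge i 2 with h' | h'
      · have : i = 1 := by omega
        subst this
        rw [hc1, Subgroup.mem_subgroupOf] at hy ⊢
        exact aut_mem_of_stronglyClosed F hT hXS hα hy
      · rw [hc2 i h']; trivial
  apply mem_pCore_of_stabilizesChain p hXp (F.autGroup X) c 2 hmono (hc2 2 le_rfl) hinv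
  · intro α _
    refine ⟨0, fun y hy => ?_⟩
    rw [hc0, Subgroup.mem_bot] at hy
    rw [hy, map_one]
  · refine ⟨hβ, fun i y hy => ?_⟩
    rcases Nat.lt_or_ge i 1 with h | h
    · have : i = 0 := by omega
      subst this
      rw [hc0, Subgroup.mem_bot]
      have hy' : (y : Ω) ∈ T := by
        rw [zero_add, hc1, Subgroup.mem_subgroupOf] at hy
        exact hy
      rw [h1 y hy', inv_mul_cancel]
    · rcases Nat.lt_or_ge i 2 with h' | h'
      · have : i = 1 := by omega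
        subst this
        rw [hc1, Subgroup.mem_subgroupOf]
        exact h2 y
      · rw [hc2 i h']; trivial

/-- If `C ≰ P` and `P` normalizes `C`, some element of `C` normalizes `P` without lying in it. -/
theorem exists_mem_normalizer_not_mem [Finite S] {p : ℕ} [Fact p.Prime] (hS : IsPGroup p S)
    {P C : Subgroup Ω} (hPS : P ≤ S) (hCS : C ≤ S) (hn : ∀ u ∈ P, ∀ v ∈ C, u⁻¹ * v * u ∈ C)
    (h : ¬ C ≤ P) : ∃ x ∈ C, x ∈ Subgroup.normalizer (P : Set Ω) ∧ x ∉ P := by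
  have hPCS : P ⊔ C ≤ S := sup_le hPS hCS
  haveI : Finite ↥(P ⊔ C) := finite_of_le_finite hPCS
  have hne : P ≠ P ⊔ C := by
    intro h'
    apply h
    rw [h']; exact le_sup_right
  have hPCp : IsPGroup p ↥(P ⊔ C) := hS.to_le hPCS
  obtain ⟨g, hgN, hgP⟩ := exists_mem_normalizerIn_not_mem hPCp le_sup_left hne
  obtain ⟨u, hu, v, hv, rfl⟩ := exists_mul_of_mem_sup hn hgN.1
  refine ⟨v, hv, ?_, fun hvP => hgP (P.mul_mem hu hvP)⟩
  have huN : u ∈ Subgroup.normalizer (P : Set Ω) := Subgroup.le_normalizer hu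
  have : v = u⁻¹ * (u * v) := by group
  rw [this]
  exact Subgroup.mul_mem _ (Subgroup.inv_mem _ huN) hgN.2

/-- Let F be a saturated fusion system over a finite p-group S, E a normal subsystem of F over T, and P an F-centric subgroup of S such that P ∩ T is not E-centric. Then some F-conjugate P* of P satisfies Out_S(P*) ∩ O_p(Out_F(P*)) ≠ 1: there is an element of N_S(P*) outside P* whose conjugation action on P* lies in O_p(Aut_F(P*)). In particular P is not both centric and radical in F. -/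
theorem result {Ω : Type*} [Group Ω] {S : Subgroup Ω} [Finite S] (p : ℕ) [Fact p.Prime] (hS : IsPGroup p S) (F : Cfsg.FusionSystem S) (hF : F.IsSaturated p) {T : Subgroup Ω} (E : Cfsg.FusionSystem T) (hE : E.IsNormalIn F p) (P : Subgroup Ω) (hP : F.IsCentric P) (hPT : ¬ E.IsCentric (P ⊓ T)) : (∃ φ ∈ F.Hom P, ∃ x ∈ S ⊓ Subgroup.normalizer (φ.range : Set Ω), x ∉ φ.range ∧ ∃ α ∈ ((Cfsg.pCore p ↥(F.autGroup φ.range)).map (F.autGroup φ.range).subtype : Subgroup (MulAut ↥φ.range)), ∀ y : ↥φ.range, ((α y : ↥φ.range) : Ω) = x * (y : Ω) * x⁻¹) ∧ ¬ F.IsRadical p P := by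
  classical
  have hEF : E.IsSubsystemOf F := hE.1.2.2.1
  have hT : F.StronglyClosed T := hE.1.2.2.2.1
  have hTS : T ≤ S := hT.1
  have hPS : P ≤ S := hP.1
  have hRS : P ⊓ T ≤ S := inf_le_left.trans hPS
  -- a conjugate of `P ⊓ T` not containing its centralizer in `T`
  obtain ⟨Q, hconjE, hQ⟩ : ∃ Q, E.IsConj (P ⊓ T) Q ∧ ¬ centralizerIn T Q ≤ Q := by
    by_contra h
    push_neg at h
    exact hPT ⟨inf_le_right, h⟩
  have hconjF : F.IsConj (P ⊓ T) Q := by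
    obtain ⟨ψ, hψ, rfl⟩ := hconjE
    exact ⟨ψ, hEF _ hψ, rfl⟩
  -- a fully automized receptive conjugate
  obtain ⟨R', hRR', hfa, hrec⟩ := hF (P ⊓ T) hRS
  have hR'S : R' ≤ S := hrec.1
  obtain ⟨φ₁, hφ₁, -, -, hφ₁R⟩ := exists_normalizer_map p hS F R' (P ⊓ T) hfa hrec hRR'
  have hQR' : F.IsConj Q R' := isConj_trans F (isConj_symm F hconjF) hRR'
  obtain ⟨φ₂, hφ₂, -, -, hφ₂R⟩ := exists_normalizer_map p hS F R' Q hfa hrec hQR'
  -- `T` is normalized by `S`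
  have hTn : ∀ g ∈ S, ∀ v ∈ T, g * v * g⁻¹ ∈ T := fun g hg v hv => conj_mem_of_stronglyClosed F hT hg hv
  have hTn' : ∀ g ∈ S, ∀ v ∈ T, g⁻¹ * v * g ∈ T := fun g hg v hv => conj_mem_of_stronglyClosed' F hT hg hv
  -- `P` normalizes `P ⊓ T`
  have hPN : P ≤ normalizerIn S (P ⊓ T) := by
    intro g hg
    rw [mem_normalizerIn]
    refine ⟨hPS hg, ?_⟩
    rw [Subgroup.mem_set_normalizer_iff]
    intro h
    constructor
    · rintro ⟨h1, h2⟩
      exact ⟨P.mul_mem (P.mul_mem hg h1) (P.inv_mem hg), hTn g (hPS hg) h h2⟩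
    · rintro ⟨h1, h2⟩
      have e : h = g⁻¹ * (g * h * g⁻¹) * g := by group
      rw [e]
      exact ⟨P.mul_mem (P.mul_mem (P.inv_mem hg) h1) hg, hTn' g (hPS hg) _ h2⟩
  -- the conjugating map on `P`
  set φ : P →* Ω := φ₁.comp (Subgroup.inclusion hPN) with hφdef
  have hφ : φ ∈ F.Hom P := restrict_mem F hPN hφ₁
  have hPsS : φ.range ≤ S := range_le F hφ
  haveI : Finite φ.range := finite_of_le_finite hPsS
  have hPsp : IsPGroup p φ.range := hS.to_le hPsS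
  -- elements of `T` map into `T`
  have hmapT : ∀ {N : Subgroup Ω} {χ : N →* Ω}, χ ∈ F.Hom N → ∀ z : N, (z : Ω) ∈ T → χ z ∈ T := by
    intro N χ hχ z hz
    have h1 := restrict_mem F (inf_le_left : N ⊓ T ≤ N) hχ
    exact hT.2 (N ⊓ T) inf_le_right _ h1 ⟨z, z.2, hz⟩
  -- `φ.range ⊓ T = R'`
  have hmemR' : ∀ y : Ω, y ∈ R' ↔ y ∈ φ.range ∧ y ∈ T := by
    intro y
    constructor
    · intro hy
      rw [← hφ₁R] at hy
      obtain ⟨r, hr, rfl⟩ := hy
      have hr' : (r : Ω) ∈ P ⊓ T := Subgroup.mem_subgroupOf.mp hr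
      refine ⟨⟨⟨r, hr'.1⟩, ?_⟩, hmapT hφ₁ r hr'.2⟩
      show φ₁ (Subgroup.inclusion hPN ⟨r, hr'.1⟩) = φ₁ r
      congr 1
    · rintro ⟨⟨x, rfl⟩, hyT⟩
      obtain ⟨θ, hθ, hθφ⟩ := F.inv_mem hφ
      have hxT : (x : Ω) ∈ T := by
        have := hmapT hθ ⟨φ x, ⟨x, rfl⟩⟩ hyT
        rwa [hθφ x] at this
      rw [← hφ₁R]
      exact ⟨Subgroup.inclusion hPN x, Subgroup.mem_subgroupOf.mpr ⟨x.2, hxT⟩, rfl⟩
  -- an element of `C_T(R')` outside `R'`
  obtain ⟨c, hcC, hcQ⟩ := SetLike.not_le_iff_exists.mp hQ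
  have hcC' := mem_centralizerIn.mp hcC
  have hcN : c ∈ normalizerIn S Q :=
    centralizerIn_le_normalizerIn (mem_centralizerIn.mpr ⟨hTS hcC'.1, hcC'.2⟩)
  have hc'T : φ₂ ⟨c, hcN⟩ ∈ T := hmapT hφ₂ ⟨c, hcN⟩ hcC'.1
  have hc'cen : ∀ r' ∈ R', φ₂ ⟨c, hcN⟩ * r' = r' * φ₂ ⟨c, hcN⟩ := by
    intro r' hr'
    rw [← hφ₂R] at hr'
    obtain ⟨q, hq, rfl⟩ := hr'
    have hq' : (q : Ω) ∈ Q := Subgroup.mem_subgroupOf.mp hq
    rw [← map_mul, ← map_mul]
    congr 1
    apply Subtype.ext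
    show c * (q : Ω) = (q : Ω) * c
    exact (hcC'.2 q hq').symm
  have hc'R' : φ₂ ⟨c, hcN⟩ ∉ R' := by
    intro h
    rw [← hφ₂R] at h
    obtain ⟨q, hq, hqc⟩ := h
    have := F.injective_of_mem hφ₂ hqc
    apply hcQ
    have hq' : (q : Ω) ∈ Q := Subgroup.mem_subgroupOf.mp hq
    rw [this] at hq'
    exact hq'
  have hc'C : φ₂ ⟨c, hcN⟩ ∈ centralizerIn T R' :=
    mem_centralizerIn.mpr ⟨hc'T, fun r' hr' => (hc'cen r' hr').symm⟩
  have hCP : ¬ centralizerIn T R' ≤ φ.range := fun h =>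
    hc'R' ((hmemR' _).mpr ⟨h hc'C, hc'T⟩)
  -- `φ.range` normalizes `C_T(R')`
  have hnC : ∀ u ∈ φ.range, ∀ v ∈ centralizerIn T R', u⁻¹ * v * u ∈ centralizerIn T R' := by
    intro u hu v hv
    have hv' := mem_centralizerIn.mp hv
    rw [mem_centralizerIn]
    refine ⟨hTn' u (hPsS hu) v hv'.1, fun r hr => ?_⟩
    have hr' := (hmemR' r).mp hr
    have hur : u * r * u⁻¹ ∈ R' :=
      (hmemR' _).mpr ⟨Subgroup.mul_mem _ (Subgroup.mul_mem _ hu hr'.1) (Subgroup.inv_mem _ hu),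
        hTn u (hPsS hu) r hr'.2⟩
    have h3 := hv'.2 _ hur
    calc r * (u⁻¹ * v * u) = u⁻¹ * ((u * r * u⁻¹) * v) * u := by group
      _ = u⁻¹ * (v * (u * r * u⁻¹)) * u := by rw [h3]
      _ = u⁻¹ * v * u * r := by group
  obtain ⟨x, hxC, hxN, hxP⟩ := exists_mem_normalizer_not_mem hS hPsS
    ((inf_le_left : centralizerIn T R' ≤ T).trans hTS) hnC hCP
  have hxC' := mem_centralizerIn.mp hxC
  have hxS : x ∈ S := hTS hxC'.1
  -- the automorphism induced by `x`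
  have hcx : φ.range.normalizerMonoidHom ⟨x, hxN⟩ ∈ F.autGroup φ.range :=
    autInducedBy_le_autGroup F hPsS ((mem_autInducedBy_iff _).2 ⟨x, hxS, fun y => rfl⟩)
  have hcx1 : ∀ y : φ.range, (y : Ω) ∈ T → φ.range.normalizerMonoidHom ⟨x, hxN⟩ y = y := by
    intro y hy
    apply Subtype.ext
    show x * (y : Ω) * x⁻¹ = y
    have h1 := hxC'.2 (y : Ω) ((hmemR' _).mpr ⟨y.2, hy⟩)
    rw [← h1, mul_inv_cancel_right]
  have hcx2 : ∀ y : φ.range,
      ((y⁻¹ * φ.range.normalizerMonoidHom ⟨x, hxN⟩ y : φ.range) : Ω) ∈ T := by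
    intro y
    show (y : Ω)⁻¹ * (x * (y : Ω) * x⁻¹) ∈ T
    have h1 : (y : Ω)⁻¹ * x * (y : Ω) ∈ T := hTn' _ (hPsS y.2) x hxC'.1
    have e : (y : Ω)⁻¹ * (x * (y : Ω) * x⁻¹) = ((y : Ω)⁻¹ * x * (y : Ω)) * x⁻¹ := by group
    rw [e]
    exact T.mul_mem h1 (T.inv_mem hxC'.1)
  have hcore := mem_pCore_of_stab p F hT hPsS hPsp hcx hcx1 hcx2
  refine ⟨⟨φ, hφ, x, ⟨hxS, hxN⟩, hxP, _, hcore, fun y => rfl⟩, ?_⟩
  -- `P` is not radical
  intro hrad
  haveI : Finite P := finite_of_le_finite hPS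
  have hPp : IsPGroup p P := hS.to_le hPS
  set e : P ≃* φ.range := homEquiv F hφ with he
  have heF : φ.range.subtype.comp e.toMonoidHom ∈ F.Hom P := by
    have : φ.range.subtype.comp e.toMonoidHom = φ := by ext z; rfl
    rw [this]; exact hφ
  have hβ : MulAut.congr e.symm (φ.range.normalizerMonoidHom ⟨x, hxN⟩) ∈ F.autGroup P :=
    congr_mem_autGroup' F e.symm (symm_mem F e heF) hcx
  have hβapp : ∀ y : P, MulAut.congr e.symm (φ.range.normalizerMonoidHom ⟨x, hxN⟩) y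
      = e.symm (φ.range.normalizerMonoidHom ⟨x, hxN⟩ (e y)) := fun y => rfl
  have heT : ∀ y : P, (y : Ω) ∈ T ↔ ((e y : φ.range) : Ω) ∈ T := by
    intro y
    constructor
    · intro hy; exact hmapT hφ y hy
    · intro hy
      have h1 := hmapT (symm_mem F e heF) (e y) hy
      simpa using h1
  have hβ1 : ∀ y : P, (y : Ω) ∈ T →
      MulAut.congr e.symm (φ.range.normalizerMonoidHom ⟨x, hxN⟩) y = y := by
    intro y hy
    rw [hβapp, hcx1 (e y) ((heT y).mp hy), MulEquiv.symm_apply_apply]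
  have hβ2 : ∀ y : P,
      ((y⁻¹ * MulAut.congr e.symm (φ.range.normalizerMonoidHom ⟨x, hxN⟩) y : P) : Ω) ∈ T := by
    intro y
    rw [heT, map_mul, map_inv, hβapp, MulEquiv.apply_symm_apply]
    exact hcx2 (e y)
  have hβcore := mem_pCore_of_stab p F hT hPS hPp hβ hβ1 hβ2
  rw [hrad.2] at hβcore
  obtain ⟨g, hg⟩ := hβcore
  have hcxInn : φ.range.normalizerMonoidHom ⟨x, hxN⟩ ∈ Inn φ.range := by
    refine ⟨e g, ?_⟩
    ext z
    have h1 := congrArg (fun γ : MulAut P => γ (e.symm z)) hg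
    simp only [hβapp, MulEquiv.apply_symm_apply] at h1
    have h2 := congrArg e h1
    rw [MulEquiv.apply_symm_apply] at h2
    rw [← h2]
    simp [MulAut.conj_apply]
  exact hxP (mem_of_induces_inner hPsS (hP.2 φ.range ⟨φ, hφ, rfl⟩) hcxInn hxS (fun y => rfl))

end Cfsg.Agent.S5251
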