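import Mathlib
import Cfsg.Statements.S5253
import Cfsg.Agent.Lib.Helper3.WClos5

set_option autoImplicit false
set_option linter.style.haveILetI false
set_option linter.unusedSectionVars false
set_option linter.deprecated false
universe u
open Cfsg

namespace Cfsg.Agent.S5253

open Cfsg.FusionSystem Cfsg.Agent.Helper25 Cfsg.Agent.Helper3.KL Cfsg.Agent.Helper3.WC
open Cfsg.Agent.Helper3.Model Cfsg.Agent.Helper25.Grun

/-- Let p be a prime and W a positive characteristic p-functor with Z(Q) ≤ W(Q): W assigns to every finite p-group Q (in a fixed universe) a subgroup W(Q), nontrivial when Q is, carried to W(R) by every isomorphism Q ≅ R, and containing the centre of Q. Suppose that for every finite group G with Sylow p-subgroup P in which W(P) is not normal there is g ∈ P outside O_p(G) with [Z(O_p(G)), g, g] = 1. Then for every saturated fusion system F over a finite p-group S and every normalizer fusion system N of W(S) in F, every p-th power of an element of Z(S) that lies in the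 centre of N lies in the centre of F. -/
theorem result {p : ℕ} [Fact p.Prime] (W : ∀ (Q : Type u) [Group Q], Subgroup Q) (hW1 : ∀ (Q : Type u) [Group Q] [Finite Q], IsPGroup p Q → Nontrivial Q → W Q ≠ ⊥) (hW2 : ∀ (Q R : Type u) [Group Q] [Group R] [Finite Q], IsPGroup p Q → ∀ φ : Q ≃* R, (W Q).map φ.toMonoidHom = W R) (hWZ : ∀ (Q : Type u) [Group Q] [Finite Q], IsPGroup p Q → Subgroup.center Q ≤ W Q) (hq : ∀ (G : Type u) [Group G] [Finite G] (P : Sylow p G), ¬ (((W ↥(P : Subgroup G)).map (P : Subgroup G).subtype : Subgroup G)).Normal → ∃ g : G, g ∈ (P : Subgroup G) ∧ g ∉ Cfsg.pCore p G ∧ ⁅⁅Subgroup.center ↥(Cfsg.pCore p G) |>.map (Cfsg.pCore p G).subtype, Subgroup.zpowers g⁆, Subgroup.zpowers g⁆ = ⊥) {Ω : Type u} [Group Ω] {S : Subgroup Ω} [Finite S] (hS : IsPGroup p S) (F : Cfsg.FusionSystem S) (hF : F.IsSaturated p) (N : Cfsg.FusionSystem (Cfsg.FusionSystem.normalizerIn S ((W ↥S).map S.subtype))) (hN : F.IsNormalizerSystem ((W ↥S).map S.subtype) N) : Subgroup.closure ((fun z =>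 z ^ p) '' ((S ⊓ Subgroup.centralizer (S : Set Ω) : Subgroup Ω) : Set Ω)) ⊓ N.center ≤ F.center := by
  obtain ⟨w, hw⟩ : ∃ w : Subgroup Ω → Subgroup Ω, w = fun T => wOf W T := ⟨_, rfl⟩
  have hwS : w S = (W ↥S).map S.subtype := by rw [hw]; rfl
  have hw1 : ∀ T : Subgroup Ω, T ≤ S → w T ≤ T := fun T _ => by rw [hw]; exact wOf_le T
  have hw3 : ∀ T : Subgroup Ω, T ≤ S → normalizerIn S T ≤ normalizerIn S (w T) := by
    intro T hT
    haveI := finite_of_le_finite hT
    rw [hw]
    exact normalizerIn_le_normalizerIn_wOf hW2 (hS.to_le hT)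
  have hXS : (W ↥S).map S.subtype ≤ S := wOf_le S
  have hXn : S ≤ Subgroup.normalizer (((W ↥S).map S.subtype : Subgroup Ω) : Set Ω) := by
    intro s hs
    have h1 : s ∈ normalizerIn S S := ⟨hs, Subgroup.le_normalizer hs⟩
    have h2 := hw3 S le_rfl h1
    rw [hwS] at h2
    exact h2.2
  have hTS : normalizerIn S ((W ↥S).map S.subtype) ≤ S := normalizerIn_le
  haveI : Finite ↥(normalizerIn S ((W ↥S).map S.subtype)) := finite_of_le_finite hTS
  have hNc : N.IsCentral N.center := isCentral_center N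
  apply le_center_of_fix hS hF (inf_le_right.trans (hNc.1.trans hTS))
  rintro z ⟨hzpow, hz⟩ φ hφ
  have hz : z ∈ N.center := hz
  obtain ⟨y, hyZ, hzy⟩ := exists_pow_of_mem_closure hzpow
  have hyS : y ∈ S := (mem_centralizerIn.mp hyZ).1
  have hzZ : z ∈ centralizerIn S S := hzy ▸ Subgroup.pow_mem _ hyZ p
  have hzS : z ∈ S := (mem_centralizerIn.mp hzZ).1
  have hzW : ∀ T : Subgroup Ω, T ≤ S → z ∈ T → z ∈ w T := by
    intro T hT hzT
    haveI := finite_of_le_finite hT
    rw [hw]
    apply mem_wOf.mpr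
    refine ⟨hzT, hWZ ↥T (hS.to_le hT) ?_⟩
    rw [Subgroup.mem_center_iff]
    intro t
    apply Subtype.ext
    exact (mem_centralizerIn.mp hzZ).2 t (hT t.2)
  have htop : AutFix F z (w S) := by
    rw [hwS, autFix_iff_autGroup F hXS]
    intro α hα hzX
    have h1 := normalizerSystem_aut_mem F hXS N hN hα
    exact central_fix N hNc h1 ⟨z, hzX⟩ hz
  have hloc : ∀ Q, F.IsFullyNormalized Q → F.IsCentric Q →
      AutFix F z (w (normalizerIn S Q)) → AutFix F z Q := by
    intro Q hQfn hQc hU
    have hQS : Q ≤ S := hQfn.1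
    have hTQS : normalizerIn S Q ≤ S := normalizerIn_le
    haveI : Finite ↥(normalizerIn S Q) := finite_of_le_finite hTQS
    have hTp : IsPGroup p ↥(normalizerIn S Q) := hS.to_le hTQS
    have hZQ : centralizerIn S S ≤ Q := by
      intro c hc
      apply hQc.2 Q (isConj_refl F hQS)
      rw [mem_centralizerIn]
      exact ⟨(mem_centralizerIn.mp hc).1, fun x hx => (mem_centralizerIn.mp hc).2 x (hQS hx)⟩
    have hzQ : z ∈ Q := hZQ hzZ
    have hyQ : y ∈ Q := hZQ hyZ
    have hzT : z ∈ normalizerIn S Q := le_normalizerIn hQS hzQ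
    obtain ⟨NQ, hNQ⟩ := Cfsg.Agent.S5096.result F Q hQS
    have hNQsat := normalizerSystem_isSaturated p hS F hF hQfn NQ hNQ
    obtain ⟨L, _, ι, hm⟩ := exists_model p hTp NQ ⟨hNQsat, Q,
      normalizerSystem_isNormal F hQS NQ hNQ, normalizerSystem_isCentric F hQc NQ hNQ⟩
    have hUT : w (normalizerIn S Q) ≤ normalizerIn S Q := hw1 _ hTQS
    have hycore := map_mem_pCore_of_isModel hS hQS NQ hNQ ι hm hyQ
    refine autFix_of_model hS hQfn hzQ hUT (hzW _ hTQS hzT) NQ hNQ ι hm ?_ hU
    intro hzT' _ hstep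
    obtain ⟨hfin, hreal, ⟨PT, hPT⟩, -⟩ := hm
    haveI := hfin
    have hι := hreal.1
    have hmap : (w (normalizerIn S Q)).subgroupOf (normalizerIn S Q) = W ↥(normalizerIn S Q) := by
      rw [hw]
      show ((W ↥(normalizerIn S Q)).map (normalizerIn S Q).subtype).comap
        (normalizerIn S Q).subtype = _
      exact Subgroup.comap_map_eq_self_of_injective (Subgroup.subtype_injective _) _
    rw [hmap, wOf_range hW2 hTp ι hι, ← hPT] at hstep
    have hzι : ι ⟨z, hzT'⟩ = (ι ⟨y, le_normalizerIn hQS hyQ⟩) ^ p := by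
      rw [← map_pow]
      congr 1
      exact Subtype.ext hzy
    rw [hzι] at hstep ⊢
    have hcomm : ∀ t ∈ (PT : Subgroup L), t * ι ⟨y, le_normalizerIn hQS hyQ⟩ =
        ι ⟨y, le_normalizerIn hQS hyQ⟩ * t := by
      intro t ht
      rw [hPT] at ht
      obtain ⟨s, rfl⟩ := ht
      rw [← map_mul, ← map_mul]
      congr 1
      apply Subtype.ext
      exact (mem_centralizerIn.mp hyZ).2 s (hTQS s.2)
    exact pow_central_of_quadratic hW2 hq (Nat.card L) L le_rfl PT _ hycore hcomm hstep
  have := chain hS hF hzZ w hw1 hw3 htop hloc hφ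
  exact this.apply (Subgroup.mem_zpowers z)

end Cfsg.Agent.S5253
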