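import Mathlib
import Cfsg.Statements.S5257
import Cfsg.Agent.Lib.Helper3.OliverMain

set_option autoImplicit false
set_option linter.style.haveILetI false
set_option linter.unusedSectionVars false
set_option linter.deprecated false

open Cfsg

namespace Cfsg.Agent.S5257

open Cfsg.Agent.Helper3.OL Cfsg.FusionSystem Cfsg.Agent.Helper3.SC

/-- Let p be an odd prime, S a finite nonabelian p-group with a unique abelian subgroup A of index p, and F a saturated fusion system over S having an F-essential subgroup other than A. Then the second centre Z₂(S) lies in A; Z(S) ∩ [S, S] has order p; Z(S)[S, S] has index p in A; Z(S) has index p in Z₂(S); and S/Z(S) has maximal nilpotency class (if S/Z(S) has order pᵐ with m ≥ 3 then the term of index m − 2 of the lower central series of S, counting S as index 0, is not contained in Z(S)). -/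
theorem result {Ω : Type*} [Group Ω] {S : Subgroup Ω} [Finite S] (p : ℕ) [Fact p.Prime] (hS : IsPGroup p S) (F : Cfsg.FusionSystem S) (hF : F.IsSaturated p) (hp : p ≠ 2) (hna : ¬ IsMulCommutative ↥S) (A : Subgroup Ω) (hA : A ≤ S ∧ IsMulCommutative ↥A ∧ (A.subgroupOf S).index = p) (huniq : ∀ B : Subgroup Ω, B ≤ S → IsMulCommutative ↥B → (B.subgroupOf S).index = p → B = A) (P : Subgroup Ω) (hP : F.IsEssential p P) (hPA : P ≠ A) : ((upperCentralSeries ↥S 2).map S.subtype) ≤ A ∧ Nat.card ↥((S ⊓ Subgroup.centralizer (S : Set Ω)) ⊓ ((commutator ↥S).map S.subtype)) = p ∧ (((S ⊓ Subgroup.centralizer (S : Set Ω)) ⊔ ((commutator ↥S).map S.subtype)).subgroupOf A).index = p ∧ (((S ⊓ Subgroup.centralizer (S : Set Ω))).subgroupOf ((upperCentralSeries ↥S 2).map S.subtype)).index = p ∧ ∀ m : ℕ, ((S ⊓ Subgroup.centralizer (S : Set Ω)).subgroupOf S).index = p ^ m → 3 ≤ m → ¬ Subgroup.lowerCentralSeries S (m - 2) ≤ (S ⊓ Subgroup.centralizer (S : Set Ω)) := by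
  have D := od_of_hyps hS hna hA huniq
  obtain ⟨x, hx, hxA, hxP, h12, hN, hcase⟩ := essential_cases hF D hP hPA
  have hK := K_two_ne D hx hxA h12
  refine ⟨Z2_le D hx hxA hK, card_Z_inf_comm D hx hxA h12, index_Z_sup_comm D hx hxA h12, ?_, ?_⟩
  · rw [Z2_eq D hx hxA hK]
    have h1 : (K D hx 1).relIndex (K D hx 2) = p := h12
    rw [K_one D hx hxA] at h1
    exact h1
  · intro m hm hm3
    have h1 : (centralizerIn S S).relIndex A = p ^ (m - 2 + 1) := by
      have := relIndex_Z_A_of D hm (by omega)
      rw [this]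
      congr 1
      omega
    exact lcs_not_le D hx hxA h12 h1

end Cfsg.Agent.S5257
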