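import Mathlib
import Cfsg.Statements.S5265
import Cfsg.Agent.Lib.Helper3.SmallCenter13

set_option autoImplicit false
set_option linter.style.haveILetI false
set_option linter.unusedSectionVars false

open Cfsg

namespace Cfsg.Agent.S5265

open Cfsg.Agent.Helper3.SC

/-- Let p be a prime, S a nontrivial finite p-group whose centre has index at most p², and F a saturated fusion system over S with no nontrivial normal subgroup and with hyperfocal subgroup equal to S. Then S is extraspecial of order p³; for odd p it has exponent p, and for p = 2 it is dihedral of order 8. -/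
theorem result {Ω : Type*} [Group Ω] {S : Subgroup Ω} [Finite S] (p : ℕ) [Fact p.Prime] (hS : IsPGroup p ↥S) (F : Cfsg.FusionSystem S) (hF : F.IsSaturated p) (hS1 : S ≠ ⊥) (hcore : F.core = ⊥) (hhyp : F.hyperfocalSubgroup p = S) (hZ : (Subgroup.center ↥S).index ≤ p ^ 2) : Cfsg.IsExtraspecial p ↥S ∧ Nat.card S = p ^ 3 ∧ (p ≠ 2 → Monoid.exponent ↥S = p) ∧ (p = 2 → Nonempty (↥S ≃* DihedralGroup 4)) := by
  have hp : p.Prime := Fact.out
  have H : Hyp p F := ⟨hS, hF, hcore, hS1, hZ⟩
  by_cases hp2 : p = 2
  · subst hp2
    have hZc := Zc_eq_Sd_two H hhyp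
    refine ⟨isExtraspecial H hZc, card_S H hZc, fun h => absurd rfl h, fun _ => ?_⟩
    exact dihedral_two H (by rw [card_S H hZc]; norm_num)
  · have hZc := Zc_eq_Sd_odd hp2 H
    refine ⟨isExtraspecial H hZc, card_S H hZc, fun _ => ?_, fun h => absurd h hp2⟩
    have hdvd : Monoid.exponent ↥S ∣ p := by
      apply Monoid.exponent_dvd_of_forall_pow_eq_one
      intro y
      exact Subtype.ext (pow_eq_one_odd hp2 H hZc y.2)
    rcases (Nat.dvd_prime hp).mp hdvd with h | h
    · exfalso
      apply hS1
      rw [Subgroup.eq_bot_iff_forall]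
      intro x hx
      have h1 : (⟨x, hx⟩ : S) ^ Monoid.exponent ↥S = 1 := Monoid.pow_exponent_eq_one _
      rw [h, pow_one] at h1
      exact congrArg Subtype.val h1
    · exact h

end Cfsg.Agent.S5265
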