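import Cfsg.Statements.S5271
import Cfsg.Agent.Lib.WE.WEInd
import Cfsg.Agent.Lib.WE.WEEasy

set_option autoImplicit false
open Cfsg

namespace Cfsg.Agent.S5271

/-- A nilpotency criterion for fusion systems. Let F be a saturated fusion system over a finite p-group S of order at least p². Call a subgroup Q of S weakly embedded in F when there is a subgroup P of S strongly closed in F such that both the product QP and the intersection Q ∩ P are strongly closed in F. Then F is the inner fusion system of S if and only if there is a subgroup D of S with 1 < D < S such that every subgroup of S of the same order as D is weakly embedded in F and, for every fully normalized subgroup H of S of that order, the normalizer fusion system of H in F is the inner fusion system of N_S(H). -/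
theorem result {Ω : Type*} [Group Ω] {S : Subgroup Ω} [Finite S] (p : ℕ) [Fact p.Prime] (hS : IsPGroup p ↥S) (F : Cfsg.FusionSystem S) (hF : F.IsSaturated p) (hcard : p ^ 2 ≤ Nat.card S) : (∀ P : Subgroup Ω, F.Hom P = (Cfsg.innerFusionSystem S).Hom P) ↔ ∃ D : Subgroup Ω, ⊥ < D ∧ D < S ∧ (∀ Q : Subgroup Ω, Q ≤ S → Nat.card ↥Q = Nat.card ↥D → ∃ P : Subgroup Ω, F.StronglyClosed P ∧ F.StronglyClosed (Q ⊔ P) ∧ F.StronglyClosed (Q ⊓ P)) ∧ (∀ H : Subgroup Ω, F.IsFullyNormalized H → Nat.card ↥H = Nat.card ↥D → ∀ N : Cfsg.FusionSystem (Cfsg.FusionSystem.normalizerIn S H), F.IsNormalizerSystem H N → ∀ P : Subgroup Ω, N.Hom P = (Cfsg.innerFusionSystem (Cfsg.FusionSystem.normalizerIn S H)).Hom P) := by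
  constructor
  · intro hin
    exact Cfsg.Agent.Helper18.WE.easy_dir p hS F hcard hin
  · rintro ⟨D, hD1, hD2, hA, hB⟩
    have hDS : D ≤ S := hD2.le
    haveI : Finite D := Cfsg.Agent.Helper25.finite_of_le_finite hDS
    obtain ⟨k, hk⟩ := (hS.to_le hDS).exists_card_eq
    have hd1 : 1 < Nat.card D := by
      rcases Nat.lt_or_ge 1 (Nat.card D) with h | h
      · exact h
      · exfalso
        have h1 : Nat.card D = 1 := le_antisymm h Nat.card_pos
        exact (ne_of_gt hD1) (Subgroup.card_eq_one.mp h1)
    have hdS : Nat.card D < Nat.card S := by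
      rcases Nat.lt_or_ge (Nat.card D) (Nat.card S) with h | h
      · exact h
      · exfalso
        exact (ne_of_lt hD2) (Subgroup.eq_of_le_of_card_ge hDS h)
    have hB' : Cfsg.Agent.Helper18.WE.HypB F (Nat.card D) := by
      intro H hH hc N hN
      exact (Cfsg.Agent.Helper3.KL.isInner_iff N).mpr (hB H hH hc N hN)
    have h := Cfsg.Agent.Helper18.WE.main_ind p (Nat.card S) hS F hF rfl (Nat.card D) ⟨k, hk⟩ hd1 hdS
      hA hB'
    exact (Cfsg.Agent.Helper3.KL.isInner_iff F).mp h

end Cfsg.Agent.S5271
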