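import Mathlib
import Cfsg.Statements.S5272
import Cfsg.Agent.Lib.Helper21.FamFusion
import Cfsg.Agent.S5096

set_option autoImplicit false
set_option linter.style.haveILetI false
set_option linter.unusedSectionVars false
open Cfsg

namespace Cfsg.Agent.S5272

open Cfsg.FusionSystem Cfsg.Agent.Helper25 Cfsg.Agent.Helper3.KL Cfsg.Agent.Helper3.Model
  Cfsg.Agent.Helper21.FamZJ Cfsg.Agent.Helper21.FamFusion Cfsg.Agent.Helper21.FamGT
  Cfsg.Agent.Helper10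

/-- An axiomatic Glauberman–Thompson nilpotency criterion for fusion systems. Let p be an odd prime, F a saturated fusion system over a finite p-group S, and 𝒜 a nonempty family of abelian subgroups of S. For Q ≤ S write I(Q) for the intersection of the members of 𝒜 contained in Q. Assume (invariance) that for every Q ≤ S containing a member of 𝒜, every F-automorphism of Q maps I(Q) into itself, and (replacement) that for every subgroup B of S of nilpotency class at most 2, if some member of 𝒜 contains [B,B] but not B, then B normalizes some member of 𝒜 that contains [B,B] but not B. Then F is the inner fusion system of S if and only if the normalizer fusion system of I(S) in F is the inner fusion system of N_S(I(S)). -/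
theorem result {Ω : Type*} [Group Ω] {S : Subgroup Ω} [Finite S] (p : ℕ) [Fact p.Prime] (hS : IsPGroup p ↥S) (F : Cfsg.FusionSystem S) (hF : F.IsSaturated p) (hp : p ≠ 2) (𝒜 : Set (Subgroup Ω)) (h𝒜 : ∀ A ∈ 𝒜, A ≤ S ∧ IsMulCommutative ↥A) (hne : 𝒜.Nonempty) (hinv : ∀ Q : Subgroup Ω, Q ≤ S → (∃ A ∈ 𝒜, A ≤ Q) → ∀ α ∈ F.autGroup Q, ∀ x : ↥Q, (x : Ω) ∈ (⨅ A ∈ {A : Subgroup Ω | A ∈ 𝒜 ∧ A ≤ Q}, A) → (((α : MulAut ↥Q) x : ↥Q) : Ω) ∈ (⨅ A ∈ {A : Subgroup Ω | A ∈ 𝒜 ∧ A ≤ Q}, A)) (hrep : ∀ B : Subgroup Ω, B ≤ S → ⁅⁅B, B⁆, B⁆ = ⊥ → (∃ A ∈ 𝒜, ⁅B, B⁆ ≤ A ∧ ¬ B ≤ A) → ∃ A ∈ 𝒜, ⁅B, B⁆ ≤ A ∧ ¬ B ≤ A ∧ B ≤ Subgroup.normalizer (A : Set Ω)) : (∀ P : Subgroup Ω, F.Hom P = (Cfsg.innerFusionSystem S).Hom P) ↔ ∀ N : Cfsg.FusionSystem (Cfsg.FusionSystem.normalizerIn S (⨅ A ∈ 𝒜, A)), F.IsNormalizerSystem (⨅ A ∈ 𝒜, A) N → ∀ P : Subgroup Ω, N.Hom P = (Cfsg.innerFusionSystem (Cfsg.FusionSystem.normalizerIn S (⨅ A ∈ 𝒜, A))).Hom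 P := by
  obtain ⟨A₀, hA₀⟩ := hne
  have h𝒜S : ∀ A ∈ 𝒜, A ≤ S := fun A hA => (h𝒜 A hA).1
  set Z : Subgroup Ω := ⨅ A ∈ 𝒜, A with hZdef
  have hZA₀ : Z ≤ A₀ := iInf₂_le (f := fun (A : Subgroup Ω) (_ : A ∈ 𝒜) => A) A₀ hA₀
  have hZS : Z ≤ S := hZA₀.trans (h𝒜S A₀ hA₀)
  have hItop : Ifam 𝒜 S = Z := Ifam_top_eq 𝒜 h𝒜S
  -- `S` normalizes `Z`
  have hSZ : S ≤ Subgroup.normalizer (Z : Set Ω) := by
    have key : ∀ s ∈ S, ∀ z ∈ Z, s * z * s⁻¹ ∈ Z := by
      intro s hs z hz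
      have hzS : z ∈ S := hZS hz
      have hα : (MulAut.conj (⟨s, hs⟩ : S) : MulAut S) ∈ F.autGroup S := by
        apply autInducedBy_le_autGroup F le_rfl
        rw [mem_autInducedBy_iff]
        exact ⟨s, hs, fun x => rfl⟩
      have hz' : ((⟨z, hzS⟩ : S) : Ω) ∈ (⨅ A ∈ {A : Subgroup Ω | A ∈ 𝒜 ∧ A ≤ S}, A) := by
        have : z ∈ Ifam 𝒜 S := hItop ▸ hz
        exact this
      have h1 := hinv S le_rfl ⟨A₀, hA₀, h𝒜S A₀ hA₀⟩ _ hα ⟨z, hzS⟩ hz'
      have h2 : s * z * s⁻¹ ∈ Ifam 𝒜 S := h1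
      rw [hItop] at h2
      exact h2
    intro s hs
    apply mem_normalizer_of_forall (key s hs)
    intro y hy
    have := key s⁻¹ (Subgroup.inv_mem _ hs) y hy
    simpa using this
  constructor
  · intro h N hN
    rw [← isInner_iff]
    have hFi := (isInner_iff F).mpr h
    intro P φ hφ
    rw [hN P] at hφ
    obtain ⟨g, hg, hgφ⟩ := hFi P φ hφ.1
    refine ⟨g, ?_, hgφ⟩
    rw [normalizerIn_eq_of_le hSZ]
    exact hg
  · intro h
    by_contra hne'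
    obtain ⟨E, hEF, hEc, hEne⟩ := exists_constrained_sub p hS hp _ F rfl hF hne'
    have hEF' : ∀ P : Subgroup Ω, E.Hom P ⊆ F.Hom P := fun P => hEF P
    obtain ⟨G, _, ι, hm⟩ := exists_model p hS E hEc
    have hEi : IsInner E := by
      apply isInner_of_isModel_of_npc p E ι hm
      obtain ⟨hfin, hreal, ⟨T, hT⟩, hcen⟩ := hm
      haveI := hfin
      apply NPC.hasNormalPComplement
      apply gt_fam hp T (famG ι 𝒜)
        (hyp_famG F E hEF' ι hreal T hT 𝒜 h𝒜 ⟨A₀, hA₀⟩ hinv hrep)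
        ⟨pCore p G, pCore_normal p G, isPGroup_pCore p G, hcen⟩
      have hTS : (T : Subgroup G) = tr ι S := by
        rw [hT]
        apply le_antisymm
        · rintro _ ⟨s, rfl⟩
          exact mem_tr.mpr ⟨s, s.2, rfl⟩
        · exact tr_le_range ι S
      have h1 : Ifam (famG ι 𝒜) (T : Subgroup G) = tr ι Z := by
        rw [hTS, Ifam_famG hreal.1 𝒜 h𝒜S ⟨A₀, hA₀, h𝒜S A₀ hA₀⟩, hItop]
      rw [h1]
      obtain ⟨M, hM⟩ := Cfsg.Agent.S5096.result E Z hZS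
      apply npc_of_hasNormalPComplement
      exact npc_normalizer_of_inner p hS E ι hreal T hT Z hZS hSZ M hM
        (isInner_normalizer_of_subsystem hEF' Z hZS
          (fun NF hNF => (isInner_iff NF).mpr (h NF hNF)) M hM)
    exact hEne ((isInner_iff E).mp hEi)

end Cfsg.Agent.S5272
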