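import Mathlib
import Cfsg.Statements.S5276
import Cfsg.Agent.Lib.Helper25.TateMain2

set_option autoImplicit false
open Cfsg

namespace Cfsg.Agent.S5276

/-- Let p be a prime and F a saturated fusion system over a finite p-group S. Then F is the inner fusion system of S if and only if the normalizer fusion system of S itself in F is the inner fusion system (equivalently, Aut_F(S) is induced by S) and the Frattini subgroup Φ(S) is strongly closed in F. -/
theorem result {Ω : Type*} [Group Ω] {S : Subgroup Ω} [Finite S] (p : ℕ) [Fact p.Prime] (hS : IsPGroup p ↥S) (F : Cfsg.FusionSystem S) (hF : F.IsSaturated p) : (∀ P : Subgroup Ω, F.Hom P = (Cfsg.innerFusionSystem S).Hom P) ↔ (∀ N : Cfsg.FusionSystem (Cfsg.FusionSystem.normalizerIn S S), F.IsNormalizerSystem S N → ∀ P : Subgroup Ω, N.Hom P = (Cfsg.innerFusionSystem (Cfsg.FusionSystem.normalizerIn S S)).Hom P) ∧ F.StronglyClosed ((frattini ↥S).map S.subtype) := by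
  constructor
  · intro hin
    constructor
    · intro N hN P
      rw [hN P]
      apply Set.Subset.antisymm
      · rintro φ ⟨hφ, hPN, hφN, -⟩
        rw [hin P] at hφ
        obtain ⟨hP, g, hg, hgx⟩ := hφ
        exact ⟨hPN, g, ⟨hg, Subgroup.le_normalizer hg⟩, hgx⟩
      · rintro φ ⟨hPN, g, hg, hgx⟩
        have hgS : g ∈ S := hg.1
        have hPS : P ≤ S := hPN.trans inf_le_left
        have hφc : φ = Cfsg.conjHom P g := by ext x; exact hgx x
        have hsup : P ⊔ S ≤ S := sup_le hPS le_rfl
        refine ⟨?_, hPN, ?_, Cfsg.conjHom (P ⊔ S) g, F.conj_mem hsup hgS, ?_, ?_⟩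
        · rw [hφc]; exact F.conj_mem hPS hgS
        · intro x
          rw [hgx x]
          have hxS : g * (x : Ω) * g⁻¹ ∈ S := S.mul_mem (S.mul_mem hgS (hPS x.2)) (S.inv_mem hgS)
          exact ⟨hxS, Subgroup.le_normalizer hxS⟩
        · intro x
          rw [hgx x]
          rfl
        · ext y
          rw [Cfsg.Agent.Helper25.mem_map_subgroupOf]
          constructor
          · rintro ⟨x, hK, hxS, rfl⟩
            exact S.mul_mem (S.mul_mem hgS hxS) (S.inv_mem hgS)
          · intro hy
            have hy' : g⁻¹ * y * g ∈ S := S.mul_mem (S.mul_mem (S.inv_mem hgS) hy) hgS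
            refine ⟨g⁻¹ * y * g, le_sup_right (a := P) hy', hy', ?_⟩
            show g * (g⁻¹ * y * g) * g⁻¹ = y
            group
    · refine ⟨Subgroup.map_subtype_le _, fun R hR φ hφ x => ?_⟩
      rw [hin R] at hφ
      obtain ⟨hRS, g, hg, hgx⟩ := hφ
      rw [hgx x]
      obtain ⟨y, hy, hyx⟩ := hR x.2
      have hn : (frattini ↥S).Normal := inferInstance
      refine ⟨(⟨g, hg⟩ : ↥S) * y * (⟨g, hg⟩ : ↥S)⁻¹, hn.conj_mem y hy _, ?_⟩
      rw [← hyx]
      rfl
  · rintro ⟨hN, hΦ⟩
    exact Cfsg.Agent.Helper25.TateMain.inner_of_focal_le_frattini p hS F hF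
      (Cfsg.Agent.Helper25.TateMain.focal_le_frattini p hS F hF hN hΦ)

end Cfsg.Agent.S5276
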