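import Mathlib
import Cfsg.Statements.S5284
import Cfsg.Agent.Lib.Helper1.AbFusion
import Cfsg.Agent.Lib.Helper1.AbFusion2
import Cfsg.Agent.Lib.Helper1.AbFusion3
import Cfsg.Agent.Lib.Helper1.AbFusion4
import Cfsg.Agent.Lib.Helper1.AbChain

set_option autoImplicit false
open Cfsg

namespace Cfsg.Agent.S5284

open Cfsg.Agent.Helper1 Cfsg.Agent.Helper1.AbFus

theorem chain_exists {Ω : Type*} [Group Ω] {S : Subgroup Ω} [Finite S] (p : ℕ) [Fact p.Prime]
    (hS : IsPGroup p ↥S) (hab : IsMulCommutative ↥S)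
    (hno : ¬ ∃ (n : ℕ) (H : Type) (_ : CommGroup H), 0 < n ∧
      Nonempty (↥S ≃* (Multiplicative (ZMod (p ^ n)) × Multiplicative (ZMod (p ^ n))) × H))
    (F : Cfsg.FusionSystem S) (hF : F.IsSaturated p) :
    ∃ (m : ℕ) (c : Fin (m + 1) → Subgroup Ω), c 0 = ⊥ ∧ c (Fin.last m) = S ∧
      (∀ i : Fin (m + 1), F.StronglyClosed (c i)) ∧
      ∀ i : Fin m, c i.castSucc ≤ c i.succ ∧
        ∃ x ∈ S, c i.succ = c i.castSucc ⊔ Subgroup.zpowers x := by
  have hab' : ∀ a ∈ S, ∀ b ∈ S, a * b = b * a := by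
    intro a ha b hb
    have := hab.is_comm.comm (⟨a, ha⟩ : S) ⟨b, hb⟩
    exact congrArg Subtype.val this
  letI : CommGroup ↥S := { (inferInstance : Group ↥S) with
    mul_comm := fun a b => hab.is_comm.comm a b }
  obtain ⟨N, hN⟩ := IsPGroup.iff_card.mp hS
  have hpow : ∀ x : S, x ^ (p ^ N) = 1 := by
    intro x
    rw [← hN]
    exact pow_card_eq_one'
  have hsc : ∀ i j, F.StronglyClosed ((AbChain.W p i j : Subgroup S).map S.subtype) :=
    fun i j => stronglyClosed_of_invariant hab' F hF _ (fun ψ _ => AbChain.map_W_le ψ i j)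
  -- inner descent
  have hinner : ∀ i j, Reach F ⊥ ((AbChain.W p i j : Subgroup S).map S.subtype) →
      Reach F ⊥ ((AbChain.W p i 0 : Subgroup S).map S.subtype) := by
    intro i j
    induction j with
    | zero => exact id
    | succ j ih =>
      intro h
      apply ih
      obtain ⟨x, hx⟩ := AbChain.step (p := p) hS hno i j
      refine h.snoc (hsc i j) (Subgroup.map_mono (AbChain.W_succ_le i j)) ⟨(x : Ω), x.2, ?_⟩
      rw [hx, Subgroup.map_sup, MonoidHom.map_zpowers]
      rfl
  have houter : ∀ i, Reach F ⊥ ((AbChain.om p i : Subgroup S).map S.subtype) := by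
    intro i
    induction i with
    | zero =>
      have h0 : ((AbChain.om p 0 : Subgroup S).map S.subtype) = ⊥ := by
        rw [AbChain.om_zero, Subgroup.map_bot]
      rw [h0]
      apply Reach.refl
      rw [← h0, ← AbChain.W_top hpow 0]
      exact hsc 0 N
    | succ i ih =>
      rw [← AbChain.W_top hpow i] at ih
      have := hinner i N ih
      rwa [AbChain.W_zero] at this
  have hfin := houter N
  rw [AbChain.om_top hpow, ← MonoidHom.range_eq_map, Subgroup.range_subtype] at hfin
  exact hfin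

/-- Let S be a finite abelian p-group. Every saturated fusion system over S is supersoluble (S has a chain of F-strongly closed subgroups from 1 to S with cyclic steps) if and only if the invariants of S are pairwise distinct, that is, S is not isomorphic to a direct product (Z/p^n × Z/p^n) × H with n ≥ 1. -/
theorem result {Ω : Type*} [Group Ω] {S : Subgroup Ω} [Finite S] (p : ℕ) [Fact p.Prime] (hS : IsPGroup p ↥S) (hab : IsMulCommutative ↥S) : (∀ F : Cfsg.FusionSystem S, F.IsSaturated p → (∃ (m : ℕ) (c : Fin (m + 1) → Subgroup Ω), c 0 = ⊥ ∧ c (Fin.last m) = S ∧ (∀ i : Fin (m + 1), F.StronglyClosed (c i)) ∧ ∀ i : Fin m, c i.castSucc ≤ c i.succ ∧ ∃ x ∈ S, c i.succ = c i.castSucc ⊔ Subgroup.zpowers x)) ↔ ¬ ∃ (n : ℕ) (H : Type) (_ : CommGroup H), 0 < n ∧ Nonempty (↥S ≃* (Multiplicative (ZMod (p ^ n)) × Multiplicative (ZMod (p ^ n))) × H) := by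
  have hab' : ∀ a ∈ S, ∀ b ∈ S, a * b = b * a := by
    intro a ha b hb
    have := hab.is_comm.comm (⟨a, ha⟩ : S) ⟨b, hb⟩
    exact congrArg Subtype.val this
  constructor
  · intro hall
    rintro ⟨n, H, instH, hn, ⟨e⟩⟩
    obtain ⟨F, hsat, hnc⟩ := exists_saturated_no_chain' (p := p) hn hab' e
    exact hnc (hall F hsat)
  · intro hno F hF
    exact chain_exists p hS hab hno F hF

end Cfsg.Agent.S5284
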