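import Mathlib
import Cfsg.Statements.S5289
import Cfsg.Agent.S3888
import Cfsg.Agent.S5234
import Cfsg.Agent.Lib.R2.R2CMain
import Cfsg.Agent.Lib.R2.R2GMain

set_option autoImplicit false
open Cfsg

namespace Cfsg.Agent.S5289

open Cfsg.Agent.Helper27.R2 in
/-- generators of the top subgroup of `↥S` give generators of `S` -/
theorem s5289_closure {Ω : Type*} [Group Ω] {S : Subgroup Ω} (x y z : ↥S)
    (h : Subgroup.closure ({x, y, z} : Set ↥S) = ⊤) :
    Subgroup.closure ({(x : Ω), (y : Ω), (z : Ω)} : Set Ω) = S := by
  have h1 : (Subgroup.closure ({x, y, z} : Set ↥S)).map S.subtype = S := by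
    rw [h, ← MonoidHom.range_eq_map, Subgroup.range_subtype]
  have h2 : (Subgroup.closure ({x, y, z} : Set ↥S)).map S.subtype =
      Subgroup.closure ({(x : Ω), (y : Ω), (z : Ω)} : Set Ω) := by
    rw [MonoidHom.map_closure]
    congr 1
    ext g
    simp only [Set.mem_image, Set.mem_insert_iff, Set.mem_singleton_iff, Subgroup.coe_subtype]
    constructor
    · rintro ⟨a, (rfl | rfl | rfl), rfl⟩
      · exact Or.inl rfl
      · exact Or.inr (Or.inl rfl)
      · exact Or.inr (Or.inr rfl)
    · rintro (rfl | rfl | rfl)
      · exact ⟨x, Or.inl rfl, rfl⟩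
      · exact ⟨y, Or.inr (Or.inl rfl), rfl⟩
      · exact ⟨z, Or.inr (Or.inr rfl), rfl⟩
  rw [← h2]
  exact h1

/-- Let p ≥ 5 be a prime and S a finite p-group of p-rank two (it has an elementary abelian subgroup of order p² and none of order p³) which is not the extraspecial group of order p³ and exponent p. Then S is resistant: for every saturated fusion system F over S, S is normal in F, that is, every map of F extends to an F-automorphism of S. -/
theorem result {Ω : Type*} [Group Ω] {S : Subgroup Ω} [Finite S] (p : ℕ) [Fact p.Prime] (hS : IsPGroup p S)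
    (F : Cfsg.FusionSystem S) (hF : F.IsSaturated p)
    (hp : 5 ≤ p)
    (hrank2 : ∃ E : Subgroup Ω, E ≤ S ∧ Cfsg.IsElementaryAbelian p E ∧ Nat.card E = p ^ 2)
    (hrank3 : ∀ E : Subgroup Ω, E ≤ S → Cfsg.IsElementaryAbelian p E → Nat.card E ≤ p ^ 2)
    (hnotE : ¬ (Nat.card S = p ^ 3 ∧ Monoid.exponent ↥S = p)) : F.IsNormal S := by
  have hpp : p.Prime := Fact.out
  have hp2 : p ≠ 2 := by omega
  have hp3 : p ≠ 3 := by omega
  obtain ⟨n, hn⟩ := hS.exists_card_eq
  have hrk : Cfsg.PRankLE p 2 ↥S := by
    intro A hAc hAe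
    have h1 := hrank3 (A.map S.subtype) (by
      rintro _ ⟨a, -, rfl⟩
      exact a.2) ?_
    · rwa [Subgroup.card_map_of_injective S.subtype_injective] at h1
    · refine ⟨⟨⟨?_⟩⟩, ?_⟩
      · rintro ⟨_, ⟨a, ha, rfl⟩⟩ ⟨_, ⟨b, hb, rfl⟩⟩
        apply Subtype.ext
        have h2 := hAc.is_comm.comm ⟨a, ha⟩ ⟨b, hb⟩
        have h3 : a * b = b * a := congrArg Subtype.val h2
        show (S.subtype a) * (S.subtype b) = (S.subtype b) * (S.subtype a)
        rw [← map_mul, ← map_mul, h3]
      · rintro _ ⟨a, ha, rfl⟩
        rw [← map_pow, hAe a ha, map_one]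
  rcases Cfsg.Agent.S3888.result hp2 n hn hrk with hm | ⟨h3, x, y, z, hgen, hx, hy, hz, hxz, hyz, hxy⟩ |
    ⟨h4, s, x, y, z, hs, hgen, hx, hy, hz, hyz, hxy, hxz⟩ | ⟨h3', -⟩
  · -- metacyclic
    refine Cfsg.Agent.S5234.result p hS F hF S ⟨le_rfl, fun R hR φ hφ r => (F.le_of_mem hφ).2 r⟩ hp2 hm
  · -- `C(p,n)`
    have D : Cfsg.Agent.Helper27.R2.CD p n S (x : Ω) (y : Ω) (z : Ω) :=
      { hn := h3
        card := hn
        gen := s5289_closure x y z hgen
        xp := by have := congrArg Subtype.val hx; simpa using this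
        yp := by have := congrArg Subtype.val hy; simpa using this
        zp := by have := congrArg Subtype.val hz; simpa using this
        xz := by have := congrArg Subtype.val hxz; simpa using this
        yz := by have := congrArg Subtype.val hyz; simpa using this
        xy := by have := congrArg Subtype.val hxy; simpa using this }
    exact D.isNormal hp2 hS hF hnotE
  · -- `G(p,n;s)`
    have hs' : ¬ p ∣ s := by
      intro hdvd
      rcases hs with rfl | hs
      · exact hpp.one_lt.ne' (Nat.dvd_one.mp hdvd)
      · apply hs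
        have h0 : (s : ZMod p) = 0 := (ZMod.natCast_eq_zero_iff s p).mpr hdvd
        rw [h0]
        exact ⟨0, by simp⟩
    have D : Cfsg.Agent.Helper27.R2.GD p n s S (x : Ω) (y : Ω) (z : Ω) :=
      { hp5 := hp
        hn := h4
        hs := hs'
        card := hn
        gen := s5289_closure x y z hgen
        xp := by have := congrArg Subtype.val hx; simpa using this
        yp := by have := congrArg Subtype.val hy; simpa using this
        zp := by have := congrArg Subtype.val hz; simpa using this
        yz := by have := congrArg Subtype.val hyz; simpa using this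
        xy := by have := congrArg Subtype.val hxy; simpa using this
        xz := by have := congrArg Subtype.val hxz; simpa using this }
    exact D.isNormal hS hF
  · exact absurd h3' hp3

end Cfsg.Agent.S5289
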