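import Mathlib
import Cfsg.Statements.S5294
import Cfsg.Agent.Lib.Helper25.FusionNormal3
import Cfsg.Agent.Lib.Helper25.FusionSat4
import Cfsg.Agent.Lib.Helper26.TransferSplit

set_option autoImplicit false
universe u
open Cfsg

namespace Cfsg.Agent.S5294

open Cfsg.FusionSystem Cfsg.Agent.Helper25 Cfsg.Agent.Helper26
open scoped IsMulCommutative

variable {Ω : Type*} [Group Ω] {S : Subgroup Ω}

/-- for `Q` normal in the system every map extends over `Q`, inducing an automorphism of `Q` in the system -/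
theorem exists_ext_aut (F : FusionSystem S) {Q : Subgroup Ω} (hQ : F.IsNormal Q) {P : Subgroup Ω}
    {φ : P →* Ω} (hφ : φ ∈ F.Hom P) :
    ∃ ψ ∈ F.Hom (P ⊔ Q), (∀ x : P, ψ (Subgroup.inclusion le_sup_left x) = φ x) ∧
      ∃ α ∈ F.autGroup Q, ∀ x : Q, ((α x : Q) : Ω) = ψ (Subgroup.inclusion le_sup_right x) := by
  have hQS : Q ≤ S := hQ.1
  obtain ⟨ψ, hψ, hψφ, himg⟩ := hQ.2 _ φ hφ
  refine ⟨ψ, hψ, hψφ, ?_⟩
  set ψ' : Q →* Ω := ψ.comp (Subgroup.inclusion (le_sup_right : Q ≤ P ⊔ Q)) with hψ'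
  have hψ'F : ψ' ∈ F.Hom Q := restrict_mem F le_sup_right hψ
  have hψ'Q : ∀ x : Q, ψ' x ∈ Q := by
    intro x
    have : ψ' x ∈ (Q.subgroupOf (P ⊔ Q)).map ψ := by
      rw [mem_map_subgroupOf]
      exact ⟨x, le_sup_right (a := P) x.2, x.2, rfl⟩
    rwa [himg] at this
  have hbij : Function.Bijective (ψ'.codRestrict Q hψ'Q) := by
    constructor
    · intro x y hxy
      exact F.injective_of_mem hψ'F (congrArg Subtype.val hxy)
    · intro y
      have : (y : Ω) ∈ (Q.subgroupOf (P ⊔ Q)).map ψ := by rw [himg]; exact y.2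
      rw [mem_map_subgroupOf] at this
      obtain ⟨x, hxK, hxQ, hxy⟩ := this
      refine ⟨⟨x, hxQ⟩, Subtype.ext ?_⟩
      exact hxy
  set α : MulAut Q := MulEquiv.ofBijective (ψ'.codRestrict Q hψ'Q) hbij with hα
  refine ⟨α, ?_, fun x => rfl⟩
  rw [mem_autGroup_iff F hQS]
  have : Q.subtype.comp α.toMonoidHom = ψ' := by
    ext x; rfl
  rw [this]; exact hψ'F

/-- the action of `Aut(Q)` on the centre of `Q` -/
def centerHom (Q : Type*) [Group Q] : MulAut Q →* MulAut (Subgroup.center Q) where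
  toFun α := Subgroup.centerCongr α
  map_one' := by ext v; rfl
  map_mul' α β := by ext v; rfl

lemma centerHom_apply (Q : Type*) [Group Q] (α : MulAut Q) (v : Subgroup.center Q) :
    ((centerHom Q α v : Subgroup.center Q) : Q) = α (v : Q) := rfl

/-- a central subgroup of the system lies in the centre of `S` -/
lemma isCentral_le_center (F : FusionSystem S) {R : Subgroup Ω} (hR : F.IsCentral R) :
    R ≤ S ⊓ Subgroup.centralizer (S : Set Ω) := by
  intro x hx
  refine ⟨hR.1 hx, ?_⟩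
  show x ∈ Subgroup.centralizer (S : Set Ω)
  rw [Subgroup.mem_centralizer_iff]
  intro s hs
  obtain ⟨ψ, -, hψ1, hψ2⟩ := hR.2 S (conjHom S s) (F.conj_mem le_rfl hs)
  have h1 := hψ1 ⟨x, hR.1 hx⟩
  have h2 := hψ2 ⟨x, hx⟩
  have e : Subgroup.inclusion (le_sup_left : S ≤ S ⊔ R) ⟨x, hR.1 hx⟩
      = Subgroup.inclusion (le_sup_right : R ≤ S ⊔ R) ⟨x, hx⟩ := Subtype.ext rfl
  rw [e, h2, conjHom_apply] at h1
  -- `x = s x s⁻¹`
  have h3 : (x : Ω) = s * x * s⁻¹ := h1
  calc s * x = (s * x * s⁻¹) * s := by group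
    _ = x * s := by rw [← h3]

/-- Let F be a saturated fusion system over a finite p-group S whose centre Z(S) lies in the largest subgroup O_p(F) normal in F. Then the centre Z(F) of F is a direct factor of Z(S): there is a subgroup K of Z(S) with Z(F) ∩ K = 1 and Z(F)K = Z(S). -/
theorem result {Ω : Type u} [Group Ω] {S : Subgroup Ω} [Finite S] (p : ℕ) [Fact p.Prime] (hS : IsPGroup p S)
    (F : Cfsg.FusionSystem S) (hF : F.IsSaturated p) (hZ : (S ⊓ Subgroup.centralizer (S : Set Ω)) ≤ F.core) :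
    ∃ K : Subgroup Ω, K ≤ (S ⊓ Subgroup.centralizer (S : Set Ω)) ∧ F.center ⊓ K = ⊥ ∧ F.center ⊔ K = (S ⊓ Subgroup.centralizer (S : Set Ω)) := by
  classical
  have hp : p.Prime := Fact.out
  set Q := F.core with hQdef
  have hQN : F.IsNormal Q := isNormal_core F
  have hQS : Q ≤ S := hQN.1
  have hQsc : F.StronglyClosed Q := stronglyClosed_of_isNormal F hQN
  haveI : Finite Q := finite_of_le_finite hQS
  have hQp : IsPGroup p Q := hS.to_le hQS
  set ZS := S ⊓ Subgroup.centralizer (S : Set Ω) with hZS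
  have hZSmem : ∀ x, x ∈ ZS ↔ x ∈ S ∧ ∀ s ∈ S, s * x = x * s := by
    intro x
    rw [hZS, Subgroup.mem_inf, Subgroup.mem_centralizer_iff]
    exact Iff.rfl
  set A := F.autGroup Q with hA
  set ρ : A →* MulAut (Subgroup.center Q) := (centerHom Q).comp A.subtype with hρ
  have hρapply : ∀ (g : A) (v : Subgroup.center Q),
      (((ρ g v : Subgroup.center Q) : Q) : Ω) = (((g : MulAut Q) (v : Q) : Q) : Ω) := fun g v => rfl
  set H : Subgroup A := (autInducedBy S Q).subgroupOf A with hH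
  set ι : Subgroup.center Q →* Ω := Q.subtype.comp (Subgroup.center Q).subtype with hι
  have hιinj : Function.Injective ι := fun a b h => Subtype.ext (Subtype.ext h)
  haveI : Finite (MulAut Q) :=
    Finite.of_injective (fun α : MulAut Q => (α : Q → Q)) DFunLike.coe_injective
  letI : Fintype (A ⧸ H) := Fintype.ofFinite _
  -- `Q` is normalized by `S`
  have hSN : ∀ s ∈ S, s ∈ Subgroup.normalizer (Q : Set Ω) := by
    intro s hs
    rw [Subgroup.mem_set_normalizer_iff]
    intro h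
    constructor
    · intro hh; exact conj_mem_of_stronglyClosed F hQsc hs hh
    · intro hh
      have := conj_mem_of_stronglyClosed' F hQsc hs hh
      have e : s⁻¹ * (s * h * s⁻¹) * s = h := by group
      rwa [e] at this
  -- the index of `H` is prime to `p`
  have hfn : F.IsFullyNormalized Q := by
    refine ⟨hQS, fun R _ => ?_⟩
    have hNQ : normalizerIn S Q = S :=
      le_antisymm inf_le_left (fun s hs => ⟨hs, hSN s hs⟩)
    rw [hNQ]
    exact Subgroup.card_le_of_le normalizerIn_le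
  obtain ⟨-, hfa, -⟩ := of_fullyNormalized p hS F hF hfn
  obtain ⟨-, R, hR⟩ := hfa
  have hidx : ¬ p ∣ H.index := by
    rw [hH, ← hR]; exact R.not_dvd_index
  have hcop : (Fintype.card (A ⧸ H)).Coprime p := by
    rw [← Nat.card_eq_fintype_card, ← Subgroup.index_eq_card]
    exact ((Nat.Prime.coprime_iff_not_dvd hp).mpr hidx).symm
  -- exponent of the centre of `Q`
  have hVp : IsPGroup p (Subgroup.center Q) := hQp.to_subgroup _
  obtain ⟨e, he⟩ := hVp.exists_card_eq
  have hV : ∀ v : Subgroup.center Q, v ^ (p ^ e) = 1 := by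
    intro v
    rw [← he]; exact pow_card_eq_one'
  obtain ⟨K, hK1, hK2, hK3⟩ := exists_fixed_complement (G := A) (V := Subgroup.center Q) ρ H p e
    hp.ne_zero hcop (fun v => hV v)
  -- automorphism induced by an element of `S`
  have haut : ∀ s (hs : s ∈ S), ∃ g : A, g ∈ H ∧ ∀ x : Q, (((g : MulAut Q) x : Q) : Ω) = s * x * s⁻¹ := by
    intro s hs
    have h1 : Q.normalizerMonoidHom ⟨s, hSN s hs⟩ ∈ autInducedBy S Q :=
      (mem_autInducedBy_iff _).2 ⟨s, hs, fun x => rfl⟩
    exact ⟨⟨_, autInducedBy_le_autGroup F hQS h1⟩, Subgroup.mem_subgroupOf.mpr h1, fun x => rfl⟩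
  -- elements of `Z(S)` as elements of the centre of `Q`
  have hZQ : ∀ z (hz : z ∈ ZS), (⟨z, hZ hz⟩ : Q) ∈ Subgroup.center Q := by
    intro z hz
    rw [Subgroup.mem_center_iff]
    intro g
    apply Subtype.ext
    exact ((hZSmem z).1 hz).2 g (hQS g.2)
  -- fixed points of `H`
  have hfixH : (fixedBy ρ H).map ι = ZS := by
    ext z
    constructor
    · rintro ⟨v, hv, rfl⟩
      rw [hZSmem]
      refine ⟨hQS (v : Q).2, fun s hs => ?_⟩
      obtain ⟨g, hgH, hg⟩ := haut s hs
      have h1 := hv g hgH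
      have h2 : (((ρ g v : Subgroup.center Q) : Q) : Ω) = ((v : Q) : Ω) := by rw [h1]
      rw [hρapply, hg] at h2
      show s * ((v : Q) : Ω) = ((v : Q) : Ω) * s
      calc s * ((v : Q) : Ω) = (s * ((v : Q) : Ω) * s⁻¹) * s := by group
        _ = ((v : Q) : Ω) * s := by rw [h2]
    · intro hz
      refine ⟨⟨⟨z, hZ hz⟩, hZQ z hz⟩, ?_, rfl⟩
      intro g hg
      have hg' : (g : MulAut Q) ∈ autInducedBy S Q := Subgroup.mem_subgroupOf.mp hg
      obtain ⟨s, hs, hsg⟩ := (mem_autInducedBy_iff _).1 hg'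
      apply Subtype.ext
      apply Subtype.ext
      rw [hρapply, hsg]
      show s * z * s⁻¹ = z
      rw [((hZSmem z).1 hz).2 s hs]; group
  -- fixed points of the whole automizer
  have hfixG : (fixedBy ρ ⊤).map ι = F.center := by
    apply le_antisymm
    · -- the fixed points form a central subgroup
      have hle0 : (fixedBy ρ ⊤).map ι ≤ Q := by
        rintro _ ⟨v, -, rfl⟩; exact (v : Q).2
      apply le_sSup
      refine ⟨hle0.trans hQS, fun P φ hφ => ?_⟩
      obtain ⟨ψ, hψ, hψφ, α, hα, hαψ⟩ := exists_ext_aut F hQN hφ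
      have hle1 : P ⊔ (fixedBy ρ ⊤).map ι ≤ P ⊔ Q := sup_le_sup_left hle0 P
      refine ⟨ψ.comp (Subgroup.inclusion hle1), restrict_mem F hle1 hψ, fun x => ?_, ?_⟩
      · rw [← hψφ x]; rfl
      · rintro ⟨_, v, hv, rfl⟩
        have h1 := hv ⟨α, hα⟩ trivial
        have h2 : (((ρ ⟨α, hα⟩ v : Subgroup.center Q) : Q) : Ω) = ((v : Q) : Ω) := by rw [h1]
        rw [hρapply, hαψ] at h2
        exact h2
    · intro x hx
      have hcen : F.IsCentral F.center := isCentral_center F
      have hxZS : x ∈ ZS := isCentral_le_center F hcen hx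
      refine ⟨⟨⟨x, hZ hxZS⟩, hZQ x hxZS⟩, ?_, rfl⟩
      intro g _
      have hgF : Q.subtype.comp (g : MulAut Q).toMonoidHom ∈ F.Hom Q :=
        (mem_autGroup_iff F hQS _).1 g.2
      obtain ⟨ψ, -, hψ1, hψ2⟩ := hcen.2 Q _ hgF
      have h1 := hψ1 ⟨x, hZ hxZS⟩
      have h2 := hψ2 ⟨x, hx⟩
      have e : Subgroup.inclusion (le_sup_left : Q ≤ Q ⊔ F.center) ⟨x, hZ hxZS⟩
          = Subgroup.inclusion (le_sup_right : F.center ≤ Q ⊔ F.center) ⟨x, hx⟩ := Subtype.ext rfl
      rw [e, h2] at h1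
      apply Subtype.ext
      apply Subtype.ext
      rw [hρapply]
      exact h1.symm
  refine ⟨K.map ι, ?_, ?_, ?_⟩
  · rw [← hfixH]; exact Subgroup.map_mono hK1
  · rw [← hfixG, ← Subgroup.map_inf _ _ ι hιinj, hK2, Subgroup.map_bot]
  · rw [← hfixG, ← Subgroup.map_sup, hK3, hfixH]

end Cfsg.Agent.S5294
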