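import Mathlib
import Cfsg.Statements.S5297
import Cfsg.Agent.Lib.Helper3.HypCyclic2
import Cfsg.Agent.Lib.Helper25.FusionNormal2
import Cfsg.Agent.Lib.Helper25.FusionSat3
import Cfsg.Agent.Lib.Helper25.FusionAlperin
import Cfsg.Agent.Lib.Helper25.StronglyEmbedded

set_option autoImplicit false
set_option linter.style.haveILetI false
universe u
open Cfsg

namespace Cfsg.Agent.S5297

open Cfsg.FusionSystem Cfsg.Agent.Helper25 Cfsg.Agent.Helper3.SmallExp
  Cfsg.Agent.Helper3.HypCyclic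

variable {Ω : Type u} [Group Ω] {S : Subgroup Ω}

/-- under the hypothesis of the statement there are no essential subgroups -/
theorem no_essential [Finite S] (p : ℕ) [Fact p.Prime] (hS : IsPGroup p S)
    (F : Cfsg.FusionSystem S) (hF : F.IsSaturated p)
    (h : ∀ A B : Subgroup Ω, A ≤ (F.hyperfocalSubgroup p) → B ≤ (F.hyperfocalSubgroup p) →
      IsCyclic ↥A → (Nat.card ↥A = p ∨ Nat.card ↥A = 4) → IsCyclic ↥B →
      (Nat.card ↥B = p ∨ Nat.card ↥B = 4) → F.homSet A B ⊆ F.normalizerHom S A)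
    {P : Subgroup Ω} (hess : F.IsEssential p P) : False := by
  classical
  have hp : p.Prime := Fact.out
  obtain ⟨hcen, hfn, hnormal, E, hE⟩ := hess
  have hPS : P ≤ S := hfn.1
  haveI : Finite P := finite_of_le_finite hPS
  haveI : Finite (MulAut P) :=
    Finite.of_injective (fun α : MulAut P => (α : P → P)) DFunLike.coe_injective
  obtain ⟨-, hfa, -⟩ := of_fullyNormalized p hS F hF hfn
  obtain ⟨-, R, hR⟩ := hfa
  have hPp : IsPGroup p P := hS.to_le hPS
  set q := (if p = 2 then 4 else p) with hq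
  -- good subgroups
  let Good : Subgroup P → Prop := fun D =>
    (∀ g ∈ F.autGroup P, ∀ x ∈ D, g x ∈ D) ∧ (∀ x ∈ D, (x : Ω) ∈ F.hyperfocalSubgroup p) ∧
      ∀ x ∈ D, x ^ q = 1
  -- invariance of the traces of the upper central series
  have hinv : ∀ D, Good D → ∀ g ∈ F.autGroup P, ∀ i, ∀ x ∈ D, x ∈ ucsIn hPS i →
      g x ∈ ucsIn hPS i := by
    intro D hD g hg i x hxD hx
    exact aut_mem_ucsIn F p h hPS g hg x (hD.2.1 x hxD) (hD.2.1 _ (hD.1 g hg x hxD))
      (hD.2.2 x hxD) i hx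
  let Cond : MulAut P → Prop := fun a => a ∈ F.autGroup P ∧ ∀ D, Good D → ∀ i, ∀ x ∈ D,
    x ∈ ucsIn hPS (i + 1) → a x * x⁻¹ ∈ ucsIn hPS i
  have hC1 : Cond 1 := by
    refine ⟨Subgroup.one_mem _, fun D _ i x _ _ => ?_⟩
    rw [MulAut.one_apply, mul_inv_cancel]; exact Subgroup.one_mem _
  have hCmul : ∀ a b, Cond a → Cond b → Cond (a * b) := by
    intro a b ha hb
    refine ⟨Subgroup.mul_mem _ ha.1 hb.1, fun D hD i x hxD hx => ?_⟩
    have h1 := hb.2 D hD i x hxD hx
    have hbxD : b x ∈ D := hD.1 b hb.1 x hxD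
    have hbx : b x ∈ ucsIn hPS (i + 1) := by
      have : b x = (b x * x⁻¹) * x := by group
      rw [this]
      exact Subgroup.mul_mem _ (ucsIn_mono hPS i h1) hx
    have h2 := ha.2 D hD i (b x) hbxD hbx
    have e : (a * b) x * x⁻¹ = (a (b x) * (b x)⁻¹) * (b x * x⁻¹) := by
      rw [MulAut.mul_apply]; group
    rw [e]; exact Subgroup.mul_mem _ h2 h1
  have hCpow : ∀ a (k : ℕ), Cond a → Cond (a ^ k) := by
    intro a k ha
    induction k with
    | zero => simpa using hC1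
    | succ k ih => rw [pow_succ]; exact hCmul _ _ ih ha
  have hCinv : ∀ a, Cond a → Cond a⁻¹ := by
    intro a ha
    have h1 : a ^ (orderOf a - 1) * a = 1 := by
      rw [← pow_succ, Nat.sub_add_cancel (orderOf_pos a), pow_orderOf_eq_one]
    have h2 : a⁻¹ = a ^ (orderOf a - 1) := (eq_inv_of_mul_eq_one_left h1).symm
    rw [h2]; exact hCpow a _ ha
  let C : Subgroup (MulAut P) :=
    { carrier := {a | Cond a}
      one_mem' := hC1
      mul_mem' := fun ha hb => hCmul _ _ ha hb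
      inv_mem' := fun ha => hCinv _ ha }
  have hCA : C ≤ F.autGroup P := fun a ha => ha.1
  have hCconj : ∀ g ∈ F.autGroup P, ∀ c, Cond c → Cond (g * c * g⁻¹) := by
    intro g hgA c hc'
    have hgiA : g⁻¹ ∈ F.autGroup P := Subgroup.inv_mem _ hgA
    refine ⟨Subgroup.mul_mem _ (Subgroup.mul_mem _ hgA hc'.1) hgiA, fun D hD i x hxD hx => ?_⟩
    have hyD : g⁻¹ x ∈ D := hD.1 _ hgiA x hxD
    have hy : g⁻¹ x ∈ ucsIn hPS (i + 1) := hinv D hD _ hgiA _ x hxD hx
    have h1 := hc'.2 D hD i _ hyD hy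
    have hwD : c (g⁻¹ x) * (g⁻¹ x)⁻¹ ∈ D :=
      D.mul_mem (hD.1 c hc'.1 _ hyD) (D.inv_mem hyD)
    have h2 := hinv D hD g hgA i _ hwD h1
    have e : (g * c * g⁻¹) x * x⁻¹ = g (c (g⁻¹ x) * (g⁻¹ x)⁻¹) := by
      rw [MulAut.mul_apply, MulAut.mul_apply, map_mul, map_inv, MulAut.apply_inv_self]
    rw [e]; exact h2
  have hCnormal : (C.subgroupOf (F.autGroup P)).Normal := by
    constructor
    rintro ⟨c, hcA⟩ hc ⟨g, hgA⟩
    have hc' : Cond c := Subgroup.mem_subgroupOf.mp hc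
    apply Subgroup.mem_subgroupOf.mpr
    exact hCconj g hgA c hc'
  -- elements of `C` of order prime to `p` are trivial
  have hCp' : ∀ b, Cond b → ∀ m : ℕ, m.Coprime p → b ^ m = 1 → b = 1 := by
    intro b₁ hb₁ m₁ hm₁ hbm₁
    by_contra hb1
    let 𝒥 : Set (MulAut P) := {b | Cond b ∧ ∃ m : ℕ, m.Coprime p ∧ b ^ m = 1}
    have h𝒥𝒢 : 𝒥 ⊆ (F.autGroup P : Set (MulAut P)) := fun b hb => hb.1.1
    have hcop : ∀ b ∈ 𝒥, ∃ m : ℕ, m.Coprime p ∧ b ^ m = 1 := fun b hb => hb.2
    have hconj : ∀ g ∈ F.autGroup P, ∀ b ∈ 𝒥, g * b * g⁻¹ ∈ 𝒥 := by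
      rintro g hg b ⟨hbC, m, hm, hbm⟩
      refine ⟨hCconj g hg b hbC, m, hm, ?_⟩
      rw [conj_pow, hbm, mul_one, mul_inv_cancel]
    have hne : ∃ b ∈ 𝒥, b ≠ 1 := ⟨b₁, ⟨hb₁, m₁, hm₁, hbm₁⟩, hb1⟩
    obtain ⟨D, hDinv, ⟨b, hb𝒥, x₀, hx₀D, hx₀⟩, hDcomm, hDexp⟩ :=
      exists_small_exp_sub_family p hPp (F.autGroup P) 𝒥 h𝒥𝒢 hcop hconj hne
    have hDhyp : ∀ d ∈ D, (d : Ω) ∈ F.hyperfocalSubgroup p := by
      intro d hd
      have key : ∀ y ∈ commSubSet 𝒥, (y : Ω) ∈ F.hyperfocalSubgroup p := by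
        intro y hy
        induction hy using Subgroup.closure_induction with
        | mem y hy =>
          obtain ⟨b', hb', x, rfl⟩ := hy
          obtain ⟨m', hm', hbm'⟩ := hb'.2
          exact commSub_le_hyperfocal F hPS b' hb'.1.1 hbm' hm' _
            (Subgroup.subset_closure ⟨x, rfl⟩)
        | one => exact Subgroup.one_mem _
        | mul a c _ _ ha hc => rw [Subgroup.coe_mul]; exact Subgroup.mul_mem _ ha hc
        | inv a _ ha => rw [Subgroup.coe_inv]; exact Subgroup.inv_mem _ ha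
      exact key d (hDcomm hd)
    have hGood : Good D := ⟨hDinv, hDhyp, hDexp⟩
    obtain ⟨n, hn⟩ := exists_ucsIn_eq_top hS hPS
    obtain ⟨hbC, m, hm, hbm⟩ := hb𝒥
    apply hx₀
    exact fixes_of_chain hPp b hbm hm D (hDinv b hbC.1) (ucsIn hPS) (ucsIn_zero hPS) hn
      (fun i x hxD hx => hbC.2 D hGood i x hxD hx) x₀ hx₀D
  -- `C` is a `p`-group
  have hCp : IsPGroup p C := by
    rintro ⟨c, hc⟩
    have hc' : Cond c := hc
    obtain ⟨m, r, hr, hmr⟩ := Nat.exists_eq_pow_mul_and_not_dvd (orderOf_pos c).ne' p hp.ne_one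
    have hβC : Cond (c ^ p ^ m) := hCpow c _ hc'
    have hβr : (c ^ p ^ m) ^ r = 1 := by
      rw [← pow_mul, ← hmr]; exact pow_orderOf_eq_one c
    have hrp : r.Coprime p := ((Nat.Prime.coprime_iff_not_dvd hp).mpr hr).symm
    have := hCp' _ hβC r hrp hβr
    exact ⟨m, Subtype.ext this⟩
  -- the image of `C` in the outer automorphism group is trivial
  haveI := hnormal
  have hC' : IsPGroup p (C.subgroupOf (F.autGroup P)) :=
    hCp.comap_of_injective (F.autGroup P).subtype (F.autGroup P).subtype_injective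
  have hmapN : ((C.subgroupOf (F.autGroup P)).map
      (QuotientGroup.mk' ((Inn P).subgroupOf (F.autGroup P)))).Normal :=
    Subgroup.Normal.map hCnormal _ (QuotientGroup.mk'_surjective _)
  have hmapP : IsPGroup p ((C.subgroupOf (F.autGroup P)).map
      (QuotientGroup.mk' ((Inn P).subgroupOf (F.autGroup P)))) := hC'.map _
  have hbot := eq_bot_of_normal_of_isStronglyPEmbedded p hE hmapP
  have hCInn : C ≤ Inn P := by
    intro c hc
    have hcA := hCA hc
    have h1 : QuotientGroup.mk' ((Inn P).subgroupOf (F.autGroup P)) ⟨c, hcA⟩ ∈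
        (C.subgroupOf (F.autGroup P)).map (QuotientGroup.mk' ((Inn P).subgroupOf (F.autGroup P))) :=
      ⟨⟨c, hcA⟩, Subgroup.mem_subgroupOf.mpr hc, rfl⟩
    rw [hbot, Subgroup.mem_bot, QuotientGroup.mk'_apply, QuotientGroup.eq_one_iff] at h1
    exact Subgroup.mem_subgroupOf.mp h1
  -- `Aut_S(P)` lies in `C`
  have hRC : autInducedBy S P ≤ C := by
    intro a ha
    obtain ⟨s, hs, hsa⟩ := (mem_autInducedBy_iff a).mp ha
    refine ⟨autInducedBy_le_autGroup F hPS ha, fun D _ i x _ hx => ?_⟩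
    exact conj_mul_inv_mem_ucsIn hPS i hs x (a x) (hsa x) hx
  -- contradiction with the order of the outer automorphism group
  have hReq : (R : Subgroup (F.autGroup P)) = (Inn P).subgroupOf (F.autGroup P) := by
    rw [hR]
    apply le_antisymm
    · intro a ha
      exact Subgroup.mem_subgroupOf.mpr (hCInn (hRC (Subgroup.mem_subgroupOf.mp ha)))
    · intro a ha
      exact Subgroup.mem_subgroupOf.mpr (inn_le_autInducedBy hPS (Subgroup.mem_subgroupOf.mp ha))
  have hdiv : p ∣ Nat.card (F.autGroup P ⧸ (Inn P).subgroupOf (F.autGroup P)) := hE.1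
  rw [← Subgroup.index_eq_card, ← hReq] at hdiv
  exact R.not_dvd_index hdiv

/-- Let F be a saturated fusion system over a finite p-group S. If every map of F between cyclic subgroups of the hyperfocal subgroup of F of order p or 4 is a map of the normalizer system of S (it extends to a map of F defined on all of S), then S is normal in F. -/
theorem result {Ω : Type u} [Group Ω] {S : Subgroup Ω} [Finite S] (p : ℕ) [Fact p.Prime] (hS : IsPGroup p S)
    (F : Cfsg.FusionSystem S) (hF : F.IsSaturated p)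
    (h : ∀ A B : Subgroup Ω, A ≤ (F.hyperfocalSubgroup p) → B ≤ (F.hyperfocalSubgroup p) → IsCyclic ↥A → (Nat.card ↥A = p ∨ Nat.card ↥A = 4) → IsCyclic ↥B → (Nat.card ↥B = p ∨ Nat.card ↥B = 4) →
      F.homSet A B ⊆ F.normalizerHom S A) :
    F.IsNormal S := by
  apply isNormal_of_forall_essential p hS F hF S
  rintro P (rfl | hess)
  · refine ⟨le_rfl, fun α _ => ?_⟩
    have h1 : P.subgroupOf P = ⊤ := Subgroup.subgroupOf_self P
    rw [h1]
    exact Subgroup.map_top_of_surjective _ α.surjective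
  · exact (no_essential p hS F hF h hess).elim

end Cfsg.Agent.S5297
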