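import Mathlib
import Cfsg.Statements.S5298
import Cfsg.Agent.Lib.Helper3.HypCyclic

set_option autoImplicit false
universe u
open Cfsg

namespace Cfsg.Agent.S5298

open Cfsg.FusionSystem Cfsg.Agent.Helper25 Cfsg.Agent.Helper3.KL Cfsg.Agent.Helper3.SmallExp
  Cfsg.Agent.Helper3.HypCyclic

/-- Let F be a saturated fusion system over a finite p-group S. If every map of F between cyclic subgroups of the hyperfocal subgroup of F of order p or 4 is conjugation by an element of S, then F is the inner fusion system of S. -/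
theorem result {Ω : Type u} [Group Ω] {S : Subgroup Ω} [Finite S] (p : ℕ) [Fact p.Prime] (hS : IsPGroup p S)
    (F : Cfsg.FusionSystem S) (hF : F.IsSaturated p)
    (h : ∀ A B : Subgroup Ω, A ≤ (F.hyperfocalSubgroup p) → B ≤ (F.hyperfocalSubgroup p) → IsCyclic ↥A → (Nat.card ↥A = p ∨ Nat.card ↥A = 4) → IsCyclic ↥B → (Nat.card ↥B = p ∨ Nat.card ↥B = 4) →
      F.homSet A B ⊆ (Cfsg.innerFusionSystem S).Hom A) :
    ∀ P : Subgroup Ω, F.Hom P = (Cfsg.innerFusionSystem S).Hom P := by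
  have hpp : p.Prime := Fact.out
  rw [← isInner_iff]
  apply isInner_of_forall_pow p hS F hF
  intro P hP α hα
  have : Finite P := finite_of_le_finite hP
  have hPp : IsPGroup p P := hS.to_le hP
  -- split the order of α
  have hαpos : 0 < orderOf α := orderOf_pos α
  obtain ⟨k, m, hmp, hkm⟩ := Nat.exists_eq_pow_mul_and_not_dvd hαpos.ne' p hpp.ne_one
  refine ⟨k, ?_⟩
  set γ := α ^ p ^ k with hγdef
  have hγm : γ ^ m = 1 := by
    rw [hγdef, ← pow_mul, ← hkm]; exact pow_orderOf_eq_one α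
  have hm : m.Coprime p := (Nat.Prime.coprime_iff_not_dvd hpp).mpr hmp |>.symm
  by_contra hγ1
  have hαmem : α ∈ F.autGroup P := (mem_autGroup_iff F hP α).mpr hα
  have hγmem : γ ∈ F.autGroup P := Subgroup.pow_mem _ hαmem _
  have hγF : P.subtype.comp γ.toMonoidHom ∈ F.Hom P := (mem_autGroup_iff F hP γ).mp hγmem
  obtain ⟨D, hDinv, ⟨x₀, hx₀D, hx₀⟩, hDcomm, hDexp⟩ :=
    exists_small_exp_sub p hPp γ hγm hm hγ1
  have hDhyp : ∀ d ∈ D, (d : Ω) ∈ F.hyperfocalSubgroup p := fun d hd =>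
    commSub_le_hyperfocal F hP γ hγmem hγm hm d (hDcomm hd)
  apply hx₀
  refine fixes_of_conj hS hP γ hγm hm D hDinv ?_ x₀ hx₀D
  intro x hxD
  by_cases hx1 : x = 1
  · refine ⟨1, S.one_mem, ?_⟩
    rw [hx1, map_one]; simp
  have hxΩ1 : (x : Ω) ≠ 1 := fun h => hx1 (Subtype.ext h)
  have hγx1 : ((γ x : P) : Ω) ≠ 1 := by
    intro h
    apply hx1
    have : γ x = 1 := Subtype.ext h
    exact (MulEquiv.map_eq_one_iff γ).mp this
  have hxq : (x : Ω) ^ (if p = 2 then 4 else p) = 1 := by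
    have := hDexp x hxD
    exact_mod_cast congrArg Subtype.val this
  have hγxq : ((γ x : P) : Ω) ^ (if p = 2 then 4 else p) = 1 := by
    have := hDexp (γ x) (hDinv x hxD)
    exact_mod_cast congrArg Subtype.val this
  obtain ⟨φ, hφ, hφx⟩ := restrict_zpowers_mem F γ hγF x
  have hA : Subgroup.zpowers (x : Ω) ≤ F.hyperfocalSubgroup p := by
    rw [Subgroup.zpowers_le]; exact hDhyp x hxD
  have hB : Subgroup.zpowers ((γ x : P) : Ω) ≤ F.hyperfocalSubgroup p := by
    rw [Subgroup.zpowers_le]; exact hDhyp _ (hDinv x hxD)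
  have hin := h _ _ hA hB inferInstance (card_zpowers_of_pow hxΩ1 hxq) inferInstance
    (card_zpowers_of_pow hγx1 hγxq) hφ
  obtain ⟨-, g, hg, hgφ⟩ := hin
  refine ⟨g, hg, ?_⟩
  rw [← hφx, hgφ]

end Cfsg.Agent.S5298
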