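import Mathlib
import Cfsg.Statements.S5299

set_option autoImplicit false
universe u v w
open Cfsg
open scoped Pointwise

namespace Cfsg.Agent.S5299

/-- `H` is a homomorphic image of a subgroup of `G`. -/
def Inv' (H : Type u) [Group H] (G : Type v) [Group G] : Prop :=
  ∃ (K : Subgroup G) (φ : K →* H), Function.Surjective φ

lemma inv'_of_involves {H : Type u} [Group H] {G : Type v} [Group G] (h : Cfsg.Involves H G) :
    Inv' H G := by
  obtain ⟨K, R, hn, ⟨e⟩⟩ := h
  exact ⟨K, e.toMonoidHom.comp (QuotientGroup.mk' _),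
    e.surjective.comp (QuotientGroup.mk'_surjective _)⟩

lemma involves_of_inv' {H : Type u} [Group H] {G : Type v} [Group G] (h : Inv' H G) :
    Cfsg.Involves H G := by
  obtain ⟨K, φ, hφ⟩ := h
  have hker : (φ.ker.map K.subtype).subgroupOf K = φ.ker :=
    Subgroup.comap_map_eq_self_of_injective K.subtype_injective _
  have hn : ((φ.ker.map K.subtype).subgroupOf K).Normal := by rw [hker]; infer_instance
  refine ⟨K, φ.ker.map K.subtype, hn, ⟨?_⟩⟩
  exact (QuotientGroup.quotientMulEquivOfEq hker).trans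
    (QuotientGroup.quotientKerEquivOfSurjective φ hφ)

lemma inv'_of_surjective {H : Type u} [Group H] {G : Type v} [Group G] (φ : G →* H)
    (hφ : Function.Surjective φ) : Inv' H G :=
  ⟨⊤, φ.comp (⊤ : Subgroup G).subtype, fun y => by
    obtain ⟨x, rfl⟩ := hφ y
    exact ⟨⟨x, Subgroup.mem_top x⟩, rfl⟩⟩

lemma inv'_of_injective {H : Type u} [Group H] {A : Type v} [Group A] {B : Type w} [Group B]
    (f : A →* B) (hf : Function.Injective f) (h : Inv' H A) : Inv' H B := by
  obtain ⟨K, φ, hφ⟩ := h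
  let e : K ≃* K.map f := K.equivMapOfInjective f hf
  exact ⟨K.map f, φ.comp e.symm.toMonoidHom, hφ.comp e.symm.surjective⟩

/-- pull back along a surjection -/
lemma inv'_of_surj_of_inv' {A : Type u} [Group A] {B : Type v} [Group B] {G : Type w} [Group G]
    (φ : G →* B) (hφ : Function.Surjective φ) (h : Inv' A B) : Inv' A G := by
  obtain ⟨K, ψ, hψ⟩ := h
  refine ⟨K.comap φ, ψ.comp ((φ.comp (K.comap φ).subtype).codRestrict K (fun x => x.2)), ?_⟩
  intro a
  obtain ⟨k, rfl⟩ := hψ a
  obtain ⟨g, hg⟩ := hφ k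
  refine ⟨⟨g, ?_⟩, ?_⟩
  · rw [Subgroup.mem_comap, hg]; exact k.2
  · simp only [MonoidHom.coe_comp, Function.comp_apply]
    congr 1
    exact Subtype.ext hg

lemma inv'_trans {A : Type u} [Group A] {B : Type v} [Group B] {C : Type w} [Group C]
    (h1 : Inv' A B) (h2 : Inv' B C) : Inv' A C := by
  obtain ⟨K, φ, hφ⟩ := h2
  have : Inv' A K := inv'_of_surj_of_inv' φ hφ h1
  exact inv'_of_injective K.subtype K.subtype_injective this

/-- a `p`-group involved in a finite group is involved in any Sylow `p`-subgroup -/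
lemma inv'_sylow {H : Type u} [Group H] {G : Type v} [Group G] [Finite G] (p : ℕ) [Fact p.Prime]
    (hH : IsPGroup p H) (h : Inv' H G) (P : Sylow p G) : Inv' H (P : Subgroup G) := by
  obtain ⟨K, φ, hφ⟩ := h
  -- Sylow of K
  obtain ⟨P₁⟩ : Nonempty (Sylow p K) := inferInstance
  have hP₁top : (P₁ : Subgroup K).map φ = ⊤ := by
    have hs : IsPGroup p (⊤ : Subgroup H) := hH.to_subgroup ⊤
    have := (P₁.mapSurjective hφ).is_maximal' hs le_top
    rw [this]; rfl
  -- surjection P₁ → H
  have hsurj : Function.Surjective (φ.comp (P₁ : Subgroup K).subtype) := by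
    intro y
    have : y ∈ (P₁ : Subgroup K).map φ := by rw [hP₁top]; trivial
    obtain ⟨x, hx, rfl⟩ := this
    exact ⟨⟨x, hx⟩, rfl⟩
  have hI : Inv' H (P₁ : Subgroup K) := inv'_of_surjective _ hsurj
  -- embed P₁ into P
  have hp : IsPGroup p ((P₁ : Subgroup K).map K.subtype) := P₁.isPGroup'.map K.subtype
  obtain ⟨P₂, hP₂⟩ := hp.exists_le_sylow
  obtain ⟨g, hg⟩ := MulAction.exists_smul_eq G P₂ P
  have hmem : ∀ x : (P₁ : Subgroup K), g * ((x : K) : G) * g⁻¹ ∈ (P : Subgroup G) := by
    intro x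
    have hx : ((x : K) : G) ∈ (P₂ : Subgroup G) := hP₂ ⟨x, x.2, rfl⟩
    rw [← hg, Sylow.coe_subgroup_smul, Subgroup.mem_pointwise_smul_iff_inv_smul_mem]
    simpa [MulAut.smul_def, mul_assoc] using hx
  let j : (P₁ : Subgroup K) →* (P : Subgroup G) :=
    (((MulAut.conj g).toMonoidHom.comp K.subtype).comp (P₁ : Subgroup K).subtype).codRestrict
      (P : Subgroup G) hmem
  have hj : Function.Injective j := by
    intro a b hab
    have h1 : g * ((a : K) : G) * g⁻¹ = g * ((b : K) : G) * g⁻¹ := congrArg Subtype.val hab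
    have h2 : ((a : K) : G) = ((b : K) : G) := mul_left_cancel (mul_right_cancel h1)
    exact Subtype.ext (Subtype.ext h2)
  exact inv'_of_injective j hj hI

/-- Let F be a saturated fusion system over a finite p-group S, H a finite group and Q a p-subgroup of H. If Q is not involved in S (no section of S is isomorphic to Q), then F is H-free: H is involved in no model of the normalizer system of a fully normalized centric subgroup. -/
theorem result {Ω : Type u} [Group Ω] {S : Subgroup Ω} [Finite S] (p : ℕ) [Fact p.Prime] (hS : IsPGroup p S)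
    (F : Cfsg.FusionSystem S) (hF : F.IsSaturated p) (H : Type*) [Group H] [Finite H] (Q : Subgroup H) (hQ : IsPGroup p Q)
    (hfree : ¬ Cfsg.Involves (↥Q) (↥S)) : F.IsSectionFree p H := by
  intro Q' _ _ N _ L _ ι hmodel hinv
  obtain ⟨hfin, ⟨hinj, -⟩, ⟨T, hT⟩, -⟩ := hmodel
  apply hfree
  apply involves_of_inv'
  have h1 : Inv' H L := inv'_of_involves hinv
  have h0 : Inv' Q H := ⟨Q, MonoidHom.id Q, Function.surjective_id⟩
  have h2 : Inv' Q L := inv'_trans h0 h1
  have h3 : Inv' Q (T : Subgroup L) := inv'_sylow p hQ h2 T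
  -- T ≃ range ι ≃ N_S(Q') ↪ S
  let e1 : (T : Subgroup L) ≃* ι.range := MulEquiv.subgroupCongr hT
  let e2 : ↥(Cfsg.FusionSystem.normalizerIn S Q') ≃* ι.range := MonoidHom.ofInjective hinj
  have hle : Cfsg.FusionSystem.normalizerIn S Q' ≤ S := inf_le_left
  let j : (T : Subgroup L) →* S :=
    (Subgroup.inclusion hle).comp (e2.symm.toMonoidHom.comp e1.toMonoidHom)
  have hj : Function.Injective j :=
    (Subgroup.inclusion_injective hle).comp (e2.symm.injective.comp e1.injective)
  exact inv'_of_injective j hj h3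

end Cfsg.Agent.S5299
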