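import Mathlib
import Cfsg.Statements.S5300
import Cfsg.Agent.Lib.Helper26.OmegaAut
import Cfsg.Agent.Lib.Helper25.FusionNormal2
import Cfsg.Agent.Lib.Helper25.FusionSat3
import Cfsg.Agent.Lib.Helper25.FusionAlperin
import Cfsg.Agent.Lib.Helper25.StabChain
import Cfsg.Agent.Lib.Helper19.PGroupBasic

set_option autoImplicit false
universe u
open Cfsg

namespace Cfsg.Agent.S5300

open Cfsg.FusionSystem Cfsg.Agent.Helper25 Cfsg.Agent.Helper26

/-- an automorphism fixing `x` has all its powers fixing `x` -/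
lemma pow_apply_eq {P : Type*} [Group P] (γ : MulAut P) (x : P) (h : γ x = x) (j : ℕ) :
    (γ ^ j) x = x := by
  induction j with
  | zero => rfl
  | succ j ih => rw [pow_succ, MulAut.mul_apply, h, ih]

/-- an automorphism of odd order normalizing a cyclic group of order dividing `4` and fixing its
involutions centralizes it -/
lemma fixes_of_zpowers {P : Type*} [Group P] (β : MulAut P) (hodd : Odd (orderOf β)) (x : P)
    (hx4 : x ^ 4 = 1) (h2 : x ^ 2 = 1 → β x = x) (hz : β x ∈ Subgroup.zpowers x) : β x = x := by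
  obtain ⟨k, hk⟩ := Subgroup.mem_zpowers_iff.mp hz
  have hk' : x ^ k = x ^ (k % 4) := by
    conv_lhs => rw [← Int.emod_add_mul_ediv k 4]
    rw [zpow_add, zpow_mul]
    have : x ^ (4 : ℤ) = 1 := by
      have := hx4
      exact_mod_cast this
    rw [this, one_zpow, mul_one]
  have hk4 : 0 ≤ k % 4 ∧ k % 4 < 4 := ⟨Int.emod_nonneg _ (by norm_num), Int.emod_lt_of_pos _ (by norm_num)⟩
  obtain ⟨n, hn⟩ := Int.eq_ofNat_of_zero_le hk4.1
  have hn4 : n < 4 := by omega
  rw [hk', hn, zpow_natCast] at hk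
  interval_cases n
  · -- `β x = 1`
    rw [pow_zero] at hk
    have : x = 1 := by
      apply β.injective
      rw [map_one, ← hk]
    rw [this, map_one]
  · rw [pow_one] at hk
    exact hk.symm
  · -- `β x = x ^ 2`
    apply h2
    apply β.injective
    rw [map_pow, map_one, ← hk, ← pow_mul]
    exact hx4
  · -- `β x = x ^ 3`
    have hbb : (β * β) x = x := by
      rw [MulAut.mul_apply, ← hk, map_pow, ← hk, ← pow_mul]
      have : x ^ (3 * 3) = (x ^ 4) ^ 2 * x := by
        rw [← pow_mul, ← pow_succ]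
      rw [this, hx4, one_pow, one_mul]
    obtain ⟨m, hm⟩ := hodd
    have h1 := pow_apply_eq (β * β) x hbb (m + 1)
    have h3 : (β * β) ^ (m + 1) = β := by
      rw [← pow_two, ← pow_mul]
      have : 2 * (m + 1) = orderOf β + 1 := by omega
      rw [this, pow_succ, pow_orderOf_eq_one, one_mul]
    rw [h3] at h1
    exact h1

variable {Ω : Type u} [Group Ω] {S : Subgroup Ω}

/-- under the hypothesis of the statement there are no essential subgroups -/
theorem no_essential [Finite S] (p : ℕ) [Fact p.Prime] (hS : IsPGroup p S)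
    (F : Cfsg.FusionSystem S) (hF : F.IsSaturated p)
    (hnorm : ∀ x ∈ F.focalSubgroup, (x ^ p = 1 ∨ (p = 2 ∧ x ^ 4 = 1)) →
      ∀ s ∈ S, s * x * s⁻¹ ∈ Subgroup.zpowers x)
    {P : Subgroup Ω} (hess : F.IsEssential p P) : False := by
  classical
  have hp : p.Prime := Fact.out
  obtain ⟨hcen, hfn, hnormal, E, hE⟩ := hess
  have hPS : P ≤ S := hfn.1
  haveI : Finite P := finite_of_le_finite hPS
  haveI : Finite (MulAut P) :=
    Finite.of_injective (fun α : MulAut P => (α : P → P)) DFunLike.coe_injective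
  obtain ⟨-, hfa, -⟩ := of_fullyNormalized p hS F hF hfn
  obtain ⟨-, R, hR⟩ := hfa
  have hPp : IsPGroup p P := hS.to_le hPS
  obtain ⟨n, hn⟩ := hPp.exists_card_eq
  -- the focal part of `P`
  let H : Subgroup P := (F.focalSubgroup).subgroupOf P
  have hfoc : ∀ a ∈ F.autGroup P, ∀ x : P, x⁻¹ * a x ∈ H := by
    intro a ha x
    show ((x⁻¹ * a x : P) : Ω) ∈ F.focalSubgroup
    apply Subgroup.subset_closure
    exact ⟨P, P.subtype.comp a.toMonoidHom, x, (mem_autGroup_iff F hPS a).mp ha, rfl⟩
  have hHinv : ∀ a ∈ F.autGroup P, ∀ x ∈ H, a x ∈ H := by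
    intro a ha x hx
    have : a x = x * (x⁻¹ * a x) := by group
    rw [this]; exact H.mul_mem hx (hfoc a ha x)
  -- the automorphisms normalizing the small cyclic subgroups of the focal part
  let Cond : MulAut P → Prop := fun a => a ∈ F.autGroup P ∧ ∀ x ∈ H,
    (x ^ p = 1 → a x = x) ∧ (p = 2 → x ^ 4 = 1 → a x ∈ Subgroup.zpowers x)
  have hC1 : Cond 1 := ⟨Subgroup.one_mem _, fun x _ => ⟨fun _ => rfl, fun _ _ => Subgroup.mem_zpowers x⟩⟩
  have hCmul : ∀ a b, Cond a → Cond b → Cond (a * b) := by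
    intro a b ha hb
    refine ⟨Subgroup.mul_mem _ ha.1 hb.1, fun x hx => ⟨fun hxp => ?_, fun h2 hx4 => ?_⟩⟩
    · rw [MulAut.mul_apply, (hb.2 x hx).1 hxp, (ha.2 x hx).1 hxp]
    · obtain ⟨j, hj⟩ := Subgroup.mem_zpowers_iff.mp ((hb.2 x hx).2 h2 hx4)
      rw [MulAut.mul_apply, ← hj, map_zpow]
      exact Subgroup.zpow_mem _ ((ha.2 x hx).2 h2 hx4) j
  have hCpow : ∀ a (k : ℕ), Cond a → Cond (a ^ k) := by
    intro a k ha
    induction k with
    | zero => simpa using hC1
    | succ k ih => rw [pow_succ]; exact hCmul _ _ ih ha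
  have hCinv : ∀ a, Cond a → Cond a⁻¹ := by
    intro a ha
    have h1 : a ^ (orderOf a - 1) * a = 1 := by
      rw [← pow_succ, Nat.sub_add_cancel (orderOf_pos a), pow_orderOf_eq_one]
    have h2 : a⁻¹ = a ^ (orderOf a - 1) := (eq_inv_of_mul_eq_one_left h1).symm
    rw [h2]; exact hCpow a _ ha
  let C : Subgroup (MulAut P) :=
    { carrier := {a | Cond a}
      one_mem' := hC1
      mul_mem' := fun ha hb => hCmul _ _ ha hb
      inv_mem' := fun ha => hCinv _ ha }
  have hCA : C ≤ F.autGroup P := fun a ha => ha.1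
  have hCnormal : (C.subgroupOf (F.autGroup P)).Normal := by
    constructor
    rintro ⟨c, hcA⟩ hc ⟨g, hgA⟩
    have hc' : Cond c := Subgroup.mem_subgroupOf.mp hc
    apply Subgroup.mem_subgroupOf.mpr
    show Cond (g * c * g⁻¹)
    refine ⟨Subgroup.mul_mem _ (Subgroup.mul_mem _ hgA hcA) (Subgroup.inv_mem _ hgA),
      fun x hx => ⟨fun hxp => ?_, fun h2 hx4 => ?_⟩⟩
    · have hy : g⁻¹ x ∈ H := hHinv g⁻¹ (Subgroup.inv_mem _ hgA) x hx
      have hyp : (g⁻¹ x) ^ p = 1 := by rw [← map_pow, hxp, map_one]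
      rw [MulAut.mul_apply, MulAut.mul_apply, (hc'.2 _ hy).1 hyp, MulAut.apply_inv_self]
    · have hy : g⁻¹ x ∈ H := hHinv g⁻¹ (Subgroup.inv_mem _ hgA) x hx
      have hy4 : (g⁻¹ x) ^ 4 = 1 := by rw [← map_pow, hx4, map_one]
      obtain ⟨j, hj⟩ := Subgroup.mem_zpowers_iff.mp ((hc'.2 _ hy).2 h2 hy4)
      rw [MulAut.mul_apply, MulAut.mul_apply, ← hj, map_zpow, MulAut.apply_inv_self]
      exact Subgroup.zpow_mem _ (Subgroup.mem_zpowers x) j
  -- `C` is a `p`-group
  have hCp : IsPGroup p C := by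
    rintro ⟨c, hc⟩
    have hc' : Cond c := hc
    obtain ⟨m, r, hr, hmr⟩ := Nat.exists_eq_pow_mul_and_not_dvd (orderOf_pos c).ne' p hp.ne_one
    have hβC : Cond (c ^ p ^ m) := hCpow c _ hc'
    have hβord : (orderOf (c ^ p ^ m)).Coprime p := by
      have h2 : orderOf (c ^ p ^ m) ∣ r := by
        apply orderOf_dvd_of_pow_eq_one
        rw [← pow_mul, ← hmr]
        exact pow_orderOf_eq_one c
      exact Nat.Coprime.coprime_dvd_left h2 ((Nat.Prime.coprime_iff_not_dvd hp).mpr hr).symm
    have hβΩ : ∀ x ∈ H, (x ^ p = 1 ∨ (p = 2 ∧ x ^ 4 = 1)) → (c ^ p ^ m) x = x := by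
      intro x hx hcase
      rcases hcase with h1 | ⟨h2, h4⟩
      · exact (hβC.2 x hx).1 h1
      · have hodd : Odd (orderOf (c ^ p ^ m)) := by
          have h3 : (orderOf (c ^ p ^ m)).Coprime 2 := h2 ▸ hβord
          exact Nat.Coprime.odd_of_right h3
        exact fixes_of_zpowers _ hodd x h4 (fun hx2 => (hβC.2 x hx).1 (by rw [h2]; exact hx2))
          ((hβC.2 x hx).2 h2 h4)
    have hβH := fixes_of_omega hPp H (c ^ p ^ m) hβord (hHinv _ hβC.1) hβΩ
    have hfix := pow_fixes_of_stabilizes (U := H) (V := ⊤) (β := c ^ p ^ m) hβH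
      (fun x _ => hfoc _ hβC.1 x) (N := p ^ n) (fun u _ => by rw [← hn]; exact pow_card_eq_one')
    refine ⟨m + n, Subtype.ext ?_⟩
    show c ^ p ^ (m + n) = 1
    ext x
    rw [pow_add, pow_mul]
    exact congrArg Subtype.val (hfix x trivial)
  -- the image of `C` in the outer automorphism group is trivial
  haveI := hnormal
  have hC' : IsPGroup p (C.subgroupOf (F.autGroup P)) :=
    hCp.comap_of_injective (F.autGroup P).subtype (F.autGroup P).subtype_injective
  have hmapN : ((C.subgroupOf (F.autGroup P)).map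
      (QuotientGroup.mk' ((Inn P).subgroupOf (F.autGroup P)))).Normal :=
    Subgroup.Normal.map hCnormal _ (QuotientGroup.mk'_surjective _)
  have hmapP : IsPGroup p ((C.subgroupOf (F.autGroup P)).map
      (QuotientGroup.mk' ((Inn P).subgroupOf (F.autGroup P)))) := hC'.map _
  have hbot := eq_bot_of_normal_of_isStronglyPEmbedded p hE hmapP
  have hCInn : C ≤ Inn P := by
    intro c hc
    have hcA := hCA hc
    have h1 : QuotientGroup.mk' ((Inn P).subgroupOf (F.autGroup P)) ⟨c, hcA⟩ ∈
        (C.subgroupOf (F.autGroup P)).map (QuotientGroup.mk' ((Inn P).subgroupOf (F.autGroup P))) :=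
      ⟨⟨c, hcA⟩, Subgroup.mem_subgroupOf.mpr hc, rfl⟩
    rw [hbot, Subgroup.mem_bot, QuotientGroup.mk'_apply, QuotientGroup.eq_one_iff] at h1
    exact Subgroup.mem_subgroupOf.mp h1
  -- `Aut_S(P)` lies in `C`
  have hRC : autInducedBy S P ≤ C := by
    intro a ha
    obtain ⟨s, hs, hsa⟩ := (mem_autInducedBy_iff a).mp ha
    refine ⟨autInducedBy_le_autGroup F hPS ha, fun x hx => ⟨fun hxp => ?_, fun h2 hx4 => ?_⟩⟩
    · by_cases hx1 : x = 1
      · rw [hx1, map_one]
      · have hxfoc : (x : Ω) ∈ F.focalSubgroup := Subgroup.mem_subgroupOf.mp hx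
        have hxp' : (x : Ω) ^ p = 1 := by
          have := congrArg Subtype.val hxp
          simpa using this
        let x' : S := ⟨x, hPS x.2⟩
        have hx'p : x' ^ p = 1 := Subtype.ext (by simpa using hxp')
        have hx'1 : x' ≠ 1 := by
          intro h
          apply hx1
          apply Subtype.ext
          have := congrArg Subtype.val h
          simpa [x'] using this
        haveI hN : (Subgroup.zpowers x').Normal := by
          constructor
          intro y hy g
          obtain ⟨k, rfl⟩ := Subgroup.mem_zpowers_iff.mp hy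
          have h1 := hnorm x hxfoc (Or.inl hxp') g g.2
          obtain ⟨j, hj⟩ := Subgroup.mem_zpowers_iff.mp h1
          have h2 : g * x' * g⁻¹ = x' ^ j := by
            apply Subtype.ext
            simp only [Subgroup.coe_mul, Subgroup.coe_inv, Subgroup.coe_zpow]
            exact hj.symm
          rw [← conj_zpow, h2]
          exact Subgroup.zpow_mem _ (Subgroup.zpow_mem _ (Subgroup.mem_zpowers x') j) k
        have hcard : Nat.card (Subgroup.zpowers x') = p := by
          rw [Nat.card_zpowers]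
          have hdvd : orderOf x' ∣ p := orderOf_dvd_of_pow_eq_one hx'p
          rcases (Nat.dvd_prime hp).mp hdvd with h | h
          · exact absurd (orderOf_eq_one_iff.mp h) hx'1
          · exact h
        have hcen := Cfsg.Agent.Helper19.normal_card_prime_le_center hS (Subgroup.zpowers x') hcard
          (Subgroup.mem_zpowers x')
        have hcomm := Subgroup.mem_center_iff.mp hcen ⟨s, hs⟩
        have hcomm' : s * (x : Ω) = (x : Ω) * s := congrArg Subtype.val hcomm
        apply Subtype.ext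
        rw [hsa, hcomm']
        group
    · have hxfoc : (x : Ω) ∈ F.focalSubgroup := Subgroup.mem_subgroupOf.mp hx
      have hx4' : (x : Ω) ^ 4 = 1 := by
        have := congrArg Subtype.val hx4
        simpa using this
      have h1 := hnorm x hxfoc (Or.inr ⟨h2, hx4'⟩) s hs
      obtain ⟨j, hj⟩ := Subgroup.mem_zpowers_iff.mp h1
      rw [Subgroup.mem_zpowers_iff]
      refine ⟨j, Subtype.ext ?_⟩
      rw [Subgroup.coe_zpow, hsa]
      exact hj
  -- contradiction with the order of the outer automorphism group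
  have hReq : (R : Subgroup (F.autGroup P)) = (Inn P).subgroupOf (F.autGroup P) := by
    rw [hR]
    apply le_antisymm
    · intro a ha
      exact Subgroup.mem_subgroupOf.mpr (hCInn (hRC (Subgroup.mem_subgroupOf.mp ha)))
    · intro a ha
      exact Subgroup.mem_subgroupOf.mpr (inn_le_autInducedBy hPS (Subgroup.mem_subgroupOf.mp ha))
  have hdiv : p ∣ Nat.card (F.autGroup P ⧸ (Inn P).subgroupOf (F.autGroup P)) := hE.1
  rw [← Subgroup.index_eq_card, ← hReq] at hdiv
  exact R.not_dvd_index hdiv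

/-- Let F be a saturated fusion system over a finite p-group S. If every cyclic subgroup of the focal subgroup of F of order p (of order 2 or 4 when p = 2) is normal in S, then S is normal in F. -/
theorem result {Ω : Type u} [Group Ω] {S : Subgroup Ω} [Finite S] (p : ℕ) [Fact p.Prime] (hS : IsPGroup p S)
    (F : Cfsg.FusionSystem S) (hF : F.IsSaturated p)
    (hnorm : ∀ x ∈ F.focalSubgroup, (x ^ p = 1 ∨ (p = 2 ∧ x ^ 4 = 1)) → ∀ s ∈ S, s * x * s⁻¹ ∈ Subgroup.zpowers x) :
    F.IsNormal S := by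
  apply isNormal_of_forall_essential p hS F hF S
  rintro P (rfl | hess)
  · refine ⟨le_rfl, fun α _ => ?_⟩
    have h1 : P.subgroupOf P = ⊤ := Subgroup.subgroupOf_self P
    rw [h1]
    exact Subgroup.map_top_of_surjective _ α.surjective
  · exact (no_essential p hS F hF hnorm hess).elim

end Cfsg.Agent.S5300
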