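import Mathlib
import Cfsg.Statements.S5301
import Cfsg.Agent.S5080
import Cfsg.Agent.Lib.Helper25.FusionNormal2

set_option autoImplicit false
universe u
open Cfsg

namespace Cfsg.Agent.S5301

open Cfsg.FusionSystem Cfsg.Agent.Helper25

/-- Let F be a saturated fusion system over a finite p-group S. If for every subgroup P of S that is fully normalized, centric and radical in F the automorphism group that F induces on P has a normal Sylow p-subgroup, then S is normal in F. -/
theorem result {Ω : Type u} [Group Ω] {S : Subgroup Ω} [Finite S] (p : ℕ) [Fact p.Prime] (hS : IsPGroup p S)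
    (F : Cfsg.FusionSystem S) (hF : F.IsSaturated p)
    (hcl : ∀ P : Subgroup Ω, F.IsFullyNormalized P → F.IsCentric P → F.IsRadical p P →
      ∃ R : Sylow p ↥(F.autGroup P), (R : Subgroup ↥(F.autGroup P)).Normal) :
    F.IsNormal S := by
  apply isNormal_of_forall_essential p hS F hF S
  intro P hP
  rcases hP with rfl | hess
  · refine ⟨le_rfl, fun α _ => ?_⟩
    rw [Subgroup.subgroupOf_self]
    exact Subgroup.map_top_of_surjective _ α.surjective
  · exfalso
    have hrad := Cfsg.Agent.S5080.result p hS F hF P hess
    obtain ⟨hcen, hfn, hnorm, E, hE⟩ := hess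
    obtain ⟨R, hRn⟩ := hcl P hfn hcen hrad
    have hPS : P ≤ S := hcen.1
    haveI : Finite P := finite_of_le_finite hPS
    have hdvd : p ∣ Nat.card (↥(F.autGroup P) ⧸ (Inn P).subgroupOf (F.autGroup P)) := hE.1
    have hRI : (R : Subgroup ↥(F.autGroup P)) ≤ (Inn P).subgroupOf (F.autGroup P) := by
      have h1 : (R : Subgroup ↥(F.autGroup P)) ≤ pCore p ↥(F.autGroup P) := le_pCore' hRn R.isPGroup'
      refine h1.trans ?_
      intro x hx
      rw [Subgroup.mem_subgroupOf, ← hrad.2]
      exact ⟨x, hx, rfl⟩
    rw [← Subgroup.index_eq_card] at hdvd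
    have h2 := Subgroup.index_dvd_of_le hRI
    exact R.not_dvd_index (dvd_trans hdvd h2)

end Cfsg.Agent.S5301
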