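import Mathlib
import Cfsg.Statements.S5306

set_option autoImplicit false
universe u
open Cfsg
open scoped Pointwise

namespace Cfsg.Agent.S5306

variable {X : Type u} [Group X]

/-- elementwise form of elementary abelian -/
lemma ea_iff (p : ℕ) (A : Subgroup X) :
    Cfsg.IsElementaryAbelian p A ↔ (∀ a ∈ A, ∀ b ∈ A, a * b = b * a) ∧ ∀ a ∈ A, a ^ p = 1 := by
  unfold Cfsg.IsElementaryAbelian
  rw [isMulCommutative_iff_of_setLike]

lemma ea_map {Y : Type*} [Group Y] (p : ℕ) (A : Subgroup X) (f : X →* Y)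
    (h : Cfsg.IsElementaryAbelian p A) : Cfsg.IsElementaryAbelian p (A.map f) := by
  rw [ea_iff] at h ⊢
  obtain ⟨h1, h2⟩ := h
  constructor
  · rintro _ ⟨a, ha, rfl⟩ _ ⟨b, hb, rfl⟩
    rw [← map_mul, ← map_mul, h1 a ha b hb]
  · rintro _ ⟨a, ha, rfl⟩
    rw [← map_pow, h2 a ha, map_one]

lemma ea_comap_subtype (p : ℕ) (P A : Subgroup X)
    (h : Cfsg.IsElementaryAbelian p A) : Cfsg.IsElementaryAbelian p (A.subgroupOf P) := by
  rw [ea_iff] at h ⊢
  obtain ⟨h1, h2⟩ := h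
  constructor
  · intro a ha b hb
    apply Subtype.ext
    exact h1 a ha b hb
  · intro a ha
    apply Subtype.ext
    simpa using h2 a ha

/-- the intrinsic family of maximal elementary abelian subgroups of `P` inside `X` -/
def M (p : ℕ) (P : Subgroup X) : Set (Subgroup X) :=
  {A | A ≤ P ∧ Cfsg.IsElementaryAbelian p A ∧
    ∀ B : Subgroup X, B ≤ P → Cfsg.IsElementaryAbelian p B → Nat.card B ≤ Nat.card A}

lemma thompson_eq (p : ℕ) (P : Subgroup X) :
    Cfsg.thompsonSubgroupOf p P = sSup (M p P) := by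
  unfold Cfsg.thompsonSubgroupOf Cfsg.thompsonSubgroup
  apply le_antisymm
  · rw [Subgroup.map_le_iff_le_comap]
    apply sSup_le
    intro A' hA'
    rw [← Subgroup.map_le_iff_le_comap]
    apply le_sSup
    obtain ⟨hea, hmax⟩ := hA'
    refine ⟨Subgroup.map_subtype_le A', ea_map p A' P.subtype hea, ?_⟩
    intro B hBP hB
    rw [Subgroup.card_subtype]
    have := hmax (B.subgroupOf P) (ea_comap_subtype p P B hB)
    rwa [Nat.card_congr (Subgroup.subgroupOfEquivOfLe hBP).toEquiv] at this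
  · apply sSup_le
    rintro A ⟨hAP, hea, hmax⟩
    rw [← Subgroup.map_subgroupOf_eq_of_le hAP]
    apply Subgroup.map_mono
    apply le_sSup
    refine ⟨ea_comap_subtype p P A hea, ?_⟩
    intro B' hB'
    have := hmax (B'.map P.subtype) (Subgroup.map_subtype_le B') (ea_map p B' P.subtype hB')
    rwa [Subgroup.card_subtype, ← Nat.card_congr (Subgroup.subgroupOfEquivOfLe hAP).toEquiv] at this

/-- conjugation hom -/
abbrev cj (a : X) : X →* X := (MulAut.conj a).toMonoidHom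

lemma cj_inj (a : X) : Function.Injective (cj a) := (MulAut.conj a).injective

/-- weak closure of the Thompson subgroup -/
lemma weak_closed [Finite X] (p : ℕ) (P : Subgroup X) (k : X)
    (h : (Cfsg.thompsonSubgroupOf p P).map (cj k) ≤ P) :
    (Cfsg.thompsonSubgroupOf p P).map (cj k) = Cfsg.thompsonSubgroupOf p P := by
  set J := Cfsg.thompsonSubgroupOf p P with hJ
  apply Subgroup.eq_of_le_of_card_ge
  · rw [Subgroup.map_le_iff_le_comap]
    conv_lhs => rw [hJ, thompson_eq]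
    apply sSup_le
    intro A hA
    rw [← Subgroup.map_le_iff_le_comap]
    have hAJ : A ≤ J := by rw [hJ, thompson_eq]; exact le_sSup hA
    conv_rhs => rw [hJ, thompson_eq]
    apply le_sSup
    obtain ⟨hAP, hea, hmax⟩ := hA
    refine ⟨(Subgroup.map_mono hAJ).trans h, ea_map p A _ hea, ?_⟩
    intro B hBP hB
    rw [Subgroup.card_map_of_injective (cj_inj k)]
    exact hmax B hBP hB
  · rw [Subgroup.card_map_of_injective (cj_inj k)]

lemma mem_iff_of_map_eq (H : Subgroup X) (a : X) (h : H.map (cj a) = H) (j : X) :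
    j ∈ H ↔ a * j * a⁻¹ ∈ H := by
  constructor
  · intro hj
    rw [← h]
    exact ⟨j, hj, rfl⟩
  · intro hj
    rw [← h] at hj
    obtain ⟨j', hj', e⟩ := hj
    have : j' = j := cj_inj a e
    rwa [← this]

/-- Let P be a Sylow p-subgroup of the finite group X and J = J(P) its Thompson subgroup (generated by the elementary abelian subgroups of P of largest order). If x and y lie in the centre of J and y = g x g⁻¹ for some g in X, then y = n x n⁻¹ for some n in the normalizer N_X(J). -/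
theorem result {X : Type*} [Group X] [Finite X] (p : ℕ) [Fact p.Prime] (P : Sylow p X) (J : Subgroup X) (hJ : J = Cfsg.thompsonSubgroupOf p (P : Subgroup X))
    (x y : X) (hx : x ∈ J ∧ ∀ j ∈ J, Commute j x) (hy : y ∈ J ∧ ∀ j ∈ J, Commute j y) (g : X) (hg : g * x * g⁻¹ = y) :
    ∃ n ∈ Subgroup.normalizer (J : Set X), n * x * n⁻¹ = y := by
  have hJP : J ≤ (P : Subgroup X) := by
    rw [hJ]; unfold Cfsg.thompsonSubgroupOf; exact Subgroup.map_subtype_le _
  have hJp : IsPGroup p J := P.isPGroup'.to_le hJP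
  set C : Subgroup X := Subgroup.centralizer ({y} : Set X) with hC
  have hJC : J ≤ C := by
    intro j hj
    rw [hC, Subgroup.mem_centralizer_iff]
    intro z hz
    rw [Set.mem_singleton_iff] at hz
    rw [hz]
    exact ((hy.2 j hj).eq).symm
  have hJ2C : J.map (cj g) ≤ C := by
    rintro _ ⟨j, hj, rfl⟩
    rw [hC, Subgroup.mem_centralizer_iff]
    intro z hz
    rw [Set.mem_singleton_iff] at hz
    rw [hz, ← hg]
    have := (hx.2 j hj).eq
    show g * x * g⁻¹ * (g * j * g⁻¹) = g * j * g⁻¹ * (g * x * g⁻¹)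
    calc g * x * g⁻¹ * (g * j * g⁻¹) = g * (x * j) * g⁻¹ := by group
      _ = g * (j * x) * g⁻¹ := by rw [this]
      _ = g * j * g⁻¹ * (g * x * g⁻¹) := by group
  have hp1 : IsPGroup p (J.subgroupOf C) := hJp.comap_subtype
  have hp2 : IsPGroup p ((J.map (cj g)).subgroupOf C) := (hJp.map (cj g)).comap_subtype
  obtain ⟨R, hR⟩ := hp1.exists_le_sylow
  obtain ⟨R₂, hR₂⟩ := hp2.exists_le_sylow
  obtain ⟨c, hc⟩ := MulAction.exists_smul_eq C R₂ R
  have hTp : IsPGroup p ((R : Subgroup C).map C.subtype) := R.isPGroup'.map C.subtype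
  obtain ⟨Q, hQ⟩ := hTp.exists_le_sylow
  obtain ⟨k, hk⟩ := MulAction.exists_smul_eq X P Q
  -- J ≤ Q
  have hJQ : J ≤ (Q : Subgroup X) := by
    intro j hj
    apply hQ
    refine ⟨⟨j, hJC hj⟩, hR ?_, rfl⟩
    rw [Subgroup.mem_subgroupOf]; exact hj
  -- n = c * g
  set n : X := (c : X) * g with hn
  have hnJQ : J.map (cj n) ≤ (Q : Subgroup X) := by
    rintro _ ⟨j, hj, rfl⟩
    apply hQ
    have h1 : (⟨g * j * g⁻¹, hJ2C ⟨j, hj, rfl⟩⟩ : C) ∈ (R₂ : Subgroup C) := hR₂ (by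
      rw [Subgroup.mem_subgroupOf]; exact ⟨j, hj, rfl⟩)
    have h2 : c * (⟨g * j * g⁻¹, hJ2C ⟨j, hj, rfl⟩⟩ : C) * c⁻¹ ∈ (R : Subgroup C) := by
      rw [← hc, Sylow.coe_subgroup_smul, Subgroup.mem_pointwise_smul_iff_inv_smul_mem]
      simpa [MulAut.smul_def, mul_assoc] using h1
    refine ⟨_, h2, ?_⟩
    show (c : X) * (g * j * g⁻¹) * (c : X)⁻¹ = n * j * n⁻¹
    rw [hn]; group
  -- Q = k • P
  have hQk : (Q : Subgroup X) = (P : Subgroup X).map (cj k) := by
    rw [← hk, Sylow.coe_subgroup_smul, Subgroup.pointwise_smul_def]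
    rfl
  -- J.map (cj k⁻¹) ≤ P
  have h1 : J.map (cj k⁻¹) ≤ (P : Subgroup X) := by
    rintro _ ⟨j, hj, rfl⟩
    have := hJQ hj
    rw [hQk] at this
    obtain ⟨q, hq, e⟩ := this
    have : cj k⁻¹ j = q := by
      rw [← e]; show k⁻¹ * (k * q * k⁻¹) * k⁻¹⁻¹ = q; group
    rw [this]; exact hq
  have h2 : J.map (cj (k⁻¹ * n)) ≤ (P : Subgroup X) := by
    rintro _ ⟨j, hj, rfl⟩
    have := hnJQ ⟨j, hj, rfl⟩
    rw [hQk] at this
    obtain ⟨q, hq, e⟩ := this
    have : cj (k⁻¹ * n) j = q := by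
      have e' : k * q * k⁻¹ = n * j * n⁻¹ := e
      show k⁻¹ * n * j * (k⁻¹ * n)⁻¹ = q
      calc k⁻¹ * n * j * (k⁻¹ * n)⁻¹ = k⁻¹ * (n * j * n⁻¹) * k := by group
        _ = k⁻¹ * (k * q * k⁻¹) * k := by rw [e']
        _ = q := by group
    rw [this]; exact hq
  have e1 := weak_closed p (P : Subgroup X) k⁻¹ (by rw [← hJ]; exact h1)
  have e2 := weak_closed p (P : Subgroup X) (k⁻¹ * n) (by rw [← hJ]; exact h2)
  rw [← hJ] at e1 e2
  refine ⟨n, ?_, ?_⟩
  · rw [Subgroup.mem_normalizer_iff]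
    intro j
    rw [mem_iff_of_map_eq J _ e2 j, mem_iff_of_map_eq J _ e1 (n * j * n⁻¹)]
    have : k⁻¹ * n * j * (k⁻¹ * n)⁻¹ = k⁻¹ * (n * j * n⁻¹) * k⁻¹⁻¹ := by group
    rw [this]
  · rw [hn, ← hg]
    have hcy : (c : X) * y = y * (c : X) := by
      have hcC : (c : X) ∈ Subgroup.centralizer ({y} : Set X) := c.2
      rw [Subgroup.mem_centralizer_iff] at hcC
      exact (hcC y rfl).symm
    calc (c : X) * g * x * ((c : X) * g)⁻¹ = (c : X) * (g * x * g⁻¹) * (c : X)⁻¹ := by group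
      _ = (c : X) * y * (c : X)⁻¹ := by rw [hg]
      _ = y * (c : X) * (c : X)⁻¹ := by rw [hcy]
      _ = g * x * g⁻¹ := by rw [hg]; group

end Cfsg.Agent.S5306
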