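import Mathlib
import Cfsg.Statements.S5315
import Cfsg.Agent.Lib.Helper25.FusionGrun

set_option autoImplicit false
open Cfsg Cfsg.FusionSystem Cfsg.Agent.Helper25

namespace Cfsg.Agent.S5315

/-- An analogue of Grün's lemma for fusion systems. Let F be a saturated fusion system over a finite p-group S that is perfect in the sense that its hyperfocal subgroup is all of S (F coincides with its p-residual subsystem). Then the second centre of F equals its centre: every fusion system over S/(Z(F) ∩ S) that is the factor system of F modulo its centre Z(F), read through the quotient map, has trivial centre. -/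
theorem result {Ω : Type*} [Group Ω] {S : Subgroup Ω} [Finite S] (p : ℕ) [Fact p.Prime] (hS : IsPGroup p S) (F : Cfsg.FusionSystem S) (hF : F.IsSaturated p)
    (hperf : F.hyperfocalSubgroup p = S)
    (E : Cfsg.FusionSystem (⊤ : Subgroup (↥S ⧸ (F.center).subgroupOf S)))
    (hE : F.IsFactorSystem F.center (QuotientGroup.mk' ((F.center).subgroupOf S)) E) : E.center = ⊥ := by
  classical
  have hZ : F.IsCentral F.center := isCentral_center F
  have hE2 := hE
  obtain ⟨hZS, hker, hrange, hhom⟩ := hE2
  rw [show E.center = sSup {Q | E.IsCentral Q} from rfl, sSup_eq_bot]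
  intro Q' hQ'
  have hQ'c : E.IsCentral Q' := hQ'
  have hZ₂S : preimageAlong (QuotientGroup.mk' ((F.center).subgroupOf S)) Q' ≤ S := preimageAlong_le _ Q'
  -- Step B: the preimage is centralized by S
  have hB : ∀ s ∈ S, ∀ z ∈ preimageAlong (QuotientGroup.mk' ((F.center).subgroupOf S)) Q', s * z = z * s := by
    have hle : F.hyperfocalSubgroup p ≤ Subgroup.centralizer
        ((preimageAlong (QuotientGroup.mk' ((F.center).subgroupOf S)) Q' : Subgroup Ω) : Set Ω) := by
      unfold FusionSystem.hyperfocalSubgroup
      rw [Subgroup.closure_le]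
      rintro y ⟨P, α, x, hPS, -, rfl⟩
      rw [SetLike.mem_coe, Subgroup.mem_centralizer_iff]
      intro z hz
      have hα := (mem_autGroup_iff F hPS (α : MulAut P)).mp α.2
      have := Grun.focal_comm F hE hZ hQ'c hα x hz
      exact this.symm
    intro s hs z hz
    have hs' : s ∈ F.hyperfocalSubgroup p := by rw [hperf]; exact hs
    have := hle hs'
    rw [Subgroup.mem_centralizer_iff] at this
    exact (this z hz).symm
  -- Step D: automorphisms of S and of essential subgroups fix the preimage pointwise
  have hD : ∀ P : Subgroup Ω, (P = S ∨ F.IsEssential p P) →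
      ∀ (hZP : preimageAlong (QuotientGroup.mk' ((F.center).subgroupOf S)) Q' ≤ P) (α : MulAut P),
      α ∈ F.autGroup P → ∀ z : preimageAlong (QuotientGroup.mk' ((F.center).subgroupOf S)) Q',
      α (Subgroup.inclusion hZP z) = Subgroup.inclusion hZP z := by
    intro P hP hZP α hα z
    have hPS : P ≤ S := by
      rcases hP with rfl | hP
      · exact le_rfl
      · exact hP.1.1
    have hFA := isFullyAutomized_of_eq_or_essential p hS F hF hP
    obtain ⟨σ, hσ, ν, hν, rfl⟩ := exists_mul_autInducedBy_pResidual p F hFA hα
    have hσfix : ∀ z : preimageAlong (QuotientGroup.mk' ((F.center).subgroupOf S)) Q',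
        σ (Subgroup.inclusion hZP z) = Subgroup.inclusion hZP z := by
      obtain ⟨g, hg, hgσ⟩ := (mem_autInducedBy_iff σ).mp hσ
      intro z
      apply Subtype.ext
      rw [hgσ]
      have := hB g hg z z.2
      show g * (z : Ω) * g⁻¹ = (z : Ω)
      rw [this]; group
    clear hα
    have hνfix : ∀ z : preimageAlong (QuotientGroup.mk' ((F.center).subgroupOf S)) Q',
        (ν : MulAut P) (Subgroup.inclusion hZP z) = Subgroup.inclusion hZP z := by
      unfold pResidual at hν
      induction hν using Subgroup.closure_induction with
      | mem g hg =>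
        intro z
        have hg' : Nat.Coprime (orderOf g) p := hg
        set β : MulAut P := (g : MulAut P) with hβ
        set m := orderOf g with hm
        have hβm : β ^ m = 1 := by
          have : g ^ m = 1 := pow_orderOf_eq_one g
          have := congrArg Subtype.val this
          simpa using this
        set zP : P := Subgroup.inclusion hZP z with hzP
        have hβF := (mem_autGroup_iff F hPS β).mp g.2
        have hmod := Grun.mod_center F hE hZ hQ'c hβF zP z.2
        set η : P := zP⁻¹ * β zP with hη
        have hηZ : (η : Ω) ∈ F.center := hmod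
        have hβη : β η = η := by
          have := Grun.central_fix F hZ hβF η hηZ
          exact Subtype.ext this
        have hβz : β zP = zP * η := by rw [hη]; group
        have hpow : ∀ k : ℕ, (β ^ k) zP = zP * η ^ k := by
          intro k
          induction k with
          | zero => simp
          | succ k ih =>
            rw [pow_succ', MulAut.mul_apply, ih, map_mul, map_pow, hβη, hβz, pow_succ', mul_assoc]
        have h1 := hpow m
        rw [hβm, MulAut.one_apply] at h1
        have hηm : η ^ m = 1 := by
          have := congrArg (zP⁻¹ * ·) h1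
          simpa using this.symm
        obtain ⟨k, hk⟩ := hS ⟨(η : Ω), hPS η.2⟩
        have hηp : η ^ p ^ k = 1 := by
          have := congrArg Subtype.val hk
          apply Subtype.ext
          simpa using this
        have hgcd : η ^ Nat.gcd m (p ^ k) = 1 := pow_gcd_eq_one.mpr ⟨hηm, hηp⟩
        have hcop : Nat.gcd m (p ^ k) = 1 := Nat.Coprime.pow_right k hg'
        rw [hcop, pow_one] at hgcd
        rw [hβz, hgcd, mul_one]
      | one => intro z; rfl
      | mul a b _ _ ha hb =>
        intro z
        rw [Subgroup.coe_mul, MulAut.mul_apply, hb z, ha z]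
      | inv a _ ha =>
        intro z
        have := ha z
        rw [Subgroup.coe_inv]
        conv_lhs => rw [← this]
        rw [MulAut.inv_apply_self]
    rw [MulAut.mul_apply, hνfix, hσfix]
  -- Step C: the preimage is central in F
  have hK : ∀ g ∈ S, ∃ κ ∈ (⊥ : Subgroup (MulAut (preimageAlong (QuotientGroup.mk' ((F.center).subgroupOf S)) Q'))),
      ∀ x : preimageAlong (QuotientGroup.mk' ((F.center).subgroupOf S)) Q',
      ((κ x : preimageAlong (QuotientGroup.mk' ((F.center).subgroupOf S)) Q') : Ω) = g * (x : Ω) * g⁻¹ := by
    intro g hg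
    refine ⟨1, Subgroup.mem_bot.mpr rfl, fun x => ?_⟩
    have := hB g hg x x.2
    show (x : Ω) = g * x * g⁻¹
    rw [this]; group
  have hle : F ≤ normSub F _ ⊥ hZ₂S hK := by
    apply Cfsg.Agent.S5082.result p hS F hF
    intro P hP α hα
    have hPS : P ≤ S := by
      rcases hP with rfl | hP
      · exact le_rfl
      · exact hP.1.1
    have hZP : preimageAlong (QuotientGroup.mk' ((F.center).subgroupOf S)) Q' ≤ P := by
      rcases hP with rfl | hP
      · exact hZ₂S
      · have hcen := hP.1.2 P (isConj_refl F hP.1.1)
        intro z hz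
        apply hcen
        rw [mem_centralizerIn]
        exact ⟨hZ₂S hz, fun x hx => hB x (hP.1.1 hx) z hz⟩
    exact mem_autGroup_normSub F _ ⊥ hZ₂S hK hPS hZP hα (Subgroup.mem_bot.mpr rfl)
      (fun x => by rw [hD P hP hZP α hα x]; rfl)
  have hcen := isCentral_of_le_normSub_bot F _ hZ₂S hK hle
  have hZ₂Z : preimageAlong (QuotientGroup.mk' ((F.center).subgroupOf S)) Q' ≤ F.center := le_sSup hcen
  rw [eq_bot_iff]
  intro y hy
  obtain ⟨z, hz⟩ := exists_preimage hrange (le_top : Q' ≤ ⊤) hy
  have hzZ : (z : Ω) ∈ F.center := hZ₂Z z.2
  have h1 := (hker ⟨(z : Ω), hZ₂S z.2⟩).2 hzZ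
  rw [Subgroup.mem_bot, ← hz]
  exact h1

end Cfsg.Agent.S5315
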