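import Mathlib
import Cfsg.Statements.S5326
import Cfsg.Agent.Lib.Helper25.FusionOmit

set_option autoImplicit false
open Cfsg Cfsg.FusionSystem Cfsg.Agent.Helper25

namespace Cfsg.Agent.S5326

/-- Let F be a saturated fusion system over a finite p-group S and Q an essential subgroup. Then the F-conjugacy class of Q cannot be left out of a generating family: there is a fusion system E over S whose automorphism group of every subgroup R ≤ S not F-conjugate to Q contains Aut_F(R), and yet E does not contain every map of F. -/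
theorem result {Ω : Type*} [Group Ω] {S : Subgroup Ω} [Finite S] (p : ℕ) [Fact p.Prime] (hS : IsPGroup p S) (F : Cfsg.FusionSystem S) (hF : F.IsSaturated p) (Q : Subgroup Ω) (hQ : F.IsEssential p Q) : ∃ E : Cfsg.FusionSystem S, (∀ R : Subgroup Ω, R ≤ S → ¬ F.IsConj Q R → F.autGroup R ≤ E.autGroup R) ∧ ¬ F ≤ E := by
  classical
  have hFN : F.IsFullyNormalized Q := hQ.2.1
  have hQS : Q ≤ S := hFN.1
  haveI : Finite Q := finite_of_le_finite hQS
  obtain ⟨hFC, hFA, hRec⟩ := of_fullyNormalized p hS F hF hFN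
  have hQne : Q ≠ S := by
    rintro rfl
    exact Omit.not_isEssential_self p F hF hQ
  have hex : Omit.NMapEx F Q := fun Q₁ hc => exists_normalizer_map p hS F Q Q₁ hFA hRec hc
  have hQne' : ∀ Q₁ : Subgroup Ω, F.IsConj Q₁ Q → Q₁ ≠ S := fun Q₁ hc =>
    Omit.ne_of_isConj F hQS hQne hc
  refine ⟨predSub F (Omit.PrE F Q hex (Subgroup.closure (extSet F Q)))
    (fun hP hg => Omit.prE_conj hS F hex hQne' hP hg)
    (fun hφ hψ h₁ h₂ h => Omit.prE_comp F hex _ hφ h₁ h₂ h)
    (fun hφ h₁ ψ hψ hinv => Omit.prE_inv F hex _ h₁ hψ hinv), ?_, ?_⟩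
  · intro R hRS hnc α hα
    rw [mem_autGroup_iff _ hRS]
    have hαF := (mem_autGroup_iff F hRS α).mp hα
    refine ⟨hαF, ?_⟩
    intro Q₁ hQ₁R hc₁
    have hne : Q₁ ≠ R := by
      rintro rfl
      exact hnc (isConj_symm F hc₁)
    haveI : Finite R := finite_of_le_finite hRS
    obtain ⟨k, hkN, hkQ⟩ := exists_mem_normalizerIn_not_mem (S := R) (hS.to_le hRS) hQ₁R hne
    obtain ⟨τ, hτ, r⟩ := Omit.transport2 F hex hαF hQ₁R hc₁ (fun hle => hkQ (hle hkN))
    exact ⟨τ, Subgroup.subset_closure hτ, r⟩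
  · intro hle
    obtain ⟨hn, Esub, hEsub⟩ := hQ.2.2
    haveI := hn
    have hne_top := image_closure_extSet_ne_top p hS F hF hQne hFN hQ
    -- an automorphism outside H
    have hexα : ∃ α ∈ F.autGroup Q, α ∉ Subgroup.closure (extSet F Q) := by
      by_contra hcon
      push_neg at hcon
      apply hne_top
      rw [eq_top_iff]
      intro q _
      obtain ⟨a, rfl⟩ := QuotientGroup.mk'_surjective _ q
      exact ⟨a, Subgroup.mem_subgroupOf.mpr (hcon a a.2), rfl⟩
    obtain ⟨α, hα, hαH⟩ := hexα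
    have hαF := (mem_autGroup_iff F hQS α).mp hα
    have hPr : Omit.PrE F Q hex (Subgroup.closure (extSet F Q)) Q (Q.subtype.comp α.toMonoidHom) :=
      (hle Q hαF).2
    have hcQ : F.IsConj Q Q := isConj_refl F hQS
    obtain ⟨τ, hτ, r⟩ := hPr Q le_rfl hcQ
    have e : (Q.subgroupOf Q).map (Q.subtype.comp α.toMonoidHom) = Q := by
      ext y
      rw [Omit.mem_map_iff le_rfl]
      constructor
      · rintro ⟨x, hx, rfl⟩
        exact (α ⟨x, hx⟩).2
      · intro hy
        refine ⟨((α⁻¹ ⟨y, hy⟩ : Q) : Ω), (α⁻¹ ⟨y, hy⟩).2, ?_⟩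
        show ((α (α⁻¹ ⟨y, hy⟩) : Q) : Ω) = y
        rw [MulAut.apply_inv_self]
    rw [e] at r
    -- the automorphism t of Q given by the chosen normalizer map of Q
    obtain ⟨φQ, hφQ, hφQN, hφQQ, hφQmap, hθQ⟩ := Omit.theta_spec F Q hex hcQ
    have hQN : Q ≤ normalizerIn S Q := le_normalizerIn hQS
    have hval : ∀ y : Q, (φQ.comp (Subgroup.inclusion hQN)) y ∈ Q := fun y => hφQQ y y.2 _
    obtain ⟨t, htF, ht⟩ := exists_aut_of_hom F (restrict_mem F hQN hφQ) hval
    have htθ : ∀ y : Q, ((t y : Q) : Ω) = Omit.theta F Q hex Q y := by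
      intro y
      rw [ht, hθQ y (hQN y.2)]
      rfl
    have htH : t ∈ Subgroup.closure (extSet F Q) := by
      apply Subgroup.subset_closure
      obtain ⟨k, hkN, hkQ⟩ := exists_mem_normalizerIn_not_mem hS hQS hQne
      have hlt : Q < normalizerIn S Q := lt_of_le_of_ne hQN (fun h => hkQ (h ▸ hkN))
      exact ⟨normalizerIn S Q, hlt, φQ, hφQ, fun x => (ht x).symm⟩
    have hrel : t * α = τ * t := by
      ext x
      have hθ : Omit.theta F Q hex Q (x : Ω) ∈ Q := Omit.theta_mem F hex hcQ x.2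
      have k := r x x.2 hθ
      rw [MulAut.mul_apply, MulAut.mul_apply, htθ]
      have e1 : (⟨Omit.theta F Q hex Q (x : Ω), hθ⟩ : Q) = t x := Subtype.ext (htθ x).symm
      rw [e1] at k
      exact k
    have : α = t⁻¹ * τ * t := by
      rw [mul_assoc, ← hrel]; group
    apply hαH
    rw [this]
    exact Subgroup.mul_mem _ (Subgroup.mul_mem _ (Subgroup.inv_mem _ htH) hτ) htH

end Cfsg.Agent.S5326
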