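import Mathlib
import Cfsg.Statements.S5328
import Cfsg.Agent.Lib.Helper25.FusionPark
import Cfsg.Agent.Lib.Helper3.BisetTransport

set_option autoImplicit false
universe u
open Cfsg Cfsg.FusionSystem Cfsg.Agent.Helper25 Cfsg.Agent.Helper3

namespace Cfsg.Agent.S5328

/-- Every fusion system over a finite p-group S, saturated or not, is realized inside some finite group: there is a finite group G and an injective homomorphism ι of S into G such that the maps of the system are exactly the homomorphisms between subgroups of S that become conjugations by elements of G (the image of S need not be a Sylow p-subgroup of G). -/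
theorem result {Ω : Type u} [Group Ω] {S : Subgroup Ω} [Finite S] (p : ℕ) [Fact p.Prime] (hS : IsPGroup p S) (F : Cfsg.FusionSystem S) : ∃ (G : Type u) (_ : Group G) (_ : Finite G) (ι : ↥S →* G), F.IsRealizedBy ι := by
  obtain ⟨E, hE⟩ := Biset.exists_topCopy F
  obtain ⟨G, iG, fG, ι, hinj, hι⟩ := Park.park_top E
  refine ⟨G, iG, fG, ι, hinj, fun P hP φ hφS => ?_⟩
  have hP' : (P.subgroupOf S).map S.subtype = P := by
    rw [Subgroup.subgroupOf_map_subtype, inf_eq_left.2 hP]
  let φ' : ↥(P.subgroupOf S) →* ↥S :=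
    (φ.codRestrict S hφS).comp (Subgroup.subgroupOfEquivOfLe hP).toMonoidHom
  have key : φ ∈ F.Hom P ↔ φ' ∈ E.Hom (P.subgroupOf S) := by
    constructor
    · intro hφ
      exact hE.mem_of_mem hφ hP' φ' (fun x hx => rfl)
    · intro hφ'
      obtain ⟨φ₂, hφ₂, heq⟩ := hE.exists_of_mem hφ'
      have h3 := hom_transport F hP'.symm hφ₂
      have : φ = φ₂.comp (Subgroup.inclusion hP'.symm.le) := by
        ext x
        have hx : (x : Ω) ∈ S := hP x.2
        have := heq ⟨⟨x, hx⟩, x.2⟩ (hP'.symm.le x.2)
        show φ x = φ₂ ⟨(x : Ω), _⟩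
        rw [this]
        rfl
      rw [this]
      exact h3
  rw [key, hι]
  constructor
  · rintro ⟨g, hg⟩
    exact ⟨g, fun x => hg ⟨⟨x, hP x.2⟩, x.2⟩⟩
  · rintro ⟨g, hg⟩
    exact ⟨g, fun x => hg ⟨x.1.1, x.2⟩⟩

end Cfsg.Agent.S5328
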