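import Mathlib
import Cfsg.Statements.S5331
import Cfsg.Agent.S5082
import Cfsg.Agent.S5337

set_option autoImplicit false
open Cfsg

namespace Cfsg.Agent.S5331

/-- elements of order at most two of `ZMod (2 ^ a)` -/
lemma two_torsion_zmod (a : ℕ) (c : ZMod (2 ^ a)) (hc : 2 • c = 0) :
    c = 0 ∨ (1 ≤ a ∧ c = ((2 ^ (a - 1) : ℕ) : ZMod (2 ^ a))) := by
  rcases Nat.eq_zero_or_pos a with rfl | ha
  · left
    exact @Subsingleton.elim (ZMod 1) _ c 0
  · haveI : NeZero (2 ^ a) := ⟨by positivity⟩
    have h1 : ((2 * c.val : ℕ) : ZMod (2 ^ a)) = 0 := by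
      rw [Nat.cast_mul, ZMod.natCast_zmod_val, Nat.cast_ofNat, ← hc, two_nsmul, two_mul]
    rw [ZMod.natCast_eq_zero_iff] at h1
    have hlt : c.val < 2 ^ a := ZMod.val_lt c
    obtain ⟨t, ht⟩ := h1
    have h2a : 2 ^ a = 2 * 2 ^ (a - 1) := by
      rw [← pow_succ']; congr 1; omega
    have ht' : 2 * c.val = 2 * 2 ^ (a - 1) * t := by rw [← h2a]; exact ht
    have hlt' : c.val < 2 * 2 ^ (a - 1) := by rw [← h2a]; exact hlt
    have hv : c.val = 2 ^ (a - 1) * t := by
      rw [mul_assoc] at ht'
      exact Nat.eq_of_mul_eq_mul_left (by norm_num) ht'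
    have htlt : t < 2 := by
      by_contra hcon
      push Not at hcon
      have : 2 ^ (a - 1) * 2 ≤ 2 ^ (a - 1) * t := Nat.mul_le_mul_left _ hcon
      omega
    interval_cases t
    · left
      rw [mul_zero] at hv
      exact (ZMod.val_eq_zero c).mp hv
    · right
      refine ⟨ha, ?_⟩
      rw [mul_one] at hv
      rw [← hv, ZMod.natCast_zmod_val]

/-- divisibility by `2 ^ j` for elements of order at most two of `ZMod (2 ^ a)` -/
lemma div_iff_zmod (a j : ℕ) (c : ZMod (2 ^ a)) (hc : 2 • c = 0) :
    (∃ u : ZMod (2 ^ a), c = 2 ^ j • u) ↔ (c = 0 ∨ j < a) := by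
  constructor
  · rintro ⟨u, rfl⟩
    by_cases hj : j < a
    · exact Or.inr hj
    · left
      push Not at hj
      have : ((2 ^ j : ℕ) : ZMod (2 ^ a)) = 0 := by
        rw [ZMod.natCast_eq_zero_iff]
        exact pow_dvd_pow 2 hj
      rw [nsmul_eq_mul, this, zero_mul]
  · rintro (rfl | hj)
    · exact ⟨0, by simp⟩
    · rcases two_torsion_zmod a c hc with rfl | ⟨_, hc'⟩
      · exact ⟨0, by simp⟩
      · refine ⟨((2 ^ (a - 1 - j) : ℕ) : ZMod (2 ^ a)), ?_⟩
        rw [hc', nsmul_eq_mul, ← Nat.cast_mul, ← pow_add]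
        congr 2
        omega

section filtration

variable {n : ℕ} (a : Fin n → ℕ)

/-- the filtration of the `2`-torsion of the product by divisibility -/
def V (j : ℕ) : AddSubgroup ((i : Fin n) → ZMod (2 ^ a i)) where
  carrier := {v | 2 • v = 0 ∧ ∃ u : (i : Fin n) → ZMod (2 ^ a i), v = 2 ^ j • u}
  zero_mem' := ⟨by simp, 0, by simp⟩
  add_mem' := by
    rintro v w ⟨hv, u, rfl⟩ ⟨hw, u', rfl⟩
    exact ⟨by rw [smul_add, hv, hw, add_zero], u + u', by rw [smul_add]⟩
  neg_mem' := by
    rintro v ⟨hv, u, rfl⟩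
    exact ⟨by rw [smul_neg, hv, neg_zero], -u, by rw [smul_neg]⟩

lemma mem_V_iff (j : ℕ) (v : (i : Fin n) → ZMod (2 ^ a i)) :
    v ∈ V a j ↔ (2 • v = 0) ∧ ∀ i, (v i = 0 ∨ j < a i) := by
  constructor
  · rintro ⟨hv, u, hu⟩
    refine ⟨hv, fun i => ?_⟩
    have hvi : 2 • v i = 0 := congrFun hv i
    exact (div_iff_zmod (a i) j (v i) hvi).mp ⟨u i, by rw [hu]; rfl⟩
  · rintro ⟨hv, h⟩
    refine ⟨hv, ?_⟩
    have hvi : ∀ i, 2 • v i = 0 := fun i => congrFun hv i
    choose u hu using fun i => (div_iff_zmod (a i) j (v i) (hvi i)).mpr (h i)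
    exact ⟨u, funext fun i => by rw [hu i]; rfl⟩

lemma sub_mem_V_succ (ha : Function.Injective a) (j : ℕ) {v w : (i : Fin n) → ZMod (2 ^ a i)}
    (hv : v ∈ V a j) (hw : w ∈ V a j) (hv' : v ∉ V a (j + 1)) (hw' : w ∉ V a (j + 1)) :
    v - w ∈ V a (j + 1) := by
  rw [mem_V_iff] at hv hw hv' hw' ⊢
  obtain ⟨hv2, hvj⟩ := hv
  obtain ⟨hw2, hwj⟩ := hw
  have hex : ∀ {x : (i : Fin n) → ZMod (2 ^ a i)}, 2 • x = 0 → (∀ i, x i = 0 ∨ j < a i) →
      ¬ (2 • x = 0 ∧ ∀ i, x i = 0 ∨ j + 1 < a i) → ∃ i, x i ≠ 0 ∧ a i = j + 1 := by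
    intro x hx2 hxj hx'
    by_contra hcon
    push Not at hcon
    apply hx'
    refine ⟨hx2, fun i => ?_⟩
    by_cases hxi : x i = 0
    · exact Or.inl hxi
    · right
      have h1 := hcon i hxi
      rcases hxj i with h | h
      · exact absurd h hxi
      · omega
  obtain ⟨i₀, hvi₀, hai₀⟩ := hex hv2 hvj hv'
  obtain ⟨i₁, hwi₁, hai₁⟩ := hex hw2 hwj hw'
  have hi : i₁ = i₀ := ha (by rw [hai₀, hai₁])
  subst hi
  refine ⟨by rw [smul_sub, hv2, hw2, sub_zero], fun i => ?_⟩
  by_cases hii : i = i₁
  · subst hii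
    left
    have h1 := two_torsion_zmod (a i) (v i) (congrFun hv2 i)
    have h2 := two_torsion_zmod (a i) (w i) (congrFun hw2 i)
    rcases h1 with h1 | ⟨-, h1⟩
    · exact absurd h1 hvi₀
    · rcases h2 with h2 | ⟨-, h2⟩
      · exact absurd h2 hwi₁
      · show v i - w i = 0
        rw [h1, h2, sub_self]
  · have hai : a i ≠ j + 1 := by
      intro h
      exact hii (ha (by rw [h, hai₁]))
    by_cases hvi : v i = 0
    · by_cases hwi : w i = 0
      · left
        show v i - w i = 0
        rw [hvi, hwi, sub_zero]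
      · right
        rcases hwj i with h | h
        · exact absurd h hwi
        · omega
    · right
      rcases hvj i with h | h
      · exact absurd h hvi
      · omega

lemma iterate_add_nsmul {X : Type*} [AddCommGroup X] (β : X ≃+ X) {v d : X} (h1 : β v = v + d)
    (h2 : β d = d) (k : ℕ) : β^[k] v = v + k • d := by
  induction k with
  | zero => simp
  | succ k ih =>
    rw [Function.iterate_succ_apply', ih, map_add, h1, map_nsmul, h2, succ_nsmul]
    abel

lemma eq_zero_of_odd_nsmul {X : Type*} [AddCommGroup X] {d : X} {k : ℕ} (hk : Odd k)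
    (h2 : 2 • d = 0) (hkd : k • d = 0) : d = 0 := by
  obtain ⟨m, rfl⟩ := hk
  rw [add_nsmul, mul_nsmul, h2, nsmul_zero, zero_add, one_nsmul] at hkd
  exact hkd

/-- an automorphism of odd order of the product of cyclic `2`-groups of distinct orders is trivial -/
theorem addEquiv_eq_id (ha : Function.Injective a)
    (β : ((i : Fin n) → ZMod (2 ^ a i)) ≃+ ((i : Fin n) → ZMod (2 ^ a i))) (k : ℕ) (hk : Odd k)
    (hβk : ∀ v, β^[k] v = v) : ∀ v, β v = v := by
  set B := ∑ i, a i + 1 with hB
  have haB : ∀ i, a i < B := by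
    intro i
    have : a i ≤ ∑ i, a i := Finset.single_le_sum (fun _ _ => Nat.zero_le _) (Finset.mem_univ i)
    omega
  -- invariance of the filtration
  have hinv : ∀ (γ : ((i : Fin n) → ZMod (2 ^ a i)) ≃+ ((i : Fin n) → ZMod (2 ^ a i))) (j : ℕ)
      (v : (i : Fin n) → ZMod (2 ^ a i)), v ∈ V a j → γ v ∈ V a j := by
    rintro γ j v ⟨hv, u, rfl⟩
    exact ⟨by rw [← map_nsmul, hv, map_zero], γ u, by rw [map_nsmul]⟩
  have key : ∀ d j, B ≤ j + d → ∀ v ∈ V a j, β v = v := by
    intro d
    induction d with
    | zero =>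
      intro j hj v hv
      rw [mem_V_iff] at hv
      have hv0 : v = 0 := by
        funext i
        rcases hv.2 i with h | h
        · exact h
        · have := haB i
          omega
      rw [hv0, map_zero]
    | succ d ih =>
      intro j hj v hv
      have ih' := ih (j + 1) (by omega)
      by_cases hv1 : v ∈ V a (j + 1)
      · exact ih' v hv1
      · have hβv : β v ∈ V a j := hinv β j v hv
        have hβv1 : β v ∉ V a (j + 1) := by
          intro h
          apply hv1
          have := hinv β.symm (j + 1) _ h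
          rwa [AddEquiv.symm_apply_apply] at this
        have hd := sub_mem_V_succ a ha j hβv hv hβv1 hv1
        have hβd := ih' _ hd
        have h1 : β v = v + (β v - v) := by abel
        have h2 := iterate_add_nsmul β h1 hβd k
        rw [hβk] at h2
        have h3 : k • (β v - v) = 0 := by
          have : v + k • (β v - v) = v + 0 := by rw [add_zero]; exact h2.symm
          exact add_left_cancel this
        have h4 : β v - v = 0 := eq_zero_of_odd_nsmul hk ((mem_V_iff a (j + 1) _).1 hd).1 h3
        exact sub_eq_zero.mp h4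
  have h2tor : ∀ v : (i : Fin n) → ZMod (2 ^ a i), 2 • v = 0 → β v = v := by
    intro v hv
    apply key B 0 (by omega) v
    exact ⟨hv, v, by simp⟩
  have hpow : ∀ m (v : (i : Fin n) → ZMod (2 ^ a i)), 2 ^ m • v = 0 → β v = v := by
    intro m
    induction m with
    | zero =>
      intro v hv
      rw [pow_zero, one_nsmul] at hv
      rw [hv, map_zero]
    | succ m ih =>
      intro v hv
      have h1 : 2 ^ m • (2 • v) = 0 := by rw [← mul_nsmul', ← pow_succ]; exact hv
      have h2 := ih _ h1
      have h3 : 2 • (β v - v) = 0 := by rw [smul_sub, ← map_nsmul, h2, sub_self]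
      have hβd := h2tor _ h3
      have h4 : β v = v + (β v - v) := by abel
      have h5 := iterate_add_nsmul β h4 hβd k
      rw [hβk] at h5
      have h6 : k • (β v - v) = 0 := by
        have : v + k • (β v - v) = v + 0 := by rw [add_zero]; exact h5.symm
        exact add_left_cancel this
      exact sub_eq_zero.mp (eq_zero_of_odd_nsmul hk h3 h6)
  intro v
  apply hpow B v
  funext i
  show 2 ^ B • v i = 0
  have : ((2 ^ B : ℕ) : ZMod (2 ^ a i)) = 0 := by
    rw [ZMod.natCast_eq_zero_iff]
    exact pow_dvd_pow 2 (haB i).le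
  rw [nsmul_eq_mul, this, zero_mul]

end filtration

open Cfsg.FusionSystem Cfsg.Agent.Helper25

lemma pow_nsmul_eq_zero {n : ℕ} (a : Fin n → ℕ) (v : (i : Fin n) → ZMod (2 ^ a i)) :
    2 ^ (∑ i, a i) • v = 0 := by
  funext i
  show 2 ^ (∑ i, a i) • v i = 0
  have hle : a i ≤ ∑ i, a i :=
    Finset.single_le_sum (fun _ _ => Nat.zero_le _) (Finset.mem_univ i)
  have : ((2 ^ (∑ i, a i) : ℕ) : ZMod (2 ^ a i)) = 0 := by
    rw [ZMod.natCast_eq_zero_iff]
    exact pow_dvd_pow 2 hle
  rw [nsmul_eq_mul, this, zero_mul]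

/-- the additive automorphism of the product corresponding to an automorphism of `S` -/
def transport {X : Type*} [Group X] {M : Type*} [AddCommGroup M] (e : X ≃* Multiplicative M)
    (α : MulAut X) : M ≃+ M where
  toFun v := Multiplicative.toAdd (e (α (e.symm (Multiplicative.ofAdd v))))
  invFun v := Multiplicative.toAdd (e (α⁻¹ (e.symm (Multiplicative.ofAdd v))))
  left_inv v := by simp
  right_inv v := by simp
  map_add' v w := by
    rw [ofAdd_add, map_mul, map_mul, map_mul, toAdd_mul]

lemma transport_apply {X : Type*} [Group X] {M : Type*} [AddCommGroup M]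
    (e : X ≃* Multiplicative M) (α : MulAut X) (v : M) :
    transport e α v = Multiplicative.toAdd (e (α (e.symm (Multiplicative.ofAdd v)))) := rfl

lemma transport_iterate {X : Type*} [Group X] {M : Type*} [AddCommGroup M]
    (e : X ≃* Multiplicative M) (α : MulAut X) (k : ℕ) (v : M) :
    (transport e α)^[k] v = Multiplicative.toAdd (e ((α ^ k) (e.symm (Multiplicative.ofAdd v)))) := by
  induction k with
  | zero => simp
  | succ k ih =>
    rw [Function.iterate_succ_apply', ih, transport_apply, pow_succ', MulAut.mul_apply]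
    simp

/-- Let S be a finite abelian 2-group that is a direct product of cyclic groups of pairwise distinct orders 2^{a_1} < 2^{a_2} < ⋯ < 2^{a_n} (all a_i ≥ 1). Then every saturated fusion system over S is the inner one: its maps are exactly the conjugations by elements of S. -/
theorem result {Ω : Type*} [Group Ω] {S : Subgroup Ω} [Finite S] (n : ℕ) (a : Fin n → ℕ) (ha : StrictMono a) (ha1 : ∀ i, 1 ≤ a i) (e : ↥S ≃* Multiplicative ((i : Fin n) → ZMod (2 ^ a i))) (F : Cfsg.FusionSystem S) (hF : F.IsSaturated 2) (P : Subgroup Ω) : F.Hom P = (Cfsg.innerFusionSystem S).Hom P := by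
  have hab : ∀ x ∈ S, ∀ y ∈ S, x * y = y * x := by
    intro x hx y hy
    have h1 : e (⟨x, hx⟩ * ⟨y, hy⟩) = e (⟨y, hy⟩ * ⟨x, hx⟩) := by
      rw [map_mul, map_mul, mul_comm]
    exact congrArg Subtype.val (e.injective h1)
  have hS : IsPGroup 2 S := by
    intro g
    refine ⟨∑ i, a i, ?_⟩
    apply e.injective
    rw [map_pow, map_one]
    have h1 := pow_nsmul_eq_zero a (Multiplicative.toAdd (e g))
    have h2 : Multiplicative.ofAdd (2 ^ (∑ i, a i) • Multiplicative.toAdd (e g)) = 1 := by
      rw [h1]; rfl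
    rw [ofAdd_nsmul] at h2
    exact h2
  apply Set.Subset.antisymm
  · have hle : F ≤ innerFusionSystem S := by
      apply Cfsg.Agent.S5082.result 2 hS F hF
      intro P hP
      have hPeq : P = S := by
        rcases hP with h | h
        · exact h
        · have hPS : P ≤ S := h.1.1
          have h1 : centralizerIn S P ≤ P := h.1.2 P (isConj_refl F hPS)
          apply le_antisymm hPS
          intro s hs
          apply h1
          rw [mem_centralizerIn]
          exact ⟨hs, fun x hx => hab x (hPS hx) s hs⟩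
      subst hPeq
      intro α hα
      have hα1 : α = 1 := by
        obtain ⟨m, hm⟩ := IsPGroup.exists_card_eq hS
        rcases Nat.eq_zero_or_pos m with rfl | hmpos
        · rw [pow_zero] at hm
          haveI : Subsingleton P := (Nat.card_eq_one_iff_unique.mp hm).1
          ext x
          exact congrArg Subtype.val (Subsingleton.elim _ _)
        · have hcop := Cfsg.Agent.S5330.coprime_card 2 hS F hF hab
          have h2S : 2 ∣ Nat.card P := by rw [hm]; exact dvd_pow_self 2 (by omega)
          have hkdvd : orderOf α ∣ Nat.card (F.autGroup P) := by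
            have := orderOf_dvd_natCard (⟨α, hα⟩ : F.autGroup P)
            rwa [Subgroup.orderOf_mk] at this
          have hodd : Odd (orderOf α) := by
            rw [← Nat.not_even_iff_odd, even_iff_two_dvd]
            intro h2
            have h3 : 2 ∣ Nat.gcd (Nat.card P) (Nat.card (F.autGroup P)) :=
              Nat.dvd_gcd h2S (h2.trans hkdvd)
            rw [hcop] at h3
            omega
          have hid := addEquiv_eq_id a ha.injective (transport e α) (orderOf α) hodd (by
            intro v
            rw [transport_iterate, pow_orderOf_eq_one]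
            simp)
          ext x
          have h1 := hid (Multiplicative.toAdd (e x))
          rw [transport_apply] at h1
          have h2 : e (α x) = e x := by
            simpa using h1
          exact congrArg Subtype.val (e.injective h2)
      rw [hα1]
      exact Subgroup.one_mem _
    exact hle P
  · rintro φ ⟨hP, g, hg, h⟩
    have : φ = conjHom P g := by
      ext x; rw [h x, conjHom_apply]
    rw [this]
    exact F.conj_mem hP hg

end Cfsg.Agent.S5331
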