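import Mathlib
import Cfsg.Statements.S5333
import Cfsg.Agent.S5082
import Cfsg.Agent.S5097
import Cfsg.Agent.Lib.Helper25.FusionSat4

set_option autoImplicit false
open Cfsg

namespace Cfsg.Agent.S5333

open Cfsg.FusionSystem Cfsg.Agent.Helper25

variable {Ω : Type*} [Group Ω] {S : Subgroup Ω}

theorem aut_le_of_central [Finite S] (p : ℕ) [Fact p.Prime] (hS : IsPGroup p S)
    (F : FusionSystem S) (F' : FusionSystem S) (hF' : F'.IsSaturated p) (hle : F' ≤ F)
    (Z : Subgroup Ω) (hZS : Z ≤ S) (hZc : ∀ z ∈ Z, ∀ s ∈ S, s * z = z * s)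
    (hHom : F.Hom Z = F'.Hom Z) (hCen : ∀ P, F.centralizerHom Z P = F'.centralizerHom Z P)
    {P : Subgroup Ω} (hPS : P ≤ S) (hZP : Z ≤ P) : F.autGroup P ≤ F'.autGroup P := by
  have hcenZ : centralizerIn S Z = S := by
    apply le_antisymm inf_le_left
    intro s hs
    refine ⟨hs, ?_⟩
    show s ∈ Subgroup.centralizer (Z : Set Ω)
    rw [Subgroup.mem_centralizer_iff]
    intro z hz
    exact (hZc z hz s hs).symm
  have hfc : F'.IsFullyCentralized Z := by
    refine ⟨hZS, fun Q _ => ?_⟩
    rw [hcenZ]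
    exact Subgroup.card_le_of_le centralizerIn_le
  have hrec : F'.IsReceptive Z := isReceptive_of_fullyCentralized p hS F' hF' hfc
  intro α hα
  set φ : P →* Ω := P.subtype.comp α.toMonoidHom with hφ
  have hφF : φ ∈ F.Hom P := (mem_autGroup_iff F hPS α).mp hα
  set ψ : Z →* Ω := φ.comp (Subgroup.inclusion hZP) with hψ
  have hψF : ψ ∈ F.Hom Z := restrict_mem F hZP hφF
  have hψF' : ψ ∈ F'.Hom Z := hHom ▸ hψF
  obtain ⟨ψ', hψ', hinv, hrange⟩ := exists_inv F' hψF' rfl
  obtain ⟨ψh, hψh, hagree⟩ := hrec.2 ψ.range ψ' hψ' hrange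
  have hPcen : P ≤ centralizerIn S ψ.range := by
    intro x hx
    rw [mem_centralizerIn]
    refine ⟨hPS hx, ?_⟩
    rintro y ⟨z, rfl⟩
    -- `y = α z`, `x = α x'`
    have hx' : (⟨x, hx⟩ : P) = α (α⁻¹ ⟨x, hx⟩) := by simp
    have hcomm : (α⁻¹ ⟨x, hx⟩ : P) * Subgroup.inclusion hZP z
        = Subgroup.inclusion hZP z * (α⁻¹ ⟨x, hx⟩ : P) := by
      apply Subtype.ext
      exact hZc z z.2 _ (hPS (α⁻¹ ⟨x, hx⟩ : P).2)
    have h1 := congrArg (fun w : P => ((α w : P) : Ω)) hcomm
    simp only [map_mul, Subgroup.coe_mul, MulAut.apply_inv_self] at h1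
    exact h1.symm
  have hPext : P ≤ extender S ψ.range ψ' := hPcen.trans (centralizerIn_le_extender ψ')
  set θ : P →* Ω := ψh.comp (Subgroup.inclusion hPext) with hθ
  have hθF' : θ ∈ F'.Hom P := restrict_mem F' hPext hψh
  set χ : P →* Ω := θ.comp α.toMonoidHom with hχ
  have hχF : χ ∈ F.Hom P :=
    comp_mem' F hφF (hle _ hθF') (fun x => (α x).2) (fun x => rfl)
  have hχZ : ∀ x : Z, χ (Subgroup.inclusion hZP x) = x := by
    intro x
    have hmem : ψ x ∈ ψ.range := ⟨x, rfl⟩
    have h1 := hagree (ψ x) hmem (hPext (α (Subgroup.inclusion hZP x)).2)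
    have h2 := hinv x hmem
    rw [← h2, ← h1]
    rfl
  have hPcenZ : P ≤ centralizerIn S Z := by rw [hcenZ]; exact hPS
  have hle' : P ⊔ Z ≤ P := sup_le le_rfl hZP
  have hχcen : χ ∈ F.centralizerHom Z P := by
    refine ⟨hχF, hPcenZ, fun x => ?_, χ.comp (Subgroup.inclusion hle'), restrict_mem F hle' hχF,
      fun x => ?_, fun x => ?_⟩
    · rw [hcenZ]; exact (F.le_of_mem hχF).2 x
    · rfl
    · exact hχZ x
  have hχF' : χ ∈ F'.Hom P := by
    have : χ ∈ F'.centralizerHom Z P := hCen P ▸ hχcen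
    exact this.1
  obtain ⟨θ', hθ', hθinv, -⟩ := exists_inv F' hθF' rfl
  rw [mem_autGroup_iff F' hPS]
  refine comp_mem' F' hχF' hθ' (fun x => ⟨α x, rfl⟩) (fun x => ?_)
  exact (hθinv (α x) ⟨α x, rfl⟩).symm

/-- Let F′ ≤ F be saturated fusion systems over the same finite p-group S. Suppose that for every subgroup Z ≤ S of order p that is fully centralized in F′, the maps of F and of F′ with source Z coincide and the centralizer systems C_F(Z) and C_{F′}(Z) coincide. Then F = F′. -/
theorem result {Ω : Type*} [Group Ω] {S : Subgroup Ω} [Finite S] (p : ℕ) [Fact p.Prime] (hS : IsPGroup p S) (F : Cfsg.FusionSystem S) (hF : F.IsSaturated p) (F' : Cfsg.FusionSystem S) (hF' : F'.IsSaturated p) (hle : F' ≤ F) (hZ : ∀ Z : Subgroup Ω, Z ≤ S → Nat.card Z = p → F'.IsFullyCentralized Z → F.Hom Z = F'.Hom Z ∧ ∀ (C C' : Cfsg.FusionSystem (Cfsg.FusionSystem.centralizerIn S Z)), F.IsCentralizerSystem Z C → F'.IsCentralizerSystem Z C' → ∀ P : Subgroup Ω, C.Hom P = C'.Hom P) (P : Subgroup Ω) : F.Hom P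 = F'.Hom P := by
  have hp : p.Prime := Fact.out
  apply Set.Subset.antisymm _ (hle P)
  have hFF' : F ≤ F' := by
    apply Cfsg.Agent.S5082.result p hS F hF F'
    intro P hP
    have hPS : P ≤ S := by
      rcases hP with rfl | hP
      · exact le_rfl
      · exact hP.1.1
    rcases subsingleton_or_nontrivial S with hsub | hnt
    · -- trivial `S`
      intro α _
      have hPsub : Subsingleton P := by
        refine ⟨fun a b => ?_⟩
        have := Subsingleton.elim (⟨a, hPS a.2⟩ : S) ⟨b, hPS b.2⟩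
        exact Subtype.ext (congrArg (fun w : S => (w : Ω)) this)
      have : α = 1 := by
        ext x
        exact congrArg Subtype.val (Subsingleton.elim _ _)
      rw [this]; exact Subgroup.one_mem _
    · -- a central element of order `p`
      haveI := hS.center_nontrivial
      have hcp : IsPGroup p (Subgroup.center S) := hS.to_subgroup _
      obtain ⟨n, hn0, hn⟩ := (hcp.nontrivial_iff_card).mp inferInstance
      have hdvd : p ∣ Nat.card (Subgroup.center S) := by
        rw [hn]; exact dvd_pow_self p (by omega)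
      obtain ⟨z, hz⟩ := exists_prime_orderOf_dvd_card' p hdvd
      set z₀ : Ω := ((z : S) : Ω) with hz₀
      have hz₀ord : orderOf z₀ = p := by
        rw [hz₀, Subgroup.orderOf_coe, Subgroup.orderOf_coe, hz]
      set Z : Subgroup Ω := Subgroup.zpowers z₀ with hZdef
      have hZS : Z ≤ S := by
        rw [hZdef, Subgroup.zpowers_le]; exact (z : S).2
      have hZcard : Nat.card Z = p := by rw [hZdef, Nat.card_zpowers, hz₀ord]
      have hZc : ∀ z' ∈ Z, ∀ s ∈ S, s * z' = z' * s := by
        intro z' hz' s hs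
        obtain ⟨k, rfl⟩ := Subgroup.mem_zpowers_iff.mp hz'
        have h1 : (⟨s, hs⟩ : S) * (z : S) = (z : S) * ⟨s, hs⟩ :=
          (Subgroup.mem_center_iff.mp z.2 ⟨s, hs⟩)
        have h2 : s * z₀ = z₀ * s := congrArg (fun w : S => (w : Ω)) h1
        have h3 : Commute s z₀ := h2
        exact (h3.zpow_right k)
      have hcenZ : centralizerIn S Z = S := by
        apply le_antisymm inf_le_left
        intro s hs
        refine ⟨hs, ?_⟩
        show s ∈ Subgroup.centralizer (Z : Set Ω)
        rw [Subgroup.mem_centralizer_iff]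
        intro z hz
        exact (hZc z hz s hs).symm
      have hfc : F'.IsFullyCentralized Z := by
        refine ⟨hZS, fun Q _ => ?_⟩
        rw [hcenZ]
        exact Subgroup.card_le_of_le centralizerIn_le
      obtain ⟨hHom, hCen⟩ := hZ Z hZS hZcard hfc
      obtain ⟨C, hC⟩ := Cfsg.Agent.S5097.result F Z hZS
      obtain ⟨C', hC'⟩ := Cfsg.Agent.S5097.result F' Z hZS
      have hCen' : ∀ P, F.centralizerHom Z P = F'.centralizerHom Z P := by
        intro P
        rw [← hC P, ← hC' P]
        exact hCen C C' hC hC' P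
      have hZP : Z ≤ P := by
        rcases hP with rfl | hP
        · exact hZS
        · have h1 : centralizerIn S P ≤ P := hP.1.2 P (isConj_refl F hPS)
          apply le_trans _ h1
          intro z' hz'
          rw [mem_centralizerIn]
          exact ⟨hZS hz', fun x hx => hZc z' hz' x (hPS hx)⟩
      exact aut_le_of_central p hS F F' hF' hle Z hZS hZc hHom hCen' hPS hZP
  exact hFF' P

end Cfsg.Agent.S5333
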