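import Mathlib
import Cfsg.Statements.S5334
import Cfsg.Agent.Lib.Helper26.FusionCentric

set_option autoImplicit false
open Cfsg

namespace Cfsg.Agent.S5334

open Cfsg.FusionSystem Cfsg.Agent.Helper25 Cfsg.Agent.Helper26

/-- Let F′ ≤ F be saturated fusion systems over the same finite p-group S, let Q and R be F-centric subgroups, φ a map of F with source Q and values in R, and ψ a map of F with source R. If two of φ, ψ and the composite ψ ∘ φ are maps of F′ then so is the third. -/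
theorem result {Ω : Type*} [Group Ω] {S : Subgroup Ω} [Finite S] (p : ℕ) [Fact p.Prime] (hS : IsPGroup p S) (F : Cfsg.FusionSystem S) (hF : F.IsSaturated p) (F' : Cfsg.FusionSystem S) (hF' : F'.IsSaturated p) (hle : F' ≤ F) (Q R : Subgroup Ω) (hQ : F.IsCentric Q) (hR : F.IsCentric R) (φ : ↥Q →* Ω) (hφ : φ ∈ F.Hom Q) (hφR : ∀ x : Q, φ x ∈ R) (ψ : ↥R →* Ω) (hψ : ψ ∈ F.Hom R) : (φ ∈ F'.Hom Q → ψ ∈ F'.Hom R → ψ.comp (φ.codRestrict R hφR) ∈ F'.Hom Q) ∧ (ψ ∈ F'.Hom R → ψ.comp (φ.codRestrict R hφR) ∈ F'.Hom Q → φ ∈ F'.Hom Q) ∧ (φ ∈ F'.Hom Q → ψ.comp (φ.codRestrict R hφR) ∈ F'.Hom Q → ψ ∈ F'.Hom R) := by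
  refine ⟨fun h1 h2 => F'.comp_mem h1 h2 hφR, fun h2 h3 => ?_, fun h1 h3 => ?_⟩
  · obtain ⟨ψinv, hψinv, hinv⟩ := F'.inv_mem h2
    refine comp_mem' F' h3 hψinv (fun x => ⟨_, rfl⟩) (fun x => ?_)
    exact (hinv (φ.codRestrict R hφR x)).symm
  · obtain ⟨φinv, hφinv, hinv⟩ := F'.inv_mem h1
    have hPR : φ.range ≤ R := by
      rintro _ ⟨x, rfl⟩; exact hφR x
    have hcen : F.IsCentric φ.range := by
      refine ⟨range_le F hφ, fun Q' hQ' => ?_⟩
      exact hQ.2 Q' (isConj_trans F ⟨φ, hφ, rfl⟩ hQ')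
    have hval : ∀ y : φ.range, φinv y ∈ Q := by
      rintro ⟨_, x, rfl⟩
      rw [hinv x]; exact x.2
    have hres : ψ.comp (Subgroup.inclusion hPR) ∈ F'.Hom φ.range := by
      refine comp_mem' F' hφinv h3 hval ?_
      rintro ⟨_, x, rfl⟩
      have : (⟨φinv ⟨φ x, ⟨x, rfl⟩⟩, hval ⟨φ x, ⟨x, rfl⟩⟩⟩ : Q) = x := Subtype.ext (hinv x)
      rw [this]
      rfl
    exact mem_of_restrict_mem_centric p hS F hF F' hF' hle hψ hPR hcen hres

end Cfsg.Agent.S5334
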