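import Mathlib
import Cfsg.Statements.S5335
import Cfsg.Agent.S5082
import Cfsg.Agent.Lib.Helper25.FusionNormal
import Cfsg.Agent.Lib.Helper26.FusionCentric

set_option autoImplicit false
open Cfsg

namespace Cfsg.Agent.S5335

open Cfsg.FusionSystem Cfsg.Agent.Helper25 Cfsg.Agent.Helper26

/-- Let F′ ≤ F be saturated fusion systems over the same finite p-group S. If the maps of F and of F′ with source Q coincide for every F-centric subgroup Q that is minimal among F-centric subgroups, then F = F′. -/
theorem result {Ω : Type*} [Group Ω] {S : Subgroup Ω} [Finite S] (p : ℕ) [Fact p.Prime] (hS : IsPGroup p S) (F : Cfsg.FusionSystem S) (hF : F.IsSaturated p) (F' : Cfsg.FusionSystem S) (hF' : F'.IsSaturated p) (hle : F' ≤ F) (hmin : ∀ Q : Subgroup Ω, F.IsCentric Q → (∀ R : Subgroup Ω, R < Q → ¬ F.IsCentric R) → F.Hom Q = F'.Hom Q) (P : Subgroup Ω) : F.Hom P = F'.Hom P := by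
  apply Set.Subset.antisymm _ (hle P)
  apply Cfsg.Agent.S5082.result p hS F hF F'
  intro P hP
  have hcen : F.IsCentric P := by
    rcases hP with rfl | hess
    · refine ⟨le_rfl, fun Q hQ => ?_⟩
      have hQS : Q ≤ P := isConj_le_right F hQ
      obtain ⟨φ, hφ, rfl⟩ := hQ
      have : φ.range = P := by
        apply Subgroup.eq_of_le_of_card_ge hQS
        exact le_of_eq (Nat.card_congr (homEquiv F hφ).toEquiv)
      rw [this]
      exact centralizerIn_le
    · exact hess.1
  have hPS : P ≤ S := hcen.1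
  unfold FusionSystem.autGroup
  apply (Subgroup.closure_le _).2
  intro α hα
  apply Subgroup.subset_closure
  -- a minimal centric subgroup of P
  have hfin : {Q : Subgroup Ω | Q ≤ P ∧ F.IsCentric Q}.Finite :=
    (finite_subgroups_le S).subset fun Q hQ => hQ.1.trans hPS
  obtain ⟨Q, ⟨hQP, hQcen⟩, hQmin⟩ :=
    Set.exists_min_image _ (fun Q : Subgroup Ω => Nat.card Q) hfin ⟨P, le_rfl, hcen⟩
  have hQminimal : ∀ R : Subgroup Ω, R < Q → ¬ F.IsCentric R := by
    intro R hRQ hRcen
    have h1 := hQmin R ⟨hRQ.le.trans hQP, hRcen⟩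
    haveI : Finite Q := finite_of_le_finite (hQP.trans hPS)
    have h2 := Subgroup.eq_of_le_of_card_ge hRQ.le h1
    exact hRQ.ne h2
  have hQeq := hmin Q hQcen hQminimal
  have hres : (P.subtype.comp α.toMonoidHom).comp (Subgroup.inclusion hQP) ∈ F'.Hom Q := by
    rw [← hQeq]
    exact restrict_mem F hQP hα
  exact mem_of_restrict_mem_centric p hS F hF F' hF' hle hα hQP hQcen hres

end Cfsg.Agent.S5335
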