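import Mathlib
import Cfsg.Statements.S5336
import Cfsg.Agent.S5118

set_option autoImplicit false
open Cfsg

namespace Cfsg.Agent.S5336

/-- A normal subgroup meeting a Sylow `p`-subgroup trivially has order prime to `p`. -/
theorem coprime_card_of_inf_eq_bot {G : Type*} [Group G] [Finite G] (p : ℕ) [Fact p.Prime]
    (S : Sylow p G) (N : Subgroup G) [N.Normal] (h : (S : Subgroup G) ⊓ N = ⊥) :
    (Nat.card N).Coprime p := by
  have hp : p.Prime := Fact.out
  rw [Nat.coprime_comm, Nat.Prime.coprime_iff_not_dvd hp]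
  intro hdvd
  obtain ⟨x, hx⟩ := exists_prime_orderOf_dvd_card' p hdvd
  -- the cyclic group generated by x (in G) is a p-group
  have hxG : orderOf (x : G) = p := by rw [Subgroup.orderOf_coe]; exact hx
  have hpg : IsPGroup p (Subgroup.zpowers (x : G)) := by
    apply IsPGroup.of_card (n := 1)
    rw [Nat.card_zpowers, hxG, pow_one]
  obtain ⟨g, hg⟩ := hpg.exists_le_sylow
  obtain ⟨k, hk⟩ := MulAction.exists_smul_eq G g S
  -- k • g = S, so k x k⁻¹ ∈ S
  have h1 : (x : G) ∈ (g : Subgroup G) := hg (Subgroup.mem_zpowers _)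
  have h2 : k * (x : G) * k⁻¹ ∈ (S : Subgroup G) := by
    rw [← hk]
    rw [Sylow.coe_subgroup_smul, Subgroup.mem_pointwise_smul_iff_inv_smul_mem]
    simpa [MulAut.smul_def, mul_assoc] using h1
  have h3 : k * (x : G) * k⁻¹ ∈ N := (inferInstance : N.Normal).conj_mem _ x.2 k
  have h4 : k * (x : G) * k⁻¹ ∈ (⊥ : Subgroup G) := h ▸ ⟨h2, h3⟩
  rw [Subgroup.mem_bot] at h4
  have h5 : (x : G) = 1 := by
    have := congrArg (fun y => k⁻¹ * y * k) h4
    simpa [mul_assoc] using this
  rw [h5, orderOf_one] at hxG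
  exact hp.ne_one hxG.symm

/-- Let G be a finite group with Sylow p-subgroup S whose fusion system F_S(G) is simple. If G has no nontrivial normal subgroup of order prime to p and no proper subgroup H containing S induces the same fusion system on S as G does, then G is a simple group. -/
theorem result {G : Type*} [Group G] [Finite G] (p : ℕ) [Fact p.Prime] (S : Sylow p G) (hsimple : (Cfsg.groupFusionSystem (S : Subgroup G)).IsSimple p) (hcore : Cfsg.pPrimeCore p G = ⊥) (hmin : ∀ (H : Subgroup G) (hSH : (S : Subgroup G) ≤ H), H ≠ ⊤ → ∃ P : Subgroup G, (Cfsg.fusionSystemOfSubgroup H (S : Subgroup G) hSH).Hom P ≠ (Cfsg.groupFusionSystem (S : Subgroup G)).Hom P) : IsSimpleGroup G := by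
  obtain ⟨-, hSne, hall⟩ := hsimple
  have hnt : Nontrivial G := by
    by_contra hc
    rw [not_nontrivial_iff_subsingleton] at hc
    exact hSne (Subsingleton.elim _ _)
  refine { exists_pair_ne := hnt.exists_pair_ne, eq_bot_or_eq_top_of_normal := ?_ }
  intro N hN
  haveI := hN
  rcases hall _ _ (Cfsg.Agent.S5118.result p S N) with h | ⟨h, hH⟩
  · left
    have hcop := coprime_card_of_inf_eq_bot p S N h
    have hle : N ≤ Cfsg.pPrimeCore p G := le_sSup ⟨hN, hcop⟩
    rw [hcore] at hle
    exact le_bot_iff.mp hle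
  · right
    by_contra hne
    have hSN : (S : Subgroup G) ≤ N := by
      rw [← h]; exact inf_le_right
    obtain ⟨P, hP⟩ := hmin N hSN hne
    apply hP
    rw [← hH P]
    ext φ
    constructor
    · rintro ⟨h1, h2, h3⟩
      exact ⟨h.symm ▸ h1, fun x => h.symm ▸ h2 x, h3⟩
    · rintro ⟨h1, h2, h3⟩
      exact ⟨h ▸ h1, fun x => h ▸ h2 x, h3⟩

end Cfsg.Agent.S5336
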