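import Mathlib
import Cfsg.Statements.S5338
import Cfsg.Agent.S5082
import Cfsg.Agent.S5327
import Cfsg.Agent.Lib.Helper25.FusionSat4

set_option autoImplicit false
open Cfsg

namespace Cfsg.Agent.S5338

open Cfsg.FusionSystem Cfsg.Agent.Helper25

variable {Ω : Type*} [Group Ω] {S : Subgroup Ω}

/-- the system that is `F` on subgroups of order at most `n` and `F ∩ F'` above -/
def trunc [Finite S] (F F' : FusionSystem S) (n : ℕ) : FusionSystem S :=
  Cfsg.Agent.S5327.mixed F F' (fun P => n < Nat.card P)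
    (by
      intro P Q φ hC hφ hQS h
      haveI : Finite Q := finite_of_le_finite hQS
      have hinj := F.injective_of_mem hφ
      have hle : Nat.card P ≤ Nat.card Q :=
        Nat.card_le_card_of_injective (fun x => (⟨φ x, h x⟩ : Q))
          (fun a b hab => hinj (congrArg Subtype.val hab))
      exact lt_of_lt_of_le hC hle)
    (by
      intro P φ hφ hC
      have : Nat.card P = Nat.card φ.range :=
        Nat.card_congr (MonoidHom.ofInjective (F.injective_of_mem hφ)).toEquiv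
      show n < Nat.card P
      rw [this]; exact hC)

lemma mem_trunc_iff [Finite S] (F F' : FusionSystem S) (n : ℕ) {P : Subgroup Ω} (φ : P →* Ω) :
    φ ∈ (trunc F F' n).Hom P ↔ φ ∈ F.Hom P ∧ (n < Nat.card P → φ ∈ F'.Hom P) := Iff.rfl

/-- invariance: conjugating an `F'`-automorphism of `P` by an `F`-automorphism stays in `F'` -/
lemma conj_mem_autGroup (F F' : FusionSystem S)
    (hinv : ∀ (Q : Subgroup Ω) (φ : ↥Q →* Ω), φ ∈ F.Hom Q → ∀ (R : Subgroup Ω) (hRQ : R ≤ Q) (ψ : ↥R →* Ω), ψ ∈ F'.Hom R → ∀ (hψQ : ∀ x : R, ψ x ∈ Q), ∃ χ ∈ F'.Hom ((R.subgroupOf Q).map φ), ∀ (x : R) (hx : φ ⟨(x : Ω), hRQ x.2⟩ ∈ (R.subgroupOf Q).map φ), χ ⟨φ ⟨(x : Ω), hRQ x.2⟩, hx⟩ = φ ⟨ψ x, hψQ x⟩)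
    {P : Subgroup Ω} (hPS : P ≤ S) {α τ : MulAut P} (hα : α ∈ F.autGroup P)
    (hτ : τ ∈ F'.autGroup P) : α * τ * α⁻¹ ∈ F'.autGroup P := by
  have hαF := (mem_autGroup_iff F hPS α).1 hα
  have hτF := (mem_autGroup_iff F' hPS τ).1 hτ
  obtain ⟨χ, hχ, hχspec⟩ := hinv P _ hαF P le_rfl _ hτF (fun x => (τ x).2)
  have hEq : P = (P.subgroupOf P).map (P.subtype.comp α.toMonoidHom) := by
    ext y
    constructor
    · intro hy
      refine ⟨α⁻¹ ⟨y, hy⟩, Subgroup.mem_subgroupOf.mpr (α⁻¹ ⟨y, hy⟩).2, ?_⟩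
      show ((α (α⁻¹ ⟨y, hy⟩) : P) : Ω) = y
      simp
    · rintro ⟨x, -, rfl⟩
      exact (α x).2
  rw [mem_autGroup_iff F' hPS]
  have h1 := hom_transport F' hEq hχ
  have : P.subtype.comp (α * τ * α⁻¹).toMonoidHom = χ.comp (Subgroup.inclusion hEq.le) := by
    ext y
    have hy : (y : Ω) = ((α (α⁻¹ y) : P) : Ω) := by simp
    have hx := hχspec (α⁻¹ y) (by
      refine ⟨α⁻¹ y, Subgroup.mem_subgroupOf.mpr (α⁻¹ y).2, rfl⟩)
    show (((α * τ * α⁻¹) y : P) : Ω) = χ (Subgroup.inclusion hEq.le y)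
    have e1 : (Subgroup.inclusion hEq.le y) =
        ⟨(P.subtype.comp α.toMonoidHom) ⟨((α⁻¹ y : P) : Ω), (le_refl P) (α⁻¹ y).2⟩, by
          refine ⟨α⁻¹ y, Subgroup.mem_subgroupOf.mpr (α⁻¹ y).2, rfl⟩⟩ := by
      apply Subtype.ext
      show (y : Ω) = ((α (α⁻¹ y) : P) : Ω)
      exact hy
    rw [e1, hx]
    rfl
  rw [this]; exact h1

/-- Frattini step: automorphisms of a fully normalized proper subgroup -/
lemma aut_le_of_fullyNormalized [Finite S] (p : ℕ) [Fact p.Prime] (hS : IsPGroup p S)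
    (F : FusionSystem S) (hF : F.IsSaturated p) (F' : FusionSystem S) (hle : F' ≤ F)
    (hinv : ∀ (Q : Subgroup Ω) (φ : ↥Q →* Ω), φ ∈ F.Hom Q → ∀ (R : Subgroup Ω) (hRQ : R ≤ Q) (ψ : ↥R →* Ω), ψ ∈ F'.Hom R → ∀ (hψQ : ∀ x : R, ψ x ∈ Q), ∃ χ ∈ F'.Hom ((R.subgroupOf Q).map φ), ∀ (x : R) (hx : φ ⟨(x : Ω), hRQ x.2⟩ ∈ (R.subgroupOf Q).map φ), χ ⟨φ ⟨(x : Ω), hRQ x.2⟩, hx⟩ = φ ⟨ψ x, hψQ x⟩)
    {P : Subgroup Ω} (hfn : F.IsFullyNormalized P) (hne : P ≠ S)
    (IH : ∀ (R : Subgroup Ω) (ψ : R →* Ω), ψ ∈ F.Hom R → Nat.card P < Nat.card R → ψ ∈ F'.Hom R) :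
    F.autGroup P ≤ F'.autGroup P := by
  have hPS : P ≤ S := hfn.1
  haveI : Finite P := finite_of_le_finite hPS
  obtain ⟨-, hfa, hrec⟩ := of_fullyNormalized p hS F hF hfn
  have hsyl := (isFullyAutomized_iff F p hPS).1 hfa
  have hA'A : F'.autGroup P ≤ F.autGroup P := by
    intro τ hτ
    rw [mem_autGroup_iff F hPS]
    exact hle P ((mem_autGroup_iff F' hPS τ).1 hτ)
  have hTA' : autInducedBy S P ≤ F'.autGroup P := autInducedBy_le_autGroup F' hPS
  have hsyl' : IsSylowIn p (autInducedBy S P) (F'.autGroup P) := hsyl.of_le hTA' hA'A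
  intro α hα
  -- conjugate of T by α lies in A'
  have hL : Cfsg.conjBy (autInducedBy S P) α ≤ F'.autGroup P := by
    intro σ hσ
    rw [mem_conjBy] at hσ
    have h1 := conj_mem_autGroup F F' hinv hPS hα (hTA' hσ)
    have : α * (α⁻¹ * σ * α) * α⁻¹ = σ := by group
    rwa [this] at h1
  have hLp : IsPGroup p (Cfsg.conjBy (autInducedBy S P) α) := isPGroup_conjBy hsyl.2.1 α
  obtain ⟨k, hk, hkle⟩ := hsyl'.exists_conj_le hL hLp
  rw [conjBy_conjBy] at hkle
  -- γ = k * α normalizes T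
  set γ : MulAut P := k * α with hγ
  have hγA : γ ∈ F.autGroup P := Subgroup.mul_mem _ (hA'A hk) hα
  have hγF := (mem_autGroup_iff F hPS γ).1 hγA
  have hNext : normalizerIn S P ≤ extender S P (P.subtype.comp γ.toMonoidHom) := by
    apply normalizerIn_le_extender
    intro g hg
    set τ : MulAut P := P.normalizerMonoidHom ⟨g, hg.2⟩ with hτ
    have hτT : τ ∈ autInducedBy S P := (mem_autInducedBy_iff τ).2 ⟨g, hg.1, fun x => rfl⟩
    have hmem : γ * τ * γ⁻¹ ∈ Cfsg.conjBy (autInducedBy S P) γ := by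
      rw [mem_conjBy]
      have : γ⁻¹ * (γ * τ * γ⁻¹) * γ = τ := by group
      rw [this]; exact hτT
    obtain ⟨h, hh, hhspec⟩ := (mem_autInducedBy_iff _).1 (hkle hmem)
    refine ⟨h, hh, fun x hx => ?_⟩
    have := hhspec (γ x)
    rw [MulAut.mul_apply, MulAut.mul_apply, MulAut.inv_apply_self] at this
    exact this
  have hrange : (P.subtype.comp γ.toMonoidHom).range = P := by
    ext y
    constructor
    · rintro ⟨x, rfl⟩; exact (γ x).2
    · intro hy
      exact ⟨γ⁻¹ ⟨y, hy⟩, by show ((γ (γ⁻¹ ⟨y, hy⟩) : P) : Ω) = y; simp⟩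
  obtain ⟨ψ, hψ, hψext⟩ := hrec.2 P _ hγF hrange
  obtain ⟨g, hgN, hgP⟩ := exists_mem_normalizerIn_not_mem hS hPS hne
  have hPext : P ≤ extender S P (P.subtype.comp γ.toMonoidHom) := le_extender F hγF
  have hlt : Nat.card P < Nat.card (extender S P (P.subtype.comp γ.toMonoidHom)) := by
    haveI : Finite (extender S P (P.subtype.comp γ.toMonoidHom)) :=
      finite_of_le_finite (extender_le S _)
    apply Nat.lt_of_not_le
    intro hcard
    have h := Subgroup.eq_of_le_of_card_ge hPext hcard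
    exact hgP (h ▸ hNext hgN)
  have hψ' := IH _ ψ hψ hlt
  have hγF' : P.subtype.comp γ.toMonoidHom ∈ F'.Hom P := by
    have h1 := restrict_mem F' hPext hψ'
    have : ψ.comp (Subgroup.inclusion hPext) = P.subtype.comp γ.toMonoidHom := by
      ext x
      exact hψext x x.2 (hPext x.2)
    rwa [this] at h1
  have hγA' : γ ∈ F'.autGroup P := (mem_autGroup_iff F' hPS γ).2 hγF'
  have : α = k⁻¹ * γ := by rw [hγ]; group
  rw [this]
  exact Subgroup.mul_mem _ (Subgroup.inv_mem _ hk) hγA'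

/-- Let F be a saturated fusion system over a finite p-group S and F′ ≤ F a saturated subsystem over all of S that is invariant under F in the conjugation sense: for every map φ of F with source Q and every map ψ of F′ between subgroups R ≤ Q (with values in Q), the transported map φψφ⁻¹ defined on φ(R) is again a map of F′. If moreover Aut_{F′}(S) = Aut_F(S), then F′ = F. -/
theorem result {Ω : Type*} [Group Ω] {S : Subgroup Ω} [Finite S] (p : ℕ) [Fact p.Prime] (hS : IsPGroup p S) (F : Cfsg.FusionSystem S) (hF : F.IsSaturated p) (F' : Cfsg.FusionSystem S) (hF' : F'.IsSaturated p) (hle : F' ≤ F) (hinv : ∀ (Q : Subgroup Ω) (φ : ↥Q →* Ω), φ ∈ F.Hom Q → ∀ (R : Subgroup Ω) (hRQ : R ≤ Q) (ψ : ↥R →* Ω), ψ ∈ F'.Hom R → ∀ (hψQ : ∀ x : R, ψ x ∈ Q), ∃ χ ∈ F'.Hom ((R.subgroupOf Q).map φ), ∀ (x : R) (hx : φ ⟨(x : Ω), hRQ x.2⟩ ∈ (R.subgroupOf Q).map φ), χ ⟨φ ⟨(x : Ω), hRQ x.2⟩, hx⟩ = φ ⟨ψ x, hψQ x⟩) (htop : F'.autGroup S = F.autGroup S) (P : Subgroup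 Ω) : F'.Hom P = F.Hom P := by
  have claim : ∀ k n : ℕ, Nat.card S ≤ n + k → F ≤ trunc F F' n := by
    intro k
    induction k with
    | zero =>
      intro n hn P φ hφ
      refine ⟨hφ, fun hlt => ?_⟩
      have := Subgroup.card_le_of_le (F.le_of_mem hφ).1
      omega
    | succ k ih =>
      intro n hn
      have hIH : F ≤ trunc F F' (n + 1) := ih (n + 1) (by omega)
      apply Cfsg.Agent.S5082.result p hS F hF
      intro P hP
      unfold FusionSystem.autGroup
      apply (Subgroup.closure_le _).2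
      intro α hα
      apply Subgroup.subset_closure
      refine ⟨hα, fun hlt => ?_⟩
      have hPS : P ≤ S := (F.le_of_mem hα).1
      have hαA : α ∈ F.autGroup P := Subgroup.subset_closure hα
      by_cases hbig : n + 1 < Nat.card P
      · exact (hIH P hα).2 hbig
      · have hcard : Nat.card P = n + 1 := by omega
        by_cases hPeq : P = S
        · subst hPeq
          rw [← htop] at hαA
          exact (mem_autGroup_iff F' le_rfl α).1 hαA
        · have hess : F.IsEssential p P := by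
            rcases hP with h | h
            · exact absurd h hPeq
            · exact h
          have h1 := aut_le_of_fullyNormalized p hS F hF F' hle hinv hess.2.1 hPeq
            (fun R ψ hψ hlt' => (hIH R hψ).2 (by omega))
          exact (mem_autGroup_iff F' hPS α).1 (h1 hαA)
  apply Set.Subset.antisymm (hle P)
  intro φ hφ
  have hPS : P ≤ S := (F.le_of_mem hφ).1
  haveI : Finite P := finite_of_le_finite hPS
  exact (claim (Nat.card S) 0 (by omega) P hφ).2 Nat.card_pos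

end Cfsg.Agent.S5338
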