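import Mathlib
import Cfsg.Statements.S5341
import Cfsg.Agent.Lib.Helper25.FusionSat4

set_option autoImplicit false
open Cfsg

namespace Cfsg.Agent.S5341

open Cfsg.FusionSystem Cfsg.Agent.Helper25

/-- Let F be a saturated fusion system over a finite p-group S, T a subgroup strongly closed in F, and F′ any fusion system over T all of whose maps are maps of F. For a subgroup Q ≤ T: if Q is fully centralized in F then it is fully centralized in F′, and if Q is fully normalized in F then it is fully normalized in F′. -/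
theorem result {Ω : Type*} [Group Ω] {S : Subgroup Ω} [Finite S] (p : ℕ) [Fact p.Prime] (hS : IsPGroup p S) (F : Cfsg.FusionSystem S) (hF : F.IsSaturated p) (T : Subgroup Ω) (hT : F.StronglyClosed T) (F' : Cfsg.FusionSystem T) (hsub : F'.IsSubsystemOf F) (Q : Subgroup Ω) (hQT : Q ≤ T) : (F.IsFullyCentralized Q → F'.IsFullyCentralized Q) ∧ (F.IsFullyNormalized Q → F'.IsFullyNormalized Q) := by
  have hTS : T ≤ S := hT.1
  constructor
  · intro hQ
    refine ⟨hQT, fun Q' hQQ' => ?_⟩
    have hrec : F.IsReceptive Q := isReceptive_of_fullyCentralized p hS F hF hQ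
    have hconj : F.IsConj Q Q' := by
      obtain ⟨φ, hφ, hr⟩ := hQQ'
      exact ⟨φ, hsub Q hφ, hr⟩
    obtain ⟨χ, hχ, hχr⟩ := isConj_symm F hconj
    obtain ⟨ψ, hψ, hext⟩ := hrec.2 Q' χ hχ hχr
    have hψinj := F.injective_of_mem hψ
    have hCT : centralizerIn T Q' ≤ extender S Q' χ := by
      refine le_trans ?_ (centralizerIn_le_extender (S := S) χ)
      intro c hc
      exact ⟨hTS hc.1, hc.2⟩
    have hCT' : centralizerIn T Q' ≤ T := centralizerIn_le
    have hQ'ext : Q' ≤ extender S Q' χ := le_extender F hχ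
    -- values in T
    have hval : ∀ c : centralizerIn T Q', ψ ⟨c, hCT c.2⟩ ∈ T := by
      intro c
      exact hT.2 _ hCT' _ (restrict_mem F hCT hψ) c
    have hcen : ∀ c : centralizerIn T Q', ψ ⟨c, hCT c.2⟩ ∈ centralizerIn T Q := by
      intro c
      rw [mem_centralizerIn]
      refine ⟨hval c, fun y hy => ?_⟩
      rw [← hχr] at hy
      obtain ⟨x, rfl⟩ := hy
      rw [← hext x x.2 (hQ'ext x.2), ← map_mul, ← map_mul]
      congr 1
      apply Subtype.ext
      show (x : Ω) * c = c * x
      exact (mem_centralizerIn.mp c.2).2 x x.2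
    haveI : Finite (centralizerIn T Q) :=
      finite_of_le_finite (S := S) (le_trans centralizerIn_le hTS)
    refine Nat.card_le_card_of_injective (fun c => ⟨ψ ⟨c, hCT c.2⟩, hcen c⟩) ?_
    intro a b hab
    have h1 := congrArg Subtype.val hab
    have h2 := hψinj h1
    have h3 : (a : Ω) = (b : Ω) := by simpa using h2
    exact Subtype.ext h3
  · intro hQ
    refine ⟨hQT, fun Q' hQQ' => ?_⟩
    obtain ⟨-, hfa, hrec⟩ := of_fullyNormalized p hS F hF hQ
    have hconj : F.IsConj Q Q' := by
      obtain ⟨φ, hφ, hr⟩ := hQQ'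
      exact ⟨φ, hsub Q hφ, hr⟩
    obtain ⟨φ, hφ, hφN, -, -⟩ := exists_normalizer_map p hS F Q Q' hfa hrec (isConj_symm F hconj)
    have hφinj := F.injective_of_mem hφ
    have hNT : normalizerIn T Q' ≤ normalizerIn S Q' := by
      intro c hc
      exact ⟨hTS hc.1, hc.2⟩
    have hNT' : normalizerIn T Q' ≤ T := normalizerIn_le
    have hval : ∀ c : normalizerIn T Q', φ ⟨c, hNT c.2⟩ ∈ T := by
      intro c
      exact hT.2 _ hNT' _ (restrict_mem F hNT hφ) c
    have hnor : ∀ c : normalizerIn T Q', φ ⟨c, hNT c.2⟩ ∈ normalizerIn T Q := by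
      intro c
      exact ⟨hval c, (hφN ⟨c, hNT c.2⟩).2⟩
    haveI : Finite (normalizerIn T Q) :=
      finite_of_le_finite (S := S) (le_trans normalizerIn_le hTS)
    refine Nat.card_le_card_of_injective (fun c => ⟨φ ⟨c, hNT c.2⟩, hnor c⟩) ?_
    intro a b hab
    have h1 := congrArg Subtype.val hab
    have h2 := hφinj h1
    have h3 : (a : Ω) = (b : Ω) := by simpa using h2
    exact Subtype.ext h3

end Cfsg.Agent.S5341
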