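import Mathlib
import Cfsg.Statements.S5345

set_option autoImplicit false
universe u
open Cfsg

namespace Cfsg.Agent.S5345

lemma sq_of_order_two {G : Type*} [Group G] {x : G} (hx : orderOf x = 2) : x * x = 1 := by
  have h2 : x ^ 2 = 1 := by rw [← hx]; exact pow_orderOf_eq_one x
  simpa [pow_two] using h2

lemma commute_of_mul_sq {G : Type*} [Group G] {a y : G} (ha : a * a = 1) (hy : y * y = 1)
    (h : (a * y) ^ 2 = 1) : Commute a y := by
  show a * y = y * a
  have h1 : a * y * (a * y) = 1 := by simpa [pow_two] using h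
  have h2 : a * y * (y * a) = 1 := by
    calc a * y * (y * a) = a * (y * y) * a := by group
      _ = 1 := by rw [hy, mul_one, ha]
  exact mul_left_cancel (a := a * y) (h1.trans h2.symm) |>.symm ▸ rfl

/-- all elements of the closure of a pairwise-commuting set of involutions square to one -/
lemma sq_closure {G : Type*} [Group G] {E : Set G} (hinv : ∀ e ∈ E, e * e = 1)
    (hcomm : ∀ a ∈ E, ∀ b ∈ E, a * b = b * a) : ∀ x ∈ Subgroup.closure E, x * x = 1 := by
  have CG := Subgroup.isMulCommutative_closure hcomm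
  intro x hx
  induction hx using Subgroup.closure_induction with
  | mem x hx => exact hinv x hx
  | one => simp
  | mul x y hx hy ihx ihy =>
    have hc : x * y = y * x := congrArg Subtype.val (CG.is_comm.comm ⟨x, hx⟩ ⟨y, hy⟩)
    calc x * y * (x * y) = x * (y * x) * y := by group
      _ = x * (x * y) * y := by rw [hc]
      _ = (x * x) * (y * y) := by group
      _ = 1 := by rw [ihx, ihy, one_mul]
  | inv x hx ihx =>
    have : x⁻¹ = x := inv_eq_of_mul_eq_one_left ihx
    rw [this, ihx]

/-- Let D be a conjugation-invariant generating set of 3-transpositions of a finite group G and T a Sylow 2-subgroup of G. Then the members of D lying in T generate an abelian subgroup, and their number is the width of D (the largest number of pairwise commuting members of D). -/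
theorem result {G : Type*} [Group G] [Finite G] {D : Set G} (hD : Cfsg.IsThreeTranspositionGroup D) (T : Sylow 2 G) : IsMulCommutative (Subgroup.closure {d : G | d ∈ D ∧ d ∈ T}) ∧ {d : G | d ∈ D ∧ d ∈ T}.ncard = Cfsg.commutingWidth D := by
  obtain ⟨⟨hord, hprod⟩, hconj, -⟩ := hD
  have hsq : ∀ d ∈ D, d * d = 1 := fun d hd => sq_of_order_two (hord d hd)
  -- pairwise commuting of D ∩ T
  have hcomm : ∀ a ∈ {d : G | d ∈ D ∧ d ∈ T}, ∀ b ∈ {d : G | d ∈ D ∧ d ∈ T}, a * b = b * a := by
    rintro a ⟨haD, haT⟩ b ⟨hbD, hbT⟩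
    have habT : a * b ∈ (T : Subgroup G) := (T : Subgroup G).mul_mem haT hbT
    obtain ⟨k, hk⟩ := T.isPGroup' ⟨a * b, habT⟩
    have hk' : (a * b) ^ (2 ^ k) = 1 := by
      have := congrArg Subtype.val hk
      simpa using this
    rcases hprod a haD b hbD with h | h
    · exact commute_of_mul_sq (hsq a haD) (hsq b hbD) h
    · have hcop : Nat.Coprime (2 ^ k) 3 := by
        apply Nat.Coprime.pow_left; norm_num
      have := pow_gcd_eq_one.mpr ⟨hk', h⟩
      rw [Nat.Coprime.gcd_eq_one hcop, pow_one] at this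
      have hb : b = a⁻¹ := eq_inv_of_mul_eq_one_right this
      have hainv : a⁻¹ = a := inv_eq_of_mul_eq_one_left (hsq a haD)
      rw [hb, hainv]
  refine ⟨?_, ?_⟩
  · exact Subgroup.isMulCommutative_closure hcomm
  · -- width
    set A : Set G := {d : G | d ∈ D ∧ d ∈ T} with hA
    have hAfin : A.Finite := Set.toFinite A
    unfold Cfsg.commutingWidth
    set W : Set ℕ := {n : ℕ | ∃ E : Set G, E ⊆ D ∧ E.Finite ∧ (∀ a ∈ E, ∀ b ∈ E, Commute a b) ∧ E.ncard = n} with hW
    have hmem : A.ncard ∈ W := ⟨A, fun x hx => hx.1, hAfin, fun a ha b hb => hcomm a ha b hb, rfl⟩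
    have hbound : ∀ n ∈ W, n ≤ A.ncard := by
      rintro n ⟨E, hED, -, hEc, rfl⟩
      have hEinv : ∀ e ∈ E, e * e = 1 := fun e he => hsq e (hED he)
      have hEsq := sq_closure hEinv (fun a ha b hb => hEc a ha b hb)
      have hP : IsPGroup 2 (Subgroup.closure E) := by
        rintro ⟨x, hx⟩
        refine ⟨1, ?_⟩
        apply Subtype.ext
        simp only [pow_one, Subgroup.coe_one, pow_two]
        exact hEsq x hx
      obtain ⟨Q, hQ⟩ := hP.exists_le_sylow
      obtain ⟨g, hg⟩ := MulAction.exists_smul_eq G T Q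
      -- map x ↦ g⁻¹ x g from E into A
      apply Set.ncard_le_ncard_of_injOn (fun x => g⁻¹ * x * g⁻¹⁻¹) ?_ ?_ hAfin
      · intro x hx
        refine ⟨hconj g⁻¹ x (hED hx), ?_⟩
        have hxQ : x ∈ (Q : Subgroup G) := hQ (Subgroup.subset_closure hx)
        rw [← hg, Sylow.coe_subgroup_smul, Subgroup.mem_pointwise_smul_iff_inv_smul_mem] at hxQ
        have : g⁻¹ * x * g ∈ (T : Subgroup G) := by simpa [MulAut.smul_def] using hxQ
        show g⁻¹ * x * g⁻¹⁻¹ ∈ (T : Subgroup G)
        rw [inv_inv]
        exact this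
      · intro x _ y _ hxy
        simpa using hxy
    apply le_antisymm
    · exact le_csSup ⟨A.ncard, hbound⟩ hmem
    · exact csSup_le ⟨_, hmem⟩ hbound

end Cfsg.Agent.S5345
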