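import Mathlib
import Cfsg.Statements.S5355
import Cfsg.Agent.Lib.Helper25.ThreeTransp3

set_option autoImplicit false
open Cfsg Cfsg.Agent.Helper25 Equiv

namespace Cfsg.Agent.S5355

/-- Let D be a conjugacy class of 3-transpositions generating the finite group G, with at least two members, and d a member of D. Suppose that every member of D commuting with d commutes with exactly the same members of D as d does, and that exactly one member of D other than d commutes with d. Then G is isomorphic to the symmetric group of degree 4. -/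
theorem result {G : Type*} [Group G] [Finite G] {D : Set G} (hD : Cfsg.IsThreeTranspositionClass D) (hD2 : ∃ a ∈ D, ∃ b ∈ D, a ≠ b) {d : G} (hd : d ∈ D) (hV : {y : G | y ∈ D ∧ Commute d y} = {v : G | v ∈ D ∧ ∀ e ∈ D, Commute v e ↔ Commute d e}) (hm : {y : G | y ∈ D ∧ Commute d y}.ncard = 2) : Nonempty (G ≃* Equiv.Perm (Fin 4)) := by
  classical
  have hS := hD.1
  have hconj : ∀ g : G, ∀ x ∈ D, g * x * g⁻¹ ∈ D := fun g x hx => TT.conj_mem hD g hx
  have hconj' : ∀ g : G, ∀ x ∈ D, g⁻¹ * x * g ∈ D := by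
    intro g x hx
    have := hconj g⁻¹ x hx
    rwa [inv_inv] at this
  obtain ⟨a, b, hab, hA⟩ := Set.ncard_eq_two.mp hm
  have hdA : d ∈ {y : G | y ∈ D ∧ Commute d y} := ⟨hd, Commute.refl d⟩
  -- uniqueness at d
  have uniq_d : ∀ w w' : G, w ∈ D → Commute d w → w' ∈ D → Commute d w' → w ≠ d → w' ≠ d → w = w' := by
    intro w w' hw hcw hw' hcw' hwd hw'd
    have h1 : w ∈ {y : G | y ∈ D ∧ Commute d y} := ⟨hw, hcw⟩
    have h2 : w' ∈ {y : G | y ∈ D ∧ Commute d y} := ⟨hw', hcw'⟩
    rw [hA] at h1 h2 hdA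
    simp only [Set.mem_insert_iff, Set.mem_singleton_iff] at h1 h2 hdA
    rcases hdA with rfl | rfl <;> rcases h1 with rfl | rfl <;> rcases h2 with rfl | rfl <;>
      first | rfl | exact absurd rfl hwd | exact absurd rfl hw'd
  have sim_d : ∀ w ∈ D, Commute d w → TT.Sim D w d := by
    intro w hw hcw
    have h1 : w ∈ {y : G | y ∈ D ∧ Commute d y} := ⟨hw, hcw⟩
    rw [hV] at h1
    exact h1.2
  have hP : TT.Pairs D := by
    constructor
    · intro y hy w hw hc
      obtain ⟨g, rfl⟩ := TT.isConj_of_mem hD hd hy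
      have h1 : Commute d (g⁻¹ * w * g) := (TT.commute_conj_iff g d w).mp hc
      have h2 := (sim_d _ (hconj' g w hw) h1).conj hconj g
      have h3 : g * (g⁻¹ * w * g) * g⁻¹ = w := by simp [mul_assoc]
      rwa [h3] at h2
    · intro y hy w hw w' hw' hc hc' hwy hw'y
      obtain ⟨g, rfl⟩ := TT.isConj_of_mem hD hd hy
      have h1 : Commute d (g⁻¹ * w * g) := (TT.commute_conj_iff g d w).mp hc
      have h1' : Commute d (g⁻¹ * w' * g) := (TT.commute_conj_iff g d w').mp hc'
      have h2 : g⁻¹ * w * g ≠ d := by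
        intro h; apply hwy; rw [← h]; simp [mul_assoc]
      have h2' : g⁻¹ * w' * g ≠ d := by
        intro h; apply hw'y; rw [← h]; simp [mul_assoc]
      have h3 := uniq_d _ _ (hconj' g w hw) h1 (hconj' g w' hw') h1' h2 h2'
      have h4 : g * (g⁻¹ * w * g) * g⁻¹ = g * (g⁻¹ * w' * g) * g⁻¹ := by rw [h3]
      simpa [mul_assoc] using h4
  -- the partner of d
  obtain ⟨v, hvD, hcv, hvd⟩ : ∃ v, v ∈ D ∧ Commute d v ∧ v ≠ d := by
    have ha : a ∈ {y : G | y ∈ D ∧ Commute d y} := by rw [hA]; simp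
    have hb : b ∈ {y : G | y ∈ D ∧ Commute d y} := by rw [hA]; simp
    by_cases h : a = d
    · refine ⟨b, hb.1, hb.2, ?_⟩
      rw [← h]; exact hab.symm
    · exact ⟨a, ha.1, ha.2, h⟩
  have hsim : TT.Sim D v d := sim_d v hvD hcv
  obtain ⟨e, he, hde⟩ := TT.exists_not_commute hD hD2 hd
  have hev : ¬ Commute e v := fun h => hde ((hsim e he).mp h.symm)
  obtain ⟨φ, hφ, h0, h1, h2⟩ := TT.exists_S4 hS hd he hvD (Ne.symm hvd) hcv hde hev
  have hsub : D ⊆ TT.Tset φ := TT.sub_Tset hS hP hconj hφ (by rw [h0]; exact hd)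
  have hsurj : Function.Surjective φ := by
    rw [← MonoidHom.range_eq_top, eq_top_iff, ← hD.2.2, Subgroup.closure_le]
    intro x hx
    obtain ⟨i, j, -, rfl⟩ := hsub hx
    exact ⟨_, rfl⟩
  exact ⟨(MulEquiv.ofBijective φ ⟨hφ, hsurj⟩).symm⟩

end Cfsg.Agent.S5355
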