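import Mathlib
import Cfsg.Statements.S5358

set_option autoImplicit false
universe u
open Cfsg

namespace Cfsg.Agent.S5358

open Matrix

/-- dot product of the polar vector with `x` is the polar form -/
lemma polarVec_dot {n : ℕ} (Q : QuadraticForm (ZMod 3) (Fin n → ZMod 3)) (u x : Fin n → ZMod 3) :
    Cfsg.polarVec (⇑Q) u ⬝ᵥ x = QuadraticMap.polar (⇑Q) u x := by
  have hx : x = ∑ j, x j • (Pi.single j (1 : ZMod 3) : Fin n → ZMod 3) := by
    ext i
    simp [Finset.sum_apply, Pi.single_apply]
  have h1 : QuadraticMap.polar (⇑Q) u x = QuadraticMap.polarBilin Q u x := rfl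
  rw [h1]
  conv_rhs => rw [hx]
  rw [map_sum]
  simp only [map_smul, smul_eq_mul]
  unfold dotProduct Cfsg.polarVec
  apply Finset.sum_congr rfl
  intro j _
  rw [mul_comm]
  rfl

lemma commute_one_sub {R : Type*} [Ring R] (A B : R) : Commute (1 - A) (1 - B) ↔ Commute A B := by
  constructor
  · intro h
    show A * B = B * A
    have h' : (1 - A) * (1 - B) = (1 - B) * (1 - A) := h
    calc A * B = (1 - A) * (1 - B) - 1 + A + B := by noncomm_ring
      _ = (1 - B) * (1 - A) - 1 + A + B := by rw [h']
      _ = B * A := by noncomm_ring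
  · intro h
    show (1 - A) * (1 - B) = (1 - B) * (1 - A)
    have h' : A * B = B * A := h
    calc (1 - A) * (1 - B) = 1 - A - B + A * B := by noncomm_ring
      _ = 1 - A - B + B * A := by rw [h']
      _ = (1 - B) * (1 - A) := by noncomm_ring

/-- Let Q be a non-degenerate quadratic form on the n-dimensional coordinate space over the field with three elements and u, v vectors of the same non-zero norm Q(u) = Q(v) spanning different lines (v ≠ u and v ≠ −u). Then the reflection matrices of u and v commute if and only if u and v are orthogonal for the polar form of Q. -/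
theorem result (n : ℕ) (Q : QuadraticForm (ZMod 3) (Fin n → ZMod 3)) (hQ : (QuadraticMap.polarBilin Q).Nondegenerate) (u v : Fin n → ZMod 3) (hu : Q u ≠ 0) (huv : Q u = Q v) (h1 : v ≠ u) (h2 : v ≠ -u) : Commute (Cfsg.reflectionMatrix (⇑Q) u) (Cfsg.reflectionMatrix (⇑Q) v) ↔ QuadraticMap.polar (⇑Q) u v = 0 := by
  have hv : Q v ≠ 0 := huv ▸ hu
  set pu := Cfsg.polarVec (⇑Q) u with hpu
  set pv := Cfsg.polarVec (⇑Q) v with hpv
  set β := QuadraticMap.polar (⇑Q) u v with hβ
  have hβ' : QuadraticMap.polar (⇑Q) v u = β := QuadraticMap.polar_comm _ _ _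
  unfold Cfsg.reflectionMatrix
  rw [commute_one_sub]
  -- remove scalars
  have hscal : Commute ((Q u)⁻¹ • vecMulVec u pu) ((Q v)⁻¹ • vecMulVec v pv) ↔
      Commute (vecMulVec u pu) (vecMulVec v pv) := by
    constructor
    · intro h
      have := (h.smul_left (Q u)).smul_right (Q v)
      rwa [smul_smul, smul_smul, mul_inv_cancel₀ hu, mul_inv_cancel₀ hv, one_smul, one_smul] at this
    · intro h
      exact (h.smul_left _).smul_right _
  rw [hscal]
  have e1 : vecMulVec u pu * vecMulVec v pv = β • vecMulVec u pv := by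
    rw [vecMulVec_mul_vecMulVec, polarVec_dot, ← hβ, Matrix.vecMulVec_smul]
  have e2 : vecMulVec v pv * vecMulVec u pu = β • vecMulVec v pu := by
    rw [vecMulVec_mul_vecMulVec, polarVec_dot, hβ', Matrix.vecMulVec_smul]
  show vecMulVec u pu * vecMulVec v pv = vecMulVec v pv * vecMulVec u pu ↔ β = 0
  rw [e1, e2]
  constructor
  · intro h
    by_contra hβ0
    have h3 : vecMulVec u pv = vecMulVec v pu := by
      have := congrArg (fun M => β⁻¹ • M) h
      simpa [smul_smul, inv_mul_cancel₀ hβ0] using this
    -- apply to the vector v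
    have h4 : vecMulVec u pv *ᵥ v = vecMulVec v pu *ᵥ v := by rw [h3]
    rw [vecMulVec_mulVec, vecMulVec_mulVec, polarVec_dot, polarVec_dot, ← hβ,
      QuadraticMap.polar_self] at h4
    simp only [op_smul_eq_smul] at h4
    -- (2 • Q v) • u = β • v
    have h2Q : (2 • Q v : ZMod 3) ≠ 0 := by
      rw [two_nsmul, ← two_mul]
      exact mul_ne_zero (by decide) hv
    set c : ZMod 3 := (2 • Q v) with hc
    have hu' : u = (c⁻¹ * β) • v := by
      have := congrArg (fun w => c⁻¹ • w) h4
      simpa [smul_smul, inv_mul_cancel₀ h2Q] using this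
    set l : ZMod 3 := c⁻¹ * β with hl
    have hQu : Q u = (l * l) • Q v := by
      rw [hu', QuadraticMap.map_smul]
    rw [← huv, smul_eq_mul] at hQu
    have hll : l * l = 1 := by
      have : (l * l - 1) * Q u = 0 := by rw [sub_mul, one_mul, ← hQu, sub_self]
      rcases mul_eq_zero.mp this with h | h
      · exact sub_eq_zero.mp h
      · exact absurd h hu
    rcases mul_self_eq_one_iff.mp hll with h | h
    · apply h1
      rw [hu', h, one_smul]
    · apply h2
      rw [hu', h, neg_smul, one_smul, neg_neg]
  · intro h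
    rw [h, zero_smul, zero_smul]

end Cfsg.Agent.S5358
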