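import Mathlib
import Cfsg.Statements.S5361
import Cfsg.Agent.Lib.Helper25.TT61c

set_option autoImplicit false
open Cfsg Cfsg.Agent.Helper25

namespace Cfsg.Agent.S5361

/-- Let D be a conjugacy class of 3-transpositions generating the finite group G, and suppose the centre of G is trivial and some two different members of D commute. Then the following are equivalent: (1) the commutator subgroup of G is simple (possibly of prime order); (2) G acts primitively on D by conjugation; (3) the largest normal 2-subgroup and the largest normal 3-subgroup of G are trivial and the commuting graph of D is connected. -/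
theorem result {G : Type*} [Group G] [Finite G] {D : Set G} (hD : Cfsg.IsThreeTranspositionClass D) (hZ : Subgroup.center G = ⊥) (hw : ∃ a ∈ D, ∃ b ∈ D, a ≠ b ∧ Commute a b) : (IsSimpleGroup (commutator G) ↔ Cfsg.IsPrimitiveUnderConj D) ∧ (Cfsg.IsPrimitiveUnderConj D ↔ (Cfsg.pCore 2 G = ⊥ ∧ Cfsg.pCore 3 G = ⊥ ∧ (Cfsg.commutingGraph D).Connected)) := by
  have hconj : ∀ g : G, ∀ x ∈ D, g * x * g⁻¹ ∈ D := fun g x hx => TT.conj_mem hD g hx
  have hB : Cfsg.IsPrimitiveUnderConj D →
      (Cfsg.pCore 2 G = ⊥ ∧ Cfsg.pCore 3 G = ⊥ ∧ (Cfsg.commutingGraph D).Connected) := by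
    intro hprim
    refine ⟨?_, ?_, TT.connected_of_primitive hconj hprim hw⟩
    · have := TT.pCore_two_le_center_of_primitive hD hprim
      rw [hZ] at this
      exact le_bot_iff.mp this
    · have := TT.pCore_three_le_center_of_primitive hD hprim hw
      rw [hZ] at this
      exact le_bot_iff.mp this
  have hC : (Cfsg.pCore 2 G = ⊥ ∧ Cfsg.pCore 3 G = ⊥ ∧ (Cfsg.commutingGraph D).Connected) →
      IsSimpleGroup (commutator G) := fun h =>
    TT.simple_commutator_of_connected hD hZ hw h.1 h.2.1 h.2.2
  have hA : IsSimpleGroup (commutator G) → Cfsg.IsPrimitiveUnderConj D := fun hs =>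
    TT.primitive_of_simple_commutator hD hZ hw hs
  exact ⟨⟨hA, fun h => hC (hB h)⟩, ⟨hB, fun h => hA (hC h)⟩⟩

end Cfsg.Agent.S5361
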