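import Mathlib
import Cfsg.Statements.S5363

set_option autoImplicit false
universe u
open Cfsg

namespace Cfsg.Agent.S5363

lemma sq_of_order_two {G : Type*} [Group G] {x : G} (hx : orderOf x = 2) : x * x = 1 := by
  have h2 : x ^ 2 = 1 := by rw [← hx]; exact pow_orderOf_eq_one x
  simpa [pow_two] using h2

lemma commute_of_mul_sq {G : Type*} [Group G] {a y : G} (ha : a * a = 1) (hy : y * y = 1)
    (h : (a * y) ^ 2 = 1) : Commute a y := by
  show a * y = y * a
  have h1 : a * y * (a * y) = 1 := by simpa [pow_two] using h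
  calc a * y = a * y * (a * y) * (y * a) := by
        have : a * y * (y * a) = 1 := by
          calc a * y * (y * a) = a * (y * y) * a := by group
            _ = 1 := by rw [hy, mul_one, ha]
        calc a * y = a * y * 1 := by rw [mul_one]
          _ = a * y * ((a * y) * (y * a)) := by rw [this]
          _ = a * y * (a * y) * (y * a) := by group
    _ = y * a := by rw [h1, one_mul]

/-- Forward direction core: if y commutes with z, a commutes with z, z is an involution, and the
orders of `a*y` and `(a*z)*y` are each odd or two, then `a` commutes with `y`. -/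
lemma fwd_core {G : Type*} [Group G] {a y z : G} (ha : a * a = 1) (hy : y * y = 1)
    (hz : z * z = 1) (hz1 : z ≠ 1) (haz : Commute a z) (hyz : Commute y z)
    (h1 : Odd (orderOf (a * y)) ∨ orderOf (a * y) = 2)
    (h2 : Odd (orderOf (a * z * y)) ∨ orderOf (a * z * y) = 2) : Commute a y := by
  rcases h1 with hodd | h1
  swap
  · apply commute_of_mul_sq ha hy
    rw [← h1]; exact pow_orderOf_eq_one _
  -- a*z*y = (a*y)*z with z commuting with a*y
  have hc : Commute (a * y) z := haz.mul_left hyz
  have hE : a * z * y = (a * y) * z := by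
    rw [mul_assoc, mul_assoc, hyz.eq.symm]
  have hpow : ∀ m : ℕ, (a * z * y) ^ m = (a * y) ^ m * z ^ m := by
    intro m; rw [hE, hc.mul_pow]
  have hz2 : z ^ 2 = 1 := by rw [pow_two]; exact hz
  rcases h2 with hodd2 | h2
  · exfalso
    obtain ⟨m, hm⟩ := hodd2
    have hzm : z ^ (orderOf (a * z * y)) = z := by
      rw [hm, pow_succ, pow_mul, hz2, one_pow, one_mul]
    have h3 : (a * y) ^ (orderOf (a * z * y)) * z = 1 := by
      have := hpow (orderOf (a * z * y))
      rw [pow_orderOf_eq_one, hzm] at this
      exact this.symm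
    -- z = ((a*y)^m')⁻¹ ∈ powers of a*y, so z^(orderOf (a*y)) = 1
    have hzeq : z = ((a * y) ^ (orderOf (a * z * y)))⁻¹ := by
      rw [eq_inv_iff_mul_eq_one, ((hc.pow_left _).symm).eq]
      exact h3
    have hzn : z ^ (orderOf (a * y)) = 1 := by
      rw [hzeq, inv_pow, ← pow_mul, mul_comm, pow_mul, pow_orderOf_eq_one, one_pow, inv_one]
    obtain ⟨k, hk⟩ := hodd
    rw [hk, pow_succ, pow_mul, hz2, one_pow, one_mul] at hzn
    exact hz1 hzn
  · -- (a*z*y)^2 = 1 → (a*y)^2 = 1
    apply commute_of_mul_sq ha hy
    have := hpow 2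
    rw [← h2, pow_orderOf_eq_one, h2, hz2, mul_one] at this
    exact this.symm

/-- Let D be a conjugation-invariant set of involutions of a finite group G. Then every product of two members of D has odd order or order 2 if and only if, for every a in D and every b in D different from a and commuting with a, the members of D commuting with a b are exactly those commuting with both a and b. -/
theorem result {G : Type*} [Group G] [Finite G] {D : Set G} (hinv : ∀ d ∈ D, orderOf d = 2) (hconj : ∀ g : G, ∀ d ∈ D, g * d * g⁻¹ ∈ D) : (∀ a ∈ D, ∀ b ∈ D, Odd (orderOf (a * b)) ∨ orderOf (a * b) = 2) ↔ ∀ a ∈ D, ∀ b ∈ D, b ≠ a → Commute a b → {y : G | y ∈ D ∧ Commute (a * b) y} = {y : G | y ∈ D ∧ Commute a y} ∩ {y : G | y ∈ D ∧ Commute b y} := by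
  constructor
  · intro hA a ha b hb hne hab
    have ha2 := sq_of_order_two (hinv a ha)
    have hb2 := sq_of_order_two (hinv b hb)
    have hainv : a⁻¹ = a := inv_eq_of_mul_eq_one_left ha2
    ext y
    constructor
    · rintro ⟨hyD, hy⟩
      have hy2 := sq_of_order_two (hinv y hyD)
      have hz2 : (a * b) * (a * b) = 1 := by
        calc a * b * (a * b) = a * (b * a) * b := by group
          _ = a * (a * b) * b := by rw [hab.eq]
          _ = (a * a) * (b * b) := by group
          _ = 1 := by rw [ha2, hb2, one_mul]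
      have hz1 : a * b ≠ 1 := by
        intro h
        apply hne
        have : b = a⁻¹ := eq_inv_of_mul_eq_one_right h
        rw [this, hainv]
      have haz : Commute a (a * b) := (Commute.refl a).mul_right hab
      have hbz : Commute b (a * b) := hab.symm.mul_right (Commute.refl b)
      have e1 : a * (a * b) = b := by rw [← mul_assoc, ha2, one_mul]
      have e2 : b * (a * b) = a := by rw [hab.eq, ← mul_assoc, hb2, one_mul]
      have hay : Commute a y := by
        apply fwd_core ha2 hy2 hz2 hz1 haz hy.symm (hA a ha y hyD)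
        rw [e1]; exact hA b hb y hyD
      have hby : Commute b y := by
        apply fwd_core hb2 hy2 hz2 hz1 hbz hy.symm (hA b hb y hyD)
        rw [e2]; exact hA a ha y hyD
      exact ⟨⟨hyD, hay⟩, ⟨hyD, hby⟩⟩
    · rintro ⟨⟨hyD, hay⟩, ⟨-, hby⟩⟩
      exact ⟨hyD, hay.mul_left hby⟩
  · intro hB a ha b hb
    by_cases hodd : Odd (orderOf (a * b))
    · exact Or.inl hodd
    right
    have ha2 := sq_of_order_two (hinv a ha)
    have hb2 := sq_of_order_two (hinv b hb)
    have hainv : a⁻¹ = a := inv_eq_of_mul_eq_one_left ha2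
    have hbinv : b⁻¹ = b := inv_eq_of_mul_eq_one_left hb2
    rw [Nat.not_odd_iff_even] at hodd
    obtain ⟨k, hk⟩ := hodd
    set r := a * b with hr
    have hnpos : 0 < orderOf r := orderOf_pos r
    have hkpos : 0 < k := by omega
    have hklt : k < orderOf r := by omega
    set w := r ^ k with hw
    have hw1 : w ≠ 1 := pow_ne_one_of_lt_orderOf hkpos.ne' hklt
    have hww : w * w = 1 := by
      rw [hw, ← pow_add, ← hk, pow_orderOf_eq_one]
    have hwinv : w⁻¹ = w := inv_eq_of_mul_eq_one_left hww
    have har : a * r * a⁻¹ = r⁻¹ := by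
      rw [hr, hainv, mul_inv_rev, hainv, hbinv]
      calc a * (a * b) * a = (a * a) * b * a := by group
        _ = b * a := by rw [ha2, one_mul]
    have hbr : b * r * b⁻¹ = r⁻¹ := by
      rw [hr, hbinv, mul_inv_rev, hainv, hbinv]
      calc b * (a * b) * b = b * a * (b * b) := by group
        _ = b * a := by rw [hb2, mul_one]
    have haw : a * w * a⁻¹ = w := by
      rw [hw, ← conj_pow, har, inv_pow, ← hw, hwinv]
    have hbw : b * w * b⁻¹ = w := by
      rw [hw, ← conj_pow, hbr, inv_pow, ← hw, hwinv]
    have hcaw : Commute a w := by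
      show a * w = w * a
      calc a * w = a * w * a⁻¹ * a := by group
        _ = w * a := by rw [haw]
    have hcbw : Commute b w := by
      show b * w = w * b
      calc b * w = b * w * b⁻¹ * b := by group
        _ = w * b := by rw [hbw]
    -- c = a * w ∈ D
    have hcD : a * w ∈ D := by
      -- a r^j = r^{-j} a ; generally x r^j x⁻¹ = r^{-j}
      have harj : ∀ j : ℕ, a * r ^ j = (r ^ j)⁻¹ * a := by
        intro j
        have : a * r ^ j * a⁻¹ = (r ^ j)⁻¹ := by rw [← conj_pow, har, inv_pow]
        calc a * r ^ j = a * r ^ j * a⁻¹ * a := by group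
          _ = (r ^ j)⁻¹ * a := by rw [this]
      have hbrj : ∀ j : ℕ, b * r ^ j = (r ^ j)⁻¹ * b := by
        intro j
        have : b * r ^ j * b⁻¹ = (r ^ j)⁻¹ := by rw [← conj_pow, hbr, inv_pow]
        calc b * r ^ j = b * r ^ j * b⁻¹ * b := by group
          _ = (r ^ j)⁻¹ * b := by rw [this]
      rcases Nat.even_or_odd' k with ⟨j, hj | hj⟩
      · -- k = 2j : a w = (r^j)⁻¹ a (r^j)
        have : a * w = (r ^ j)⁻¹ * a * ((r ^ j)⁻¹)⁻¹ := by
          rw [inv_inv, hw, hj, two_mul, pow_add, ← mul_assoc, harj j]
        rw [this]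
        exact hconj _ a ha
      · -- k = 2j+1 : a w = (r^j)⁻¹ b (r^j)
        have : a * w = (r ^ j)⁻¹ * b * ((r ^ j)⁻¹)⁻¹ := by
          rw [inv_inv, hw, hj, pow_succ, two_mul, pow_add]
          have e : a * r = b := by rw [hr, ← mul_assoc, ha2, one_mul]
          calc a * (r ^ j * r ^ j * r) = (a * r ^ j) * r ^ j * r := by group
            _ = (r ^ j)⁻¹ * a * r ^ j * r := by rw [harj j]
            _ = (r ^ j)⁻¹ * (a * r ^ j) * r := by group
            _ = (r ^ j)⁻¹ * ((r ^ j)⁻¹ * a) * r := by rw [harj j]
            _ = (r ^ j)⁻¹ * (r ^ j)⁻¹ * (a * r) := by group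
            _ = (r ^ j)⁻¹ * (r ^ j)⁻¹ * b := by rw [e]
            _ = (r ^ j)⁻¹ * ((r ^ j)⁻¹ * b) := by group
            _ = (r ^ j)⁻¹ * (b * r ^ j) := by rw [hbrj j]
            _ = (r ^ j)⁻¹ * b * r ^ j := by group
        rw [this]
        exact hconj _ b hb
    have hcne : a * w ≠ a := by
      intro h
      apply hw1
      exact mul_left_cancel (h.trans (mul_one a).symm)
    have hcac : Commute a (a * w) := (Commute.refl a).mul_right hcaw
    have hset := hB a ha (a * w) hcD hcne hcac
    have hbmem : b ∈ {y : G | y ∈ D ∧ Commute (a * (a * w)) y} := by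
      refine ⟨hb, ?_⟩
      rw [← mul_assoc, ha2, one_mul]
      exact hcbw.symm
    rw [hset] at hbmem
    have hab : Commute a b := hbmem.1.2
    have hr2 : r ^ 2 = 1 := by
      rw [pow_two, hr]
      calc a * b * (a * b) = a * (b * a) * b := by group
        _ = a * (a * b) * b := by rw [hab.eq]
        _ = (a * a) * (b * b) := by group
        _ = 1 := by rw [ha2, hb2, one_mul]
    have hdvd : orderOf r ∣ 2 := orderOf_dvd_of_pow_eq_one hr2
    have hle : orderOf r ≤ 2 := Nat.le_of_dvd (by norm_num) hdvd
    omega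

end Cfsg.Agent.S5363
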