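import Mathlib
import Cfsg.Statements.S5365
import Cfsg.Agent.Lib.Helper16.TTH

set_option autoImplicit false
open Cfsg

namespace Cfsg.Agent.S5365

/-- Let D be a non-empty conjugation-invariant set of involutions of a finite group G satisfying the 3-transposition order conditions, and suppose that for every d in D the members of D other than d commuting with d generate a subgroup isomorphic to the symmetric group of degree 3, and the largest normal 3-subgroup of the centralizer of d has order 3. Then the subgroup generated by D is isomorphic to the symmetric group of degree 5 or to the direct product of two symmetric groups of degree 3. -/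
theorem result {G : Type*} [Group G] [Finite G] {D : Set G} (hD : Cfsg.IsThreeTranspositionSet D) (hconj : ∀ g : G, ∀ d ∈ D, g * d * g⁻¹ ∈ D) (hne : D.Nonempty) (hloc : ∀ d ∈ D, Nonempty (↥(Subgroup.closure {y : G | y ∈ D ∧ y ≠ d ∧ Commute d y}) ≃* Equiv.Perm (Fin 3)) ∧ Nat.card (Cfsg.pCore 3 ↥(Subgroup.centralizer ({d} : Set G))) = 3) : Nonempty (↥(Subgroup.closure D) ≃* Equiv.Perm (Fin 5)) ∨ Nonempty (↥(Subgroup.closure D) ≃* Equiv.Perm (Fin 3) × Equiv.Perm (Fin 3)) := by
  have H : Cfsg.Agent.Helper16.TT.Hyp D := by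
    refine ⟨hD, hconj, fun d hd => (hloc d hd).1, ?_⟩
    intro d hd N hN hp
    have hle : N ≤ Cfsg.pCore 3 ↥(Subgroup.centralizer ({d} : Set G)) := le_sSup ⟨hN, hp⟩
    have := Subgroup.card_le_of_le hle
    rw [(hloc d hd).2] at this
    exact this
  by_cases hθ : ∃ d ∈ D, ∃ e ∈ D, d ≠ e ∧ ∀ y ∈ Cfsg.Agent.Helper16.TT.Dd D d, Commute e y
  · right
    obtain ⟨d, hd, e, he, hne', hth⟩ := hθ
    exact H.caseA hd he hne' hth
  · left
    apply H.caseB hne
    intro d hd e he hde
    by_contra hcon
    apply hθ
    refine ⟨d, hd, e, he, hde, ?_⟩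
    intro y hy
    by_contra hc
    exact hcon ⟨y, hy, hc⟩

end Cfsg.Agent.S5365
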