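import Mathlib
import Cfsg.Statements.S5366
import Cfsg.Agent.Lib.Helper25.FischerMap3

set_option autoImplicit false
open Cfsg Cfsg.Agent.Helper25

namespace Cfsg.Agent.S5366

/-- Let L be a nondegenerate Fischer space on the point type X (every point on a line). Then for every point x the map t(x) — sending a point collinear with x to the third point of their common line and fixing every other point — is a permutation of X of order 2 and an automorphism of the line system; and the set of all t(x) satisfies the 3-transposition order conditions in the permutation group of X (any two have product of order at most 3). -/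
theorem result {X : Type*} (L : Set (Set X)) (hL : Cfsg.IsFischerSpace L) (hnd : Cfsg.LineSystem.IsNondegenerate L) : (∀ x : X, ∃ σ : Equiv.Perm X, ⇑σ = Cfsg.LineSystem.lineMap L x ∧ orderOf σ = 2 ∧ Cfsg.LineSystem.IsIso L L σ) ∧ Cfsg.IsThreeTranspositionSet {σ : Equiv.Perm X | ∃ x : X, ⇑σ = Cfsg.LineSystem.lineMap L x} := by
  obtain ⟨hPL, h3, hplane⟩ := hL
  have hC : ∀ x : X, ∀ l ∈ L, Cfsg.LineSystem.lineMap L x '' l ∈ L := by
    intro x l hl
    by_cases hx : x ∈ l
    · rw [FM.image_of_mem hPL h3 hl hx]; exact hl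
    by_cases h : ∃ u ∈ l, ∃ u', FM.Third L x u u'
    · obtain ⟨u, hul, u', hu'⟩ := h
      have hm : ({x, u, u'} : Set X) ∈ L := hu'.2.2.2
      have hlm : l ≠ {x, u, u'} := by
        intro hh
        apply hx
        rw [hh]; simp
      have hne : (l ∩ {x, u, u'}).Nonempty := ⟨u, hul, by simp⟩
      have hsub := FM.subset_span L (l ∪ {x, u, u'})
      have hxπ : x ∈ Cfsg.LineSystem.span L (l ∪ {x, u, u'}) := hsub (Or.inr (by simp))
      have hlπ : l ⊆ Cfsg.LineSystem.span L (l ∪ {x, u, u'}) := fun y hy => hsub (Or.inl hy)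
      have hπ := FM.span_isSubspace L (l ∪ {x, u, u'})
      rcases hplane l hl _ hm hlm hne with ⟨e, he⟩ | ⟨e, he⟩
      · exact FM.image_mem_of_iso e he hPL hπ FM.modelAuto_dual hxπ hl hlπ
      · exact FM.image_mem_of_iso e he hPL hπ FM.modelAuto_affine hxπ hl hlπ
    · have hfix : ∀ y ∈ l, Cfsg.LineSystem.lineMap L x y = y := by
        intro y hy
        apply FM.lineMap_of_not
        rintro ⟨z, hz⟩
        exact h ⟨y, hy, z, hz⟩
      have : Cfsg.LineSystem.lineMap L x '' l = l := by
        ext y
        constructor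
        · rintro ⟨y₀, hy₀, rfl⟩
          rw [hfix y₀ hy₀]; exact hy₀
        · intro hy
          exact ⟨y, hy, hfix y hy⟩
      rw [this]; exact hl
  constructor
  · intro x
    exact ⟨FM.tPerm hPL x, FM.coe_tPerm hPL x, FM.orderOf_tPerm hPL h3 hnd x, FM.isIso_tPerm hPL hC x⟩
  · constructor
    · rintro d ⟨x, hx⟩
      rw [FM.eq_tPerm hPL hx]
      exact FM.orderOf_tPerm hPL h3 hnd x
    · rintro d ⟨x, hx⟩ e ⟨y, hy⟩
      rw [FM.eq_tPerm hPL hx, FM.eq_tPerm hPL hy]
      exact FM.three_transp hPL hC x y

end Cfsg.Agent.S5366
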