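import Mathlib
import Cfsg.Statements.S5367
import Cfsg.Agent.Lib.Helper25.FischerSp3
import Cfsg.Agent.Lib.Helper25.FischerSp5

set_option autoImplicit false
open Cfsg Cfsg.Agent.Helper25

namespace Cfsg.Agent.S5367

/-- Let D be a conjugation-invariant generating set of 3-transpositions of a finite group G. Then the line system on D whose lines are the triples {x, y, y x y⁻¹} for non-commuting members x, y of D is a Fischer space: two points lie on at most one line, lines have three points, and two different meeting lines generate a subspace isomorphic to the dual affine plane of order two or to the affine plane of order three. -/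
theorem result {G : Type*} [Group G] [Finite G] {D : Set G} (hD : Cfsg.IsThreeTranspositionGroup D) : Cfsg.IsFischerSpace (Cfsg.threeTranspositionLines D) := by
  have h : FS.TSet D := ⟨hD.1, hD.2.1⟩
  refine ⟨FS.isPartialLinear h, fun l hl => FS.ncard_line h hl, ?_⟩
  rintro l hl m hm hlm ⟨p, hpl, hpm⟩
  have hex : ∀ l ∈ Cfsg.threeTranspositionLines D, p ∈ l → ∃ a ∈ l, a ≠ p := by
    intro l hl _
    obtain ⟨x, hx, y, hy, hxy⟩ := FS.two_points hl
    by_cases hxp : x = p
    · exact ⟨y, hy, fun hyp => hxy (hxp.trans hyp.symm)⟩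
    · exact ⟨x, hx, hxp⟩
  -- every point of a line through `p` other than `p` gives the line
  have hline : ∀ l ∈ Cfsg.threeTranspositionLines D, p ∈ l → ∀ a ∈ l, a ≠ p →
      ¬ Commute (p : G) a ∧ l = FS.Line3 D p a ((a : G) * p * (a : G)⁻¹) := by
    intro l hl hpl a hal hap
    exact FS.line_of_mem h hl (Ne.symm hap) hpl hal
  obtain ⟨a, hal, hap⟩ := hex l hl hpl
  obtain ⟨b, hbm, hbp⟩ := hex m hm hpm
  obtain ⟨hpa, hl'⟩ := hline l hl hpl a hal hap
  obtain ⟨hpb, hm'⟩ := hline m hm hpm b hbm hbp
  -- third points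
  let a' : D := ⟨(a : G) * p * (a : G)⁻¹, h.conj _ _ p.2⟩
  let b' : D := ⟨(b : G) * p * (b : G)⁻¹, h.conj _ _ p.2⟩
  have ha'l : a' ∈ l := by rw [hl']; exact Or.inr (Or.inr rfl)
  have hb'm : b' ∈ m := by rw [hm']; exact Or.inr (Or.inr rfl)
  have hnot : ∀ x ∈ l, x ≠ p → x ∉ m := by
    intro x hxl hxp hxm
    apply hlm
    rw [(hline l hl hpl x hxl hxp).2, (hline m hm hpm x hxm hxp).2]
  have ha'p : a' ≠ p := by
    intro hh
    apply hpa
    have h1 : (a : G) * p * (a : G)⁻¹ = p := congrArg Subtype.val hh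
    have h2 : (a : G) * p = p * a := by
      calc (a : G) * p = (a : G) * p * (a : G)⁻¹ * a := by simp
        _ = p * a := by rw [h1]
    exact h2.symm
  have hb'p : b' ≠ p := by
    intro hh
    apply hpb
    have h1 : (b : G) * p * (b : G)⁻¹ = p := congrArg Subtype.val hh
    have h2 : (b : G) * p = p * b := by
      calc (b : G) * p = (b : G) * p * (b : G)⁻¹ * b := by simp
        _ = p * b := by rw [h1]
    exact h2.symm
  obtain ⟨hpa', hl''⟩ := hline l hl hpl a' ha'l ha'p
  obtain ⟨hpb', hm''⟩ := hline m hm hpm b' hb'm hb'p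
  have hab : a ≠ b := fun hh => hnot a hal hap (hh ▸ hbm)
  have hab' : a ≠ b' := fun hh => hnot a hal hap (hh ▸ hb'm)
  have ha'b : a' ≠ b := fun hh => hnot a' ha'l ha'p (hh ▸ hbm)
  by_cases c1 : Commute (a : G) b
  · left
    rw [hl', hm']
    exact FS.dual_case h hpa hpb c1 hab
  by_cases c2 : Commute (a : G) b'
  · left
    rw [hl', hm'']
    exact FS.dual_case h hpa hpb' c2 hab'
  by_cases c3 : Commute (a' : G) b
  · left
    rw [hl'', hm']
    exact FS.dual_case h hpa' hpb c3 ha'b
  · right
    rw [hl', hm']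
    exact FS.affine_case h hpa hpb c1 c2 c3

end Cfsg.Agent.S5367
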