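import Mathlib
import Cfsg.Statements.S5387
import Cfsg.Agent.Lib.Helper29.M21Uni
import Cfsg.Agent.Lib.Helper29.StemIso
import Cfsg.Agent.Lib.Helper26.PSL34c

set_option autoImplicit false
open Cfsg

namespace Cfsg.Agent.S5387

open Cfsg.Agent.Helper29 in
/-- the projection of a group onto `grp 3` through an isomorphism of its central quotient -/
theorem proj_facts {L : Type*} [Group L] (ψ : L ⧸ Subgroup.center L ≃* M21Uni.G3) :
    ∃ π : L →* M21Uni.G3, Function.Surjective π ∧ π.ker = Subgroup.center L := by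
  refine ⟨ψ.toMonoidHom.comp (QuotientGroup.mk' (Subgroup.center L)), ?_, ?_⟩
  · exact ψ.surjective.comp (QuotientGroup.mk'_surjective _)
  · ext x
    rw [MonoidHom.mem_ker, MonoidHom.comp_apply]
    constructor
    · intro h
      have h2 : (QuotientGroup.mk' (Subgroup.center L)) x = 1 := by
        apply ψ.injective
        rw [map_one]
        exact h
      rwa [QuotientGroup.mk'_apply, QuotientGroup.eq_one_iff] at h2
    · intro h
      have h2 : (QuotientGroup.mk' (Subgroup.center L)) x = 1 := by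
        rw [QuotientGroup.mk'_apply, QuotientGroup.eq_one_iff]
        exact h
      rw [h2]
      exact map_one _

/-- Up to isomorphism there is at most one quasisimple group whose centre is elementary abelian of order 4 and whose central quotient is isomorphic to the projective special linear group of dimension 3 over the field with four elements: any two such groups are isomorphic. -/
theorem result {L₁ L₂ : Type*} [Group L₁] [Finite L₁] [Group L₂] [Finite L₂] (F : Type) [Field F] [Fintype F] (hF : Fintype.card F = 4) (h₁ : Cfsg.IsQuasisimple L₁) (h₂ : Cfsg.IsQuasisimple L₂) (hc₁ : Nat.card (Subgroup.center L₁) = 4) (hc₂ : Nat.card (Subgroup.center L₂) = 4) (he₁ : ∀ x ∈ Subgroup.center L₁, x * x = 1) (he₂ : ∀ x ∈ Subgroup.center L₂, x * x = 1) (e₁ : L₁ ⧸ Subgroup.center L₁ ≃* Matrix.ProjectiveSpecialLinearGroup (Fin 3) F) (e₂ : L₂ ⧸ Subgroup.center L₂ ≃* Matrix.ProjectiveSpecialLinearGroup (Fin 3) F) : Nonempty (L₁ ≃* L₂) := by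
  have e : Cfsg.Agent.Helper26.F4 ≃+* F :=
    FiniteField.ringEquivOfCardEq (by rw [Cfsg.Agent.Helper26.F4.card_F4, hF])
  have ψ : Matrix.ProjectiveSpecialLinearGroup (Fin 3) F ≃* Cfsg.Agent.Helper29.M21Uni.G3 :=
    (Cfsg.Agent.Helper2.pslMapEquiv e).symm.trans Cfsg.Agent.Helper26.PSL34.pslEquiv
  obtain ⟨π₁, hs₁, hk₁⟩ := proj_facts (e₁.trans ψ)
  obtain ⟨π₂, hs₂, hk₂⟩ := proj_facts (e₂.trans ψ)
  have hp₁ : commutator L₁ = ⊤ := h₁.1.commutator_eq_top
  have hp₂ : commutator L₂ = ⊤ := h₂.1.commutator_eq_top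
  refine Cfsg.Agent.Helper29.StemIso.iso_of_bound π₁ π₂ hs₁ hs₂ (by rw [hk₁]) (by rw [hk₂])
    (by rw [hk₁]; exact he₁) (by rw [hk₂]; exact he₂) hp₁ hp₂ (by rw [hk₁]; exact hc₁)
    (by rw [hk₂]; exact hc₂) ?_
  intro P σ hσs hσK hσe hσc
  exact Cfsg.Agent.Helper29.M21Uni.bound σ hσs hσK hσe hσc

end Cfsg.Agent.S5387
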