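import Mathlib
import Cfsg.Statements.S5392
import Cfsg.Agent.Lib.Helper27.LeechTrans2
import Cfsg.Agent.Lib.Helper27.LeechMod2c
import Cfsg.Agent.S1567

set_option autoImplicit false
open Cfsg

namespace Cfsg.Agent.S5392

open Cfsg.Agent.Helper27
open Cfsg.Agent.S0398 (negP negP_mem negP_apply)

theorem smul_eq (g : ↥Co0) (v : leechLattice) : g • v = (g : Equiv.Perm leechLattice) v := rfl

/-- `4 e_i + 4 s e_j` as a lattice vector. -/
def v44 (i j : GolayPt) (s : ℤ) (hs : s = 1 ∨ s = -1) : leechLattice :=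
  ⟨vec44 i j s, vec44_mem i j s hs⟩

theorem dotInt_vec44 (x : GolayPt → ℤ) (i j : GolayPt) (s : ℤ) :
    dotInt x (vec44 i j s) = 4 * x i + 4 * s * x j := by
  unfold dotInt vec44
  have : ∀ k, x k * ((if k = i then 4 else 0) + (if k = j then 4 * s else 0)) =
      (if k = i then 4 * x k else 0) + (if k = j then 4 * s * x k else 0) := by
    intro k
    split_ifs <;> ring
  rw [Finset.sum_congr rfl (fun k _ => this k), Finset.sum_add_distrib, Finset.sum_ite_eq',
    Finset.sum_ite_eq']
  simp

theorem sqNorm_vec44' (i j : GolayPt) (hij : i ≠ j) (s : ℤ) (hs : s = 1 ∨ s = -1) :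
    sqNorm (vec44 i j s) = 32 := by
  have : sqNorm (vec44 i j s) = dotInt (vec44 i j s) (vec44 i j s) := by
    unfold sqNorm dotInt
    exact Finset.sum_congr rfl (fun k _ => by ring)
  rw [this, dotInt_vec44]
  unfold vec44
  rw [if_pos rfl, if_neg hij, if_neg (Ne.symm hij), if_pos rfl]
  rcases hs with rfl | rfl <;> norm_num

section faithful

variable (g : Co0) (hg : ∀ v : leechLattice, ∃ w : leechLattice,
  ((g • v : leechLattice) : GolayPt → ℤ) - (v : GolayPt → ℤ) = 2 • (w : GolayPt → ℤ))

include hg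

theorem pm_of_min (v : leechLattice) (hv : sqNorm v.1 = 32) : g • v = v ∨ g • v = -v := by
  obtain ⟨w, hw⟩ := hg v
  have hn : sqNorm (g • v).1 = 32 := by rw [smul_eq, g.2.2 v]; exact hv
  rcases short_cong (g • v).2 v.2 (by rw [hn]; norm_num) (by rw [hv]; norm_num)
    ⟨w.1, w.2, hw⟩ with h | h | h
  · left; exact Subtype.ext h
  · right; exact Subtype.ext h
  · rw [hn] at h; norm_num at h

omit hg in
theorem fix_of_dot {v w : leechLattice} (hv : g • v = v) (hw : g • w = w ∨ g • w = -w)
    (hd : dotInt v.1 w.1 ≠ 0) : g • w = w := by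
  rcases hw with h | h
  · exact h
  · exfalso
    have h1 := co0_dotInt g.2 v w
    rw [← smul_eq, ← smul_eq, hv, h] at h1
    have h2 : dotInt v.1 ((-w : leechLattice) : GolayPt → ℤ) = -dotInt v.1 w.1 := by
      unfold dotInt
      rw [← Finset.sum_neg_distrib]
      apply Finset.sum_congr rfl
      intro k _
      show v.1 k * (-(w.1 k)) = _
      ring
    rw [h2] at h1
    apply hd
    omega

theorem fix_vec44 (hr : g • v44 none (some 0) 1 (Or.inl rfl) = v44 none (some 0) 1 (Or.inl rfl))
    (i j : GolayPt) (hij : i ≠ j) (s : ℤ) (hs : s = 1 ∨ s = -1) :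
    g • v44 i j s hs = v44 i j s hs := by
  have hmin : ∀ a b (hab : a ≠ b) t ht, g • v44 a b t ht = v44 a b t ht ∨
      g • v44 a b t ht = -v44 a b t ht :=
    fun a b hab t ht => pm_of_min g hg _ (sqNorm_vec44' a b hab t ht)
  -- vectors through the extra point
  have s1 : ∀ k : GolayPt, k ≠ none → k ≠ some 0 → ∀ t ht, g • v44 none k t ht = v44 none k t ht := by
    intro k hk1 hk2 t ht
    apply fix_of_dot g hr (hmin none k (Ne.symm hk1) t ht)
    show dotInt (vec44 none (some 0) 1) (vec44 none k t) ≠ 0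
    rw [dotInt_vec44]
    unfold vec44
    rw [if_pos rfl, if_neg (by simp), if_neg hk1, if_neg hk2]
    norm_num
  have s2 : ∀ t ht, g • v44 none (some 0) t ht = v44 none (some 0) t ht := by
    intro t ht
    apply fix_of_dot g (s1 (some 1) (by simp) (by decide) 1 (Or.inl rfl))
      (hmin none (some 0) (by simp) t ht)
    show dotInt (vec44 none (some 1) 1) (vec44 none (some 0) t) ≠ 0
    rw [dotInt_vec44]
    unfold vec44
    rw [if_pos rfl, if_neg (by simp), if_neg (by simp), if_neg (by decide)]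
    norm_num
  have s3 : ∀ k : GolayPt, k ≠ none → ∀ t ht, g • v44 none k t ht = v44 none k t ht := by
    intro k hk t ht
    by_cases hk0 : k = some 0
    · subst hk0; exact s2 t ht
    · exact s1 k hk hk0 t ht
  by_cases hi : i = none
  · subst hi
    exact s3 j (Ne.symm hij) s hs
  · by_cases hj : j = none
    · subst hj
      -- pick a third point
      obtain ⟨k, hk1, hk2⟩ : ∃ k : GolayPt, k ≠ none ∧ k ≠ i := by
        by_cases h : i = some 0
        · exact ⟨some 1, by simp, by rw [h]; decide⟩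
        · exact ⟨some 0, by simp, Ne.symm h⟩
      apply fix_of_dot g (s3 k hk1 1 (Or.inl rfl)) (hmin i none hi s hs)
      show dotInt (vec44 none k 1) (vec44 i none s) ≠ 0
      rw [dotInt_vec44]
      unfold vec44
      rw [if_neg hi, if_neg (Ne.symm hk2), if_pos rfl, if_neg (Ne.symm hk1)]
      rcases hs with rfl | rfl <;> norm_num
    · apply fix_of_dot g (s3 i hi 1 (Or.inl rfl)) (hmin i j hij s hs)
      show dotInt (vec44 none i 1) (vec44 i j s) ≠ 0
      rw [dotInt_vec44]
      unfold vec44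
      rw [if_neg hi, if_pos rfl, if_neg hj, if_neg (Ne.symm hij)]
      norm_num

theorem eq_one_of_fix (hr : g • v44 none (some 0) 1 (Or.inl rfl) = v44 none (some 0) 1 (Or.inl rfl))
    (v : leechLattice) : g • v = v := by
  apply Subtype.ext
  funext i
  obtain ⟨j, hij⟩ : ∃ j : GolayPt, i ≠ j := by
    by_cases h : i = none
    · exact ⟨some 0, by rw [h]; simp⟩
    · exact ⟨none, h⟩
  have h1 := co0_dotInt g.2 v (v44 i j 1 (Or.inl rfl))
  have h2 := co0_dotInt g.2 v (v44 i j (-1) (Or.inr rfl))
  rw [← smul_eq, ← smul_eq, fix_vec44 g hg hr i j hij] at h1 h2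
  have h3 : dotInt (g • v).1 (vec44 i j 1) = dotInt v.1 (vec44 i j 1) := h1
  have h4 : dotInt (g • v).1 (vec44 i j (-1)) = dotInt v.1 (vec44 i j (-1)) := h2
  rw [dotInt_vec44, dotInt_vec44] at h3 h4
  omega

end faithful

theorem neg_central (k : Co0) : (⟨negP, negP_mem⟩ : Co0) * k = k * ⟨negP, negP_mem⟩ := by
  apply Subtype.ext
  ext v : 1
  show negP (k.1 v) = k.1 (negP v)
  rw [negP_apply, negP_apply]
  have h0 : k.1 0 = 0 := by
    have := k.2.1 0 0
    rw [add_zero] at this
    exact left_eq_add.mp this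
  have := k.2.1 v (-v)
  rw [add_neg_cancel, h0] at this
  exact (neg_eq_of_add_eq_zero_right this.symm)

theorem eq_one_of_forall {g : Co0} (h : ∀ v : leechLattice, g • v = v) : g = 1 := by
  apply Subtype.ext
  apply Equiv.ext
  intro v
  exact h v

theorem faithful (g : Co0) (hg : ∀ v : leechLattice, ∃ w : leechLattice,
    ((g • v : leechLattice) : GolayPt → ℤ) - (v : GolayPt → ℤ) = 2 • (w : GolayPt → ℤ)) :
    g ∈ Subgroup.center Co0 := by
  set r := v44 none (some 0) 1 (Or.inl rfl) with hr
  rcases pm_of_min g hg r (sqNorm_vec44' _ _ (by simp) _ (Or.inl rfl)) with h | h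
  · rw [eq_one_of_forall (eq_one_of_fix g hg h)]
    exact Subgroup.one_mem _
  · set n : Co0 := ⟨negP, negP_mem⟩ with hn
    have hnv : ∀ v : leechLattice, n • v = -v := fun v => rfl
    have hg' : ∀ v : leechLattice, ∃ w : leechLattice,
        (((n * g) • v : leechLattice) : GolayPt → ℤ) - (v : GolayPt → ℤ) =
          2 • (w : GolayPt → ℤ) := by
      intro v
      obtain ⟨w, hw⟩ := hg v
      refine ⟨-w - v, ?_⟩
      rw [mul_smul, hnv]
      show -((g • v : leechLattice) : GolayPt → ℤ) - v.1 = 2 • (-w.1 - v.1)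
      have : ((g • v : leechLattice) : GolayPt → ℤ) = v.1 + 2 • w.1 := by rw [← hw]; abel
      rw [this, smul_sub, smul_neg, two_smul ℕ v.1]
      abel
    have hr' : (n * g) • r = r := by
      rw [mul_smul, h, hnv, neg_neg]
    have h1 : n * g = 1 := eq_one_of_forall (eq_one_of_fix (n * g) hg' hr')
    have hnn : n * n = 1 := by
      apply eq_one_of_forall
      intro v
      rw [mul_smul, hnv, hnv, neg_neg]
    have hgn : g = n := by
      calc g = (n * n) * g := by rw [hnn, one_mul]
        _ = n * (n * g) := by rw [mul_assoc]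
        _ = n := by rw [h1, mul_one]
    rw [hgn, Subgroup.mem_center_iff]
    intro k
    exact (neg_central k).symm

theorem irreducible (M : AddSubgroup (GolayPt → ℤ))
    (h2 : ∀ v ∈ leechLattice, (2 : ℤ) • v ∈ M) (hle : M ≤ leechLattice)
    (hinv : ∀ g : Co0, ∀ v : leechLattice, (v : GolayPt → ℤ) ∈ M →
      ((g • v : leechLattice) : GolayPt → ℤ) ∈ M) :
    (∀ x ∈ M, ∃ w ∈ leechLattice, x = (2 : ℤ) • w) ∨ M = leechLattice := by
  by_cases hall : ∀ x ∈ M, ∃ w ∈ leechLattice, x = (2 : ℤ) • w
  · left; exact hall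
  right
  simp only [not_forall] at hall
  obtain ⟨x, hxM, hx⟩ := hall
  obtain ⟨y, hy, hyn, z, hz, hxy⟩ := exists_short_rep (hle hxM)
  have e2 : (2 : ℕ) • z = (2 : ℤ) • z := by rw [two_smul, two_smul]
  have hyM : y ∈ M := by
    have : y = x - (2 : ℤ) • z := by rw [← e2, ← hxy]; abel
    rw [this]
    exact M.sub_mem hxM (h2 z hz)
  have hy0 : y ≠ 0 := by
    intro h0
    apply hx
    refine ⟨z, hz, ?_⟩
    rw [← e2, ← hxy, h0, sub_zero]
  -- transfer along the group
  have htrans : ∀ u u' : GolayPt → ℤ, CoEq u u' → u ∈ M → u' ∈ M := by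
    intro u u' hc hu
    obtain ⟨g, hg, hu1, rfl⟩ := hc
    exact hinv ⟨g, hg⟩ ⟨u, hu1⟩ hu
  -- a minimal vector in M
  have hmin : ∃ m0 ∈ M, sqNorm m0 = 32 := by
    have h16 := sqNorm_dvd_of_mem hy
    have hge := leech_min_norm hy hy0
    have : sqNorm y = 32 ∨ sqNorm y = 48 ∨ sqNorm y = 64 := by omega
    rcases this with h | h | h
    · exact ⟨y, hyM, h⟩
    · have hp1 : oddVec ∅ {none} 0 ∈ leechLattice :=
        oddVec_mem (Finset.disjoint_empty_left _) (zero_mem _) (by decide)
      have hp2 : oddVec ∅ {some 0} 0 ∈ leechLattice :=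
        oddVec_mem (Finset.disjoint_empty_left _) (zero_mem _) (by decide)
      have m1 := htrans y _ (trans_norm48 hy hp1 h (by decide)) hyM
      have m2 := htrans y _ (trans_norm48 hy hp2 h (by decide)) hyM
      exact ⟨_, M.sub_mem m1 m2, by decide⟩
    · have hp1 : oddVec {some 1, some 2} {none} 0 ∈ leechLattice :=
        oddVec_mem (by decide) (zero_mem _) (by decide)
      have hp2 : oddVec {some 1, some 2} {some 0} 0 ∈ leechLattice :=
        oddVec_mem (by decide) (zero_mem _) (by decide)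
      have m1 := htrans y _ (trans_norm64 hy hp1 h (by decide)) hyM
      have m2 := htrans y _ (trans_norm64 hy hp2 h (by decide)) hyM
      exact ⟨_, M.sub_mem m1 m2, by decide⟩
  obtain ⟨m0, hm0, hm0n⟩ := hmin
  apply le_antisymm hle
  rw [← Cfsg.Agent.S1567.result, AddSubgroup.closure_le]
  intro v hv
  exact htrans m0 v (trans_norm32 (hle hm0) hv.1 hm0n hv.2) hm0

/-- The Leech lattice modulo twice itself is a faithful irreducible module for the first Conway group: an automorphism of the rank-24 lattice built from the length-24 code that moves every lattice vector only by twice a lattice vector lies in the centre of the automorphism group (the centre consists of ±1, which act trivially there, so the kernel is exactly the centre), and an additive subgroup lying between twice the lattice and the lattice that is invariant under all lattice automorphisms is one of the two. -/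
theorem result : (∀ g : ↥Cfsg.Co0, (∀ v : ↥Cfsg.leechLattice, ∃ w : ↥Cfsg.leechLattice, ((g • v : ↥Cfsg.leechLattice) : Cfsg.GolayPt → ℤ) - (v : Cfsg.GolayPt → ℤ) = 2 • (w : Cfsg.GolayPt → ℤ)) → g ∈ Subgroup.center ↥Cfsg.Co0) ∧ ∀ M : AddSubgroup (Cfsg.GolayPt → ℤ), (∀ v ∈ Cfsg.leechLattice, (2 : ℤ) • v ∈ M) → M ≤ Cfsg.leechLattice → (∀ g : ↥Cfsg.Co0, ∀ v : ↥Cfsg.leechLattice, (v : Cfsg.GolayPt → ℤ) ∈ M → ((g • v : ↥Cfsg.leechLattice) : Cfsg.GolayPt → ℤ) ∈ M) → (∀ x ∈ M, ∃ w ∈ Cfsg.leechLattice, x = (2 : ℤ) • w) ∨ M = Cfsg.leechLattice :=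
  ⟨faithful, irreducible⟩

end Cfsg.Agent.S5392
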