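import Mathlib
import Cfsg.Statements.S5394
import Cfsg.Agent.Lib.Helper29.M24Invol

set_option autoImplicit false
open Cfsg

namespace Cfsg.Agent.S5394

/-- The automorphism group of the length-24 code built from the squares modulo 23 has exactly two conjugacy classes of involutions: an involution either fixes exactly the eight points of an octad or has no fixed points, both kinds occur, and any two involutions of the same kind are conjugate in the group. -/
theorem result : (∀ g ∈ Cfsg.M24, orderOf g = 2 → (Finset.univ.filter fun p => g p = p) ∈ Cfsg.octads ∨ ∀ p, g p ≠ p) ∧ (∃ g ∈ Cfsg.M24, orderOf g = 2 ∧ (Finset.univ.filter fun p => g p = p) ∈ Cfsg.octads) ∧ (∃ g ∈ Cfsg.M24, orderOf g = 2 ∧ ∀ p, g p ≠ p) ∧ ∀ g ∈ Cfsg.M24, ∀ h ∈ Cfsg.M24, orderOf g = 2 → orderOf h = 2 → ((∀ p, g p ≠ p) ↔ (∀ p, h p ≠ p)) → ∃ k ∈ Cfsg.M24, k * g * k⁻¹ = h := by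
  open Cfsg.Agent.Helper29.M24 Cfsg.Agent.Helper29 in
  refine ⟨?_, ?_, ?_, ?_⟩
  · intro g hg h2
    rcases invol_fixed g hg h2 with h | h
    · exact Or.inl h.1
    · exact Or.inr h.1
  · exact ⟨evalW zA, evalW_mem_M24 _ zA_lt, orderOf_zA, fixed_zA_mem⟩
  · exact ⟨evalW zB, evalW_mem_M24 _ zB_lt, orderOf_zB, fixed_zB⟩
  · intro g hg h hh hg2 hh2 hiff
    have key : ∀ (z k1 k2 : Equiv.Perm Cfsg.GolayPt), k1 ∈ Cfsg.M24 → k2 ∈ Cfsg.M24 →
        g = k1 * z * k1⁻¹ → h = k2 * z * k2⁻¹ → ∃ k ∈ Cfsg.M24, k * g * k⁻¹ = h := by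
      intro z k1 k2 hk1 hk2 e1 e2
      refine ⟨k2 * k1⁻¹, Subgroup.mul_mem _ hk2 (Subgroup.inv_mem _ hk1), ?_⟩
      rw [e1, e2]
      group
    have hoct : ∀ σ : Equiv.Perm Cfsg.GolayPt,
        (Finset.univ.filter fun p => σ p = p) ∈ Cfsg.octads → ¬ ∀ p, σ p ≠ p := by
      intro σ ho hall
      have hc : (Finset.univ.filter fun p => σ p = p).card = 8 := ho.2
      have he : (Finset.univ.filter fun p => σ p = p) = ∅ := by
        rw [Finset.filter_eq_empty_iff]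
        intro p _
        exact hall p
      rw [he] at hc
      simp at hc
    rcases invol_fixed g hg hg2 with ⟨ho1, k1, hk1, e1⟩ | ⟨hf1, k1, hk1, e1⟩
    · rcases invol_fixed h hh hh2 with ⟨ho2, k2, hk2, e2⟩ | ⟨hf2, k2, hk2, e2⟩
      · exact key _ k1 k2 hk1 hk2 e1 e2
      · exact absurd (hiff.2 hf2) (hoct g ho1)
    · rcases invol_fixed h hh hh2 with ⟨ho2, k2, hk2, e2⟩ | ⟨hf2, k2, hk2, e2⟩
      · exact absurd (hiff.1 hf1) (hoct h ho2)
      · exact key _ k1 k2 hk1 hk2 e1 e2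

end Cfsg.Agent.S5394
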