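import Mathlib
import Cfsg.Statements.S5395

set_option autoImplicit false
open Cfsg
open scoped commutatorElement
open scoped IsMulCommutative

namespace Cfsg.Agent.S5395

variable {E : Type*} [Group E]

instance fact_prime_two : Fact (Nat.Prime 2) := ⟨Nat.prime_two⟩

/-- The commutator map `x ↦ [g, x]` into the centre, when the derived subgroup is central. -/
def commHom (hcomm : commutator E = Subgroup.center E) (g : E) : E →* Subgroup.center E where
  toFun x := ⟨g * x * g⁻¹ * x⁻¹, by
    rw [← hcomm]
    exact Subgroup.commutator_mem_commutator (Subgroup.mem_top g) (Subgroup.mem_top x)⟩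
  map_one' := by
    apply Subtype.ext
    show g * 1 * g⁻¹ * 1⁻¹ = 1
    group
  map_mul' := by
    intro x y
    apply Subtype.ext
    show g * (x * y) * g⁻¹ * (x * y)⁻¹ = (g * x * g⁻¹ * x⁻¹) * (g * y * g⁻¹ * y⁻¹)
    have hy : g * y * g⁻¹ * y⁻¹ ∈ Subgroup.center E := by
      rw [← hcomm]
      exact Subgroup.commutator_mem_commutator (Subgroup.mem_top g) (Subgroup.mem_top y)
    have hc := Subgroup.mem_center_iff.mp hy x⁻¹
    calc g * (x * y) * g⁻¹ * (x * y)⁻¹ = g * x * g⁻¹ * ((g * y * g⁻¹ * y⁻¹) * x⁻¹) := by group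
      _ = g * x * g⁻¹ * (x⁻¹ * (g * y * g⁻¹ * y⁻¹)) := by rw [hc]
      _ = (g * x * g⁻¹ * x⁻¹) * (g * y * g⁻¹ * y⁻¹) := by group

theorem commHom_apply (hcomm : commutator E = Subgroup.center E) (g x : E) :
    ((commHom hcomm g x : Subgroup.center E) : E) = g * x * g⁻¹ * x⁻¹ := rfl

/-- The map `x ↦ φ x * x⁻¹` into the centre. -/
def autHom (φ : E ≃* E) (hφ : ∀ x : E, φ x * x⁻¹ ∈ Subgroup.center E) : E →* Subgroup.center E where
  toFun x := ⟨φ x * x⁻¹, hφ x⟩
  map_one' := by
    apply Subtype.ext
    show φ 1 * 1⁻¹ = 1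
    simp
  map_mul' := by
    intro x y
    apply Subtype.ext
    show φ (x * y) * (x * y)⁻¹ = (φ x * x⁻¹) * (φ y * y⁻¹)
    have hc := Subgroup.mem_center_iff.mp (hφ y) x⁻¹
    rw [map_mul]
    calc φ x * φ y * (x * y)⁻¹ = φ x * ((φ y * y⁻¹) * x⁻¹) := by group
      _ = φ x * (x⁻¹ * (φ y * y⁻¹)) := by rw [hc]
      _ = (φ x * x⁻¹) * (φ y * y⁻¹) := by group

/-- An injective homomorphism from a group of order two to the units of the complex numbers. -/
theorem exists_injective_hom_of_card_two {T : Type*} [Group T] (hT : Nat.card T = 2) :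
    ∃ j : T →* ℂˣ, Function.Injective j := by
  have h2 : Nat.card ℤˣ = 2 := by
    rw [Nat.card_eq_fintype_card]; rfl
  let e : T ≃* ℤˣ := mulEquivOfPrimeCardEq hT h2
  refine ⟨(Units.map (Int.castRingHom ℂ).toMonoidHom).comp e.toMonoidHom, ?_⟩
  intro a b hab
  apply e.injective
  have hinj : Function.Injective (Units.map (Int.castRingHom ℂ).toMonoidHom) :=
    Units.map_injective (by
      intro a b h
      exact Int.cast_injective h)
  exact hinj hab

/-- There are at most `|E : E'|` homomorphisms from `E` to a commutative group of order two. -/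
theorem card_hom_le [Finite E] {T : Type*} [CommGroup T] (hT : Nat.card T = 2) :
    Nat.card (E →* T) ≤ Nat.card (Abelianization E) := by
  obtain ⟨j, hj⟩ := exists_injective_hom_of_card_two hT
  have hne : NeZero (Monoid.exponent (Abelianization E)) := ⟨Monoid.exponent_ne_zero_of_finite⟩
  have hcard : Nat.card (Abelianization E →* ℂˣ) = Nat.card (Abelianization E) :=
    CommGroup.card_monoidHom_of_hasEnoughRootsOfUnity (Abelianization E) ℂ
  have hfin : Finite (Abelianization E →* ℂˣ) := by
    apply Nat.finite_of_card_ne_zero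
    rw [hcard]
    exact Nat.card_pos.ne'
  rw [← hcard]
  let F : (E →* T) → (Abelianization E →* ℂˣ) := fun f => j.comp (Abelianization.lift f)
  apply Nat.card_le_card_of_injective F
  intro f₁ f₂ h
  apply Abelianization.lift.injective
  ext x
  have := DFunLike.congr_fun h (Abelianization.of x)
  exact hj this

theorem result {E : Type*} [Group E] [Finite E] (hE : Cfsg.IsExtraspecial 2 E) (φ : E ≃* E) (hφ : ∀ x : E, φ x * x⁻¹ ∈ Subgroup.center E) : ∃ g : E, ∀ x : E, φ x = g * x * g⁻¹ := by
  have hcomm : commutator E = Subgroup.center E := hE.1.2.2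
  have hcard : Nat.card (Subgroup.center E) = 2 := hE.2
  -- cardinalities
  have hab : Nat.card (Abelianization E) = Nat.card (E ⧸ Subgroup.center E) := by
    unfold Abelianization
    rw [hcomm]
  have hle : Nat.card (E →* Subgroup.center E) ≤ Nat.card (E ⧸ Subgroup.center E) := by
    rw [← hab]; exact card_hom_le hcard
  -- the induced injective map from E ⧸ Z(E)
  let Λ : E ⧸ Subgroup.center E → (E →* Subgroup.center E) :=
    Quotient.lift (fun g => commHom hcomm g) (by
      intro a b hab
      have hab' : a⁻¹ * b ∈ Subgroup.center E := QuotientGroup.leftRel_apply.mp hab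
      ext x
      rw [commHom_apply, commHom_apply]
      have hc := Subgroup.mem_center_iff.mp hab' x
      -- (a⁻¹ b) x = x (a⁻¹ b)  →  a x a⁻¹ = b x b⁻¹
      have : a * x * a⁻¹ = b * x * b⁻¹ := by
        calc a * x * a⁻¹ = a * (x * (a⁻¹ * b)) * b⁻¹ := by group
          _ = a * ((a⁻¹ * b) * x) * b⁻¹ := by rw [hc]
          _ = b * x * b⁻¹ := by group
      rw [this])
  have hΛ : ∀ g : E, Λ (QuotientGroup.mk g) = commHom hcomm g := fun g => rfl
  have hinj : Function.Injective Λ := by
    intro a b
    induction a using QuotientGroup.induction_on with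
    | H a =>
    induction b using QuotientGroup.induction_on with
    | H b =>
      intro h
      rw [hΛ, hΛ] at h
      rw [QuotientGroup.eq, Subgroup.mem_center_iff]
      intro x
      have h1 := DFunLike.congr_fun h x
      have h2 := congrArg Subtype.val h1
      rw [commHom_apply, commHom_apply] at h2
      have h3 : a * x * a⁻¹ = b * x * b⁻¹ := by
        calc a * x * a⁻¹ = (a * x * a⁻¹ * x⁻¹) * x := by group
          _ = (b * x * b⁻¹ * x⁻¹) * x := by rw [h2]
          _ = b * x * b⁻¹ := by group
      calc x * (a⁻¹ * b) = a⁻¹ * (a * x * a⁻¹) * b := by group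
        _ = a⁻¹ * (b * x * b⁻¹) * b := by rw [h3]
        _ = a⁻¹ * b * x := by group
  have hfin : Finite (E →* Subgroup.center E) := by
    have : Finite (E → Subgroup.center E) := inferInstance
    exact Finite.of_injective (fun f : E →* Subgroup.center E => (f : E → Subgroup.center E))
      DFunLike.coe_injective
  have hbij : Function.Bijective Λ := hinj.bijective_of_nat_card_le hle
  obtain ⟨gbar, hg⟩ := hbij.2 (autHom φ hφ)
  induction gbar using QuotientGroup.induction_on with
  | H g =>
    refine ⟨g, fun x => ?_⟩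
    rw [hΛ] at hg
    have h1 := DFunLike.congr_fun hg x
    have h2 := congrArg Subtype.val h1
    rw [commHom_apply] at h2
    have h3 : φ x * x⁻¹ = g * x * g⁻¹ * x⁻¹ := h2.symm
    calc φ x = (φ x * x⁻¹) * x := by group
      _ = (g * x * g⁻¹ * x⁻¹) * x := by rw [h3]
      _ = g * x * g⁻¹ := by group

end Cfsg.Agent.S5395
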