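import Mathlib
import Cfsg.Statements.S5396
import Cfsg.Agent.Lib.Helper27.ExtraConstr

set_option autoImplicit false
open Cfsg

namespace Cfsg.Agent.S5396

open Cfsg.Agent.Helper27

/-- The underlying space: `m + 1` hyperbolic-type planes. -/
abbrev VV (m : ℕ) : Type := Fin (m + 1) → ZMod 2 × ZMod 2

/-- The cocycle; `ε = 0` for plus type and `ε = 1` for minus type. -/
def gam (m : ℕ) (ε : ZMod 2) : LinearMap.BilinForm (ZMod 2) (VV m) :=
  LinearMap.mk₂ (ZMod 2)
    (fun v w => ∑ i, (v i).1 * (w i).2 + ε * ((v 0).1 * (w 0).1 + (v 0).2 * (w 0).2))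
    (by
      intro a b c
      simp only [Pi.add_apply, Prod.fst_add, Prod.snd_add, add_mul, Finset.sum_add_distrib]
      ring)
    (by
      intro c a b
      simp only [Pi.smul_apply, Prod.smul_fst, Prod.smul_snd, smul_eq_mul]
      have : ∀ i, c * (a i).1 * (b i).2 = c * ((a i).1 * (b i).2) := fun i => by ring
      simp only [this, ← Finset.mul_sum]
      ring)
    (by
      intro a b c
      simp only [Pi.add_apply, Prod.fst_add, Prod.snd_add, mul_add, Finset.sum_add_distrib]
      ring)
    (by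
      intro c a b
      simp only [Pi.smul_apply, Prod.smul_fst, Prod.smul_snd, smul_eq_mul]
      have : ∀ i, (a i).1 * (c * (b i).2) = c * ((a i).1 * (b i).2) := fun i => by ring
      simp only [this, ← Finset.mul_sum]
      ring)

theorem gam_apply (m : ℕ) (ε : ZMod 2) (v w : VV m) :
    gam m ε v w = ∑ i, (v i).1 * (w i).2 + ε * ((v 0).1 * (w 0).1 + (v 0).2 * (w 0).2) := rfl

theorem polar_gam (m : ℕ) (ε : ZMod 2) (v w : VV m) :
    ExtG.polar (gam m ε) v w = ∑ i, ((v i).1 * (w i).2 + (w i).1 * (v i).2) := by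
  rw [ExtG.polar_apply, gam_apply, gam_apply, Finset.sum_add_distrib]
  have : ∀ a b c d : ZMod 2, a + ε * c + (b + ε * d) = a + b + ε * (c + d) := by
    intro a b c d; ring
  rw [this]
  have h2 : (v 0).1 * (w 0).1 + (v 0).2 * (w 0).2 + ((w 0).1 * (v 0).1 + (w 0).2 * (v 0).2) = 0 := by
    have : ∀ a b c d : ZMod 2, a * b + c * d + (b * a + d * c) = 0 := by decide
    exact this _ _ _ _
  rw [h2, mul_zero, add_zero]

theorem sepLeft (m : ℕ) (ε : ZMod 2) (x : VV m)
    (hx : ∀ y : VV m, ExtG.polar (gam m ε) x y = 0) : x = 0 := by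
  funext i
  apply Prod.ext
  · have h := hx (Pi.single i (0, 1))
    rw [polar_gam, Finset.sum_eq_single i] at h
    · simpa using h
    · intro j _ hj
      rw [Pi.single_eq_of_ne hj]; simp
    · intro h'; exact absurd (Finset.mem_univ i) h'
  · have h := hx (Pi.single i (1, 0))
    rw [polar_gam, Finset.sum_eq_single i] at h
    · simpa using h
    · intro j _ hj
      rw [Pi.single_eq_of_ne hj]; simp
    · intro h'; exact absurd (Finset.mem_univ i) h'

theorem nondeg (m : ℕ) (ε : ZMod 2) : (ExtG.polar (gam m ε)).Nondegenerate := by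
  constructor
  · intro x hx
    exact sepLeft m ε x hx
  · intro y hy
    apply sepLeft m ε y
    intro x
    rw [ExtG.polar_symm]
    exact hy x

theorem finrank_VV (m : ℕ) : Module.finrank (ZMod 2) (VV m) = 2 * (m + 1) := by
  simp [Module.finrank_pi_fintype, Module.finrank_prod, Module.finrank_self, mul_comm]

theorem card_VV (m : ℕ) : Nat.card (VV m) = 2 ^ (2 * (m + 1)) := by
  rw [Nat.card_eq_fintype_card, Module.card_eq_pow_finrank (K := ZMod 2), ZMod.card, finrank_VV]

/-- The totally singular subspace for plus type. -/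
def fPlus (m : ℕ) : (Fin (m + 1) → ZMod 2) →ₗ[ZMod 2] VV m where
  toFun a := fun i => (a i, 0)
  map_add' := by intro a b; funext i; simp
  map_smul' := by intro c a; funext i; simp

/-- The totally singular subspace for minus type. -/
def fMinus (m : ℕ) : (Fin m → ZMod 2) →ₗ[ZMod 2] VV m where
  toFun a := fun i => ((Fin.cons 0 a : Fin (m + 1) → ZMod 2) i, 0)
  map_add' := by
    intro a b; funext i
    refine Fin.cases ?_ (fun j => ?_) i <;> simp
  map_smul' := by
    intro c a; funext i
    refine Fin.cases ?_ (fun j => ?_) i <;> simp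

theorem fPlus_inj (m : ℕ) : Function.Injective (fPlus m) := by
  intro a b h
  funext i
  have := congrFun h i
  exact congrArg Prod.fst this

theorem fMinus_inj (m : ℕ) : Function.Injective (fMinus m) := by
  intro a b h
  funext j
  have := congrFun h j.succ
  have := congrArg Prod.fst this
  simpa [fMinus] using this

theorem sgn_sum {ι : Type} (s : Finset ι) (f : ι → ZMod 2) :
    ExtG.sgn (∑ i ∈ s, f i) = ∏ i ∈ s, ExtG.sgn (f i) := by
  classical
  induction s using Finset.induction_on with
  | empty => simp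
  | insert a s ha ih => rw [Finset.sum_insert ha, Finset.prod_insert ha, AddChar.map_add_eq_mul, ih]

/-- The character sum of the minus-type form is negative. -/
theorem charSum_minus (m : ℕ) :
    ∑ v : VV m, ExtG.sgn (gam m 1 v v) = -(2 : ℤ) ^ (m + 1) := by
  classical
  let g : Fin (m + 1) → ZMod 2 × ZMod 2 → ℤ := fun i x =>
    ExtG.sgn (x.1 * x.2) * (if i = 0 then ExtG.sgn (x.1 * x.1 + x.2 * x.2) else 1)
  have h1 : ∀ v : VV m, ExtG.sgn (gam m 1 v v) = ∏ i, g i (v i) := by
    intro v
    rw [gam_apply, AddChar.map_add_eq_mul, sgn_sum, Finset.prod_mul_distrib, one_mul]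
    congr 1
    rw [Finset.prod_ite_eq' Finset.univ (0 : Fin (m + 1))
      (fun i => ExtG.sgn ((v i).1 * (v i).1 + (v i).2 * (v i).2))]
    simp
  have h2 : ∑ v : VV m, ∏ i, g i (v i) = ∏ i, ∑ x : ZMod 2 × ZMod 2, g i x := by
    rw [Finset.prod_univ_sum, Fintype.piFinset_univ]
  have h3 : ∀ i : Fin (m + 1), ∑ x : ZMod 2 × ZMod 2, g i x = if i = 0 then -2 else 2 := by
    intro i
    by_cases hi : i = 0
    · simp only [g, hi, if_true]
      decide
    · simp only [g, hi, if_false, mul_one]
      decide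
  rw [Finset.sum_congr rfl (fun v _ => h1 v), h2, Finset.prod_congr rfl (fun i _ => h3 i),
    Fin.prod_univ_succ]
  simp [Fin.succ_ne_zero, pow_succ, mul_comm]

theorem q_fPlus (m : ℕ) (a : Fin (m + 1) → ZMod 2) : gam m 0 (fPlus m a) (fPlus m a) = 0 := by
  rw [gam_apply]; simp [fPlus]

theorem b_fPlus (m : ℕ) (a b : Fin (m + 1) → ZMod 2) :
    ExtG.polar (gam m 0) (fPlus m a) (fPlus m b) = 0 := by
  rw [polar_gam]; simp [fPlus]

theorem q_fMinus (m : ℕ) (a : Fin m → ZMod 2) : gam m 1 (fMinus m a) (fMinus m a) = 0 := by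
  rw [gam_apply]; simp [fMinus]

theorem b_fMinus (m : ℕ) (a b : Fin m → ZMod 2) :
    ExtG.polar (gam m 1) (fMinus m a) (fMinus m b) = 0 := by
  rw [polar_gam]; simp [fMinus]

/-- For every n ≥ 1 there exist finite extraspecial 2-groups of order 2^(2n+1) whose 2-rank (the largest rank of an elementary abelian subgroup) is n, and ones whose 2-rank is n + 1 (so for each such order there are two non-isomorphic extraspecial 2-groups, told apart by their 2-rank). -/
theorem result (n : ℕ) (hn : 1 ≤ n) : ∀ r ∈ ({n, n + 1} : Set ℕ), ∃ (E : Type) (_ : Group E) (_ : Finite E), Cfsg.IsExtraspecial 2 E ∧ Nat.card E = 2 ^ (2 * n + 1) ∧ sSup {k : ℕ | ∃ A : Subgroup E, Cfsg.IsElementaryAbelian 2 A ∧ Nat.card A = 2 ^ k} = r := by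
  obtain ⟨m, rfl⟩ : ∃ m, n = m + 1 := ⟨n - 1, by omega⟩
  intro r hr
  rcases hr with rfl | hr
  · -- minus type
    refine ⟨ExtG (gam m 1), ExtG.instGroupExtG, ExtG.instFiniteExtG,
      ExtG.isExtraspecial (sepLeft m 1), ?_, ?_⟩
    · rw [ExtG.card_eq, card_VV]; ring
    · apply IsGreatest.csSup_eq
      constructor
      · obtain ⟨A, hA, hcard⟩ := ExtG.exists_elemAb (γ := gam m 1) (fMinus m) (fMinus_inj m)
          (q_fMinus m) (b_fMinus m)
        refine ⟨A, hA, ?_⟩
        rw [hcard, Nat.card_eq_fintype_card, Fintype.card_fun]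
        simp only [ZMod.card, Fintype.card_fin]
        ring
      · rintro k ⟨A, hA, hk⟩
        have h1 := ExtG.rank_le (nondeg m 1) (finrank_VV m) A hA k hk
        by_contra hlt
        have hk' : k = m + 1 + 1 := by omega
        rw [hk'] at hk
        have hfr := ExtG.finrank_imageSub_of_max (nondeg m 1) (finrank_VV m) A hA hk
        have hcs := ExtG.charSum_eq (γ := gam m 1) (ExtG.imageSub A) (ExtG.imageSub_sing hA)
          (ExtG.imageSub_iso hA)
          (ExtG.mem_of_perp (nondeg m 1) _ (ExtG.imageSub_iso hA) (by rw [hfr, finrank_VV]))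
        rw [charSum_minus] at hcs
        have h2 : (0 : ℤ) ≤ (Nat.card (ExtG.imageSub A) : ℤ) := Nat.cast_nonneg _
        have h3 : (0 : ℤ) < 2 ^ (m + 1) := by positivity
        omega
  · -- plus type
    rw [Set.mem_singleton_iff] at hr
    subst hr
    refine ⟨ExtG (gam m 0), ExtG.instGroupExtG, ExtG.instFiniteExtG,
      ExtG.isExtraspecial (sepLeft m 0), ?_, ?_⟩
    · rw [ExtG.card_eq, card_VV]; ring
    · apply IsGreatest.csSup_eq
      constructor
      · obtain ⟨A, hA, hcard⟩ := ExtG.exists_elemAb (γ := gam m 0) (fPlus m) (fPlus_inj m)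
          (q_fPlus m) (b_fPlus m)
        refine ⟨A, hA, ?_⟩
        rw [hcard, Nat.card_eq_fintype_card, Fintype.card_fun]
        simp only [ZMod.card, Fintype.card_fin]
        ring
      · rintro k ⟨A, hA, hk⟩
        exact ExtG.rank_le (nondeg m 0) (finrank_VV m) A hA k hk

end Cfsg.Agent.S5396
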