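import Mathlib
import Cfsg.Statements.S5420
import Cfsg.Agent.Lib.Helper27.Basic

set_option autoImplicit false
open Cfsg Cfsg.Agent.Helper27

namespace Cfsg.Agent.S5420

theorem result {G : Type*} [Group G] [Finite G] (Q : Subgroup G) (hL1 : Cfsg.IsExtraspecial 2 ↥Q) (hL2 : Subgroup.centralizer (Q : Set G) = ((Subgroup.center ↥Q).map Q.subtype)) (hL3 : Subgroup.centralizer (((Subgroup.center ↥Q).map Q.subtype) : Set G) ≤ Subgroup.normalizer (Q : Set G)) (hZ : ((Subgroup.center ↥Q).map Q.subtype) ≤ Cfsg.pCore 2 G) : Cfsg.IsLargeExtraspecial Q := by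
  refine ⟨hL1, hL2, hL3, ?_⟩
  intro K hK hQK
  have hQ2 : IsPGroup 2 Q := hL1.1.1
  have hQ2' : IsPGroup 2 (Q : Subgroup G) := hQ2
  set Z : Subgroup G := (Subgroup.center Q).map Q.subtype with hZdef
  have hZQ : Z ≤ Q := Subgroup.map_subtype_le _
  have hRn : (pCore 2 G).Normal := pCore_normal (G := G) 2
  have hR2 : IsPGroup 2 (pCore 2 G) := pCore_isPGroup (G := G) 2
  -- Step A/B: K centralizes Z
  have hKZ : K ≤ Subgroup.centralizer (Z : Set G) := by
    intro k hk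
    rw [Subgroup.mem_centralizer_iff]
    intro z hz
    have hzQ : z ∈ Q := hZQ hz
    have hzN := hQK hzQ
    have h1 : z * k * z⁻¹ ∈ K := (Subgroup.mem_set_normalizer_iff.mp hzN k).mp hk
    have hcK : z * k * z⁻¹ * k⁻¹ ∈ K := K.mul_mem h1 (K.inv_mem hk)
    have hzR : z ∈ pCore 2 G := hZ hz
    have hcR : z * k * z⁻¹ * k⁻¹ ∈ pCore 2 G := by
      have h2 : k * z⁻¹ * k⁻¹ ∈ pCore 2 G := hRn.conj_mem _ ((pCore 2 G).inv_mem hzR) k
      have := (pCore 2 G).mul_mem hzR h2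
      have e : z * (k * z⁻¹ * k⁻¹) = z * k * z⁻¹ * k⁻¹ := by group
      rwa [e] at this
    have := eq_one_of_mem_two_group_of_mem_odd hR2 hK hcR hcK
    calc z * k = (z * k * z⁻¹ * k⁻¹) * (k * z) := by group
      _ = k * z := by rw [this, one_mul]
  have hKN : K ≤ Subgroup.normalizer (Q : Set G) := hKZ.trans hL3
  -- Step C: K centralizes Q
  have hKQ : K ≤ Subgroup.centralizer (Q : Set G) := by
    intro k hk
    rw [Subgroup.mem_centralizer_iff]
    intro q hq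
    have hqN := hQK hq
    have h1 : q * k * q⁻¹ ∈ K := (Subgroup.mem_set_normalizer_iff.mp hqN k).mp hk
    have hcK : q * k * q⁻¹ * k⁻¹ ∈ K := K.mul_mem h1 (K.inv_mem hk)
    have hkN := hKN hk
    have h2 : k * q⁻¹ * k⁻¹ ∈ Q := (Subgroup.mem_set_normalizer_iff.mp hkN q⁻¹).mp (Q.inv_mem hq)
    have hcQ : q * k * q⁻¹ * k⁻¹ ∈ Q := by
      have := Q.mul_mem hq h2
      have e : q * (k * q⁻¹ * k⁻¹) = q * k * q⁻¹ * k⁻¹ := by group
      rwa [e] at this
    have := eq_one_of_mem_two_group_of_mem_odd hQ2' hK hcQ hcK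
    calc q * k = (q * k * q⁻¹ * k⁻¹) * (k * q) := by group
      _ = k * q := by rw [this, one_mul]
  -- Step D
  rw [eq_bot_iff]
  intro k hk
  rw [Subgroup.mem_bot]
  have hkZ : k ∈ Z := by rw [← hL2]; exact hKQ hk
  exact eq_one_of_mem_two_group_of_mem_odd hQ2' hK (hZQ hkZ) hk

end Cfsg.Agent.S5420
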