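import Mathlib
import Cfsg.Statements.S5421
import Cfsg.Agent.Lib.Helper27.LargeExtra

set_option autoImplicit false
open Cfsg Cfsg.Agent.Helper27

namespace Cfsg.Agent.S5421

variable {G : Type*} [Group G]

/-- If `z` centralizes the fixed points on `K` of an involution `a` commuting with `z`, then every
element of `K` inverted by `z` is inverted by `a`. -/
theorem inverted_of_centralizes_fixed [Finite G] {K : Subgroup G} (hK : Odd (Nat.card K)) {a z : G}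
    (haa : a * a = 1) (haK : a ∈ Subgroup.normalizer (K : Set G))
    (hzK : z ∈ Subgroup.normalizer (K : Set G)) (haz : a * z = z * a)
    (hfix : ∀ k ∈ K, a * k * a⁻¹ = k → z * k * z⁻¹ = k)
    {k : G} (hk : k ∈ K) (hzk : z * k * z⁻¹ = k⁻¹) : a * k * a⁻¹ = k⁻¹ := by
  obtain ⟨c, hcK, j, hjK, hc, hj, hkcj⟩ := exists_decomp_of_involution hK haa haK hk
  have hzc : z * c * z⁻¹ = c := hfix c hcK hc
  have hj₂K : z * j * z⁻¹ ∈ K := (Subgroup.mem_set_normalizer_iff.mp hzK j).mp hjK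
  have hj₂ : a * (z * j * z⁻¹) * a⁻¹ = (z * j * z⁻¹)⁻¹ := by
    have hza : a * z = z * a := haz
    have hza' : z⁻¹ * a⁻¹ = a⁻¹ * z⁻¹ := by
      rw [← mul_inv_rev, ← mul_inv_rev, hza]
    calc a * (z * j * z⁻¹) * a⁻¹ = (a * z) * j * (z⁻¹ * a⁻¹) := by group
      _ = (z * a) * j * (a⁻¹ * z⁻¹) := by rw [hza, hza']
      _ = z * (a * j * a⁻¹) * z⁻¹ := by group
      _ = z * j⁻¹ * z⁻¹ := by rw [hj]
      _ = (z * j * z⁻¹)⁻¹ := by group
  -- two decompositions of k⁻¹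
  have e1 : k⁻¹ = c * (z * j * z⁻¹) := by
    rw [← hzk, hkcj]
    calc z * (c * j) * z⁻¹ = (z * c * z⁻¹) * (z * j * z⁻¹) := by group
      _ = c * (z * j * z⁻¹) := by rw [hzc]
  have e2 : k⁻¹ = c⁻¹ * (c * j⁻¹ * c⁻¹) := by
    rw [hkcj]; group
  have hcinv : a * c⁻¹ * a⁻¹ = c⁻¹ := by
    calc a * c⁻¹ * a⁻¹ = (a * c * a⁻¹)⁻¹ := by group
      _ = c⁻¹ := by rw [hc]
  have hcj : a * (c * j⁻¹ * c⁻¹) * a⁻¹ = (c * j⁻¹ * c⁻¹)⁻¹ := by
    calc a * (c * j⁻¹ * c⁻¹) * a⁻¹ = (a * c * a⁻¹) * (a * j * a⁻¹)⁻¹ * (a * c * a⁻¹)⁻¹ := by group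
      _ = c * (j⁻¹)⁻¹ * c⁻¹ := by rw [hc, hj]
      _ = (c * j⁻¹ * c⁻¹)⁻¹ := by group
  have hcjK : c * j⁻¹ * c⁻¹ ∈ K := K.mul_mem (K.mul_mem hcK (K.inv_mem hjK)) (K.inv_mem hcK)
  obtain ⟨hcc, -⟩ := decomp_unique_of_involution hK hj₂K hcjK hc hcinv hj₂ hcj (e1.symm.trans e2)
  have hc1 : c = 1 := eq_one_of_eq_inv_of_odd hK hcK hcc
  rw [hkcj, hc1, one_mul]; exact hj

theorem result {G : Type*} [Group G] [Finite G] (Q : Subgroup G) (hL1 : Cfsg.IsExtraspecial 2 ↥Q) (hL2 : Subgroup.centralizer (Q : Set G) = ((Subgroup.center ↥Q).map Q.subtype)) (hL3 : Subgroup.centralizer (((Subgroup.center ↥Q).map Q.subtype) : Set G) ≤ Subgroup.normalizer (Q : Set G)) (b : G) (hbQ : b ∈ Q) (hbZ : b ∉ ((Subgroup.center ↥Q).map Q.subtype)) (hb : orderOf b = 2) (hZ : ((Subgroup.center ↥Q).map Q.subtype) ≤ (Cfsg.pCore 2 ↥(Subgroup.centralizer ({b} : Set G))).map (Subgroup.centralizer ({b} : Set G)).subtype) : Cfsg.IsLargeExtraspecial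 Q := by
  refine ⟨hL1, hL2, hL3, ?_⟩
  intro K hK hQK
  obtain ⟨z, hzZ, hz1, hzz, hzQ, hzcomm, hall⟩ := exists_center_involution Q hL1
  obtain ⟨q, hqQ, hqb⟩ := exists_conj_eq_mul_center Q hL1 z hall hzcomm b hbQ hbZ
  have hbb : b * b = 1 := by rw [← pow_two, ← hb, pow_orderOf_eq_one]
  have hbz : b * z = z * b := hzcomm b hbQ
  have hzinv : z⁻¹ = z := inv_eq_of_mul_eq_one_left hzz
  have hbinv : b⁻¹ = b := inv_eq_of_mul_eq_one_left hbb
  have hbK : b ∈ Subgroup.normalizer (K : Set G) := hQK hbQ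
  have hzK : z ∈ Subgroup.normalizer (K : Set G) := hQK hzQ
  have hqK : q ∈ Subgroup.normalizer (K : Set G) := hQK hqQ
  have hbzK : b * z ∈ Subgroup.normalizer (K : Set G) := Subgroup.mul_mem _ hbK hzK
  have hbzbz : (b * z) * (b * z) = 1 := by
    calc (b * z) * (b * z) = b * (z * b) * z := by group
      _ = b * (b * z) * z := by rw [hbz]
      _ = (b * b) * (z * z) := by group
      _ = 1 := by rw [hbb, hzz, one_mul]
  -- Claim 1
  set Cb := Subgroup.centralizer ({b} : Set G) with hCb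
  have hR2 : IsPGroup 2 ((pCore 2 Cb).map Cb.subtype) := (pCore_isPGroup (G := Cb) 2).map _
  have hRn : (pCore 2 Cb).Normal := pCore_normal (G := Cb) 2
  have claim1 : ∀ k ∈ K, b * k * b⁻¹ = k → z * k * z⁻¹ = k := by
    intro k hk hbk
    have hkC : k ∈ Cb := by
      rw [hCb, Subgroup.mem_centralizer_iff]
      intro y hy
      rw [Set.mem_singleton_iff] at hy; subst hy
      calc y * k = (y * k * y⁻¹) * y := by group
        _ = k * y := by rw [hbk]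
    obtain ⟨z', hz'R, hz'z⟩ := hZ hzZ
    have h1 : z' * (⟨k, hkC⟩ * z'⁻¹ * (⟨k, hkC⟩ : Cb)⁻¹) ∈ pCore 2 Cb :=
      (pCore 2 Cb).mul_mem hz'R (hRn.conj_mem _ ((pCore 2 Cb).inv_mem hz'R) _)
    have hcR : z * k * z⁻¹ * k⁻¹ ∈ (pCore 2 Cb).map Cb.subtype := by
      refine ⟨_, h1, ?_⟩
      have : (z' : G) = z := hz'z
      simp only [Subgroup.coe_subtype, Subgroup.coe_mul, Subgroup.coe_inv, this]
      group
    have hcK : z * k * z⁻¹ * k⁻¹ ∈ K :=
      K.mul_mem ((Subgroup.mem_set_normalizer_iff.mp hzK k).mp hk) (K.inv_mem hk)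
    have := eq_one_of_mem_two_group_of_mem_odd hR2 hK hcR hcK
    calc z * k * z⁻¹ = (z * k * z⁻¹ * k⁻¹) * k := by group
      _ = k := by rw [this, one_mul]
  -- Claim 2
  have claim2 : ∀ k ∈ K, (b * z) * k * (b * z)⁻¹ = k → z * k * z⁻¹ = k := by
    intro k hk hbzk
    have hk'K : q⁻¹ * k * q ∈ K := (Subgroup.mem_set_normalizer_iff''.mp hqK k).mp hk
    have hbk' : b * (q⁻¹ * k * q) * b⁻¹ = q⁻¹ * k * q := by
      calc b * (q⁻¹ * k * q) * b⁻¹ = q⁻¹ * ((q * b * q⁻¹) * k * (q * b * q⁻¹)⁻¹) * q := by group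
        _ = q⁻¹ * ((b * z) * k * (b * z)⁻¹) * q := by rw [hqb]
        _ = q⁻¹ * k * q := by rw [hbzk]
    have h1 := claim1 _ hk'K hbk'
    have hqz : q * z = z * q := hzcomm q hqQ
    have hqz' : z⁻¹ * q⁻¹ = q⁻¹ * z⁻¹ := by
      rw [← mul_inv_rev, ← mul_inv_rev, hqz]
    calc z * k * z⁻¹ = q * ((q⁻¹ * z) * k * (z⁻¹ * q)) * q⁻¹ := by group
      _ = q * (z * (q⁻¹ * k * q) * z⁻¹) * q⁻¹ := by
          have e1 : q⁻¹ * z = z * q⁻¹ := by
            calc q⁻¹ * z = q⁻¹ * (z * q) * q⁻¹ := by group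
              _ = q⁻¹ * (q * z) * q⁻¹ := by rw [hqz]
              _ = z * q⁻¹ := by group
          have e2 : z⁻¹ * q = q * z⁻¹ := by
            calc z⁻¹ * q = z⁻¹ * (q * z) * z⁻¹ := by group
              _ = z⁻¹ * (z * q) * z⁻¹ := by rw [hqz]
              _ = q * z⁻¹ := by group
          rw [e1, e2]; group
      _ = q * (q⁻¹ * k * q) * q⁻¹ := by rw [h1]
      _ = k := by group
  -- Claim 4
  have claim4 : ∀ k ∈ K, z * k * z⁻¹ = k⁻¹ → k = 1 := by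
    intro k hk hzk
    have h1 : b * k * b⁻¹ = k⁻¹ :=
      inverted_of_centralizes_fixed hK hbb hbK hzK hbz claim1 hk hzk
    have hbzz : (b * z) * z = z * (b * z) := by
      calc (b * z) * z = (z * b) * z := by rw [hbz]
        _ = z * (b * z) := by group
    have h2 : (b * z) * k * (b * z)⁻¹ = k⁻¹ :=
      inverted_of_centralizes_fixed hK hbzbz hbzK hzK hbzz claim2 hk hzk
    have h3 : (b * z) * k * (b * z)⁻¹ = k := by
      calc (b * z) * k * (b * z)⁻¹ = b * (z * k * z⁻¹) * b⁻¹ := by group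
        _ = b * k⁻¹ * b⁻¹ := by rw [hzk]
        _ = (b * k * b⁻¹)⁻¹ := by group
        _ = k := by rw [h1, inv_inv]
    exact eq_one_of_eq_inv_of_odd hK hk (h3.symm.trans h2)
  -- Claim 5
  have claim5 : ∀ k ∈ K, z * k * z⁻¹ = k := by
    intro k hk
    have hzkK : z * k * z⁻¹ ∈ K := (Subgroup.mem_set_normalizer_iff.mp hzK k).mp hk
    have htK : k⁻¹ * (z * k * z⁻¹) ∈ K := K.mul_mem (K.inv_mem hk) hzkK
    have ht : z * (k⁻¹ * (z * k * z⁻¹)) * z⁻¹ = (k⁻¹ * (z * k * z⁻¹))⁻¹ := by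
      rw [hzinv]
      calc z * (k⁻¹ * (z * k * z)) * z = z * k⁻¹ * z * k * (z * z) := by group
        _ = z * k⁻¹ * z * k := by rw [hzz, mul_one]
        _ = z⁻¹ * k⁻¹ * z⁻¹ * k := by rw [hzinv]
        _ = (k⁻¹ * (z * k * z))⁻¹ := by group
    have := claim4 _ htK ht
    calc z * k * z⁻¹ = k * (k⁻¹ * (z * k * z⁻¹)) := by group
      _ = k := by rw [this, mul_one]
  apply eq_bot_of_centralizes_center Q hL1 hL2 hL3 K hK hQK
  intro k hk
  rw [Subgroup.mem_centralizer_iff]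
  intro a ha
  rcases hall a ha with rfl | rfl
  · simp
  · have := claim5 k hk
    calc a * k = (a * k * a⁻¹) * a := by group
      _ = k * a := by rw [this]

end Cfsg.Agent.S5421
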