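import Mathlib
import Cfsg.Prelude.Def_MonsterType
import Cfsg.Agent.Lib.Helper28.LargeExtra
import Cfsg.Agent.Lib.Helper28.FourGroupS3

set_option autoImplicit false
open Cfsg

namespace Cfsg.Agent.S5422

open Cfsg.Agent.Helper28.LargeExtra Cfsg.Agent.Helper28.FourGroupS3 Cfsg.Agent.Helper14

/-- Let Q be an extraspecial 2-subgroup of the finite group G whose centralizer in G is its centre Z and which is normal in the centralizer of Z; suppose Q has width at least 2 (order 2^(2w+1) with w ≥ 2) and g is an element of G not normalizing Z with g Z g⁻¹ inside Q. Then Z lies inside g Q g⁻¹; writing V for the subgroup generated by Z and g Z g⁻¹ (a four-group), the normalizer of V induces on V its full automorphism group, that is, the centralizer of V has index 6 in the normalizer of V; and Q is a large extraspecial 2-subgroup of G. -/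
theorem result {G : Type*} [Group G] [Finite G] (Q : Subgroup G) (hL1 : Cfsg.IsExtraspecial 2 ↥Q) (hL2 : Subgroup.centralizer (Q : Set G) = ((Subgroup.center ↥Q).map Q.subtype)) (hL3 : Subgroup.centralizer (((Subgroup.center ↥Q).map Q.subtype) : Set G) ≤ Subgroup.normalizer (Q : Set G)) (w : ℕ) (hw : 2 ≤ w) (hcard : Nat.card ↥Q = 2 ^ (2 * w + 1)) (g : G) (hg : g ∉ Subgroup.normalizer (((Subgroup.center ↥Q).map Q.subtype) : Set G)) (hZg : (((Subgroup.center ↥Q).map Q.subtype)).map (MulAut.conj g).toMonoidHom ≤ Q) : ((Subgroup.center ↥Q).map Q.subtype) ≤ (Q).map (MulAut.conj g).toMonoidHom ∧ (Subgroup.centralizer ((((Subgroup.center ↥Q).map Q.subtype) ⊔ (((Subgroup.center ↥Q).map Q.subtype)).map (MulAut.conj g).toMonoidHom : Subgroup G) : Set G)).relIndex (Subgroup.normalizer ((((Subgroup.center ↥Q).map Q.subtype) ⊔ (((Subgroup.center ↥Q).map Q.subtype)).map (MulAut.conj g).toMonoidHom : Subgroup G) : Set G)) = 6 ∧ Cfsg.IsLargeExtraspecial Q := by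
  classical
  obtain ⟨z, hEz, hZ⟩ := exists_extraLike Q hL1 hL2
  have hpz : IsPGroup 2 ↥Q := hL1.1.1
  have hz2 : z * z = 1 := hEz.sq
  have hz1 : z ≠ 1 := hEz.ne_one
  have hzZ : z ∈ (Subgroup.center ↥Q).map Q.subtype := (hZ z).mpr (Or.inr rfl)
  -- `x = g z g⁻¹`
  have hxQ : g * z * g⁻¹ ∈ Q := hZg ⟨z, hzZ, rfl⟩
  have hxz : g * z * g⁻¹ ≠ z := by
    intro h
    apply hg
    apply mem_normalizer_of_conj_mem
    intro v hv
    rcases (hZ v).mp hv with rfl | rfl
    · simp
    · rw [h]; exact hzZ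
  have hEx := hEz.conj g
  have hpx : IsPGroup 2 ↥(Q.map (MulAut.conj g).toMonoidHom) := hpz.map _
  -- `C(z)` normalizes `Q`
  have hNz : Subgroup.centralizer ({z} : Set G) ≤ Subgroup.normalizer (Q : Set G) := by
    intro c hc
    apply hL3
    rw [Subgroup.mem_centralizer_iff]
    intro a ha
    rcases (hZ a).mp ha with rfl | rfl
    · simp
    · exact Subgroup.mem_centralizer_singleton_iff.mp hc |>.symm
  have hNx : Subgroup.centralizer ({g * z * g⁻¹} : Set G) ≤
      Subgroup.normalizer ((Q.map (MulAut.conj g).toMonoidHom : Subgroup G) : Set G) := by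
    intro c hc
    have hc' : c * (g * z * g⁻¹) = (g * z * g⁻¹) * c :=
      Subgroup.mem_centralizer_singleton_iff.mp hc
    have h1 : g⁻¹ * c * g ∈ Subgroup.centralizer ({z} : Set G) := by
      rw [Subgroup.mem_centralizer_singleton_iff]
      calc g⁻¹ * c * g * z = g⁻¹ * (c * (g * z * g⁻¹)) * g := by group
        _ = g⁻¹ * ((g * z * g⁻¹) * c) * g := by rw [hc']
        _ = z * (g⁻¹ * c * g) := by group
    have h2 := hNz h1
    apply mem_normalizer_of_conj_mem
    intro v hv
    rw [mem_map_conj] at hv ⊢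
    have h3 := (Subgroup.mem_normalizer_iff.mp h2 _).mp hv
    have h4 : g⁻¹ * (c * v * c⁻¹) * g = g⁻¹ * c * g * (g⁻¹ * v * g) * (g⁻¹ * c * g)⁻¹ := by group
    rw [h4]; exact h3
  obtain ⟨t, q, hqQ, hqx, htx, htz⟩ := exists_S3 hEz hEx hpz hpx hNz hNx hxQ hxz
  generalize hxdef : g * z * g⁻¹ = x at hxQ hxz hEx hNx hqx htx htz
  have hx2 : x * x = 1 := hEx.sq
  have hx1 : x ≠ 1 := hEx.ne_one
  have hzx : z * x = x * z := hEz.central x hxQ
  have hqz : q * z = z * q := (hEz.central q hqQ).symm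
  have hxinv : x⁻¹ = x := inv_eq_of_mul_eq_one_right hx2
  -- `w = t⁻¹ q` maps `x ↦ z`, `z ↦ z x`
  have hw1 : (t⁻¹ * q) * x * (t⁻¹ * q)⁻¹ = z := by
    calc (t⁻¹ * q) * x * (t⁻¹ * q)⁻¹ = t⁻¹ * (q * x * q⁻¹) * t := by group
      _ = t⁻¹ * (t * z * t⁻¹) * t := by rw [hqx, htz]
      _ = z := by group
  have hw2 : (t⁻¹ * q) * z * (t⁻¹ * q)⁻¹ = z * x := by
    have e2 : t⁻¹ * (z * x) * t = z := by
      calc t⁻¹ * (z * x) * t = t⁻¹ * (t * z * t⁻¹) * t := by rw [htz]
        _ = z := by group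
    have e1 : t⁻¹ * z * t = z * x := by
      calc t⁻¹ * z * t = t⁻¹ * z * (t * x) * x⁻¹ := by group
        _ = t⁻¹ * z * (x * t) * x⁻¹ := by rw [htx]
        _ = (t⁻¹ * (z * x) * t) * x⁻¹ := by group
        _ = z * x := by rw [e2, hxinv]
    calc (t⁻¹ * q) * z * (t⁻¹ * q)⁻¹ = t⁻¹ * ((q * z) * q⁻¹) * t := by group
      _ = t⁻¹ * ((z * q) * q⁻¹) * t := by rw [hqz]
      _ = t⁻¹ * z * t := by group
      _ = z * x := e1
  -- `z ∈ g Q g⁻¹`
  have hzQx : z ∈ Q.map (MulAut.conj g).toMonoidHom := by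
    rw [mem_map_conj]
    have h1 : (t⁻¹ * q * g) ∈ Subgroup.centralizer ({z} : Set G) := by
      rw [Subgroup.mem_centralizer_singleton_iff]
      have h2 : (t⁻¹ * q * g) * z * (t⁻¹ * q * g)⁻¹ = z := by
        calc (t⁻¹ * q * g) * z * (t⁻¹ * q * g)⁻¹
            = (t⁻¹ * q) * (g * z * g⁻¹) * (t⁻¹ * q)⁻¹ := by group
          _ = z := by rw [hxdef, hw1]
      calc (t⁻¹ * q * g) * z = ((t⁻¹ * q * g) * z * (t⁻¹ * q * g)⁻¹) * (t⁻¹ * q * g) := by group
        _ = z * (t⁻¹ * q * g) := by rw [h2]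
    have h3 := Subgroup.inv_mem _ (hNz h1)
    have h4 : z * x ∈ Q := Q.mul_mem hEz.mem hxQ
    have h5 := (Subgroup.mem_normalizer_iff.mp h3 _).mp h4
    have h6 : (t⁻¹ * q * g)⁻¹ * (z * x) * (t⁻¹ * q * g)⁻¹⁻¹ = g⁻¹ * z * g := by
      rw [← hw2]; group
    rw [h6] at h5
    exact h5
  refine ⟨?_, ?_, hL1, hL2, hL3, ?_⟩
  · intro a ha
    rcases (hZ a).mp ha with rfl | rfl
    · exact Subgroup.one_mem _
    · exact hzQx
  · -- the index computation
    have hV : ∀ a, a ∈ ((Subgroup.center ↥Q).map Q.subtype ⊔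
        ((Subgroup.center ↥Q).map Q.subtype).map (MulAut.conj g).toMonoidHom : Subgroup G) ↔
        a = 1 ∨ a = z ∨ a = x ∨ a = z * x := by
      have hle : ((Subgroup.center ↥Q).map Q.subtype ⊔
          ((Subgroup.center ↥Q).map Q.subtype).map (MulAut.conj g).toMonoidHom : Subgroup G) ≤
          fourGroup z x hz2 hx2 hzx := by
        apply sup_le
        · intro a ha
          rw [mem_fourGroup]
          rcases (hZ a).mp ha with h | h
          · left; exact h
          · right; left; exact h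
        · intro a ha
          rw [mem_map_conj] at ha
          rw [mem_fourGroup]
          rcases (hZ _).mp ha with h | h
          · left
            calc a = g * (g⁻¹ * a * g) * g⁻¹ := by group
              _ = 1 := by rw [h]; group
          · right; right; left
            calc a = g * (g⁻¹ * a * g) * g⁻¹ := by group
              _ = x := by rw [h, hxdef]
      have hxZg : x ∈ ((Subgroup.center ↥Q).map Q.subtype).map (MulAut.conj g).toMonoidHom := by
        rw [mem_map_conj, ← hxdef]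
        have : g⁻¹ * (g * z * g⁻¹) * g = z := by group
        rw [this]; exact hzZ
      intro a
      constructor
      · intro ha; exact mem_fourGroup.mp (hle ha)
      · rintro (h | h | h | h)
        · rw [h]; exact Subgroup.one_mem _
        · rw [h]; exact Subgroup.mem_sup_left hzZ
        · rw [h]; exact Subgroup.mem_sup_right hxZg
        · rw [h]
          exact Subgroup.mul_mem _ (Subgroup.mem_sup_left hzZ) (Subgroup.mem_sup_right hxZg)
    exact relIndex_eq_six _ z x hV hz1 hx1 hxz hz2 hx2 hzx t q hqz hqx htx htz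
  · -- `Q` is large
    intro K hK hQK
    have hQn : ∀ a ∈ Q, ∀ k ∈ K, a * k * a⁻¹ ∈ K := by
      intro a ha k hk
      exact (Subgroup.mem_normalizer_iff.mp (hQK ha) k).mp hk
    have hQn' : ∀ a ∈ Q, ∀ k ∈ K, a⁻¹ * k * a ∈ K := by
      intro a ha k hk
      have := hQn a⁻¹ (Q.inv_mem ha) k hk
      simpa using this
    -- claim A
    have hA : ∀ k ∈ K, k * z = z * k → k = 1 := by
      intro k hk hkz
      have hkN : k ∈ Subgroup.normalizer (Q : Set G) :=
        hNz (Subgroup.mem_centralizer_singleton_iff.mpr hkz)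
      have hcomm : ∀ b ∈ Q, k * b = b * k := by
        intro b hb
        have h1 : k * b * k⁻¹ * b⁻¹ ∈ Q :=
          Q.mul_mem ((Subgroup.mem_normalizer_iff.mp hkN b).mp hb) (Q.inv_mem hb)
        have h2 : k * b * k⁻¹ * b⁻¹ ∈ K := by
          have : k * b * k⁻¹ * b⁻¹ = k * (b * k⁻¹ * b⁻¹) := by group
          rw [this]
          exact K.mul_mem hk (hQn b hb _ (K.inv_mem hk))
        have h3 := eq_one_of_mem_two_of_mem_odd hpz hK h1 h2
        calc k * b = (k * b * k⁻¹ * b⁻¹) * (b * k) := by group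
          _ = b * k := by rw [h3, one_mul]
      rcases hEz.cent k hcomm with h | h
      · exact h
      · exfalso
        apply hz1
        exact eq_one_of_mem_two_of_mem_odd hpz hK hEz.mem (h ▸ hk)
    -- claim B
    have hB : ∀ k ∈ K, k * x = x * k → k = 1 := by
      intro k hk hkx
      have hkN := hNx (Subgroup.mem_centralizer_singleton_iff.mpr hkx)
      apply hA k hk
      have h1 : k * z * k⁻¹ * z⁻¹ ∈ Q.map (MulAut.conj g).toMonoidHom :=
        Subgroup.mul_mem _ ((Subgroup.mem_normalizer_iff.mp hkN z).mp hzQx)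
          (Subgroup.inv_mem _ hzQx)
      have h2 : k * z * k⁻¹ * z⁻¹ ∈ K := by
        have : k * z * k⁻¹ * z⁻¹ = k * (z * k⁻¹ * z⁻¹) := by group
        rw [this]
        exact K.mul_mem hk (hQn z hEz.mem _ (K.inv_mem hk))
      have h3 := eq_one_of_mem_two_of_mem_odd hpx hK h1 h2
      calc k * z = (k * z * k⁻¹ * z⁻¹) * (z * k) := by group
        _ = z * k := by rw [h3, one_mul]
    -- claim C
    have hCc : ∀ k ∈ K, k * (z * x) = (z * x) * k → k = 1 := by
      intro k hk hkzx
      have h1 : q⁻¹ * k * q ∈ K := hQn' q hqQ k hk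
      have h2 : (q⁻¹ * k * q) * x = x * (q⁻¹ * k * q) := by
        have e1 : x = q⁻¹ * (z * x) * q := by rw [← hqx]; group
        calc (q⁻¹ * k * q) * x = (q⁻¹ * k * q) * (q⁻¹ * (z * x) * q) := by rw [← e1]
          _ = q⁻¹ * (k * (z * x)) * q := by group
          _ = q⁻¹ * ((z * x) * k) * q := by rw [hkzx]
          _ = (q⁻¹ * (z * x) * q) * (q⁻¹ * k * q) := by group
          _ = x * (q⁻¹ * k * q) := by rw [← e1]
      have h3 := hB _ h1 h2
      calc k = q * (q⁻¹ * k * q) * q⁻¹ := by group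
        _ = 1 := by rw [h3]; group
    exact odd_eq_bot_of_fpf_four K hK z x hz2 hx2 hzx (hQn z hEz.mem) (hQn x hxQ) hA hB hCc

end Cfsg.Agent.S5422
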