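import Mathlib
import Cfsg.Prelude.Def_MonsterType
import Cfsg.Agent.Lib.Helper28.HoloF

set_option autoImplicit false
open Cfsg

namespace Cfsg.Agent.S5423

open Cfsg.Agent.Helper28.Holo

/-- Let G be a finite group that is the split extension of an elementary abelian normal subgroup U of order 2^(n+1), n ≥ 1, by its full automorphism group: U has a complement M in G whose conjugation action on U is faithful and realizes every automorphism of U. Let Z be a subgroup of U of order 2 and Q the largest normal 2-subgroup of the centralizer C of Z. Then Q is extraspecial of order 2^(2n+1) with an elementary abelian subgroup of order 2^(n+1) (plus type), Q is a large extraspecial 2-subgroup of G, and C is the split extension of Q by the general linear group of degree n over the field with two elements. -/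
theorem result {G : Type*} [Group G] [Finite G] (n : ℕ) (hn : 1 ≤ n) (U M : Subgroup G) [U.Normal] (hU : Cfsg.IsElementaryAbelian 2 U) (hUcard : Nat.card ↥U = 2 ^ (n + 1)) (hUM : U ⊓ M = ⊥) (hUM' : U ⊔ M = ⊤) (hfaith : ∀ m ∈ M, (∀ u ∈ U, m * u * m⁻¹ = u) → m = 1) (hfull : ∀ φ : ↥U ≃* ↥U, ∃ m ∈ M, ∀ u : ↥U, ((φ u : ↥U) : G) = m * u * m⁻¹) (Z : Subgroup G) (hZU : Z ≤ U) (hZ : Nat.card ↥Z = 2) (Q : Subgroup G) (hQ : Q = (Cfsg.pCore 2 ↥(Subgroup.centralizer (Z : Set G))).map (Subgroup.centralizer (Z : Set G)).subtype) : Cfsg.IsExtraspecial 2 ↥Q ∧ Nat.card ↥Q = 2 ^ (2 * n + 1) ∧ (∃ E : Subgroup G, E ≤ Q ∧ Cfsg.IsElementaryAbelian 2 E ∧ Nat.card ↥E = 2 ^ (n + 1)) ∧ Cfsg.IsLargeExtraspecial Q ∧ ∃ K : Subgroup G, K ≤ Subgroup.centralizer (Z : Set G) ∧ Q ⊓ K = ⊥ ∧ Q ⊔ K = Subgroup.centralizer (Z : Set G) ∧ Nonempty (↥K ≃* Matrix.GeneralLinearGroup (Fin n) (ZMod 2)) := by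
  obtain ⟨z0, hz01, hz02⟩ := (Nat.card_eq_two_iff' (1 : ↥Z)).mp hZ
  have hzZ : (z0 : G) ∈ Z := z0.2
  have hz1 : (z0 : G) ≠ 1 := fun e => hz01 (Subtype.ext e)
  have hZmem : ∀ x ∈ Z, x = 1 ∨ x = (z0 : G) := by
    intro x hx
    by_cases hx1 : x = 1
    · left; exact hx1
    · right
      have := hz02 ⟨x, hx⟩ (fun e => hx1 (congrArg Subtype.val e))
      exact congrArg Subtype.val this
  have hcent : Subgroup.centralizer (Z : Set G) = Subgroup.centralizer ({(z0 : G)} : Set G) := by
    ext c
    rw [Subgroup.mem_centralizer_iff, Subgroup.mem_centralizer_singleton_iff]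
    constructor
    · intro hc
      exact (hc _ hzZ).symm
    · intro hc x hx
      rcases hZmem x hx with rfl | rfl
      · rw [one_mul, mul_one]
      · exact hc.symm
  have hcommU : ∀ a b : ↥U, a * b = b * a := fun a b => hU.1.is_comm.comm a b
  have hsqU : ∀ a : ↥U, a * a = 1 := fun a => by
    apply Subtype.ext
    have := hU.2 a a.2
    rw [pow_two] at this
    exact this
  obtain ⟨E, hEbij, hEadd, hEz⟩ := exists_coords hcommU hsqU n hUcard ⟨(z0 : G), hZU hzZ⟩
    (fun e => hz1 (congrArg Subtype.val e))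
  let Eq : Vec n ≃ ↥U := Equiv.ofBijective E hEbij
  have hEq : ∀ v, Eq v = E v := fun v => rfl
  have hsymm_mul : ∀ a b : ↥U, Eq.symm (a * b) = Eq.symm a + Eq.symm b := by
    intro a b
    apply Eq.injective
    rw [Equiv.apply_symm_apply, hEq, hEadd, ← hEq, ← hEq, Equiv.apply_symm_apply,
      Equiv.apply_symm_apply]
  have hD : Data U M n (fun v => ((E v : ↥U) : G)) :=
    { elt_add := fun v w => by
        show ((E (v + w) : ↥U) : G) = (E v : G) * (E w : G)
        rw [hEadd]; rfl
      elt_inj := fun v w e => hEbij.1 (Subtype.ext e)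
      elt_mem := fun v => (E v).2
      elt_surj := fun u hu => by
        obtain ⟨v, hv⟩ := hEbij.2 ⟨u, hu⟩
        exact ⟨v, congrArg Subtype.val hv⟩
      norm := by rw [Subgroup.normalizer_eq_top]; exact le_top
      inf := hUM
      faith := fun m hm hmv => hfaith m hm (fun u hu => by
        obtain ⟨v, hv⟩ := hEbij.2 ⟨u, hu⟩
        have h1 : m * ((E v : ↥U) : G) * m⁻¹ = ((E v : ↥U) : G) := hmv v
        rw [hv] at h1
        exact h1)
      full := fun f => by
        let φ : ↥U ≃* ↥U :=
          { toFun := fun u => Eq (f (Eq.symm u))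
            invFun := fun u => Eq (f.symm (Eq.symm u))
            left_inv := fun u => by
              show Eq (f.symm (Eq.symm (Eq (f (Eq.symm u))))) = u
              rw [Equiv.symm_apply_apply, AddEquiv.symm_apply_apply, Equiv.apply_symm_apply]
            right_inv := fun u => by
              show Eq (f (Eq.symm (Eq (f.symm (Eq.symm u))))) = u
              rw [Equiv.symm_apply_apply, AddEquiv.apply_symm_apply, Equiv.apply_symm_apply]
            map_mul' := fun a b => by
              show Eq (f (Eq.symm (a * b))) = Eq (f (Eq.symm a)) * Eq (f (Eq.symm b))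
              rw [hsymm_mul, map_add, hEq, hEadd]; rfl }
        obtain ⟨m, hm, hmφ⟩ := hfull φ
        refine ⟨m, hm, fun v => ?_⟩
        have h1 := hmφ (E v)
        have h2 : φ (E v) = E (f v) := by
          show Eq (f (Eq.symm (E v))) = E (f v)
          rw [← hEq v, Equiv.symm_apply_apply]; rfl
        rw [h2] at h1
        exact h1.symm
      cent := fun v _ => by rw [hUM']; exact le_top }
  have hz' : ((E (e0 n) : ↥U) : G) = (z0 : G) := congrArg Subtype.val hEz
  rw [hcent, ← hz'] at hQ ⊢
  exact hD.main hn Q hQ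

end Cfsg.Agent.S5423
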