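import Mathlib
import Cfsg.Statements.S5425
import Cfsg.Agent.Lib.Helper29.M24InvCent

set_option autoImplicit false
open Cfsg

namespace Cfsg.Agent.S5425

open Cfsg.Agent.Helper27 Cfsg.Agent.Helper29 Cfsg.Agent.Helper29.M24 Cfsg.Agent.Helper29.InvCent
open Cfsg.Agent.Helper28.Holo

/-- In the Mathieu group of degree 24 (the automorphism group of the length-24 binary Golay code, acting on the 24 coordinates), let z be an involution whose fixed points form an octad (the support of a code word of weight 8), and let Q be the largest normal 2-subgroup of the centralizer C of z. Then Q is extraspecial of order 2^7 with an elementary abelian subgroup of order 16 (plus type), Q is a large extraspecial 2-subgroup, and C is the split extension of Q by the special linear group of degree 3 over the field with two elements. -/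
theorem result (z : ↥Cfsg.M24) (hz : orderOf z = 2) (hfix : (Finset.univ.filter fun p : Cfsg.GolayPt => (z : Equiv.Perm Cfsg.GolayPt) p = p) ∈ Cfsg.octads) (Q : Subgroup ↥Cfsg.M24) (hQ : Q = (Cfsg.pCore 2 ↥(Subgroup.centralizer ({z} : Set ↥Cfsg.M24))).map (Subgroup.centralizer ({z} : Set ↥Cfsg.M24)).subtype) : Cfsg.IsExtraspecial 2 ↥Q ∧ Nat.card ↥Q = 2 ^ 7 ∧ (∃ E : Subgroup ↥Cfsg.M24, E ≤ Q ∧ Cfsg.IsElementaryAbelian 2 E ∧ Nat.card ↥E = 2 ^ 4) ∧ Cfsg.IsLargeExtraspecial Q ∧ ∃ K : Subgroup ↥Cfsg.M24, K ≤ Subgroup.centralizer ({z} : Set ↥Cfsg.M24) ∧ Q ⊓ K = ⊥ ∧ Q ⊔ K = Subgroup.centralizer ({z} : Set ↥Cfsg.M24) ∧ Nonempty (↥K ≃* Matrix.SpecialLinearGroup (Fin 3) (ZMod 2)) := by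
  have ho : (Finset.univ.filter fun p : Cfsg.GolayPt => (z : Equiv.Perm Cfsg.GolayPt) p = p) ∈
      Cfsg.octads := hfix
  generalize ho_def : (Finset.univ.filter fun p : Cfsg.GolayPt =>
    (z : Equiv.Perm Cfsg.GolayPt) p = p) = o at ho
  have hex : ∃ p, p ∉ o := by
    by_contra hcon
    push Not at hcon
    have hsub : (Finset.univ : Finset Cfsg.GolayPt) ⊆ o := fun q _ => hcon q
    have h1 := Finset.card_le_card hsub
    have h24 : Fintype.card Cfsg.GolayPt = 24 := by decide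
    rw [Finset.card_univ, h24, ho.2] at h1
    omega
  obtain ⟨p, hp⟩ := hex
  have hzU : z ∈ UU o := by
    rw [mem_UU, mem_octN_iff]
    refine ⟨z.2, fun x hx => ?_⟩
    rw [← ho_def] at hx
    exact (Finset.mem_filter.1 hx).2
  have hz1 : z ≠ 1 := by
    intro h
    rw [h, orderOf_one] at hz
    norm_num at hz
  have hfin : Finite ↥(UU o) := Nat.finite_of_card_ne_zero (by rw [card_UU o ho]; norm_num)
  obtain ⟨E, hEbij, hEadd, hEz⟩ := exists_coords (UU_comm o ho) (UU_sq o ho) 3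
    ((card_UU o ho).trans (by norm_num)) ⟨z, hzU⟩ (fun e => hz1 (congrArg Subtype.val e))
  have hD := data o ho p hp E hEbij hEadd
  have hz' : ((E (e0 3) : ↥(UU o)) : ↥Cfsg.M24) = z := congrArg Subtype.val hEz
  rw [← hz'] at hQ ⊢
  obtain ⟨h1, h2, h3, h4, K, hK1, hK2, hK3, ⟨e⟩⟩ := hD.main (by norm_num) Q hQ
  obtain ⟨e'⟩ := Cfsg.Agent.Helper28.HoloSL.gl_equiv_sl 3
  exact ⟨h1, h2, h3, h4, K, hK1, hK2, hK3, ⟨e.trans e'⟩⟩

end Cfsg.Agent.S5425
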