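import Mathlib
import Cfsg.Prelude.Def_MonsterType
import Cfsg.Agent.Lib.Helper28.LargeStructC

set_option autoImplicit false
open Cfsg

namespace Cfsg.Agent.S5426

open Cfsg.Agent.Helper28.LargeExtra Cfsg.Agent.Helper28.FStarExtra Cfsg.Agent.Helper7
  Cfsg.Agent.Helper28.LargePair Cfsg.Agent.Helper28.LargeStruct

/-- Let Q be a large extraspecial 2-subgroup of the finite group G (extraspecial; centralizer equal to its centre; normal in the centralizer of its centre; normalizing no non-trivial subgroup of odd order) with centre generated by z, and let M be the normal closure of z in G. Then one of the following holds: Q is normal in G; or M is abelian and the generalized Fitting subgroup of G is its largest normal 2-subgroup; or M is the generalized Fitting subgroup of G and is a non-abelian simple group; or M is the generalized Fitting subgroup of G and is the direct product of a non-abelian simple subgroup L and its conjugate u L u⁻¹ by some u in Q (the two meet trivially and commute elementwise), with z = z₁ (u z₁ u⁻¹) for some z₁ in L whose centralizer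 in L is a Sylow 2-subgroup of L with Frattini subgroup inside the subgroup generated by z₁, and Q is not the largest normal 2-subgroup of the centralizer of z. -/
theorem result {G : Type*} [Group G] [Finite G] (Q : Subgroup G) (hQ : Cfsg.IsLargeExtraspecial Q) (z : G) (hz : ((Subgroup.center ↥Q).map Q.subtype) = Subgroup.zpowers z) (M : Subgroup G) (hM : M = Subgroup.normalClosure ({z} : Set G)) : Q.Normal ∨ (IsMulCommutative ↥M ∧ Cfsg.generalizedFittingSubgroup G = Cfsg.pCore 2 G) ∨ (M = Cfsg.generalizedFittingSubgroup G ∧ IsSimpleGroup ↥M ∧ ¬ IsMulCommutative ↥M) ∨ (M = Cfsg.generalizedFittingSubgroup G ∧ ∃ (L : Subgroup G) (u : G), u ∈ Q ∧ IsSimpleGroup ↥L ∧ ¬ IsMulCommutative ↥L ∧ L ⊓ (L).map (MulAut.conj u).toMonoidHom = ⊥ ∧ (∀ x ∈ L, ∀ y ∈ (L).map (MulAut.conj u).toMonoidHom, x * y = y * x) ∧ L ⊔ (L).map (MulAut.conj u).toMonoidHom = M ∧ ∃ z₁ ∈ L, z = z₁ * (u * z₁ * u⁻¹) ∧ (∃ R : Sylow 2 ↥L, (R : Subgroup ↥L) = (Subgroup.centralizer ({z₁} : Set G)).subgroupOf L ∧ (frattini ↥(R : Subgroup ↥L)).map ((L.subtype).comp (R : Subgroup ↥L).subtype)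 ≤ Subgroup.zpowers z₁) ∧ Q ≠ (Cfsg.pCore 2 ↥(Subgroup.centralizer ({z} : Set G))).map (Subgroup.centralizer ({z} : Set G)).subtype) := by
  classical
  obtain ⟨hL1, hL2, hL3, hlarge⟩ := hQ
  obtain ⟨z0, hEz0, hZ⟩ := exists_extraLike Q hL1 hL2
  have hzz0 : z = z0 := by
    have h1 : z ∈ (Subgroup.center ↥Q).map Q.subtype := by
      rw [hz]; exact Subgroup.mem_zpowers z
    have h2 : z0 ∈ Subgroup.zpowers z := by
      rw [← hz]; exact (hZ z0).mpr (Or.inr rfl)
    rcases (hZ z).mp h1 with h | h
    · exfalso
      rw [h, Subgroup.zpowers_one_eq_bot, Subgroup.mem_bot] at h2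
      exact hEz0.ne_one h2
    · exact h
  subst hzz0
  have hEz := hEz0
  have hpz : IsPGroup 2 ↥Q := hL1.1.1
  have hNz : Subgroup.centralizer ({z} : Set G) ≤ Subgroup.normalizer (Q : Set G) := by
    intro c hc
    apply hL3
    rw [Subgroup.mem_centralizer_iff]
    intro a ha
    rcases (hZ a).mp ha with rfl | rfl
    · simp
    · exact Subgroup.mem_centralizer_singleton_iff.mp hc |>.symm
  subst hM
  by_cases h2 : Cfsg.pCore 2 G = ⊥
  swap
  · right; left
    exact case_one hEz hpz hNz hlarge h2
  obtain ⟨hF, hgF, hME⟩ := case_two_basic hEz hpz hNz hlarge h2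
  have hzE : z ∈ Cfsg.layer G := by
    rw [← hME]
    exact Subgroup.subset_normalClosure (Set.mem_singleton z)
  by_cases hnorm : ∃ L : Subgroup G, Cfsg.IsComponent L ∧ L.Normal
  · right; right; left
    obtain ⟨L, hL, hLn⟩ := hnorm
    have hLM : L = Subgroup.normalClosure ({z} : Set G) := by
      apply le_antisymm
      · rw [hME]; exact component_le_layer hL
      · haveI := hLn
        exact Subgroup.normalClosure_le_normal (Set.singleton_subset_iff.mpr
          (z_mem_normal hEz hpz hlarge L (component_ne_bot hL)))
    refine ⟨by rw [hgF, hME], ?_, ?_⟩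
    · rw [← hLM]; exact component_isSimpleGroup hF hL
    · rw [← hLM]; exact quasisimple_not_isMulCommutative hL.2
  · right; right; right
    refine ⟨by rw [hgF, hME], ?_⟩
    have hEne : Cfsg.layer G ≠ ⊥ := by
      intro h
      rw [h, Subgroup.mem_bot] at hzE
      exact hEz.ne_one hzE
    obtain ⟨L, hL⟩ : ∃ L : Subgroup G, Cfsg.IsComponent L := by
      by_contra h
      push Not at h
      exact hEne (layer_eq_bot_iff.mpr h)
    have hLnn : ¬ L.Normal := fun h => hnorm ⟨L, hL, h⟩
    have hcompL : ∀ X : Subgroup G, Cfsg.IsComponent X →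
        X ≤ L ∨ X ≤ Subgroup.centralizer (L : Set G) := by
      intro X hX
      by_cases hXL : X = L
      · left; exact hXL.le
      · right
        exact Subgroup.commutator_eq_bot_iff_le_centralizer.mp
          (component_commutator_eq_bot_of_ne hX hL hXL)
    have hQL : ¬ Q ≤ Subgroup.normalizer (L : Set G) := by
      intro hQL
      have := eq_layer_of_invariant hEz hpz hNz hlarge h2 (component_le_layer hL)
        (layer_le_normalizer_component hL) hcompL hQL ⟨L, hL, le_rfl⟩
      apply hLnn
      rw [this]
      infer_instance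
    obtain ⟨u, hu, huL⟩ : ∃ u ∈ Q, L.map (MulAut.conj u).toMonoidHom ≠ L := by
      by_contra hcon
      push Not at hcon
      apply hQL
      intro q hq
      apply mem_normalizer_of_conj_mem
      intro v hv
      rw [← hcon q hq]
      exact ⟨v, hv, rfl⟩
    have hL' : Cfsg.IsComponent (L.map (MulAut.conj u).toMonoidHom) :=
      isComponent_map_mulEquiv (MulAut.conj u) hL
    have hL'C : L.map (MulAut.conj u).toMonoidHom ≤ Subgroup.centralizer (L : Set G) :=
      Subgroup.commutator_eq_bot_iff_le_centralizer.mp
        (component_commutator_eq_bot_of_ne hL' hL huL)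
    obtain ⟨hLsn, hinf, hsup⟩ := layer_decomp hF (component_le_layer hL)
      (layer_le_normalizer_component hL) hcompL
    have hcommK : ∀ a ∈ L, ∀ b ∈ Subgroup.centralizer (L : Set G) ⊓ Cfsg.layer G,
        a * b = b * a := by
      intro a ha b hb
      exact Subgroup.mem_centralizer_iff.mp (Subgroup.mem_inf.mp hb).1 a ha
    obtain ⟨z₁, hz₁, w, hw, hzw⟩ := exists_mul_of_mem_sup hcommK (hsup hzE)
    have hinfL : L ⊓ Subgroup.centralizer (L : Set G) = ⊥ := inf_centralizer_eq_bot hF hL.1
    have hctx : Ctx Q z L u z₁ w :=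
      ⟨hEz, hpz, hNz, hu, hinfL, hz₁, (Subgroup.mem_inf.mp hw).1, hzw,
        fun x hx => hL'C ⟨x, hx, rfl⟩⟩
    have hz₁ne : z₁ ≠ 1 := by
      intro e
      apply comp_not_le_cent hEz hpz hNz hL
      intro l hl
      rw [Subgroup.mem_centralizer_singleton_iff, hzw, e, one_mul]
      exact Subgroup.mem_centralizer_iff.mp (Subgroup.mem_inf.mp hw).1 l hl
    haveI := component_isSimpleGroup hF hL
    have hnc : ¬ IsMulCommutative ↥L := quasisimple_not_isMulCommutative hL.2
    by_cases h3 : ∃ u' ∈ Q, L.map (MulAut.conj u').toMonoidHom ≠ L ∧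
        L.map (MulAut.conj u').toMonoidHom ≠ L.map (MulAut.conj u).toMonoidHom
    · exfalso
      obtain ⟨u', hu', h31, h32⟩ := h3
      apply hctx.false_of_small hL.1 hnc hz₁ne
      intro d hd hdz
      refine hctx.three (Q.inv_mem hu') ?_ ?_ hd hdz
      · have hcomp : Cfsg.IsComponent (L.map (MulAut.conj u'⁻¹).toMonoidHom) :=
          isComponent_map_mulEquiv (MulAut.conj u'⁻¹) hL
        have hne : L.map (MulAut.conj u'⁻¹).toMonoidHom ≠ L := by
          intro e
          apply h31
          have := map_conj_inv_of_eq e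
          rwa [inv_inv] at this
        have hle := Subgroup.commutator_eq_bot_iff_le_centralizer.mp
          (component_commutator_eq_bot_of_ne hcomp hL hne)
        intro x hx
        exact hle ⟨x, hx, rfl⟩
      · have hcomp : Cfsg.IsComponent ((L.map (MulAut.conj u).toMonoidHom).map
            (MulAut.conj u'⁻¹).toMonoidHom) :=
          isComponent_map_mulEquiv (MulAut.conj u'⁻¹) hL'
        have hne : (L.map (MulAut.conj u).toMonoidHom).map
            (MulAut.conj u'⁻¹).toMonoidHom ≠ L := by
          intro e
          apply h32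
          have := map_conj_inv_of_eq e
          rwa [inv_inv] at this
        have hle := Subgroup.commutator_eq_bot_iff_le_centralizer.mp
          (component_commutator_eq_bot_of_ne hcomp hL hne)
        intro x hx
        exact hle ⟨u * x * u⁻¹, ⟨x, hx, rfl⟩, rfl⟩
    · push Not at h3
      -- `Q` permutes `L` and its conjugate
      have hQperm : ∀ q ∈ Q, L.map (MulAut.conj q).toMonoidHom = L ∨
          L.map (MulAut.conj q).toMonoidHom = L.map (MulAut.conj u).toMonoidHom := by
        intro q hq
        by_cases hq1 : L.map (MulAut.conj q).toMonoidHom = L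
        · left; exact hq1
        · right; exact h3 q hq hq1
      have hNE : L ⊔ L.map (MulAut.conj u).toMonoidHom ≤ Cfsg.layer G :=
        sup_le (component_le_layer hL) (component_le_layer hL')
      have hnormN : Cfsg.layer G ≤ Subgroup.normalizer
          ((L ⊔ L.map (MulAut.conj u).toMonoidHom : Subgroup G) : Set G) := by
        intro e he
        apply mem_normalizer_of_conj_mem
        apply conj_mem_of_sup
        · intro a ha
          exact Subgroup.mem_sup_left
            ((Subgroup.mem_normalizer_iff.mp (layer_le_normalizer_component hL he) a).mp ha)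
        · intro b hb
          exact Subgroup.mem_sup_right
            ((Subgroup.mem_normalizer_iff.mp (layer_le_normalizer_component hL' he) b).mp hb)
      have hcompN : ∀ X : Subgroup G, Cfsg.IsComponent X →
          X ≤ L ⊔ L.map (MulAut.conj u).toMonoidHom ∨
          X ≤ Subgroup.centralizer
            ((L ⊔ L.map (MulAut.conj u).toMonoidHom : Subgroup G) : Set G) := by
        intro X hX
        by_cases hXL : X = L
        · left; rw [hXL]; exact le_sup_left
        by_cases hXL' : X = L.map (MulAut.conj u).toMonoidHom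
        · left; rw [hXL']; exact le_sup_right
        right
        have h4 := Subgroup.commutator_eq_bot_iff_le_centralizer.mp
          (component_commutator_eq_bot_of_ne hX hL hXL)
        have h5 := Subgroup.commutator_eq_bot_iff_le_centralizer.mp
          (component_commutator_eq_bot_of_ne hX hL' hXL')
        rw [Subgroup.le_centralizer_iff] at h4 h5 ⊢
        exact sup_le h4 h5
      have hQN : Q ≤ Subgroup.normalizer
          ((L ⊔ L.map (MulAut.conj u).toMonoidHom : Subgroup G) : Set G) := by
        intro q hq
        apply mem_normalizer_of_conj_mem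
        apply conj_mem_of_sup
        · intro a ha
          have hmem : q * a * q⁻¹ ∈ L.map (MulAut.conj q).toMonoidHom := ⟨a, ha, rfl⟩
          rcases hQperm q hq with e | e
          · rw [e] at hmem; exact Subgroup.mem_sup_left hmem
          · rw [e] at hmem; exact Subgroup.mem_sup_right hmem
        · rintro _ ⟨a, ha, rfl⟩
          have hmem : q * (u * a * u⁻¹) * q⁻¹ ∈ L.map (MulAut.conj (q * u)).toMonoidHom := by
            refine ⟨a, ha, ?_⟩
            simp only [MulEquiv.coe_toMonoidHom, MulAut.conj_apply]
            group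
          rcases hQperm (q * u) (Q.mul_mem hq hu) with e | e
          · rw [e] at hmem; exact Subgroup.mem_sup_left hmem
          · rw [e] at hmem; exact Subgroup.mem_sup_right hmem
      have hN := eq_layer_of_invariant hEz hpz hNz hlarge h2 hNE hnormN hcompN hQN
        ⟨L, hL, le_sup_left⟩
      have hcommLL : ∀ x ∈ L, ∀ y ∈ L.map (MulAut.conj u).toMonoidHom, x * y = y * x := by
        intro x hx y hy
        exact Subgroup.mem_centralizer_iff.mp (hL'C hy) x hx
      -- `w ∈ L'`
      have hwE : w ∈ L ⊔ L.map (MulAut.conj u).toMonoidHom := by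
        rw [hN]; exact (Subgroup.mem_inf.mp hw).2
      obtain ⟨a, ha, b, hb, hwab⟩ := exists_mul_of_mem_sup hcommLL hwE
      have ha1 : a = 1 := by
        have h4 : a ∈ L ⊓ Subgroup.centralizer (L : Set G) := by
          refine Subgroup.mem_inf.mpr ⟨ha, ?_⟩
          have e : a = w * b⁻¹ := by rw [hwab]; group
          rw [e]
          exact Subgroup.mul_mem _ (Subgroup.mem_inf.mp hw).1 (Subgroup.inv_mem _ (hL'C hb))
        rw [hinfL, Subgroup.mem_bot] at h4
        exact h4
      have hwL' : w ∈ L.map (MulAut.conj u).toMonoidHom := by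
        rw [hwab, ha1, one_mul]; exact hb
      -- `u L' u⁻¹ = L`
      have huu : (L.map (MulAut.conj u).toMonoidHom).map (MulAut.conj u).toMonoidHom = L := by
        rw [Cfsg.Agent.Helper15.map_conj_map_conj]
        rcases hQperm (u * u) (Q.mul_mem hu hu) with e | e
        · exact e
        · exfalso
          apply huL
          rw [← Cfsg.Agent.Helper15.map_conj_map_conj] at e
          exact Subgroup.map_injective (MulAut.conj u).injective e
      have huw : u * w * u⁻¹ ∈ L := by
        rw [← huu]; exact ⟨w, hwL', rfl⟩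
      have huz₁ : u * z₁ * u⁻¹ ∈ L.map (MulAut.conj u).toMonoidHom := ⟨z₁, hz₁, rfl⟩
      have hweq : u * z₁ * u⁻¹ = w := by
        have h5 : (u * w * u⁻¹) * (u * z₁ * u⁻¹) = z₁ * w := by
          calc (u * w * u⁻¹) * (u * z₁ * u⁻¹) = (u * z₁ * u⁻¹) * (u * w * u⁻¹) :=
                hcommLL _ huw _ huz₁
            _ = u * (z₁ * w) * u⁻¹ := by group
            _ = u * z * u⁻¹ := by rw [hzw]
            _ = z := hEz.conj_z hu
            _ = z₁ * w := hzw
        exact (decomp_unique hinfL huw hz₁ (hL'C huz₁) (Subgroup.mem_inf.mp hw).1 h5).2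
      refine ⟨L, u, hu, inferInstance, hnc, ?_, hcommLL, ?_, z₁, hz₁, ?_, ?_, ?_⟩
      · rw [eq_bot_iff, ← hinfL]
        exact inf_le_inf_left _ hL'C
      · rw [hN, hME]
      · rw [hweq]; exact hzw
      · obtain ⟨R, hR⟩ := hctx.exists_sylow hL.1
        exact ⟨R, hR, hctx.frattini_le R hR⟩
      · exact hctx.Q_ne hL.1 hnc hz₁ne

end Cfsg.Agent.S5426
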