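import Mathlib
import Cfsg.Prelude.Def_MonsterType
import Cfsg.Agent.Lib.Helper28.LargeExtra
import Cfsg.Agent.Lib.Helper28.FStarExtra

set_option autoImplicit false
open Cfsg

namespace Cfsg.Agent.S5427

open Cfsg.Agent.Helper28.LargeExtra Cfsg.Agent.Helper28.FStarExtra Cfsg.Agent.Helper14

/-- Let z be an involution of the finite group G whose centralizer C has generalized Fitting subgroup Q, an extraspecial 2-group of width at least 2 (order 2^(2w+1), w ≥ 2). Let K be a subgroup of G such that the subgroup U generated by the K-conjugates of z is abelian and C is generated by the C-conjugates of U. Suppose that either some K-conjugate of z other than z lies in Q, or some element u of U ∩ Q outside the subgroup generated by z has z in the largest normal 2-subgroup of its centralizer. Then G is simple and Q is a large extraspecial 2-subgroup of G. -/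
theorem result {G : Type*} [Group G] [Finite G] (z : G) (hz : orderOf z = 2) (Q : Subgroup G) (hQC : Q ≤ Subgroup.centralizer ({z} : Set G)) (hF : (Cfsg.generalizedFittingSubgroup ↥(Subgroup.centralizer ({z} : Set G))).map (Subgroup.centralizer ({z} : Set G)).subtype = Q) (hQ : Cfsg.IsExtraspecial 2 ↥Q) (w : ℕ) (hw : 2 ≤ w) (hcard : Nat.card ↥Q = 2 ^ (2 * w + 1)) (K U : Subgroup G) (hU : U = Subgroup.closure {x : G | ∃ k ∈ K, x = k * z * k⁻¹}) (hUab : IsMulCommutative ↥U) (hgen : Subgroup.closure {x : G | ∃ c ∈ Subgroup.centralizer ({z} : Set G), ∃ u ∈ U, x = c * u * c⁻¹} = Subgroup.centralizer ({z} : Set G)) (h3 : (∃ k ∈ K, k * z * k⁻¹ ∈ Q ∧ k * z * k⁻¹ ≠ z) ∨ ∃ u ∈ U ⊓ Q, u ∉ Subgroup.zpowers z ∧ (∃ hz' : z ∈ Subgroup.centralizer ({u} : Set G), (⟨z, hz'⟩ : ↥(Subgroup.centralizer ({u} : Set G))) ∈ Cfsg.pCore 2 ↥(Subgroup.centralizer ({u} : Set G)))) : IsSimpleGroup G ∧ Cfsg.IsLargeExtraspecial Q := by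
  classical
  obtain ⟨hpz', z₀, _, hz₀1, hz₀2, _, hcomm, hcen⟩ :=
    data_of_injective hQ Q.subtype Q.subtype_injective
  rw [Subgroup.range_subtype] at hpz' hcomm hcen
  have hpz : IsPGroup 2 ↥Q := hpz'
  obtain ⟨hEz, hNz⟩ := fstar_setup z hz Q hF z₀ hz₀1 hz₀2 hcomm hcen
  have hz1 : z ≠ 1 := hEz.ne_one
  have hzQ : z ∈ Q := hEz.mem
  have hzc : (⟨z, hzQ⟩ : ↥Q) ∈ Subgroup.center ↥Q := by
    rw [Subgroup.mem_center_iff]
    intro b
    apply Subtype.ext
    exact (hEz.central b b.2).symm
  have hzZ : z ∈ (Subgroup.center ↥Q).map Q.subtype := ⟨⟨z, hzQ⟩, hzc, rfl⟩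
  have hL2 : Subgroup.centralizer (Q : Set G) = (Subgroup.center ↥Q).map Q.subtype := by
    apply le_antisymm
    · intro c hc
      have h1 : ∀ b ∈ Q, c * b = b * c := by
        intro b hb
        exact (Subgroup.mem_centralizer_iff.mp hc b hb).symm
      rcases hEz.cent c h1 with h | h
      · rw [h]; exact Subgroup.one_mem _
      · rw [h]; exact hzZ
    · rintro _ ⟨c, hc, rfl⟩
      rw [Subgroup.mem_centralizer_iff]
      intro b hb
      have h1 := Subgroup.mem_center_iff.mp hc ⟨b, hb⟩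
      exact congrArg Subtype.val h1
  have hL3 : Subgroup.centralizer (((Subgroup.center ↥Q).map Q.subtype : Subgroup G) : Set G) ≤
      Subgroup.normalizer (Q : Set G) := by
    intro c hc
    apply hNz
    rw [Subgroup.mem_centralizer_singleton_iff]
    exact (Subgroup.mem_centralizer_iff.mp hc z hzZ).symm
  -- squares in `U`
  have hUsq : ∀ u ∈ U, u * u = 1 := by
    intro u hu
    have hcommU : ∀ a ∈ U, ∀ b ∈ U, a * b = b * a := by
      intro a ha b hb
      have h1 := (isMulCommutative_iff.mp hUab) ⟨a, ha⟩ ⟨b, hb⟩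
      exact congrArg Subtype.val h1
    rw [hU] at hu
    induction hu using Subgroup.closure_induction with
    | mem x hx =>
      obtain ⟨k, _, rfl⟩ := hx
      calc k * z * k⁻¹ * (k * z * k⁻¹) = k * (z * z) * k⁻¹ := by group
        _ = 1 := by rw [hEz.sq]; group
    | one => simp
    | mul x y hx hy ihx ihy =>
      rw [← hU] at hx hy
      calc x * y * (x * y) = x * (y * x) * y := by group
        _ = x * (x * y) * y := by rw [hcommU y hy x hx]
        _ = (x * x) * (y * y) := by group
        _ = 1 := by rw [ihx, ihy, one_mul]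
    | inv x hx ih =>
      calc x⁻¹ * x⁻¹ = (x * x)⁻¹ := by group
        _ = 1 := by rw [ih, inv_one]
  -- largeness
  have hlarge : ∀ K' : Subgroup G, Odd (Nat.card K') → Q ≤ Subgroup.normalizer (K' : Set G) →
      K' = ⊥ := by
    rcases h3 with ⟨k, _, hkQ, hkz⟩ | ⟨u, hu, hunz, hz', hzP⟩
    · exact large_of_conj hEz hpz hNz k hkQ hkz
    · have hu1 : u ≠ 1 := by
        intro h
        apply hunz
        rw [h]; exact Subgroup.one_mem _
      have huz : u ≠ z := by
        intro h
        apply hunz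
        rw [h]; exact Subgroup.mem_zpowers z
      have hzP' : z ∈ pCoreOf 2 (Subgroup.centralizer ({u} : Set G)) :=
        mem_pCoreOf_iff.mpr ⟨hz', hzP⟩
      exact large_of_orth hEz hpz hNz hu.2 hu1 huz (hUsq u hu.1)
        (pCoreOf_isPGroup 2 _) hzP' (le_normalizer_pCoreOf 2 _)
  refine ⟨?_, hQ, hL2, hL3, hlarge⟩
  haveI : Nontrivial G := ⟨⟨z, 1, hz1⟩⟩
  refine ⟨fun M hM => ?_⟩
  by_cases hMb : M = ⊥
  · left; exact hMb
  right
  haveI := hM
  have hzM : z ∈ M := z_mem_normal hEz hpz hlarge M hMb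
  have hUM : U ≤ M := by
    rw [hU, Subgroup.closure_le]
    rintro _ ⟨k, _, rfl⟩
    exact hM.conj_mem z hzM k
  have hCM : Subgroup.centralizer ({z} : Set G) ≤ M := by
    rw [← hgen, Subgroup.closure_le]
    rintro _ ⟨c, _, u, hu, rfl⟩
    exact hM.conj_mem u (hUM hu) c
  exact eq_top_of_cent_le hEz hpz M hCM

end Cfsg.Agent.S5427
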