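import Mathlib
import Cfsg.Prelude.Def_MonsterType
import Cfsg.Prelude.Def_CaseTheorems
import Cfsg.Agent.Lib.Helper28.LargePair
import Cfsg.Agent.Lib.Helper28.LargeQuotOdd

set_option autoImplicit false
open Cfsg

namespace Cfsg.Agent.S5428

open Cfsg.Agent.Helper28.LargeExtra Cfsg.Agent.Helper28.LargePair Cfsg.Agent.Helper28.LargeQuotOdd
  Cfsg.Agent.Helper28.FStarExtra Cfsg.Agent.Helper14

/-- Let z be an involution of the finite group G whose centralizer C has generalized Fitting subgroup Q extraspecial (as a 2-group), let A be a subgroup of C of odd order, and let R be the centralizer of A in Q; suppose R has order at least 32, the largest normal subgroup of odd order of the centralizer of the subgroup generated by A and R lies in A, the order of that centralizer is not divisible by 4, and g is an element of G with g z g⁻¹ in R but outside the centre Z of Q. Let M be the subgroup generated by A and the centralizer of A (A is normal in it). Then: the centralizer in M of the subgroup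 generated by R and A, joined with A, equals the subgroup generated by A and Z; the image of R in M/A is a large extraspecial 2-subgroup of M/A; and g z g⁻¹ is conjugate to z inside the subgroup generated by R and the centralizer of A in g Q g⁻¹. -/
theorem result {G : Type*} [Group G] [Finite G] (z : G) (hz : orderOf z = 2) (Q : Subgroup G) (hQC : Q ≤ Subgroup.centralizer ({z} : Set G)) (hF : (Cfsg.generalizedFittingSubgroup ↥(Subgroup.centralizer ({z} : Set G))).map (Subgroup.centralizer ({z} : Set G)).subtype = Q) (hQ : Cfsg.IsExtraspecial 2 ↥Q) (A : Subgroup G) (hA : A ≤ Subgroup.centralizer ({z} : Set G)) (hAodd : Odd (Nat.card ↥A)) (R : Subgroup G) (hR : R = Q ⊓ Subgroup.centralizer (A : Set G)) (hR32 : 32 ≤ Nat.card ↥R) (hO : (Cfsg.oddCore ↥(Subgroup.centralizer ((A ⊔ R : Subgroup G) : Set G))).map (Subgroup.centralizer ((A ⊔ R : Subgroup G) : Set G)).subtype ≤ A) (h4 : ¬ 4 ∣ Nat.card ↥(Subgroup.centralizer ((A ⊔ R : Subgroup G) : Set G))) (g : G) (hgR : g * z * g⁻¹ ∈ R) (hgZ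 : g * z * g⁻¹ ∉ ((Subgroup.center ↥Q).map Q.subtype)) (M : Subgroup G) (hM : M = Subgroup.centralizer (A : Set G) ⊔ A) [hn : (A.subgroupOf M).Normal] : (M ⊓ Subgroup.centralizer ((R ⊔ A : Subgroup G) : Set G)) ⊔ A = A ⊔ ((Subgroup.center ↥Q).map Q.subtype) ∧ Cfsg.IsLargeExtraspecial ((R.subgroupOf M).map (QuotientGroup.mk' (A.subgroupOf M))) ∧ ∃ x ∈ R ⊔ ((Q).map (MulAut.conj g).toMonoidHom ⊓ Subgroup.centralizer (A : Set G)), x * (g * z * g⁻¹) * x⁻¹ = z := by
  classical
  obtain ⟨hpz', z₀, _, hz₀1, hz₀2, _, hcomm, hcen⟩ :=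
    data_of_injective hQ Q.subtype Q.subtype_injective
  rw [Subgroup.range_subtype] at hpz' hcomm hcen
  obtain ⟨hEz, hNz⟩ := fstar_setup z hz Q hF z₀ hz₀1 hz₀2 hcomm hcen
  have hz1 : z ≠ 1 := hEz.ne_one
  have hzQ : z ∈ Q := hEz.mem
  have hzc : (⟨z, hzQ⟩ : ↥Q) ∈ Subgroup.center ↥Q := by
    rw [Subgroup.mem_center_iff]
    intro b
    apply Subtype.ext
    exact (hEz.central b b.2).symm
  have hzZ : z ∈ (Subgroup.center ↥Q).map Q.subtype := ⟨⟨z, hzQ⟩, hzc, rfl⟩
  have hZ : ∀ a ∈ (Subgroup.center ↥Q).map Q.subtype, a = 1 ∨ a = z := by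
    rintro _ ⟨c, hc, rfl⟩
    apply hEz.cent
    intro b hb
    have h1 := Subgroup.mem_center_iff.mp hc ⟨b, hb⟩
    exact (congrArg Subtype.val h1).symm
  have hxz : g * z * g⁻¹ ≠ z := by
    intro h
    apply hgZ
    rw [h]; exact hzZ
  subst hR
  have hgQ : g * z * g⁻¹ ∈ Q := (Subgroup.mem_inf.mp hgR).1
  have hPair := mkPair' hEz hNz g hgQ hxz
  generalize hxdef : g * z * g⁻¹ = x at hgR hgQ hgZ hxz hPair
  generalize hQxdef : Q.map (MulAut.conj g).toMonoidHom = Qx at hPair
  have hAx : A ≤ Subgroup.centralizer ({x} : Set G) := by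
    intro a ha
    rw [Subgroup.mem_centralizer_singleton_iff]
    exact Subgroup.mem_centralizer_iff.mp (Subgroup.mem_inf.mp hgR).2 a ha
  obtain ⟨q, hqR, hqx⟩ := exists_q_cent hPair A hA hAx hAodd
  obtain ⟨q', hq'R, hq'z⟩ := exists_q_cent hPair.symm A hAx hA hAodd
  have hq'z' : q' * z * q'⁻¹ = z * x := by rw [hq'z, hPair.comm]
  have hconj := hPair.qq'_z (Subgroup.mem_inf.mp hqR).1 hqx hq'z'
  have hzR : z ∈ Q ⊓ Subgroup.centralizer (A : Set G) := by
    refine Subgroup.mem_inf.mpr ⟨hzQ, ?_⟩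
    rw [Subgroup.mem_centralizer_iff]
    intro a ha
    exact Subgroup.mem_centralizer_singleton_iff.mp (hA ha)
  -- the centralizer of `A R`
  have hARz : A ⊔ (Q ⊓ Subgroup.centralizer (A : Set G)) ≤ Subgroup.centralizer ({z} : Set G) :=
    sup_le hA (inf_le_left.trans hQC)
  have hzH : z ∈ Subgroup.centralizer ((A ⊔ (Q ⊓ Subgroup.centralizer (A : Set G)) :
      Subgroup G) : Set G) := by
    rw [Subgroup.mem_centralizer_iff]
    intro h hh
    exact Subgroup.mem_centralizer_singleton_iff.mp (hARz hh)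
  have hcentH : ∀ c ∈ Subgroup.centralizer ((A ⊔ (Q ⊓ Subgroup.centralizer (A : Set G)) :
      Subgroup G) : Set G), c ∈ A ∨ c * z ∈ A := by
    intro c hc
    have hzc' : ∀ h : ↥(Subgroup.centralizer ((A ⊔ (Q ⊓ Subgroup.centralizer (A : Set G)) :
        Subgroup G) : Set G)), h * ⟨z, hzH⟩ = ⟨z, hzH⟩ * h := by
      intro h
      apply Subtype.ext
      exact (Subgroup.mem_centralizer_iff.mp h.2 z (Subgroup.mem_sup_right hzR)).symm
    have h1 := odd_core_decomp (⟨z, hzH⟩ : ↥(Subgroup.centralizer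
      ((A ⊔ (Q ⊓ Subgroup.centralizer (A : Set G)) : Subgroup G) : Set G)))
      (Subtype.ext hEz.sq) (fun e => hz1 (congrArg Subtype.val e)) hzc' h4 ⟨c, hc⟩
    rcases h1 with h1 | h1
    · left
      exact hO ⟨⟨c, hc⟩, h1, rfl⟩
    · right
      exact hO ⟨⟨c, hc⟩ * ⟨z, hzH⟩, h1, rfl⟩
  have hmemC : ∀ c : G, (∀ a ∈ A, c * a = a * c) →
      (∀ r ∈ Q ⊓ Subgroup.centralizer (A : Set G), c * r = r * c) →
      c ∈ Subgroup.centralizer ((A ⊔ (Q ⊓ Subgroup.centralizer (A : Set G)) :
      Subgroup G) : Set G) := by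
    intro c h1 h2
    have hle : A ⊔ (Q ⊓ Subgroup.centralizer (A : Set G)) ≤
        Subgroup.centralizer ({c} : Set G) := by
      apply sup_le
      · intro a ha
        rw [Subgroup.mem_centralizer_singleton_iff]
        exact (h1 a ha).symm
      · intro r hr
        rw [Subgroup.mem_centralizer_singleton_iff]
        exact (h2 r hr).symm
    rw [Subgroup.mem_centralizer_iff]
    intro h hh
    exact Subgroup.mem_centralizer_singleton_iff.mp (hle hh)
  have hCAM : Subgroup.centralizer (A : Set G) ≤ M := by rw [hM]; exact le_sup_left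
  have hAM : A ≤ M := by rw [hM]; exact le_sup_right
  refine ⟨?_, ?_, ?_⟩
  · apply le_antisymm
    · apply sup_le _ le_sup_left
      intro c hc
      have hc2 := (Subgroup.mem_inf.mp hc).2
      rw [sup_comm] at hc2
      rcases hcentH c hc2 with h1 | h1
      · exact Subgroup.mem_sup_left h1
      · have e : c = (c * z) * z := by rw [mul_assoc, hEz.sq, mul_one]
        rw [e]
        exact Subgroup.mul_mem_sup h1 hzZ
    · apply sup_le le_sup_right
      intro a ha
      rcases hZ a ha with rfl | rfl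
      · exact Subgroup.one_mem _
      · apply Subgroup.mem_sup_left
        refine Subgroup.mem_inf.mpr ⟨hCAM (Subgroup.mem_inf.mp hzR).2, ?_⟩
        rw [sup_comm]
        exact hzH
  · have hyA : q * q' ∈ Subgroup.centralizer (A : Set G) :=
      Subgroup.mul_mem _ (Subgroup.mem_inf.mp hqR).2 (Subgroup.mem_inf.mp hq'R).2
    exact large_quot_odd hEz hNz hA hAodd hM
      (fun c h1 h2 => hcentH c (hmemC c h1 h2)) hgR hyA hconj hxz hqR hqx
  · refine ⟨(q * q')⁻¹, Subgroup.inv_mem _ (Subgroup.mul_mem _ (Subgroup.mem_sup_left hqR)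
      (Subgroup.mem_sup_right hq'R)), ?_⟩
    rw [← hconj]
    group

end Cfsg.Agent.S5428
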