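import Mathlib
import Cfsg.Prelude.Def_MonsterType
import Cfsg.Agent.Lib.Helper28.LargePair
import Cfsg.Agent.Lib.Helper28.LargeQuot

set_option autoImplicit false
open Cfsg

namespace Cfsg.Agent.S5429

open Cfsg.Agent.Helper28.LargeExtra Cfsg.Agent.Helper28.LargePair Cfsg.Agent.Helper28.LargeQuot
  Cfsg.Agent.Helper28.FStarExtra Cfsg.Agent.Helper28.FourGroupS3 Cfsg.Agent.Helper14

/-- the subgroup generated by two commuting involutions -/
theorem mem_closure_pair {G : Type*} [Group G] {a b v : G} (ha2 : a * a = 1) (hb2 : b * b = 1)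
    (hab : a * b = b * a) :
    v ∈ Subgroup.closure ({a, b} : Set G) ↔ v = 1 ∨ v = a ∨ v = b ∨ v = a * b := by
  rw [← mem_fourGroup (hz2 := ha2) (hx2 := hb2) (hzx := hab)]
  constructor
  · intro hv
    have hle : Subgroup.closure ({a, b} : Set G) ≤ fourGroup a b ha2 hb2 hab := by
      rw [Subgroup.closure_le]
      intro c hc
      rw [SetLike.mem_coe, mem_fourGroup]
      rcases hc with rfl | hc
      · right; left; rfl
      · rw [Set.mem_singleton_iff] at hc
        right; right; left; exact hc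
    exact hle hv
  · intro hv
    rw [mem_fourGroup] at hv
    have h1 : a ∈ Subgroup.closure ({a, b} : Set G) :=
      Subgroup.subset_closure (Set.mem_insert _ _)
    have h2 : b ∈ Subgroup.closure ({a, b} : Set G) :=
      Subgroup.subset_closure (Set.mem_insert_of_mem _ rfl)
    rcases hv with rfl | rfl | rfl | rfl
    · exact Subgroup.one_mem _
    · exact h1
    · exact h2
    · exact Subgroup.mul_mem _ h1 h2

/-- Let z be an involution of the finite group G with centralizer C whose generalized Fitting subgroup Q is extraspecial of width at least 3 (order 2^(2w+1), w ≥ 3); let g be an element of G with g z g⁻¹ in Q but outside the centre Z of Q, and t an involution lying in both Q and g Q g⁻¹ that is not conjugate to z; write P for the centralizer of t in Q and suppose that the elements of C acting trivially by conjugation on P modulo the subgroup generated by t and z are exactly the elements of Q. Then the image of P in the centralizer of t modulo the subgroup generated by t is a large extraspecial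 2-subgroup there, and g z g⁻¹ is conjugate to z inside the subgroup generated by P and the centralizer of t in g Q g⁻¹. -/
theorem result {G : Type*} [Group G] [Finite G] (z : G) (hz : orderOf z = 2) (Q : Subgroup G) (hQC : Q ≤ Subgroup.centralizer ({z} : Set G)) (hF : (Cfsg.generalizedFittingSubgroup ↥(Subgroup.centralizer ({z} : Set G))).map (Subgroup.centralizer ({z} : Set G)).subtype = Q) (hQ : Cfsg.IsExtraspecial 2 ↥Q) (w : ℕ) (hw : 3 ≤ w) (hcard : Nat.card ↥Q = 2 ^ (2 * w + 1)) (g : G) (hgQ : g * z * g⁻¹ ∈ Q) (hgZ : g * z * g⁻¹ ∉ ((Subgroup.center ↥Q).map Q.subtype)) (t : G) (ht : orderOf t = 2) (htQ : t ∈ Q ⊓ (Q).map (MulAut.conj g).toMonoidHom) (htz : ¬ IsConj z t) (P : Subgroup G) (hP : P = Q ⊓ Subgroup.centralizer ({t} : Set G)) (hCP : ∀ c ∈ Subgroup.centralizer ({z} : Set G), (∀ x ∈ P, ∃ y ∈ Subgroup.closure ({t, z} : Set G), c * x * c⁻¹ = x * y) ↔ c ∈ Q) [hn : ((Subgroup.zpowers t).subgroupOf (Subgroup.centralizer ({t} : Set G))).Normal] : Cfsg.IsLargeExtraspecial ((P.subgroupOf (Subgroup.centralizer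 ({t} : Set G))).map (QuotientGroup.mk' ((Subgroup.zpowers t).subgroupOf (Subgroup.centralizer ({t} : Set G))))) ∧ ∃ x ∈ P ⊔ ((Q).map (MulAut.conj g).toMonoidHom ⊓ Subgroup.centralizer ({t} : Set G)), x * (g * z * g⁻¹) * x⁻¹ = z := by
  classical
  obtain ⟨hpz', z₀, _, hz₀1, hz₀2, _, hcomm, hcen⟩ :=
    data_of_injective hQ Q.subtype Q.subtype_injective
  rw [Subgroup.range_subtype] at hpz' hcomm hcen
  obtain ⟨hEz, hNz⟩ := fstar_setup z hz Q hF z₀ hz₀1 hz₀2 hcomm hcen
  have hz1 : z ≠ 1 := hEz.ne_one
  have hzQ : z ∈ Q := hEz.mem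
  have hzc : (⟨z, hzQ⟩ : ↥Q) ∈ Subgroup.center ↥Q := by
    rw [Subgroup.mem_center_iff]
    intro b
    apply Subtype.ext
    exact (hEz.central b b.2).symm
  have hzZ : z ∈ (Subgroup.center ↥Q).map Q.subtype := ⟨⟨z, hzQ⟩, hzc, rfl⟩
  have hxz : g * z * g⁻¹ ≠ z := by
    intro h
    apply hgZ
    rw [h]; exact hzZ
  have hPair := mkPair' hEz hNz g hgQ hxz
  obtain ⟨htQ1, htQ2⟩ := Subgroup.mem_inf.mp htQ
  subst hP
  generalize hxdef : g * z * g⁻¹ = x at hgQ hgZ hxz hPair
  generalize hQxdef : Q.map (MulAut.conj g).toMonoidHom = Qx at htQ htQ2 hPair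
  have hEx := hPair.ex
  have ht1 : t ≠ 1 := by
    intro h
    rw [h, orderOf_one] at ht
    omega
  have ht2 : t * t = 1 := by
    have := pow_orderOf_eq_one t
    rw [ht, pow_two] at this
    exact this
  have htinv : t⁻¹ = t := inv_eq_of_mul_eq_one_right ht2
  have htz' : t ≠ z := by
    intro h
    apply htz
    rw [h]
  have hzt : z * t = t * z := hEz.central t htQ1
  have hxt : x * t = t * x := hEx.central t htQ2
  have hzx : z * x = x * z := hPair.comm
  -- a first `q`
  obtain ⟨q1, hq1, hq1x⟩ := hPair.exists_q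
  have htx : t ≠ x := by
    intro h
    apply htz
    rw [isConj_iff]
    exact ⟨g, by rw [hxdef, h]⟩
  have htzx : t ≠ z * x := by
    intro h
    apply htz
    rw [isConj_iff]
    refine ⟨q1 * g, ?_⟩
    calc q1 * g * z * (q1 * g)⁻¹ = q1 * (g * z * g⁻¹) * q1⁻¹ := by group
      _ = t := by rw [hxdef, hq1x, h]
  have hx_not : x ∉ Subgroup.closure (insert z (({t} : Finset G) : Set G)) := by
    rw [Finset.coe_singleton, mem_closure_pair hEz.sq ht2 hzt]
    rintro (h | h | h | h)
    · exact hEx.ne_one h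
    · exact hxz h
    · exact htx h.symm
    · apply htzx
      calc t = z * (z * t) := by rw [← mul_assoc, hEz.sq, one_mul]
        _ = z * x := by rw [h]
  obtain ⟨q, hq, hqt, hqx⟩ := hEz.exists_cent_noncomm {t} (by
    intro s hs
    rw [Finset.mem_singleton] at hs
    rw [hs]; exact htQ1) x hgQ hx_not
  have hqt' : q * t = t * q := hqt t (Finset.mem_singleton_self t)
  have hz_not : z ∉ Subgroup.closure (insert x (({t} : Finset G) : Set G)) := by
    rw [Finset.coe_singleton, mem_closure_pair hEx.sq ht2 hxt]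
    rintro (h | h | h | h)
    · exact hz1 h
    · exact hxz h.symm
    · exact htz' h.symm
    · apply htzx
      calc t = x * (x * t) := by rw [← mul_assoc, hEx.sq, one_mul]
        _ = x * z := by rw [h]
        _ = z * x := hzx.symm
  obtain ⟨q', hq', hq't, hq'z⟩ := hEx.exists_cent_noncomm {t} (by
    intro s hs
    rw [Finset.mem_singleton] at hs
    rw [hs]; exact htQ2) z hPair.zQ hz_not
  have hq't' : q' * t = t * q' := hq't t (Finset.mem_singleton_self t)
  have hq'z' : q' * z * q'⁻¹ = z * x := by rw [hq'z, hzx]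
  have hconj := hPair.qq'_z hq hqx hq'z'
  have hqP : q ∈ Q ⊓ Subgroup.centralizer ({t} : Set G) :=
    Subgroup.mem_inf.mpr ⟨hq, Subgroup.mem_centralizer_singleton_iff.mpr hqt'⟩
  have hq'P : q' ∈ Qx ⊓ Subgroup.centralizer ({t} : Set G) :=
    Subgroup.mem_inf.mpr ⟨hq', Subgroup.mem_centralizer_singleton_iff.mpr hq't'⟩
  have hxP : x ∈ Q ⊓ Subgroup.centralizer ({t} : Set G) :=
    Subgroup.mem_inf.mpr ⟨hgQ, Subgroup.mem_centralizer_singleton_iff.mpr hxt⟩
  constructor
  · have hyt : (q * q') * t = t * (q * q') := by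
      calc (q * q') * t = q * (q' * t) := by group
        _ = q * (t * q') := by rw [hq't']
        _ = (q * t) * q' := by group
        _ = (t * q) * q' := by rw [hqt']
        _ = t * (q * q') := by group
    apply large_quot hEz hNz ht2 htQ1 ht1 htz' ?_ ?_ hxP hyt hconj hxz ?_ hqP hqx
    · intro c hct hcz
      obtain ⟨q0, hq0, hq0t⟩ := hEz.exists_noncomm htQ1 ht1 htz'
      apply htz
      rw [isConj_iff]
      refine ⟨q0⁻¹ * c, ?_⟩
      calc q0⁻¹ * c * z * (q0⁻¹ * c)⁻¹ = q0⁻¹ * (c * z * c⁻¹) * q0 := by group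
        _ = q0⁻¹ * (q0 * t * q0⁻¹) * q0 := by rw [hcz, hq0t]
        _ = t := by group
    · intro c hcz hct hc
      apply (hCP c (Subgroup.mem_centralizer_singleton_iff.mpr hcz)).mp
      intro p hp
      refine ⟨p⁻¹ * (c * p * c⁻¹), ?_, by group⟩
      rw [mem_closure_pair ht2 hEz.sq hzt.symm]
      rcases hc p hp with h | h
      · left; exact h
      · right; left; exact h
    · intro h
      apply htzx
      calc t = z * (z * t) := by rw [← mul_assoc, hEz.sq, one_mul]
        _ = z * x := by rw [h]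
  · refine ⟨(q * q')⁻¹, Subgroup.inv_mem _ (Subgroup.mul_mem _ (Subgroup.mem_sup_left hqP)
      (Subgroup.mem_sup_right hq'P)), ?_⟩
    rw [← hconj]
    group

end Cfsg.Agent.S5429
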