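import Mathlib
import Cfsg.Prelude.Def_MonsterType
import Cfsg.Agent.Lib.Helper28.LargePair

set_option autoImplicit false
open Cfsg

namespace Cfsg.Agent.S5430

open Cfsg.Agent.Helper28.LargeExtra Cfsg.Agent.Helper28.LargePair Cfsg.Agent.Helper14

/-- Let Q be a large extraspecial 2-subgroup of the finite group G (extraspecial; centralizer equal to its centre; normal in the centralizer of its centre; normalizing no non-trivial subgroup of odd order) with centre generated by z, an involution, of width w ≥ 2 (order 2^(2w+1)); let g be an element outside the centralizer H of z with g z g⁻¹ in Q; write V for the subgroup generated by z and g z g⁻¹, X for the subgroup generated by Q and g Q g⁻¹, R for the subgroup generated by the centralizer of z in g Q g⁻¹ and the centralizer of g z g⁻¹ in Q, and E for the intersection of Q and g Q g⁻¹. Then R is the centralizer of V in X and is the largest normal 2-subgroup of X, and X/R is isomorphic to the symmetric group of degree 3; moreover the normalizer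 of V is the product of X and the centralizer of V in H, X is normal in it, and modulo R it is the direct product of X/R and of the centralizer of V in H modulo R. -/
theorem result {G : Type*} [Group G] [Finite G] (Q : Subgroup G) (hQ : Cfsg.IsLargeExtraspecial Q) (z : G) (hz : ((Subgroup.center ↥Q).map Q.subtype) = Subgroup.zpowers z) (hz2 : orderOf z = 2) (w : ℕ) (hw : 2 ≤ w) (hcard : Nat.card ↥Q = 2 ^ (2 * w + 1)) (g : G) (hgH : g ∉ Subgroup.centralizer ({z} : Set G)) (hgQ : g * z * g⁻¹ ∈ Q) (V X R E : Subgroup G) (hV : V = Subgroup.closure ({z, g * z * g⁻¹} : Set G)) (hX : X = Q ⊔ (Q).map (MulAut.conj g).toMonoidHom) (hR : R = ((Q).map (MulAut.conj g).toMonoidHom ⊓ Subgroup.centralizer ({z} : Set G)) ⊔ (Q ⊓ Subgroup.centralizer ({g * z * g⁻¹} : Set G))) (hE : E = Q ⊓ (Q).map (MulAut.conj g).toMonoidHom) : R = X ⊓ Subgroup.centralizer (V : Set G) ∧ R = (Cfsg.pCore 2 ↥X).map X.subtype ∧ (∃ h : (R.subgroupOf X).Normal, Nonempty (↥X ⧸ R.subgroupOf X ≃* Equiv.Perm (Fin 3))) ∧ Subgroup.normalizer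 (V : Set G) = X ⊔ (Subgroup.centralizer ({z} : Set G) ⊓ Subgroup.centralizer (V : Set G)) ∧ (∀ y ∈ Subgroup.normalizer (V : Set G), ∀ x ∈ X, y * x * y⁻¹ ∈ X) ∧ R ≤ Subgroup.centralizer ({z} : Set G) ⊓ Subgroup.centralizer (V : Set G) ∧ (∀ x ∈ X, ∀ c ∈ Subgroup.centralizer ({z} : Set G) ⊓ Subgroup.centralizer (V : Set G), x * c * x⁻¹ * c⁻¹ ∈ R) ∧ X ⊓ (Subgroup.centralizer ({z} : Set G) ⊓ Subgroup.centralizer (V : Set G)) = R := by
  classical
  have hP := mkPair Q hQ z hz hz2 g hgH hgQ
  subst hV hX hR hE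
  have hCV : Subgroup.centralizer ({z} : Set G) ⊓ Subgroup.centralizer
      ((Subgroup.closure ({z, g * z * g⁻¹} : Set G) : Subgroup G) : Set G) =
      Subgroup.centralizer ({z} : Set G) ⊓ Subgroup.centralizer ({g * z * g⁻¹} : Set G) := by
    rw [cent_V_eq, ← inf_assoc, inf_idem]
  have hRC : (Q.map (MulAut.conj g).toMonoidHom ⊓ Subgroup.centralizer ({z} : Set G)) ⊔
      (Q ⊓ Subgroup.centralizer ({g * z * g⁻¹} : Set G)) ≤
      Subgroup.centralizer ({z} : Set G) ⊓ Subgroup.centralizer ({g * z * g⁻¹} : Set G) := by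
    intro r hr
    exact Subgroup.mem_inf.mpr ⟨Subgroup.mem_centralizer_singleton_iff.mpr (hP.R_comm_z hr),
      Subgroup.mem_centralizer_singleton_iff.mpr (hP.R_comm_x hr)⟩
  -- the normalizer of `V` preserves the four-group
  have hNV : ∀ y ∈ Subgroup.normalizer
      ((Subgroup.closure ({z, g * z * g⁻¹} : Set G) : Subgroup G) : Set G),
      ∀ v, Pair.InV z (g * z * g⁻¹) v → Pair.InV z (g * z * g⁻¹) (y * v * y⁻¹) := by
    intro y hy v hv
    rw [← hP.mem_V_iff] at hv ⊢
    exact (Subgroup.mem_normalizer_iff.mp hy v).mp hv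
  have hXN : Q ⊔ Q.map (MulAut.conj g).toMonoidHom ≤ Subgroup.normalizer
      ((Subgroup.closure ({z, g * z * g⁻¹} : Set G) : Subgroup G) : Set G) := by
    intro u hu
    rw [Subgroup.mem_normalizer_iff]
    intro v
    rw [hP.mem_V_iff, hP.mem_V_iff]
    constructor
    · intro hv
      exact (hP.X_le_normV hu v hv).1
    · intro hv
      have := (hP.X_le_normV hu _ hv).2
      have e : u⁻¹ * (u * v * u⁻¹) * u = v := by group
      rw [e] at this
      exact this
  refine ⟨?_, hP.R_eq_pCoreOf, hP.exists_iso', ?_, ?_, ?_, ?_, ?_⟩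
  · rw [cent_V_eq]
    exact hP.X_inf_cent.symm
  · apply le_antisymm
    · intro y hy
      obtain ⟨u, hu, c, hcz, hcx, rfl⟩ := hP.normalizer_decomp (hNV y hy)
      apply Subgroup.mul_mem_sup hu
      rw [hCV]
      exact Subgroup.mem_inf.mpr ⟨Subgroup.mem_centralizer_singleton_iff.mpr hcz,
        Subgroup.mem_centralizer_singleton_iff.mpr hcx⟩
    · apply sup_le hXN
      exact inf_le_right.trans (Subgroup.centralizer_le_normalizer _)
  · intro y hy u hu
    obtain ⟨u', hu', c, hcz, hcx, rfl⟩ := hP.normalizer_decomp (hNV y hy)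
    have h1 := hP.cent_conj_X hcz hcx hu
    have e : u' * c * u * (u' * c)⁻¹ = u' * (c * u * c⁻¹) * u'⁻¹ := by group
    rw [e]
    exact Subgroup.mul_mem _ (Subgroup.mul_mem _ hu' h1) (Subgroup.inv_mem _ hu')
  · rw [hCV]
    exact hRC
  · intro u hu c hc
    rw [hCV] at hc
    obtain ⟨hc1, hc2⟩ := Subgroup.mem_inf.mp hc
    rw [Subgroup.mem_centralizer_singleton_iff] at hc1 hc2
    exact hP.comm_X_cent hc1 hc2 hu
  · rw [hCV]
    exact hP.X_inf_cent

end Cfsg.Agent.S5430
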