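import Mathlib
import Cfsg.Prelude.Def_MonsterType
import Cfsg.Agent.Lib.Helper28.LargePair

set_option autoImplicit false
open Cfsg

namespace Cfsg.Agent.S5431

open Cfsg.Agent.Helper28.LargeExtra Cfsg.Agent.Helper28.LargePair Cfsg.Agent.Helper14
open scoped commutatorElement

/-- Let Q be a large extraspecial 2-subgroup of the finite group G (extraspecial; centralizer equal to its centre; normal in the centralizer of its centre; normalizing no non-trivial subgroup of odd order) with centre generated by z, an involution, of width w ≥ 2 (order 2^(2w+1)); let g be an element outside the centralizer H of z with g z g⁻¹ in Q; write V for the subgroup generated by z and g z g⁻¹, X for the subgroup generated by Q and g Q g⁻¹, R for the subgroup generated by the centralizer of z in g Q g⁻¹ and the centralizer of g z g⁻¹ in Q, and E for the intersection of Q and g Q g⁻¹. Then V is the centre of R, E lies in the second centre of R, R is nilpotent of class at most 3, E and R/E are elementary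 abelian, R/E is the direct product of the images of the centralizer of g z g⁻¹ in Q and of the centralizer of z in g Q g⁻¹ (R is their product and they meet in E), and the commutator subgroup of X and E lies in V. -/
theorem result {G : Type*} [Group G] [Finite G] (Q : Subgroup G) (hQ : Cfsg.IsLargeExtraspecial Q) (z : G) (hz : ((Subgroup.center ↥Q).map Q.subtype) = Subgroup.zpowers z) (hz2 : orderOf z = 2) (w : ℕ) (hw : 2 ≤ w) (hcard : Nat.card ↥Q = 2 ^ (2 * w + 1)) (g : G) (hgH : g ∉ Subgroup.centralizer ({z} : Set G)) (hgQ : g * z * g⁻¹ ∈ Q) (V X R E : Subgroup G) (hV : V = Subgroup.closure ({z, g * z * g⁻¹} : Set G)) (hX : X = Q ⊔ (Q).map (MulAut.conj g).toMonoidHom) (hR : R = ((Q).map (MulAut.conj g).toMonoidHom ⊓ Subgroup.centralizer ({z} : Set G)) ⊔ (Q ⊓ Subgroup.centralizer ({g * z * g⁻¹} : Set G))) (hE : E = Q ⊓ (Q).map (MulAut.conj g).toMonoidHom) : (Subgroup.center ↥R).map R.subtype = V ∧ E ≤ (Subgroup.upperCentralSeries ↥R 2).map R.subtype ∧ Subgroup.upperCentralSeries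 ↥R 3 = ⊤ ∧ Cfsg.IsElementaryAbelian 2 E ∧ (∀ x ∈ R, ∀ y ∈ R, x * y * x⁻¹ * y⁻¹ ∈ E ∧ x ^ 2 ∈ E) ∧ ((Q).map (MulAut.conj g).toMonoidHom ⊓ Subgroup.centralizer ({z} : Set G)) ⊓ (Q ⊓ Subgroup.centralizer ({g * z * g⁻¹} : Set G)) = E ∧ ⁅X, E⁆ ≤ V := by
  classical
  have hP := mkPair Q hQ z hz hz2 g hgH hgQ
  subst hV hX hR hE
  -- elements of `R` commute with the four-group
  have hRV : ∀ r ∈ (Q.map (MulAut.conj g).toMonoidHom ⊓ Subgroup.centralizer ({z} : Set G)) ⊔
      (Q ⊓ Subgroup.centralizer ({g * z * g⁻¹} : Set G)),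
      ∀ v, Pair.InV z (g * z * g⁻¹) v → r * v = v * r := by
    intro r hr v hv
    exact Pair.comm_InV (hP.R_comm_z hr) (hP.R_comm_x hr) hv
  -- commutators of `E` with `R` lie in `V`
  have hER : ∀ e ∈ Q ⊓ Q.map (MulAut.conj g).toMonoidHom,
      ∀ r ∈ (Q.map (MulAut.conj g).toMonoidHom ⊓ Subgroup.centralizer ({z} : Set G)) ⊔
      (Q ⊓ Subgroup.centralizer ({g * z * g⁻¹} : Set G)),
      Pair.InV z (g * z * g⁻¹) (e * r * e⁻¹ * r⁻¹) := by
    intro e he r hr
    have h1 := hP.comm_X_E r (hP.R_le_X hr) e he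
    have e1 : e * r * e⁻¹ * r⁻¹ = (r * e * r⁻¹ * e⁻¹)⁻¹ := by group
    rw [e1, ← hP.mem_V_iff]
    exact Subgroup.inv_mem _ h1
  -- `E` lies in the second centre
  have hZ2 : ∀ e (he : e ∈ Q ⊓ Q.map (MulAut.conj g).toMonoidHom),
      (⟨e, hP.E_le_R he⟩ : ↥((Q.map (MulAut.conj g).toMonoidHom ⊓
        Subgroup.centralizer ({z} : Set G)) ⊔
        (Q ⊓ Subgroup.centralizer ({g * z * g⁻¹} : Set G)))) ∈
        Subgroup.upperCentralSeries _ 2 := by
    intro e he
    rw [show (2 : ℕ) = 1 + 1 from rfl, Subgroup.mem_upperCentralSeries_succ_iff]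
    intro y
    rw [Subgroup.upperCentralSeries_one, Subgroup.mem_center_iff]
    intro r
    apply Subtype.ext
    have h1 := hER e he y y.2
    have h2 := hRV r r.2 _ h1
    rw [commutatorElement_def]
    exact h2
  refine ⟨?_, ?_, ?_, hP.E_elemAb, ?_, hP.inf_cen_eq, ?_⟩
  · ext c
    constructor
    · rintro ⟨c', hc', rfl⟩
      rw [hP.mem_V_iff]
      apply hP.center_R_le c'.2
      intro r hr
      have := Subgroup.mem_center_iff.mp hc' ⟨r, hr⟩
      exact (congrArg Subtype.val this).symm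
    · intro hc
      rw [hP.mem_V_iff] at hc
      refine ⟨⟨c, hP.V_le_R hc⟩, ?_, rfl⟩
      rw [SetLike.mem_coe, Subgroup.mem_center_iff]
      intro r
      apply Subtype.ext
      exact hRV r r.2 c hc
  · intro e he
    exact ⟨⟨e, hP.E_le_R he⟩, hZ2 e he, rfl⟩
  · rw [eq_top_iff]
    intro r _
    rw [show (3 : ℕ) = 2 + 1 from rfl, Subgroup.mem_upperCentralSeries_succ_iff]
    intro y
    have h1 := hP.comm_R_R r r.2 y y.2
    have h2 := hZ2 _ h1
    have e : ⁅r, y⁆ = ⟨(r : G) * y * (r : G)⁻¹ * (y : G)⁻¹, hP.E_le_R h1⟩ := by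
      apply Subtype.ext
      rw [commutatorElement_def]
      rfl
    rw [e]
    exact h2
  · intro r hr s hs
    exact ⟨hP.comm_R_R r hr s hs, hP.sq_R hr⟩
  · rw [Subgroup.commutator_le]
    intro u hu e he
    rw [commutatorElement_def]
    exact hP.comm_X_E u hu e he

end Cfsg.Agent.S5431
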