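import Mathlib
import Cfsg.Statements.S5433

set_option autoImplicit false
open Cfsg

namespace Cfsg.Agent.S5433

instance fact_prime_two : Fact (Nat.Prime 2) := ⟨Nat.prime_two⟩

theorem result {G : Type*} [Group G] [Finite G] (Q : Subgroup G) (hQ : Cfsg.IsLargeExtraspecial Q) (L : Subgroup G) [L.Normal] (hQL : Q ≤ L) : L ⊔ Subgroup.normalizer (Q : Set G) = ⊤ := by
  obtain ⟨⟨⟨hQ2, -, -⟩, hcard⟩, hcent, hnorm, -⟩ := hQ
  set Z : Subgroup G := (Subgroup.center Q).map Q.subtype with hZ
  have hZcard : Nat.card Z = 2 := by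
    rw [hZ, Subgroup.card_map_of_injective Q.subtype_injective, hcard]
  have hZQ : Z ≤ Q := by
    rw [hZ]; exact Subgroup.map_subtype_le _
  -- unique nonidentity element of Z
  obtain ⟨z0, hz0, hz0u⟩ := (Nat.card_eq_two_iff' (1 : Z)).mp hZcard
  have huniq : ∀ a ∈ Z, a ≠ 1 → a = (z0 : G) := by
    intro a ha ha1
    have := hz0u ⟨a, ha⟩ (by
      intro h; apply ha1
      exact congrArg Subtype.val h)
    exact congrArg Subtype.val this
  -- Sylow 2-subgroup S of L containing Q
  have hQ'2 : IsPGroup 2 (Q.subgroupOf L) := by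
    have : IsPGroup 2 ((Q.subgroupOf L).map L.subtype) := by
      rw [Subgroup.subgroupOf_map_subtype, inf_of_le_left hQL]; exact hQ2
    intro x
    obtain ⟨k, hk⟩ := this ⟨x.1.1, ⟨x.1, x.2, rfl⟩⟩
    refine ⟨k, ?_⟩
    have := congrArg Subtype.val hk
    apply Subtype.ext; apply Subtype.ext
    simpa using this
  obtain ⟨S, hS⟩ := hQ'2.exists_le_sylow
  set S' : Subgroup G := (S : Subgroup L).map L.subtype with hS'
  have hQS' : Q ≤ S' := by
    intro q hq
    exact ⟨⟨q, hQL hq⟩, hS (Subgroup.mem_subgroupOf.mpr hq), rfl⟩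
  have hS'2 : IsPGroup 2 S' := S.isPGroup'.map L.subtype
  have hfrat : Subgroup.normalizer (S' : Set G) ⊔ L = ⊤ := Sylow.normalizer_sup_eq_top S
  -- a nontrivial central element of S'
  have hz0Q : (z0 : G) ∈ Q := hZQ z0.2
  have hz0ne : (z0 : G) ≠ 1 := by
    intro h; apply hz0; exact Subtype.ext h
  have : Nontrivial S' := by
    refine ⟨⟨⟨(z0 : G), hQS' hz0Q⟩, 1, ?_⟩⟩
    intro h; apply hz0ne
    exact congrArg Subtype.val h
  have hnt : Nontrivial (Subgroup.center S') := hS'2.center_nontrivial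
  obtain ⟨c, hc1⟩ := exists_ne (1 : Subgroup.center S')
  have hcG1 : ((c : S') : G) ≠ 1 := by
    intro h; apply hc1
    apply Subtype.ext; apply Subtype.ext; simpa using h
  -- central elements of S' (in G) lie in Z
  have hcenZ : ∀ a : G, a ∈ S' → (∀ s ∈ S', s * a = a * s) → a ∈ Z := by
    intro a _ hcomm
    rw [← hcent, Subgroup.mem_centralizer_iff]
    intro q hq
    exact hcomm q (hQS' hq)
  have hccomm : ∀ s ∈ S', s * ((c : S') : G) = ((c : S') : G) * s := by
    intro s hs
    have := Subgroup.mem_center_iff.mp c.2 ⟨s, hs⟩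
    exact congrArg Subtype.val this
  have hcZ : ((c : S') : G) ∈ Z := hcenZ _ (c : S').2 hccomm
  have hcz0 : ((c : S') : G) = z0 := huniq _ hcZ hcG1
  -- normalizer of S' centralizes Z
  have hNle : Subgroup.normalizer (S' : Set G) ≤ Subgroup.normalizer (Q : Set G) := by
    intro g hg
    apply hnorm
    rw [Subgroup.mem_centralizer_iff]
    have hg' := Subgroup.mem_set_normalizer_iff.mp hg
    -- g c g⁻¹ is central in S'
    have h1 : g * (z0 : G) * g⁻¹ ∈ S' := by
      rw [← hcz0]; exact (hg' _).mp (c : S').2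
    have h2 : ∀ s ∈ S', s * (g * (z0 : G) * g⁻¹) = (g * (z0 : G) * g⁻¹) * s := by
      intro s hs
      have hs' : g⁻¹ * s * g ∈ S' := by
        have := (Subgroup.mem_set_normalizer_iff''.mp hg s).mp hs
        exact this
      have := hccomm _ hs'
      rw [hcz0] at this
      calc s * (g * (z0 : G) * g⁻¹) = g * ((g⁻¹ * s * g) * (z0 : G)) * g⁻¹ := by group
        _ = g * ((z0 : G) * (g⁻¹ * s * g)) * g⁻¹ := by rw [this]
        _ = (g * (z0 : G) * g⁻¹) * s := by group
    have h3 : g * (z0 : G) * g⁻¹ ∈ Z := hcenZ _ h1 h2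
    have h4 : g * (z0 : G) * g⁻¹ ≠ 1 := by
      intro h; apply hz0ne
      have : (z0 : G) = g⁻¹ * (g * (z0 : G) * g⁻¹) * g := by group
      rw [this, h]; group
    have h5 : g * (z0 : G) * g⁻¹ = z0 := huniq _ h3 h4
    intro a ha
    by_cases ha1 : a = 1
    · subst ha1; simp
    · have : a = z0 := huniq a ha ha1
      rw [this]
      calc (z0 : G) * g = (g * (z0 : G) * g⁻¹) * g := by rw [h5]
        _ = g * z0 := by group
  rw [sup_comm]
  apply top_le_iff.mp
  rw [← hfrat]
  exact sup_le_sup_right hNle L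

end Cfsg.Agent.S5433
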