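import Mathlib
import Cfsg.Statements.S5434
import Cfsg.Agent.Lib.Helper27.ExtraCrit
import Cfsg.Agent.Lib.Helper27.LargeExtra
import Cfsg.Agent.S0026
import Cfsg.Agent.S0027

set_option autoImplicit false
open Cfsg
open scoped commutatorElement

namespace Cfsg.Agent.S5434

open Cfsg.Agent.Helper27

variable {G : Type*} [Group G]

/-- Data of an extraspecial 2-subgroup, in the ambient group. -/
theorem extra_data [Finite G] (Q : Subgroup G) (hE : IsExtraspecial 2 Q) :
    ∃ z : G, z ∈ Q ∧ z ≠ 1 ∧ (∀ q ∈ Q, q * z = z * q) ∧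
      (∀ c ∈ Q, (∀ q ∈ Q, q * c = c * q) → c = 1 ∨ c = z) ∧
      (∀ a ∈ Q, ∀ b ∈ Q, ⁅a, b⁆ = 1 ∨ ⁅a, b⁆ = z) ∧
      (∀ a ∈ Q, a ^ 2 = 1 ∨ a ^ 2 = z) ∧
      (∀ c : G, c ∈ (Subgroup.center Q).map Q.subtype ↔ c = 1 ∨ c = z) := by
  obtain ⟨z0, hc, hsq, hne, halt, hcen⟩ := Cfsg.Agent.Helper9.extraspecial_two_data hE
  refine ⟨(z0 : G), z0.2, fun h => hne (Subtype.ext h), ?_, ?_, ?_, ?_, ?_⟩
  · intro q hq
    exact congrArg Subtype.val (hc ⟨q, hq⟩)
  · intro c hcQ hcc
    have := hcen ⟨c, hcQ⟩ (fun a => Subtype.ext (hcc a.1 a.2))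
    rcases this with h | h
    · left; exact congrArg Subtype.val h
    · right; exact congrArg Subtype.val h
  · intro a ha b hb
    have hmem : ⁅(⟨a, ha⟩ : Q), ⟨b, hb⟩⁆ ∈ Subgroup.center Q := by
      rw [← hE.1.2.2, commutator_def]
      exact Subgroup.commutator_mem_commutator (Subgroup.mem_top _) (Subgroup.mem_top _)
    rcases hcen _ (Subgroup.mem_center_iff.mp hmem) with h | h
    · left; exact congrArg Subtype.val h
    · right; exact congrArg Subtype.val h
  · intro a ha
    rcases extraspecial_sq hE z0 hcen ⟨a, ha⟩ with h | h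
    · left; exact congrArg Subtype.val h
    · right; exact congrArg Subtype.val h
  · intro c
    constructor
    · rintro ⟨c', hc', rfl⟩
      rcases hcen c' (Subgroup.mem_center_iff.mp hc') with h | h
      · left; rw [h]; rfl
      · right; rw [h]; rfl
    · rintro (rfl | rfl)
      · exact Subgroup.one_mem _
      · exact ⟨z0, Subgroup.mem_center_iff.mpr hc, rfl⟩

/-- A non-abelian central factor of an extraspecial 2-subgroup is extraspecial. -/
theorem isExtraspecial_of_central_factor [Finite G] (Q : Subgroup G) (hE : IsExtraspecial 2 Q)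
    (H H' : Subgroup G) (hHQ : H ≤ Q) (hH'Q : H' ≤ Q) (hsup : H ⊔ H' = Q)
    (hcomm : ∀ x ∈ H, ∀ y ∈ H', x * y = y * x)
    (hna : ∃ a ∈ H, ∃ b ∈ H, a * b ≠ b * a) : IsExtraspecial 2 H := by
  obtain ⟨z, hzQ, hz1, hzc, hQcen, hQcomm, hQsq, -⟩ := extra_data Q hE
  obtain ⟨a, ha, b, hb, hab⟩ := hna
  have habz : ⁅a, b⁆ = z := by
    rcases hQcomm a (hHQ ha) b (hHQ hb) with h | h
    · exact absurd (commutatorElement_eq_one_iff_commute.mp h) hab
    · exact h
  have hzH : z ∈ H := by
    rw [← habz, commutatorElement_def]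
    exact H.mul_mem (H.mul_mem (H.mul_mem ha hb) (H.inv_mem ha)) (H.inv_mem hb)
  have hPQ : IsPGroup 2 Q := hE.1.1
  have hPH : IsPGroup 2 H := by
    intro h
    obtain ⟨k, hk⟩ := hPQ ⟨h.1, hHQ h.2⟩
    refine ⟨k, Subtype.ext ?_⟩
    have := congrArg Subtype.val hk
    simpa using this
  apply isExtraspecial_two_of_data hPH ⟨z, hzH⟩
  · intro h; exact hz1 (congrArg Subtype.val h)
  · intro x
    exact Subtype.ext (hzc x.1 (hHQ x.2))
  · intro c hc
    have hcH : ∀ x ∈ H, x * c.1 = c.1 * x := fun x hx => congrArg Subtype.val (hc ⟨x, hx⟩)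
    have hcH' : ∀ y ∈ H', y * c.1 = c.1 * y := fun y hy => (hcomm c.1 c.2 y hy).symm
    have hQle : Q ≤ Subgroup.centralizer {c.1} := by
      rw [← hsup]
      apply sup_le
      · intro x hx
        rw [Subgroup.mem_centralizer_singleton_iff]
        exact hcH x hx
      · intro y hy
        rw [Subgroup.mem_centralizer_singleton_iff]
        exact hcH' y hy
    have := hQcen c.1 (hHQ c.2) (fun q hq => by
      have := hQle hq
      rwa [Subgroup.mem_centralizer_singleton_iff] at this)
    rcases this with h | h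
    · left; exact Subtype.ext h
    · right; exact Subtype.ext h
  · intro x y
    rcases hQcomm x.1 (hHQ x.2) y.1 (hHQ y.2) with h | h
    · left; exact Subtype.ext h
    · right; exact Subtype.ext h
  · intro x
    rcases hQsq x.1 (hHQ x.2) with h | h
    · left; exact Subtype.ext h
    · right; exact Subtype.ext h
  · refine ⟨⟨a, ha⟩, ⟨b, hb⟩, ?_⟩
    intro h
    have := congrArg Subtype.val h
    apply hab
    exact commutatorElement_eq_one_iff_commute.mp this

/-- Let Q be a large extraspecial 2-subgroup of the finite group G (extraspecial; centralizer equal to its centre; normal in the centralizer of its centre; normalizing no non-trivial subgroup of odd order), and A a non-trivial subgroup of odd order of the normalizer of Q. Then Q is the central product of the centralizer of A in Q and the commutator subgroup [Q, A] (they generate Q and commute elementwise), [Q, A] is extraspecial, and the centralizer of A in Q is either the centre of Q or extraspecial. -/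
theorem result {G : Type*} [Group G] [Finite G] (Q : Subgroup G) (hQ : Cfsg.IsLargeExtraspecial Q) (A : Subgroup G) (hA : A ≤ Subgroup.normalizer (Q : Set G)) (hAodd : Odd (Nat.card ↥A)) (hA1 : A ≠ ⊥) : (Q ⊓ Subgroup.centralizer (A : Set G)) ⊔ ⁅Q, A⁆ = Q ∧ (∀ x ∈ Q ⊓ Subgroup.centralizer (A : Set G), ∀ y ∈ ⁅Q, A⁆, x * y = y * x) ∧ Cfsg.IsExtraspecial 2 ↥⁅Q, A⁆ ∧ (Q ⊓ Subgroup.centralizer (A : Set G) = ((Subgroup.center ↥Q).map Q.subtype) ∨ Cfsg.IsExtraspecial 2 ↥(Q ⊓ Subgroup.centralizer (A : Set G))) := by
  haveI : Fact (Nat.Prime 2) := ⟨Nat.prime_two⟩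
  obtain ⟨hE, hCQ, hNZ, hodd⟩ := hQ
  obtain ⟨z, hzQ, hz1, hzc, hQcen, hQcomm, hQsq, hZmem⟩ := extra_data Q hE
  have hKQ : ⁅Q, A⁆ ≤ Q := Cfsg.Agent.Helper1.commutator_le_of_le_normalizer hA
  have hPQ : IsPGroup 2 Q := hE.1.1
  obtain ⟨n, hn⟩ := hPQ.exists_card_eq
  have hcop : (Nat.card A).Coprime (Nat.card Q) := by
    rw [hn]; exact Nat.Coprime.pow_right n hAodd.coprime_two_right
  have hsolv : Group.IsSolvable Q := by
    haveI := hPQ.isNilpotent
    infer_instance
  have h26 := Cfsg.Agent.S0026.result A Q hA hcop (Or.inr hsolv)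
  have h27 := Cfsg.Agent.S0027.result A Q hA hcop (Or.inr hsolv)
  -- `A` centralizes `z`
  have hAz : ∀ a ∈ A, a * z = z * a := by
    intro a ha
    have haN := hA ha
    rw [Subgroup.mem_normalizer_iff] at haN
    have h1 : a * z * a⁻¹ ∈ Q := (haN z).mp hzQ
    have h2 : ∀ q ∈ Q, q * (a * z * a⁻¹) = (a * z * a⁻¹) * q := by
      intro q hq
      have hq' : a⁻¹ * q * a ∈ Q := by
        rw [haN]
        have : a * (a⁻¹ * q * a) * a⁻¹ = q := by group
        rw [this]; exact hq
      have := hzc _ hq'
      calc q * (a * z * a⁻¹) = a * ((a⁻¹ * q * a) * z) * a⁻¹ := by group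
        _ = a * (z * (a⁻¹ * q * a)) * a⁻¹ := by rw [this]
        _ = (a * z * a⁻¹) * q := by group
    rcases hQcen _ h1 h2 with h | h
    · exfalso; apply hz1
      have : z = a⁻¹ * (a * z * a⁻¹) * a := by group
      rw [this, h]; group
    · calc a * z = (a * z * a⁻¹) * a := by group
        _ = z * a := by rw [h]
  have hzC : z ∈ Q ⊓ Subgroup.centralizer (A : Set G) := by
    refine ⟨hzQ, ?_⟩
    show z ∈ Subgroup.centralizer (A : Set G)
    rw [Subgroup.mem_centralizer_iff]
    intro a ha
    exact hAz a ha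
  -- `[K, C] = 1` by the three subgroups lemma
  have h3 : ⁅⁅Q, A⁆, Q ⊓ Subgroup.centralizer (A : Set G)⁆ = ⊥ := by
    apply Subgroup.commutator_commutator_eq_bot_of_rotate
    · have : ⁅A, Q ⊓ Subgroup.centralizer (A : Set G)⁆ = ⊥ := by
        rw [Subgroup.commutator_comm, Subgroup.commutator_eq_bot_iff_le_centralizer]
        exact inf_le_right
      rw [this]
      exact Subgroup.commutator_bot_left _
    · rw [Subgroup.commutator_eq_bot_iff_le_centralizer, Subgroup.commutator_le]
      intro c hc q hq
      rw [Subgroup.mem_centralizer_iff]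
      intro a ha
      rcases hQcomm c hc.1 q hq with h | h
      · rw [h]; simp
      · rw [h]; exact hAz a ha
  have hcommKC : ∀ x ∈ Q ⊓ Subgroup.centralizer (A : Set G), ∀ y ∈ ⁅Q, A⁆, x * y = y * x := by
    intro x hx y hy
    rw [Subgroup.commutator_eq_bot_iff_le_centralizer] at h3
    have := h3 hy
    rw [Subgroup.mem_centralizer_iff] at this
    exact this x hx
  -- centralizer of Q membership
  have hcenQ : ∀ c : G, (∀ q ∈ Q, q * c = c * q) → c = 1 ∨ c = z := by
    intro c hc
    have : c ∈ Subgroup.centralizer (Q : Set G) := by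
      rw [Subgroup.mem_centralizer_iff]
      exact hc
    rw [hCQ, hZmem] at this
    exact this
  -- `K` is not abelian
  have hKna : ∃ a ∈ ⁅Q, A⁆, ∃ b ∈ ⁅Q, A⁆, a * b ≠ b * a := by
    by_contra hcon
    push Not at hcon
    have hKZ : ∀ k ∈ ⁅Q, A⁆, k = 1 ∨ k = z := by
      intro k hk
      apply hcenQ
      have hle : Q ≤ Subgroup.centralizer {k} := by
        rw [← h26]
        apply sup_le
        · intro x hx
          rw [Subgroup.mem_centralizer_singleton_iff]
          exact hcon x hx k hk
        · intro x hx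
          rw [Subgroup.mem_centralizer_singleton_iff]
          exact hcommKC x hx k hk
      intro q hq
      have := hle hq
      rwa [Subgroup.mem_centralizer_singleton_iff] at this
    have hKA : ⁅⁅Q, A⁆, A⁆ = ⊥ := by
      rw [Subgroup.commutator_eq_bot_iff_le_centralizer]
      intro k hk
      rw [Subgroup.mem_centralizer_iff]
      intro a ha
      rcases hKZ k hk with h | h
      · rw [h]; simp
      · rw [h]; exact hAz a ha
    rw [h27] at hKA
    have hAcen : A ≤ Subgroup.centralizer (Q : Set G) := by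
      rw [← Subgroup.commutator_eq_bot_iff_le_centralizer, Subgroup.commutator_comm]
      exact hKA
    have hAQ : A ≤ Q := by
      intro a ha
      have := hAcen ha
      rw [hCQ, hZmem] at this
      rcases this with h | h
      · rw [h]; exact Q.one_mem
      · rw [h]; exact hzQ
    have hdvd : Nat.card A ∣ Nat.card Q := Subgroup.card_dvd_of_le hAQ
    have h1 : Nat.card A = 1 := Nat.Coprime.eq_one_of_dvd hcop hdvd
    exact hA1 (Subgroup.card_eq_one.mp h1)
  refine ⟨by rw [sup_comm]; exact h26, hcommKC, ?_, ?_⟩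
  · exact isExtraspecial_of_central_factor Q hE _ _ hKQ inf_le_left h26
      (fun x hx y hy => (hcommKC y hy x hx).symm) hKna
  · by_cases hCna : ∃ a ∈ Q ⊓ Subgroup.centralizer (A : Set G),
        ∃ b ∈ Q ⊓ Subgroup.centralizer (A : Set G), a * b ≠ b * a
    · right
      exact isExtraspecial_of_central_factor Q hE _ _ inf_le_left hKQ
        (by rw [sup_comm]; exact h26) hcommKC hCna
    · left
      push Not at hCna
      apply le_antisymm
      · intro c hc
        rw [hZmem]
        apply hcenQ
        have hle : Q ≤ Subgroup.centralizer {c} := by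
          rw [← h26]
          apply sup_le
          · intro x hx
            rw [Subgroup.mem_centralizer_singleton_iff]
            exact (hcommKC c hc x hx).symm
          · intro x hx
            rw [Subgroup.mem_centralizer_singleton_iff]
            exact hCna x hx c hc
        intro q hq
        have := hle hq
        rwa [Subgroup.mem_centralizer_singleton_iff] at this
      · intro c hc
        rw [hZmem] at hc
        rcases hc with rfl | rfl
        · exact Subgroup.one_mem _
        · exact hzC

end Cfsg.Agent.S5434
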