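import Mathlib
import Cfsg.Prelude.Def_MonsterType
import Cfsg.Agent.Lib.Helper28.LargeExtra
import Cfsg.Agent.Lib.Helper28.FStarExtra

set_option autoImplicit false
open Cfsg

namespace Cfsg.Agent.S5436

open Cfsg.Agent.Helper28.LargeExtra Cfsg.Agent.Helper28.FStarExtra Cfsg.Agent.Helper14

/-- Let z be an involution of the finite group G with centralizer H whose generalized Fitting subgroup Q is extraspecial of width at least 2 (order 2^(2w+1), w ≥ 2); suppose some conjugate of z other than z lies in Q, H/Q is a non-abelian simple group, H acts irreducibly by conjugation on Q modulo the subgroup generated by z (the only H-invariant subgroups of Q containing z are that subgroup and Q), and Q is not the subgroup generated by the conjugates of z lying in H. Then G is simple. -/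
theorem result {G : Type*} [Group G] [Finite G] (z : G) (hz : orderOf z = 2) (Q : Subgroup (Subgroup.centralizer ({z} : Set G))) [Q.Normal] (hF : Cfsg.generalizedFittingSubgroup ↥(Subgroup.centralizer ({z} : Set G)) = Q) (hQ : Cfsg.IsExtraspecial 2 ↥Q) (w : ℕ) (hw : 2 ≤ w) (hcard : Nat.card ↥Q = 2 ^ (2 * w + 1)) (hnwc : ∃ g : G, (∃ hq : g * z * g⁻¹ ∈ Subgroup.centralizer ({z} : Set G), (⟨g * z * g⁻¹, hq⟩ : Subgroup.centralizer ({z} : Set G)) ∈ Q) ∧ g * z * g⁻¹ ≠ z) (hsimp : IsSimpleGroup (↥(Subgroup.centralizer ({z} : Set G)) ⧸ Q)) (hna : ¬ IsMulCommutative (↥(Subgroup.centralizer ({z} : Set G)) ⧸ Q)) (hirr : ∀ W : Subgroup (Subgroup.centralizer ({z} : Set G)), W.Normal → W ≤ Q → (W = Q ∨ ∀ x ∈ W, (x : G) ∈ Subgroup.zpowers z)) (hwcl : Subgroup.closure {x : Subgroup.centralizer ({z} : Set G) | IsConj z (x : G)} ≠ Q) : IsSimpleGroup G := by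
  classical
  have hιinj : Function.Injective
      ((Subgroup.centralizer ({z} : Set G)).subtype.comp Q.subtype) := by
    intro a b hab
    apply Subtype.ext
    apply Subtype.ext
    exact hab
  have hrange : ((Subgroup.centralizer ({z} : Set G)).subtype.comp Q.subtype).range =
      Q.map (Subgroup.centralizer ({z} : Set G)).subtype := by
    ext a
    constructor
    · rintro ⟨b, rfl⟩
      exact ⟨b.1, b.2, rfl⟩
    · rintro ⟨b, hb, rfl⟩
      exact ⟨⟨b, hb⟩, rfl⟩
  obtain ⟨hpz', z₀, _, hz₀1, hz₀2, _, hcomm, hcen⟩ := data_of_injective hQ _ hιinj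
  rw [hrange] at hpz' hcomm hcen
  have hpz : IsPGroup 2 ↥(Q.map (Subgroup.centralizer ({z} : Set G)).subtype) := hpz'
  have hF' : (Cfsg.generalizedFittingSubgroup ↥(Subgroup.centralizer ({z} : Set G))).map
      (Subgroup.centralizer ({z} : Set G)).subtype =
      Q.map (Subgroup.centralizer ({z} : Set G)).subtype := by rw [hF]
  obtain ⟨hEz, hNz⟩ := fstar_setup z hz _ hF' z₀ hz₀1 hz₀2 hcomm hcen
  have hz1 : z ≠ 1 := hEz.ne_one
  obtain ⟨g, ⟨hq, hxQ⟩, hxz⟩ := hnwc
  have hxQ' : g * z * g⁻¹ ∈ Q.map (Subgroup.centralizer ({z} : Set G)).subtype :=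
    ⟨⟨g * z * g⁻¹, hq⟩, hxQ, rfl⟩
  have hx1 : g * z * g⁻¹ ≠ 1 := (hEz.conj g).ne_one
  have hlarge := large_of_conj hEz hpz hNz g hxQ' hxz
  have hxnz : g * z * g⁻¹ ∉ Subgroup.zpowers z := by
    intro h
    rw [mem_zpowers_iff_mem_range_orderOf, hz] at h
    simp only [Finset.mem_image, Finset.mem_range] at h
    obtain ⟨a, ha, hax⟩ := h
    interval_cases a
    · apply hx1; rw [← hax]; simp
    · apply hxz; rw [← hax]; simp
  haveI : Nontrivial G := ⟨⟨z, 1, hz1⟩⟩
  refine ⟨fun M hM => ?_⟩
  by_cases hMb : M = ⊥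
  · left; exact hMb
  right
  haveI := hM
  have hzM : z ∈ M := z_mem_normal hEz hpz hlarge M hMb
  have hxM : g * z * g⁻¹ ∈ M := hM.conj_mem z hzM g
  haveI hNn : (M.subgroupOf (Subgroup.centralizer ({z} : Set G))).Normal :=
    Subgroup.normal_subgroupOf
  -- `Q ≤ M`
  have hQM : Q ≤ M.subgroupOf (Subgroup.centralizer ({z} : Set G)) := by
    have hWn : (M.subgroupOf (Subgroup.centralizer ({z} : Set G)) ⊓ Q).Normal := inferInstance
    rcases hirr _ hWn inf_le_right with h | h
    · rw [← h]; exact inf_le_left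
    · exfalso
      apply hxnz
      have h1 : (⟨g * z * g⁻¹, hq⟩ : ↥(Subgroup.centralizer ({z} : Set G))) ∈
          M.subgroupOf (Subgroup.centralizer ({z} : Set G)) ⊓ Q := by
        refine Subgroup.mem_inf.mpr ⟨?_, hxQ⟩
        exact Subgroup.mem_subgroupOf.mpr hxM
      exact h _ h1
  have hNbar : ((M.subgroupOf (Subgroup.centralizer ({z} : Set G))).map
      (QuotientGroup.mk' Q)).Normal :=
    hNn.map _ (QuotientGroup.mk'_surjective Q)
  rcases hsimp.eq_bot_or_eq_top_of_normal _ hNbar with h | h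
  · -- `M ∩ C = Q`: contradiction
    exfalso
    rw [Subgroup.map_eq_bot_iff, QuotientGroup.ker_mk'] at h
    have hW'le : Subgroup.closure {x : ↥(Subgroup.centralizer ({z} : Set G)) |
        IsConj z (x : G)} ≤ Q := by
      rw [Subgroup.closure_le]
      intro y hy
      apply h
      rw [Subgroup.mem_subgroupOf]
      obtain ⟨c, hc⟩ := isConj_iff.mp hy
      rw [← hc]
      exact hM.conj_mem z hzM c
    have hW'n : (Subgroup.closure {x : ↥(Subgroup.centralizer ({z} : Set G)) |
        IsConj z (x : G)}).Normal := by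
      refine ⟨fun n hn c => ?_⟩
      induction hn using Subgroup.closure_induction with
      | mem y hy =>
        apply Subgroup.subset_closure
        obtain ⟨d, hd⟩ := isConj_iff.mp hy
        refine isConj_iff.mpr ⟨(c : G) * d, ?_⟩
        change (c : G) * d * z * ((c : G) * d)⁻¹ = (c : G) * (y : G) * (c : G)⁻¹
        rw [← hd]; group
      | one => simp
      | mul a b _ _ iha ihb =>
        have : c * (a * b) * c⁻¹ = (c * a * c⁻¹) * (c * b * c⁻¹) := by group
        rw [this]; exact Subgroup.mul_mem _ iha ihb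
      | inv a _ iha =>
        have : c * a⁻¹ * c⁻¹ = (c * a * c⁻¹)⁻¹ := by group
        rw [this]; exact Subgroup.inv_mem _ iha
    rcases hirr _ hW'n hW'le with h1 | h1
    · exact hwcl h1
    · apply hxnz
      have h2 : (⟨g * z * g⁻¹, hq⟩ : ↥(Subgroup.centralizer ({z} : Set G))) ∈
          Subgroup.closure {x : ↥(Subgroup.centralizer ({z} : Set G)) | IsConj z (x : G)} := by
        apply Subgroup.subset_closure
        exact isConj_iff.mpr ⟨g, rfl⟩
      exact h1 _ h2
  · -- `C ≤ M`
    have h1 := congrArg (Subgroup.comap (QuotientGroup.mk' Q)) h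
    rw [Subgroup.comap_map_eq, QuotientGroup.ker_mk', Subgroup.comap_top,
      sup_eq_left.mpr hQM] at h1
    have hCM : Subgroup.centralizer ({z} : Set G) ≤ M := by
      intro c hc
      have h2 : (⟨c, hc⟩ : ↥(Subgroup.centralizer ({z} : Set G))) ∈
          M.subgroupOf (Subgroup.centralizer ({z} : Set G)) := by
        rw [h1]; exact Subgroup.mem_top _
      rw [Subgroup.mem_subgroupOf] at h2
      exact h2
    exact eq_top_of_cent_le hEz hpz M hCM

end Cfsg.Agent.S5436
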