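import Mathlib
import Cfsg.Statements.S5437

set_option autoImplicit false
open Cfsg

namespace Cfsg.Agent.S5437

variable {G : Type*} [Group G]

theorem mem_map_conj_iff (H : Subgroup G) (g x : G) :
    x ∈ H.map (MulAut.conj g).toMonoidHom ↔ g⁻¹ * x * g ∈ H := by
  constructor
  · rintro ⟨y, hy, rfl⟩
    have : g⁻¹ * ((MulAut.conj g).toMonoidHom y) * g = y := by
      simp only [MulEquiv.toMonoidHom_eq_coe, MonoidHom.coe_coe, MulAut.conj_apply]
      group
    rw [this]; exact hy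
  · intro h
    refine ⟨g⁻¹ * x * g, h, ?_⟩
    simp [MulAut.conj_apply, mul_assoc]

theorem smul_coset_eq_iff (H : Subgroup G) (x g : G) :
    x • (QuotientGroup.mk g : G ⧸ H) = QuotientGroup.mk g ↔ g⁻¹ * x * g ∈ H := by
  rw [MulAction.Quotient.smul_mk, QuotientGroup.eq]
  constructor
  · intro h
    have h2 := H.inv_mem h
    have : ((x • g)⁻¹ * g)⁻¹ = g⁻¹ * x * g := by
      simp [smul_eq_mul, mul_assoc]
    rwa [this] at h2
  · intro h
    have h2 := H.inv_mem h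
    have : (g⁻¹ * x * g)⁻¹ = (x • g)⁻¹ * g := by
      have hx : x • g = x * g := rfl
      rw [hx]; group
    rwa [this] at h2

theorem result {G : Type*} [Group G] [Finite G] (I : Set G) (hI : ∀ x ∈ I, orderOf x = 2) (hIc : ∀ g : G, ∀ x ∈ I, g * x * g⁻¹ ∈ I) (H : Subgroup G) : ((∀ x ∈ I, x ∈ H → (∀ g : G, g * x * g⁻¹ ∈ H → ∃ h ∈ H, h * x * h⁻¹ = g * x * g⁻¹) ∧ Subgroup.centralizer ({x} : Set G) ≤ H) ↔ (∀ g : G, g ∉ H → ∀ x ∈ I, ¬ (x ∈ H ∧ x ∈ (H : Subgroup G).map (MulAut.conj g).toMonoidHom))) ∧ ((∀ g : G, g ∉ H → ∀ x ∈ I, ¬ (x ∈ H ∧ x ∈ (H : Subgroup G).map (MulAut.conj g).toMonoidHom)) ↔ ∀ x ∈ I, x ∈ H → ∃! c : G ⧸ H, x • c = c) := by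
  refine ⟨⟨?_, ?_⟩, ⟨?_, ?_⟩⟩
  · -- (1) → (2)
    intro h1 g hg x hxI ⟨hxH, hxg⟩
    rw [mem_map_conj_iff] at hxg
    -- y = g⁻¹ x g ∈ H ∩ I
    have hyI : g⁻¹ * x * g ∈ I := by
      have := hIc g⁻¹ x hxI
      simpa using this
    obtain ⟨hfus, hcent⟩ := h1 _ hyI hxg
    have hgy : g * (g⁻¹ * x * g) * g⁻¹ = x := by group
    obtain ⟨h, hh, hheq⟩ := hfus g (by rw [hgy]; exact hxH)
    -- h⁻¹ g centralizes y
    have hc : h⁻¹ * g ∈ Subgroup.centralizer ({g⁻¹ * x * g} : Set G) := by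
      rw [Subgroup.mem_centralizer_iff]
      intro y hy
      rw [Set.mem_singleton_iff] at hy
      subst hy
      -- y * (h⁻¹ g) = (h⁻¹ g) * y
      have e1 : h * (g⁻¹ * x * g) = g * (g⁻¹ * x * g) * g⁻¹ * h := by
        rw [← hheq]; group
      calc g⁻¹ * x * g * (h⁻¹ * g) = h⁻¹ * (h * (g⁻¹ * x * g)) * h⁻¹ * g := by group
        _ = h⁻¹ * (g * (g⁻¹ * x * g) * g⁻¹ * h) * h⁻¹ * g := by rw [e1]
        _ = h⁻¹ * g * (g⁻¹ * x * g) := by group
    have : h⁻¹ * g ∈ H := hcent hc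
    have : h * (h⁻¹ * g) ∈ H := H.mul_mem hh this
    apply hg
    simpa using this
  · -- (2) → (1)
    intro h2 x hxI hxH
    have key : ∀ g : G, g * x * g⁻¹ ∈ H → g ∈ H := by
      intro g hg
      by_contra hgn
      refine h2 g hgn (g * x * g⁻¹) (hIc g x hxI) ⟨hg, ?_⟩
      rw [mem_map_conj_iff]
      have : g⁻¹ * (g * x * g⁻¹) * g = x := by group
      rw [this]; exact hxH
    refine ⟨fun g hg => ⟨g, key g hg, rfl⟩, ?_⟩
    intro c hc
    apply key
    rw [Subgroup.mem_centralizer_iff] at hc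
    have := hc x (Set.mem_singleton x)
    have e : c * x * c⁻¹ = x := by
      rw [← this]; group
    rw [e]; exact hxH
  · -- (2) → (3)
    intro h2 x hxI hxH
    refine ⟨(QuotientGroup.mk 1 : G ⧸ H), ?_, ?_⟩
    · show x • (QuotientGroup.mk 1 : G ⧸ H) = QuotientGroup.mk 1
      rw [smul_coset_eq_iff]
      simpa using hxH
    · intro c hc
      induction c using QuotientGroup.induction_on with
      | H g =>
        rw [smul_coset_eq_iff] at hc
        by_contra hne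
        have hgn : g ∉ H := by
          intro hg
          apply hne
          rw [QuotientGroup.eq]
          simpa using H.inv_mem hg
        exact h2 g hgn x hxI ⟨hxH, (mem_map_conj_iff H g x).mpr hc⟩
  · -- (3) → (2)
    intro h3 g hg x hxI ⟨hxH, hxg⟩
    obtain ⟨c, _, huniq⟩ := h3 x hxI hxH
    have e1 : (QuotientGroup.mk 1 : G ⧸ H) = c := by
      apply huniq
      show x • (QuotientGroup.mk 1 : G ⧸ H) = QuotientGroup.mk 1
      rw [smul_coset_eq_iff]
      simpa using hxH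
    have e2 : (QuotientGroup.mk g : G ⧸ H) = c := by
      apply huniq
      show x • (QuotientGroup.mk g : G ⧸ H) = QuotientGroup.mk g
      rw [smul_coset_eq_iff]
      exact (mem_map_conj_iff H g x).mp hxg
    have : (QuotientGroup.mk 1 : G ⧸ H) = QuotientGroup.mk g := e1.trans e2.symm
    rw [QuotientGroup.eq] at this
    apply hg
    simpa using this

end Cfsg.Agent.S5437
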