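import Mathlib
import Cfsg.Statements.S5438

set_option autoImplicit false
open Cfsg
open scoped Pointwise

namespace Cfsg.Agent.S5438

instance fact_prime_two : Fact (Nat.Prime 2) := ⟨Nat.prime_two⟩

/-- A 2-subgroup is conjugate into any given Sylow 2-subgroup. -/
theorem exists_conj_le_sylow {K : Type*} [Group K] [Finite K] (S : Sylow 2 K) (T : Subgroup K)
    (hT : IsPGroup 2 T) : ∃ a : K, ∀ t ∈ T, a * t * a⁻¹ ∈ S := by
  obtain ⟨Q, hQ⟩ := hT.exists_le_sylow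
  obtain ⟨a, ha⟩ := MulAction.exists_smul_eq K Q S
  refine ⟨a, fun t ht => ?_⟩
  have h1 : t ∈ (Q : Subgroup K) := hQ ht
  have h2 : MulAut.conj a • t ∈ MulAut.conj a • (Q : Subgroup K) :=
    Subgroup.smul_mem_pointwise_smul t (MulAut.conj a) Q h1
  have h3 : (↑(a • Q) : Subgroup K) = MulAut.conj a • (Q : Subgroup K) := Sylow.coe_subgroup_smul
  rw [← h3, ha] at h2
  have h4 : MulAut.conj a • t = a * t * a⁻¹ := by simp [MulAut.smul_def]
  rw [h4] at h2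
  exact h2

/-- A 2-element is conjugate into any given Sylow 2-subgroup. -/
theorem exists_conj_mem_sylow {K : Type*} [Group K] [Finite K] (S : Sylow 2 K) (x : K) (k : ℕ)
    (hx : orderOf x = 2 ^ k) : ∃ a : K, a * x * a⁻¹ ∈ S := by
  have hT : IsPGroup 2 (Subgroup.zpowers x) := by
    apply IsPGroup.of_card (n := k)
    rw [Nat.card_zpowers, hx]
  obtain ⟨a, ha⟩ := exists_conj_le_sylow S _ hT
  exact ⟨a, ha x (Subgroup.mem_zpowers x)⟩

theorem result {G : Type*} [Group G] [Finite G] (z : G) (hz : Cfsg.IsTwoCentralInvolution z) (H : Subgroup G) (hzH : z ∈ H) (hfix : ∀ g : G, g⁻¹ * z * g ∈ H → g ∈ H) : Odd H.index ∧ ∀ x ∈ H, (∃ k : ℕ, orderOf x = 2 ^ k) → ∀ g : G, g * x * g⁻¹ ∈ H → ∃ h ∈ H, h * x * h⁻¹ = g * x * g⁻¹ := by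
  obtain ⟨hz2, P, hzP, hcent⟩ := hz
  -- P ≤ H
  have hPH : (P : Subgroup G) ≤ H := by
    intro x hx
    apply hfix
    have : x⁻¹ * z * x = z := by
      have := hcent x hx
      calc x⁻¹ * z * x = x⁻¹ * (z * x) := by group
        _ = x⁻¹ * (x * z) := by rw [this]
        _ = z := by group
    rw [this]; exact hzH
  -- fixed-point property in the other form
  have hfix' : ∀ b : G, b * z * b⁻¹ ∈ H → b ∈ H := by
    intro b hb
    have : b⁻¹ ∈ H := hfix b⁻¹ (by simpa using hb)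
    simpa using H.inv_mem this
  refine ⟨?_, ?_⟩
  · have h1 : H.index ∣ (P : Subgroup G).index := Subgroup.index_dvd_of_le hPH
    have h2 : ¬ 2 ∣ (P : Subgroup G).index := P.not_dvd_index
    rw [← Nat.not_even_iff_odd, even_iff_two_dvd]
    exact fun h => h2 (h.trans h1)
  · rintro x hxH ⟨k, hk⟩ g hgx
    -- Sylow 2-subgroup of H
    let PH : Sylow 2 H := P.subtype hPH
    -- conjugate of z in H commuting with a given 2-element of H
    have step1 : ∀ y : G, y ∈ H → orderOf y = 2 ^ k → ∃ a ∈ H, Commute y (a⁻¹ * z * a) := by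
      intro y hyH hyk
      have hy' : orderOf (⟨y, hyH⟩ : H) = 2 ^ k := by
        rw [← hyk]; exact Subgroup.orderOf_mk y hyH
      obtain ⟨a, ha⟩ := exists_conj_mem_sylow PH ⟨y, hyH⟩ k hy'
      have ha' : (a : G) * y * (a : G)⁻¹ ∈ (P : Subgroup G) := by
        have : a * ⟨y, hyH⟩ * a⁻¹ ∈ (P : Subgroup G).subgroupOf H := ha
        rw [Subgroup.mem_subgroupOf] at this
        simpa using this
      refine ⟨a, a.2, ?_⟩
      have hc := hcent _ ha'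
      show y * ((a : G)⁻¹ * z * a) = (a : G)⁻¹ * z * a * y
      calc y * ((a : G)⁻¹ * z * a) = (a : G)⁻¹ * (a * y * (a : G)⁻¹ * z) * a := by group
        _ = (a : G)⁻¹ * (z * (a * y * (a : G)⁻¹)) * a := by rw [hc]
        _ = (a : G)⁻¹ * z * a * y := by group
    have hyk : orderOf (g * x * g⁻¹) = 2 ^ k := by
      rw [← hk]; exact (MulAut.conj g).orderOf_eq x
    obtain ⟨a₁, ha₁H, hc₁⟩ := step1 x hxH hk
    obtain ⟨a₂, ha₂H, hc₂⟩ := step1 (g * x * g⁻¹) hgx hyk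
    -- z₁ = a₁⁻¹ z a₁, z₂ = g⁻¹ a₂⁻¹ z a₂ g  both in C(x)
    set C := Subgroup.centralizer ({x} : Set G) with hC
    have hz₁C : a₁⁻¹ * z * a₁ ∈ C := by
      rw [hC, Subgroup.mem_centralizer_iff]
      intro y hy
      rw [Set.mem_singleton_iff] at hy; subst hy
      exact hc₁.eq
    have hz₂C : g⁻¹ * (a₂⁻¹ * z * a₂) * g ∈ C := by
      rw [hC, Subgroup.mem_centralizer_iff]
      intro y hy
      rw [Set.mem_singleton_iff] at hy; subst hy
      have := hc₂.eq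
      calc y * (g⁻¹ * (a₂⁻¹ * z * a₂) * g) = g⁻¹ * (g * y * g⁻¹ * (a₂⁻¹ * z * a₂)) * g := by group
        _ = g⁻¹ * ((a₂⁻¹ * z * a₂) * (g * y * g⁻¹)) * g := by rw [this]
        _ = g⁻¹ * (a₂⁻¹ * z * a₂) * g * y := by group
    have ho₁ : orderOf (⟨a₁⁻¹ * z * a₁, hz₁C⟩ : C) = 2 ^ 1 := by
      rw [Subgroup.orderOf_mk, pow_one, ← hz2]
      have := (MulAut.conj a₁⁻¹).orderOf_eq z
      simpa using this
    have ho₂ : orderOf (⟨g⁻¹ * (a₂⁻¹ * z * a₂) * g, hz₂C⟩ : C) = 2 ^ 1 := by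
      rw [Subgroup.orderOf_mk, pow_one, ← hz2]
      have h1 := (MulAut.conj g⁻¹).orderOf_eq (a₂⁻¹ * z * a₂)
      have h2 := (MulAut.conj a₂⁻¹).orderOf_eq z
      simp only [MulAut.conj_apply, inv_inv] at h1 h2
      rw [h1, h2]
    -- common Sylow 2-subgroup T of C
    have hT₂ : IsPGroup 2 (Subgroup.zpowers (⟨g⁻¹ * (a₂⁻¹ * z * a₂) * g, hz₂C⟩ : C)) := by
      apply IsPGroup.of_card (n := 1)
      rw [Nat.card_zpowers, ho₂]
    obtain ⟨T, hT⟩ := hT₂.exists_le_sylow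
    obtain ⟨c, hc⟩ := exists_conj_mem_sylow T ⟨a₁⁻¹ * z * a₁, hz₁C⟩ 1 ho₁
    have hz₂T : (⟨g⁻¹ * (a₂⁻¹ * z * a₂) * g, hz₂C⟩ : C) ∈ T := hT (Subgroup.mem_zpowers _)
    -- T as a 2-subgroup of G, conjugate into P
    have hTG : IsPGroup 2 ((T : Subgroup C).map C.subtype) := T.isPGroup'.map C.subtype
    obtain ⟨k', hk'⟩ := exists_conj_le_sylow P _ hTG
    have m₁ : k' * ((c : G) * (a₁⁻¹ * z * a₁) * (c : G)⁻¹) * k'⁻¹ ∈ H := by
      apply hPH
      apply hk'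
      refine ⟨c * ⟨a₁⁻¹ * z * a₁, hz₁C⟩ * c⁻¹, hc, ?_⟩
      simp
    have m₂ : k' * (g⁻¹ * (a₂⁻¹ * z * a₂) * g) * k'⁻¹ ∈ H := by
      apply hPH
      apply hk'
      exact ⟨⟨g⁻¹ * (a₂⁻¹ * z * a₂) * g, hz₂C⟩, hz₂T, rfl⟩
    have n₁ : k' * c * a₁⁻¹ ∈ H := by
      apply hfix'
      have : k' * c * a₁⁻¹ * z * (k' * c * a₁⁻¹)⁻¹ =
          k' * ((c : G) * (a₁⁻¹ * z * a₁) * (c : G)⁻¹) * k'⁻¹ := by group
      rw [this]; exact m₁
    have n₂ : k' * g⁻¹ * a₂⁻¹ ∈ H := by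
      apply hfix'
      have : k' * g⁻¹ * a₂⁻¹ * z * (k' * g⁻¹ * a₂⁻¹)⁻¹ =
          k' * (g⁻¹ * (a₂⁻¹ * z * a₂) * g) * k'⁻¹ := by group
      rw [this]; exact m₂
    have n₁' : k' * c ∈ H := by
      have := H.mul_mem n₁ ha₁H
      simpa [mul_assoc] using this
    have n₂' : k' * g⁻¹ ∈ H := by
      have := H.mul_mem n₂ ha₂H
      simpa [mul_assoc] using this
    have hgc : g * c ∈ H := by
      have := H.mul_mem (H.inv_mem n₂') n₁'
      have e : (k' * g⁻¹)⁻¹ * (k' * c) = g * c := by group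
      rwa [e] at this
    refine ⟨g * c, hgc, ?_⟩
    have hcx : (c : G) * x = x * c := by
      have h0 : (c : G) ∈ Subgroup.centralizer ({x} : Set G) := c.2
      rw [Subgroup.mem_centralizer_iff] at h0
      exact (h0 x (Set.mem_singleton x)).symm
    calc g * c * x * (g * c)⁻¹ = g * ((c : G) * x) * (c : G)⁻¹ * g⁻¹ := by group
      _ = g * (x * c) * (c : G)⁻¹ * g⁻¹ := by rw [hcx]
      _ = g * x * g⁻¹ := by group

end Cfsg.Agent.S5438
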