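import Mathlib
import Cfsg.Statements.S5439

set_option autoImplicit false
open Cfsg

namespace Cfsg.Agent.S5439

variable {G : Type*} [Group G]

theorem smul_coset_eq_iff (H : Subgroup G) (x g : G) :
    x • (QuotientGroup.mk g : G ⧸ H) = QuotientGroup.mk g ↔ g⁻¹ * x * g ∈ H := by
  rw [MulAction.Quotient.smul_mk, QuotientGroup.eq]
  constructor
  · intro h
    have h2 := H.inv_mem h
    have : ((x • g)⁻¹ * g)⁻¹ = g⁻¹ * x * g := by
      simp [smul_eq_mul, mul_assoc]
    rwa [this] at h2
  · intro h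
    have h2 := H.inv_mem h
    have : (g⁻¹ * x * g)⁻¹ = (x • g)⁻¹ * g := by
      have hx : x • g = x * g := rfl
      rw [hx]; group
    rwa [this] at h2

/-- Elements of odd order have a square root among their powers. -/
theorem exists_sqrt_of_odd {u : G} (h : Odd (orderOf u)) :
    ∃ k : ℕ, u ^ k * u ^ k = u := by
  obtain ⟨m, hm⟩ := h
  refine ⟨m + 1, ?_⟩
  rw [← pow_add]
  have : m + 1 + (m + 1) = orderOf u + 1 := by omega
  rw [this, pow_succ, pow_orderOf_eq_one, one_mul]

theorem sq_eq_one_of_orderOf_two {a : G} (h : orderOf a = 2) : a * a = 1 := by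
  rw [← pow_two, ← h, pow_orderOf_eq_one]

/-- In the group generated by two involutions, `a` inverts powers of `a * b`. -/
theorem inv_pow_rel {a b : G} (haa : a * a = 1) (hbb : b * b = 1) (k : ℕ) :
    a * (a * b) ^ k = ((a * b) ^ k)⁻¹ * a := by
  have hainv : a⁻¹ = a := inv_eq_of_mul_eq_one_left haa
  have hbinv : b⁻¹ = b := inv_eq_of_mul_eq_one_left hbb
  have h1 : a * (a * b) * a⁻¹ = (a * b)⁻¹ := by
    rw [hainv]
    calc a * (a * b) * a = (a * a) * b * a := by group
      _ = b * a := by rw [haa, one_mul]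
      _ = b⁻¹ * a⁻¹ := by rw [hainv, hbinv]
      _ = (a * b)⁻¹ := by group
  have h2 : a * (a * b) ^ k * a⁻¹ = ((a * b) ^ k)⁻¹ := by
    rw [← conj_pow, h1, inv_pow]
  calc a * (a * b) ^ k = (a * (a * b) ^ k * a⁻¹) * a := by group
    _ = ((a * b) ^ k)⁻¹ * a := by rw [h2]

theorem result {G : Type*} [Group G] [Finite G] (I J : Set G) (a₀ b₀ : G) (ha₀ : orderOf a₀ = 2) (hb₀ : orderOf b₀ = 2) (hI : I = {x | IsConj a₀ x}) (hJ : J = {x | IsConj b₀ x}) (hIJ : I ≠ J) (H : Subgroup G) (hfix : ∀ x ∈ I ∪ J, ∃! c : G ⧸ H, x • c = c) (hcent : ∀ a ∈ I, a ∈ H → ∀ b ∈ I ∪ J, b ∈ H → a ≠ b → a * b = b * a → Subgroup.centralizer ({a * b} : Set G) ≤ H) : H = ⊤ := by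
  -- basic facts
  have hIord : ∀ a ∈ I, orderOf a = 2 := by
    intro a ha
    rw [hI] at ha
    obtain ⟨c, hc⟩ := isConj_iff.mp ha
    rw [← hc, ← ha₀]
    exact (MulAut.conj c).orderOf_eq a₀
  have hJord : ∀ b ∈ J, orderOf b = 2 := by
    intro b hb
    rw [hJ] at hb
    obtain ⟨c, hc⟩ := isConj_iff.mp hb
    rw [← hc, ← hb₀]
    exact (MulAut.conj c).orderOf_eq b₀
  have hIconj : ∀ a ∈ I, ∀ g : G, g * a * g⁻¹ ∈ I := by
    intro a ha g
    rw [hI] at ha ⊢
    exact IsConj.trans ha (isConj_iff.mpr ⟨g, rfl⟩)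
  have hJconj : ∀ b ∈ J, ∀ g : G, g * b * g⁻¹ ∈ J := by
    intro b hb g
    rw [hJ] at hb ⊢
    exact IsConj.trans hb (isConj_iff.mpr ⟨g, rfl⟩)
  have hnotconj : ∀ a ∈ I, ∀ b ∈ J, ¬ IsConj a b := by
    intro a ha b hb hab
    apply hIJ
    rw [hI] at ha
    rw [hJ] at hb
    have h0 : IsConj a₀ b₀ := (ha.trans hab).trans hb.symm
    rw [hI, hJ]
    ext x
    exact ⟨fun hx => h0.symm.trans hx, fun hx => h0.trans hx⟩
  -- membership in H from fixing the base coset
  have hone : ∀ x : G, x • (QuotientGroup.mk 1 : G ⧸ H) = QuotientGroup.mk 1 ↔ x ∈ H := by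
    intro x
    rw [smul_coset_eq_iff]; simp
  -- Step 1: an element of I in H
  obtain ⟨a, haI, haH⟩ : ∃ a ∈ I, a ∈ H := by
    have ha₀I : a₀ ∈ I := by rw [hI]; exact IsConj.refl a₀
    obtain ⟨c, hc, -⟩ := hfix a₀ (Or.inl ha₀I)
    induction c using QuotientGroup.induction_on with
    | H g =>
      rw [smul_coset_eq_iff] at hc
      refine ⟨g⁻¹ * a₀ * g, ?_, hc⟩
      have := hIconj a₀ ha₀I g⁻¹
      simpa using this
  have haa : a * a = 1 := sq_eq_one_of_orderOf_two (hIord a haI)
  -- Step 2: J ⊆ H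
  have hJH : ∀ b ∈ J, b ∈ H := by
    intro b hbJ
    have hbb : b * b = 1 := sq_eq_one_of_orderOf_two (hJord b hbJ)
    have hainv : a⁻¹ = a := inv_eq_of_mul_eq_one_left haa
    have hbinv : b⁻¹ = b := inv_eq_of_mul_eq_one_left hbb
    set u := a * b with hu
    -- the order of u is even
    have heven : Even (orderOf u) := by
      by_contra hne
      rw [Nat.not_even_iff_odd] at hne
      obtain ⟨k, hk⟩ := exists_sqrt_of_odd hne
      apply hnotconj a haI b hbJ
      rw [isConj_iff]
      refine ⟨(u ^ k)⁻¹, ?_⟩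
      rw [inv_inv]
      calc (u ^ k)⁻¹ * a * u ^ k = (u ^ k)⁻¹ * (a * u ^ k) := by group
        _ = (u ^ k)⁻¹ * ((u ^ k)⁻¹ * a) := by rw [hu, inv_pow_rel haa hbb k]
        _ = (u ^ k * u ^ k)⁻¹ * a := by group
        _ = u⁻¹ * a := by rw [hk]
        _ = b⁻¹ * (a⁻¹ * a) := by rw [hu]; group
        _ = b := by rw [inv_mul_cancel, mul_one, hbinv]
    obtain ⟨m, hm⟩ := heven
    have hupos : 0 < orderOf u := orderOf_pos u
    have hmpos : 0 < m := by omega
    set t := u ^ m with ht
    have htt : t * t = 1 := by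
      rw [ht, ← pow_add, ← hm, pow_orderOf_eq_one]
    have ht1 : t ≠ 1 := by
      intro h
      have := orderOf_dvd_of_pow_eq_one h
      have := Nat.le_of_dvd hmpos this
      omega
    have htinv : t⁻¹ = t := inv_eq_of_mul_eq_one_left htt
    -- t commutes with a and b
    have hat : a * t = t * a := by
      rw [ht, hu, inv_pow_rel haa hbb m, ← hu, ← ht, htinv]
    have hbt : b * t = t * b := by
      -- b = a * u, so b t = a u t = a t u = t a u = t b
      have hb : b = a * u := by
        rw [hu]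
        calc b = (a * a) * b := by rw [haa, one_mul]
          _ = a * (a * b) := by group
      have hut : u * t = t * u := by
        rw [ht, ← pow_succ', ← pow_succ]
      calc b * t = a * u * t := by rw [← hb]
        _ = a * (u * t) := by group
        _ = a * (t * u) := by rw [hut]
        _ = (a * t) * u := by group
        _ = (t * a) * u := by rw [hat]
        _ = t * (a * u) := by group
        _ = t * b := by rw [← hb]
    -- t ∈ H
    have htH : t ∈ H := by
      obtain ⟨c, hc, hcu⟩ := hfix a (Or.inl haI)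
      have h1 : (QuotientGroup.mk 1 : G ⧸ H) = c := hcu _ ((hone a).mpr haH)
      have h2 : t • (QuotientGroup.mk 1 : G ⧸ H) = c := by
        apply hcu
        show a • t • (QuotientGroup.mk 1 : G ⧸ H) = t • (QuotientGroup.mk 1 : G ⧸ H)
        rw [← mul_smul, hat, mul_smul, (hone a).mpr haH]
      rw [← h1] at h2
      exact (hone t).mp h2
    -- a * t ∈ I ∪ J
    have hatIJ : a * t ∈ I ∪ J := by
      rcases Nat.even_or_odd' m with ⟨j, hj | hj⟩
      · -- m = 2j
        left
        have : a * t = (u ^ j)⁻¹ * a * ((u ^ j)⁻¹)⁻¹ := by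
          rw [inv_inv]
          calc a * t = (u ^ m)⁻¹ * a := by rw [ht, hu, inv_pow_rel haa hbb m]
            _ = (u ^ j * u ^ j)⁻¹ * a := by rw [← pow_add, hj, two_mul]
            _ = (u ^ j)⁻¹ * ((u ^ j)⁻¹ * a) := by group
            _ = (u ^ j)⁻¹ * (a * u ^ j) := by rw [hu, ← inv_pow_rel haa hbb j]
            _ = (u ^ j)⁻¹ * a * u ^ j := by group
        rw [this]
        exact hIconj a haI _
      · -- m = 2j+1
        right
        have hb : b = a * u := by
          rw [hu]
          calc b = (a * a) * b := by rw [haa, one_mul]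
            _ = a * (a * b) := by group
        have : a * t = (u ^ j)⁻¹ * b * ((u ^ j)⁻¹)⁻¹ := by
          rw [inv_inv]
          calc a * t = (u ^ m)⁻¹ * a := by rw [ht, hu, inv_pow_rel haa hbb m]
            _ = (u ^ j * u ^ (j + 1))⁻¹ * a := by
                rw [← pow_add, hj]; congr 3; omega
            _ = (u ^ j)⁻¹ * ((u ^ (j + 1))⁻¹ * a) := by group
            _ = (u ^ j)⁻¹ * (a * u ^ (j + 1)) := by rw [hu, ← inv_pow_rel haa hbb (j + 1)]
            _ = (u ^ j)⁻¹ * (a * u) * u ^ j := by rw [pow_succ']; group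
            _ = (u ^ j)⁻¹ * b * u ^ j := by rw [← hb]
        rw [this]
        exact hJconj b hbJ _
    have hatH : a * t ∈ H := H.mul_mem haH htH
    have hne : a ≠ a * t := by
      intro h
      apply ht1
      have : a * 1 = a * t := by rw [mul_one]; exact h
      exact (mul_left_cancel this).symm
    have hcomm : a * (a * t) = (a * t) * a := by
      calc a * (a * t) = a * (t * a) := by rw [hat]
        _ = (a * t) * a := by group
    have hC := hcent a haI haH (a * t) hatIJ hatH hne hcomm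
    have haat : a * (a * t) = t := by
      calc a * (a * t) = (a * a) * t := by group
        _ = t := by rw [haa, one_mul]
    rw [haat] at hC
    apply hC
    rw [Subgroup.mem_centralizer_iff]
    intro y hy
    rw [Set.mem_singleton_iff] at hy
    subst hy
    exact hbt.symm
  -- Step 3
  have hb₀J : b₀ ∈ J := by rw [hJ]; exact IsConj.refl b₀
  obtain ⟨c, hc, hcu⟩ := hfix b₀ (Or.inr hb₀J)
  have h1 : (QuotientGroup.mk 1 : G ⧸ H) = c := hcu _ ((hone b₀).mpr (hJH b₀ hb₀J))
  rw [eq_top_iff]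
  intro g _
  have h2 : (QuotientGroup.mk g : G ⧸ H) = c := by
    apply hcu
    show b₀ • (QuotientGroup.mk g : G ⧸ H) = QuotientGroup.mk g
    rw [smul_coset_eq_iff]
    apply hJH
    have := hJconj b₀ hb₀J g⁻¹
    simpa using this
  have h3 : (QuotientGroup.mk 1 : G ⧸ H) = QuotientGroup.mk g := h1.trans h2.symm
  rw [QuotientGroup.eq] at h3
  simpa using h3

end Cfsg.Agent.S5439
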