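import Mathlib
import Cfsg.Statements.S5459

set_option autoImplicit false
open Cfsg
open scoped commutatorElement

namespace Cfsg.Agent.S5459

variable {G : Type*} [Group G]

theorem comm_central_left {u h y : G} (h1 : Commute u h) (h2 : Commute u y) :
    (u * h) * y * (u * h)⁻¹ * y⁻¹ = h * y * h⁻¹ * y⁻¹ := by
  have h3 : Commute u (h * y * h⁻¹) := (h1.mul_right h2).mul_right h1.inv_right
  calc (u * h) * y * (u * h)⁻¹ * y⁻¹ = (u * (h * y * h⁻¹)) * u⁻¹ * y⁻¹ := by group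
    _ = ((h * y * h⁻¹) * u) * u⁻¹ * y⁻¹ := by rw [h3.eq]
    _ = h * y * h⁻¹ * y⁻¹ := by group

theorem comm_central_right {u h y : G} (h1 : Commute u h) (h2 : Commute u y) :
    h * (u * y) * h⁻¹ * (u * y)⁻¹ = h * y * h⁻¹ * y⁻¹ := by
  have h3 : Commute u (h * y * h⁻¹ * y⁻¹) :=
    ((h1.mul_right h2).mul_right h1.inv_right).mul_right h2.inv_right
  calc h * (u * y) * h⁻¹ * (u * y)⁻¹ = (h * u * h⁻¹) * (h * y * h⁻¹ * y⁻¹) * u⁻¹ := by group
    _ = (u * h * h⁻¹) * (h * y * h⁻¹ * y⁻¹) * u⁻¹ := by rw [h1.eq]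
    _ = (u * (h * y * h⁻¹ * y⁻¹)) * u⁻¹ := by group
    _ = ((h * y * h⁻¹ * y⁻¹) * u) * u⁻¹ := by rw [h3.eq]
    _ = h * y * h⁻¹ * y⁻¹ := by group

/-- Conjugation as a graph homomorphism of the commuting graph on a conjugacy class. -/
def conjHom (d g : G) : commutingGraph (conjugatesOf d) →g commutingGraph (conjugatesOf d) where
  toFun v := ⟨g * v.1 * g⁻¹, IsConj.trans v.2 (isConj_iff.mpr ⟨g, rfl⟩)⟩
  map_rel' := by
    intro v w hvw
    rw [commutingGraph, SimpleGraph.fromRel_adj] at hvw ⊢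
    obtain ⟨hne, hc⟩ := hvw
    refine ⟨?_, ?_⟩
    · intro h
      apply hne
      have := congrArg Subtype.val h
      simp only at this
      apply Subtype.ext
      have e : v.1 = g⁻¹ * (g * v.1 * g⁻¹) * g := by group
      rw [e, this]; group
    · have key : ∀ a b : G, Commute a b → Commute (g * a * g⁻¹) (g * b * g⁻¹) := by
        intro a b hab
        show g * a * g⁻¹ * (g * b * g⁻¹) = g * b * g⁻¹ * (g * a * g⁻¹)
        calc g * a * g⁻¹ * (g * b * g⁻¹) = g * (a * b) * g⁻¹ := by group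
          _ = g * (b * a) * g⁻¹ := by rw [hab.eq]
          _ = g * b * g⁻¹ * (g * a * g⁻¹) := by group
      rcases hc with hc | hc
      · exact Or.inl (key _ _ hc)
      · exact Or.inr (key _ _ hc)

theorem result {G : Type*} [Group G] [Finite G] (L : Subgroup G) [L.Normal] (hL : Cfsg.IsQuasisimple ↥L) (d : G) (hd : orderOf d = 2) (hgen : L ⊔ Subgroup.zpowers d = ⊤) (hodd : Odd (Nat.card ↥(Subgroup.center ↥L))) (hinv : ∀ c ∈ (Subgroup.center ↥L).map L.subtype, d * c * d⁻¹ = c⁻¹) [hn : ((Subgroup.center ↥L).map L.subtype).Normal] (hconn : (Cfsg.commutingGraph (conjugatesOf (QuotientGroup.mk d : G ⧸ (Subgroup.center ↥L).map L.subtype))).Connected) : (Cfsg.commutingGraph (conjugatesOf d)).Connected := by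
  set Z : Subgroup G := (Subgroup.center L).map L.subtype with hZ
  have hZL : Z ≤ L := Subgroup.map_subtype_le _
  -- (F5) elements of Z commute with elements of L
  have F5 : ∀ x ∈ Z, ∀ y ∈ L, Commute x y := by
    rintro x ⟨x', hx', rfl⟩ y hy
    have := Subgroup.mem_center_iff.mp hx' ⟨y, hy⟩
    exact (congrArg Subtype.val this).symm
  -- (F2),(F3) square roots in Z
  have hZodd : Odd (Nat.card Z) := by
    rw [hZ, Subgroup.card_map_of_injective L.subtype_injective]; exact hodd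
  have F3 : ∀ c ∈ Z, ∃ w ∈ Z, w * w = c := by
    intro c hc
    obtain ⟨m, hm⟩ := hZodd
    have hpow : c ^ (2 * m + 1) = 1 := by
      have := pow_card_eq_one' (G := Z) (x := ⟨c, hc⟩)
      rw [hm] at this
      have := congrArg Subtype.val this
      simpa using this
    refine ⟨c ^ (m + 1), Z.pow_mem hc _, ?_⟩
    rw [← pow_add]
    have : m + 1 + (m + 1) = (2 * m + 1) + 1 := by ring
    rw [this, pow_succ, hpow, one_mul]
  -- (F1) conjugates of d invert Z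
  have F1 : ∀ a ∈ conjugatesOf d, ∀ c ∈ Z, a * c * a⁻¹ = c⁻¹ := by
    intro a ha c hc
    obtain ⟨g, rfl⟩ := isConj_iff.mp ha
    have hc' : g⁻¹ * c * g ∈ Z := by
      have := hn.conj_mem c hc g⁻¹
      simpa using this
    have := hinv _ hc'
    calc g * d * g⁻¹ * c * (g * d * g⁻¹)⁻¹ = g * (d * (g⁻¹ * c * g) * d⁻¹) * g⁻¹ := by group
      _ = g * (g⁻¹ * c * g)⁻¹ * g⁻¹ := by rw [this]
      _ = c⁻¹ := by group
  -- quotient map facts
  have hmk1 : ∀ x : G, (QuotientGroup.mk x : G ⧸ Z) = 1 ↔ x ∈ Z := fun x => QuotientGroup.eq_one_iff x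
  -- Step 1: edge lifting
  have step1 : ∀ a ∈ conjugatesOf d, ∀ b₀ ∈ conjugatesOf d,
      Commute (QuotientGroup.mk a : G ⧸ Z) (QuotientGroup.mk b₀) →
      ∃ b ∈ conjugatesOf d, (QuotientGroup.mk b : G ⧸ Z) = QuotientGroup.mk b₀ ∧ Commute a b := by
    intro a ha b₀ hb₀ hcomm
    have hcZ : a * b₀ * a⁻¹ * b₀⁻¹ ∈ Z := by
      rw [← hmk1]
      simp only [QuotientGroup.mk_mul, QuotientGroup.mk_inv]
      rw [hcomm.eq]; group
    obtain ⟨w₁, hw₁Z, hw₁⟩ := F3 _ hcZ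
    obtain ⟨w, hwZ, hw⟩ := F3 _ hw₁Z
    refine ⟨w * b₀ * w⁻¹, IsConj.trans hb₀ (isConj_iff.mpr ⟨w, rfl⟩), ?_, ?_⟩
    · simp only [QuotientGroup.mk_mul, QuotientGroup.mk_inv]
      rw [(hmk1 w).mpr hwZ]; group
    · -- a (w b₀ w⁻¹) a⁻¹ = w b₀ w⁻¹
      have haw : a * w * a⁻¹ = w⁻¹ := F1 a ha w hwZ
      have hbw : b₀ * w * b₀⁻¹ = w⁻¹ := F1 b₀ hb₀ w hwZ
      have hwc : Commute w (a * b₀ * a⁻¹ * b₀⁻¹) := F5 w hwZ _ (hZL hcZ)
      have hc4 : a * b₀ * a⁻¹ * b₀⁻¹ = w * w * (w * w) := by rw [hw, hw₁]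
      have e : a * (w * b₀ * w⁻¹) * a⁻¹ = w * b₀ * w⁻¹ := by
        calc a * (w * b₀ * w⁻¹) * a⁻¹
            = (a * w * a⁻¹) * (a * b₀ * a⁻¹ * b₀⁻¹) * b₀ * (a * w * a⁻¹)⁻¹ := by group
          _ = w⁻¹ * (w * w * (w * w)) * b₀ * (w⁻¹)⁻¹ := by rw [haw, hc4]
          _ = w * w * (w * b₀ * w * b₀⁻¹) * b₀ := by group
          _ = w * w * (w * (b₀ * w * b₀⁻¹)) * b₀ := by group
          _ = w * w * (w * w⁻¹) * b₀ := by rw [hbw]
          _ = w * (w * b₀) := by group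
          _ = w * ((b₀ * w * b₀⁻¹)⁻¹ * b₀) := by rw [hbw, inv_inv]
          _ = w * b₀ * w⁻¹ := by group
      show a * (w * b₀ * w⁻¹) = w * b₀ * w⁻¹ * a
      calc a * (w * b₀ * w⁻¹) = (a * (w * b₀ * w⁻¹) * a⁻¹) * a := by group
        _ = w * b₀ * w⁻¹ * a := by rw [e]
  -- the graphs
  set Γ := commutingGraph (conjugatesOf d) with hΓ
  set Γ' := commutingGraph (conjugatesOf (QuotientGroup.mk d : G ⧸ Z)) with hΓ'
  have hmem' : ∀ a ∈ conjugatesOf d, (QuotientGroup.mk a : G ⧸ Z) ∈ conjugatesOf (QuotientGroup.mk d : G ⧸ Z) := by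
    intro a ha
    obtain ⟨g, rfl⟩ := isConj_iff.mp ha
    exact isConj_iff.mpr ⟨QuotientGroup.mk g, by simp⟩
  -- Step 2: path lifting
  have step2 : ∀ (v : conjugatesOf d) (u' : conjugatesOf (QuotientGroup.mk d : G ⧸ Z)),
      Γ'.Reachable ⟨QuotientGroup.mk v.1, hmem' v.1 v.2⟩ u' →
      ∃ u : conjugatesOf d, (QuotientGroup.mk u.1 : G ⧸ Z) = u'.1 ∧ Γ.Reachable v u := by
    intro v u' hr
    rw [SimpleGraph.reachable_iff_reflTransGen] at hr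
    induction hr with
    | refl => exact ⟨v, rfl, SimpleGraph.Reachable.refl _⟩
    | @tail b' c' _ hadj ih =>
      obtain ⟨u, hu, hvu⟩ := ih
      -- c' is the image of some element of the class
      obtain ⟨g', hg'⟩ := isConj_iff.mp c'.2
      obtain ⟨g, rfl⟩ := QuotientGroup.mk_surjective g'
      have hc₀ : g * d * g⁻¹ ∈ conjugatesOf d := isConj_iff.mpr ⟨g, rfl⟩
      have hc₀' : (QuotientGroup.mk (g * d * g⁻¹) : G ⧸ Z) = c'.1 := by
        rw [← hg']; simp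
      rw [hΓ', commutingGraph, SimpleGraph.fromRel_adj] at hadj
      obtain ⟨hne, hc⟩ := hadj
      have hcomm : Commute (QuotientGroup.mk u.1 : G ⧸ Z) (QuotientGroup.mk (g * d * g⁻¹)) := by
        rw [hu, hc₀']
        rcases hc with hc | hc
        · exact hc
        · exact hc.symm
      obtain ⟨b, hbD, hbmk, hub⟩ := step1 u.1 u.2 _ hc₀ hcomm
      refine ⟨⟨b, hbD⟩, by rw [hbmk, hc₀'], ?_⟩
      by_cases hub' : u = ⟨b, hbD⟩
      · rw [← hub']; exact hvu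
      · refine hvu.trans (SimpleGraph.Adj.reachable ?_)
        rw [hΓ, commutingGraph, SimpleGraph.fromRel_adj]
        exact ⟨hub', Or.inl hub⟩
  -- the base vertex
  have hdD : d ∈ conjugatesOf d := mem_conjugatesOf_self
  -- Step 3: the subgroup H
  let H : Subgroup G :=
    { carrier := {g | Γ.Reachable ⟨d, hdD⟩ ⟨g * d * g⁻¹, isConj_iff.mpr ⟨g, rfl⟩⟩}
      one_mem' := by
        show Γ.Reachable _ _
        have : (⟨1 * d * 1⁻¹, isConj_iff.mpr ⟨1, rfl⟩⟩ : conjugatesOf d) = ⟨d, hdD⟩ := by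
          apply Subtype.ext; simp
        rw [this]
      mul_mem' := by
        intro g h hg hh
        show Γ.Reachable _ _
        have h1 := hh.map (conjHom d g)
        have e1 : conjHom d g ⟨d, hdD⟩ = ⟨g * d * g⁻¹, isConj_iff.mpr ⟨g, rfl⟩⟩ := rfl
        have e2 : conjHom d g ⟨h * d * h⁻¹, isConj_iff.mpr ⟨h, rfl⟩⟩ =
            ⟨g * h * d * (g * h)⁻¹, isConj_iff.mpr ⟨g * h, rfl⟩⟩ := by
          apply Subtype.ext
          show g * (h * d * h⁻¹) * g⁻¹ = g * h * d * (g * h)⁻¹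
          group
        rw [e1, e2] at h1
        exact SimpleGraph.Reachable.trans hg h1
      inv_mem' := by
        intro g hg
        show Γ.Reachable _ _
        have h1 := hg.map (conjHom d g⁻¹)
        have e1 : conjHom d g⁻¹ ⟨d, hdD⟩ = ⟨g⁻¹ * d * g⁻¹⁻¹, isConj_iff.mpr ⟨g⁻¹, rfl⟩⟩ := rfl
        have e2 : conjHom d g⁻¹ ⟨g * d * g⁻¹, isConj_iff.mpr ⟨g, rfl⟩⟩ = ⟨d, hdD⟩ := by
          apply Subtype.ext
          show g⁻¹ * (g * d * g⁻¹) * g⁻¹⁻¹ = d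
          group
        rw [e1, e2] at h1
        exact h1.symm }
  have hHmem : ∀ g : G, g ∈ H ↔ Γ.Reachable ⟨d, hdD⟩ ⟨g * d * g⁻¹, isConj_iff.mpr ⟨g, rfl⟩⟩ :=
    fun g => Iff.rfl
  -- (i) G = Z H
  have hZH : ∀ g : G, ∃ u ∈ Z, u⁻¹ * g ∈ H := by
    intro g
    have hxD : g * d * g⁻¹ ∈ conjugatesOf d := isConj_iff.mpr ⟨g, rfl⟩
    have hr : Γ'.Reachable ⟨QuotientGroup.mk d, hmem' d hdD⟩
        ⟨QuotientGroup.mk (g * d * g⁻¹), hmem' _ hxD⟩ := hconn.preconnected _ _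
    obtain ⟨e, hemk, hre⟩ := step2 ⟨d, hdD⟩ _ hr
    -- c = e⁻¹ x ∈ Z
    have hcZ : e.1⁻¹ * (g * d * g⁻¹) ∈ Z := by
      rw [← hmk1]
      simp only [QuotientGroup.mk_mul, QuotientGroup.mk_inv] at hemk ⊢
      rw [hemk]; group
    obtain ⟨u, huZ, huu⟩ := F3 _ (Z.inv_mem hcZ)
    refine ⟨u, huZ, ?_⟩
    rw [hHmem]
    have heu : e.1 * u * e.1⁻¹ = u⁻¹ := F1 e.1 e.2 u huZ
    have : (⟨u⁻¹ * g * d * (u⁻¹ * g)⁻¹, isConj_iff.mpr ⟨u⁻¹ * g, rfl⟩⟩ : conjugatesOf d) = e := by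
      apply Subtype.ext
      show u⁻¹ * g * d * (u⁻¹ * g)⁻¹ = e.1
      have hx : g * d * g⁻¹ = e.1 * (u * u)⁻¹ := by
        rw [huu, inv_inv]; group
      calc u⁻¹ * g * d * (u⁻¹ * g)⁻¹ = u⁻¹ * (g * d * g⁻¹) * u := by group
        _ = u⁻¹ * (e.1 * (u * u)⁻¹) * u := by rw [hx]
        _ = u⁻¹ * (e.1 * u * e.1⁻¹)⁻¹ * e.1 := by group
        _ = u⁻¹ * (u⁻¹)⁻¹ * e.1 := by rw [heu]
        _ = e.1 := by group
    rw [this]; exact hre
  -- (ii) L ≤ H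
  have hLH : L ≤ H := by
    have hperf : ⁅L, L⁆ = L := (Subgroup.isPerfect_iff).mp hL.1
    rw [← hperf, Subgroup.commutator_le]
    intro x hx y hy
    obtain ⟨u₁, hu₁Z, hu₁⟩ := hZH x
    obtain ⟨u₂, hu₂Z, hu₂⟩ := hZH y
    have hh₁L : u₁⁻¹ * x ∈ L := L.mul_mem (L.inv_mem (hZL hu₁Z)) hx
    have hh₂L : u₂⁻¹ * y ∈ L := L.mul_mem (L.inv_mem (hZL hu₂Z)) hy
    have e1 : x = u₁ * (u₁⁻¹ * x) := by group
    have e2 : y = u₂ * (u₂⁻¹ * y) := by group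
    have : ⁅x, y⁆ = (u₁⁻¹ * x) * (u₂⁻¹ * y) * (u₁⁻¹ * x)⁻¹ * (u₂⁻¹ * y)⁻¹ := by
      rw [commutatorElement_def]
      nth_rewrite 1 [e1]
      nth_rewrite 2 [e1]
      rw [comm_central_left (F5 u₁ hu₁Z _ hh₁L) (F5 u₁ hu₁Z _ hy)]
      nth_rewrite 1 [e2]
      nth_rewrite 2 [e2]
      rw [comm_central_right (F5 u₂ hu₂Z _ hh₁L) (F5 u₂ hu₂Z _ hh₂L)]
    rw [this]
    exact H.mul_mem (H.mul_mem (H.mul_mem hu₁ hu₂) (H.inv_mem hu₁)) (H.inv_mem hu₂)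
  -- (iii) H = ⊤
  have hHtop : ∀ g : G, g ∈ H := by
    intro g
    obtain ⟨u, huZ, hu⟩ := hZH g
    have : g = u * (u⁻¹ * g) := by group
    rw [this]
    exact H.mul_mem (hLH (hZL huZ)) hu
  -- conclusion
  have hne : Nonempty (conjugatesOf d) := ⟨⟨d, hdD⟩⟩
  refine ⟨?_⟩
  intro v w
  obtain ⟨g₁, hg₁⟩ := isConj_iff.mp v.2
  obtain ⟨g₂, hg₂⟩ := isConj_iff.mp w.2
  have h1 := (hHmem g₁).mp (hHtop g₁)
  have h2 := (hHmem g₂).mp (hHtop g₂)
  have ev : (⟨g₁ * d * g₁⁻¹, isConj_iff.mpr ⟨g₁, rfl⟩⟩ : conjugatesOf d) = v := Subtype.ext hg₁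
  have ew : (⟨g₂ * d * g₂⁻¹, isConj_iff.mpr ⟨g₂, rfl⟩⟩ : conjugatesOf d) = w := Subtype.ext hg₂
  rw [ev] at h1
  rw [ew] at h2
  exact h1.symm.trans h2

end Cfsg.Agent.S5459
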