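import Mathlib
import Cfsg.Statements.S5521
import Cfsg.Agent.Lib.Helper27.GolayRigid
import Cfsg.Agent.S0364

set_option autoImplicit false
open Cfsg

namespace Cfsg.Agent.S5521

open Cfsg.Agent.Helper27

theorem descFactorial_le : ∀ k ≤ 6, Nat.descFactorial 24 k ≤ 96909120 := by decide

/-- The Mathieu group M₂₄ in its natural action on the 24 coordinate positions of the binary Golay code has minimal base size exactly 7: every set of at most 6 positions is fixed pointwise by some non-identity element of M₂₄, while some set of 7 positions is fixed pointwise only by the identity. -/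
theorem result :
    (∀ B : Finset Cfsg.GolayPt, B.card ≤ 6 → ∃ g ∈ Cfsg.M24, g ≠ 1 ∧ ∀ b ∈ B, g b = b) ∧
    (∃ B : Finset Cfsg.GolayPt, B.card = 7 ∧ ∀ g ∈ Cfsg.M24, (∀ b ∈ B, g b = b) → g = 1) := by
  constructor
  · intro B hB
    by_contra hcon
    push Not at hcon
    -- the restriction map to B is injective
    let F : ↥M24 → (↥B ↪ GolayPt) := fun g =>
      ⟨fun b => (g : Equiv.Perm GolayPt) b.1, fun b c h => Subtype.ext ((g : Equiv.Perm GolayPt).injective h)⟩
    have hF : Function.Injective F := by
      intro g h hgh
      have hfix : ∀ b ∈ B, ((h : Equiv.Perm GolayPt)⁻¹ * (g : Equiv.Perm GolayPt)) b = b := by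
        intro b hb
        have := congrArg (fun e : ↥B ↪ GolayPt => e ⟨b, hb⟩) hgh
        have h2 : (g : Equiv.Perm GolayPt) b = (h : Equiv.Perm GolayPt) b := this
        rw [Equiv.Perm.mul_apply, h2]; simp
      have hmem : (h : Equiv.Perm GolayPt)⁻¹ * (g : Equiv.Perm GolayPt) ∈ M24 :=
        M24.mul_mem (M24.inv_mem h.2) g.2
      have h1 : (h : Equiv.Perm GolayPt)⁻¹ * (g : Equiv.Perm GolayPt) = 1 := by
        by_contra hne
        exact hne (by
          by_contra hne'
          obtain ⟨b, hb, hbne⟩ := hcon _ hmem hne'
          exact hbne (hfix b hb))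
      apply Subtype.ext
      have := inv_mul_eq_one.mp h1
      exact this.symm
    have hcard := Nat.card_le_card_of_injective F hF
    rw [Cfsg.Agent.S0364.result, Nat.card_eq_fintype_card, Fintype.card_embedding_eq] at hcard
    have h24 : Fintype.card GolayPt = 24 := by decide
    rw [h24, Fintype.card_coe] at hcard
    have := descFactorial_le B.card hB
    omega
  · refine ⟨maskSet base7, card_maskSet_base7, ?_⟩
    intro g hg hfix
    exact eq_one_of_fix_base7 hg hfix

end Cfsg.Agent.S5521
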