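import Mathlib
import Cfsg.Statements.S5529
import Cfsg.Agent.Lib.Helper29.ReeM23
import Cfsg.Agent.Lib.Helper29.GenM23Data

set_option autoImplicit false
open Cfsg

namespace Cfsg.Agent.S5529

theorem prime_cases (p : ℕ) (hp : p.Prime) (h : p ∣ 10200960) :
    p = 2 ∨ p = 3 ∨ p = 5 ∨ p = 7 ∨ p = 11 ∨ p = 23 := by
  have h1 : p ∣ 2 ^ 7 * 3 ^ 2 * 5 * 7 * 11 * 23 := h
  have hq : ∀ q : ℕ, q.Prime → p ∣ q → p = q := fun q hq hpq =>
    (Nat.prime_dvd_prime_iff_eq hp hq).1 hpq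
  rcases (Nat.Prime.dvd_mul hp).1 h1 with h | h
  · rcases (Nat.Prime.dvd_mul hp).1 h with h | h
    · rcases (Nat.Prime.dvd_mul hp).1 h with h | h
      · rcases (Nat.Prime.dvd_mul hp).1 h with h | h
        · rcases (Nat.Prime.dvd_mul hp).1 h with h | h
          · exact Or.inl (hq 2 Nat.prime_two (hp.dvd_of_dvd_pow h))
          · exact Or.inr (Or.inl (hq 3 Nat.prime_three (hp.dvd_of_dvd_pow h)))
        · exact Or.inr (Or.inr (Or.inl (hq 5 (by norm_num) h)))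
      · exact Or.inr (Or.inr (Or.inr (Or.inl (hq 7 (by norm_num) h))))
    · exact Or.inr (Or.inr (Or.inr (Or.inr (Or.inl (hq 11 (by norm_num) h)))))
  · exact Or.inr (Or.inr (Or.inr (Or.inr (Or.inr (hq 23 (by norm_num) h)))))

/-- Generation of the Mathieu group M₂₃ (the stabiliser of a point in the Mathieu group M₂₄ acting on 24 points) by triples of prime orders. Let p ≤ q ≤ r be primes dividing |M₂₃| = 10200960 = 2⁷·3²·5·7·11·23, not both p and q equal to 2. Then M₂₃ contains elements x, y, z of orders p, q, r with xyz = 1 and ⟨x, y⟩ = M₂₃ if and only if (p, q, r) is none of: (2, 3, r) for any r, (2, 5, 5), (2, 5, 7), (3, 3, 3), (3, 3, 5), (3, 3, 7). -/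
theorem result (p q r : ℕ) (hp : p.Prime) (hq : q.Prime)
    (hr : r.Prime) (hpq : p ≤ q) (hqr : q ≤ r) (hp2 : ¬ (p = 2 ∧ q = 2))
    (hdvd : p ∣ 10200960 ∧ q ∣ 10200960 ∧ r ∣ 10200960) :
    (∃ x y z : Cfsg.Spor.M23, orderOf x = p ∧ orderOf y = q ∧ orderOf z = r ∧ x * y * z = 1 ∧
        Subgroup.closure {x, y} = ⊤) ↔
      ¬ ((p = 2 ∧ q = 3) ∨ (p = 2 ∧ q = 5 ∧ r = 5) ∨ (p = 2 ∧ q = 5 ∧ r = 7) ∨ (p = 3 ∧ q = 3 ∧ r ≤ 7)) := by
  constructor
  · rintro ⟨x, y, z, hx, hy, hz, hxyz, hgen⟩ hcase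
    have hxy : x * y = z⁻¹ := eq_inv_of_mul_eq_one_left hxyz
    have hxyo : orderOf (x * y) = r := by rw [hxy, orderOf_inv, hz]
    exact Cfsg.Agent.Helper29.ReeM23.neg_main x y p q r hr hqr hx hy hxyo hgen hcase
  · intro hneg
    have key : (p, q, r) ∈ Cfsg.Agent.Helper29.GenM23.posList := by
      rcases prime_cases p hp hdvd.1 with rfl | rfl | rfl | rfl | rfl | rfl <;>
      rcases prime_cases q hq hdvd.2.1 with rfl | rfl | rfl | rfl | rfl | rfl <;>
      rcases prime_cases r hr hdvd.2.2 with rfl | rfl | rfl | rfl | rfl | rfl <;>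
      first
        | (exfalso; omega)
        | (exfalso; exact hp2 ⟨rfl, rfl⟩)
        | (exfalso; exact hneg (by decide))
        | decide
    exact Cfsg.Agent.Helper29.GenM23.pos_all (p, q, r) key

end Cfsg.Agent.S5529
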