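import Mathlib
import Cfsg.Statements.S5541

set_option autoImplicit false
open Cfsg

namespace Cfsg.Agent.S5541

theorem rho_cancel {H : Type*} [Group H] {U : Type*} [AddCommGroup U] [Module ℝ U]
    (ρ : Representation ℝ H U) (g : H) (w : U) : ρ g (ρ g⁻¹ w) = w := by
  have : (ρ g * ρ g⁻¹) w = w := by
    rw [← map_mul, mul_inv_cancel, map_one]; rfl
  exact this

theorem B_move {H : Type*} [Group H] {U : Type*} [AddCommGroup U] [Module ℝ U]
    (ρ : Representation ℝ H U) (B : LinearMap.BilinForm ℝ U)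
    (hBi : ∀ (g : H) (u v : U), B (ρ g u) (ρ g v) = B u v) (g : H) (x w : U) :
    B (ρ g x) w = B x (ρ g⁻¹ w) := by
  conv_lhs => rw [← rho_cancel ρ g w]
  exact hBi g x _

theorem sep {H : Type*} [Group H] {U : Type*} [AddCommGroup U] [Module ℝ U]
    (ρ : Representation ℝ H U)
    (hirr : ∀ W : Submodule ℝ U, (∀ g : H, W.map (ρ g) ≤ W) → W = ⊥ ∨ W = ⊤)
    (B : LinearMap.BilinForm ℝ U) (hB0 : B ≠ 0)
    (hBi : ∀ (g : H) (u v : U), B (ρ g u) (ρ g v) = B u v) :
    Function.Injective B := by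
  have hK : ∀ g : H, (LinearMap.ker B).map (ρ g) ≤ LinearMap.ker B := by
    intro g y hy
    obtain ⟨x, hx, rfl⟩ := hy
    rw [LinearMap.mem_ker]
    ext w
    rw [B_move ρ B hBi]
    have hx' : B x = 0 := hx
    rw [hx']
    rfl
  rcases hirr _ hK with h | h
  · exact LinearMap.ker_eq_bot.mp h
  · exfalso
    apply hB0
    ext x w
    have : x ∈ LinearMap.ker B := by rw [h]; trivial
    have hx : B x = 0 := this
    rw [hx]
    rfl

/-- Let ρ be a representation of a group H on a finite-dimensional real vector space U whose only ρ-invariant subspaces are the zero subspace and U, and suppose U carries a non-zero ρ-invariant symmetric bilinear form. Then the following are equivalent: (1) there is a non-zero ρ-equivariant commutative bilinear product on U of which every ρ-equivariant bilinear product is a scalar multiple; (2) there is a non-zero ρ-invariant trilinear form on U that is symmetric under all permutations of its arguments and of which every ρ-invariant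 trilinear form is a scalar multiple. -/
theorem result {H : Type*} [Group H] {U : Type*} [AddCommGroup U] [Module ℝ U] [FiniteDimensional ℝ U] (ρ : Representation ℝ H U) (hirr : ∀ W : Submodule ℝ U, (∀ g : H, W.map (ρ g) ≤ W) → W = ⊥ ∨ W = ⊤) (B : LinearMap.BilinForm ℝ U) (hB0 : B ≠ 0) (hBs : ∀ u v, B u v = B v u) (hBi : ∀ (g : H) (u v : U), B (ρ g u) (ρ g v) = B u v) : (∃ m : U →ₗ[ℝ] U →ₗ[ℝ] U, m ≠ 0 ∧ (∀ u v, m u v = m v u) ∧ (∀ (g : H) (u v : U), m (ρ g u) (ρ g v) = ρ g (m u v)) ∧ ∀ m' : U →ₗ[ℝ] U →ₗ[ℝ] U, (∀ (g : H) (u v : U), m' (ρ g u) (ρ g v) = ρ g (m' u v)) → ∃ c : ℝ, m' = c • m) ↔ (∃ t : U →ₗ[ℝ] U →ₗ[ℝ] U →ₗ[ℝ] ℝ, t ≠ 0 ∧ (∀ u v w, t u v w = t v u w ∧ t u v w = t u w v) ∧ (∀ (g : H) (u v w : U), t (ρ g u) (ρ g v) (ρ g w) = t u v w) ∧ ∀ t' : U →ₗ[ℝ] U →ₗ[ℝ] U →ₗ[ℝ] ℝ, (∀ (g : H) (u v w : U), t' (ρ g u) (ρ g v) (ρ g w) = t' u v w) → ∃ c : ℝ, t' = c • t) := by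
  have hinj : Function.Injective B := sep ρ hirr B hB0 hBi
  have hnd : ∀ x y : U, (∀ w, B x w = B y w) → x = y := by
    intro x y h
    apply hinj
    ext w
    exact h w
  let φ : U ≃ₗ[ℝ] Module.Dual ℝ U :=
    LinearMap.linearEquivOfInjective B hinj (Subspace.dual_finrank_eq).symm
  have hφ : ∀ (f : Module.Dual ℝ U) (w : U), B (φ.symm f) w = f w := by
    intro f w
    have : φ (φ.symm f) = f := φ.apply_symm_apply f
    have h2 : B (φ.symm f) = f := this
    rw [h2]
  -- the two correspondences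
  have key1 : ∀ m : U →ₗ[ℝ] U →ₗ[ℝ] U, ∀ u v w, (m.compr₂ B) u v w = B (m u v) w := by
    intro m u v w; rfl
  have key2 : ∀ t : U →ₗ[ℝ] U →ₗ[ℝ] U →ₗ[ℝ] ℝ, ∀ u v w,
      B ((t.compr₂ φ.symm.toLinearMap) u v) w = t u v w := by
    intro t u v w
    exact hφ (t u v) w
  -- invariance transfer
  have inv1 : ∀ m : U →ₗ[ℝ] U →ₗ[ℝ] U,
      (∀ (g : H) (u v : U), m (ρ g u) (ρ g v) = ρ g (m u v)) →
      ∀ (g : H) (u v w : U), (m.compr₂ B) (ρ g u) (ρ g v) (ρ g w) = (m.compr₂ B) u v w := by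
    intro m hm g u v w
    rw [key1, key1, hm, hBi]
  have inv2 : ∀ t : U →ₗ[ℝ] U →ₗ[ℝ] U →ₗ[ℝ] ℝ,
      (∀ (g : H) (u v w : U), t (ρ g u) (ρ g v) (ρ g w) = t u v w) →
      ∀ (g : H) (u v : U), (t.compr₂ φ.symm.toLinearMap) (ρ g u) (ρ g v)
        = ρ g ((t.compr₂ φ.symm.toLinearMap) u v) := by
    intro t ht g u v
    apply hnd
    intro w
    rw [key2, B_move ρ B hBi, key2]
    conv_lhs => rw [← rho_cancel ρ g w]
    exact ht g u v _
  constructor
  · rintro ⟨m, hm0, hmc, hme, hmu⟩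
    have ht0 : m.compr₂ B ≠ 0 := by
      intro h0
      apply hm0
      ext u v
      apply hnd
      intro w
      rw [← key1, h0]
      simp
    have htu : ∀ t' : U →ₗ[ℝ] U →ₗ[ℝ] U →ₗ[ℝ] ℝ,
        (∀ (g : H) (u v w : U), t' (ρ g u) (ρ g v) (ρ g w) = t' u v w) →
        ∃ c : ℝ, t' = c • (m.compr₂ B) := by
      intro t' ht'
      obtain ⟨c, hc⟩ := hmu _ (inv2 t' ht')
      refine ⟨c, ?_⟩
      ext u v w
      rw [← key2 t', hc]
      simp [key1]
    have hsym1 : ∀ u v w, (m.compr₂ B) u v w = (m.compr₂ B) v u w := by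
      intro u v w
      rw [key1, key1, hmc]
    refine ⟨m.compr₂ B, ht0, ?_, inv1 m hme, htu⟩
    -- the flipped form
    let t'' : U →ₗ[ℝ] U →ₗ[ℝ] U →ₗ[ℝ] ℝ :=
      (LinearMap.lflip (R₀ := ℝ) : (U →ₗ[ℝ] U →ₗ[ℝ] ℝ) ≃ₗ[ℝ] (U →ₗ[ℝ] U →ₗ[ℝ] ℝ)).toLinearMap ∘ₗ
        (m.compr₂ B)
    have ht'' : ∀ u v w, t'' u v w = (m.compr₂ B) u w v := by
      intro u v w; rfl
    obtain ⟨c, hc⟩ := htu t'' (by
      intro g u v w
      rw [ht'', ht'']
      exact inv1 m hme g u w v)
    have hc' : ∀ u v w, (m.compr₂ B) u w v = c * (m.compr₂ B) u v w := by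
      intro u v w
      rw [← ht'', hc]
      simp
    have hcc : c * c = 1 := by
      by_contra hne
      apply ht0
      ext u v w
      have h1 := hc' u v w
      have h2 := hc' u w v
      rw [h1] at h2
      have h3 : (1 - c * c) * (m.compr₂ B) u v w = 0 := by linarith
      rcases mul_eq_zero.mp h3 with h | h
      · exfalso; apply hne; linarith
      · simpa using h
    have hc1 : c = 1 ∨ c = -1 := by
      have : (c - 1) * (c + 1) = 0 := by ring_nf; linarith
      rcases mul_eq_zero.mp this with h | h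
      · left; linarith
      · right; linarith
    rcases hc1 with rfl | rfl
    · intro u v w
      refine ⟨hsym1 u v w, ?_⟩
      have := hc' u v w
      linarith
    · exfalso
      apply ht0
      ext u v w
      have e1 := hc' u v w   -- t u w v = - t u v w
      have e2 := hsym1 u w v -- t u w v = t w u v
      have e3 := hc' w u v   -- t w v u = - t w u v
      have e4 := hsym1 w v u -- t w v u = t v w u
      have e5 := hc' v u w   -- t v w u = - t v u w
      have e6 := hsym1 u v w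
      have : (m.compr₂ B) u v w = 0 := by linarith
      simpa using this
  · rintro ⟨t, ht0, hts, hti, htu⟩
    set m := t.compr₂ φ.symm.toLinearMap with hm
    have hm0 : m ≠ 0 := by
      intro h0
      apply ht0
      ext u v w
      rw [← key2 t, ← hm, h0]
      simp
    refine ⟨m, hm0, ?_, inv2 t hti, ?_⟩
    · intro u v
      apply hnd
      intro w
      rw [hm, key2, key2]
      exact (hts u v w).1
    · intro m' hm'
      obtain ⟨c, hc⟩ := htu _ (inv1 m' hm')
      refine ⟨c, ?_⟩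
      ext u v
      apply hnd
      intro w
      rw [← key1 m', hc]
      simp only [LinearMap.smul_apply, map_smul, smul_eq_mul]
      rw [hm, key2]

end Cfsg.Agent.S5541
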