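import Mathlib
import Cfsg.Statements.S5543

set_option autoImplicit false
open Cfsg Cfsg.Axial

namespace Cfsg.Agent.S5543

variable {V : Type*} [AddCommGroup V] [Module ℝ V]

/-- A `1/4`-eigenvector lying in the sum of the `1`- and `0`-eigenspaces vanishes. -/
theorem eq_zero_of_mem_quarter_of_mem_sum (f : Module.End ℝ V) {v : V}
    (h1 : v ∈ Module.End.eigenspace f (1 / 4))
    (h2 : v ∈ ⨆ c ∈ ({1, 0} : Set ℝ), Module.End.eigenspace f c) : v = 0 := by
  have hind := Module.End.eigenspaces_iSupIndep f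
  have hd : Disjoint (Module.End.eigenspace f (1 / 4))
      (⨆ (j : ℝ) (_ : j ≠ 1 / 4), Module.End.eigenspace f j) := hind (1 / 4)
  have hle : (⨆ c ∈ ({1, 0} : Set ℝ), Module.End.eigenspace f c) ≤
      ⨆ (j : ℝ) (_ : j ≠ 1 / 4), Module.End.eigenspace f j := by
    apply iSup₂_le
    intro c hc
    have hc' : c ≠ 1 / 4 := by
      rcases hc with rfl | hc
      · norm_num
      · rw [Set.mem_singleton_iff] at hc; subst hc; norm_num
    exact le_iSup₂_of_le c hc' le_rfl
  exact (Submodule.disjoint_def.mp hd) v h1 (hle h2)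

theorem monsterLaw_quarter : monsterLaw (1 / 4 : ℝ) (1 / 32) (1 / 4) (1 / 4) = {1, 0} := by
  unfold monsterLaw
  rw [if_neg (by norm_num), if_neg (by norm_num), if_pos ⟨rfl, rfl⟩]

theorem result {V : Type*} [AddCommGroup V] [Module ℝ V] [FiniteDimensional ℝ V] (mul : V →ₗ[ℝ] V →ₗ[ℝ] V) (B : LinearMap.BilinForm ℝ V) (hV : Cfsg.Axial.IsMajoranaAmbient mul B) (X : Subgroup (V ≃ₗ[ℝ] V)) (hX : ∀ x ∈ X, x * x = 1) (ax : (V ≃ₗ[ℝ] V) → V) (hax : ∀ x ∈ X, x ≠ 1 → Cfsg.Axial.IsMajoranaPair mul B x (ax x)) (h1 : ∀ x ∈ X, x ≠ 1 → B (ax x) (ax x) = 1) (h2A : ∀ x ∈ X, ∀ y ∈ X, x ≠ 1 → y ≠ 1 → x ≠ y → mul (ax x) (ax y) = (1 / 8 : ℝ) • (ax x + ax y - ax (x * y))) : Nat.card ↥X ≤ 4 := by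
  classical
  by_contra hcon
  push Not at hcon
  have hfin : Finite X := Nat.finite_of_card_ne_zero (by omega)
  have hft : Fintype X := Fintype.ofFinite X
  rw [Nat.card_eq_fintype_card] at hcon
  -- involutions commute
  have hinv : ∀ u ∈ X, u⁻¹ = u := fun u hu => inv_eq_of_mul_eq_one_left (hX u hu)
  have hcomm : ∀ u ∈ X, ∀ v ∈ X, u * v = v * u := by
    intro u hu v hv
    have h := hX (u * v) (X.mul_mem hu hv)
    calc u * v = ((u * v) * (u * v)) * (v⁻¹ * u⁻¹) := by group
      _ = v⁻¹ * u⁻¹ := by rw [h, one_mul]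
      _ = v * u := by rw [hinv u hu, hinv v hv]
  -- choose independent x, y, w
  have pick : ∀ s : Finset X, s.card ≤ 4 → ∃ e : X, e ∉ s := by
    intro s hs
    by_contra hall
    push Not at hall
    have : s = Finset.univ := Finset.eq_univ_iff_forall.mpr hall
    rw [this, Finset.card_univ] at hs
    omega
  obtain ⟨x, hx⟩ := pick {1} (by simp)
  obtain ⟨y, hy⟩ := pick {1, x} (by
    exact (Finset.card_le_two).trans (by norm_num))
  obtain ⟨w, hw⟩ := pick {1, x, y, x * y} (Finset.card_le_four)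
  simp only [Finset.mem_singleton] at hx
  simp only [Finset.mem_insert, Finset.mem_singleton, not_or] at hy hw
  obtain ⟨hy1, hyx⟩ := hy
  obtain ⟨hw1, hwx, hwy, hwxy⟩ := hw
  -- move to the ambient group
  obtain ⟨x, hxX⟩ := x
  obtain ⟨y, hyX⟩ := y
  obtain ⟨w, hwX⟩ := w
  have hx1 : x ≠ 1 := fun h => hx (Subtype.ext h)
  have hy1' : y ≠ 1 := fun h => hy1 (Subtype.ext h)
  have hyx' : y ≠ x := fun h => hyx (Subtype.ext h)
  have hw1' : w ≠ 1 := fun h => hw1 (Subtype.ext h)
  have hwx' : w ≠ x := fun h => hwx (Subtype.ext h)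
  have hwy' : w ≠ y := fun h => hwy (Subtype.ext h)
  have hwxy' : w ≠ x * y := fun h => hwxy (Subtype.ext h)
  have hxx := hX x hxX
  have hyy := hX y hyX
  have hww := hX w hwX
  have cxy := hcomm x hxX y hyX
  have cxw := hcomm x hxX w hwX
  have cyw := hcomm y hyX w hwX
  have hxyX : x * y ∈ X := X.mul_mem hxX hyX
  have hxwX : x * w ∈ X := X.mul_mem hxX hwX
  have hywX : y * w ∈ X := X.mul_mem hyX hwX
  have hxywX : x * (y * w) ∈ X := X.mul_mem hxX hywX
  -- non-identity facts
  have n3 : x * y ≠ 1 := by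
    intro h; apply hyx'
    calc y = x⁻¹ * (x * y) := by group
      _ = x := by rw [h, mul_one, hinv x hxX]
  have n5 : x * w ≠ 1 := by
    intro h; apply hwx'
    calc w = x⁻¹ * (x * w) := by group
      _ = x := by rw [h, mul_one, hinv x hxX]
  have n6 : y * w ≠ 1 := by
    intro h; apply hwy'
    calc w = y⁻¹ * (y * w) := by group
      _ = y := by rw [h, mul_one, hinv y hyX]
  have n7 : x * (y * w) ≠ 1 := by
    intro h; apply hwxy'
    calc w = y⁻¹ * x⁻¹ * (x * (y * w)) := by group
      _ = y * x := by rw [h, mul_one, hinv x hxX, hinv y hyX]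
      _ = x * y := cxy.symm
  -- distinctness facts
  have d13 : x ≠ x * y := by
    intro h; apply hy1'
    calc y = x⁻¹ * (x * y) := by group
      _ = x⁻¹ * x := by rw [← h]
      _ = 1 := by group
  have d15 : x ≠ x * w := by
    intro h; apply hw1'
    calc w = x⁻¹ * (x * w) := by group
      _ = x⁻¹ * x := by rw [← h]
      _ = 1 := by group
  have d16 : x ≠ y * w := by
    intro h; apply hwxy'
    calc w = y⁻¹ * (y * w) := by group
      _ = y⁻¹ * x := by rw [← h]
      _ = y * x := by rw [hinv y hyX]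
      _ = x * y := cxy.symm
  have d17 : x ≠ x * (y * w) := by
    intro h; apply n6
    calc y * w = x⁻¹ * (x * (y * w)) := by group
      _ = x⁻¹ * x := by rw [← h]
      _ = 1 := by group
  have d25 : y ≠ x * w := by
    intro h; apply hwxy'
    calc w = x⁻¹ * (x * w) := by group
      _ = x⁻¹ * y := by rw [← h]
      _ = x * y := by rw [hinv x hxX]
  have d35 : x * y ≠ x * w := by
    intro h; apply hwy'
    exact (mul_left_cancel h).symm
  have d67 : y * w ≠ x * (y * w) := by
    intro h; apply hx1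
    have : 1 * (y * w) = x * (y * w) := by rw [one_mul]; exact h
    exact (mul_right_cancel this).symm
  -- product simplifications
  have p13 : x * (x * y) = y := by
    calc x * (x * y) = (x * x) * y := by group
      _ = y := by rw [hxx, one_mul]
  have p15 : x * (x * w) = w := by
    calc x * (x * w) = (x * x) * w := by group
      _ = w := by rw [hxx, one_mul]
  have p17 : x * (x * (y * w)) = y * w := by
    calc x * (x * (y * w)) = (x * x) * (y * w) := by group
      _ = y * w := by rw [hxx, one_mul]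
  have p25 : y * (x * w) = x * (y * w) := by
    calc y * (x * w) = (y * x) * w := by group
      _ = (x * y) * w := by rw [cxy]
      _ = x * (y * w) := by group
  have p34 : (x * y) * w = x * (y * w) := by group
  have p35 : (x * y) * (x * w) = y * w := by
    calc (x * y) * (x * w) = x * (y * x) * w := by group
      _ = x * (x * y) * w := by rw [cxy]
      _ = (x * x) * (y * w) := by group
      _ = y * w := by rw [hxx, one_mul]
  have p67 : (y * w) * (x * (y * w)) = x := by
    have c := hcomm (y * w) hywX x hxX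
    calc (y * w) * (x * (y * w)) = ((y * w) * x) * (y * w) := by group
      _ = (x * (y * w)) * (y * w) := by rw [c]
      _ = x * ((y * w) * (y * w)) := by group
      _ = x := by rw [hX _ hywX, mul_one]
  -- the 2A relations
  have r12 := h2A x hxX y hyX hx1 hy1' hyx'.symm
  have r13 := h2A x hxX (x * y) hxyX hx1 n3 d13
  rw [p13] at r13
  have r14 := h2A x hxX w hwX hx1 hw1' hwx'.symm
  have r15 := h2A x hxX (x * w) hxwX hx1 n5 d15
  rw [p15] at r15
  have r16 := h2A x hxX (y * w) hywX hx1 n6 d16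
  have r17 := h2A x hxX (x * (y * w)) hxywX hx1 n7 d17
  rw [p17] at r17
  have r24 := h2A y hyX w hwX hy1' hw1' hwy'.symm
  have r25 := h2A y hyX (x * w) hxwX hy1' n5 d25
  rw [p25] at r25
  have r34 := h2A (x * y) hxyX w hwX n3 hw1' hwxy'.symm
  rw [p34] at r34
  have r35 := h2A (x * y) hxyX (x * w) hxwX n3 n5 d35
  rw [p35] at r35
  have r67 := h2A (y * w) hywX (x * (y * w)) hxywX n6 n7 d67
  rw [p67] at r67
  -- eigenvectors of a₁ = ax x
  have e2 : ax y - ax (x * y) ∈ eigen mul (ax x) (1 / 4) := by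
    unfold eigen
    rw [Module.End.mem_eigenspace_iff, map_sub, r12, r13]; module
  have e4 : ax w - ax (x * w) ∈ eigen mul (ax x) (1 / 4) := by
    unfold eigen
    rw [Module.End.mem_eigenspace_iff, map_sub, r14, r15]; module
  have e6 : ax (y * w) - ax (x * (y * w)) ∈ eigen mul (ax x) (1 / 4) := by
    unfold eigen
    rw [Module.End.mem_eigenspace_iff, map_sub, r16, r17]; module
  have hprod : mul (ax y - ax (x * y)) (ax w - ax (x * w)) =
      (-(1 / 4) : ℝ) • (ax (y * w) - ax (x * (y * w))) := by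
    rw [map_sub, map_sub, LinearMap.sub_apply, LinearMap.sub_apply, r24, r25, r34, r35]; module
  -- fusion law for x
  obtain ⟨-, -, ⟨⟨-, -, -, hfus⟩, -⟩, -⟩ := hax x hxX hx1
  have hspec : (1 / 4 : ℝ) ∈ majoranaSpectrum := by
    unfold majoranaSpectrum; simp
  have hmem := hfus (1 / 4) hspec (1 / 4) hspec _ e2 _ e4
  rw [monsterLaw_quarter, hprod] at hmem
  have hmem2 : (-(1 / 4) : ℝ) • (ax (y * w) - ax (x * (y * w))) ∈ eigen mul (ax x) (1 / 4) :=
    Submodule.smul_mem _ _ e6
  have hzero := eq_zero_of_mem_quarter_of_mem_sum (mul (ax x)) hmem2 hmem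
  have h67 : ax (y * w) - ax (x * (y * w)) = 0 := by
    rcases smul_eq_zero.mp hzero with h | h
    · norm_num at h
    · exact h
  have h67' : ax (x * (y * w)) = ax (y * w) := (sub_eq_zero.mp h67).symm
  -- contradiction
  obtain ⟨-, -, ⟨⟨-, hidem, -, -⟩, -⟩, -⟩ := hax (y * w) hywX n6
  rw [h67', hidem] at r67
  have hax1 : ax x = (-6 : ℝ) • ax (y * w) := by
    have : (8 : ℝ) • ax (y * w) = (8 : ℝ) • ((1 / 8 : ℝ) • (ax (y * w) + ax (y * w) - ax x)) := by
      rw [← r67]
    have h2 : ax x = (ax (y * w) + ax (y * w)) - (8 : ℝ) • ax (y * w) := by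
      rw [this]; module
    rw [h2]; module
  have hB1 := h1 x hxX hx1
  have hB6 := h1 (y * w) hywX n6
  rw [hax1] at hB1
  simp only [map_smul, LinearMap.smul_apply, smul_eq_mul, hB6] at hB1
  norm_num at hB1

end Cfsg.Agent.S5543
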