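import Mathlib
import Cfsg.Statements.S5545

set_option autoImplicit false
open Cfsg Cfsg.Axial

namespace Cfsg.Agent.S5545

variable {V : Type*} [AddCommGroup V] [Module ℝ V]

theorem mem_eigen_iff (mul : V →ₗ[ℝ] V →ₗ[ℝ] V) (a v : V) (c : ℝ) :
    v ∈ eigen mul a c ↔ mul a v = c • v := Module.End.mem_eigenspace_iff

/-- Eigenspaces are transported by automorphisms of the product. -/
theorem eigen_map (mul : V →ₗ[ℝ] V →ₗ[ℝ] V) (φ : V ≃ₗ[ℝ] V)
    (hφ : ∀ u v : V, φ (mul u v) = mul (φ u) (φ v)) (a : V) (c : ℝ) :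
    eigen mul (φ a) c = (eigen mul a c).map (φ : V →ₗ[ℝ] V) := by
  ext v
  rw [Submodule.mem_map, mem_eigen_iff]
  constructor
  · intro h
    refine ⟨φ.symm v, ?_, by simp⟩
    rw [mem_eigen_iff]
    apply φ.injective
    rw [hφ, map_smul, LinearEquiv.apply_symm_apply, h]
  · rintro ⟨u, hu, rfl⟩
    rw [mem_eigen_iff] at hu
    show mul (φ a) (φ u) = c • φ u
    rw [← hφ, hu, map_smul]

theorem eigenSum_map (mul : V →ₗ[ℝ] V →ₗ[ℝ] V) (φ : V ≃ₗ[ℝ] V)
    (hφ : ∀ u v : V, φ (mul u v) = mul (φ u) (φ v)) (a : V) (S : Set ℝ) :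
    eigenSum mul (φ a) S = (eigenSum mul a S).map (φ : V →ₗ[ℝ] V) := by
  unfold eigenSum
  rw [Submodule.map_iSup]
  congr 1
  funext c
  rw [Submodule.map_iSup]
  congr 1
  funext _
  exact eigen_map mul φ hφ a c

/-- The image of a Majorana axis of `μ₁` under an automorphism commuting with `μ₁` is again one. -/
theorem pair_conj (mul : V →ₗ[ℝ] V →ₗ[ℝ] V) (B : LinearMap.BilinForm ℝ V) (μ₀ μ₁ : V ≃ₗ[ℝ] V)
    (a₁ : V) (hμ₀ : ∀ u v : V, μ₀ (mul u v) = mul (μ₀ u) (μ₀ v))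
    (h₁ : IsMajoranaPair mul B μ₁ a₁) (hc : μ₀ * μ₁ = μ₁ * μ₀) :
    IsMajoranaPair mul B μ₁ (μ₀ a₁) := by
  obtain ⟨hm, hB, ⟨⟨hne, hid, hsum, hfus⟩, hprim⟩, hfix, hneg⟩ := h₁
  have hcomm : ∀ v : V, μ₁ (μ₀ v) = μ₀ (μ₁ v) := by
    intro v
    have := congrArg (fun f : V ≃ₗ[ℝ] V => f v) hc
    exact this.symm
  refine ⟨hm, hB, ⟨⟨?_, ?_, ?_, ?_⟩, ?_⟩, ?_, ?_⟩
  · intro h
    apply hne
    apply μ₀.injective
    rw [h, map_zero]
  · rw [← hμ₀, hid]
  · rw [eigenSum_map mul μ₀ hμ₀, hsum, Submodule.map_top]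
    exact LinearMap.range_eq_top.mpr μ₀.surjective
  · intro c hc' d hd u hu v hv
    rw [eigen_map mul μ₀ hμ₀, Submodule.mem_map] at hu hv
    obtain ⟨u', hu', rfl⟩ := hu
    obtain ⟨v', hv', rfl⟩ := hv
    rw [eigenSum_map mul μ₀ hμ₀, Submodule.mem_map]
    exact ⟨mul u' v', hfus c hc' d hd u' hu' v' hv', hμ₀ u' v'⟩
  · rw [eigen_map mul μ₀ hμ₀, hprim, Submodule.map_span, Set.image_singleton]
    rfl
  · intro v hv
    rw [eigenSum_map mul μ₀ hμ₀, Submodule.mem_map] at hv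
    obtain ⟨v', hv', rfl⟩ := hv
    show μ₁ (μ₀ v') = μ₀ v'
    rw [hcomm]
    congr 1
    exact hfix v' hv'
  · intro v hv
    rw [eigen_map mul μ₀ hμ₀, Submodule.mem_map] at hv
    obtain ⟨v', hv', rfl⟩ := hv
    show μ₁ (μ₀ v') = -μ₀ v'
    rw [hcomm]
    have := hneg v' hv'
    have h2 : μ₁ v' = -v' := this
    rw [h2, map_neg]

theorem law00 : monsterLaw (1 / 4 : ℝ) (1 / 32) 0 0 = {0} := by
  unfold monsterLaw
  rw [if_neg (by norm_num), if_neg (by norm_num), if_neg (by norm_num), if_neg (by norm_num),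
    if_pos rfl]

theorem law04 : monsterLaw (1 / 4 : ℝ) (1 / 32) 0 (1 / 4) = {1 / 4} := by
  unfold monsterLaw
  rw [if_neg (by norm_num), if_neg (by norm_num), if_neg (by norm_num), if_pos (Or.inr rfl)]

theorem law44 : monsterLaw (1 / 4 : ℝ) (1 / 32) (1 / 4) (1 / 4) = {1, 0} := by
  unfold monsterLaw
  rw [if_neg (by norm_num), if_neg (by norm_num), if_pos ⟨rfl, rfl⟩]

theorem eigenSum_singleton (mul : V →ₗ[ℝ] V →ₗ[ℝ] V) (a : V) (c : ℝ) :
    eigenSum mul a {c} = eigen mul a c := by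
  unfold eigenSum
  simp

theorem eigenSum_pair (mul : V →ₗ[ℝ] V →ₗ[ℝ] V) (a : V) (c d : ℝ) :
    eigenSum mul a {c, d} = eigen mul a c ⊔ eigen mul a d := by
  unfold eigenSum
  rw [iSup_insert, iSup_singleton]

theorem eigen_le_eigenSum (mul : V →ₗ[ℝ] V →ₗ[ℝ] V) (a : V) (S : Set ℝ) (c : ℝ) (hc : c ∈ S) :
    eigen mul a c ≤ eigenSum mul a S :=
  le_iSup₂ (f := fun c _ => eigen mul a c) c hc

/-- A `1/4`-eigenvector that is a sum of a `1`- and a `0`-eigenvector vanishes. -/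
theorem quarter_sum (L : V →ₗ[ℝ] V) (x y1 y0 : V) (hx : L x = (1 / 4 : ℝ) • x) (h1 : L y1 = y1)
    (h0 : L y0 = 0) (h : x = y1 + y0) : x = 0 := by
  have e1 : (1 / 4 : ℝ) • x = y1 := by
    rw [← hx, h, map_add, h1, h0, add_zero]
  have e2 : (1 / 4 : ℝ) • ((1 / 4 : ℝ) • x) = (1 / 4 : ℝ) • x := by
    have := h1
    rw [← e1, map_smul, hx] at this
    exact this
  have e3 : (3 / 16 : ℝ) • x = 0 := by
    have : (3 / 16 : ℝ) • x = (1 / 4 : ℝ) • x - (1 / 4 : ℝ) • ((1 / 4 : ℝ) • x) := by module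
    rw [this, e2, sub_self]
  rcases smul_eq_zero.mp e3 with h | h
  · norm_num at h
  · exact h

/-- The structure of an idempotent `b` fixed by the Majorana involution of an axis `a`. -/
theorem half (mul : V →ₗ[ℝ] V →ₗ[ℝ] V) (B : LinearMap.BilinForm ℝ V)
    (hV : IsMajoranaAmbient mul B) (μ : V ≃ₗ[ℝ] V) (a b : V)
    (h : IsMajoranaPair mul B μ a) (hn : B a a = 1) (hb : mul b b = b) (hfixb : μ b = b) :
    mul a (mul a b) = ((3 * B a b) / 4) • a + (1 / 4 : ℝ) • mul a b ∧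
    mul (b + (3 * B a b) • a - (4 : ℝ) • mul a b) ((4 : ℝ) • mul a b - (4 * B a b) • a) =
      ((2 - B a b) / 4) • ((4 : ℝ) • mul a b - (4 * B a b) • a) ∧
    B ((4 : ℝ) • mul a b - (4 * B a b) • a) ((4 : ℝ) • mul a b - (4 * B a b) • a) =
      4 * B a b * (1 - B a b) := by
  obtain ⟨hcomm, hsymm, hpos, hfrob, -⟩ := hV
  obtain ⟨hm, hBμ, ⟨⟨hne, hid, hsum, hfus⟩, hprim⟩, hfix, hneg⟩ := h
  -- decomposition of `b`
  have hb_top : b ∈ eigenSum mul a majoranaSpectrum := by rw [hsum]; trivial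
  unfold majoranaSpectrum eigenSum at hb_top
  rw [iSup_insert, iSup_insert, iSup_insert, iSup_singleton] at hb_top
  obtain ⟨v1, hv1, r1, hr1, e1⟩ := Submodule.mem_sup.mp hb_top
  obtain ⟨v0, hv0, r2, hr2, e2⟩ := Submodule.mem_sup.mp hr1
  obtain ⟨v4, hv4, v32, hv32, e3⟩ := Submodule.mem_sup.mp hr2
  have hS1 : (1 : ℝ) ∈ ({1, 0, 1 / 4} : Set ℝ) := by simp
  have hS0 : (0 : ℝ) ∈ ({1, 0, 1 / 4} : Set ℝ) := by simp
  have hS4 : (1 / 4 : ℝ) ∈ ({1, 0, 1 / 4} : Set ℝ) := by simp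
  have hμ1 : μ v1 = v1 := hfix v1 (eigen_le_eigenSum mul a _ 1 hS1 hv1)
  have hμ0 : μ v0 = v0 := hfix v0 (eigen_le_eigenSum mul a _ 0 hS0 hv0)
  have hμ4 : μ v4 = v4 := hfix v4 (eigen_le_eigenSum mul a _ (1 / 4) hS4 hv4)
  have hμ32 : μ v32 = -v32 := hneg v32 hv32
  have hv32z : v32 = 0 := by
    have hbe : b = v1 + (v0 + (v4 + v32)) := by rw [e3, e2, e1]
    have h1 : μ b = v1 + (v0 + (v4 - v32)) := by
      rw [hbe, map_add, map_add, map_add, hμ1, hμ0, hμ4, hμ32, sub_eq_add_neg]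
    rw [hfixb, hbe] at h1
    have h2 : (2 : ℝ) • v32 = 0 := by
      linear_combination (norm := module) h1
    rcases smul_eq_zero.mp h2 with h | h
    · norm_num at h
    · exact h
  rw [hprim, Submodule.mem_span_singleton] at hv1
  obtain ⟨t, rfl⟩ := hv1
  have hbe : b = t • a + v0 + v4 := by
    rw [← e1, ← e2, ← e3, hv32z, add_zero, add_assoc]
  rw [mem_eigen_iff] at hv0 hv4
  rw [zero_smul] at hv0
  -- orthogonality
  have ho0 : B a v0 = 0 := by
    have := hfrob a a v0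
    rw [hid, hv0, map_zero] at this
    exact this.symm
  have ho4 : B a v4 = 0 := by
    have := hfrob a a v4
    rw [hid, hv4, map_smul, smul_eq_mul] at this
    linarith
  have ht : B a b = t := by
    rw [hbe, map_add, map_add, map_smul, hn, ho0, ho4, smul_eq_mul, mul_one, add_zero, add_zero]
  rw [ht]
  -- the product s = a b
  have hs : mul a b = t • a + (1 / 4 : ℝ) • v4 := by
    rw [hbe, map_add, map_add, map_smul, hid, hv0, hv4, add_zero]
  have hv4e : v4 = (4 : ℝ) • mul a b - (4 * t) • a := by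
    linear_combination (norm := module) (-4 : ℝ) • hs
  have hv0e : v0 = b + (3 * t) • a - (4 : ℝ) • mul a b := by
    linear_combination (norm := module) (-1 : ℝ) • hbe + (4 : ℝ) • hs
  have hms : mul a (mul a b) = t • a + (1 / 16 : ℝ) • v4 := by
    rw [hs, map_add, map_smul, map_smul, hid, hv4, smul_smul]
    norm_num
  refine ⟨?_, ?_, ?_⟩
  · linear_combination (norm := module) hms - (1 / 4 : ℝ) • hs
  · -- fusion
    rw [← hv4e, ← hv0e]
    have hv0' : v0 ∈ eigen mul a 0 := by rw [mem_eigen_iff, zero_smul]; exact hv0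
    have hv4' : v4 ∈ eigen mul a (1 / 4) := by rw [mem_eigen_iff]; exact hv4
    have hM0 : (0 : ℝ) ∈ majoranaSpectrum := by unfold majoranaSpectrum; simp
    have hM4 : (1 / 4 : ℝ) ∈ majoranaSpectrum := by unfold majoranaSpectrum; simp
    have f00 := hfus 0 hM0 0 hM0 v0 hv0' v0 hv0'
    rw [law00, eigenSum_singleton, mem_eigen_iff, zero_smul] at f00
    have f04 := hfus 0 hM0 (1 / 4) hM4 v0 hv0' v4 hv4'
    rw [law04, eigenSum_singleton, mem_eigen_iff] at f04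
    have f44 := hfus (1 / 4) hM4 (1 / 4) hM4 v4 hv4' v4 hv4'
    rw [law44, eigenSum_pair, Submodule.mem_sup] at f44
    obtain ⟨p1, hp1, p0, hp0, hp⟩ := f44
    rw [mem_eigen_iff, one_smul] at hp1
    rw [mem_eigen_iff, zero_smul] at hp0
    -- expand b = b b
    have hbb : mul b b = (t ^ 2) • a + (t / 2) • v4 + mul v0 v0 + (2 : ℝ) • mul v0 v4 +
        mul v4 v4 := by
      have c1 : mul v0 a = 0 := by rw [hcomm, hv0]
      have c2 : mul v4 a = (1 / 4 : ℝ) • v4 := by rw [hcomm, hv4]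
      have c3 : mul v4 v0 = mul v0 v4 := hcomm _ _
      rw [hbe]
      simp only [map_add, map_smul, LinearMap.add_apply, LinearMap.smul_apply, hid, hv0, hv4,
        c1, c2, c3, smul_zero, add_zero, zero_add, smul_smul]
      module
    rw [hb] at hbb
    have hX : v4 - (t / 2) • v4 - (2 : ℝ) • mul v0 v4 = 0 := by
      apply quarter_sum (mul a) _ ((t ^ 2 - t) • a + p1) (mul v0 v0 - v0 + p0)
      · rw [map_sub, map_sub, map_smul, map_smul, hv4, f04]
        module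
      · rw [map_add, map_smul, hid, hp1]
      · rw [map_add, map_sub, f00, hv0, hp0, sub_zero, add_zero]
      · have hbb' := hbb
        rw [← hp] at hbb'
        linear_combination (norm := module) hbb' - hbe
    linear_combination (norm := module) (-1 / 2 : ℝ) • hX
  · rw [← hv4e]
    -- apply `B a` to `b = b b`
    have c1 : mul v0 a = 0 := by rw [hcomm, hv0]
    have c2 : mul v4 a = (1 / 4 : ℝ) • v4 := by rw [hcomm, hv4]
    have c3 : mul v4 v0 = mul v0 v4 := hcomm _ _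
    have hbb : mul b b = (t ^ 2) • a + (t / 2) • v4 + mul v0 v0 + (2 : ℝ) • mul v0 v4 +
        mul v4 v4 := by
      rw [hbe]
      simp only [map_add, map_smul, LinearMap.add_apply, LinearMap.smul_apply, hid, hv0, hv4,
        c1, c2, c3, smul_zero, add_zero, zero_add, smul_smul]
      module
    have hB : B a (mul b b) = t ^ 2 + (1 / 4) * B v4 v4 := by
      rw [hbb]
      simp only [map_add, map_smul, smul_eq_mul, hn, ho4]
      rw [hfrob a v0 v0, hfrob a v0 v4, hfrob a v4 v4, hcomm a v0, c1, hcomm a v4, c2]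
      simp only [map_zero, LinearMap.zero_apply, map_smul, LinearMap.smul_apply, smul_eq_mul]
      ring
    rw [hb] at hB
    rw [ht] at hB
    linarith

theorem expand (mul : V →ₗ[ℝ] V →ₗ[ℝ] V) (x y z : V) (p q r t : ℝ) :
    mul (x + p • y - q • z) (r • z - t • y) =
      r • mul x z - t • mul x y + (p * r) • mul y z - (p * t) • mul y y - (q * r) • mul z z +
        (q * t) • mul z y := by
  simp only [map_add, map_sub, map_smul, LinearMap.add_apply, LinearMap.sub_apply,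
    LinearMap.smul_apply, smul_smul]
  module

/-- Let V be a finite-dimensional real vector space with a commutative bilinear product and a positive-definite symmetric bilinear form that associates with the product and satisfies the Norton inequality (the Majorana setting of the definitions). Let μ₀, μ₁ be commuting Majorana involutions with distinct axial vectors a₀ ≠ a₁ of squared length 1, each involution having no other axial vector. Then either a₀ and a₁ are orthogonal with a₀ ∘ a₁ = 0 (type 2B), or their inner product is 1/8 and, with a₂ = a₀ + a₁ − 8 a₀ ∘ a₁, the vector a₂ is an idempotent and a₀ ∘ a₂ = (1/8)(a₀ + a₂ − a₁), a₁ ∘ a₂ = (1/8)(a₁ + a₂ − a₀) (type 2A: the three idempotents span a subalgebra with aᵢ ∘ aⱼ = (1/8)(aᵢ + aⱼ − aₖ)). -/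
theorem result {V : Type*} [AddCommGroup V] [Module ℝ V] [FiniteDimensional ℝ V] (mul : V →ₗ[ℝ] V →ₗ[ℝ] V) (B : LinearMap.BilinForm ℝ V) (hV : Cfsg.Axial.IsMajoranaAmbient mul B) (μ₀ μ₁ : V ≃ₗ[ℝ] V) (a₀ a₁ : V) (h₀ : Cfsg.Axial.IsMajoranaPair mul B μ₀ a₀) (h₁ : Cfsg.Axial.IsMajoranaPair mul B μ₁ a₁) (hu₀ : ∀ a : V, Cfsg.Axial.IsMajoranaPair mul B μ₀ a → a = a₀) (hu₁ : ∀ a : V, Cfsg.Axial.IsMajoranaPair mul B μ₁ a → a = a₁) (hn₀ : B a₀ a₀ = 1) (hn₁ : B a₁ a₁ = 1) (hc : μ₀ * μ₁ = μ₁ * μ₀) (hne : a₀ ≠ a₁) : (B a₀ a₁ = 0 ∧ mul a₀ a₁ = 0) ∨ (B a₀ a₁ = 1 / 8 ∧ mul (a₀ + a₁ - (8 : ℝ) • mul a₀ a₁) (a₀ + a₁ - (8 : ℝ) • mul a₀ a₁) = a₀ + a₁ - (8 : ℝ) • mul a₀ a₁ ∧ mul a₀ (a₀ + a₁ - (8 : ℝ) • mul a₀ a₁) = (1 / 8 : ℝ) • (a₀ + (a₀ + a₁ - (8 : ℝ) • mul a₀ a₁) - a₁) ∧ mul a₁ (a₀ + a₁ - (8 : ℝ) • mul a₀ a₁) = (1 / 8 : ℝ) • (a₁ + (a₀ + a₁ - (8 : ℝ) • mul a₀ a₁) - a₀)) := by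
  have hV' := hV
  obtain ⟨hcomm, hsymm, hpos, hfrob, -⟩ := hV
  have hfix01 : μ₀ a₁ = a₁ := hu₁ _ (pair_conj mul B μ₀ μ₁ a₁ h₀.1 h₁ hc)
  have hfix10 : μ₁ a₀ = a₀ := hu₀ _ (pair_conj mul B μ₁ μ₀ a₀ h₁.1 h₀ hc.symm)
  have p00 : mul a₀ a₀ = a₀ := h₀.2.2.1.1.2.1
  have p11 : mul a₁ a₁ = a₁ := h₁.2.2.1.1.2.1
  have p10 : mul a₁ a₀ = mul a₀ a₁ := hcomm _ _
  obtain ⟨A1, A2, A3⟩ := half mul B hV' μ₀ a₀ a₁ h₀ hn₀ p11 hfix01
  obtain ⟨B1, B2, B3⟩ := half mul B hV' μ₁ a₁ a₀ h₁ hn₁ p00 hfix10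
  rw [hsymm a₁ a₀, p10] at B1 B2 B3
  have ps0 : mul (mul a₀ a₁) a₀ = mul a₀ (mul a₀ a₁) := hcomm _ _
  have ps1 : mul (mul a₀ a₁) a₁ = mul a₁ (mul a₀ a₁) := hcomm _ _
  have E0 : (16 : ℝ) • mul (mul a₀ a₁) (mul a₀ a₁) = (3 * B a₀ a₁) • a₁ +
      (8 * (B a₀ a₁) ^ 2 + 2 * B a₀ a₁) • a₀ + (4 * B a₀ a₁ - 1) • mul a₀ a₁ := by
    rw [expand, ps0, p10, p00, A1, B1] at A2
    linear_combination (norm := module) (-1 : ℝ) • A2
  have E1 : (16 : ℝ) • mul (mul a₀ a₁) (mul a₀ a₁) = (3 * B a₀ a₁) • a₀ +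
      (8 * (B a₀ a₁) ^ 2 + 2 * B a₀ a₁) • a₁ + (4 * B a₀ a₁ - 1) • mul a₀ a₁ := by
    rw [expand, ps1, p11, A1, B1] at B2
    linear_combination (norm := module) (-1 : ℝ) • B2
  have hkey : (B a₀ a₁ * (1 - 8 * B a₀ a₁)) • (a₁ - a₀) = 0 := by
    linear_combination (norm := module) E1 - E0
  rcases smul_eq_zero.mp hkey with h | h
  · rcases mul_eq_zero.mp h with h0 | h8
    · left
      refine ⟨h0, ?_⟩
      rw [h0] at A3
      have hz : (4 : ℝ) • mul a₀ a₁ - (4 * (0 : ℝ)) • a₀ = 0 := by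
        by_contra hne'
        have := hpos _ hne'
        rw [A3] at this
        norm_num at this
      have h4 : (4 : ℝ) • mul a₀ a₁ = 0 := by
        linear_combination (norm := module) hz
      rcases smul_eq_zero.mp h4 with h | h
      · norm_num at h
      · exact h
    · right
      have hl : B a₀ a₁ = 1 / 8 := by linarith
      rw [hl] at A1 B1 E0
      have pss : mul (mul a₀ a₁) (mul a₀ a₁) =
          (3 / 128 : ℝ) • a₁ + (3 / 128 : ℝ) • a₀ - (1 / 32 : ℝ) • mul a₀ a₁ := by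
        have : mul (mul a₀ a₁) (mul a₀ a₁) =
            (1 / 16 : ℝ) • ((16 : ℝ) • mul (mul a₀ a₁) (mul a₀ a₁)) := by
          rw [smul_smul]; norm_num
        rw [this, E0]
        module
      refine ⟨hl, ?_, ?_, ?_⟩
      · simp only [map_add, map_sub, map_smul, LinearMap.add_apply, LinearMap.sub_apply,
          LinearMap.smul_apply, p00, p11, p10, ps0, ps1, A1, B1, pss]
        module
      · simp only [map_add, map_sub, map_smul, p00, A1]
        module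
      · simp only [map_add, map_sub, map_smul, p11, p10, B1]
        module
  · exact absurd (sub_eq_zero.mp h).symm hne

end Cfsg.Agent.S5545
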