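import Mathlib
import Cfsg.Statements.S5546
import Cfsg.Agent.Lib.Helper27.LeechAut

set_option autoImplicit false
open Cfsg

namespace Cfsg.Agent.S5546

open Cfsg.Agent.Helper27

theorem prime13 : Nat.Prime 13 := by norm_num

instance fact13 : Fact (Nat.Prime 13) := ⟨prime13⟩

abbrev V13 := GolayPt → ZMod 13

/-- The `j`-th column of the matrix of `g` modulo 13. -/
noncomputable def colVec (g : Equiv.Perm leechLattice) (j : GolayPt) : V13 :=
  (5 : ZMod 13) • red13 ((g (e8 j) : leechLattice) : GolayPt → ℤ)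

/-- The linear map modulo 13 induced by `g`. -/
noncomputable def L (g : Equiv.Perm leechLattice) : V13 →ₗ[ZMod 13] V13 :=
  Fintype.linearCombination (ZMod 13) (colVec g)

theorem L_apply (g : Equiv.Perm leechLattice) (x : V13) : L g x = ∑ j, x j • colVec g j :=
  rfl

theorem eight_inv : (5 : ZMod 13) * 8 = 1 := by decide

theorem red13_sum {ι : Type*} (s : Finset ι) (f : ι → GolayPt → ℤ) :
    red13 (∑ i ∈ s, f i) = ∑ i ∈ s, red13 (f i) := map_sum red13 f s

theorem L_red13 {g : Equiv.Perm leechLattice} (hg : g ∈ Co0) (v : leechLattice) :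
    L g (red13 (v : GolayPt → ℤ)) = red13 ((g v : leechLattice) : GolayPt → ℤ) := by
  have h1 : g ((8 : ℤ) • v) = (8 : ℤ) • g v := co0_zsmul hg 8 v
  rw [eight_smul_eq_sum, co0_sum hg] at h1
  have h2 := congrArg (fun w : leechLattice => red13 (w : GolayPt → ℤ)) h1
  simp only [AddSubgroup.val_finsetSum, AddSubgroup.coe_zsmul] at h2
  rw [red13_sum, red13_zsmul] at h2
  rw [L_apply]
  have h3 : ∀ j, red13 (v : GolayPt → ℤ) j • colVec g j
      = (5 : ZMod 13) • red13 (((v : GolayPt → ℤ) j) • ((g (e8 j) : leechLattice) : GolayPt → ℤ)) := by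
    intro j
    rw [red13_zsmul, colVec, red13_apply, smul_comm]
  rw [Finset.sum_congr rfl (fun j _ => h3 j), ← Finset.smul_sum]
  have h4 : ∑ j, red13 (((v : GolayPt → ℤ) j) • ((g (e8 j) : leechLattice) : GolayPt → ℤ))
      = ((8 : ℤ) : ZMod 13) • red13 ((g v : leechLattice) : GolayPt → ℤ) := by
    rw [← h2]
    refine Finset.sum_congr rfl (fun j _ => ?_)
    rw [co0_zsmul hg]
    rfl
  rw [h4, smul_smul]
  have : (5 : ZMod 13) * ((8 : ℤ) : ZMod 13) = 1 := by
    push_cast; exact eight_inv
  rw [this, one_smul]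

theorem L_mul {g h : Equiv.Perm leechLattice} (hg : g ∈ Co0) :
    L (g * h) = (L g).comp (L h) := by
  apply LinearMap.ext
  intro x
  rw [LinearMap.comp_apply, L_apply (g * h), L_apply h, map_sum]
  refine Finset.sum_congr rfl (fun j _ => ?_)
  rw [map_smul, colVec, colVec, map_smul, L_red13 hg]
  rfl

theorem colVec_one (j : GolayPt) : colVec 1 j = Pi.single j 1 := by
  funext i
  show (5 : ZMod 13) * ((vec8 j i : ℤ) : ZMod 13) = _
  unfold vec8
  by_cases h : i = j
  · subst h
    rw [if_pos rfl, Pi.single_eq_same]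
    push_cast
    exact eight_inv
  · rw [if_neg h, Pi.single_eq_of_ne h]
    simp

theorem L_one : L 1 = LinearMap.id := by
  apply LinearMap.ext
  intro x
  rw [L_apply, LinearMap.id_apply]
  funext i
  rw [Finset.sum_apply]
  simp only [colVec_one, Pi.smul_apply, smul_eq_mul, Pi.single_apply, mul_ite, mul_one, mul_zero]
  rw [Finset.sum_ite_eq Finset.univ i]
  simp

/-- The fixed vector modulo 13. -/
noncomputable def ubar : V13 := red13 Spor.vecU

theorem L_ubar {g : Equiv.Perm leechLattice} (hg : g ∈ Spor.Co2) : L g ubar = ubar := by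
  have h1 : g ∈ Co0 := hg.1
  have h2 : g Spor.leechU = Spor.leechU := MulAction.mem_stabilizer_iff.mp hg.2
  have := L_red13 h1 Spor.leechU
  rw [h2] at this
  exact this

theorem dot_red13 (a b : GolayPt → ℤ) :
    red13 a ⬝ᵥ red13 b = ((dotInt a b : ℤ) : ZMod 13) := by
  unfold dotProduct dotInt
  push_cast
  rfl

theorem dotInt_vec8 (j : GolayPt) (b : GolayPt → ℤ) : dotInt (vec8 j) b = 8 * b j := by
  unfold dotInt vec8
  simp only [ite_mul, zero_mul]
  rw [Finset.sum_ite_eq' Finset.univ j]
  simp

theorem dot_colVec {g : Equiv.Perm leechLattice} (hg : g ∈ Spor.Co2) (j : GolayPt) :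
    colVec g j ⬝ᵥ ubar = ubar j := by
  have h1 : g ∈ Co0 := hg.1
  have h2 : g Spor.leechU = Spor.leechU := MulAction.mem_stabilizer_iff.mp hg.2
  have h3 := co0_dotInt h1 (e8 j) Spor.leechU
  rw [h2] at h3
  rw [colVec, smul_dotProduct, ubar, dot_red13]
  have h4 : dotInt ((g (e8 j) : leechLattice) : GolayPt → ℤ) Spor.vecU = 8 * Spor.vecU j := by
    rw [← dotInt_vec8]
    exact h3
  rw [h4, red13_apply]
  push_cast
  rw [smul_eq_mul, ← mul_assoc, eight_inv, one_mul]

theorem dot_L {g : Equiv.Perm leechLattice} (hg : g ∈ Spor.Co2) (x : V13) :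
    L g x ⬝ᵥ ubar = x ⬝ᵥ ubar := by
  rw [L_apply, sum_dotProduct]
  unfold dotProduct
  refine Finset.sum_congr rfl (fun j _ => ?_)
  have := dot_colVec hg j
  unfold dotProduct at this
  rw [← this, Finset.mul_sum]
  refine Finset.sum_congr rfl (fun i _ => ?_)
  simp [mul_assoc]

theorem dot_ubar : ubar ⬝ᵥ ubar = 6 := by
  unfold ubar
  rw [dot_red13]
  have : dotInt Spor.vecU Spor.vecU = 32 := by decide
  rw [this]
  decide

theorem ubar_ne_zero : ubar ≠ 0 := by
  intro h
  have := dot_ubar
  rw [h] at this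
  simp at this
  exact absurd this (by decide)

/-- The line spanned by the fixed vector. -/
noncomputable def S13 : Submodule (ZMod 13) V13 := Submodule.span (ZMod 13) {ubar}

theorem S13_le {g : Equiv.Perm leechLattice} (hg : g ∈ Spor.Co2) : S13 ≤ S13.comap (L g) := by
  intro x hx
  rw [Submodule.mem_comap]
  unfold S13 at hx ⊢
  obtain ⟨t, rfl⟩ := Submodule.mem_span_singleton.mp hx
  rw [map_smul, L_ubar hg]
  exact Submodule.smul_mem _ _ (Submodule.mem_span_singleton_self _)

/-- The representation on the 23-dimensional quotient. -/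
noncomputable def rho : ↥Spor.Co2 →* Module.End (ZMod 13) (V13 ⧸ S13) where
  toFun g := S13.mapQ S13 (L g.1) (S13_le g.2)
  map_one' := by
    show S13.mapQ S13 (L 1) _ = 1
    have : L (1 : Equiv.Perm leechLattice) = LinearMap.id := L_one
    apply LinearMap.ext
    intro x
    induction x using Submodule.Quotient.induction_on with
    | _ x => simp [this]
  map_mul' g h := by
    apply LinearMap.ext
    intro x
    induction x using Submodule.Quotient.induction_on with
    | _ x =>
      show Submodule.Quotient.mk (L (g.1 * h.1) x) = _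
      rw [L_mul g.2.1]
      rfl

theorem rho_apply (g : ↥Spor.Co2) (x : V13) :
    rho g (Submodule.Quotient.mk x) = Submodule.Quotient.mk (L g.1 x) := rfl

theorem rho_faithful (g : ↥Spor.Co2) (h : rho g = 1) : g = 1 := by
  have hL : ∀ x : V13, L g.1 x = x := by
    intro x
    have h1 : rho g (Submodule.Quotient.mk x) = Submodule.Quotient.mk x := by rw [h]; rfl
    rw [rho_apply, Submodule.Quotient.eq] at h1
    unfold S13 at h1
    rw [Submodule.mem_span_singleton] at h1
    obtain ⟨t, ht⟩ := h1
    have h2 := dot_L g.2 x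
    have h3 : L g.1 x = x + t • ubar := by rw [ht]; abel
    rw [h3, add_dotProduct, smul_dotProduct, dot_ubar] at h2
    have h4 : t * 6 = 0 := by
      have : x ⬝ᵥ ubar + t • (6 : ZMod 13) = x ⬝ᵥ ubar := h2
      rw [smul_eq_mul] at this
      exact add_eq_left.mp this
    have h5 : t = 0 := by
      have h6 : (6 : ZMod 13) ≠ 0 := by decide
      exact (mul_eq_zero.mp h4).resolve_right h6
    rw [h3, h5, zero_smul, add_zero]
  have h1 : g.1 = 1 := by
    apply co0_eq_one_of_red13 g.2.1
    intro v
    rw [← L_red13 g.2.1, hL]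
  exact Subtype.ext h1

theorem finrank_quot : Module.finrank (ZMod 13) (V13 ⧸ S13) = 23 := by
  have h1 := Submodule.finrank_quotient_add_finrank S13
  have h2 : Module.finrank (ZMod 13) S13 = 1 := finrank_span_singleton ubar_ne_zero
  have h3 : Module.finrank (ZMod 13) V13 = 24 := by
    rw [Module.finrank_fintype_fun_eq_card, card_golayPt]
  omega

/-- The second Conway group (the stabilizer in the Leech lattice automorphism group of the short vector fixed in the definitions) is isomorphic to a subgroup of the general linear group of degree 23 over the field with 13 elements: there is an injective homomorphism into it. -/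
theorem result : ∃ f : ↥Cfsg.Spor.Co2 →* GL (Fin 23) (ZMod 13), Function.Injective f := by
  have hfr : Module.finrank (ZMod 13) (V13 ⧸ S13) = Module.finrank (ZMod 13) (Fin 23 → ZMod 13) := by
    rw [finrank_quot, Module.finrank_fin_fun]
  let e : (V13 ⧸ S13) ≃ₗ[ZMod 13] (Fin 23 → ZMod 13) := LinearEquiv.ofFinrankEq _ _ hfr
  let φ : ↥Spor.Co2 →* Matrix (Fin 23) (Fin 23) (ZMod 13) :=
    ((LinearMap.toMatrixAlgEquiv' : Module.End (ZMod 13) (Fin 23 → ZMod 13) ≃ₐ[ZMod 13]
        Matrix (Fin 23) (Fin 23) (ZMod 13)).toRingEquiv.toMonoidHom).comp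
      ((e.conjRingEquiv.toMonoidHom).comp rho)
  refine ⟨φ.toHomUnits, ?_⟩
  rw [injective_iff_map_eq_one]
  intro g hg
  apply rho_faithful
  have h1 : φ g = 1 := by
    have := congrArg Units.val hg
    simpa using this
  have h2 : e.conjRingEquiv (rho g) = 1 := by
    have : (LinearMap.toMatrixAlgEquiv' : Module.End (ZMod 13) (Fin 23 → ZMod 13) ≃ₐ[ZMod 13]
        Matrix (Fin 23) (Fin 23) (ZMod 13)) (e.conjRingEquiv (rho g)) = 1 := h1
    rw [← map_one (LinearMap.toMatrixAlgEquiv' : Module.End (ZMod 13) (Fin 23 → ZMod 13) ≃ₐ[ZMod 13]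
        Matrix (Fin 23) (Fin 23) (ZMod 13))] at this
    exact (LinearMap.toMatrixAlgEquiv' : Module.End (ZMod 13) (Fin 23 → ZMod 13) ≃ₐ[ZMod 13]
        Matrix (Fin 23) (Fin 23) (ZMod 13)).injective this
  rw [← map_one e.conjRingEquiv] at h2
  exact e.conjRingEquiv.injective h2

end Cfsg.Agent.S5546
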