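import Mathlib
import Cfsg.Statements.S5550
import Cfsg.Agent.Lib.Helper27.GolayCoset
import Cfsg.Agent.Lib.Helper29.M24Trans
import Cfsg.Agent.Lib.Helper29.M24Stab
import Cfsg.Agent.Lib.Helper29.M24Hexad
import Cfsg.Agent.Lib.Helper29.M24Dodecad2

set_option autoImplicit false
open Cfsg

namespace Cfsg.Agent.S5550

open Cfsg.Agent.Helper27 Cfsg.Agent.Helper29 Cfsg.Agent.Helper29.M24
open Cfsg.Agent.S0358 (idx)
open scoped Pointwise

/-- The element of the group attached to a word in the generators. -/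
noncomputable def sg (wd : List ℕ) : Equiv.Perm GolayPt := (evalW wd)⁻¹

theorem sg_mem (wd : List ℕ) (h : ∀ j ∈ wd, j < ngen) : sg wd ∈ M24 :=
  Subgroup.inv_mem _ (stdGens_le (evalW_mem_of wd (fun l hl => gP_mem_closure l (h l hl))))

theorem permWord_sg (wd itab : List ℕ) (h : ∀ j ∈ wd, j < ngen)
    (ht : ∀ k < 24, appW wd k = itab.getD k 0) (m : ℕ) :
    permWord (sg wd) (ofMask m) = ofMask (permMask itab m) := by
  apply permWord_ofMask
  intro p
  show idx (evalW wd p) = _
  rw [idx_evalW wd h, ht _ (idx_lt' p)]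

theorem maskList_eq : maskList = (List.range 12).map (fun j => cw (2 ^ j)) := by decide

/-- Does one of the listed permutations move the class of the mask `r`? -/
def chk (itabs : List (List ℕ)) (r : ℕ) : Bool :=
  itabs.any fun it => maskList.any fun M => pop24 ((permMask it r ^^^ r) &&& M) % 2 == 1

def chkAll (itabs : List (List ℕ)) : ℕ → Bool
  | 0 => true
  | n + 1 => (n == 0 || chk itabs n) && chkAll itabs n

theorem chk_of_chkAll (itabs : List (List ℕ)) : ∀ N : ℕ, chkAll itabs N = true →
    ∀ r < N, r ≠ 0 → chk itabs r = true := by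
  intro N
  induction N with
  | zero => intro _ n hn; exact absurd hn (Nat.not_lt_zero n)
  | succ N ih =>
    intro h n hn hn0
    rw [chkAll, Bool.and_eq_true, Bool.or_eq_true] at h
    rcases Nat.lt_succ_iff_lt_or_eq.mp hn with h1 | rfl
    · exact ih h.2 n h1 hn0
    · rcases h.1 with h0 | h0
      · exact absurd (by simpa using h0) hn0
      · exact h0

theorem sub_eq_add' (a b : GolayPt → ZMod 2) : a - b = a + b := by
  funext p
  have key : ∀ x y : ZMod 2, x - y = x + y := by decide
  exact key _ _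

/-- The property to be proved, for a fixed code word `u`. -/
def P (u : GolayPt → ZMod 2) : Prop :=
  ∀ w : GolayPt → ZMod 2, w ∉ golayCode →
    ∃ σ ∈ M24, permWord σ u = u ∧ permWord σ w - w ∉ golayCode

/-- The computational criterion. -/
theorem P_of_chk (M0 : ℕ) (L : List (List ℕ × List ℕ))
    (hL : ∀ x ∈ L, (∀ j ∈ x.1, j < ngen) ∧ (∀ k < 24, appW x.1 k = x.2.getD k 0) ∧
      permMask x.2 M0 = M0)
    (hchk : chkAll (L.map Prod.snd) 4096 = true) : P (ofMask M0) := by
  intro w hw
  obtain ⟨r, hr, c, hc, rfl⟩ := exists_rep w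
  have hr0 : r ≠ 0 := by
    rintro rfl
    apply hw
    rw [ofMask_zero, zero_add]
    exact hc
  have h1 := chk_of_chkAll _ 4096 hchk r hr hr0
  unfold chk at h1
  rw [List.any_eq_true] at h1
  obtain ⟨it, hit, h2⟩ := h1
  rw [List.any_eq_true] at h2
  obtain ⟨M, hM, h3⟩ := h2
  obtain ⟨x, hx, rfl⟩ := List.mem_map.1 hit
  obtain ⟨hx1, hx2, hx3⟩ := hL x hx
  rw [maskList_eq] at hM
  obtain ⟨j, hj, rfl⟩ := List.mem_map.1 hM
  rw [List.mem_range] at hj
  have hσ := sg_mem x.1 hx1
  refine ⟨sg x.1, hσ, ?_, ?_⟩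
  · rw [permWord_sg x.1 x.2 hx1 hx2, hx3]
  · intro hmem
    have e1 : permWord (sg x.1) (ofMask r + c) - (ofMask r + c) =
        ofMask (permMask x.2 r ^^^ r) + (permWord (sg x.1) c - c) := by
      have : permWord (sg x.1) (ofMask r + c) =
          permWord (sg x.1) (ofMask r) + permWord (sg x.1) c := rfl
      rw [this, permWord_sg x.1 x.2 hx1 hx2, ofMask_xor, sub_eq_add', sub_eq_add']
      abel
    rw [e1] at hmem
    have h4 : permWord (sg x.1) c - c ∈ golayCode :=
      Submodule.sub_mem _ (permWord_mem_of_mem_M24 hσ hc) hc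
    have h5 : ofMask (permMask x.2 r ^^^ r) ∈ golayCode := by
      have := Submodule.sub_mem _ hmem h4
      rwa [add_sub_cancel_right] at this
    have hlt : permMask x.2 r ^^^ r < 2 ^ 24 :=
      Nat.xor_lt_two_pow (Nat.ofBits_lt_two_pow _) (lt_trans hr (by norm_num))
    have hj' : 2 ^ j < 4096 := by
      calc 2 ^ j < 2 ^ 12 := Nat.pow_lt_pow_right (by norm_num) hj
        _ = 4096 := by norm_num
    exact not_mem_of_odd _ hlt (2 ^ j) hj' (by simpa using h3) h5

def octL : List (List ℕ × List ℕ) :=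
  [([8], [0, 1, 2, 3, 10, 17, 21, 7, 22, 18, 12, 13, 4, 15, 5, 11, 9, 14, 16, 6, 8, 19, 20, 23]),
   ([1, 11, 0, 3, 0],
     [3, 2, 17, 14, 21, 23, 18, 9, 4, 20, 11, 6, 13, 16, 5, 8, 7, 1, 19, 15, 10, 12, 22, 0])]

def dodL : List (List ℕ × List ℕ) :=
  [([2], [0, 18, 6, 3, 2, 21, 1, 5, 16, 12, 7, 19, 8, 9, 17, 15, 13, 11, 4, 22, 10, 20, 14, 23]),
   ([3, 0, 10, 4, 1, 0],
     [4, 18, 16, 2, 6, 17, 9, 20, 1, 12, 5, 10, 13, 0, 22, 21, 8, 15, 3, 7, 14, 11, 23, 19])]

set_option maxRecDepth 100000 in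
theorem octL_ok : ∀ x ∈ octL, (∀ j ∈ x.1, j < ngen) ∧ (∀ k < 24, appW x.1 k = x.2.getD k 0) ∧
    permMask x.2 octMask = octMask := by decide +kernel

set_option maxRecDepth 100000 in
theorem dodL_ok : ∀ x ∈ dodL, (∀ j ∈ x.1, j < ngen) ∧ (∀ k < 24, appW x.1 k = x.2.getD k 0) ∧
    permMask x.2 (cw 1) = cw 1 := by decide +kernel

set_option maxRecDepth 1000000 in
theorem octL_chk : chkAll (octL.map Prod.snd) 4096 = true := by decide +kernel

set_option maxRecDepth 1000000 in
theorem dodL_chk : chkAll (dodL.map Prod.snd) 4096 = true := by decide +kernel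

theorem P_oct : P (ofMask octMask) := P_of_chk octMask octL octL_ok octL_chk

theorem P_dod : P (ofMask (cw 1)) := P_of_chk (cw 1) dodL dodL_ok dodL_chk

theorem P_zero : P 0 := by
  intro w hw
  obtain ⟨σ, hσ, -, h⟩ := P_oct w hw
  exact ⟨σ, hσ, rfl, h⟩

theorem P_add_one {u : GolayPt → ZMod 2} (h : P u) : P (u + 1) := by
  intro w hw
  obtain ⟨σ, hσ, h1, h2⟩ := h w hw
  refine ⟨σ, hσ, ?_, h2⟩
  have : permWord σ (u + 1) = permWord σ u + 1 := rfl
  rw [this, h1]

theorem P_conj {u : GolayPt → ZMod 2} (h : P u) {g : Equiv.Perm GolayPt} (hg : g ∈ M24) :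
    P (permWord g u) := by
  intro w hw
  have hg' : g⁻¹ ∈ M24 := Subgroup.inv_mem _ hg
  have hw' : permWord g⁻¹ w ∉ golayCode := by
    intro hmem
    apply hw
    have := permWord_mem_of_mem_M24 hg hmem
    rwa [permWord_permWord_inv] at this
  obtain ⟨σ, hσ, h1, h2⟩ := h _ hw'
  refine ⟨g * σ * g⁻¹, Subgroup.mul_mem _ (Subgroup.mul_mem _ hg hσ) hg', ?_, ?_⟩
  · rw [permWord_mul, permWord_mul, permWord_inv_permWord, h1]
  · intro hmem
    apply h2
    have e : permWord g⁻¹ (permWord (g * σ * g⁻¹) w - w) =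
        permWord σ (permWord g⁻¹ w) - permWord g⁻¹ w := by
      have e1 : permWord g⁻¹ (permWord (g * σ * g⁻¹) w - w) =
          permWord g⁻¹ (permWord (g * σ * g⁻¹) w) - permWord g⁻¹ w := rfl
      rw [e1, permWord_mul, permWord_mul, permWord_inv_permWord]
    rw [← e]
    exact permWord_mem_of_mem_M24 hg' hmem

theorem card_support₂_add_one (u : GolayPt → ZMod 2) :
    (support₂ (u + 1)).card = 24 - (support₂ u).card := by
  have h : support₂ (u + 1) = (support₂ u)ᶜ := by
    ext p
    unfold support₂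
    simp only [Finset.mem_filter, Finset.mem_univ, true_and, Finset.mem_compl, Pi.add_apply,
      Pi.one_apply, not_not]
    have key : ∀ a : ZMod 2, a + 1 ≠ 0 ↔ a = 0 := by decide
    exact key _
  rw [h, Finset.card_compl]
  rfl

theorem add_one_add_one (u : GolayPt → ZMod 2) : u + 1 + 1 = u := by
  funext p
  have key : ∀ a : ZMod 2, a + 1 + 1 = a := by decide
  exact key _

theorem P_of_card_eight {u : GolayPt → ZMod 2} (hu : u ∈ golayCode)
    (h : (support₂ u).card = 8) : P u := by
  have ho : support₂ u ∈ octads := ⟨⟨u, hu, rfl⟩, h⟩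
  obtain ⟨g, hg, hgo⟩ := octad_transitive oct0 (support₂ u) oct0_mem ho
  have : u = permWord g (ofMask octMask) := by
    apply support₂_injective
    rw [support₂_permWord, ← maskSet_eq_support₂]
    exact hgo.symm
  rw [this]
  exact P_conj P_oct hg

theorem P_of_card_twelve {u : GolayPt → ZMod 2} (hu : u ∈ golayCode)
    (h : (support₂ u).card = 12) : P u := by
  have ho : support₂ u ∈ dodecads := ⟨⟨u, hu, rfl⟩, h⟩
  obtain ⟨g, hgo⟩ := dodecad_transitive dod0 (support₂ u) dod0_mem ho
  have : u = permWord (g : Equiv.Perm GolayPt) (ofMask (cw 1)) := by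
    apply support₂_injective
    rw [support₂_permWord, ← maskSet_eq_support₂]
    exact hgo.symm
  rw [this]
  exact P_conj P_dod g.2

theorem P_all {u : GolayPt → ZMod 2} (hu : u ∈ golayCode) : P u := by
  rcases golay_weight hu with h | h | h | h | h
  · rw [Finset.card_eq_zero, support₂_eq_empty_iff] at h
    rw [h]
    exact P_zero
  · exact P_of_card_eight hu h
  · exact P_of_card_twelve hu h
  · have h1 : (support₂ (u + 1)).card = 8 := by rw [card_support₂_add_one, h]
    have h2 := P_add_one (P_of_card_eight (Submodule.add_mem _ hu one_mem_golayCode) h1)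
    rwa [add_one_add_one] at h2
  · have h1 : (support₂ (u + 1)).card = 0 := by rw [card_support₂_add_one, h]
    rw [Finset.card_eq_zero, support₂_eq_empty_iff] at h1
    have h2 := P_add_one P_zero
    rw [← h1, add_one_add_one] at h2
    exact h2

/-- Let u be a word of the length-24 binary Golay code of the definitions (possibly zero or all-ones) and w any binary word of length 24 outside the code. Then some automorphism of the code (a coordinate permutation preserving it) fixes u but moves w to a word not congruent to w modulo the code: the stabilizer of a codeword fixes no non-zero element of the quotient of the space of all words by the code. -/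
theorem result (u : (Cfsg.GolayPt → ZMod 2)) (hu : u ∈ Cfsg.golayCode) (w : (Cfsg.GolayPt → ZMod 2)) (hw : w ∉ Cfsg.golayCode) : ∃ σ ∈ Cfsg.M24, (fun p => u (σ.symm p)) = u ∧ (fun p => w (σ.symm p)) - w ∉ Cfsg.golayCode :=
  P_all hu w hw

end Cfsg.Agent.S5550
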