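import Mathlib
import Cfsg.Statements.S5548
import Cfsg.Agent.Lib.Helper27.GolayShift
import Cfsg.Agent.S5550
import Cfsg.Agent.S0372

set_option autoImplicit false
open Cfsg

namespace Cfsg.Agent.S5548

open Cfsg.Agent.Helper27 Cfsg.Agent.Helper29 Cfsg.Agent.Helper29.M24
open Cfsg.Agent.S0358 (idx)
open Cfsg.Agent.S5393 (rot rotAcc)
open Cfsg.Agent.S5550 (sg sg_mem permWord_sg)

/-- Exponents of the three orthogonal idempotents in the shift. -/
def Pθ : ℕ := 8388607
def PA : ℕ := 8047777
def PB : ℕ := 340831

/-- The map `x ↦ -x`. -/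
def mu : Equiv.Perm GolayPt := Equiv.optionCongr (Equiv.neg (ZMod 23))

def itabMu : List ℕ :=
  [0, 22, 21, 20, 19, 18, 17, 16, 15, 14, 13, 12, 11, 10, 9, 8, 7, 6, 5, 4, 3, 2, 1, 23]

theorem itabMu_spec : ∀ p : GolayPt, idx (mu.symm p) = itabMu.getD (idx p) 0 := by decide

theorem permWord_mu_ofMask (m : ℕ) : permWord mu (ofMask m) = ofMask (permMask itabMu m) :=
  permWord_ofMask _ _ itabMu_spec m

theorem mu_mu (w : GolayPt → ZMod 2) : permWord mu (permWord mu w) = w := by
  funext p
  show w (mu.symm (mu.symm p)) = w p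
  congr 1
  cases p with
  | none => rfl
  | some x => simp [mu, Equiv.optionCongr]

theorem mu_trn_aux : ∀ t : ZMod 23, ∀ p : GolayPt,
    (trn t).symm (mu.symm p) = mu.symm ((trn (-t)).symm p) := by decide

theorem mu_trn (t : ZMod 23) (w : GolayPt → ZMod 2) :
    permWord mu (permWord (trn t) w) = permWord (trn (-t)) (permWord mu w) := by
  funext p
  show w ((trn t).symm (mu.symm p)) = w (mu.symm ((trn (-t)).symm p))
  rw [mu_trn_aux]

/-- Membership of a mask in the code, by systematic encoding. -/
def inC (m : ℕ) : Bool := m == cw (enc (m >>> 12))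

theorem ofMask_mem_of_inC {m : ℕ} (h : inC m = true) : ofMask m ∈ golayCode := by
  unfold inC at h
  rw [beq_iff_eq] at h
  rw [h]
  exact cw_mem _

def it1 : List ℕ :=
  [23, 22, 11, 15, 17, 9, 19, 13, 20, 5, 16, 2, 21, 7, 18, 3, 10, 4, 14, 6, 8, 12, 1, 0]

def it2 : List ℕ :=
  [0, 18, 6, 3, 2, 21, 1, 5, 16, 12, 7, 19, 8, 9, 17, 15, 13, 11, 4, 22, 10, 20, 14, 23]

theorem it1_ok : (∀ j ∈ [1], j < ngen) ∧ ∀ k < 24, appW [1] k = it1.getD k 0 := by decide +kernel

theorem it2_ok : (∀ j ∈ [2], j < ngen) ∧ ∀ k < 24, appW [2] k = it2.getD k 0 := by decide +kernel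

set_option maxRecDepth 100000 in
theorem D1 : ∀ k < 24,
    rotAcc 23 Pθ (2 ^ k) ^^^ rotAcc 23 PA (2 ^ k) ^^^ rotAcc 23 PB (2 ^ k) = 2 ^ k := by
  decide +kernel

set_option maxRecDepth 100000 in
theorem D2 : ∀ k < 24, inC (rotAcc 23 PB (2 ^ k)) = true := by decide +kernel

set_option maxRecDepth 100000 in
theorem D3 : ∀ k < 24, inC (permMask itabMu (rotAcc 23 PA (2 ^ k))) = true := by decide +kernel

set_option maxRecDepth 100000 in
theorem D4 : ∀ k < 24, rotAcc 23 Pθ (2 ^ k) = if k = 23 then 8388608 else 8388607 := by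
  decide +kernel

set_option maxRecDepth 100000 in
theorem D5 : rotAcc 23 PB (permMask it2 (rotAcc 23 PA 2)) = 1686298 ∧ inC 1686298 = true := by
  decide +kernel

set_option maxRecDepth 100000 in
theorem D6 : ∀ k < 23, rotAcc 23 (2 ^ k) 1 = 2 ^ k := by decide +kernel

set_option maxRecDepth 100000 in
theorem D7 : rotAcc 23 Pθ ((8388607) ^^^ permMask it1 (8388607)) = 16777215 ∧
    permMask it1 (8388608) = 1 ∧ (8388607) ^^^ 16777215 = 8388608 := by decide +kernel

theorem decomp (w : GolayPt → ZMod 2) :
    w = polyAct 23 Pθ w + polyAct 23 PA w + polyAct 23 PB w := by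
  have : (LinearMap.id : (GolayPt → ZMod 2) →ₗ[ZMod 2] (GolayPt → ZMod 2)) =
      polyAct 23 Pθ + polyAct 23 PA + polyAct 23 PB := by
    apply lin_ext
    intro k hk
    rw [LinearMap.id_apply, LinearMap.add_apply, LinearMap.add_apply, polyAct_ofMask,
      polyAct_ofMask, polyAct_ofMask, ← ofMask_xor, ← ofMask_xor, D1 k hk]
  exact LinearMap.congr_fun this w

theorem polyB_mem (w : GolayPt → ZMod 2) : polyAct 23 PB w ∈ golayCode :=
  mem_of_basis _ _ (fun k hk => by rw [polyAct_ofMask]; exact ofMask_mem_of_inC (D2 k hk)) w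

theorem polyA_mem (w : GolayPt → ZMod 2) : permWord mu (polyAct 23 PA w) ∈ golayCode := by
  have := mem_of_basis (polyAct 23 PA) (golayCode.comap (permWordLin mu)) (fun k hk => by
    rw [Submodule.mem_comap, permWordLin_apply, polyAct_ofMask, permWord_mu_ofMask]
    exact ofMask_mem_of_inC (D3 k hk)) w
  exact this

/-- The sum of all powers of the shift, in closed form. -/
noncomputable def thetaLin : (GolayPt → ZMod 2) →ₗ[ZMod 2] (GolayPt → ZMod 2) :=
  (∑ p : GolayPt, (LinearMap.proj p : (GolayPt → ZMod 2) →ₗ[ZMod 2] ZMod 2)).smulRight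
      (ofMask (8388607)) +
    (LinearMap.proj none : (GolayPt → ZMod 2) →ₗ[ZMod 2] ZMod 2).smulRight
      (1 : GolayPt → ZMod 2)

theorem thetaLin_apply (w : GolayPt → ZMod 2) :
    thetaLin w = (∑ p, w p) • ofMask (8388607) + (w none) • (1 : GolayPt → ZMod 2) := by
  unfold thetaLin
  simp [LinearMap.smulRight_apply, LinearMap.sum_apply]

theorem ofMask_all : ofMask 16777215 = 1 := by
  rw [one_eq_ofMask]; congr 1

theorem theta_single (p : GolayPt) :
    polyAct 23 Pθ (Pi.single p 1) = thetaLin (Pi.single p 1) := by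
  have hL : polyAct 23 Pθ (Pi.single p 1) =
      ofMask (if idx p = 23 then 8388608 else 8388607) := by
    rw [← ofMask_two_pow, polyAct_ofMask, D4 _ (idx_lt' p)]
  have hR : thetaLin (Pi.single p 1) =
      ofMask 8388607 + ((Pi.single p (1 : ZMod 2) : GolayPt → ZMod 2) none) • (1 : GolayPt → ZMod 2) := by
    rw [thetaLin_apply]
    have : ∑ q, (Pi.single p (1 : ZMod 2) : GolayPt → ZMod 2) q = 1 := by
      rw [Finset.sum_pi_single' p (1 : ZMod 2) Finset.univ, if_pos (Finset.mem_univ p)]
    rw [this, one_smul]
  rw [hL, hR]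
  cases p with
  | none =>
    have : idx (none : GolayPt) = 23 := rfl
    rw [if_pos this, Pi.single_eq_same, one_smul, ← ofMask_all, ← ofMask_xor, D7.2.2]
  | some x =>
    have : idx (some x : GolayPt) ≠ 23 := by
      show x.val ≠ 23
      exact ne_of_lt x.val_lt
    rw [if_neg this, Pi.single_eq_of_ne (by simp), zero_smul, add_zero]

theorem theta_eq : polyAct 23 Pθ = thetaLin := by
  apply LinearMap.pi_ext
  intro p x
  have hx : (Pi.single p x : GolayPt → ZMod 2) = x • Pi.single p 1 := by
    rw [← Pi.single_smul, smul_eq_mul, mul_one]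
  rw [hx, map_smul, map_smul, theta_single]

theorem zmod2_ne_zero {a : ZMod 2} (h : a ≠ 0) : a = 1 := by
  revert a; decide

theorem exists_move_to_none (p : GolayPt) : ∃ g ∈ M24, g.symm none = p := by
  cases p with
  | none => exact ⟨1, Subgroup.one_mem _, rfl⟩
  | some x =>
    refine ⟨projInv * trn (-x), Subgroup.mul_mem _ Cfsg.Agent.S0372.result
      (Cfsg.Agent.S0370.shift_mem _), ?_⟩
    rw [Equiv.symm_apply_eq]
    show none = projInv (trn (-x) (some x))
    have : trn (-x) (some x) = some 0 := by
      simp [trn, Equiv.optionCongr]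
    rw [this]
    rfl

theorem theta_mem_span_one {w : GolayPt → ZMod 2} (hw : ∑ p, w p = 0) :
    polyAct 23 Pθ w ∈ Submodule.span (ZMod 2) {fun _ : GolayPt => (1 : ZMod 2)} := by
  rw [theta_eq, thetaLin_apply, hw, zero_smul, zero_add]
  exact Submodule.smul_mem _ _ (Submodule.subset_span rfl)

theorem span_one_le_code :
    Submodule.span (ZMod 2) {fun _ : GolayPt => (1 : ZMod 2)} ≤ golayCode := by
  rw [Submodule.span_le]
  intro x hx
  rw [Set.mem_singleton_iff] at hx
  rw [hx]
  exact one_mem_golayCode

/-- For the automorphism group of the length-24 binary Golay code of the definitions (the Mathieu group of degree 24) acting on binary words of length 24 by permuting coordinates, the only invariant subspaces of the space of all words are: zero, the span of the all-ones word, the code itself, the even-weight words, and the whole space. (So the permutation module has a unique composition series.) -/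
theorem result (W : Submodule (ZMod 2) (Cfsg.GolayPt → ZMod 2)) (hW : ∀ σ ∈ Cfsg.M24, ∀ w ∈ W, (fun p => w (σ.symm p)) ∈ W) : W = ⊥ ∨ W = Submodule.span (ZMod 2) {fun _ => (1 : ZMod 2)} ∨ W = Cfsg.golayCode ∨ (W : Set (Cfsg.GolayPt → ZMod 2)) = {w | ∑ p, w p = 0} ∨ W = ⊤ := by
  have hinv : ∀ σ ∈ M24, ∀ w ∈ W, permWord σ w ∈ W := hW
  have hT : ∀ t : ZMod 23, ∀ w ∈ W, permWord (trn t) w ∈ W :=
    fun t => hinv _ (Cfsg.Agent.S0370.shift_mem t)
  have hs := hT 1
  have hθ : ∀ w ∈ W, (∑ p, w p) • ofMask 8388607 + (w none) • (1 : GolayPt → ZMod 2) ∈ W := by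
    intro w hw
    have := polyAct_mem W hs 23 Pθ w hw
    rwa [theta_eq, thetaLin_apply] at this
  have h1sg : sg [1] ∈ M24 := sg_mem [1] it1_ok.1
  have h2sg : sg [2] ∈ M24 := sg_mem [2] it2_ok.1
  by_cases hodd : ∃ w ∈ W, ∑ p, w p ≠ 0
  · -- an odd word: everything
    right; right; right; right
    obtain ⟨w, hw, hsum⟩ := hodd
    have hN1 := hθ w hw
    rw [zmod2_ne_zero hsum, one_smul] at hN1
    have hinf : ofMask 8388608 ∈ W := by
      by_cases h0 : w none = 0
      · rw [h0, zero_smul, add_zero] at hN1
        have h2 := hinv _ h1sg _ hN1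
        rw [permWord_sg [1] it1 it1_ok.1 it1_ok.2] at h2
        have h3 := add_mem hN1 h2
        rw [← ofMask_xor] at h3
        have h4 := polyAct_mem W hs 23 Pθ _ h3
        rw [polyAct_ofMask, D7.1] at h4
        have h5 := add_mem hN1 h4
        rwa [← ofMask_xor, D7.2.2] at h5
      · rw [zmod2_ne_zero h0, one_smul, ← ofMask_all, ← ofMask_xor, D7.2.2] at hN1
        exact hN1
    have h0 : ofMask 1 ∈ W := by
      have h2 := hinv _ h1sg _ hinf
      rwa [permWord_sg [1] it1 it1_ok.1 it1_ok.2, D7.2.1] at h2
    have hk : ∀ k < 24, ofMask (2 ^ k) ∈ W := by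
      intro k hk
      by_cases hk' : k < 23
      · have := polyAct_mem W hs 23 (2 ^ k) _ h0
        rwa [polyAct_ofMask, D6 k hk'] at this
      · have : k = 23 := by omega
        subst this
        exact hinf
    rw [eq_top_iff]
    intro w _
    exact mem_of_basis LinearMap.id W hk w
  · push_neg at hodd
    by_cases hbot : W = ⊥
    · left; exact hbot
    right
    have h1 : (1 : GolayPt → ZMod 2) ∈ W := by
      obtain ⟨w, hw, hw0⟩ := Submodule.exists_mem_ne_zero_of_ne_bot hbot
      obtain ⟨p, hp⟩ : ∃ p, w p ≠ 0 := by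
        by_contra h
        push_neg at h
        exact hw0 (funext h)
      obtain ⟨g, hg, hgp⟩ := exists_move_to_none p
      have hw' := hinv g hg w hw
      have h2 := hθ _ hw'
      rw [hodd _ hw', zero_smul, zero_add] at h2
      have h3 : permWord g w none = 1 := by
        show w (g.symm none) = 1
        rw [hgp]
        exact zmod2_ne_zero hp
      rwa [h3, one_smul] at h2
    have h1' : Submodule.span (ZMod 2) {fun _ : GolayPt => (1 : ZMod 2)} ≤ W := by
      rw [Submodule.span_le]
      intro x hx
      rw [Set.mem_singleton_iff] at hx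
      rw [hx]
      exact h1
    by_cases hμ : ∃ v ∈ W, permWord mu v ∈ golayCode ∧
        v ∉ Submodule.span (ZMod 2) {fun _ : GolayPt => (1 : ZMod 2)}
    · -- the even words
      right; right; left
      have hCμ : ∀ v : GolayPt → ZMod 2, permWord mu v ∈ golayCode → v ∈ W := by
        obtain ⟨v, hvW, hvC, hvn⟩ := hμ
        have hirr := trans_irred (W.comap (permWordLin mu)) (show permWord mu 1 ∈ W from h1)
          (by
            intro t w hw
            rw [Submodule.mem_comap, permWordLin_apply] at hw ⊢
            rw [mu_trn]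
            exact hT _ _ hw)
          (w := permWord mu v)
          (by rw [Submodule.mem_comap, permWordLin_apply, mu_mu]; exact hvW) hvC
          (by
            intro hmem
            apply hvn
            rw [mem_span_one_iff] at hmem ⊢
            rcases hmem with h | h
            · left
              have := congrArg (permWord mu) h
              rwa [mu_mu] at this
            · right
              have := congrArg (permWord mu) h
              rwa [mu_mu] at this)
        intro v' hv'
        have := hirr hv'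
        rwa [Submodule.mem_comap, permWordLin_apply, mu_mu] at this
      have hC : golayCode ≤ W := by
        have hv1 : ofMask (rotAcc 23 PA 2) ∈ W := by
          apply hCμ
          rw [permWord_mu_ofMask]
          exact ofMask_mem_of_inC (D3 1 (by norm_num))
        have h2 := hinv _ h2sg _ hv1
        rw [permWord_sg [2] it2 it2_ok.1 it2_ok.2] at h2
        have h3 := polyAct_mem W hs 23 PB _ h2
        rw [polyAct_ofMask, D5.1] at h3
        refine trans_irred W h1 hT h3 (ofMask_mem_of_inC D5.2) ?_
        rw [mem_span_one_iff]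
        rintro (h | h)
        · rw [← ofMask_zero] at h
          exact absurd (ofMask_inj (by norm_num) (by norm_num) h) (by norm_num)
        · rw [← ofMask_all] at h
          exact absurd (ofMask_inj (by norm_num) (by norm_num) h) (by norm_num)
      ext w
      constructor
      · intro hw; exact hodd w hw
      · intro hw
        have hw' : ∑ p, w p = 0 := hw
        show w ∈ W
        rw [decomp w]
        exact add_mem (add_mem (h1' (theta_mem_span_one hw')) (hCμ _ (polyA_mem w)))
          (hC (polyB_mem w))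
    · push_neg at hμ
      by_cases hC : ∃ v ∈ W, v ∈ golayCode ∧
          v ∉ Submodule.span (ZMod 2) {fun _ : GolayPt => (1 : ZMod 2)}
      · right; left
        obtain ⟨v, hvW, hvC, hvn⟩ := hC
        have hCW := trans_irred W h1 hT hvW hvC hvn
        apply le_antisymm _ hCW
        intro w hw
        rw [decomp w]
        exact add_mem (add_mem (span_one_le_code (theta_mem_span_one (hodd w hw)))
          (span_one_le_code (hμ _ (polyAct_mem W hs 23 PA w hw) (polyA_mem w))))
          (polyB_mem w)
      · push_neg at hC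
        left
        apply le_antisymm _ h1'
        intro w hw
        rw [decomp w]
        exact add_mem (add_mem (theta_mem_span_one (hodd w hw))
          (hμ _ (polyAct_mem W hs 23 PA w hw) (polyA_mem w)))
          (hC _ (polyAct_mem W hs 23 PB w hw) (polyB_mem w))

end Cfsg.Agent.S5548
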