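import Mathlib
import Cfsg.Statements.S5551
import Cfsg.Agent.Lib.Helper27.Leech

set_option autoImplicit false
open Cfsg

namespace Cfsg.Agent.S5551

open Cfsg.Agent.Helper27

theorem sqNorm_neg (v : GolayPt → ℤ) : sqNorm (-v) = sqNorm v := by
  unfold sqNorm
  exact Finset.sum_congr rfl (fun i _ => by rw [Pi.neg_apply]; ring)

theorem sqNorm_two_mul (z : GolayPt → ℤ) (x : GolayPt → ℤ) (h : ∀ i, x i = 2 * z i) :
    sqNorm x = 4 * sqNorm z := by
  unfold sqNorm
  rw [Finset.mul_sum]
  exact Finset.sum_congr rfl (fun i _ => by rw [h i]; ring)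

theorem parallelogram (v w : GolayPt → ℤ) :
    sqNorm (v - w) + sqNorm (v + w) = 2 * sqNorm v + 2 * sqNorm w := by
  unfold sqNorm
  rw [Finset.mul_sum, Finset.mul_sum, ← Finset.sum_add_distrib, ← Finset.sum_add_distrib]
  exact Finset.sum_congr rfl (fun i _ => by rw [Pi.sub_apply, Pi.add_apply]; ring)

/-- In the Leech lattice of the definitions (integer coordinates, minimal squared length 32), let v and w be non-zero lattice vectors of squared length at most 64 that are congruent modulo twice the lattice. Then they have the same squared length, and if that length is less than 64 then w = v or w = −v. (So a class that contains a non-zero vector of squared length at most 64 has a well-defined type 2, 3 or 4, and a class of type 2 or 3 contains no such vector other than v and −v.) -/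
theorem result (v w : Cfsg.GolayPt → ℤ) (hv : v ∈ Cfsg.leechLattice) (hw : w ∈ Cfsg.leechLattice) (hv0 : v ≠ 0) (hw0 : w ≠ 0) (hvn : Cfsg.sqNorm v ≤ 64) (hwn : Cfsg.sqNorm w ≤ 64) (hc : ∃ z ∈ Cfsg.leechLattice, v - w = 2 • z) : Cfsg.sqNorm v = Cfsg.sqNorm w ∧ (Cfsg.sqNorm v < 64 → w = v ∨ w = -v) := by
  obtain ⟨z, hz, hvw⟩ := hc
  by_cases h1 : w = v
  · subst h1
    exact ⟨rfl, fun _ => Or.inl rfl⟩
  by_cases h2 : w = -v
  · subst h2
    exact ⟨(sqNorm_neg v).symm, fun _ => Or.inr rfl⟩
  have hz0 : z ≠ 0 := by
    rintro rfl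
    apply h1
    have : v - w = 0 := by rw [hvw]; simp
    exact (sub_eq_zero.mp this).symm
  have hzw : z + w ∈ leechLattice := add_mem hz hw
  have hzw0 : z + w ≠ 0 := by
    intro h
    apply h2
    have hvw' : v + w = 2 • (z + w) := by
      have : v + w = (v - w) + 2 • w := by
        rw [two_nsmul]; abel
      rw [this, hvw, smul_add]
    rw [h] at hvw'
    simp only [smul_zero] at hvw'
    exact eq_neg_of_add_eq_zero_right hvw'
  have e1 : sqNorm (v - w) = 4 * sqNorm z := by
    apply sqNorm_two_mul
    intro i
    rw [hvw]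
    simp
  have e2 : sqNorm (v + w) = 4 * sqNorm (z + w) := by
    apply sqNorm_two_mul
    intro i
    have : v + w = (v - w) + 2 • w := by
      rw [two_nsmul]; abel
    rw [this, hvw]
    simp
    ring
  have n1 := leech_min_norm hz hz0
  have n2 := leech_min_norm hzw hzw0
  have par := parallelogram v w
  rw [e1, e2] at par
  constructor
  · omega
  · intro hlt
    omega

end Cfsg.Agent.S5551
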