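import Mathlib
import Cfsg.Statements.S5552
import Cfsg.Agent.Lib.Helper27.LeechTrans2
import Cfsg.Agent.Lib.Helper27.LeechMod2c

set_option autoImplicit false
open Cfsg

namespace Cfsg.Agent.S5552

open Cfsg.Agent.Helper27

/-- Lattice vectors from raw vectors. -/
def mk (x : GolayPt → ℤ) (hx : x ∈ leechLattice) : leechLattice := ⟨x, hx⟩

/-- `4 e_i + 4 s e_j` as a lattice vector. -/
def v44 (i j : GolayPt) (s : ℤ) (hs : s = 1 ∨ s = -1) : leechLattice :=
  ⟨vec44 i j s, vec44_mem i j s hs⟩

/-- Odd vectors with `-3` on `J` and `1` elsewhere. -/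
def vOdd (J3 J5 : Finset GolayPt) (hd : Disjoint J3 J5) (hodd : Odd (J3.card + J5.card)) :
    leechLattice :=
  ⟨oddVec J3 J5 0, oddVec_mem hd (zero_mem _) hodd⟩

theorem dot_dvd {y z : GolayPt → ℤ} (hy : y ∈ leechLattice) (hz : z ∈ leechLattice) :
    (8 : ℤ) ∣ dotInt y z := by
  have h1 := sqNorm_dvd_of_mem hy
  have h2 := sqNorm_dvd_of_mem hz
  have h3 := sqNorm_dvd_of_mem (add_mem hy hz)
  rw [sqNorm_add] at h3
  omega

theorem sqNorm_coset {y z : GolayPt → ℤ} (hy : y ∈ leechLattice) (hz : z ∈ leechLattice) :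
    (32 : ℤ) ∣ sqNorm (y + 2 • z) - sqNorm y := by
  rw [sqNorm_add, sqNorm_two_nsmul]
  have h1 := sqNorm_dvd_of_mem hz
  have h2 : dotInt y (2 • z) = 2 * dotInt y z := by
    unfold dotInt
    rw [Finset.mul_sum]
    apply Finset.sum_congr rfl
    intro i _
    rw [Pi.smul_apply, nsmul_eq_mul]
    push_cast
    ring
  have h3 := dot_dvd hy hz
  rw [h2]
  omega

/-- On the Leech lattice of the definitions, let Q be a function to the field with two elements that is constant on cosets of twice the lattice, is a quadratic form there (Q(u+v+w) + Q(u) + Q(v) + Q(w) = Q(u+v) + Q(u+w) + Q(v+w) for all u, v, w), is invariant under every lattice automorphism, and is not identically zero. Then Q(v) is the squared length of v divided by 16, reduced modulo 2, for every lattice vector v (squared lengths of lattice vectors are multiples of 16). -/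
theorem result (Q : ↥Cfsg.leechLattice → ZMod 2) (hcoset : ∀ v w : ↥Cfsg.leechLattice, Q (v + (w + w)) = Q v) (hquad : ∀ u v w : ↥Cfsg.leechLattice, Q (u + v + w) + Q u + Q v + Q w = Q (u + v) + Q (u + w) + Q (v + w)) (hinv : ∀ (g : ↥Cfsg.Co0) (v : ↥Cfsg.leechLattice), Q (g • v) = Q v) (hne : ∃ v : ↥Cfsg.leechLattice, Q v ≠ 0) (v : ↥Cfsg.leechLattice) : Q v = ((Cfsg.sqNorm (v : Cfsg.GolayPt → ℤ) / 16 : ℤ) : ZMod 2) := by
  -- constancy on norm classes
  have hc32 : ∀ x y : leechLattice, sqNorm x.1 = 32 → sqNorm y.1 = 32 → Q x = Q y := by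
    intro x y hx hy
    obtain ⟨g, rfl⟩ := coEq_iff_smul.mp (trans_norm32 x.2 y.2 hx hy)
    exact (hinv g x).symm
  have hc48 : ∀ x y : leechLattice, sqNorm x.1 = 48 → sqNorm y.1 = 48 → Q x = Q y := by
    intro x y hx hy
    obtain ⟨g, rfl⟩ := coEq_iff_smul.mp (trans_norm48 x.2 y.2 hx hy)
    exact (hinv g x).symm
  have hc64 : ∀ x y : leechLattice, sqNorm x.1 = 64 → sqNorm y.1 = 64 → Q x = Q y := by
    intro x y hx hy
    obtain ⟨g, rfl⟩ := coEq_iff_smul.mp (trans_norm64 x.2 y.2 hx hy)
    exact (hinv g x).symm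
  have hQ0 : Q 0 = 0 := by
    have := hquad 0 0 0
    simp only [add_zero] at this
    have key : ∀ t : ZMod 2, t + t + t + t = t + t + t → t = 0 := by decide
    exact key _ this
  -- the explicit vectors
  set a := v44 none (some 0) 1 (Or.inl rfl) with ha
  set b := v44 none (some 0) (-1) (Or.inr rfl) with hb
  set c := v44 (some 0) (some 1) 1 (Or.inl rfl) with hc
  set w := v44 none (some 1) 1 (Or.inl rfl) with hw
  set m1 := v44 none (some 1) (-1) (Or.inr rfl) with hm1
  set m2 := v44 (some 1) (some 0) (-1) (Or.inr rfl) with hm2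
  set vo := vOdd {some 0} ∅ (Finset.disjoint_empty_right _) (by decide) with hvo
  set t1 := vOdd {some 1} ∅ (Finset.disjoint_empty_right _) (by decide) with ht1
  set t3 := vOdd {none, some 0, some 1} ∅ (Finset.disjoint_empty_right _) (by decide) with ht3
  set t5 := vOdd ∅ {none} (Finset.disjoint_empty_left _) (by decide) with ht5
  have n_a : sqNorm a.1 = 32 := by decide
  have n_b : sqNorm b.1 = 32 := by decide
  have n_c : sqNorm c.1 = 32 := by decide
  have n_w : sqNorm w.1 = 32 := by decide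
  have n_m1 : sqNorm m1.1 = 32 := by decide
  have n_m2 : sqNorm m2.1 = 32 := by decide
  have n_vo : sqNorm vo.1 = 32 := by decide
  have n_t1 : sqNorm t1.1 = 32 := by decide
  have n_t3 : sqNorm t3.1 = 48 := by decide
  have n_t5 : sqNorm t5.1 = 48 := by decide
  have n_ab : sqNorm (a + b).1 = 64 := by decide
  -- vector identities
  have e1 : a + c = m1 + (c + c) := by
    apply Subtype.ext; funext k; revert k; decide
  have e2 : b + c = w := by
    apply Subtype.ext; funext k; revert k; decide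
  have e3 : a + b + c = m2 + (a + a) := by
    apply Subtype.ext; funext k; revert k; decide
  have e4 : a + vo = t5 := by
    apply Subtype.ext; funext k; revert k; decide
  have e5 : a + w = m2 + (a + a) := by
    apply Subtype.ext; funext k; revert k; decide
  have e6 : vo + w = t3 + (w + w) := by
    apply Subtype.ext; funext k; revert k; decide
  have e7 : a + vo + w = t1 + (w + w) := by
    apply Subtype.ext; funext k; revert k; decide
  -- first relation: the value on norm 64 vanishes
  have r1 := hquad a b c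
  rw [e3, hcoset, e1, hcoset, e2, hc32 m2 a n_m2 n_a, hc32 b a n_b n_a, hc32 c a n_c n_a,
    hc32 m1 a n_m1 n_a, hc32 w a n_w n_a] at r1
  have q4 : Q (a + b) = 0 := by
    have key : ∀ s t : ZMod 2, s + s + s + s = t + s + s → t = 0 := by decide
    exact key _ _ r1
  -- second relation: the value on norm 32 vanishes
  have r2 := hquad a vo w
  rw [e7, hcoset, e4, e5, hcoset, e6, hcoset, hc32 t1 a n_t1 n_a, hc32 vo a n_vo n_a,
    hc32 w a n_w n_a, hc32 m2 a n_m2 n_a, hc48 t3 t5 n_t3 n_t5] at r2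
  have q2 : Q a = 0 := by
    have key : ∀ s t : ZMod 2, s + s + s + s = t + s + t → s = 0 := by decide
    exact key _ _ r2
  -- values on short vectors
  have hshort : ∀ y : leechLattice, sqNorm y.1 ≤ 64 → (sqNorm y.1 ≠ 48 → Q y = 0) := by
    intro y hy hne48
    have h16 := sqNorm_dvd_of_mem y.2
    by_cases h0 : y = 0
    · rw [h0]; exact hQ0
    · have hmin := leech_min_norm y.2 (fun h => h0 (Subtype.ext h))
      have : sqNorm y.1 = 32 ∨ sqNorm y.1 = 64 := by omega
      rcases this with h | h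
      · rw [hc32 y a h n_a]; exact q2
      · rw [hc64 y (a + b) h n_ab]; exact q4
  have hrep : ∀ x : leechLattice, ∃ y : leechLattice, sqNorm y.1 ≤ 64 ∧ Q x = Q y ∧
      (32 : ℤ) ∣ sqNorm x.1 - sqNorm y.1 := by
    intro x
    obtain ⟨y, hy, hyn, z, hz, hxy⟩ := exists_short_rep x.2
    refine ⟨⟨y, hy⟩, hyn, ?_, ?_⟩
    · have : x = (⟨y, hy⟩ : leechLattice) + ((⟨z, hz⟩ : leechLattice) + ⟨z, hz⟩) := by
        apply Subtype.ext
        show x.1 = y + (z + z)
        rw [← two_smul ℕ z, ← hxy]
        abel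
      rw [this, hcoset]
    · have : x.1 = y + 2 • z := by rw [← hxy]; abel
      rw [this]
      exact sqNorm_coset hy hz
  -- the value on norm 48 is one
  have q3 : ∀ y : leechLattice, sqNorm y.1 = 48 → Q y = 1 := by
    obtain ⟨x, hx⟩ := hne
    obtain ⟨y, hyn, hxy, -⟩ := hrep x
    have h48 : sqNorm y.1 = 48 := by
      by_contra h
      exact hx (hxy.trans (hshort y hyn h))
    have hy1 : Q y = 1 := by
      rw [hxy] at hx
      have key : ∀ t : ZMod 2, t ≠ 0 → t = 1 := by decide
      exact key _ hx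
    intro y' hy'
    rw [hc48 y' y hy' h48]; exact hy1
  -- conclusion
  obtain ⟨y, hyn, hxy, hdiv⟩ := hrep v
  rw [hxy]
  have h16 := sqNorm_dvd_of_mem y.2
  have h16' := sqNorm_dvd_of_mem v.2
  have hcast : ((sqNorm v.1 / 16 : ℤ) : ZMod 2) = ((sqNorm y.1 / 16 : ℤ) : ZMod 2) := by
    rw [ZMod.intCast_eq_intCast_iff_dvd_sub]
    omega
  rw [hcast]
  by_cases h48 : sqNorm y.1 = 48
  · rw [q3 y h48, h48]; decide
  · rw [hshort y hyn h48]
    by_cases h0 : y = 0
    · rw [h0]
      have : sqNorm ((0 : leechLattice) : GolayPt → ℤ) = 0 := sqNorm_zero'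
      rw [this]; decide
    · have hmin := leech_min_norm y.2 (fun h => h0 (Subtype.ext h))
      have : sqNorm y.1 = 32 ∨ sqNorm y.1 = 64 := by omega
      rcases this with h | h <;> rw [h] <;> decide

end Cfsg.Agent.S5552
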