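import Mathlib
import Cfsg.Statements.S5553
import Cfsg.Agent.Lib.Helper27.LeechSing

set_option autoImplicit false
open Cfsg

namespace Cfsg.Agent.S5553

open Cfsg.Agent.Helper27

theorem card_target : Nat.card (ZMod 2 × (Fin 11 → ZMod 2)) = 2 ^ 12 := by
  rw [Nat.card_eq_fintype_card, Fintype.card_prod, Fintype.card_fun, ZMod.card, Fintype.card_fin]
  norm_num

/-- The Leech lattice of the definitions has an additive subgroup A containing twice the lattice, of index 2^12 in the lattice, all of whose vectors have squared length divisible by 32: the invariant quadratic form 'squared length over 16 modulo 2' on the lattice modulo twice the lattice (a 24-dimensional space over the field with two elements) vanishes on a 12-dimensional subspace, so it is of plus type. -/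
theorem result : ∃ A : AddSubgroup (Cfsg.GolayPt → ℤ), A ≤ Cfsg.leechLattice ∧ (∀ v ∈ Cfsg.leechLattice, (2 : ℤ) • v ∈ A) ∧ (A.addSubgroupOf Cfsg.leechLattice).index = 2 ^ 12 ∧ ∀ v ∈ A, (32 : ℤ) ∣ Cfsg.sqNorm v := by
  refine ⟨singHom.ker.map leechLattice.subtype, ?_, ?_, ?_, ?_⟩
  · exact AddSubgroup.map_subtype_le _
  · intro v hv
    refine ⟨⟨v, hv⟩ + ⟨v, hv⟩, ?_, ?_⟩
    · show singHom (⟨v, hv⟩ + ⟨v, hv⟩) = 0
      rw [map_add]
      exact CharTwo.add_self_eq_zero _
    · show v + v = (2 : ℤ) • v
      rw [two_smul]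
  · have h1 : (singHom.ker.map leechLattice.subtype).addSubgroupOf leechLattice = singHom.ker := by
      unfold AddSubgroup.addSubgroupOf
      exact AddSubgroup.comap_map_eq_self_of_injective (AddSubgroup.subtype_injective _) _
    rw [h1, AddSubgroup.index_ker, AddMonoidHom.range_eq_top.mpr singHom_surjective]
    rw [show Nat.card (⊤ : AddSubgroup (ZMod 2 × (Fin 11 → ZMod 2))) = Nat.card (ZMod 2 × (Fin 11 → ZMod 2)) from
      Nat.card_congr AddSubgroup.topEquiv.toEquiv]
    exact card_target
  · rintro _ ⟨v, hv, rfl⟩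
    exact sqNorm_dvd_of_ker hv

end Cfsg.Agent.S5553
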