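import Cfsg.Statements.S5555
import Cfsg.Agent.Lib.Helper12.TT232A
import Cfsg.Agent.Lib.Helper27.TT232B6
import Cfsg.Agent.Lib.Helper11.TT232C2

set_option autoImplicit false
open Cfsg

namespace Cfsg.Agent.S5555

/-- a class of 3-transpositions in a group with trivial centre has at least two members -/
theorem two_members {G : Type*} [Group G] {D : Set G} (hD : Cfsg.IsThreeTranspositionClass D)
    (hZ : Subgroup.center G = ⊥) : ∃ a ∈ D, ∃ b ∈ D, a ≠ b := by
  obtain ⟨d0, hd0, hEq⟩ := hD.2.1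
  by_contra hcon
  push_neg at hcon
  have hsub : D ⊆ ((Subgroup.zpowers d0 : Subgroup G) : Set G) := by
    intro x hx
    rw [hcon x hx d0 hd0]
    exact Subgroup.mem_zpowers d0
  have hle : Subgroup.closure D ≤ Subgroup.zpowers d0 := (Subgroup.closure_le _).2 hsub
  rw [hD.2.2] at hle
  have hcen : d0 ∈ Subgroup.center G := by
    rw [Subgroup.mem_center_iff]
    intro g
    obtain ⟨k, rfl⟩ := Subgroup.mem_zpowers_iff.1 (hle (Subgroup.mem_top g))
    exact (Commute.zpow_left (Commute.refl d0) k).eq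
  rw [hZ, Subgroup.mem_bot] at hcen
  have h2 := hD.1.1 d0 hd0
  rw [hcen, orderOf_one] at h2
  omega

/-- a group of order 54 has a normal Sylow 3-subgroup of index 2 -/
theorem sylow_three_54 {X : Type*} [Group X] [Finite X] (hX : Nat.card X = 54) (P : Sylow 3 X) :
    (P : Subgroup X).Normal ∧ (P : Subgroup X).index = 2 ^ 1 := by
  haveI : Fact (Nat.Prime 3) := ⟨Nat.prime_three⟩
  have hidx : (P : Subgroup X).index = 2 := by
    obtain ⟨n, hn⟩ := (IsPGroup.iff_card.1 P.isPGroup')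
    have hmul := (P : Subgroup X).card_mul_index
    rw [hX, hn] at hmul
    have hnd : ¬ 3 ∣ (P : Subgroup X).index := P.not_dvd_index
    have hn3 : n ≤ 3 := by
      by_contra hlt
      push_neg at hlt
      have h81 : 3 ^ 4 ≤ 3 ^ n := Nat.pow_le_pow_right (by norm_num) hlt
      have hpos : 0 < (P : Subgroup X).index := by
        rcases Nat.eq_zero_or_pos (P : Subgroup X).index with h0 | h0
        · rw [h0] at hmul; omega
        · exact h0
      nlinarith
    interval_cases n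
    · exfalso; apply hnd; omega
    · exfalso; apply hnd; omega
    · exfalso; apply hnd; omega
    · omega
  exact ⟨Subgroup.normal_of_index_eq_two hidx, by rw [hidx]; norm_num⟩

/-- Let G be a finite group generated by a conjugacy class D of 3-transpositions, with trivial centre and with generalized Fitting subgroup F*(G) = O₂(G) (so the Fitting subgroup is O₂(G) too). If G/O₂(G) is isomorphic to the derived group of SU₃(2) (the group of order 54 generated by nine 3-transpositions), then O₂(G) has a complement in G. -/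
theorem result {G : Type*} [Group G] [Finite G] {D : Set G} (hD : Cfsg.IsThreeTranspositionClass D)
    (hZ : Subgroup.center G = ⊥) (hF : Cfsg.generalizedFittingSubgroup G = Cfsg.pCore 2 G)
    (hq : ∃ (F : Type) (_ : Field F) (_ : Fintype F), Fintype.card F = 4 ∧ Nonempty (G ⧸ Cfsg.pCore 2 G ≃* ↥(commutator ↥(Cfsg.SU 3 F 2)))) :
    ∃ K : Subgroup G, (Cfsg.pCore 2 G).IsComplement' K := by
  obtain ⟨F, iF, iFt, hF4, ⟨φ⟩⟩ := hq
  have h54 : Nat.card (G ⧸ Cfsg.pCore 2 G) = 54 := by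
    rw [Nat.card_congr φ.toEquiv]
    exact Cfsg.Agent.Helper11.TT232C.card_commutator_SU3 (by rw [hF4])
  have hE2 := two_members hD hZ
  obtain ⟨V, iV, ρ, hV2, hρ, hEo, hE3, hEc, hEt, hEg, hstar, hn2⟩ :=
    Cfsg.Agent.Helper12.TT232A.partA hD hE2 hF
  haveI : Fact (Nat.Prime 3) := ⟨Nat.prime_three⟩
  obtain ⟨P⟩ : Nonempty (Sylow 3 (G ⧸ Cfsg.pCore 2 G)) := inferInstance
  obtain ⟨hPn, hPi⟩ := sylow_three_54 h54 P
  rcases Cfsg.Agent.Helper27.TT232B.partB hV2 ρ hρ _ hEo hE3 hEc hEt hEg hstar P hPn 1 hPi hn2 with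
    ⟨h6, -⟩ | ⟨-, a, b, d, ha3, hb3, hd2, hd1, hda, hdb, hab, hgen, ⟨d0, hd0, hd0e⟩,
      ⟨e1, he1, he1e⟩, ⟨e2, he2, he2e⟩⟩
  · rw [h54] at h6; omega
  -- basic facts on the lifted involutions
  have sq : ∀ x ∈ D, x * x = 1 := fun x hx => Cfsg.Agent.Helper12.TT232A.sq_one_of_mem hD hx
  have inv : ∀ x ∈ D, x⁻¹ = x := fun x hx => Cfsg.Agent.Helper12.TT232A.inv_of_mem hD hx
  have hcj : ∀ x ∈ D, ∀ g : G, g * x * g⁻¹ ∈ D :=
    fun x hx g => Cfsg.Agent.Helper12.TT232A.conj_mem hD hx g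
  obtain ⟨hab3, hab3', -⟩ := Cfsg.Agent.Helper11.TT232C.struct54 h54 a b ha3 hb3 hab
  have hdinv : d⁻¹ = d := by
    rw [inv_eq_iff_mul_eq_one, ← pow_two]; exact hd2
  -- images of the products
  have hpa : ((d0 * e1 : G) : G ⧸ Cfsg.pCore 2 G) = a := by
    rw [QuotientGroup.mk_mul, hd0e, he1e, ← mul_assoc, ← pow_two, hd2, one_mul]
  have hpb : ((d0 * e2 : G) : G ⧸ Cfsg.pCore 2 G) = b := by
    rw [QuotientGroup.mk_mul, hd0e, he2e, ← mul_assoc, ← pow_two, hd2, one_mul]
  have ha1 : a ≠ 1 := by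
    rintro rfl; exact hab (by rw [one_mul, mul_one])
  have hb1 : b ≠ 1 := by
    rintro rfl; exact hab (by rw [one_mul, mul_one])
  -- order three from: square or cube trivial, image of order three
  have key : ∀ (g : G) (x : G ⧸ Cfsg.pCore 2 G), (g : G ⧸ Cfsg.pCore 2 G) = x → x ^ 3 = 1 → x ≠ 1 →
      (g ^ 2 = 1 ∨ g ^ 3 = 1) → g ^ 3 = 1 := by
    intro g x hgx hx3 hx1 h
    rcases h with h | h
    · exfalso
      apply hx1
      have hx2 : x ^ 2 = 1 := by
        rw [← hgx, ← QuotientGroup.mk_pow, h, QuotientGroup.mk_one]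
      calc x = x ^ 3 * (x ^ 2)⁻¹ := by group
        _ = 1 := by rw [hx3, hx2, inv_one, mul_one]
    · exact h
  have hu3 : (d0 * e1) ^ 3 = 1 := key _ a hpa ha3 ha1 (hD.1.2 d0 hd0 e1 he1)
  have hw3 : (d0 * e2) ^ 3 = 1 := key _ b hpb hb3 hb1 (hD.1.2 d0 hd0 e2 he2)
  have hab1 : a * b ≠ 1 := by
    intro h
    apply hab
    have hb' : b = a⁻¹ := (inv_eq_of_mul_eq_one_right h).symm
    rw [hb', mul_inv_cancel, inv_mul_cancel]
  have hab1' : a * b⁻¹ ≠ 1 := by
    intro h
    apply hab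
    have hb' : a = b := by
      have := inv_eq_of_mul_eq_one_right h
      exact (inv_injective this).symm ▸ rfl
    rw [hb']
  have huw3 : ((d0 * e1) * (d0 * e2)) ^ 3 = 1 := by
    apply key _ (a * b) (by rw [QuotientGroup.mk_mul, hpa, hpb]) hab3 hab1
    have h1 : (d0 * e1) * (d0 * e2) = (d0 * e1 * d0⁻¹) * e2 := by
      rw [inv d0 hd0]; group
    rw [h1]
    exact hD.1.2 _ (hcj e1 he1 d0) e2 he2
  have huw3' : ((d0 * e1) * (d0 * e2)⁻¹) ^ 3 = 1 := by
    apply key _ (a * b⁻¹) (by rw [QuotientGroup.mk_mul, QuotientGroup.mk_inv, hpa, hpb]) hab3' hab1'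
    have h1 : (d0 * e1) * (d0 * e2)⁻¹ = (d0 * e1 * d0⁻¹) * (d0 * e2 * d0⁻¹) := by
      rw [mul_inv_rev, inv e2 he2]; group
    rw [h1]
    exact hD.1.2 _ (hcj e1 he1 d0) _ (hcj e2 he2 d0)
  have hdu : d0 * (d0 * e1) * d0⁻¹ = (d0 * e1)⁻¹ := by
    rw [mul_inv_rev, inv d0 hd0, inv e1 he1, ← mul_assoc, sq d0 hd0, one_mul]
  have hdw : d0 * (d0 * e2) * d0⁻¹ = (d0 * e2)⁻¹ := by
    rw [mul_inv_rev, inv d0 hd0, inv e2 he2, ← mul_assoc, sq d0 hd0, one_mul]
  obtain ⟨-, hK54⟩ := Cfsg.Agent.Helper3.TT232.card_le_54_of_rel d0 (d0 * e1) (d0 * e2)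
    (sq d0 hd0) hu3 hw3 huw3 huw3' hdu hdw
  set K : Subgroup G := Subgroup.closure {d0, d0 * e1, d0 * e2} with hKdef
  refine ⟨K, ?_⟩
  -- the restriction of the quotient map to K is onto
  let f : K →* G ⧸ Cfsg.pCore 2 G := (QuotientGroup.mk' (Cfsg.pCore 2 G)).comp K.subtype
  have hfsurj : Function.Surjective f := by
    intro x
    have hx : x ∈ Subgroup.closure ({a, b, d} : Set (G ⧸ Cfsg.pCore 2 G)) := by
      rw [hgen]; exact Subgroup.mem_top x
    have hle : Subgroup.closure ({a, b, d} : Set (G ⧸ Cfsg.pCore 2 G)) ≤ f.range := by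
      rw [Subgroup.closure_le]
      intro y hy
      rcases hy with rfl | rfl | rfl
      · exact ⟨⟨d0 * e1, Subgroup.subset_closure (by simp)⟩, hpa⟩
      · exact ⟨⟨d0 * e2, Subgroup.subset_closure (by simp)⟩, hpb⟩
      · exact ⟨⟨d0, Subgroup.subset_closure (by simp)⟩, hd0e⟩
    exact hle hx
  have hcardK : Nat.card K = 54 := by
    have := Nat.card_le_card_of_surjective f hfsurj
    rw [h54] at this
    omega
  have hfbij : Function.Bijective f :=
    hfsurj.bijective_of_nat_card_le (by rw [hcardK, h54])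
  apply Subgroup.isComplement'_of_card_mul_and_disjoint
  · rw [hcardK, Subgroup.card_eq_card_quotient_mul_card_subgroup (Cfsg.pCore 2 G), h54, mul_comm]
  · rw [Subgroup.disjoint_def]
    intro x hxQ hxK
    have h1 : f ⟨x, hxK⟩ = f 1 := by
      rw [map_one]
      exact (QuotientGroup.eq_one_iff x).2 hxQ
    have := hfbij.1 h1
    exact congrArg Subtype.val this

end Cfsg.Agent.S5555
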