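import Cfsg.Statements.S5559
import Cfsg.Agent.S4062
import Cfsg.Agent.Lib.Helper12.TT232A
import Cfsg.Agent.Lib.Helper27.TT232B6
import Cfsg.Agent.Lib.Helper11.TT232C2

set_option autoImplicit false
open Cfsg

namespace Cfsg.Agent.S5559

/-- Let H be a finite group generated by a conjugacy class E of 3-transpositions with at least two members, with F*(H) = O₂(H), and such that H/O₂(H) has a normal Sylow 3-subgroup of 2-power index (that is, H = O_{2,3,2}(H)). Then H/O₂(H) is isomorphic to the symmetric group of degree 3 or to the derived group of SU₃(2) (of order 54). -/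
theorem result {H : Type*} [Group H] [Finite H] {E : Set H} (hE : Cfsg.IsThreeTranspositionClass E)
    (hE2 : ∃ a ∈ E, ∃ b ∈ E, a ≠ b) (hF : Cfsg.generalizedFittingSubgroup H = Cfsg.pCore 2 H)
    (h232 : ∃ P : Sylow 3 (H ⧸ Cfsg.pCore 2 H), (P : Subgroup (H ⧸ Cfsg.pCore 2 H)).Normal ∧
      ∃ k : ℕ, (P : Subgroup (H ⧸ Cfsg.pCore 2 H)).index = 2 ^ k) :
    Nonempty (H ⧸ Cfsg.pCore 2 H ≃* Equiv.Perm (Fin 3)) ∨
      ∃ (F : Type) (_ : Field F) (_ : Fintype F), Fintype.card F = 4 ∧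
        Nonempty (H ⧸ Cfsg.pCore 2 H ≃* ↥(commutator ↥(Cfsg.SU 3 F 2))) := by
  obtain ⟨V, iV, ρ, hV2, hρ, hEo, hE3, hEc, hEt, hEg, hstar, hn2⟩ :=
    Cfsg.Agent.Helper12.TT232A.partA hE hE2 hF
  obtain ⟨P, hPn, k, hPi⟩ := h232
  rcases Cfsg.Agent.Helper27.TT232B.partB hV2 ρ hρ _ hEo hE3 hEc hEt hEg hstar P hPn k hPi hn2 with
    ⟨h6, a, b, hab⟩ | ⟨h54, a, b, d, h⟩
  · left
    exact Cfsg.Agent.S4062.equiv_perm_three h6 (fun hc => hab (hc a b))
  · right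
    obtain ⟨F, iF, iFt, hF4, hrec⟩ := Cfsg.Agent.Helper11.TT232C.recog54
    refine ⟨F, iF, iFt, hF4, ?_⟩
    obtain ⟨h1, h2, h3, h4, h5, h6, h7, h8, -⟩ := h
    exact hrec _ h54 ⟨a, b, d, h1, h2, h3, h4, h5, h6, h7, h8⟩

end Cfsg.Agent.S5559
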