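import Mathlib
import Cfsg.Statements.S5560
import Cfsg.Agent.Lib.Helper7.ZStar3
import Cfsg.Agent.Lib.Helper4.InvOdd
-- import your own Cfsg.Agent.* helpers here

set_option autoImplicit false
open Cfsg

namespace Cfsg.Agent.S5560

/-- A Z*-type result for an odd prime p. Let G be a finite group and d an involution of G such that the product of any two conjugates of d has order a power of p. Then the product of any two conjugates of d lies in the largest normal p-subgroup O_p(G); in other words the conjugacy class of d lies in the coset O_p(G)d, and d is central modulo O_p(G). -/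
theorem result {G : Type*} [Group G] [Finite G] {p : ℕ} (hp : p.Prime) (hp2 : p ≠ 2)
    (d : G) (hd : orderOf d = 2)
    (hprod : ∀ a ∈ conjugatesOf d, ∀ b ∈ conjugatesOf d, ∃ k : ℕ, orderOf (a * b) = p ^ k) :
    ∀ a ∈ conjugatesOf d, ∀ b ∈ conjugatesOf d, a * b ∈ Cfsg.pCore p G := by
  classical
  haveI : Fact p.Prime := ⟨hp⟩
  have hd2 : d * d = 1 := by rw [← sq, ← hd]; exact pow_orderOf_eq_one d
  have hdi : d⁻¹ = d := inv_eq_of_mul_eq_one_right hd2
  have hconj : ∀ g : G, g * d * g⁻¹ ∈ conjugatesOf d := fun g => by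
    show IsConj d (g * d * g⁻¹)
    rw [isConj_iff]; exact ⟨g, rfl⟩
  have hdself : d ∈ conjugatesOf d := mem_conjugatesOf_self
  -- `d` is isolated
  have hiso : Cfsg.IsIsolated d := by
    intro g hcomm
    obtain ⟨k, hk⟩ := hprod d hdself (g * d * g⁻¹) (hconj g)
    have hc2 : g * d * g⁻¹ * (g * d * g⁻¹) = 1 := by
      rw [show g * d * g⁻¹ * (g * d * g⁻¹) = g * (d * d) * g⁻¹ by group, hd2]
      group
    have hsq : (d * (g * d * g⁻¹)) ^ 2 = 1 := by
      rw [hcomm.mul_pow, sq, sq, hd2, hc2, one_mul]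
    have hdvd : orderOf (d * (g * d * g⁻¹)) ∣ 2 := orderOf_dvd_of_pow_eq_one hsq
    have hk0 : k = 0 := by
      by_contra hk0
      rw [hk] at hdvd
      have h1 : p ∣ 2 := (dvd_pow_self p hk0).trans hdvd
      exact hp2 ((Nat.prime_dvd_prime_iff_eq hp Nat.prime_two).mp h1)
    rw [hk0, pow_zero, orderOf_eq_one_iff] at hk
    have h2 : g * d * g⁻¹ = d⁻¹ := (inv_eq_of_mul_eq_one_right hk).symm
    rw [h2, hdi]
  -- the `Z*`-theorem
  obtain ⟨N, hNn, hNodd, hN⟩ := Cfsg.Agent.Helper7.ZStar.zstar_exists d hd hiso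
  haveI := hNn
  obtain ⟨σ, hσapp⟩ : ∃ σ : ↥N ≃* ↥N, ∀ x : ↥N, ((σ x : ↥N) : G) = d * x * d⁻¹ :=
    ⟨MulAut.conjNormal d, fun x => rfl⟩
  have hσσ : ∀ x, σ (σ x) = x := by
    intro x
    apply Subtype.ext
    rw [hσapp, hσapp]
    calc d * (d * (x : G) * d⁻¹) * d⁻¹ = (d * d) * x * (d * d)⁻¹ := by group
      _ = x := by rw [hd2]; group
  -- inverted elements are `p`-elements
  have hinv : ∀ x : ↥N, σ x = x⁻¹ → ∃ k : ℕ, orderOf x = p ^ k := by
    intro x hx
    have hx' : d * (x : G) * d⁻¹ = (x : G)⁻¹ := by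
      rw [← hσapp, hx]; rfl
    have hoddx : Odd (orderOf (x : G)) :=
      Odd.of_dvd_nat hNodd (Cfsg.Agent.Helper4.InvOdd.orderOf_dvd_card_of_mem N x x.2)
    obtain ⟨y, hy⟩ : ∃ y : G, y = (x : G) ^ ((orderOf (x : G) + 1) / 2) := ⟨_, rfl⟩
    have hy2 : y * y = x := by
      rw [hy]; exact Cfsg.Agent.Helper4.InvOdd.sqrt_mul_self _ hoddx
    have hyinv : d * y * d⁻¹ = y⁻¹ := by
      rw [hy, ← conj_pow, hx', inv_pow]
    have h1 : d * y⁻¹ * d⁻¹ = y := by
      have h2 : (d * y * d⁻¹)⁻¹ = d * y⁻¹ * d⁻¹ := by group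
      rw [← h2, hyinv, inv_inv]
    have hxe : (x : G) = d * (y⁻¹ * d * (y⁻¹)⁻¹) := by
      rw [inv_inv]
      calc (x : G) = y * y := hy2.symm
        _ = (d * y⁻¹ * d⁻¹) * (d * d) * y := by rw [h1, hd2, mul_one]
        _ = d * (y⁻¹ * d * y) := by group
    obtain ⟨k, hk⟩ := hprod d hdself _ (hconj y⁻¹)
    refine ⟨k, ?_⟩
    rw [← Subgroup.orderOf_coe, hxe]
    exact hk
  obtain ⟨P, hP⟩ := Cfsg.Agent.Helper4.InvOdd.exists_sylow_inverted σ hσσ hNodd p hinv
  obtain ⟨P', hP'⟩ : ∃ P' : Subgroup G, P' = (P : Subgroup ↥N).map N.subtype := ⟨_, rfl⟩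
  have hP'p : IsPGroup p ↥P' := by rw [hP']; exact P.2.map _
  have hda : ∀ a ∈ conjugatesOf d, d * a ∈ P' := by
    intro a ha
    obtain ⟨g, rfl⟩ := isConj_iff.mp (show IsConj d a from ha)
    have hmem : d * (g * d * g⁻¹) ∈ N := by
      have h1 := hN g
      rw [hdi] at h1
      have e : d * (g * d * g⁻¹) = d * g * d * g⁻¹ := by group
      rw [e]; exact h1
    have hinv' : σ ⟨_, hmem⟩ = (⟨_, hmem⟩ : ↥N)⁻¹ := by
      apply Subtype.ext
      rw [hσapp]
      show d * (d * (g * d * g⁻¹)) * d⁻¹ = (d * (g * d * g⁻¹))⁻¹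
      have e0 : d * (d * (g * d * g⁻¹)) * d⁻¹ = (d * d) * (g * d * g⁻¹ * d⁻¹) := by group
      have e1 : (d * (g * d * g⁻¹))⁻¹ = g * d⁻¹ * g⁻¹ * d⁻¹ := by group
      rw [e0, e1, hd2, one_mul, hdi]
    rw [hP']
    exact ⟨⟨_, hmem⟩, hP _ hinv', rfl⟩
  -- the normal subgroup generated by the products
  obtain ⟨S, hS⟩ : ∃ S : Set G, S = {x | ∃ a ∈ conjugatesOf d, ∃ b ∈ conjugatesOf d, x = a * b} :=
    ⟨_, rfl⟩
  have hcinv : ∀ a ∈ conjugatesOf d, a⁻¹ = a := by
    intro a ha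
    obtain ⟨g, rfl⟩ := isConj_iff.mp (show IsConj d a from ha)
    have e : (g * d * g⁻¹)⁻¹ = g * d⁻¹ * g⁻¹ := by group
    rw [e, hdi]
  have hSP : S ⊆ (P' : Set G) := by
    rw [hS]
    rintro x ⟨a, ha, b, hb, rfl⟩
    have h1 : a * b = (d * a)⁻¹ * (d * b) := by
      have e : (d * a)⁻¹ * (d * b) = a⁻¹ * b := by group
      rw [e, hcinv a ha]
    rw [h1]
    exact P'.mul_mem (P'.inv_mem (hda a ha)) (hda b hb)
  have hcc : ∀ (g : G) (a : G), a ∈ conjugatesOf d → g * a * g⁻¹ ∈ conjugatesOf d := by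
    intro g a ha
    obtain ⟨h, rfl⟩ := isConj_iff.mp (show IsConj d a from ha)
    have h1 := hconj (g * h)
    have e : g * h * d * (g * h)⁻¹ = g * (h * d * h⁻¹) * g⁻¹ := by group
    rw [e] at h1
    exact h1
  have hconjS : ∀ (g x : G), x ∈ S → g * x * g⁻¹ ∈ S := by
    intro g x hx
    rw [hS] at hx ⊢
    obtain ⟨a, ha, b, hb, rfl⟩ := hx
    exact ⟨g * a * g⁻¹, hcc g a ha, g * b * g⁻¹, hcc g b hb, by group⟩
  have hYle : Subgroup.normalClosure S ≤ P' := by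
    unfold Subgroup.normalClosure
    rw [Subgroup.closure_le]
    intro x hx
    obtain ⟨b, hb, hbx⟩ := Group.mem_conjugatesOfSet_iff.mp hx
    obtain ⟨c, rfl⟩ := isConj_iff.mp hbx
    exact hSP (hconjS c b hb)
  have hYp : IsPGroup p ↥(Subgroup.normalClosure S) := hP'p.to_le hYle
  have hYcore : Subgroup.normalClosure S ≤ Cfsg.pCore p G := by
    unfold Cfsg.pCore
    exact le_sSup ⟨Subgroup.normalClosure_normal, hYp⟩
  intro a ha b hb
  apply hYcore
  apply Subgroup.subset_normalClosure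
  rw [hS]
  exact ⟨a, ha, b, hb, rfl⟩

end Cfsg.Agent.S5560
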