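import Mathlib
import Cfsg.Statements.S5562

set_option autoImplicit false
open Cfsg

namespace Cfsg.Agent.S5562

variable {G : Type*} [Group G]

/-- Elements of odd order have a square root among their powers. -/
theorem exists_sqrt_of_odd {u : G} (h : Odd (orderOf u)) :
    ∃ w ∈ Subgroup.zpowers u, w * w = u := by
  obtain ⟨m, hm⟩ := h
  refine ⟨u ^ (m + 1), Subgroup.npow_mem_zpowers u (m + 1), ?_⟩
  rw [← pow_add]
  have : m + 1 + (m + 1) = orderOf u + 1 := by omega
  rw [this, pow_succ, pow_orderOf_eq_one, one_mul]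

theorem odd_orderOf_of_mem_zpowers {u w : G} (h : Odd (orderOf u)) (hw : w ∈ Subgroup.zpowers u) :
    Odd (orderOf w) := by
  obtain ⟨k, rfl⟩ := hw
  have hdvd : orderOf (u ^ k) ∣ orderOf u := orderOf_dvd_of_pow_eq_one (by
    rw [← zpow_natCast, ← zpow_mul, mul_comm, zpow_mul, zpow_natCast, pow_orderOf_eq_one, one_zpow])
  exact Odd.of_dvd_nat h hdvd

/-- If `g` inverts `u` by conjugation, it inverts every power of `u`. -/
theorem conj_inv_of_mem_zpowers {g u y : G} (h : g * u * g⁻¹ = u⁻¹) (hy : y ∈ Subgroup.zpowers u) :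
    g * y * g⁻¹ = y⁻¹ := by
  obtain ⟨k, rfl⟩ := hy
  rw [← conj_zpow, h, inv_zpow]

/-- If `g` of odd order inverts `c`, then `c = c⁻¹`. -/
theorem eq_inv_of_odd_conj_inv {g c : G} (hg : Odd (orderOf g)) (h : g * c * g⁻¹ = c⁻¹) :
    c = c⁻¹ := by
  have h2 : Commute (g ^ 2) c := by
    have : g ^ 2 * c * (g ^ 2)⁻¹ = c := by
      have : g ^ 2 * c * (g ^ 2)⁻¹ = g * (g * c * g⁻¹) * g⁻¹ := by
        rw [pow_two]; group
      rw [this, h]
      have : g * c⁻¹ * g⁻¹ = (g * c * g⁻¹)⁻¹ := by group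
      rw [this, h, inv_inv]
    show g ^ 2 * c = c * g ^ 2
    calc g ^ 2 * c = g ^ 2 * c * (g ^ 2)⁻¹ * g ^ 2 := by
          rw [inv_mul_cancel_right]
      _ = c * g ^ 2 := by rw [this]
  obtain ⟨m, hm⟩ := hg
  have h3 : Commute ((g ^ 2) ^ m) c := h2.pow_left m
  have h4 : (g ^ 2) ^ m * g = 1 := by
    rw [← pow_mul, ← pow_succ, ← hm, pow_orderOf_eq_one]
  have h5 : g⁻¹ = (g ^ 2) ^ m := by
    rw [eq_comm, ← mul_eq_one_iff_eq_inv]; exact h4
  have h6 : Commute g⁻¹ c := h5 ▸ h3
  have h7 : Commute g c := by simpa using h6.inv_left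
  calc c = g * c * g⁻¹ := by rw [h7.eq]; group
    _ = c⁻¹ := h

theorem orderOf_of_mem_conjugatesOf {d a : G} (ha : a ∈ conjugatesOf d) : orderOf a = orderOf d := by
  obtain ⟨c, hc⟩ := isConj_iff.mp ha
  rw [← hc]
  exact (MulAut.conj c).orderOf_eq d

theorem sq_eq_one_of_orderOf_two {a : G} (h : orderOf a = 2) : a * a = 1 := by
  rw [← pow_two, ← h, pow_orderOf_eq_one]

theorem conj_mem_conjugatesOf {d a : G} (g : G) (ha : a ∈ conjugatesOf d) :
    g * a * g⁻¹ ∈ conjugatesOf d := by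
  have : IsConj a (g * a * g⁻¹) := isConj_iff.mpr ⟨g, rfl⟩
  exact IsConj.trans ha this

theorem result {G : Type*} [Group G] [Finite G] (d : G) (hd : orderOf d = 2)
    (hodd : ∀ a ∈ conjugatesOf d, ∀ b ∈ conjugatesOf d, Odd (orderOf (a * b)))
    (x : G) (hx : orderOf x = 2) :
    ∀ e ∈ conjugatesOf d,
      ∃! a : G, a ∈ conjugatesOf d ∧ Commute a x ∧ Commute e (a * x) := by
  intro e he
  have hee : e * e = 1 := sq_eq_one_of_orderOf_two ((orderOf_of_mem_conjugatesOf he).trans hd)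
  have hxx : x * x = 1 := sq_eq_one_of_orderOf_two hx
  have hxinv : x⁻¹ = x := inv_eq_of_mul_eq_one_left hxx
  have heinv : e⁻¹ = e := inv_eq_of_mul_eq_one_left hee
  -- e' = x e x⁻¹
  have he' : x * e * x⁻¹ ∈ conjugatesOf d := conj_mem_conjugatesOf x he
  set u := e * (x * e * x⁻¹) with hu
  have huodd : Odd (orderOf u) := hodd e he _ he'
  -- e inverts u, x inverts u
  have heu : e * u * e⁻¹ = u⁻¹ := by
    rw [hu, heinv, hxinv]
    have : (e * (x * e * x))⁻¹ = x⁻¹ * e⁻¹ * x⁻¹ * e⁻¹ := by group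
    rw [this, heinv, hxinv]
    calc e * (e * (x * e * x)) * e = (e * e) * (x * e * x) * e := by group
      _ = x * e * x * e := by rw [hee, one_mul]
  have hxu : x * u * x⁻¹ = u⁻¹ := by
    rw [hu, hxinv]
    have : (e * (x * e * x))⁻¹ = x⁻¹ * e⁻¹ * x⁻¹ * e⁻¹ := by group
    rw [this, heinv, hxinv]
    calc x * (e * (x * e * x)) * x = x * e * x * e * (x * x) := by group
      _ = x * e * x * e := by rw [hxx, mul_one]
  -- q with u * q * q = 1: take w with w*w = u, q = w⁻¹
  obtain ⟨w, hwmem, hww⟩ := exists_sqrt_of_odd huodd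
  -- existence
  have hex : ∃ a : G, a ∈ conjugatesOf d ∧ Commute a x ∧ Commute e (a * x) := by
    obtain ⟨v, hvmem', hvv⟩ := exists_sqrt_of_odd (odd_orderOf_of_mem_zpowers huodd hwmem)
    have hvmem : v ∈ Subgroup.zpowers u := by
      have : Subgroup.zpowers w ≤ Subgroup.zpowers u := by
        rw [Subgroup.zpowers_le]; exact hwmem
      exact this hvmem'
    have hev : e * v * e⁻¹ = v⁻¹ := conj_inv_of_mem_zpowers heu hvmem
    have hew : e * w * e⁻¹ = w⁻¹ := conj_inv_of_mem_zpowers heu hwmem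
    have hxw : x * w * x⁻¹ = w⁻¹ := conj_inv_of_mem_zpowers hxu hwmem
    -- a = v⁻¹ e v = w⁻¹ e
    have hconj : v⁻¹ * e * v = w⁻¹ * e := by
      have h1 : e * v = v⁻¹ * e := by
        calc e * v = e * v * e⁻¹ * e := by group
          _ = v⁻¹ * e := by rw [hev]
      calc v⁻¹ * e * v = v⁻¹ * (e * v) := by group
        _ = v⁻¹ * (v⁻¹ * e) := by rw [h1]
        _ = (v * v)⁻¹ * e := by group
        _ = w⁻¹ * e := by rw [hvv]
    -- relations
    have r2 : e * w = w⁻¹ * e := by
      calc e * w = e * w * e⁻¹ * e := by group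
        _ = w⁻¹ * e := by rw [hew]
    have r2' : e * w⁻¹ = w * e := by
      calc e * w⁻¹ = (e * w * e⁻¹)⁻¹ * e := by group
        _ = w * e := by rw [hew, inv_inv]
    have r4 : x * w⁻¹ = w * x := by
      calc x * w⁻¹ = (x * w * x⁻¹)⁻¹ * x := by group
        _ = w * x := by rw [hxw, inv_inv]
    -- x e = e u x
    have r3 : x * e = e * u * x := by
      rw [hu, hxinv]
      calc x * e = (e * e) * (x * e) * (x * x) := by rw [hee, hxx, one_mul, mul_one]
        _ = e * (e * (x * e * x)) * x := by group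
    have huw : u = w * w := hww.symm
    refine ⟨w⁻¹ * e, ?_, ?_, ?_⟩
    · rw [← hconj]
      have := conj_mem_conjugatesOf v⁻¹ he
      simpa using this
    · -- Commute (w⁻¹ e) x
      show w⁻¹ * e * x = x * (w⁻¹ * e)
      calc w⁻¹ * e * x = w⁻¹ * e * x := rfl
        _ = w * (w⁻¹ * w⁻¹ * e) * x := by group
        _ = w * (e * (w * w)) * x := by
            have : w⁻¹ * w⁻¹ * e = e * (w * w) := by
              calc w⁻¹ * w⁻¹ * e = w⁻¹ * (w⁻¹ * e) := by group
                _ = w⁻¹ * (e * w) := by rw [r2]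
                _ = (w⁻¹ * e) * w := by group
                _ = (e * w) * w := by rw [r2]
                _ = e * (w * w) := by group
            rw [this]
        _ = w * (e * u * x) := by rw [← huw]; group
        _ = w * (x * e) := by rw [r3]
        _ = (w * x) * e := by group
        _ = (x * w⁻¹) * e := by rw [r4]
        _ = x * (w⁻¹ * e) := by group
    · -- Commute e (w⁻¹ e x)
      show e * (w⁻¹ * e * x) = w⁻¹ * e * x * e
      calc e * (w⁻¹ * e * x) = (e * w⁻¹) * e * x := by group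
        _ = (w * e) * e * x := by rw [r2']
        _ = w * (e * e) * x := by group
        _ = w * x := by rw [hee, mul_one]
        _ = w⁻¹ * (w * w) * x := by group
        _ = w⁻¹ * u * x := by rw [← huw]
        _ = w⁻¹ * ((e * e) * u * x) := by rw [hee]; group
        _ = w⁻¹ * e * (e * u * x) := by group
        _ = w⁻¹ * e * (x * e) := by rw [r3]
        _ = w⁻¹ * e * x * e := by group
  obtain ⟨a, ha, hax, haxe⟩ := hex
  refine ⟨a, ⟨ha, hax, haxe⟩, ?_⟩
  rintro b ⟨hb, hbx, hbxe⟩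
  -- uniqueness
  have hbb : b * b = 1 := sq_eq_one_of_orderOf_two ((orderOf_of_mem_conjugatesOf hb).trans hd)
  have haa : a * a = 1 := sq_eq_one_of_orderOf_two ((orderOf_of_mem_conjugatesOf ha).trans hd)
  have hainv : a⁻¹ = a := inv_eq_of_mul_eq_one_left haa
  have hbinv : b⁻¹ = b := inv_eq_of_mul_eq_one_left hbb
  -- c = a * b commutes with e
  have hc : Commute e (a * b) := by
    have h1 : Commute e ((a * x) * (b * x)⁻¹) := haxe.mul_right hbxe.inv_right
    have h2 : (a * x) * (b * x)⁻¹ = a * b⁻¹ := by group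
    rw [h2, hbinv] at h1
    exact h1
  -- a inverts c
  have hac : a * (a * b) * a⁻¹ = (a * b)⁻¹ := by
    rw [hainv]
    calc a * (a * b) * a = (a * a) * b * a := by group
      _ = b * a := by rw [haa, one_mul]
      _ = b⁻¹ * a⁻¹ := by rw [hainv, hbinv]
      _ = (a * b)⁻¹ := by group
  -- a * e inverts c
  have haec : (a * e) * (a * b) * (a * e)⁻¹ = (a * b)⁻¹ := by
    calc (a * e) * (a * b) * (a * e)⁻¹ = a * (e * (a * b)) * e⁻¹ * a⁻¹ := by group
      _ = a * ((a * b) * e) * e⁻¹ * a⁻¹ := by rw [hc.eq]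
      _ = a * (a * b) * a⁻¹ := by group
      _ = (a * b)⁻¹ := hac
  have hceq : a * b = (a * b)⁻¹ := eq_inv_of_odd_conj_inv (hodd a ha e he) haec
  have hcc : (a * b) ^ 2 = 1 := by
    rw [pow_two]
    nth_rewrite 2 [hceq]
    exact mul_inv_cancel _
  have hcodd : Odd (orderOf (a * b)) := hodd a ha b hb
  have hdvd : orderOf (a * b) ∣ 2 := orderOf_dvd_of_pow_eq_one hcc
  have h1 : orderOf (a * b) = 1 := by
    have := (Nat.dvd_prime Nat.prime_two).mp hdvd
    rcases this with h | h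
    · exact h
    · rw [h] at hcodd; exact absurd hcodd (by decide)
  have hab1 : a * b = 1 := orderOf_eq_one_iff.mp h1
  calc b = b⁻¹ := hbinv.symm
    _ = a := (eq_inv_of_mul_eq_one_left hab1).symm

end Cfsg.Agent.S5562
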