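import Mathlib
import Cfsg.Statements.S5592
import Cfsg.Agent.Lib.Helper27.Leech

set_option autoImplicit false
open Cfsg

namespace Cfsg.Agent.S5592

open Cfsg.Agent.Helper27

theorem sqNorm_two_mul (z : GolayPt → ℤ) (x : GolayPt → ℤ) (h : ∀ i, x i = 2 * z i) :
    sqNorm x = 4 * sqNorm z := by
  unfold sqNorm
  rw [Finset.mul_sum]
  exact Finset.sum_congr rfl (fun i _ => by rw [h i]; ring)

theorem parallelogram (v w : GolayPt → ℤ) :
    sqNorm (v - w) + sqNorm (v + w) = 2 * sqNorm v + 2 * sqNorm w := by
  unfold sqNorm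
  rw [Finset.mul_sum, Finset.mul_sum, ← Finset.sum_add_distrib, ← Finset.sum_add_distrib]
  exact Finset.sum_congr rfl (fun i _ => by rw [Pi.sub_apply, Pi.add_apply]; ring)

theorem sqNorm_sub (v w : GolayPt → ℤ) :
    sqNorm (v - w) = sqNorm v + sqNorm w - 2 * dotInt v w := by
  unfold sqNorm dotInt
  rw [Finset.mul_sum, ← Finset.sum_add_distrib, ← Finset.sum_sub_distrib]
  exact Finset.sum_congr rfl (fun i _ => by rw [Pi.sub_apply]; ring)

/-- In the Leech lattice (integer coordinates, sum of squares equal to 8 times the customary norm, so the shortest non-zero vectors have sum of squares 32): if two distinct vectors of sum of squares at most 64 are congruent modulo twice the lattice, then either they are negatives of each other, or both have sum of squares 64 and they are orthogonal. -/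
theorem result (x y : Cfsg.GolayPt → ℤ) (hx : x ∈ Cfsg.leechLattice) (hy : y ∈ Cfsg.leechLattice) (hxy : x ≠ y) (hxn : Cfsg.sqNorm x ≤ 64) (hyn : Cfsg.sqNorm y ≤ 64) (hc : (∃ z ∈ Cfsg.leechLattice, x - y = 2 • z)) :
    x = -y ∨ (Cfsg.sqNorm x = 64 ∧ Cfsg.sqNorm y = 64 ∧ Cfsg.dotInt x y = 0) := by
  obtain ⟨z, hz, hvw⟩ := hc
  by_cases h2 : x = -y
  · exact Or.inl h2
  right
  have hz0 : z ≠ 0 := by
    rintro rfl
    apply hxy
    have : x - y = 0 := by rw [hvw]; simp
    exact sub_eq_zero.mp this
  have hzw : z + y ∈ leechLattice := add_mem hz hy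
  have hvw' : x + y = 2 • (z + y) := by
    have : x + y = (x - y) + 2 • y := by
      rw [two_nsmul]; abel
    rw [this, hvw, smul_add]
  have hzw0 : z + y ≠ 0 := by
    intro h
    apply h2
    rw [h] at hvw'
    simp only [smul_zero] at hvw'
    exact eq_neg_of_add_eq_zero_left hvw'
  have e1 : sqNorm (x - y) = 4 * sqNorm z := by
    apply sqNorm_two_mul
    intro i
    rw [hvw]
    simp
  have e2 : sqNorm (x + y) = 4 * sqNorm (z + y) := by
    apply sqNorm_two_mul
    intro i
    rw [hvw']
    simp
  have n1 := leech_min_norm hz hz0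
  have n2 := leech_min_norm hzw hzw0
  have par := parallelogram x y
  have hsub := sqNorm_sub x y
  rw [e1] at hsub
  rw [e1, e2] at par
  refine ⟨by omega, by omega, by omega⟩

end Cfsg.Agent.S5592
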