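import Mathlib
import Cfsg.Statements.S5594
import Cfsg.Agent.Lib.Helper27.LeechChar
import Cfsg.Agent.Lib.Helper29.GolayCount
import Cfsg.Agent.S0398
import Cfsg.Agent.S0372

set_option autoImplicit false
open Cfsg

namespace Cfsg.Agent.S5594

open Cfsg.Agent.Helper27
open Cfsg.Agent.S0398 (permP permP_mem permP_apply epsP epsP_mem epsP_apply negP negP_mem negP_apply)

/-- A dodecad mapped to its complement by the fixed-point-free involution. -/
def wD : GolayPt → ZMod 2 := ofMask (cw 3508)

theorem wD_mem : wD ∈ golayCode := Cfsg.Agent.Helper29.cw_mem _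

theorem projInv_sq : ∀ i : GolayPt, projInv (projInv i) = i := by decide

theorem wD_swap : ∀ i : GolayPt, (wD i ≠ 0) ↔ ¬ (wD (projInv i) ≠ 0) := by decide

/-- An automorphism squaring to negation. -/
def gP : Equiv.Perm leechLattice := epsP wD wD_mem * permP projInv Cfsg.Agent.S0372.result

theorem gP_mem : gP ∈ Co0 := Subgroup.mul_mem _ (epsP_mem _ _) (permP_mem _ _)

theorem gP_apply (v : leechLattice) (i : GolayPt) :
    ((gP v : leechLattice) : GolayPt → ℤ) i =
      if wD i ≠ 0 then -(v.1 (projInv i)) else v.1 (projInv i) := by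
  show ((epsP wD wD_mem (permP projInv Cfsg.Agent.S0372.result v) : leechLattice) :
    GolayPt → ℤ) i = _
  rw [epsP_apply]
  unfold signChange
  simp only [mem_support₂]
  rfl

theorem gP_sq (v : leechLattice) : gP (gP v) = -v := by
  apply Subtype.ext
  funext i
  rw [gP_apply, gP_apply, projInv_sq]
  have := wD_swap i
  by_cases h : wD i ≠ 0
  · rw [if_pos h, if_neg (this.mp h)]
    rfl
  · rw [if_neg h]
    have h' : wD (projInv i) ≠ 0 := by
      by_contra hc
      exact h (this.mpr (not_not.mpr hc))
    rw [if_pos h']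
    rfl

/-- The automorphism group of the Leech lattice contains the negation map, and the subgroup of order 2 it generates has no complement: the automorphism group is a non-split extension of its quotient by that subgroup (it is not the direct product of a group of order 2 with the first Conway group). -/
theorem result :
    ∃ n : ↥Cfsg.Co0, (∀ v : ↥Cfsg.leechLattice, ((n • v : ↥Cfsg.leechLattice) : Cfsg.GolayPt → ℤ) = -(v : Cfsg.GolayPt → ℤ)) ∧
    ∀ K : Subgroup ↥Cfsg.Co0, ¬ (Subgroup.zpowers n).IsComplement' K := by
  set n : Co0 := ⟨negP, negP_mem⟩ with hn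
  set g : Co0 := ⟨gP, gP_mem⟩ with hg
  have hnv : ∀ v : leechLattice, n • v = -v := fun v => rfl
  have hgg : g * g = n := by
    apply Subtype.ext
    ext v : 1
    show gP (gP v) = negP v
    rw [gP_sq]
    rfl
  have hcentral : ∀ k : Co0, n * k = k * n := by
    intro k
    apply Subtype.ext
    ext v : 1
    show negP (k.1 v) = k.1 (negP v)
    rw [negP_apply, negP_apply]
    have h0 : k.1 0 = 0 := by
      have := k.2.1 0 0
      rw [add_zero] at this
      exact left_eq_add.mp this
    have := k.2.1 v (-v)
    rw [add_neg_cancel, h0] at this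
    exact (neg_eq_of_add_eq_zero_right this.symm)
  have hnn : n * n = 1 := by
    apply Subtype.ext
    ext v : 1
    show negP (negP v) = v
    rw [negP_apply, negP_apply, neg_neg]
  have hne : n ≠ 1 := by
    intro h1
    have h2 := hnv (Cfsg.Agent.Helper27.e8 none)
    rw [h1, one_smul] at h2
    have h3 : ((Cfsg.Agent.Helper27.e8 none : leechLattice) : GolayPt → ℤ) none =
        -(((Cfsg.Agent.Helper27.e8 none : leechLattice) : GolayPt → ℤ) none) :=
      congrFun (congrArg Subtype.val h2) none
    rw [Cfsg.Agent.S0398.e8_apply, if_pos rfl] at h3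
    omega
  refine ⟨n, fun v => congrArg Subtype.val (hnv v), ?_⟩
  intro K hK
  have hz : ∀ z ∈ Subgroup.zpowers n, (∀ k : Co0, z * k = k * z) ∧ z * z = 1 := by
    intro z hz
    obtain ⟨m, rfl⟩ := Subgroup.mem_zpowers_iff.mp hz
    constructor
    · intro k
      exact ((Commute.zpow_left (show Commute n k from hcentral k) m)).eq
    · rw [← (Commute.refl n).mul_zpow, hnn, one_zpow]
  obtain ⟨⟨⟨z, hzz⟩, ⟨k, hk⟩⟩, hzk, -⟩ := Subgroup.IsComplement.existsUnique hK g
  simp only at hzk
  have hnK : n ∈ K := by
    rw [← hgg, ← hzk]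
    have h1 := (hz z hzz).1 k
    have h2 := (hz z hzz).2
    have : z * k * (z * k) = k * k := by
      calc z * k * (z * k) = z * (k * z) * k := by group
        _ = z * (z * k) * k := by rw [h1]
        _ = (z * z) * (k * k) := by group
        _ = k * k := by rw [h2, one_mul]
    rw [this]
    exact K.mul_mem hk hk
  have hnZ : n ∈ Subgroup.zpowers n := Subgroup.mem_zpowers n
  have hdisj := hK.disjoint
  rw [Subgroup.disjoint_def] at hdisj
  exact hne (hdisj hnZ hnK)

end Cfsg.Agent.S5594
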