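import Mathlib
import Cfsg.Prelude.Def_Transfer
import Cfsg.Prelude.Def_Solvable
import Cfsg.Agent.Lib.Helper28.LargeExtra
import Cfsg.Agent.Lib.Helper28.ElemAbTwoAut

set_option autoImplicit false
open Cfsg

namespace Cfsg.Agent.S5596

open Cfsg.Agent.Helper28.LargeExtra Cfsg.Agent.Helper28.ElemAbTwoAut

/-- Setting: `z` is an involution of the finite group `G`; for each element `x`, `Q x` is the largest normal 2-subgroup of the centralizer of `x`; `Q z` is extraspecial and contains its own centralizer in `G`. A subgroup `U` is singular when it is elementary abelian, every non-identity element of `U` is conjugate to `z`, and any two non-identity elements `u`, `v` of `U` are orthogonal (`v ∈ Q u`). Write `QU` for the intersection of the `Q u` and `LU` for the join of the `Q u` over the non-identity `u` in `U`. If `U` is singular of order `2 ^ n` with `n ≥ 2`, then `U ≤ QU ≤ LU`, `LU` normalizes `U`, and `LU` induces on `U` its full automorphism group (the general linear group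 of dimension `n` over the field with two elements): every automorphism of `U` is conjugation by some element of `LU`. -/
theorem result {G : Type*} [Group G] [Finite G]
    (Q : G → Subgroup G)
    (hQ : ∀ x : G, Q x = (Cfsg.pCore 2 ↥(Subgroup.centralizer ({x} : Set G))).map (Subgroup.centralizer ({x} : Set G)).subtype)
    (z : G) (hz : orderOf z = 2) (hE : Cfsg.IsExtraspecial 2 ↥(Q z))
    (hC : Subgroup.centralizer ((Q z : Subgroup G) : Set G) ≤ Q z)
    (U : Subgroup G) (hU2 : ∀ u ∈ U, u * u = 1)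
    (hS : ∀ u ∈ U, u ≠ 1 → ∃ g : G, g * z * g⁻¹ = u)
    (hO : ∀ u ∈ U, ∀ v ∈ U, u ≠ 1 → v ≠ 1 → v ∈ Q u)
    (QU LU : Subgroup G) (hQU : QU = ⨅ u ∈ ((U : Set G) \ {1}), Q u) (hLU : LU = ⨆ u ∈ ((U : Set G) \ {1}), Q u)
    (n : ℕ) (hn : 2 ≤ n) (hcard : Nat.card ↥U = 2 ^ n) :
    U ≤ QU ∧ QU ≤ LU ∧ LU ≤ Subgroup.normalizer (U : Set G) ∧
      ∀ φ : ↥U ≃* ↥U, ∃ g ∈ LU, ∀ u : ↥U, g * (u : G) * g⁻¹ = ((φ u : ↥U) : G) := by
  have hQUle : ∀ u ∈ U, u ≠ 1 → QU ≤ Q u := by
    intro u hu hu1
    rw [hQU]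
    exact iInf₂_le u ⟨hu, hu1⟩
  have hLUge : ∀ u ∈ U, u ≠ 1 → Q u ≤ LU := by
    intro u hu hu1
    rw [hLU]
    exact le_iSup₂ (f := fun u (_ : u ∈ ((U : Set G) \ {1})) => Q u) u ⟨hu, hu1⟩
  have hUQ : ∀ u ∈ U, u ≠ 1 → ∀ v ∈ U, v ∈ Q u := by
    intro u hu hu1 v hv
    by_cases hv1 : v = 1
    · rw [hv1]; exact Subgroup.one_mem _
    · exact hO u hu v hv hu1 hv1
  have hconj := LU_conj_mem Q hQ z hz hE hC U hS hO LU hLU
  -- a non-identity element of `U`
  obtain ⟨u₀, hu₀, hu₀1⟩ : ∃ u₀ ∈ U, u₀ ≠ 1 := by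
    have h1 : 1 < Nat.card ↥U := by
      rw [hcard]
      exact Nat.one_lt_two_pow (by omega)
    haveI : Nontrivial ↥U := (Finite.one_lt_card_iff_nontrivial).mp h1
    obtain ⟨w, hw⟩ := exists_ne (1 : ↥U)
    refine ⟨w.1, w.2, ?_⟩
    intro h
    apply hw
    exact Subtype.ext h
  refine ⟨?_, ?_, ?_, ?_⟩
  · intro v hv
    rw [hQU]
    simp only [Subgroup.mem_iInf]
    intro u hu
    exact hUQ u hu.1 hu.2 v hv
  · exact (hQUle u₀ hu₀ hu₀1).trans (hLUge u₀ hu₀ hu₀1)
  · intro g hg
    rw [Subgroup.mem_normalizer_iff]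
    intro h
    constructor
    · intro hh
      exact hconj g hg h hh
    · intro hh
      have h1 := hconj g⁻¹ (LU.inv_mem hg) _ hh
      have h2 : g⁻¹ * (g * h * g⁻¹) * g⁻¹⁻¹ = h := by group
      rw [h2] at h1
      exact h1
  · intro φ
    have h2 : ∀ u : ↥U, u * u = 1 := by
      intro u
      apply Subtype.ext
      exact hU2 u.1 u.2
    have key := aut_mem_of_transvections h2
      (fun τ : ↥U →* ↥U => ∃ g ∈ LU, ∀ u : ↥U, g * (u : G) * g⁻¹ = ((τ u : ↥U) : G))
      ?_ ?_ ?_ φ
    · obtain ⟨g, hg, hgφ⟩ := key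
      exact ⟨g, hg, fun u => hgφ u⟩
    · refine ⟨1, LU.one_mem, ?_⟩
      intro u
      simp
    · intro f₁ f₂ hf₁ hf₂
      obtain ⟨g₁, hg₁, h₁⟩ := hf₁
      obtain ⟨g₂, hg₂, h₂⟩ := hf₂
      refine ⟨g₁ * g₂, LU.mul_mem hg₁ hg₂, ?_⟩
      intro u
      have e1 : g₁ * g₂ * (u : G) * (g₁ * g₂)⁻¹ = g₁ * (g₂ * (u : G) * g₂⁻¹) * g₁⁻¹ := by group
      rw [e1, h₂ u, h₁ (f₂ u)]
      rfl
    · intro a ha S y hy
      have ha1 : (a : G) ≠ 1 := by
        intro h
        apply ha
        exact Subtype.ext h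
      have hEa := extraLike_sing Q hQ z hz hE hC U hS a.2 ha1
      classical
      have hS' : ∀ s ∈ S.image (Subtype.val : ↥U → G), s ∈ Q (a : G) := by
        intro s hs
        rw [Finset.mem_image] at hs
        obtain ⟨w, _, rfl⟩ := hs
        exact hUQ a a.2 ha1 w w.2
      have hyQ : (y : G) ∈ Q (a : G) := hUQ a a.2 ha1 y y.2
      have hyn : (y : G) ∉ Subgroup.closure
          (insert (a : G) ((S.image (Subtype.val : ↥U → G) : Finset G) : Set G)) := by
        intro h
        apply hy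
        have e1 : insert (a : G) ((S.image (Subtype.val : ↥U → G) : Finset G) : Set G)
            = U.subtype '' (insert a (S : Set ↥U)) := by
          rw [Finset.coe_image, Set.image_insert_eq]
          rfl
        rw [e1, ← MonoidHom.map_closure] at h
        obtain ⟨w, hw, hwy⟩ := h
        have : w = y := Subtype.ext hwy
        rw [← this]
        exact hw
      obtain ⟨g, hg, hgS, hgy⟩ := hEa.exists_cent_noncomm _ hS' (y : G) hyQ hyn
      have hgLU : g ∈ LU := hLUge a a.2 ha1 hg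
      let τ : ↥U →* ↥U :=
        { toFun := fun u => ⟨g * (u : G) * g⁻¹, hconj g hgLU u u.2⟩
          map_one' := by
            apply Subtype.ext
            simp
          map_mul' := by
            intro u v
            apply Subtype.ext
            simp }
      refine ⟨τ, ⟨g, hgLU, fun u => rfl⟩, ?_, ?_⟩
      · intro s hs
        apply Subtype.ext
        have h1 : (s : G) ∈ S.image (Subtype.val : ↥U → G) :=
          Finset.mem_image.mpr ⟨s, hs, rfl⟩
        have h3 := hgS _ h1
        change g * (s : G) * g⁻¹ = (s : G)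
        rw [h3]
        group
      · apply Subtype.ext
        change g * (y : G) * g⁻¹ = (a : G) * (y : G)
        exact hgy

end Cfsg.Agent.S5596
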