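import Mathlib
import Cfsg.Prelude.Def_Transfer
import Cfsg.Prelude.Def_Solvable
import Cfsg.Agent.Lib.Helper28.LargeExtra

set_option autoImplicit false
open Cfsg

namespace Cfsg.Agent.S5597

open Cfsg.Agent.Helper28.LargeExtra

/-- Setting: `z` is an involution of the finite group `G`; for each element `x`, `Q x` is the largest normal 2-subgroup of the centralizer of `x`; `Q z` is extraspecial and contains its own centralizer in `G`. A subgroup `U` is singular when it is elementary abelian, every non-identity element of `U` is conjugate to `z`, and any two non-identity elements `u`, `v` of `U` are orthogonal (`v ∈ Q u`). Write `QU` for the intersection of the `Q u` and `LU` for the join of the `Q u` over the non-identity `u` in `U`. If `U` is a non-trivial singular subgroup, then `LU` acts trivially on `QU / U` (every commutator of an element of `LU` with an element of `QU` lies in `U`), and for every `x` in `QU` outside `U` the centralizer of `U` in `LU` permutes the coset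 `x U` transitively: each `x u` with `u ∈ U` is a conjugate of `x` by an element of `LU` centralizing `U`. -/
theorem result {G : Type*} [Group G] [Finite G]
    (Q : G → Subgroup G)
    (hQ : ∀ x : G, Q x = (Cfsg.pCore 2 ↥(Subgroup.centralizer ({x} : Set G))).map (Subgroup.centralizer ({x} : Set G)).subtype)
    (z : G) (hz : orderOf z = 2) (hE : Cfsg.IsExtraspecial 2 ↥(Q z))
    (hC : Subgroup.centralizer ((Q z : Subgroup G) : Set G) ≤ Q z)
    (U : Subgroup G) (hU2 : ∀ u ∈ U, u * u = 1)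
    (hS : ∀ u ∈ U, u ≠ 1 → ∃ g : G, g * z * g⁻¹ = u)
    (hO : ∀ u ∈ U, ∀ v ∈ U, u ≠ 1 → v ≠ 1 → v ∈ Q u)
    (QU LU : Subgroup G) (hQU : QU = ⨅ u ∈ ((U : Set G) \ {1}), Q u) (hLU : LU = ⨆ u ∈ ((U : Set G) \ {1}), Q u)
    (hU : U ≠ ⊥) :
    (∀ g ∈ LU, ∀ x ∈ QU, g * x * g⁻¹ * x⁻¹ ∈ U) ∧
      ∀ x ∈ QU, x ∉ U → ∀ u ∈ U, ∃ g ∈ LU ⊓ Subgroup.centralizer (U : Set G), g * x * g⁻¹ = x * u := by
  have hQUle : ∀ u ∈ U, u ≠ 1 → QU ≤ Q u := by
    intro u hu hu1
    rw [hQU]
    exact iInf₂_le u ⟨hu, hu1⟩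
  have hLUge : ∀ u ∈ U, u ≠ 1 → Q u ≤ LU := by
    intro u hu hu1
    rw [hLU]
    exact le_iSup₂ (f := fun u (_ : u ∈ ((U : Set G) \ {1})) => Q u) u ⟨hu, hu1⟩
  have hUQ : ∀ u ∈ U, u ≠ 1 → ∀ v ∈ U, v ∈ Q u := by
    intro u hu hu1 v hv
    by_cases hv1 : v = 1
    · rw [hv1]; exact Subgroup.one_mem _
    · exact hO u hu v hv hu1 hv1
  constructor
  · -- the commutator statement
    have key : ∀ g ∈ LU, (∀ u ∈ U, g * u * g⁻¹ ∈ U) ∧ (∀ x ∈ QU, g * x * g⁻¹ * x⁻¹ ∈ U) := by
      intro g hg
      rw [hLU, iSup_subtype'] at hg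
      refine Subgroup.iSup_induction _
        (C := fun g => (∀ u ∈ U, g * u * g⁻¹ ∈ U) ∧ (∀ x ∈ QU, g * x * g⁻¹ * x⁻¹ ∈ U)) hg ?_ ?_ ?_
      · intro i x hx
        obtain ⟨u₀, hu₀, hu₀1⟩ := i
        have hu₀1' : u₀ ≠ 1 := hu₀1
        have hE₀ := extraLike_sing Q hQ z hz hE hC U hS hu₀ hu₀1'
        have hx' : x ∈ Q u₀ := hx
        constructor
        · intro u hu
          rcases hE₀.conj_eq hx' (hUQ u₀ hu₀ hu₀1' u hu) with h1 | h1
          · rw [h1]; exact hu
          · rw [h1]; exact U.mul_mem hu₀ hu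
        · intro y hy
          rcases hE₀.comm x hx' y (hQUle u₀ hu₀ hu₀1' hy) with h1 | h1
          · rw [h1]; exact U.one_mem
          · rw [h1]; exact hu₀
      · constructor
        · intro u hu; simpa using hu
        · intro y _; simp
      · intro g₁ g₂ ih₁ ih₂
        constructor
        · intro u hu
          have h1 := ih₁.1 _ (ih₂.1 u hu)
          have h2 : g₁ * g₂ * u * (g₁ * g₂)⁻¹ = g₁ * (g₂ * u * g₂⁻¹) * g₁⁻¹ := by group
          rw [h2]; exact h1
        · intro y hy
          have h1 := ih₁.1 _ (ih₂.2 y hy)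
          have h2 := ih₁.2 y hy
          have h3 : g₁ * g₂ * y * (g₁ * g₂)⁻¹ * y⁻¹ =
              (g₁ * (g₂ * y * g₂⁻¹ * y⁻¹) * g₁⁻¹) * (g₁ * y * g₁⁻¹ * y⁻¹) := by group
          rw [h3]; exact U.mul_mem h1 h2
    intro g hg x hx
    exact (key g hg).2 x hx
  · intro x hx hxU u hu
    by_cases hu1 : u = 1
    · refine ⟨1, Subgroup.one_mem _, ?_⟩
      rw [hu1]; group
    have hEu := extraLike_sing Q hQ z hz hE hC U hS hu hu1
    classical
    have hfin : (U : Set G).Finite := Set.toFinite _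
    have hSU : ∀ s ∈ hfin.toFinset, s ∈ Q u := by
      intro s hs
      rw [Set.Finite.mem_toFinset] at hs
      exact hUQ u hu hu1 s hs
    have hxQ : x ∈ Q u := hQUle u hu hu1 hx
    have hcl : Subgroup.closure (insert u ((hfin.toFinset : Finset G) : Set G)) = U := by
      rw [Set.Finite.coe_toFinset, Set.insert_eq_of_mem (show u ∈ (U : Set G) from hu)]
      exact Subgroup.closure_eq U
    have hxn : x ∉ Subgroup.closure (insert u ((hfin.toFinset : Finset G) : Set G)) := by
      rw [hcl]; exact hxU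
    obtain ⟨g, hg, hgS, hgx⟩ := hEu.exists_cent_noncomm hfin.toFinset hSU x hxQ hxn
    refine ⟨g, ⟨hLUge u hu hu1 hg, ?_⟩, ?_⟩
    · change g ∈ Subgroup.centralizer (U : Set G)
      rw [Subgroup.mem_centralizer_iff]
      intro s hs
      have : s ∈ hfin.toFinset := by rw [Set.Finite.mem_toFinset]; exact hs
      exact (hgS s this).symm
    · rw [hgx]
      exact hEu.central x hxQ

end Cfsg.Agent.S5597
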