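import Mathlib
import Cfsg.Prelude.Def_Transfer
import Cfsg.Prelude.Def_Solvable
import Cfsg.Agent.Lib.Helper28.LargeExtra

set_option autoImplicit false
open Cfsg

namespace Cfsg.Agent.S5598

open Cfsg.Agent.Helper28.LargeExtra

/-- Setting: `z` is an involution of the finite group `G`; for each element `x`, `Q x` is the largest normal 2-subgroup of the centralizer of `x`; `Q z` is extraspecial and contains its own centralizer in `G`. A subgroup `U` is singular when it is elementary abelian, every non-identity element of `U` is conjugate to `z`, and any two non-identity elements `u`, `v` of `U` are orthogonal (`v ∈ Q u`). Write `QU` for the intersection of the `Q u` and `LU` for the join of the `Q u` over the non-identity `u` in `U`. If the singular subgroup `U` is generated by a set `T` of non-identity elements, then `QU` is already the intersection of the `Q t` over `t ∈ T`. -/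
theorem result {G : Type*} [Group G] [Finite G]
    (Q : G → Subgroup G)
    (hQ : ∀ x : G, Q x = (Cfsg.pCore 2 ↥(Subgroup.centralizer ({x} : Set G))).map (Subgroup.centralizer ({x} : Set G)).subtype)
    (z : G) (hz : orderOf z = 2) (hE : Cfsg.IsExtraspecial 2 ↥(Q z))
    (hC : Subgroup.centralizer ((Q z : Subgroup G) : Set G) ≤ Q z)
    (U : Subgroup G) (hU2 : ∀ u ∈ U, u * u = 1)
    (hS : ∀ u ∈ U, u ≠ 1 → ∃ g : G, g * z * g⁻¹ = u)
    (hO : ∀ u ∈ U, ∀ v ∈ U, u ≠ 1 → v ≠ 1 → v ∈ Q u)
    (QU LU : Subgroup G) (hQU : QU = ⨅ u ∈ ((U : Set G) \ {1}), Q u) (hLU : LU = ⨆ u ∈ ((U : Set G) \ {1}), Q u)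
    (T : Set G) (hT : Subgroup.closure T = U) (hT1 : (1 : G) ∉ T) :
    QU = ⨅ t ∈ T, Q t := by
  rw [hQU]
  apply le_antisymm
  · apply le_iInf₂
    intro t ht
    have htU : t ∈ U := by rw [← hT]; exact Subgroup.subset_closure ht
    have ht1 : t ≠ 1 := fun h => hT1 (h ▸ ht)
    exact iInf₂_le t ⟨htU, ht1⟩
  · intro a ha
    simp only [Subgroup.mem_iInf] at ha ⊢
    have key : ∀ u (hu : u ∈ Subgroup.closure T), u ≠ 1 → a ∈ Q u := by
      intro u hu
      induction hu using Subgroup.closure_induction with
      | mem t ht => intro _; exact ha t ht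
      | one => intro h; exact absurd rfl h
      | mul x y hx hy ihx ihy =>
        intro hxy
        rw [hT] at hx hy
        by_cases hx1 : x = 1
        · rw [hx1, one_mul] at hxy ⊢
          exact ihy hxy
        by_cases hy1 : y = 1
        · rw [hy1, mul_one] at hxy ⊢
          exact ihx hxy
        have hne : x ≠ y := by
          intro h
          apply hxy
          rw [← h]
          exact hU2 x hx
        exact inter_le_Q_mul Q hQ z hz hE hC U hU2 hS hO hx hy hx1 hy1 hne ⟨ihx hx1, ihy hy1⟩
      | inv x hx ih =>
        intro hx1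
        rw [hT] at hx
        have hxinv : x⁻¹ = x := inv_eq_of_mul_eq_one_right (hU2 x hx)
        rw [hxinv] at hx1 ⊢
        exact ih hx1
    intro u hu
    have huU : u ∈ U := hu.1
    have hu1 : u ≠ 1 := hu.2
    rw [← hT] at huU
    exact key u huU hu1

end Cfsg.Agent.S5598
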