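import Mathlib
import Cfsg.Statements.S5599
import Cfsg.Agent.Lib.Helper29.M24Invol
import Cfsg.Agent.Lib.Helper29.M24Trans

set_option autoImplicit false
open scoped Pointwise
open Cfsg

namespace Cfsg.Agent.S5599

open Cfsg.Agent.Helper29 Cfsg.Agent.Helper29.M24

theorem mem_M22 (x : Equiv.Perm GolayPt) :
    x ∈ Spor.M22 ↔ x ∈ M24 ∧ x none = none ∧ x (some 0) = some 0 := by
  unfold Spor.M22 Spor.M23
  simp only [Subgroup.mem_inf, MulAction.mem_stabilizer_iff, Equiv.Perm.smul_def]
  tauto

theorem pair_cases (b : Equiv.Perm GolayPt)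
    (hb : b • ({none, some 0} : Finset GolayPt) = {none, some 0}) :
    (b none = none ∧ b (some 0) = some 0) ∨ (b none = some 0 ∧ b (some 0) = none) := by
  have h1 : b none ∈ ({none, some 0} : Finset GolayPt) := by
    rw [← hb]
    exact Finset.smul_mem_smul_finset (a := b) (by simp : (none : GolayPt) ∈ ({none, some 0} : Finset GolayPt))
  have h2 : b (some 0) ∈ ({none, some 0} : Finset GolayPt) := by
    rw [← hb]
    exact Finset.smul_mem_smul_finset (a := b) (by simp : (some 0 : GolayPt) ∈ ({none, some 0} : Finset GolayPt))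
  have hne : b none ≠ b (some 0) := fun h => by
    have := b.injective h
    exact absurd this (by decide)
  simp only [Finset.mem_insert, Finset.mem_singleton] at h1 h2
  rcases h1 with h1 | h1 <;> rcases h2 with h2 | h2
  · exact absurd (h1.trans h2.symm) hne
  · exact Or.inl ⟨h1, h2⟩
  · exact Or.inr ⟨h1, h2⟩
  · exact absurd (h1.trans h2.symm) hne

theorem exists_fifth (a b c d : GolayPt) : ∃ r : GolayPt, r ≠ a ∧ r ≠ b ∧ r ≠ c ∧ r ≠ d := by
  by_contra hcon
  push Not at hcon
  have hsub : (Finset.univ : Finset GolayPt) ⊆ {a, b, c, d} := by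
    intro r _
    simp only [Finset.mem_insert, Finset.mem_singleton]
    by_cases h1 : r = a
    · exact Or.inl h1
    by_cases h2 : r = b
    · exact Or.inr (Or.inl h2)
    by_cases h3 : r = c
    · exact Or.inr (Or.inr (Or.inl h3))
    exact Or.inr (Or.inr (Or.inr (hcon r h1 h2 h3)))
  have h1 := Finset.card_le_card hsub
  have h2 : (Finset.univ : Finset GolayPt).card = 24 := by decide
  have h3 := Finset.card_le_four (a := a) (b := b) (c := c) (d := d)
  omega

/-- In the automorphism group of the length-24 code, the two-point Mathieu group (permutations of the code's group fixing the extra point and the residue 0) has index 2 in the setwise stabiliser of that pair of points, and an element of the code's group interchanging the two points normalises the two-point group and induces on it, by conjugation, an automorphism that is not inner. -/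
theorem result (g : Equiv.Perm Cfsg.GolayPt) (hg : g ∈ Cfsg.M24) (h₁ : g none = some 0) (h₂ : g (some 0) = none) : Cfsg.Spor.M22.relIndex (Cfsg.M24 ⊓ MulAction.stabilizer (Equiv.Perm Cfsg.GolayPt) ({none, some 0} : Finset Cfsg.GolayPt)) = 2 ∧ (∀ x ∈ Cfsg.Spor.M22, g * x * g⁻¹ ∈ Cfsg.Spor.M22) ∧ ¬ ∃ h ∈ Cfsg.Spor.M22, ∀ x ∈ Cfsg.Spor.M22, g * x * g⁻¹ = h * x * h⁻¹ := by
  have hgne : g ≠ 1 := by
    intro h
    rw [h] at h₁
    exact absurd h₁ (by decide)
  refine ⟨?_, ?_, ?_⟩
  · -- index two
    rw [Subgroup.relIndex, Subgroup.index_eq_two_iff]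
    have hgK : g ∈ Cfsg.M24 ⊓ MulAction.stabilizer (Equiv.Perm Cfsg.GolayPt)
        ({none, some 0} : Finset Cfsg.GolayPt) := by
      refine Subgroup.mem_inf.2 ⟨hg, ?_⟩
      rw [MulAction.mem_stabilizer_iff]
      ext p
      rw [Finset.mem_smul_finset]
      simp only [Finset.mem_insert, Finset.mem_singleton, Equiv.Perm.smul_def]
      constructor
      · rintro ⟨y, hy | hy, rfl⟩
        · rw [hy, h₁]; exact Or.inr rfl
        · rw [hy, h₂]; exact Or.inl rfl
      · rintro (rfl | rfl)
        · exact ⟨some 0, Or.inr rfl, h₂⟩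
        · exact ⟨none, Or.inl rfl, h₁⟩
    refine ⟨⟨g, hgK⟩, fun b => ?_⟩
    obtain ⟨b, hbK⟩ := b
    have hbM : b ∈ M24 := (Subgroup.mem_inf.1 hbK).1
    have hbs := pair_cases b (MulAction.mem_stabilizer_iff.1 (Subgroup.mem_inf.1 hbK).2)
    simp only [Subgroup.mem_subgroupOf, Subgroup.coe_mul, mem_M22, Equiv.Perm.mul_apply, h₁, h₂]
    rcases hbs with ⟨ha, hb⟩ | ⟨ha, hb⟩
    · refine Or.inr ⟨⟨hbM, ha, hb⟩, ?_⟩
      rintro ⟨_, h, _⟩
      rw [hb] at h
      exact absurd h (by decide)
    · refine Or.inl ⟨⟨Subgroup.mul_mem _ hbM hg, hb, ha⟩, ?_⟩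
      rintro ⟨_, h, _⟩
      rw [ha] at h
      exact absurd h (by decide)
  · intro x hx
    rw [mem_M22] at hx ⊢
    have hi1 : g⁻¹ none = some 0 := by rw [← h₂, perm_inv_apply]
    have hi2 : g⁻¹ (some 0) = none := by rw [← h₁, perm_inv_apply]
    refine ⟨Subgroup.mul_mem _ (Subgroup.mul_mem _ hg hx.1) (Subgroup.inv_mem _ hg), ?_, ?_⟩
    · rw [Equiv.Perm.mul_apply, Equiv.Perm.mul_apply, hi1, hx.2.2, h₂]
    · rw [Equiv.Perm.mul_apply, Equiv.Perm.mul_apply, hi2, hx.2.1, h₁]
  · rintro ⟨h, hh, hcon⟩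
    rw [mem_M22] at hh
    have hh1 : h⁻¹ none = none := by
      conv_lhs => rw [← hh.2.1]
      rw [perm_inv_apply]
    have hh2 : h⁻¹ (some 0) = some 0 := by
      conv_lhs => rw [← hh.2.2]
      rw [perm_inv_apply]
    set c := h⁻¹ * g with hc
    have hcM : c ∈ M24 := Subgroup.mul_mem _ (Subgroup.inv_mem _ hh.1) hg
    have hc1 : c none = some 0 := by rw [hc, Equiv.Perm.mul_apply, h₁, hh2]
    have hc2 : c (some 0) = none := by rw [hc, Equiv.Perm.mul_apply, h₂, hh1]
    have hcomm : ∀ x ∈ Spor.M22, c * x = x * c := by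
      intro x hx
      have := hcon x hx
      rw [hc]
      have h3 : g * x = h * x * h⁻¹ * g := by
        rw [← this]; group
      rw [mul_assoc, h3]; group
    have hcne : c ≠ 1 := by
      intro h
      rw [h] at hc1
      exact absurd hc1 (by decide)
    obtain ⟨p, hp1, hp2, hp3⟩ := exists_third_moved c hcM none (some 0) (by decide) hcne
    -- q = c p
    have hq1 : c p ≠ none := by
      intro h
      rw [← hc2] at h
      exact hp2 (c.injective h)
    have hq2 : c p ≠ some 0 := by
      intro h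
      rw [← hc1] at h
      exact hp1 (c.injective h)
    obtain ⟨r, hr1, hr2, hr3, hr4⟩ := exists_fifth none (some 0) p (c p)
    obtain ⟨x, hxM, hx⟩ := exists_map_emb₂ (by norm_num : 4 ≤ 5)
      (emb4 none (some 0) p (c p) (by decide) hp1.symm hq1.symm hp2.symm hq2.symm hp3.symm)
      (emb4 none (some 0) p r (by decide) hp1.symm hr1.symm hp2.symm hr2.symm hr3.symm)
    have hx0 : x none = none := hx 0
    have hx1 : x (some 0) = some 0 := hx 1
    have hx2 : x p = p := hx 2
    have hx3 : x (c p) = r := hx 3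
    have hxM22 : x ∈ Spor.M22 := (mem_M22 x).2 ⟨hxM, hx0, hx1⟩
    have := congrArg (fun f : Equiv.Perm GolayPt => f p) (hcomm x hxM22)
    simp only [Equiv.Perm.mul_apply, hx2, hx3] at this
    exact hr4 this.symm

end Cfsg.Agent.S5599
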