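import Mathlib
import Cfsg.Statements.S5600
import Cfsg.Agent.Lib.Helper29.M24Cfg
import Cfsg.Agent.Lib.Helper29.M24Invol
import Cfsg.Agent.Lib.Helper29.M24Steiner
import Cfsg.Agent.Lib.Helper29.M24OctStab

set_option autoImplicit false
open scoped Pointwise
open Cfsg

namespace Cfsg.Agent.S5600

open Cfsg.Agent.Helper29.M24 Cfsg.Agent.Helper29 Cfsg.Agent.Helper27
open Cfsg.Agent.S0358 (idx)

theorem tw_map (i : ℕ) (hi : i < 7) (q : GolayPt) (h : idx q ∈ orb i) :
    evalW (tw i (idx q)) ∈ grp i ∧ evalW (tw i (idx q)) (bp i) = q := by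
  have h3 := ok3 i hi _ h
  refine ⟨evalW_mem_grp i _ h3.1, ?_⟩
  apply M24.idx_injective
  unfold bp
  rw [idx_evalW _ (fun l hl => (h3.1 l hl).1), idx_dec_bpt i hi]
  exact h3.2

/-- six distinct points are the image of the first six base points, or of the first five and
the last one -/
theorem six_cases (x : ℕ → GolayPt) (hx : ∀ i < 6, ∀ j < 6, x i = x j → i = j) :
    (∃ g ∈ Cfsg.M24, ∀ i < 6, g (bp i) = x i) ∨
      (∃ g ∈ Cfsg.M24, (∀ i < 5, g (bp i) = x i) ∧ g (bp 6) = x 5) := by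
  obtain ⟨g0, hg0, h0⟩ := exists_map_base x 5 le_rfl
    (fun i hi j hj h => hx i (by omega) j (by omega) h)
  set q := g0⁻¹ (x 5) with hq
  have hq' : g0 q = x 5 := perm_apply_inv g0 (x 5)
  have hne : ∀ i' < 5, idx q ≠ bpt i' := by
    intro i' hi' h
    have h1 : q = bp i' := by
      apply M24.idx_injective
      rw [h]
      unfold bp
      rw [idx_dec_bpt i' (by omega)]
    have h2 : x 5 = x i' := by rw [← hq', h1, h0 i' hi']
    have := hx 5 (by norm_num) i' (by omega) h2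
    omega
  by_cases hb : octMask.testBit (idx q) = true
  · left
    rcases orb5_spec _ (M24.idx_lt q) hb with h | ⟨i', hi', h⟩
    · obtain ⟨hmem, hmap⟩ := tw_map 5 (by norm_num) q h
      refine ⟨g0 * evalW (tw 5 (idx q)), Subgroup.mul_mem _ hg0 (grp_le_M24 5 hmem), ?_⟩
      intro i hi
      rw [Equiv.Perm.mul_apply]
      by_cases h5 : i < 5
      · rw [grp_fix 5 (by norm_num) _ hmem i h5, h0 i h5]
      · have : i = 5 := by omega
        subst this
        rw [hmap, hq']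
    · exact absurd h (hne i' hi')
  · right
    have hb' : octMask.testBit (idx q) = false := by simpa using hb
    have h := orb6_spec _ (M24.idx_lt q) hb'
    obtain ⟨hmem, hmap⟩ := tw_map 6 (by norm_num) q h
    refine ⟨g0 * evalW (tw 6 (idx q)), Subgroup.mul_mem _ hg0 (grp_le_M24 6 hmem), ?_, ?_⟩
    · intro i hi
      rw [Equiv.Perm.mul_apply, grp_fix 6 (by norm_num) _ hmem i (by omega), h0 i hi]
    · rw [Equiv.Perm.mul_apply, hmap, hq']

/-- an enumeration of a six-set -/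
def IsEnum (E : Finset GolayPt) (x : ℕ → GolayPt) : Prop :=
  (∀ i < 6, x i ∈ E) ∧ ∀ i < 6, ∀ j < 6, x i = x j → i = j

theorem IsEnum.surj {E : Finset GolayPt} (hE : E.card = 6) {x : ℕ → GolayPt} (hx : IsEnum E x)
    (p : GolayPt) (hp : p ∈ E) : ∃ i < 6, x i = p := by
  have himg : (Finset.range 6).image x = E := by
    apply Finset.eq_of_subset_of_card_le
    · intro y hy
      obtain ⟨i, hi, rfl⟩ := Finset.mem_image.1 hy
      exact hx.1 i (Finset.mem_range.1 hi)
    · rw [Finset.card_image_of_injOn, Finset.card_range, hE]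
      intro i hi j hj h
      exact hx.2 i (Finset.mem_range.1 hi) j (Finset.mem_range.1 hj) h
  rw [← himg] at hp
  obtain ⟨i, hi, e⟩ := Finset.mem_image.1 hp
  exact ⟨i, Finset.mem_range.1 hi, e⟩

theorem exists_enum (E : Finset GolayPt) (hE : E.card = 6) : ∃ x, IsEnum E x := by
  obtain ⟨e, he⟩ := exists_emb_subset E 6 (by rw [hE])
  refine ⟨fun i => if h : i < 6 then e ⟨i, h⟩ else none, ?_, ?_⟩
  · intro i hi
    simp only [hi, dite_true]
    exact he _
  · intro i hi j hj h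
    simp only [hi, hj, dite_true] at h
    have := e.injective h
    exact Fin.mk.inj this

/-- the first alternative puts the six-set inside an octad -/
theorem typeA_sub (E : Finset GolayPt) (hE : E.card = 6) (x : ℕ → GolayPt) (hx : IsEnum E x)
    (g : Equiv.Perm GolayPt) (hg : g ∈ Cfsg.M24) (h : ∀ i < 6, g (bp i) = x i) :
    g • oct0 ∈ Cfsg.octads ∧ E ⊆ g • oct0 := by
  refine ⟨smul_mem_octads hg oct0_mem, ?_⟩
  intro p hp
  obtain ⟨i, hi, rfl⟩ := hx.surj hE p hp
  rw [← h i hi]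
  exact Finset.smul_mem_smul_finset (a := g) (bp_mem_oct0 i hi)

theorem bp6_not_mem : bp 6 ∉ oct0 := by
  rw [not_mem_oct0_iff]
  unfold bp
  rw [idx_dec_bpt 6 (by norm_num)]
  exact oct_b6

/-- the second alternative excludes that the six-set lies inside an octad -/
theorem typeB_not_sub (E : Finset GolayPt) (x : ℕ → GolayPt) (hx : IsEnum E x)
    (g : Equiv.Perm GolayPt) (hg : g ∈ Cfsg.M24) (h : ∀ i < 5, g (bp i) = x i)
    (h6 : g (bp 6) = x 5) : ¬ ∃ o ∈ Cfsg.octads, E ⊆ o := by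
  rintro ⟨o, ho, hEo⟩
  have hsub : (Finset.range 5).image x ⊆ g • oct0 ∩ o := by
    intro y hy
    obtain ⟨i, hi, rfl⟩ := Finset.mem_image.1 hy
    have hi' := Finset.mem_range.1 hi
    rw [Finset.mem_inter]
    refine ⟨?_, hEo (hx.1 i (by omega))⟩
    rw [← h i hi']
    exact Finset.smul_mem_smul_finset (a := g) (bp_mem_oct0 i (by omega))
  have hc : ((Finset.range 5).image x).card = 5 := by
    rw [Finset.card_image_of_injOn, Finset.card_range]
    intro i hi j hj hij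
    exact hx.2 i (by have := Finset.mem_range.1 hi; omega) j
      (by have := Finset.mem_range.1 hj; omega) hij
  have h5 : 5 ≤ (g • oct0 ∩ o).card := by
    rw [← hc]
    exact Finset.card_le_card hsub
  have heq := octad_eq_of_inter _ _ (smul_mem_octads hg oct0_mem) ho h5
  have h1 : x 5 ∈ g • oct0 := by
    rw [heq]
    exact hEo (hx.1 5 (by norm_num))
  rw [← h6] at h1
  exact bp6_not_mem ((Finset.smul_mem_smul_finset_iff g).1 h1)

/-- the two alternatives, in terms of the six-set -/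
theorem enum_cases (E : Finset GolayPt) (hE : E.card = 6) (x : ℕ → GolayPt) (hx : IsEnum E x) :
    ((∃ o ∈ Cfsg.octads, E ⊆ o) ∧ ∃ g ∈ Cfsg.M24, ∀ i < 6, g (bp i) = x i) ∨
      ((¬ ∃ o ∈ Cfsg.octads, E ⊆ o) ∧
        ∃ g ∈ Cfsg.M24, (∀ i < 5, g (bp i) = x i) ∧ g (bp 6) = x 5) := by
  rcases six_cases x hx.2 with ⟨g, hg, h⟩ | ⟨g, hg, h, h6⟩
  · left
    obtain ⟨h1, h2⟩ := typeA_sub E hE x hx g hg h
    exact ⟨⟨_, h1, h2⟩, g, hg, h⟩
  · right
    exact ⟨typeB_not_sub E x hx g hg h h6, g, hg, h, h6⟩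

/-- the group induces every permutation of a six-set -/
theorem induce (E : Finset GolayPt) (hE : E.card = 6) (σ : Equiv.Perm {x // x ∈ E}) :
    ∃ g ∈ Cfsg.M24, ∀ p : {x // x ∈ E}, g p = σ p := by
  obtain ⟨x, hx⟩ := exists_enum E hE
  let y : ℕ → GolayPt := fun i => if h : i < 6 then ((σ ⟨x i, hx.1 i h⟩ : {x // x ∈ E}) : GolayPt)
    else none
  have hy : IsEnum E y := by
    constructor
    · intro i hi
      simp only [y, hi, dite_true]
      exact (σ _).2
    · intro i hi j hj h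
      simp only [y, hi, hj, dite_true] at h
      have h1 := σ.injective (Subtype.ext h)
      exact hx.2 i hi j hj (congrArg Subtype.val h1)
  have hxy : ∀ i (hi : i < 6), y i = ((σ ⟨x i, hx.1 i hi⟩ : {x // x ∈ E}) : GolayPt) := by
    intro i hi
    simp only [y, hi, dite_true]
  have key : ∃ g ∈ Cfsg.M24, ∀ i < 6, g (x i) = y i := by
    rcases enum_cases E hE x hx with ⟨hs, g, hg, h⟩ | ⟨hs, g, hg, h, h6⟩
    · rcases enum_cases E hE y hy with ⟨hs', g', hg', h'⟩ | ⟨hs', _⟩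
      · refine ⟨g' * g⁻¹, Subgroup.mul_mem _ hg' (Subgroup.inv_mem _ hg), fun i hi => ?_⟩
        rw [Equiv.Perm.mul_apply, ← h i hi, perm_inv_apply, h' i hi]
      · exact absurd hs hs'
    · rcases enum_cases E hE y hy with ⟨hs', _⟩ | ⟨hs', g', hg', h', h6'⟩
      · exact absurd hs' hs
      · refine ⟨g' * g⁻¹, Subgroup.mul_mem _ hg' (Subgroup.inv_mem _ hg), fun i hi => ?_⟩
        rw [Equiv.Perm.mul_apply]
        by_cases h5 : i < 5
        · rw [← h i h5, perm_inv_apply, h' i h5]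
        · have : i = 5 := by omega
          subst this
          rw [← h6, perm_inv_apply, h6']
  obtain ⟨g, hg, hgxy⟩ := key
  refine ⟨g, hg, fun p => ?_⟩
  obtain ⟨i, hi, e⟩ := hx.surj hE p.1 p.2
  have : p = ⟨x i, hx.1 i hi⟩ := Subtype.ext e.symm
  rw [this, ← hxy i hi, ← hgxy i hi]

/-! ### The stabilizer of the first five base points and the last one -/

theorem grp5_inv_oct (σ : Equiv.Perm GolayPt) (hσ : σ ∈ grp 5) (p : GolayPt) (hp : p ∈ oct0) :
    σ p ∈ oct0 := by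
  have h := (mem_grp_iff 5 (by norm_num) σ).1 hσ
  have := inv_oct σ h.1 h.2
  unfold oct0 at hp ⊢
  rw [mem_maskSet] at hp ⊢
  exact this p hp

theorem orbit_grp5 : MulAction.orbit (grp 5) (bp 6) = ((oct0ᶜ : Finset GolayPt) : Set GolayPt) := by
  ext q
  rw [Finset.mem_coe, Finset.mem_compl]
  constructor
  · rintro ⟨σ, rfl⟩ hq
    have h1 := grp5_inv_oct _ (Subgroup.inv_mem _ σ.2) _ hq
    have h2 : (σ.1)⁻¹ (σ • bp 6) = bp 6 := perm_inv_apply σ.1 (bp 6)
    rw [h2] at h1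
    exact bp6_not_mem h1
  · intro hq
    obtain ⟨τ, hτ, e⟩ := grp6_trans (bp 6) q bp6_not_mem hq
    exact ⟨⟨τ, grp_mono (by norm_num : 5 ≤ 6) hτ⟩, e⟩

theorem card_stab_grp5 : Nat.card (MulAction.stabilizer (grp 5) (bp 6)) = 3 := by
  have h1 : Nat.card (MulAction.orbit (grp 5) (bp 6)) *
      Nat.card (MulAction.stabilizer (grp 5) (bp 6)) = 48 := by
    rw [← Nat.card_prod, Nat.card_congr (MulAction.orbitProdStabilizerEquivGroup _ (bp 6)),
      card_grp 5 (by norm_num)]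
    rfl
  have h2 : Nat.card (MulAction.orbit (grp 5) (bp 6)) = 16 := by
    rw [orbit_grp5, Nat.card_coe_set_eq, Set.ncard_coe_finset, Finset.card_compl]
    have : oct0.card = 8 := oct0_mem.2
    rw [this]
    rfl
  rw [h2] at h1
  omega

/-- the subgroup fixing the first five base points and the last one -/
def Q3 : Subgroup (Equiv.Perm GolayPt) := (MulAction.stabilizer (grp 5) (bp 6)).map (grp 5).subtype

theorem card_Q3 : Nat.card Q3 = 3 := by
  unfold Q3
  rw [Subgroup.card_subtype, card_stab_grp5]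

theorem mem_Q3 (τ : Equiv.Perm GolayPt) :
    τ ∈ Q3 ↔ τ ∈ Cfsg.M24 ∧ (∀ i < 5, τ (bp i) = bp i) ∧ τ (bp 6) = bp 6 := by
  unfold Q3
  rw [Subgroup.mem_map]
  constructor
  · rintro ⟨σ, hσ, rfl⟩
    have h := (mem_grp_iff 5 (by norm_num) σ.1).1 σ.2
    exact ⟨h.1, h.2, MulAction.mem_stabilizer_iff.1 hσ⟩
  · rintro ⟨h1, h2, h3⟩
    exact ⟨⟨τ, (mem_grp_iff 5 (by norm_num) τ).2 ⟨h1, h2⟩⟩, MulAction.mem_stabilizer_iff.2 h3, rfl⟩

/-- conjugation, as an equivalence of subtypes -/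
def conjEquiv (g0 : Equiv.Perm GolayPt) (P Q : Equiv.Perm GolayPt → Prop)
    (h : ∀ g, P g ↔ Q (g0⁻¹ * g * g0)) : {g // P g} ≃ {τ // Q τ} where
  toFun g := ⟨g0⁻¹ * g.1 * g0, (h g.1).1 g.2⟩
  invFun τ := ⟨g0 * τ.1 * g0⁻¹, (h _).2 (by
    have : g0⁻¹ * (g0 * τ.1 * g0⁻¹) * g0 = τ.1 := by group
    rw [this]
    exact τ.2)⟩
  left_inv g := by
    apply Subtype.ext
    show g0 * (g0⁻¹ * g.1 * g0) * g0⁻¹ = g.1
    group
  right_inv τ := by
    apply Subtype.ext
    show g0⁻¹ * (g0 * τ.1 * g0⁻¹) * g0 = τ.1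
    group

theorem conj_fix (g0 g : Equiv.Perm GolayPt) (a b : GolayPt) (h : g0 a = b) :
    (g0⁻¹ * g * g0) a = a ↔ g b = b := by
  rw [Equiv.Perm.mul_apply, Equiv.Perm.mul_apply, h]
  constructor
  · intro h1
    have := congrArg g0 h1
    rwa [perm_apply_inv, h] at this
  · intro h1
    rw [h1, ← h, perm_inv_apply]

theorem conj_mem_M24 (g0 g : Equiv.Perm GolayPt) (hg0 : g0 ∈ Cfsg.M24) :
    g0⁻¹ * g * g0 ∈ Cfsg.M24 ↔ g ∈ Cfsg.M24 := by
  constructor
  · intro h
    have := Subgroup.mul_mem _ (Subgroup.mul_mem _ hg0 h) (Subgroup.inv_mem _ hg0)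
    have e : g0 * (g0⁻¹ * g * g0) * g0⁻¹ = g := by group
    rwa [e] at this
  · intro h
    exact Subgroup.mul_mem _ (Subgroup.mul_mem _ (Subgroup.inv_mem _ hg0) h) hg0

theorem card_ptwise_out (E : Finset GolayPt) (hE : E.card = 6) (hs : ¬ ∃ o ∈ Cfsg.octads, E ⊆ o) :
    Nat.card {g : Equiv.Perm GolayPt // g ∈ Cfsg.M24 ∧ ∀ p ∈ E, g p = p} = 3 := by
  obtain ⟨x, hx⟩ := exists_enum E hE
  rcases enum_cases E hE x hx with ⟨hs', _⟩ | ⟨-, g0, hg0, h, h6⟩
  · exact absurd hs' hs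
  rw [← card_Q3]
  apply Nat.card_congr
  refine conjEquiv g0 _ (fun τ => τ ∈ Q3) (fun g => ?_)
  rw [mem_Q3, conj_mem_M24 g0 g hg0, conj_fix g0 g _ _ h6]
  apply and_congr Iff.rfl
  constructor
  · intro hfix
    exact ⟨fun i hi => (conj_fix g0 g _ _ (h i hi)).2 (hfix _ (hx.1 i (by omega))),
      hfix _ (hx.1 5 (by norm_num))⟩
  · rintro ⟨h1, h2⟩ p hp
    obtain ⟨i, hi, rfl⟩ := hx.surj hE p hp
    by_cases h5 : i < 5
    · exact (conj_fix g0 g _ _ (h i h5)).1 (h1 i h5)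
    · have : i = 5 := by omega
      subst this
      exact h2

theorem card_ptwise_in (E : Finset GolayPt) (hE : E.card = 6) (hs : ∃ o ∈ Cfsg.octads, E ⊆ o) :
    Nat.card {g : Equiv.Perm GolayPt // g ∈ Cfsg.M24 ∧ ∀ p ∈ E, g p = p} = 16 := by
  obtain ⟨x, hx⟩ := exists_enum E hE
  rcases enum_cases E hE x hx with ⟨-, g0, hg0, h⟩ | ⟨hs', _⟩
  swap
  · exact absurd hs hs'
  obtain ⟨ho, hEo⟩ := typeA_sub E hE x hx g0 hg0 h
  rw [← (octad_pointwise _ ho).1]
  apply Nat.card_congr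
  apply Equiv.subtypeEquivRight
  intro g
  rw [Subgroup.mem_inf, mem_fixingSubgroup_iff]
  constructor
  · rintro ⟨hM, hfix⟩
    refine ⟨hM, fun y hy => ?_⟩
    have hτ : g0⁻¹ * g * g0 ∈ grp 6 := by
      rw [mem_grp_iff 6 (by norm_num)]
      exact ⟨(conj_mem_M24 g0 g hg0).2 hM, fun i hi =>
        (conj_fix g0 g _ _ (h i hi)).2 (hfix _ (hx.1 i hi))⟩
    obtain ⟨z, hz, rfl⟩ := Finset.mem_smul_finset.1 (Finset.mem_coe.1 hy)
    exact (conj_fix g0 g z _ rfl).1 (grp6_fix _ hτ z hz)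
  · rintro ⟨hM, hfix⟩
    exact ⟨hM, fun p hp => hfix p (Finset.mem_coe.2 (hEo hp))⟩

/-! ### The setwise stabilizer -/

theorem stab_pres (E : Finset GolayPt) (g : MulAction.stabilizer Cfsg.M24 E) :
    ∀ x, ((g : Cfsg.M24) : Equiv.Perm GolayPt) x ∈ E ↔ x ∈ E := by
  have h : ((g : Cfsg.M24) : Equiv.Perm GolayPt) • E = E := MulAction.mem_stabilizer_iff.1 g.2
  exact (smul_eq_iff_forall E _).1 h

/-- the restriction of the setwise stabilizer to the set -/
def resE (E : Finset GolayPt) : MulAction.stabilizer Cfsg.M24 E →* Equiv.Perm {x // x ∈ E} where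
  toFun g := ((g : Cfsg.M24) : Equiv.Perm GolayPt).subtypePerm (stab_pres E g)
  map_one' := by
    ext x
    rfl
  map_mul' := by
    intro a b
    ext x
    rfl

theorem resE_surjective (E : Finset GolayPt) (hE : E.card = 6) : Function.Surjective (resE E) := by
  intro σ
  obtain ⟨g, hg, h⟩ := induce E hE σ
  have hgE : g • E = E := by
    apply Finset.eq_of_subset_of_card_le
    · intro y hy
      obtain ⟨z, hz, rfl⟩ := Finset.mem_smul_finset.1 hy
      have := h ⟨z, hz⟩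
      rw [Equiv.Perm.smul_def]
      show g z ∈ E
      have h2 : g z = ((σ ⟨z, hz⟩ : {x // x ∈ E}) : GolayPt) := this
      rw [h2]
      exact (σ _).2
    · rw [Finset.card_smul_finset]
  refine ⟨⟨⟨g, hg⟩, MulAction.mem_stabilizer_iff.2 hgE⟩, ?_⟩
  apply Equiv.Perm.ext
  intro p
  apply Subtype.ext
  exact h p

theorem mem_ker_resE (E : Finset GolayPt) (g : MulAction.stabilizer Cfsg.M24 E) :
    g ∈ (resE E).ker ↔ ∀ x ∈ E, ((g : Cfsg.M24) : Equiv.Perm GolayPt) x = x := by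
  rw [MonoidHom.mem_ker]
  constructor
  · intro h x hx
    have := congrArg (fun f : Equiv.Perm {x // x ∈ E} => ((f ⟨x, hx⟩ : {x // x ∈ E}) : GolayPt)) h
    exact this
  · intro h
    apply Equiv.Perm.ext
    intro x
    apply Subtype.ext
    exact h x.1 x.2

/-- the kernel of the restriction is the pointwise stabilizer -/
def kerEquiv (E : Finset GolayPt) :
    (resE E).ker ≃ {g : Equiv.Perm GolayPt // g ∈ Cfsg.M24 ∧ ∀ p ∈ E, g p = p} where
  toFun s := ⟨((s.1 : Cfsg.M24) : Equiv.Perm GolayPt), (s.1 : Cfsg.M24).2,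
    (mem_ker_resE E s.1).1 s.2⟩
  invFun g := ⟨⟨⟨g.1, g.2.1⟩, by
    rw [MulAction.mem_stabilizer_iff]
    show g.1 • E = E
    apply Finset.eq_of_subset_of_card_le
    · intro y hy
      obtain ⟨z, hz, rfl⟩ := Finset.mem_smul_finset.1 hy
      rw [Equiv.Perm.smul_def, g.2.2 z hz]
      exact hz
    · rw [Finset.card_smul_finset]⟩, (mem_ker_resE E _).2 g.2.2⟩
  left_inv s := rfl
  right_inv g := rfl

theorem card_setwise (E : Finset GolayPt) (hE : E.card = 6) :
    Nat.card (MulAction.stabilizer Cfsg.M24 E) =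
      720 * Nat.card {g : Equiv.Perm GolayPt // g ∈ Cfsg.M24 ∧ ∀ p ∈ E, g p = p} := by
  have h1 := Subgroup.card_eq_card_quotient_mul_card_subgroup (resE E).ker
  rw [Nat.card_congr (QuotientGroup.quotientKerEquivOfSurjective (resE E)
    (resE_surjective E hE)).toEquiv, Nat.card_congr (kerEquiv E)] at h1
  rw [h1, Nat.card_eq_fintype_card (α := Equiv.Perm {x // x ∈ E}), Fintype.card_perm,
    Fintype.card_coe, hE]
  rfl

/-- Although the group of the length-24 code is only 5-transitive on the 24 points, it induces the full symmetric group on every 6-element subset: every permutation of a 6-set E is the restriction of an element of the group mapping E to itself. The pointwise stabiliser of E has order 16 when E lies in an octad and order 3 otherwise; in the latter case the setwise stabiliser of E has order 2160. -/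
theorem result (E : Finset Cfsg.GolayPt) (hE : E.card = 6) : (∀ σ : Equiv.Perm ↥E, ∃ g ∈ Cfsg.M24, ∀ p : ↥E, g p = σ p) ∧ ((∃ o ∈ Cfsg.octads, E ⊆ o) → Nat.card {g : Equiv.Perm Cfsg.GolayPt // g ∈ Cfsg.M24 ∧ ∀ p ∈ E, g p = p} = 16) ∧ ((¬ ∃ o ∈ Cfsg.octads, E ⊆ o) → Nat.card {g : Equiv.Perm Cfsg.GolayPt // g ∈ Cfsg.M24 ∧ ∀ p ∈ E, g p = p} = 3 ∧ Nat.card ↥(MulAction.stabilizer Cfsg.M24 E) = 2160) := by
  refine ⟨induce E hE, card_ptwise_in E hE, fun h => ?_⟩
  have h3 := card_ptwise_out E hE h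
  refine ⟨h3, ?_⟩
  rw [card_setwise E hE, h3]

end Cfsg.Agent.S5600
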