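import Mathlib
import Cfsg.Statements.S5601
import Cfsg.Agent.Lib.Helper29.M24Classes

set_option autoImplicit false
open scoped Pointwise
open Cfsg

namespace Cfsg.Agent.S5601

open Cfsg.Agent.Helper29.M24 Cfsg.Agent.Helper29 Cfsg.Agent.Helper27
open Cfsg.Agent.S0358 (idx)
open scoped Pointwise

/-- the fixed points of a subgroup -/
def FixS (X : Subgroup ↥Cfsg.M24) : Set Cfsg.GolayPt :=
  {p : Cfsg.GolayPt | ∀ x ∈ X, ((x : ↥Cfsg.M24) : Equiv.Perm Cfsg.GolayPt) p = p}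

theorem exists_gen (X : Subgroup ↥Cfsg.M24) (hX : Nat.card X = 3) :
    ∃ g : ↥Cfsg.M24, orderOf g = 3 ∧ X = Subgroup.zpowers g := by
  have : Fact (Nat.Prime 3) := ⟨by norm_num⟩
  have hne : ∃ x : X, x ≠ 1 := by
    have : Nontrivial X := by
      rw [← Finite.one_lt_card_iff_nontrivial, hX]
      norm_num
    exact exists_ne 1
  obtain ⟨⟨x, hx⟩, hx1⟩ := hne
  have hx1' : x ≠ 1 := fun h => hx1 (Subtype.ext h)
  have hle : Subgroup.zpowers x ≤ X := by
    rw [Subgroup.zpowers_le]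
    exact hx
  have hord : orderOf x ∣ 3 := by
    have h1 : orderOf (⟨x, hx⟩ : X) ∣ Nat.card X := orderOf_dvd_natCard _
    rw [hX] at h1
    have h2 : orderOf (⟨x, hx⟩ : X) = orderOf x := by
      rw [← Subgroup.orderOf_coe]
    rwa [h2] at h1
  have h3 : orderOf x = 3 := by
    rcases (Nat.dvd_prime (by norm_num : Nat.Prime 3)).1 hord with h | h
    · exact absurd (orderOf_eq_one_iff.1 h) hx1'
    · exact h
  refine ⟨x, h3, ?_⟩
  symm
  apply Subgroup.eq_of_le_of_card_ge hle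
  rw [Nat.card_zpowers, h3, hX]

theorem fixS_zpowers (g : ↥Cfsg.M24) :
    FixS (Subgroup.zpowers g) = {p : Cfsg.GolayPt | (g : Equiv.Perm Cfsg.GolayPt) p = p} := by
  ext p
  constructor
  · intro h
    exact h g (Subgroup.mem_zpowers g)
  · intro h x hx
    obtain ⟨k, rfl⟩ := Subgroup.mem_zpowers_iff.1 hx
    rw [Subgroup.coe_zpow]
    exact Equiv.Perm.zpow_apply_eq_self_of_apply_eq_self h k

theorem ncard_fix (σ : Equiv.Perm Cfsg.GolayPt) :
    {p : Cfsg.GolayPt | σ p = p}.ncard = (Finset.univ.filter fun p => σ p = p).card := by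
  rw [← Set.ncard_coe_finset]
  congr 1
  ext p
  simp

theorem z3A_cube : ∀ x < 24, appW (z3A ++ (z3A ++ z3A)) x = appW [] x := by decide +kernel

theorem z3B_cube : ∀ x < 24, appW (z3B ++ (z3B ++ z3B)) x = appW [] x := by decide +kernel

theorem orderOf_z3A : orderOf (evalW z3A) = 3 := by
  have : Fact (Nat.Prime 3) := ⟨by norm_num⟩
  apply orderOf_eq_prime
  · rw [pow_succ, pow_two, ← evalW_append, ← evalW_append, ← evalW_nil]
    apply evalW_eq_of_appW
    · intro l hl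
      simp only [List.mem_append] at hl
      rcases hl with (h | h) | h <;> exact z3A_lt l h
    · intro l hl
      exact absurd hl List.not_mem_nil
    · intro x hx
      rw [List.append_assoc]
      exact z3A_cube x hx
  · intro h
    have := fixed_z3A_card
    rw [h] at this
    simp at this

theorem orderOf_z3B : orderOf (evalW z3B) = 3 := by
  have : Fact (Nat.Prime 3) := ⟨by norm_num⟩
  apply orderOf_eq_prime
  · rw [pow_succ, pow_two, ← evalW_append, ← evalW_append, ← evalW_nil]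
    apply evalW_eq_of_appW
    · intro l hl
      simp only [List.mem_append] at hl
      rcases hl with (h | h) | h <;> exact z3B_lt l h
    · intro l hl
      exact absurd hl List.not_mem_nil
    · intro x hx
      rw [List.append_assoc]
      exact z3B_cube x hx
  · intro h
    apply fixed_z3B none
    rw [h, Equiv.Perm.one_apply]

/-- the class of a subgroup of order three -/
theorem class_of (X : Subgroup ↥Cfsg.M24) (hX : Nat.card X = 3) :
    ((FixS X).ncard = 6 ∧ ∃ k : ↥Cfsg.M24, ∃ g : ↥Cfsg.M24, X = Subgroup.zpowers g ∧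
        (g : Equiv.Perm Cfsg.GolayPt) = k * evalW z3A * k⁻¹) ∨
    ((FixS X).ncard = 0 ∧ ∃ k : ↥Cfsg.M24, ∃ g : ↥Cfsg.M24, X = Subgroup.zpowers g ∧
        (g : Equiv.Perm Cfsg.GolayPt) = k * evalW z3B * k⁻¹) := by
  obtain ⟨g, hg3, rfl⟩ := exists_gen X hX
  have hg3' : orderOf (g : Equiv.Perm Cfsg.GolayPt) = 3 := by
    rw [Subgroup.orderOf_coe]
    exact hg3
  rw [fixS_zpowers, ncard_fix]
  rcases ord3_fixed (g : Equiv.Perm Cfsg.GolayPt) g.2 hg3' with ⟨h6, k, hk, e⟩ | ⟨h0, k, hk, e⟩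
  · left
    exact ⟨h6, ⟨k, hk⟩, g, rfl, e⟩
  · right
    refine ⟨?_, ⟨k, hk⟩, g, rfl, e⟩
    rw [Finset.card_eq_zero, Finset.filter_eq_empty_iff]
    intro p _
    exact h0 p

theorem conj_zpowers (k g : ↥Cfsg.M24) :
    MulAut.conj k • Subgroup.zpowers g = Subgroup.zpowers (k * g * k⁻¹) := by
  ext m
  rw [Subgroup.mem_smul_pointwise_iff_exists]
  constructor
  · rintro ⟨s, hs, rfl⟩
    obtain ⟨n, rfl⟩ := Subgroup.mem_zpowers_iff.1 hs
    rw [MulAut.smul_def, MulAut.conj_apply, ← conj_zpow]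
    exact Subgroup.zpow_mem_zpowers _ n
  · intro hm
    obtain ⟨n, rfl⟩ := Subgroup.mem_zpowers_iff.1 hm
    refine ⟨g ^ n, Subgroup.zpow_mem_zpowers g n, ?_⟩
    rw [MulAut.smul_def, MulAut.conj_apply, conj_zpow]

/-- The group of the length-24 code has exactly two conjugacy classes of subgroups of order 3: a subgroup of order 3 fixes either exactly 6 of the 24 points or none of them, both cases occur, and two subgroups of order 3 with the same number of fixed points are conjugate. -/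
theorem result : (∀ X : Subgroup ↥Cfsg.M24, Nat.card X = 3 → {p : Cfsg.GolayPt | ∀ x ∈ X, ((x : ↥Cfsg.M24) : Equiv.Perm Cfsg.GolayPt) p = p}.ncard = 6 ∨ {p : Cfsg.GolayPt | ∀ x ∈ X, ((x : ↥Cfsg.M24) : Equiv.Perm Cfsg.GolayPt) p = p}.ncard = 0) ∧ (∃ X : Subgroup ↥Cfsg.M24, Nat.card X = 3 ∧ {p : Cfsg.GolayPt | ∀ x ∈ X, ((x : ↥Cfsg.M24) : Equiv.Perm Cfsg.GolayPt) p = p}.ncard = 6) ∧ (∃ X : Subgroup ↥Cfsg.M24, Nat.card X = 3 ∧ {p : Cfsg.GolayPt | ∀ x ∈ X, ((x : ↥Cfsg.M24) : Equiv.Perm Cfsg.GolayPt) p = p}.ncard = 0) ∧ ∀ X Y : Subgroup ↥Cfsg.M24, Nat.card X = 3 → Nat.card Y = 3 → {p : Cfsg.GolayPt | ∀ x ∈ X, ((x : ↥Cfsg.M24) : Equiv.Perm Cfsg.GolayPt) p = p}.ncard = {p : Cfsg.GolayPt | ∀ x ∈ Y, ((x : ↥Cfsg.M24) : Equiv.Perm Cfsg.GolayPt) p = p}.ncard → ∃ k : ↥Cfsg.M24, MulAut.conj k • X = Y := by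
  have hA : Nat.card (Subgroup.zpowers (⟨evalW z3A, evalW_mem_M24 _ z3A_lt⟩ : ↥Cfsg.M24)) = 3 := by
    rw [Nat.card_zpowers, ← Subgroup.orderOf_coe]
    exact orderOf_z3A
  have hB : Nat.card (Subgroup.zpowers (⟨evalW z3B, evalW_mem_M24 _ z3B_lt⟩ : ↥Cfsg.M24)) = 3 := by
    rw [Nat.card_zpowers, ← Subgroup.orderOf_coe]
    exact orderOf_z3B
  refine ⟨?_, ?_, ?_, ?_⟩
  · intro X hX
    rcases class_of X hX with h | h
    · exact Or.inl h.1
    · exact Or.inr h.1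
  · refine ⟨_, hA, ?_⟩
    change (FixS _).ncard = 6
    rw [fixS_zpowers, ncard_fix]
    exact fixed_z3A_card
  · refine ⟨_, hB, ?_⟩
    change (FixS _).ncard = 0
    rw [fixS_zpowers, ncard_fix, Finset.card_eq_zero, Finset.filter_eq_empty_iff]
    intro p _
    exact fixed_z3B p
  · intro X Y hX hY hXY
    change (FixS X).ncard = (FixS Y).ncard at hXY
    have key : ∀ (z : Equiv.Perm Cfsg.GolayPt) (k1 g1 k2 g2 : ↥Cfsg.M24),
        X = Subgroup.zpowers g1 → (g1 : Equiv.Perm Cfsg.GolayPt) = k1 * z * k1⁻¹ →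
        Y = Subgroup.zpowers g2 → (g2 : Equiv.Perm Cfsg.GolayPt) = k2 * z * k2⁻¹ →
        ∃ k : ↥Cfsg.M24, MulAut.conj k • X = Y := by
      intro z k1 g1 k2 g2 e1 c1 e2 c2
      refine ⟨k2 * k1⁻¹, ?_⟩
      rw [e1, e2, conj_zpowers]
      have hg : k2 * k1⁻¹ * g1 * (k2 * k1⁻¹)⁻¹ = g2 := by
        apply Subtype.ext
        simp only [Subgroup.coe_mul, Subgroup.coe_inv] at c1 c2 ⊢
        rw [c1, c2]
        group
      rw [hg]
    rcases class_of X hX with ⟨h6, k1, g1, e1, c1⟩ | ⟨h0, k1, g1, e1, c1⟩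
    · rcases class_of Y hY with ⟨h6', k2, g2, e2, c2⟩ | ⟨h0', k2, g2, e2, c2⟩
      · exact key _ k1 g1 k2 g2 e1 c1 e2 c2
      · rw [h6, h0'] at hXY
        norm_num at hXY
    · rcases class_of Y hY with ⟨h6', k2, g2, e2, c2⟩ | ⟨h0', k2, g2, e2, c2⟩
      · rw [h0, h6'] at hXY
        norm_num at hXY
      · exact key _ k1 g1 k2 g2 e1 c1 e2 c2

end Cfsg.Agent.S5601
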