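import Mathlib
import Cfsg.Statements.S5602
import Cfsg.Agent.Lib.Helper29.M24Fixed

set_option autoImplicit false
open scoped Pointwise
open Cfsg

namespace Cfsg.Agent.S5602

open Cfsg.Agent.Helper27 Cfsg.Agent.Helper29 Cfsg.Agent.Helper29.M24

set_option maxRecDepth 100000 in
theorem cO : countN (fun i => octP (cwF i) && relO pz3A (cwF i) (cwF i)) 4096 = 21 := by
  decide +kernel

set_option maxRecDepth 100000 in
theorem cT : countN (fun i => (fun _ : ℕ => true) (trioAt i) &&
    relF 3 pz3A (trioAt i) (trioAt i)) 3795 = 15 := by decide +kernel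

set_option maxRecDepth 100000 in
theorem cS : countN (fun i => (sextetAt i != 0) && relS pz3A (sextetAt i) (sextetAt i)) 2024 = 16 := by
  decide +kernel

set_option maxRecDepth 100000 in
theorem cD : countN (fun i => dodP (cwF i) && relO pz3A (cwF i) (cwF i)) 4096 = 20 := by
  decide +kernel

/-- An element of order 3 of the group of the length-24 code having exactly 6 fixed points maps to themselves exactly 21 octads, exactly 15 trios, exactly 16 sextets and exactly 20 dodecads. -/
theorem result (g : Equiv.Perm Cfsg.GolayPt) (hg : g ∈ Cfsg.M24) (h₃ : orderOf g = 3) (h₆ : (Finset.univ.filter fun p => g p = p).card = 6) : {o : Finset Cfsg.GolayPt | o ∈ Cfsg.octads ∧ g • o = o}.ncard = 21 ∧ {T : Finset (Finset Cfsg.GolayPt) | T ∈ Cfsg.trios ∧ g • T = T}.ncard = 15 ∧ {S : Finset (Finset Cfsg.GolayPt) | S ∈ Cfsg.sextets ∧ g • S = S}.ncard = 16 ∧ {d : Finset Cfsg.GolayPt | d ∈ Cfsg.dodecads ∧ g • d = d}.ncard = 20 := by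
  rcases ord3_fixed g hg h₃ with ⟨-, k, hk, rfl⟩ | ⟨hfpf, -⟩
  · refine ⟨?_, ?_, ?_, ?_⟩
    · rw [ncard_fixed_conj Cfsg.octads smul_mem_octads' k _ hk,
        ncard_fixed_octads pz3A z3A repr_z3A]
      exact cO
    · rw [ncard_fixed_conj Cfsg.trios smul_mem_trios' k _ hk,
        ncard_fixed_trios pz3A z3A repr_z3A]
      exact cT
    · rw [ncard_fixed_conj Cfsg.sextets smul_mem_sextets' k _ hk,
        ncard_fixed_sextets pz3A z3A repr_z3A]
      exact cS
    · rw [ncard_fixed_conj Cfsg.dodecads smul_mem_dodecads' k _ hk,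
        ncard_fixed_dodecads pz3A z3A repr_z3A]
      exact cD
  · exfalso
    have : (Finset.univ.filter fun p => g p = p) = ∅ := by
      rw [Finset.filter_eq_empty_iff]
      intro p _
      exact hfpf p
    rw [this] at h₆
    simp at h₆

end Cfsg.Agent.S5602
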