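import Mathlib
import Cfsg.Statements.S5603
import Cfsg.Agent.Lib.Helper29.M24Fixed

set_option autoImplicit false
open scoped Pointwise
open Cfsg

namespace Cfsg.Agent.S5603

open Cfsg.Agent.Helper27 Cfsg.Agent.Helper29 Cfsg.Agent.Helper29.M24

set_option maxRecDepth 100000 in
theorem cT : countN (fun i => (fun _ : ℕ => true) (trioAt i) &&
    relF 3 pz3B (trioAt i) (trioAt i)) 3795 = 15 := by decide +kernel

set_option maxRecDepth 100000 in
theorem cS : countN (fun i => (sextetAt i != 0) && relS pz3B (sextetAt i) (sextetAt i)) 2024 = 7 := by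
  decide +kernel

/-- A fixed-point-free element of order 3 of the group of the length-24 code maps to themselves exactly 7 sextets and exactly 15 trios. -/
theorem result (g : Equiv.Perm Cfsg.GolayPt) (hg : g ∈ Cfsg.M24) (h₃ : orderOf g = 3) (h₀ : ∀ p, g p ≠ p) : {S : Finset (Finset Cfsg.GolayPt) | S ∈ Cfsg.sextets ∧ g • S = S}.ncard = 7 ∧ {T : Finset (Finset Cfsg.GolayPt) | T ∈ Cfsg.trios ∧ g • T = T}.ncard = 15 := by
  rcases ord3_fixed g hg h₃ with ⟨h6, -⟩ | ⟨-, k, hk, rfl⟩
  · exfalso
    have hne : (Finset.univ.filter fun p => g p = p).Nonempty := by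
      rw [← Finset.card_pos, h6]
      norm_num
    obtain ⟨p, hp⟩ := hne
    exact h₀ p (Finset.mem_filter.1 hp).2
  · refine ⟨?_, ?_⟩
    · rw [ncard_fixed_conj Cfsg.sextets smul_mem_sextets' k _ hk,
        ncard_fixed_sextets pz3B z3B repr_z3B]
      exact cS
    · rw [ncard_fixed_conj Cfsg.trios smul_mem_trios' k _ hk,
        ncard_fixed_trios pz3B z3B repr_z3B]
      exact cT

end Cfsg.Agent.S5603
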