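import Mathlib
import Cfsg.Statements.S5605
import Cfsg.Agent.Lib.Helper29.M24Fixed

set_option autoImplicit false
open scoped Pointwise
open Cfsg

namespace Cfsg.Agent.S5605

open Cfsg.Agent.Helper27 Cfsg.Agent.Helper29 Cfsg.Agent.Helper29.M24

set_option maxRecDepth 100000 in
theorem cO : countN (fun i => octP (cwF i) && relO pzA (cwF i) (cwF i)) 4096 = 71 := by
  decide +kernel

set_option maxRecDepth 100000 in
theorem cT : countN (fun i => (fun _ : ℕ => true) (trioAt i) &&
    relF 3 pzA (trioAt i) (trioAt i)) 3795 = 99 := by decide +kernel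

set_option maxRecDepth 100000 in
theorem cS : countN (fun i => (sextetAt i != 0) && relS pzA (sextetAt i) (sextetAt i)) 2024 = 91 := by
  decide +kernel

/-- An involution of the group of the length-24 code with exactly 8 fixed points maps to themselves exactly 71 octads, exactly 99 trios and exactly 91 sextets. -/
theorem result (g : Equiv.Perm Cfsg.GolayPt) (hg : g ∈ Cfsg.M24) (h₂ : orderOf g = 2) (h₈ : (Finset.univ.filter fun p => g p = p).card = 8) : {o : Finset Cfsg.GolayPt | o ∈ Cfsg.octads ∧ g • o = o}.ncard = 71 ∧ {T : Finset (Finset Cfsg.GolayPt) | T ∈ Cfsg.trios ∧ g • T = T}.ncard = 99 ∧ {S : Finset (Finset Cfsg.GolayPt) | S ∈ Cfsg.sextets ∧ g • S = S}.ncard = 91 := by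
  rcases invol_fixed g hg h₂ with ⟨-, k, hk, rfl⟩ | ⟨hfpf, -⟩
  · refine ⟨?_, ?_, ?_⟩
    · rw [ncard_fixed_conj Cfsg.octads smul_mem_octads' k _ hk,
        ncard_fixed_octads pzA zA repr_zA]
      exact cO
    · rw [ncard_fixed_conj Cfsg.trios smul_mem_trios' k _ hk,
        ncard_fixed_trios pzA zA repr_zA]
      exact cT
    · rw [ncard_fixed_conj Cfsg.sextets smul_mem_sextets' k _ hk,
        ncard_fixed_sextets pzA zA repr_zA]
      exact cS
  · exfalso
    have : (Finset.univ.filter fun p => g p = p) = ∅ := by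
      rw [Finset.filter_eq_empty_iff]
      intro p _
      exact hfpf p
    rw [this] at h₈
    simp at h₈

end Cfsg.Agent.S5605
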