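import Mathlib
import Cfsg.Statements.S5606
import Cfsg.Agent.Lib.Helper29.M24Fixed

set_option autoImplicit false
open scoped Pointwise
open Cfsg

namespace Cfsg.Agent.S5606

open Cfsg.Agent.Helper27 Cfsg.Agent.Helper29 Cfsg.Agent.Helper29.M24

set_option maxRecDepth 100000 in
theorem cO : countN (fun i => octP (cwF i) && relO pzB (cwF i) (cwF i)) 4096 = 15 := by
  decide +kernel

set_option maxRecDepth 100000 in
theorem cT : countN (fun i => (fun _ : ℕ => true) (trioAt i) &&
    relF 3 pzB (trioAt i) (trioAt i)) 3795 = 75 := by decide +kernel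

set_option maxRecDepth 100000 in
theorem cS : countN (fun i => (sextetAt i != 0) && relS pzB (sextetAt i) (sextetAt i)) 2024 = 51 := by
  decide +kernel

/-- A fixed-point-free involution of the group of the length-24 code maps to themselves exactly 15 octads, exactly 75 trios and exactly 51 sextets. -/
theorem result (g : Equiv.Perm Cfsg.GolayPt) (hg : g ∈ Cfsg.M24) (h₂ : orderOf g = 2) (h₀ : ∀ p, g p ≠ p) : {o : Finset Cfsg.GolayPt | o ∈ Cfsg.octads ∧ g • o = o}.ncard = 15 ∧ {T : Finset (Finset Cfsg.GolayPt) | T ∈ Cfsg.trios ∧ g • T = T}.ncard = 75 ∧ {S : Finset (Finset Cfsg.GolayPt) | S ∈ Cfsg.sextets ∧ g • S = S}.ncard = 51 := by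
  rcases invol_fixed g hg h₂ with ⟨hoct, -⟩ | ⟨-, k, hk, rfl⟩
  · exfalso
    have hne : (Finset.univ.filter fun p => g p = p).Nonempty := by
      rw [← Finset.card_pos, hoct.2]
      norm_num
    obtain ⟨p, hp⟩ := hne
    exact h₀ p (Finset.mem_filter.1 hp).2
  · refine ⟨?_, ?_, ?_⟩
    · rw [ncard_fixed_conj Cfsg.octads smul_mem_octads' k _ hk,
        ncard_fixed_octads pzB zB repr_zB]
      exact cO
    · rw [ncard_fixed_conj Cfsg.trios smul_mem_trios' k _ hk,
        ncard_fixed_trios pzB zB repr_zB]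
      exact cT
    · rw [ncard_fixed_conj Cfsg.sextets smul_mem_sextets' k _ hk,
        ncard_fixed_sextets pzB zB repr_zB]
      exact cS

end Cfsg.Agent.S5606
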