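import Mathlib
import Cfsg.Statements.S5607
import Cfsg.Agent.Lib.Helper29.M24CentB

set_option autoImplicit false
open scoped Pointwise
open Cfsg

namespace Cfsg.Agent.S5607

open Cfsg.Agent.Helper29.M24 Cfsg.Agent.Helper29 Cfsg.Agent.Helper27 Cfsg.Agent.Helper29.CentB

/-- conjugation, as an equivalence of subtypes -/
def conjEquiv (g0 : Equiv.Perm GolayPt) (P Q : Equiv.Perm GolayPt → Prop)
    (h : ∀ g, P g ↔ Q (g0⁻¹ * g * g0)) : {g // P g} ≃ {τ // Q τ} where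
  toFun g := ⟨g0⁻¹ * g.1 * g0, (h g.1).1 g.2⟩
  invFun τ := ⟨g0 * τ.1 * g0⁻¹, (h _).2 (by
    have : g0⁻¹ * (g0 * τ.1 * g0⁻¹) * g0 = τ.1 := by group
    rw [this]
    exact τ.2)⟩
  left_inv g := by
    apply Subtype.ext
    show g0 * (g0⁻¹ * g.1 * g0) * g0⁻¹ = g.1
    group
  right_inv τ := by
    apply Subtype.ext
    show g0⁻¹ * (g0 * τ.1 * g0⁻¹) * g0 = τ.1
    group

theorem conj_mem_M24 (g0 g : Equiv.Perm GolayPt) (hg0 : g0 ∈ Cfsg.M24) :
    g0⁻¹ * g * g0 ∈ Cfsg.M24 ↔ g ∈ Cfsg.M24 := by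
  constructor
  · intro h
    have := Subgroup.mul_mem _ (Subgroup.mul_mem _ hg0 h) (Subgroup.inv_mem _ hg0)
    have e : g0 * (g0⁻¹ * g * g0) * g0⁻¹ = g := by group
    rwa [e] at this
  · intro h
    exact Subgroup.mul_mem _ (Subgroup.mul_mem _ (Subgroup.inv_mem _ hg0) h) hg0

theorem conj_comm (k z c : Equiv.Perm GolayPt) :
    c * (k * z * k⁻¹) = (k * z * k⁻¹) * c ↔ (k⁻¹ * c * k) * z = z * (k⁻¹ * c * k) := by
  constructor
  · intro h
    have : k⁻¹ * (c * (k * z * k⁻¹)) * k = k⁻¹ * ((k * z * k⁻¹) * c) * k := by rw [h]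
    calc (k⁻¹ * c * k) * z = k⁻¹ * (c * (k * z * k⁻¹)) * k := by group
      _ = k⁻¹ * ((k * z * k⁻¹) * c) * k := this
      _ = z * (k⁻¹ * c * k) := by group
  · intro h
    calc c * (k * z * k⁻¹) = k * ((k⁻¹ * c * k) * z) * k⁻¹ := by group
      _ = k * (z * (k⁻¹ * c * k)) * k⁻¹ := by rw [h]
      _ = (k * z * k⁻¹) * c := by group

/-- For a fixed-point-free involution t of the group of the length-24 code: its centraliser in that group has order 7680, is transitive on the 24 points, and is contained, together with t, in the stabiliser of some sextet. -/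
theorem result (t : Equiv.Perm Cfsg.GolayPt) (ht : t ∈ Cfsg.M24) (h₂ : orderOf t = 2) (h₀ : ∀ p, t p ≠ p) : Nat.card {c : Equiv.Perm Cfsg.GolayPt // c ∈ Cfsg.M24 ∧ c * t = t * c} = 7680 ∧ (∀ p q : Cfsg.GolayPt, ∃ c ∈ Cfsg.M24, c * t = t * c ∧ c p = q) ∧ ∃ S ∈ Cfsg.sextets, t • S = S ∧ ∀ c ∈ Cfsg.M24, c * t = t * c → c • S = S := by
  rcases invol_fixed t ht h₂ with ⟨hoct, -⟩ | ⟨-, k, hk, rfl⟩
  · exfalso
    have h8 : (Finset.univ.filter fun p => t p = p).card = 8 := hoct.2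
    have h0 : (Finset.univ.filter fun p => t p = p) = ∅ := by
      rw [Finset.filter_eq_empty_iff]
      intro p _
      exact h₀ p
    rw [h0] at h8
    simp at h8
  have hzz : evalW zB = zz := rfl
  rw [hzz]
  have hiff : ∀ c : Equiv.Perm GolayPt, (c ∈ Cfsg.M24 ∧ c * (k * zz * k⁻¹) = k * zz * k⁻¹ * c) ↔
      k⁻¹ * c * k ∈ CB := by
    intro c
    rw [mem_CB, conj_mem_M24 k c hk, conj_comm]
  refine ⟨?_, ?_, ?_⟩
  · rw [← card_CB]
    apply Nat.card_congr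
    exact conjEquiv k _ (fun τ => τ ∈ CB) hiff
  · intro p q
    obtain ⟨a, ha, ea⟩ := transA (k⁻¹ p)
    obtain ⟨b, hb, eb⟩ := transA (k⁻¹ q)
    have hc : b * a⁻¹ ∈ CB := Subgroup.mul_mem _ hb (Subgroup.inv_mem _ ha)
    have hc' : k⁻¹ * (k * (b * a⁻¹) * k⁻¹) * k ∈ CB := by
      have : k⁻¹ * (k * (b * a⁻¹) * k⁻¹) * k = b * a⁻¹ := by group
      rwa [this]
    obtain ⟨h1, h2⟩ := (hiff _).2 hc'
    refine ⟨k * (b * a⁻¹) * k⁻¹, h1, h2, ?_⟩
    simp only [Equiv.Perm.mul_apply]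
    rw [← ea, perm_inv_apply, eb, perm_apply_inv]
  · refine ⟨k • S0, smul_mem_sextets hk S0_mem, ?_, ?_⟩
    · have hz : zz • S0 = S0 := by
        have hzc : zz ∈ CB := (mem_CB zz).2 ⟨evalW_mem_M24 zB zB_lt, rfl⟩
        exact CB_smul_S0 zz hzc
      rw [mul_smul, mul_smul, inv_smul_smul, hz]
    · intro c hc hcomm
      have := CB_smul_S0 _ ((hiff c).1 ⟨hc, hcomm⟩)
      rw [mul_smul, mul_smul] at this
      have h2 := congrArg (fun X => k • X) this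
      simp only [smul_inv_smul] at h2
      exact h2

end Cfsg.Agent.S5607
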