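import Mathlib
import Cfsg.Statements.S5608
import Cfsg.Agent.Lib.Helper29.M24CentB

set_option autoImplicit false
open scoped Pointwise
open Cfsg

namespace Cfsg.Agent.S5608

open Cfsg.Agent.Helper29.M24 Cfsg.Agent.Helper29 Cfsg.Agent.Helper27 Cfsg.Agent.Helper29.CentB
open Cfsg.Agent.S0358 (idx)

theorem fact3 : Fact (Nat.Prime 3) := ⟨by norm_num⟩

theorem factorization3 : (7680 : ℕ).factorization 3 = 1 := by
  have h : (7680 : ℕ) = 3 * 2560 := by norm_num
  rw [h, Nat.factorization_mul (by norm_num) (by norm_num)]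
  have h3 : Nat.Prime 3 := by norm_num
  rw [Finsupp.add_apply, h3.factorization_self, Nat.factorization_eq_zero_of_not_dvd (by norm_num)]

/-- in a group of order 7680 the subgroups of order three are conjugate -/
theorem conj_of_order3 {G : Type*} [Group G] (hG : Nat.card G = 7680) (x y : G)
    (hx : orderOf x = 3) (hy : orderOf y = 3) : ∃ c : G, c * x * c⁻¹ ∈ Subgroup.zpowers y := by
  have := fact3
  have : Finite G := Nat.finite_of_card_ne_zero (by rw [hG]; norm_num)
  let P : Sylow 3 G := Sylow.ofCard (Subgroup.zpowers x)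
    (by rw [Nat.card_zpowers, hx, hG, factorization3, pow_one])
  let Q : Sylow 3 G := Sylow.ofCard (Subgroup.zpowers y)
    (by rw [Nat.card_zpowers, hy, hG, factorization3, pow_one])
  obtain ⟨c, hc⟩ := MulAction.exists_smul_eq G P Q
  have h1 : (Q : Subgroup G) = MulAut.conj c • (P : Subgroup G) := by
    rw [← hc]
    exact Sylow.coe_subgroup_smul
  have h2 : (P : Subgroup G) = Subgroup.zpowers x := rfl
  have h3 : (Q : Subgroup G) = Subgroup.zpowers y := rfl
  rw [h2, h3] at h1
  refine ⟨c, ?_⟩
  rw [h1]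
  have : MulAut.conj c • x ∈ MulAut.conj c • Subgroup.zpowers x :=
    Subgroup.smul_mem_pointwise_smul _ _ _ (Subgroup.mem_zpowers x)
  exact this

/-- a fixed-point-free element of order three commuting with the standard involution -/
def wyB : List ℕ := [0, 0, 1, 0, 3, 2, 4, 5, 7, 7, 6, 10]

def yB : Equiv.Perm GolayPt := evalW wyB

theorem wyB_lt : ∀ l ∈ wyB, l < ngen := by decide

theorem yB_mem_CB : yB ∈ CB := by
  rw [mem_CB]
  refine ⟨evalW_mem_M24 _ wyB_lt, ?_⟩
  unfold yB zz
  rw [← evalW_append, ← evalW_append]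
  exact evalW_eq_of_appW _ _ (by decide) (by decide) (by decide +kernel)

theorem yB_cube : yB ^ 3 = 1 := by
  unfold yB
  rw [← evalW_powW]
  have := evalW_eq_of_appW (powW wyB 3) [] (powW_lt wyB wyB_lt 3) (fun l hl => by simp at hl)
    (by decide +kernel)
  rw [this]
  rfl

theorem yB_fpf (p : GolayPt) : yB p ≠ p := by
  intro h
  have := congrArg idx h
  unfold yB at this
  rw [idx_evalW _ wyB_lt] at this
  have hx := M24.idx_lt p
  revert this
  generalize idx p = x at hx
  revert x
  decide +kernel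

theorem yB_ne_one : yB ≠ 1 := by
  intro h
  apply yB_fpf none
  rw [h]
  rfl

theorem orderOf_yB : orderOf yB = 3 := by
  have := fact3
  exact orderOf_eq_prime yB_cube yB_ne_one

/-- the nontrivial powers of `yB` are fixed-point-free -/
theorem yB_zpow_fpf (j : ℤ) (hj : yB ^ j ≠ 1) (p : GolayPt) : (yB ^ j) p ≠ p := by
  rw [← zpow_mod_orderOf, orderOf_yB] at hj ⊢
  have h0 : 0 ≤ j % 3 := Int.emod_nonneg _ (by norm_num)
  have h3 : j % 3 < 3 := Int.emod_lt_of_pos _ (by norm_num)
  generalize j % 3 = m at hj h0 h3 ⊢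
  interval_cases m
  · exact absurd rfl hj
  · rw [zpow_one]
    exact yB_fpf p
  · intro h
    have e : yB ^ (2 : ℤ) = yB⁻¹ := by
      have : yB ^ (2 : ℤ) * yB = 1 := by
        have := yB_cube
        rw [pow_succ] at this
        exact_mod_cast this
      exact eq_inv_of_mul_eq_one_left this
    rw [e] at h
    apply yB_fpf p
    conv_lhs => rw [← h]
    exact perm_apply_inv yB p

/-- If an element of order 3 and an involution of the group of the length-24 code commute, then either the element of order 3 has exactly 6 fixed points and the involution exactly 8, or both are fixed-point-free. -/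
theorem result (x s : Equiv.Perm Cfsg.GolayPt) (hx : x ∈ Cfsg.M24) (hs : s ∈ Cfsg.M24) (h₃ : orderOf x = 3) (h₂ : orderOf s = 2) (hc : Commute x s) : ((Finset.univ.filter fun p => x p = p).card = 6 ∧ (Finset.univ.filter fun p => s p = p).card = 8) ∨ ((Finset.univ.filter fun p => x p = p).card = 0 ∧ (Finset.univ.filter fun p => s p = p).card = 0) := by
  have hxs : x * s = s * x := hc.eq
  rcases invol_fixed s hs h₂ with ⟨hoct, -⟩ | ⟨hfpf, k, hk, rfl⟩
  · left
    have hpres : ∀ p, x p ∈ (Finset.univ.filter fun p => s p = p) ↔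
        p ∈ (Finset.univ.filter fun p => s p = p) := by
      intro p
      simp only [Finset.mem_filter, Finset.mem_univ, true_and]
      have e : s (x p) = x (s p) := by
        have := congrArg (fun f : Equiv.Perm Cfsg.GolayPt => f p) hxs
        simpa [Equiv.Perm.mul_apply] using this.symm
      rw [e]
      exact ⟨fun h => x.injective h, fun h => by rw [h]⟩
    have hx3 : x ^ 3 = 1 := by
      rw [← h₃]
      exact pow_orderOf_eq_one x
    obtain ⟨p, hp, hfix⟩ := exists_fixed_of_not_dvd x 3 (by norm_num) hx3 _ hpres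
      (by rw [hoct.2]; norm_num)
    refine ⟨?_, hoct.2⟩
    rcases ord3_fixed x hx h₃ with ⟨h6, -⟩ | ⟨hf, -⟩
    · exact h6
    · exact absurd hfix (hf p)
  · right
    have hzz : evalW zB = zz := rfl
    rw [hzz] at hxs hfpf ⊢
    have hx' : k⁻¹ * x * k ∈ CB := by
      rw [mem_CB]
      refine ⟨Subgroup.mul_mem _ (Subgroup.mul_mem _ (Subgroup.inv_mem _ hk) hx) hk, ?_⟩
      calc k⁻¹ * x * k * zz = k⁻¹ * (x * (k * zz * k⁻¹)) * k := by group
        _ = k⁻¹ * ((k * zz * k⁻¹) * x) * k := by rw [hxs]
        _ = zz * (k⁻¹ * x * k) := by group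
    have ho1 : orderOf (⟨k⁻¹ * x * k, hx'⟩ : CB) = 3 := by
      rw [Subgroup.orderOf_mk, ← h₃]
      have := orderOf_injective (MulAut.conj k⁻¹).toMonoidHom (MulAut.conj k⁻¹).injective x
      rw [← this]
      congr 1
    have ho2 : orderOf (⟨yB, yB_mem_CB⟩ : CB) = 3 := by
      rw [Subgroup.orderOf_mk, orderOf_yB]
    obtain ⟨c, hcz⟩ := conj_of_order3 card_CB _ _ ho1 ho2
    obtain ⟨j, hj⟩ := Subgroup.mem_zpowers_iff.1 hcz
    have hj' : yB ^ j = c.1 * (k⁻¹ * x * k) * (c.1)⁻¹ := by
      have := congrArg Subtype.val hj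
      simpa using this
    have hne : yB ^ j ≠ 1 := by
      rw [hj']
      intro h
      have hx1 : x = 1 := by
        have e : x = k * (c.1)⁻¹ * (c.1 * (k⁻¹ * x * k) * (c.1)⁻¹) * c.1 * k⁻¹ := by group
        rw [e, h]
        group
      rw [hx1, orderOf_one] at h₃
      norm_num at h₃
    have hxe : x = (k * (c.1)⁻¹) * (yB ^ j) * (k * (c.1)⁻¹)⁻¹ := by
      rw [hj']
      group
    have hxf : ∀ p, x p ≠ p := by
      rw [hxe]
      exact fpf_conj _ _ (yB_zpow_fpf j hne)
    refine ⟨?_, ?_⟩
    · rw [Finset.card_eq_zero, Finset.filter_eq_empty_iff]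
      intro p _
      exact hxf p
    · rw [Finset.card_eq_zero, Finset.filter_eq_empty_iff]
      intro p _
      exact hfpf p

end Cfsg.Agent.S5608
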