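import Mathlib
import Cfsg.Statements.S5609
import Cfsg.Agent.Lib.Helper29.M24Cfg
import Cfsg.Agent.Lib.Helper29.M24Steiner
import Cfsg.Agent.Lib.Helper29.M24Trio
import Cfsg.Agent.S1556

set_option autoImplicit false
open scoped Pointwise
open Cfsg

namespace Cfsg.Agent.S5609

open Cfsg.Agent.Helper29.M24 Cfsg.Agent.Helper29 Cfsg.Agent.Helper27

theorem adj_iff (a b : Cfsg.octads) :
    (Cfsg.blockGraph Cfsg.octads).Adj a b ↔ a ≠ b ∧ Disjoint (a : Finset GolayPt) b := by
  unfold Cfsg.blockGraph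
  rw [SimpleGraph.fromRel_adj]
  constructor
  · rintro ⟨h1, h2 | h2⟩
    · exact ⟨h1, h2⟩
    · exact ⟨h1, h2.symm⟩
  · rintro ⟨h1, h2⟩
    exact ⟨h1, Or.inl h2⟩

theorem adj_of_disjoint (a b : Cfsg.octads) (h : Disjoint (a : Finset GolayPt) b) :
    (Cfsg.blockGraph Cfsg.octads).Adj a b := by
  rw [adj_iff]
  refine ⟨fun hab => ?_, h⟩
  exact octad_ne_of_disjoint a.2 h (congrArg Subtype.val hab)

theorem disjoint_smul (g : Equiv.Perm GolayPt) (a b : Finset GolayPt) (h : Disjoint a b) :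
    Disjoint (g • a) (g • b) :=
  (Finset.disjoint_image (MulAction.injective g)).2 h

theorem disjoint_smul_iff (g : Equiv.Perm GolayPt) (a b : Finset GolayPt) :
    Disjoint (g • a) (g • b) ↔ Disjoint a b :=
  Finset.disjoint_image (MulAction.injective g)

theorem inter_card_cases (o o' : Finset GolayPt) (ho : o ∈ Cfsg.octads) (ho' : o' ∈ Cfsg.octads)
    (hne : o ≠ o') : (o ∩ o').card = 0 ∨ (o ∩ o').card = 4 ∨ (o ∩ o').card = 2 := by
  have hc : inCode (symmDiff o o') := inCode_symmDiff ho.1 ho'.1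
  have hcard := card_symmDiff_add o o'
  rw [ho.2, ho'.2] at hcard
  have h8 : (o ∩ o').card ≠ 8 := by
    intro h
    apply hne
    apply octad_eq_of_inter o o' ho ho'
    omega
  rcases inCode_card hc with h' | h' | h' | h' | h' <;> omega

/-- a pair of octads is the image of any pair with base octad and the same intersection size -/
theorem exists_map_pair (R : Finset GolayPt) (hR : R ∈ Cfsg.octads) (o o' : Finset GolayPt)
    (ho : o ∈ Cfsg.octads) (ho' : o' ∈ Cfsg.octads) (h : (o ∩ o').card = (oct0 ∩ R).card) :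
    ∃ g ∈ Cfsg.M24, g • oct0 = o ∧ g • R = o' := by
  obtain ⟨g1, hg1, rfl⟩ := octad_transitive oct0 o oct0_mem ho
  have hi : g1⁻¹ ∈ Cfsg.M24 := Subgroup.inv_mem _ hg1
  have ho'' : g1⁻¹ • o' ∈ Cfsg.octads := smul_mem_octads hi ho'
  have hc : (oct0 ∩ R).card = (oct0 ∩ g1⁻¹ • o').card := by
    rw [← h]
    have : g1 • oct0 ∩ o' = g1 • (oct0 ∩ g1⁻¹ • o') := by
      rw [Finset.smul_finset_inter, smul_inv_smul]
    rw [this, Finset.card_smul_finset]
  obtain ⟨g2, hg2, hg2o, hg2o'⟩ := Cfsg.Agent.S1556.result oct0 R (g1⁻¹ • o') oct0_mem hR ho'' hc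
  refine ⟨g1 * g2, Subgroup.mul_mem _ hg1 hg2, ?_, ?_⟩
  · rw [mul_smul, hg2o]
  · rw [mul_smul, hg2o', smul_inv_smul]

theorem mem_oct_cw (n : ℕ) (m : ℕ) (h : cw n = m) (h8 : pop24 (cw n) = 8) :
    maskSet m ∈ Cfsg.octads := by
  rw [← h]
  exact maskSet_cw_mem_octads n h8

theorem octX_mem : maskSet 3277413 ∈ Cfsg.octads :=
  mem_oct_cw 15 _ (by decide +kernel) (by decide +kernel)

theorem octY_mem : maskSet 628112 ∈ Cfsg.octads :=
  mem_oct_cw 586 _ (by decide +kernel) (by decide +kernel)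

theorem octB_mem : maskSet 5405696 ∈ Cfsg.octads :=
  mem_oct_cw 70 _ (by decide +kernel) (by decide +kernel)

theorem octP_mem : maskSet 2702848 ∈ Cfsg.octads :=
  mem_oct_cw 35 _ (by decide +kernel) (by decide +kernel)

theorem octQ_mem : maskSet 262637 ∈ Cfsg.octads :=
  mem_oct_cw 1921 _ (by decide +kernel) (by decide +kernel)

/-- two octads meeting in four points have a common neighbour -/
theorem common4 (o o' : Finset GolayPt) (ho : o ∈ Cfsg.octads) (ho' : o' ∈ Cfsg.octads)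
    (h : (o ∩ o').card = 4) : ∃ m ∈ Cfsg.octads, Disjoint o m ∧ Disjoint m o' := by
  obtain ⟨g, hg, rfl, rfl⟩ := exists_map_pair _ octX_mem o o' ho ho' (by
    rw [h, oct0_eq, inter_maskSet_card]
    decide +kernel)
  refine ⟨g • maskSet 628112, smul_mem_octads hg octY_mem, disjoint_smul g _ _ ?_,
    disjoint_smul g _ _ ?_⟩
  · rw [oct0_eq, disjoint_maskSet_iff]
    decide +kernel
  · rw [disjoint_maskSet_iff]
    decide +kernel

/-- two octads meeting in two points are joined by a path of length three -/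
theorem path2 (o o' : Finset GolayPt) (ho : o ∈ Cfsg.octads) (ho' : o' ∈ Cfsg.octads)
    (h : (o ∩ o').card = 2) : ∃ m ∈ Cfsg.octads, ∃ m' ∈ Cfsg.octads,
      Disjoint o m ∧ Disjoint m m' ∧ Disjoint m' o' := by
  obtain ⟨g, hg, rfl, rfl⟩ := exists_map_pair _ octB_mem o o' ho ho' (by
    rw [h, oct0_eq, inter_maskSet_card]
    decide +kernel)
  refine ⟨g • maskSet 2702848, smul_mem_octads hg octP_mem, g • maskSet 262637,
    smul_mem_octads hg octQ_mem, disjoint_smul g _ _ ?_, disjoint_smul g _ _ ?_,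
    disjoint_smul g _ _ ?_⟩
  · rw [oct0_eq, disjoint_maskSet_iff]
    decide +kernel
  · rw [disjoint_maskSet_iff]
    decide +kernel
  · rw [disjoint_maskSet_iff]
    decide +kernel

set_option maxRecDepth 100000 in
theorem none2' : (List.range 4096).all (fun n => !(pop24 (cw n) == 8 &&
    pop24 (8536111 &&& cw n) == 0 && pop24 (cw n &&& 5405696) == 0)) = true := by decide +kernel

/-- two octads meeting in two points have no common neighbour -/
theorem none2 (o o' : Finset GolayPt) (ho : o ∈ Cfsg.octads) (ho' : o' ∈ Cfsg.octads)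
    (h : (o ∩ o').card = 2) (m : Finset GolayPt) (hm : m ∈ Cfsg.octads) (h1 : Disjoint o m)
    (h2 : Disjoint m o') : False := by
  obtain ⟨g, hg, rfl, rfl⟩ := exists_map_pair _ octB_mem o o' ho ho' (by
    rw [h, oct0_eq, inter_maskSet_card]
    decide +kernel)
  have hm' : g⁻¹ • m ∈ Cfsg.octads := smul_mem_octads (Subgroup.inv_mem _ hg) hm
  have e : m = g • (g⁻¹ • m) := (smul_inv_smul g m).symm
  rw [e, disjoint_smul_iff] at h1 h2
  obtain ⟨n, hn, h8, en⟩ := (mem_octads_iff' _).1 hm'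
  rw [en, oct0_eq, disjoint_maskSet_iff] at h1
  rw [en, disjoint_maskSet_iff] at h2
  have := List.all_eq_true.1 none2' n (List.mem_range.2 hn)
  rw [h8, h1, h2] at this
  simp at this

/-- In the graph on the 759 octads of the length-24 code in which two octads are adjacent when they are disjoint, the graph is connected (of diameter 3) and two distinct octads are at distance 1, 2 or 3 exactly when they meet in 0, 4 or 2 points respectively. -/
theorem result (o o' : Finset Cfsg.GolayPt) (ho : o ∈ Cfsg.octads) (ho' : o' ∈ Cfsg.octads) (hne : o ≠ o') : (Cfsg.blockGraph Cfsg.octads).Connected ∧ ((Cfsg.blockGraph Cfsg.octads).dist ⟨o, ho⟩ ⟨o', ho'⟩ = 1 ↔ (o ∩ o').card = 0) ∧ ((Cfsg.blockGraph Cfsg.octads).dist ⟨o, ho⟩ ⟨o', ho'⟩ = 2 ↔ (o ∩ o').card = 4) ∧ ((Cfsg.blockGraph Cfsg.octads).dist ⟨o, ho⟩ ⟨o', ho'⟩ = 3 ↔ (o ∩ o').card = 2) := by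
  have key : ∀ a b : Cfsg.octads, a ≠ b →
      (((a : Finset GolayPt) ∩ b).card = 0 ∧ (Cfsg.blockGraph Cfsg.octads).dist a b = 1) ∨
      (((a : Finset GolayPt) ∩ b).card = 4 ∧ (Cfsg.blockGraph Cfsg.octads).dist a b = 2) ∨
      (((a : Finset GolayPt) ∩ b).card = 2 ∧ (Cfsg.blockGraph Cfsg.octads).dist a b = 3) := by
    intro a b hab
    have hab' : (a : Finset GolayPt) ≠ b := fun h => hab (Subtype.ext h)
    have hnadj : ((a : Finset GolayPt) ∩ b).card ≠ 0 → ¬ (Cfsg.blockGraph Cfsg.octads).Adj a b := by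
      intro h0 hadj
      apply h0
      rw [Finset.card_eq_zero, ← Finset.disjoint_iff_inter_eq_empty]
      exact ((adj_iff a b).1 hadj).2
    rcases inter_card_cases a b a.2 b.2 hab' with h | h | h
    · left
      refine ⟨h, SimpleGraph.dist_eq_one_iff_adj.2 (adj_of_disjoint a b ?_)⟩
      rw [Finset.disjoint_iff_inter_eq_empty]
      exact Finset.card_eq_zero.1 h
    · right; left
      refine ⟨h, ?_⟩
      obtain ⟨m, hm, d1, d2⟩ := common4 a b a.2 b.2 h
      have w : (Cfsg.blockGraph Cfsg.octads).Walk a b :=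
        SimpleGraph.Walk.cons (adj_of_disjoint a ⟨m, hm⟩ d1)
          (SimpleGraph.Walk.cons (adj_of_disjoint ⟨m, hm⟩ b d2) SimpleGraph.Walk.nil)
      have hle : (Cfsg.blockGraph Cfsg.octads).dist a b ≤ 2 := by
        have := SimpleGraph.dist_le (SimpleGraph.Walk.cons (adj_of_disjoint a ⟨m, hm⟩ d1)
          (SimpleGraph.Walk.cons (adj_of_disjoint ⟨m, hm⟩ b d2) SimpleGraph.Walk.nil))
        simpa using this
      have hr : (Cfsg.blockGraph Cfsg.octads).Reachable a b := ⟨w⟩
      have h0 : (Cfsg.blockGraph Cfsg.octads).dist a b ≠ 0 := by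
        rw [SimpleGraph.dist_ne_zero_iff_ne_and_reachable]
        exact ⟨hab, hr⟩
      have h1 : (Cfsg.blockGraph Cfsg.octads).dist a b ≠ 1 := by
        rw [Ne, SimpleGraph.dist_eq_one_iff_adj]
        exact hnadj (by omega)
      omega
    · right; right
      refine ⟨h, ?_⟩
      obtain ⟨m, hm, m', hm', d1, d2, d3⟩ := path2 a b a.2 b.2 h
      have w : (Cfsg.blockGraph Cfsg.octads).Walk a b :=
        SimpleGraph.Walk.cons (adj_of_disjoint a ⟨m, hm⟩ d1)
          (SimpleGraph.Walk.cons (adj_of_disjoint ⟨m, hm⟩ ⟨m', hm'⟩ d2)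
            (SimpleGraph.Walk.cons (adj_of_disjoint ⟨m', hm'⟩ b d3) SimpleGraph.Walk.nil))
      have hle : (Cfsg.blockGraph Cfsg.octads).dist a b ≤ 3 := by
        have := SimpleGraph.dist_le (SimpleGraph.Walk.cons (adj_of_disjoint a ⟨m, hm⟩ d1)
          (SimpleGraph.Walk.cons (adj_of_disjoint ⟨m, hm⟩ ⟨m', hm'⟩ d2)
            (SimpleGraph.Walk.cons (adj_of_disjoint ⟨m', hm'⟩ b d3) SimpleGraph.Walk.nil)))
        simpa using this
      have hr : (Cfsg.blockGraph Cfsg.octads).Reachable a b := ⟨w⟩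
      have h0 : (Cfsg.blockGraph Cfsg.octads).dist a b ≠ 0 := by
        rw [SimpleGraph.dist_ne_zero_iff_ne_and_reachable]
        exact ⟨hab, hr⟩
      have h1 : (Cfsg.blockGraph Cfsg.octads).dist a b ≠ 1 := by
        rw [Ne, SimpleGraph.dist_eq_one_iff_adj]
        exact hnadj (by omega)
      have h2 : (Cfsg.blockGraph Cfsg.octads).dist a b ≠ 2 := by
        intro h2
        have he : (Cfsg.blockGraph Cfsg.octads).edist a b = 2 := by
          rw [← hr.coe_dist_eq_edist, h2]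
          rfl
        obtain ⟨-, -, c, hc⟩ := SimpleGraph.edist_eq_two_iff.1 he
        rw [SimpleGraph.mem_commonNeighbors] at hc
        exact none2 a b a.2 b.2 h c c.2 ((adj_iff a c).1 hc.1).2 ((adj_iff b c).1 hc.2).2.symm
      omega
  have hconn : (Cfsg.blockGraph Cfsg.octads).Connected := by
    have : Nonempty Cfsg.octads := ⟨⟨o, ho⟩⟩
    refine ⟨fun a b => ?_⟩
    by_cases hab : a = b
    · subst hab
      exact SimpleGraph.Reachable.refl _
    · apply SimpleGraph.Reachable.of_dist_ne_zero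
      rcases key a b hab with h | h | h <;> omega
  have hne' : (⟨o, ho⟩ : Cfsg.octads) ≠ ⟨o', ho'⟩ := fun h => hne (congrArg Subtype.val h)
  have hk : ((o ∩ o').card = 0 ∧ (Cfsg.blockGraph Cfsg.octads).dist ⟨o, ho⟩ ⟨o', ho'⟩ = 1) ∨
      ((o ∩ o').card = 4 ∧ (Cfsg.blockGraph Cfsg.octads).dist ⟨o, ho⟩ ⟨o', ho'⟩ = 2) ∨
      ((o ∩ o').card = 2 ∧ (Cfsg.blockGraph Cfsg.octads).dist ⟨o, ho⟩ ⟨o', ho'⟩ = 3) :=
    key ⟨o, ho⟩ ⟨o', ho'⟩ hne'
  refine ⟨hconn, ?_, ?_, ?_⟩
  · constructor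
    · intro h
      rcases hk with h' | h' | h' <;> omega
    · intro h
      rcases hk with h' | h' | h' <;> omega
  · constructor
    · intro h
      rcases hk with h' | h' | h' <;> omega
    · intro h
      rcases hk with h' | h' | h' <;> omega
  · constructor
    · intro h
      rcases hk with h' | h' | h' <;> omega
    · intro h
      rcases hk with h' | h' | h' <;> omega

end Cfsg.Agent.S5609
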