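import Mathlib
import Cfsg.Statements.S5614
import Cfsg.Agent.Lib.Helper29.M24Cfg
import Cfsg.Agent.Lib.Helper29.M24Dodecad
import Cfsg.Agent.S1556
import Cfsg.Agent.S5613

set_option autoImplicit false
open scoped Pointwise
open Cfsg

namespace Cfsg.Agent.S5614

open Cfsg.Agent.Helper29.M24 Cfsg.Agent.Helper29 Cfsg.Agent.Helper27
open Cfsg.Agent.S0358 (idx)

/-- the reference octad meeting `oct0` in the two points 14 and 17 -/
def octB : Finset GolayPt := maskSet 5405696

theorem octB_mem : octB ∈ Cfsg.octads := by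
  have h : (5405696 : ℕ) = cw 70 := by decide +kernel
  unfold octB
  rw [h]
  exact maskSet_cw_mem_octads 70 (by decide +kernel)

theorem octB_meet : (oct0 ∩ octB).card = 2 := by
  unfold octB
  rw [oct0_eq, inter_maskSet_card]
  decide +kernel

theorem triv6 : ∀ p ∈ orb 6, mapsW (tw 6 p) 5405696 5405696 →
    ∀ x < 24, appW (tw 6 p) x = appW [] x := by decide +kernel

theorem bp_not_mem_octB : ∀ i < 6, bp i ∉ octB := by
  intro i hi
  unfold octB bp
  rw [mem_maskSet, idx_dec_bpt i (by omega)]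
  revert i
  decide +kernel

theorem core0 (τ : Equiv.Perm GolayPt) (hτ : τ ∈ Cfsg.M24) (h1 : τ • octB = octB)
    (hfix : ∀ x ∈ oct0 \ octB, τ x = x) : τ = 1 := by
  have hfix' : ∀ i < 6, τ (dec (bpt i)) = dec (bpt i) := fun i hi =>
    hfix _ (Finset.mem_sdiff.2 ⟨bp_mem_oct0 i hi, bp_not_mem_octB i hi⟩)
  have hτ6 : τ ∈ grp 6 := (mem_grp_iff 6 (by norm_num) τ).2 ⟨hτ, hfix'⟩
  obtain ⟨p, hp, ρ, hρ, e⟩ := grp_step 6 (by norm_num) τ hτ6
  rw [grp_seven, Subgroup.mem_bot] at hρ
  subst hρ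
  rw [mul_one] at e
  have h3 := ok3 6 (by norm_num) p hp
  have hw : ∀ l ∈ tw 6 p, l < ngen := fun l hl => (h3.1 l hl).1
  have hm : mapsW (tw 6 p) 5405696 5405696 := by
    intro x hx hb
    have h2 : τ (dec x) ∈ octB := by
      rw [← h1]
      exact Finset.smul_mem_smul_finset (a := τ) ((mem_maskSet_idx _ x hx).2 hb)
    unfold octB at h2
    rw [mem_maskSet, e, idx_evalW _ hw] at h2
    have hx' : idx (dec x) = x := idx_dec ⟨x, hx⟩
    rwa [hx'] at h2
  have := evalW_eq_of_appW (tw 6 p) [] hw (fun l hl => by simp at hl) (triv6 p hp hm)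
  rw [e, this]
  rfl

theorem core (o o' : Finset GolayPt) (ho : o ∈ Cfsg.octads) (ho' : o' ∈ Cfsg.octads)
    (h₂ : (o ∩ o').card = 2) (σ : Equiv.Perm GolayPt) (hσ : σ ∈ Cfsg.M24) (h1 : σ • o = o)
    (h2 : σ • o' = o') (hfix : ∀ x ∈ o \ o', σ x = x) : σ = 1 := by
  obtain ⟨g1, hg1, rfl⟩ := octad_transitive oct0 o oct0_mem ho
  have hi : g1⁻¹ ∈ Cfsg.M24 := Subgroup.inv_mem _ hg1
  have ho'' : g1⁻¹ • o' ∈ Cfsg.octads := smul_mem_octads hi ho'
  have hc : (oct0 ∩ octB).card = (oct0 ∩ g1⁻¹ • o').card := by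
    rw [octB_meet, ← h₂]
    have : g1 • oct0 ∩ o' = g1 • (oct0 ∩ g1⁻¹ • o') := by
      rw [Finset.smul_finset_inter, smul_inv_smul]
    rw [this, Finset.card_smul_finset]
  obtain ⟨g2, hg2, hg2o, hg2o'⟩ := Cfsg.Agent.S1556.result oct0 octB (g1⁻¹ • o') oct0_mem octB_mem ho'' hc
  -- g = g1 * g2 maps (oct0, octB) to (o, o')
  set g := g1 * g2 with hg
  have hgM : g ∈ Cfsg.M24 := Subgroup.mul_mem _ hg1 hg2
  have ego : g • oct0 = g1 • oct0 := by rw [hg, mul_smul, hg2o]
  have ego' : g • octB = o' := by rw [hg, mul_smul, hg2o', smul_inv_smul]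
  have hτ : g⁻¹ * σ * g = 1 := by
    apply core0 _ (Subgroup.mul_mem _ (Subgroup.mul_mem _ (Subgroup.inv_mem _ hgM) hσ) hgM)
    · rw [mul_smul, mul_smul, ego', h2, ← ego', inv_smul_smul]
    · intro x hx
      have hx' : g x ∈ g1 • oct0 \ o' := by
        rw [← ego, ← ego', ← Finset.smul_finset_sdiff]
        exact Finset.smul_mem_smul_finset (a := g) hx
      have := hfix _ hx'
      simp only [Equiv.Perm.mul_apply]
      rw [this, Equiv.Perm.inv_def, Equiv.symm_apply_apply]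
  have : σ = g * (g⁻¹ * σ * g) * g⁻¹ := by group
  rw [this, hτ]
  group

/-- In the group of the length-24 code, the joint stabiliser of two octads meeting in exactly two points is isomorphic to the symmetric group of degree 6. -/
theorem result (o o' : Finset Cfsg.GolayPt) (ho : o ∈ Cfsg.octads) (ho' : o' ∈ Cfsg.octads) (h₂ : (o ∩ o').card = 2) : Nonempty (↥(MulAction.stabilizer Cfsg.M24 o ⊓ MulAction.stabilizer Cfsg.M24 o') ≃* Equiv.Perm (Fin 6)) := by
  classical
  set J : Subgroup Cfsg.M24 := MulAction.stabilizer Cfsg.M24 o ⊓ MulAction.stabilizer Cfsg.M24 o' with hJ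
  have hpres : ∀ g : J, (g.1 : Equiv.Perm GolayPt) • o = o ∧ (g.1 : Equiv.Perm GolayPt) • o' = o' := by
    intro g
    have h : g.1 ∈ MulAction.stabilizer Cfsg.M24 o ⊓ MulAction.stabilizer Cfsg.M24 o' := g.2
    rw [Subgroup.mem_inf, MulAction.mem_stabilizer_iff, MulAction.mem_stabilizer_iff] at h
    exact ⟨h.1, h.2⟩
  have hD : ∀ g : J, ∀ x, (g.1 : Equiv.Perm GolayPt) x ∈ o \ o' ↔ x ∈ o \ o' := by
    intro g x
    obtain ⟨h1, h2⟩ := hpres g
    have : (g.1 : Equiv.Perm GolayPt) x ∈ (g.1 : Equiv.Perm GolayPt) • (o \ o') ↔ x ∈ o \ o' :=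
      Finset.smul_mem_smul_finset_iff _
    rwa [Finset.smul_finset_sdiff, h1, h2] at this
  let φ : J →* Equiv.Perm {x // x ∈ o \ o'} :=
    { toFun := fun g => (g.1 : Equiv.Perm GolayPt).subtypePerm (hD g)
      map_one' := by
        ext x
        rfl
      map_mul' := by
        intro a b
        ext x
        rfl }
  have hinj : Function.Injective φ := by
    rw [injective_iff_map_eq_one]
    intro g hg
    obtain ⟨h1, h2⟩ := hpres g
    have hfix : ∀ x ∈ o \ o', (g.1 : Equiv.Perm GolayPt) x = x := by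
      intro x hx
      have := congrArg (fun f : Equiv.Perm {x // x ∈ o \ o'} => ((f ⟨x, hx⟩ : {x // x ∈ o \ o'}) : GolayPt)) hg
      exact this
    have := core o o' ho ho' h₂ _ g.1.2 h1 h2 hfix
    apply Subtype.ext
    apply Subtype.ext
    exact this
  have hcardJ : Nat.card J = 720 := (Cfsg.Agent.S5613.result o o' ho ho').2.2 h₂
  have hcD : (o \ o').card = 6 := by
    have := Finset.card_sdiff_add_card_inter o o'
    rw [h₂, ho.2] at this
    omega
  have hcardP : Nat.card (Equiv.Perm {x // x ∈ o \ o'}) = 720 := by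
    rw [Nat.card_eq_fintype_card, Fintype.card_perm, Fintype.card_coe, hcD]
    rfl
  have hbij : Function.Bijective φ := by
    have : Finite J := Nat.finite_of_card_ne_zero (by rw [hcardJ]; norm_num)
    exact (Nat.bijective_iff_injective_and_card φ).2 ⟨hinj, by rw [hcardJ, hcardP]⟩
  have hc6 : Fintype.card {x // x ∈ o \ o'} = 6 := by rw [Fintype.card_coe, hcD]
  exact ⟨(MulEquiv.ofBijective φ hbij).trans (Fintype.equivFinOfCardEq hc6).permCongrHom⟩

end Cfsg.Agent.S5614
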