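import Mathlib
import Cfsg.Statements.S5615
import Cfsg.Agent.Lib.Helper29.M24OctTrio

set_option autoImplicit false
open scoped Pointwise
open Cfsg

namespace Cfsg.Agent.S5615

open Cfsg.Agent.Helper29.M24 Cfsg.Agent.Helper29 Cfsg.Agent.Helper27 Cfsg.Agent.Helper29.OctTrio

set_option maxRecDepth 100000 in
/-- the generators of the pointwise stabilizer of the base octad fix the trios through it -/
theorem gens6_trios : (List.range ngen).all (fun j => !(decide (6 ≤ depthOf j)) ||
    (List.range 3795).all (fun i => strictN (trioAt i) fun c =>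
      !validT c || relF 3 (gcode j) c c)) = true := by decide +kernel

theorem grp6_fix_trios (σ : Equiv.Perm GolayPt) (hσ : σ ∈ grp 6) (T : Finset (Finset GolayPt))
    (hT : T ∈ F0) : σ • T = T := by
  unfold grp at hσ
  induction hσ using Subgroup.closure_induction with
  | mem g hg =>
    obtain ⟨j, hj, hd, rfl⟩ := hg
    obtain ⟨i, hi, hv, rfl⟩ := (mem_F0_iff T).1 hT
    have h1 := List.all_eq_true.1 gens6_trios j (List.mem_range.2 hj)
    simp only [hd, decide_true, Bool.not_true, Bool.false_or] at h1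
    have h2 := List.all_eq_true.1 h1 i (List.mem_range.2 hi)
    rw [strictN_eq, hv] at h2
    simp only [Bool.not_true, Bool.false_or] at h2
    have hr : Repr (gcode j) [j] := ⟨by simpa using hj, fun x _ => rfl⟩
    have h3 : evalW [j] • semT (trioAt i) = semT (trioAt i) := relF_spec 3 _ _ hr.1 hr.2 _ _ h2
    rwa [evalW_cons, evalW_nil, mul_one] at h3
  | one => exact one_smul _ _
  | mul a b _ _ ha hb => rw [mul_smul, hb, ha]
  | inv a _ ha =>
    rw [inv_smul_eq_iff]
    exact ha.symm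

theorem fix_trios (o : Finset GolayPt) (ho : o ∈ Cfsg.octads) (g : Equiv.Perm GolayPt)
    (hg : g ∈ octN o) (T : Finset (Finset GolayPt)) (hT : T ∈ FO o) : g • T = T := by
  obtain ⟨g0, hg0, rfl⟩ := octad_transitive oct0 o oct0_mem ho
  rw [mem_octN_smul g0 hg0] at hg
  have hU := inv_smul_mem_FO g0 hg0 oct0 T hT
  have := grp6_fix_trios _ hg _ hU
  rw [mul_smul, mul_smul, smul_inv_smul] at this
  exact MulAction.injective g0⁻¹ this

/-- the kernel of the action on the trios through an octad -/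
def trioKer (o : Finset GolayPt) : Subgroup (octK o) where
  carrier := {k | ∀ T ∈ FO o, (k.1 : Equiv.Perm GolayPt) • T = T}
  one_mem' := by
    intro T _
    exact one_smul _ T
  mul_mem' := by
    intro a b ha hb T hT
    show (a.1 * b.1) • T = T
    rw [mul_smul, hb T hT, ha T hT]
  inv_mem' := by
    intro a ha T hT
    show (a.1)⁻¹ • T = T
    rw [inv_smul_eq_iff]
    exact (ha T hT).symm

theorem octK_smul_FO (o : Finset GolayPt) (h : octK o) (T : Finset (Finset GolayPt))
    (hT : T ∈ FO o) : (h.1 : Equiv.Perm GolayPt) • T ∈ FO o := by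
  have hh := (mem_octK o h.1).1 h.2
  have := smul_mem_FO h.1 hh.1 o T hT
  rwa [hh.2] at this

theorem trioKer_normal (o : Finset GolayPt) : (trioKer o).Normal := by
  constructor
  intro n hn h T hT
  show (h.1 * n.1 * (h.1)⁻¹) • T = T
  have h1 := octK_smul_FO o h⁻¹ T hT
  have h2 := hn _ h1
  rw [mul_smul, mul_smul]
  have h3 : ((h⁻¹ : octK o).1 : Equiv.Perm GolayPt) = (h.1)⁻¹ := rfl
  rw [h3] at h2
  rw [h2, smul_inv_smul]

/-- the restriction to the octad, with values in the alternating group -/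
def octResA (o : Finset GolayPt) (ho : o ∈ Cfsg.octads) :
    octK o →* alternatingGroup {x // x ∈ o} :=
  (octRes o).codRestrict (alternatingGroup {x // x ∈ o}) (fun k => by
    rw [← range_octRes o ho]
    exact ⟨k, rfl⟩)

theorem octResA_surjective (o : Finset GolayPt) (ho : o ∈ Cfsg.octads) :
    Function.Surjective (octResA o ho) := by
  intro a
  have : (a : Equiv.Perm {x // x ∈ o}) ∈ (octRes o).range := by
    rw [range_octRes o ho]
    exact a.2
  obtain ⟨k, hk⟩ := this
  exact ⟨k, Subtype.ext hk⟩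

theorem ker_le (o : Finset GolayPt) (ho : o ∈ Cfsg.octads) (g : Equiv.Perm GolayPt)
    (hg : g ∈ Cfsg.M24) (hgo : g • o = o) (hfix : ∀ T ∈ Cfsg.trios, o ∈ T → g • T = T) :
    ∀ p ∈ o, g p = p := by
  have : IsSimpleGroup (alternatingGroup {x // x ∈ o}) := by
    apply alternatingGroup.isSimpleGroup
    rw [Nat.card_eq_fintype_card, Fintype.card_coe, ho.2]
    norm_num
  have hN : ((trioKer o).map (octResA o ho)).Normal :=
    Subgroup.Normal.map (trioKer_normal o) _ (octResA_surjective o ho)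
  rcases hN.eq_bot_or_eq_top with hb | ht
  · -- the image is trivial
    have hk : (⟨g, (mem_octK o g).2 ⟨hg, hgo⟩⟩ : octK o) ∈ trioKer o :=
      fun T hT => hfix T hT.1 hT.2
    have h1 : octResA o ho ⟨g, (mem_octK o g).2 ⟨hg, hgo⟩⟩ ∈ (trioKer o).map (octResA o ho) :=
      Subgroup.mem_map_of_mem _ hk
    rw [hb, Subgroup.mem_bot] at h1
    have h2 : (⟨g, (mem_octK o g).2 ⟨hg, hgo⟩⟩ : octK o) ∈ (octRes o).ker := by
      rw [MonoidHom.mem_ker]
      exact congrArg Subtype.val h1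
    exact (mem_ker_octRes o _).1 h2
  · -- the image is everything: impossible
    exfalso
    have hcard := ncard_FO o ho
    obtain ⟨T1, T2, hT1, hT2, hne⟩ := (Set.one_lt_ncard_iff (Set.toFinite _)).1
      (by rw [hcard]; norm_num : 1 < (FO o).ncard)
    obtain ⟨k, hk, hko, hk1, -⟩ := two_trans o ho T1 T2 T2 T1 hT1 hT2 hT2 hT1 hne hne.symm
    let k' : octK o := ⟨k, (mem_octK o k).2 ⟨hk, hko⟩⟩
    have h1 : octResA o ho k' ∈ (trioKer o).map (octResA o ho) := by
      rw [ht]
      exact Subgroup.mem_top _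
    obtain ⟨t, ht1, ht2⟩ := Subgroup.mem_map.1 h1
    have h2 : t⁻¹ * k' ∈ (octRes o).ker := by
      rw [MonoidHom.mem_ker, map_mul, map_inv]
      have := congrArg Subtype.val ht2
      have e : octRes o t = octRes o k' := this
      rw [e, inv_mul_cancel]
    have h3 := (mem_ker_octRes o _).1 h2
    have h4 : ((t⁻¹ * k' : octK o) : Equiv.Perm GolayPt) ∈ octN o :=
      (mem_octN_iff o _).2 ⟨((mem_octK o _).1 (t⁻¹ * k').2).1, h3⟩
    have h5 := fix_trios o ho _ h4 T1 hT1
    have h6 : ((t⁻¹ * k' : octK o) : Equiv.Perm GolayPt) = (t.1)⁻¹ * k := rfl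
    rw [h6, mul_smul, hk1, inv_smul_eq_iff] at h5
    rw [ht1 T1 hT1] at h5
    exact hne h5.symm

/-- An octad of the length-24 code lies in exactly 15 trios; the stabiliser of the octad in the code's group acts doubly transitively on these 15 trios, and the kernel of this action is the pointwise stabiliser of the octad. -/
theorem result (o : Finset Cfsg.GolayPt) (ho : o ∈ Cfsg.octads) : {T : Finset (Finset Cfsg.GolayPt) | T ∈ Cfsg.trios ∧ o ∈ T}.ncard = 15 ∧ (∀ T₁ T₂ T₁' T₂' : Finset (Finset Cfsg.GolayPt), T₁ ∈ Cfsg.trios → T₂ ∈ Cfsg.trios → T₁' ∈ Cfsg.trios → T₂' ∈ Cfsg.trios → o ∈ T₁ → o ∈ T₂ → o ∈ T₁' → o ∈ T₂' → T₁ ≠ T₂ → T₁' ≠ T₂' → ∃ g ∈ Cfsg.M24, g • o = o ∧ g • T₁ = T₁' ∧ g • T₂ = T₂') ∧ ∀ g ∈ Cfsg.M24, g • o = o → ((∀ T ∈ Cfsg.trios, o ∈ T → g • T = T) ↔ ∀ p ∈ o, g p = p) := by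
  refine ⟨ncard_FO o ho, ?_, ?_⟩
  · intro T₁ T₂ T₁' T₂' h1 h2 h1' h2' o1 o2 o1' o2' hne hne'
    exact two_trans o ho T₁ T₂ T₁' T₂' ⟨h1, o1⟩ ⟨h2, o2⟩ ⟨h1', o1'⟩ ⟨h2', o2'⟩ hne hne'
  · intro g hg hgo
    constructor
    · exact ker_le o ho g hg hgo
    · intro hfix T hT hoT
      exact fix_trios o ho g ((mem_octN_iff o g).2 ⟨hg, hfix⟩) T ⟨hT, hoT⟩

end Cfsg.Agent.S5615
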