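import Mathlib
import Cfsg.Statements.S5618
import Cfsg.Agent.Lib.Helper29.M24Steiner
import Cfsg.Agent.S5614

set_option autoImplicit false
open scoped Pointwise
open Cfsg

namespace Cfsg.Agent.S5618

open Cfsg.Agent.Helper29.M24 Cfsg.Agent.Helper29 Cfsg.Agent.Helper27

theorem setup (d : Finset GolayPt) (hd : d ∈ Cfsg.dodecads) (C : Finset GolayPt)
    (hC : C ∈ Cfsg.hexadsOn d) :
    ∃ o ∈ Cfsg.octads, ∃ o' ∈ Cfsg.octads, (o ∩ o').card = 2 ∧ o \ o' = C ∧ o' \ o = d \ C ∧
      MulAction.stabilizer Cfsg.M24 d ⊓ MulAction.stabilizer Cfsg.M24 C =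
        MulAction.stabilizer Cfsg.M24 o ⊓ MulAction.stabilizer Cfsg.M24 o' := by
  obtain ⟨hC6, o, ho, hoC⟩ := hC
  have hin : inCode (symmDiff o d) := inCode_symmDiff ho.1 hd.1
  have hcard := card_symmDiff_add o d
  rw [ho.2, hd.2, hoC, hC6] at hcard
  have ho' : symmDiff o d ∈ Cfsg.octads := mem_octads_of_inCode hin (by omega)
  have e1 : o \ symmDiff o d = C := by
    rw [← hoC]
    ext p
    simp only [Finset.mem_sdiff, Finset.mem_symmDiff, Finset.mem_inter]
    tauto
  have e2 : symmDiff o d \ o = d \ C := by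
    rw [← hoC]
    ext p
    simp only [Finset.mem_sdiff, Finset.mem_symmDiff, Finset.mem_inter]
    tauto
  have e3 : symmDiff o (symmDiff o d) = d := symmDiff_symmDiff_cancel_left o d
  have hmeet : (o ∩ symmDiff o d).card = 2 := by
    have := Finset.card_sdiff_add_card_inter o (symmDiff o d)
    rw [e1, hC6, ho.2] at this
    omega
  refine ⟨o, ho, symmDiff o d, ho', hmeet, e1, e2, ?_⟩
  ext g
  simp only [Subgroup.mem_inf, MulAction.mem_stabilizer_iff]
  have hsm : ∀ s : Finset GolayPt, g • s = (g : Equiv.Perm GolayPt) • s := fun s => rfl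
  rw [hsm, hsm, hsm, hsm]
  constructor
  · rintro ⟨h1, h2⟩
    have hgo : (g : Equiv.Perm GolayPt) • o = o := by
      apply octad_eq_of_inter _ _ (smul_mem_octads g.2 ho) ho
      have : C ⊆ (g : Equiv.Perm GolayPt) • o ∩ o := by
        intro p hp
        rw [Finset.mem_inter]
        constructor
        · rw [← h2, ← hoC, Finset.smul_finset_inter] at hp
          exact (Finset.mem_inter.1 hp).1
        · rw [← hoC] at hp
          exact (Finset.mem_inter.1 hp).1
      have := Finset.card_le_card this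
      omega
    exact ⟨hgo, by rw [Finset.smul_finset_symmDiff, hgo, h1]⟩
  · rintro ⟨h1, h2⟩
    have hgd : (g : Equiv.Perm GolayPt) • d = d := by
      conv_lhs => rw [← e3]
      rw [Finset.smul_finset_symmDiff, h1, h2, e3]
    exact ⟨hgd, by rw [← hoC, Finset.smul_finset_inter, h1, hgd]⟩

/-- For a dodecad d of the length-24 code and a hexad C on it (a 6-point intersection of d with an octad): the joint stabiliser of d and C in the code's group is isomorphic to the symmetric group of degree 6, and it acts faithfully both on the six points of C and on the six points of d outside C. -/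
theorem result (d : Finset Cfsg.GolayPt) (hd : d ∈ Cfsg.dodecads) (C : Finset Cfsg.GolayPt) (hC : C ∈ Cfsg.hexadsOn d) : Nonempty (↥(MulAction.stabilizer Cfsg.M24 d ⊓ MulAction.stabilizer Cfsg.M24 C) ≃* Equiv.Perm (Fin 6)) ∧ (∀ g ∈ MulAction.stabilizer Cfsg.M24 d ⊓ MulAction.stabilizer Cfsg.M24 C, (∀ p ∈ C, ((g : ↥Cfsg.M24) : Equiv.Perm Cfsg.GolayPt) p = p) → g = 1) ∧ ∀ g ∈ MulAction.stabilizer Cfsg.M24 d ⊓ MulAction.stabilizer Cfsg.M24 C, (∀ p ∈ d \ C, ((g : ↥Cfsg.M24) : Equiv.Perm Cfsg.GolayPt) p = p) → g = 1 := by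
  obtain ⟨o, ho, o', ho', hmeet, e1, e2, hJ⟩ := setup d hd C hC
  have hmeet' : (o' ∩ o).card = 2 := by rwa [Finset.inter_comm]
  have hmem : ∀ g ∈ MulAction.stabilizer Cfsg.M24 d ⊓ MulAction.stabilizer Cfsg.M24 C,
      ((g : ↥Cfsg.M24) : Equiv.Perm Cfsg.GolayPt) • o = o ∧
      ((g : ↥Cfsg.M24) : Equiv.Perm Cfsg.GolayPt) • o' = o' := by
    intro g hg
    rw [hJ, Subgroup.mem_inf, MulAction.mem_stabilizer_iff, MulAction.mem_stabilizer_iff] at hg
    exact hg
  refine ⟨?_, ?_, ?_⟩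
  · rw [hJ]
    exact Cfsg.Agent.S5614.result o o' ho ho' hmeet
  · intro g hg hfix
    obtain ⟨h1, h2⟩ := hmem g hg
    apply Subtype.ext
    exact Cfsg.Agent.S5614.core o o' ho ho' hmeet _ g.2 h1 h2 (by rw [e1]; exact hfix)
  · intro g hg hfix
    obtain ⟨h1, h2⟩ := hmem g hg
    apply Subtype.ext
    exact Cfsg.Agent.S5614.core o' o ho' ho hmeet' _ g.2 h2 h1 (by rw [e2]; exact hfix)

end Cfsg.Agent.S5618
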