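import Mathlib
import Cfsg.Statements.S5619
import Mathlib
import Cfsg.Agent.Lib.Helper29.M24M9
import Cfsg.Agent.S1600

set_option autoImplicit false
open scoped Pointwise
open Cfsg

namespace Cfsg.Agent.S5619

open Cfsg.Agent.Helper27 Cfsg.Agent.Helper29 Cfsg.Agent.Helper29.M24 Cfsg.Agent.Helper29.Dod3
open Cfsg.Agent.Helper29.M9
open scoped Pointwise

theorem mem_K3_conj (g0 : Equiv.Perm GolayPt) (hg0 : g0 ∈ Cfsg.M24) (d0 : Finset GolayPt)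
    (p0 q0 r0 : GolayPt) (x : Equiv.Perm GolayPt) :
    x ∈ K3 (g0 • d0) (g0 p0) (g0 q0) (g0 r0) ↔ g0⁻¹ * x * g0 ∈ K3 d0 p0 q0 r0 := by
  rw [mem_K3, mem_K2, mem_K1, mem_K0, mem_K3, mem_K2, mem_K1, mem_K0]
  have hM : x ∈ Cfsg.M24 ↔ g0⁻¹ * x * g0 ∈ Cfsg.M24 := by
    constructor
    · intro h
      exact Subgroup.mul_mem _ (Subgroup.mul_mem _ (Subgroup.inv_mem _ hg0) h) hg0
    · intro h
      have hx : x = g0 * (g0⁻¹ * x * g0) * g0⁻¹ := by group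
      rw [hx]
      exact Subgroup.mul_mem _ (Subgroup.mul_mem _ hg0 h) (Subgroup.inv_mem _ hg0)
  have hd : x • g0 • d0 = g0 • d0 ↔ (g0⁻¹ * x * g0) • d0 = d0 := by
    rw [mul_smul, mul_smul, inv_smul_eq_iff]
  have hpt : ∀ a : GolayPt, x (g0 a) = g0 a ↔ (g0⁻¹ * x * g0) a = a := by
    intro a
    rw [Equiv.Perm.mul_apply, Equiv.Perm.mul_apply, Equiv.Perm.inv_def, Equiv.symm_apply_eq]
  rw [hM, hd, hpt p0, hpt q0, hpt r0]

/-- conjugation identifies the stabilizer of a configuration with that of the standard one -/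
noncomputable def conjEquiv (g0 : Equiv.Perm GolayPt) (hg0 : g0 ∈ Cfsg.M24) (d0 : Finset GolayPt)
    (p0 q0 r0 : GolayPt) :
    ↥(MulAction.stabilizer Cfsg.M24 (g0 • d0) ⊓ MulAction.stabilizer Cfsg.M24 (g0 p0) ⊓
      MulAction.stabilizer Cfsg.M24 (g0 q0) ⊓ MulAction.stabilizer Cfsg.M24 (g0 r0)) ≃*
      ↥(K3 d0 p0 q0 r0) where
  toFun x := ⟨g0⁻¹ * ((x : Cfsg.M24) : Equiv.Perm GolayPt) * g0,
    (mem_K3_conj g0 hg0 d0 p0 q0 r0 _).1 ((Cfsg.Agent.S1600.mem_H_iff _ _ _ _ _).1 x.2)⟩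
  invFun y :=
    have h1 : g0 * (y : Equiv.Perm GolayPt) * g0⁻¹ ∈ K3 (g0 • d0) (g0 p0) (g0 q0) (g0 r0) := by
      rw [mem_K3_conj g0 hg0]
      have : g0⁻¹ * (g0 * (y : Equiv.Perm GolayPt) * g0⁻¹) * g0 = y := by group
      rw [this]
      exact y.2
    have h2 : g0 * (y : Equiv.Perm GolayPt) * g0⁻¹ ∈ Cfsg.M24 := by
      rw [mem_K3, mem_K2, mem_K1, mem_K0] at h1
      exact h1.1.1.1.1
    ⟨⟨g0 * (y : Equiv.Perm GolayPt) * g0⁻¹, h2⟩,
      (Cfsg.Agent.S1600.mem_H_iff _ _ _ _ ⟨_, h2⟩).2 h1⟩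
  left_inv x := by
    apply Subtype.ext
    apply Subtype.ext
    show g0 * (g0⁻¹ * ((x : Cfsg.M24) : Equiv.Perm GolayPt) * g0) * g0⁻¹ = _
    group
  right_inv y := by
    apply Subtype.ext
    show g0⁻¹ * (g0 * (y : Equiv.Perm GolayPt) * g0⁻¹) * g0 = _
    group
  map_mul' x y := by
    apply Subtype.ext
    show g0⁻¹ * (((x : Cfsg.M24) : Equiv.Perm GolayPt) * ((y : Cfsg.M24) : Equiv.Perm GolayPt)) * g0
      = g0⁻¹ * ((x : Cfsg.M24) : Equiv.Perm GolayPt) * g0 *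
        (g0⁻¹ * ((y : Cfsg.M24) : Equiv.Perm GolayPt) * g0)
    group

/-- In the group of the length-24 code, the subgroup fixing a dodecad setwise and three of its points individually (a group of order 72) has a normal Sylow 3-subgroup that is elementary abelian of order 9, and its Sylow 2-subgroups are quaternion of order 8. -/
theorem result (d : Finset Cfsg.GolayPt) (hd : d ∈ Cfsg.dodecads) (p q r : Cfsg.GolayPt) (hp : p ∈ d) (hq : q ∈ d) (hr : r ∈ d) (hpq : p ≠ q) (hpr : p ≠ r) (hqr : q ≠ r) : (∀ Q : Sylow 3 ↥(MulAction.stabilizer Cfsg.M24 d ⊓ MulAction.stabilizer Cfsg.M24 p ⊓ MulAction.stabilizer Cfsg.M24 q ⊓ MulAction.stabilizer Cfsg.M24 r), (Q : Subgroup ↥(MulAction.stabilizer Cfsg.M24 d ⊓ MulAction.stabilizer Cfsg.M24 p ⊓ MulAction.stabilizer Cfsg.M24 q ⊓ MulAction.stabilizer Cfsg.M24 r)).Normal ∧ Nat.card ↥Q = 9 ∧ ∀ x ∈ (Q : Subgroup ↥(MulAction.stabilizer Cfsg.M24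 d ⊓ MulAction.stabilizer Cfsg.M24 p ⊓ MulAction.stabilizer Cfsg.M24 q ⊓ MulAction.stabilizer Cfsg.M24 r)), x ^ 3 = 1) ∧ ∀ P : Sylow 2 ↥(MulAction.stabilizer Cfsg.M24 d ⊓ MulAction.stabilizer Cfsg.M24 p ⊓ MulAction.stabilizer Cfsg.M24 q ⊓ MulAction.stabilizer Cfsg.M24 r), Nonempty (↥P ≃* QuaternionGroup 2) := by
  obtain ⟨g0, hg0, rfl, rfl, rfl, rfl⟩ := exists_map3 d hd p q r hp hq hr hpq hpr hqr
  have e := conjEquiv g0 hg0 (maskSet 340831) (dec 0) (dec 1) (dec 2)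
  exact ⟨sylow3_transfer e G9_sylow3, sylow2_transfer e G9_sylow2⟩

end Cfsg.Agent.S5619
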