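import Mathlib
import Cfsg.Statements.S5620
import Cfsg.Agent.Lib.Helper29.M24Dodecad3

set_option autoImplicit false
open scoped Pointwise
open Cfsg

namespace Cfsg.Agent.S5620

open Cfsg.Agent.Helper29.M24 Cfsg.Agent.Helper29 Cfsg.Agent.Helper27 Cfsg.Agent.Helper29.Dod3
open Cfsg.Agent.S0358 (idx)

theorem sqD_eq : Cfsg.Spor.squareDodecad = maskSet 340831 := by
  unfold Cfsg.Spor.squareDodecad
  rw [qrWord_eq_ofMask 0, ← maskSet_eq_support₂]
  congr 1

theorem sqD_mem : maskSet 340831 ∈ Cfsg.dodecads := by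
  rw [← dod0_eq]
  exact dod0_mem

theorem mem_M12 (x : Equiv.Perm GolayPt) :
    x ∈ Cfsg.Spor.M12 ↔ x ∈ Cfsg.M24 ∧ x • maskSet 340831 = maskSet 340831 := by
  unfold Cfsg.Spor.M12
  rw [Subgroup.mem_inf, sqD_eq]
  exact and_congr Iff.rfl MulAction.mem_stabilizer_iff

theorem mem_M11 (x : Equiv.Perm GolayPt) :
    x ∈ Cfsg.Spor.M11 ↔ x ∈ Cfsg.Spor.M12 ∧ x (dec 0) = dec 0 := by
  unfold Cfsg.Spor.M11
  rw [Subgroup.mem_inf]
  exact and_congr Iff.rfl MulAction.mem_stabilizer_iff

theorem mem_M12_none (x : Equiv.Perm GolayPt) :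
    x ∈ Cfsg.Spor.M12 ⊓ MulAction.stabilizer (Equiv.Perm GolayPt) (none : GolayPt) ↔
      x ∈ Cfsg.Spor.M12 ∧ x (dec 23) = dec 23 := by
  rw [Subgroup.mem_inf]
  exact and_congr Iff.rfl MulAction.mem_stabilizer_iff

/-- conjugates of the point stabilizer in `M12` -/
theorem mem_conj_M11 (k x : Equiv.Perm GolayPt) :
    x ∈ MulAut.conj k • Cfsg.Spor.M11 ↔ k⁻¹ * x * k ∈ Cfsg.Spor.M11 := by
  rw [Subgroup.mem_pointwise_smul_iff_inv_smul_mem]
  have : (MulAut.conj k)⁻¹ • x = k⁻¹ * x * k := by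
    rw [← map_inv, MulAut.smul_def, MulAut.conj_apply, inv_inv]
  rw [this]

theorem conj_fix (g0 g : Equiv.Perm GolayPt) (a b : GolayPt) (h : g0 a = b) :
    (g0⁻¹ * g * g0) a = a ↔ g b = b := by
  rw [Equiv.Perm.mul_apply, Equiv.Perm.mul_apply, h]
  constructor
  · intro h1
    have := congrArg g0 h1
    rwa [perm_apply_inv, h] at this
  · intro h1
    rw [h1, ← h, perm_inv_apply]

theorem conj_mem_M24 (g0 g : Equiv.Perm GolayPt) (hg0 : g0 ∈ Cfsg.M24) :
    g0⁻¹ * g * g0 ∈ Cfsg.M24 ↔ g ∈ Cfsg.M24 := by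
  constructor
  · intro h
    have := Subgroup.mul_mem _ (Subgroup.mul_mem _ hg0 h) (Subgroup.inv_mem _ hg0)
    have e : g0 * (g0⁻¹ * g * g0) * g0⁻¹ = g := by group
    rwa [e] at this
  · intro h
    exact Subgroup.mul_mem _ (Subgroup.mul_mem _ (Subgroup.inv_mem _ hg0) h) hg0

theorem conj_smul (g0 g : Equiv.Perm GolayPt) (s t : Finset GolayPt) (h : g0 • s = t) :
    (g0⁻¹ * g * g0) • s = s ↔ g • t = t := by
  rw [mul_smul, mul_smul, h]
  constructor
  · intro h1
    have := congrArg (fun X => g0 • X) h1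
    simp only [smul_inv_smul] at this
    rw [this, h]
  · intro h1
    rw [h1, ← h, inv_smul_smul]

/-- the element exchanging the dodecad of squares and its complement -/
def gx : Equiv.Perm GolayPt := evalW [1]

theorem gx_mem : gx ∈ Cfsg.M24 := evalW_mem_M24 _ (by decide)

theorem gx_smul : gx • maskSet 340831 = maskSet 16436384 := by
  unfold gx
  apply smul_eq_of_mapsW [1] (by decide) _ _ (by decide +kernel) (by decide +kernel)

theorem gx_zero : gx (dec 0) = dec 23 := by
  apply M24.idx_injective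
  unfold gx
  rw [idx_evalW _ (by decide)]
  decide +kernel

theorem compl_sqD : (maskSet 340831)ᶜ = maskSet 16436384 := by
  ext x
  rw [Finset.mem_compl, mem_maskSet, mem_maskSet]
  revert x
  decide

theorem smul_compl_iff (x : Equiv.Perm GolayPt) (s : Finset GolayPt) : x • sᶜ = sᶜ ↔ x • s = s := by
  have key : ∀ t : Finset GolayPt, x • t = t → x • tᶜ = tᶜ := by
    intro t ht
    ext p
    rw [Finset.mem_compl]
    constructor
    · intro hp hpt
      obtain ⟨q, hq, rfl⟩ := Finset.mem_smul_finset.1 hp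
      rw [← ht] at hpt
      exact (Finset.mem_compl.1 hq) ((Finset.smul_mem_smul_finset_iff x).1 hpt)
    · intro hp
      have : x⁻¹ • p ∉ t := by
        intro h
        apply hp
        rw [← ht]
        have := Finset.smul_mem_smul_finset (a := x) h
        rwa [smul_inv_smul] at this
      have h2 := Finset.smul_mem_smul_finset (a := x) (Finset.mem_compl.2 this)
      rwa [smul_inv_smul] at h2
  constructor
  · intro h
    have := key _ h
    rwa [compl_compl] at this
  · exact key s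

theorem conj_gx : MulAut.conj gx • Cfsg.Spor.M11 =
    Cfsg.Spor.M12 ⊓ MulAction.stabilizer (Equiv.Perm GolayPt) (none : GolayPt) := by
  ext x
  rw [mem_conj_M11, mem_M11, mem_M12, mem_M12_none, mem_M12, conj_mem_M24 gx x gx_mem,
    conj_fix gx x _ _ gx_zero, conj_smul gx x _ _ gx_smul, ← compl_sqD, smul_compl_iff]

/-- Inside the stabiliser of the dodecad of squares (a Mathieu group of degree 12), the stabiliser of the residue 0 (a point of the dodecad) and the stabiliser of the extra point (a point outside the dodecad) are isomorphic but not conjugate; conjugation by a suitable element of the code's group that maps the dodecad of squares onto its complement carries the first onto the second. -/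
theorem result : Nonempty (↥(Cfsg.Spor.M12 ⊓ MulAction.stabilizer (Equiv.Perm Cfsg.GolayPt) (none : Cfsg.GolayPt)) ≃* ↥Cfsg.Spor.M11) ∧ (¬ ∃ k ∈ Cfsg.Spor.M12, MulAut.conj k • Cfsg.Spor.M11 = Cfsg.Spor.M12 ⊓ MulAction.stabilizer (Equiv.Perm Cfsg.GolayPt) (none : Cfsg.GolayPt)) ∧ ∃ g ∈ Cfsg.M24, g • Cfsg.Spor.squareDodecad = Finset.univ \ Cfsg.Spor.squareDodecad ∧ MulAut.conj g • Cfsg.Spor.M11 = Cfsg.Spor.M12 ⊓ MulAction.stabilizer (Equiv.Perm Cfsg.GolayPt) (none : Cfsg.GolayPt) := by
  refine ⟨?_, ?_, ?_⟩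
  · rw [← conj_gx]
    exact ⟨(Subgroup.equivSMul (MulAut.conj gx) Cfsg.Spor.M11).symm⟩
  · rintro ⟨k, hk, hconj⟩
    obtain ⟨hkM, hkd⟩ := (mem_M12 k).1 hk
    -- the image of the fixed point
    have ha : k (dec 0) ∈ maskSet 340831 := by
      rw [← hkd]
      exact Finset.smul_mem_smul_finset (a := k) (by rw [mem_maskSet]; decide)
    -- two more points of the dodecad
    have hcard : 3 ≤ (maskSet 340831).card := by rw [sqD_mem.2]; norm_num
    obtain ⟨b, hb, hba⟩ : ∃ b ∈ maskSet 340831, b ≠ k (dec 0) := by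
      by_contra hcon
      push Not at hcon
      have : maskSet 340831 ⊆ {k (dec 0)} := fun y hy => Finset.mem_singleton.2 (hcon y hy)
      have := Finset.card_le_card this
      rw [Finset.card_singleton] at this
      omega
    obtain ⟨c, hc, hca, hcb⟩ : ∃ c ∈ maskSet 340831, c ≠ k (dec 0) ∧ c ≠ b := by
      by_contra hcon
      push Not at hcon
      have : maskSet 340831 ⊆ {k (dec 0), b} := by
        intro y hy
        rw [Finset.mem_insert, Finset.mem_singleton]
        by_cases h1 : y = k (dec 0)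
        · exact Or.inl h1
        · exact Or.inr (hcon y hy h1)
      have := Finset.card_le_card this
      have h2 : ({k (dec 0), b} : Finset GolayPt).card ≤ 2 := Finset.card_le_two
      omega
    obtain ⟨m, hm, em⟩ := trans9 _ sqD_mem (k (dec 0)) b c ha hb hc (Ne.symm hba) (Ne.symm hca)
      (Ne.symm hcb) (dec 23) (dec 5) (by rw [mem_maskSet]; decide) (by rw [mem_maskSet]; decide)
    rw [mem_K3, mem_K2, mem_K1, mem_K0] at hm
    obtain ⟨⟨⟨⟨hmM, hmd⟩, hma⟩, -⟩, -⟩ := hm
    have h1 : m ∈ MulAut.conj k • Cfsg.Spor.M11 := by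
      rw [mem_conj_M11, mem_M11, mem_M12, conj_mem_M24 k m hkM, conj_fix k m _ _ rfl,
        conj_smul k m _ _ hkd]
      exact ⟨⟨hmM, hmd⟩, hma⟩
    rw [hconj, mem_M12_none] at h1
    rw [h1.2] at em
    exact absurd em (by decide)
  · refine ⟨gx, gx_mem, ?_, conj_gx⟩
    rw [sqD_eq, gx_smul, ← compl_sqD]
    ext x
    simp

end Cfsg.Agent.S5620
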