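import Mathlib
import Cfsg.Statements.S5623
import Cfsg.Agent.Lib.Helper28.Golay

set_option autoImplicit false
open Cfsg

namespace Cfsg.Agent.S5623

open Cfsg.Agent.Helper28

/-- Let C be a self-dual binary code of length 24 with minimum weight at least 8 (a 12-dimensional subspace of the 24-dimensional space over the field with two elements, any two of whose words have dot product zero, with no non-zero word of weight below 8 — an abstract extended binary Golay code). Then every coset w + C of C in the ambient space contains either exactly one word of weight at most 4, which then has weight at most 3, or exactly six words of weight at most 4, all of weight exactly 4 and with pairwise disjoint supports (a sextet). -/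
theorem result (C : Submodule (ZMod 2) (Fin 24 → ZMod 2)) (hdim : Module.finrank (ZMod 2) C = 12) (horth : ∀ v ∈ C, ∀ w ∈ C, ∑ i, v i * w i = 0) (hmin : ∀ w ∈ C, w ≠ 0 → 8 ≤ hammingNorm w) (w : Fin 24 → ZMod 2) : (∃ u : Fin 24 → ZMod 2, {u : Fin 24 → ZMod 2 | u - w ∈ C ∧ hammingNorm u ≤ 4} = {u} ∧ hammingNorm u ≤ 3) ∨ ({u : Fin 24 → ZMod 2 | u - w ∈ C ∧ hammingNorm u ≤ 4}.ncard = 6 ∧ ∀ u ∈ {u : Fin 24 → ZMod 2 | u - w ∈ C ∧ hammingNorm u ≤ 4}, hammingNorm u = 4 ∧ ∀ u' ∈ {u : Fin 24 → ZMod 2 | u - w ∈ C ∧ hammingNorm u ≤ 4}, u ≠ u' → Disjoint (Finset.univ.filter fun i => u i ≠ 0) (Finset.univ.filter fun i => u' i ≠ 0)) := by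
  classical
  have hC : IsAbstractGolay C := ⟨hdim, horth, hmin⟩
  set q : (Fin 24 → ZMod 2) ⧸ C := Submodule.Quotient.mk w with hq
  have hmk : ∀ u : Fin 24 → ZMod 2, u - w ∈ C ↔ (Submodule.Quotient.mk u : (Fin 24 → ZMod 2) ⧸ C) = q := by
    intro u
    rw [hq, Submodule.Quotient.eq]
  rcases hC.coset_dichotomy q with ⟨h3, h4⟩ | ⟨h3, h4⟩
  · left
    unfold n3 at h3
    unfold n4 at h4
    obtain ⟨u0, hu0⟩ := Finset.card_eq_one.mp h3
    have hu0mem : u0 ∈ Finset.univ.filter
        (fun u : Fin 24 → ZMod 2 => hammingNorm u ≤ 3 ∧ Submodule.Quotient.mk u = q) := by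
      rw [hu0]; exact Finset.mem_singleton_self u0
    rw [Finset.mem_filter] at hu0mem
    refine ⟨u0, ?_, hu0mem.2.1⟩
    ext u
    simp only [Set.mem_ofPred_eq, Set.mem_singleton_iff]
    constructor
    · rintro ⟨h1, h2⟩
      by_cases hwt : hammingNorm u ≤ 3
      · have : u ∈ Finset.univ.filter
            (fun u : Fin 24 → ZMod 2 => hammingNorm u ≤ 3 ∧ Submodule.Quotient.mk u = q) := by
          rw [Finset.mem_filter]
          exact ⟨Finset.mem_univ _, hwt, (hmk u).mp h1⟩
        rw [hu0] at this
        exact Finset.mem_singleton.mp this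
      · exfalso
        have : u ∈ Finset.univ.filter
            (fun u : Fin 24 → ZMod 2 => hammingNorm u = 4 ∧ Submodule.Quotient.mk u = q) := by
          rw [Finset.mem_filter]
          exact ⟨Finset.mem_univ _, by omega, (hmk u).mp h1⟩
        rw [Finset.card_eq_zero.mp h4] at this
        exact Finset.notMem_empty _ this
    · rintro rfl
      exact ⟨(hmk u).mpr hu0mem.2.2, by omega⟩
  · right
    unfold n3 at h3
    unfold n4 at h4
    have hset : {u : Fin 24 → ZMod 2 | u - w ∈ C ∧ hammingNorm u ≤ 4}
        = ((Finset.univ.filter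
          (fun u : Fin 24 → ZMod 2 => hammingNorm u = 4 ∧ Submodule.Quotient.mk u = q) :
            Finset (Fin 24 → ZMod 2)) : Set (Fin 24 → ZMod 2)) := by
      ext u
      simp only [Set.mem_ofPred_eq, Finset.coe_filter, Finset.mem_univ, true_and]
      constructor
      · rintro ⟨h1, h2⟩
        refine ⟨?_, (hmk u).mp h1⟩
        by_contra hne
        have : u ∈ Finset.univ.filter
            (fun u : Fin 24 → ZMod 2 => hammingNorm u ≤ 3 ∧ Submodule.Quotient.mk u = q) := by
          rw [Finset.mem_filter]
          exact ⟨Finset.mem_univ _, by omega, (hmk u).mp h1⟩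
        rw [Finset.card_eq_zero.mp h3] at this
        exact Finset.notMem_empty _ this
      · rintro ⟨h1, h2⟩
        exact ⟨(hmk u).mpr h2, by omega⟩
    refine ⟨?_, ?_⟩
    · rw [hset, Set.ncard_coe_finset, h4]
    · intro u hu
      have hu' := hu
      rw [hset] at hu'
      simp only [Finset.coe_filter, Finset.mem_univ, true_and, Set.mem_ofPred_eq] at hu'
      refine ⟨hu'.1, ?_⟩
      intro u' hu'' hne
      have hu2 := hu''
      rw [hset] at hu2
      simp only [Finset.coe_filter, Finset.mem_univ, true_and, Set.mem_ofPred_eq] at hu2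
      have hmem : u + u' ∈ C := add_mem_of_mk_eq (hu'.2.trans hu2.2.symm)
      exact (hC.light_pair u u' hmem hne (by omega) (by omega)).2.2

end Cfsg.Agent.S5623
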