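import Mathlib
import Cfsg.Statements.S5625
import Cfsg.Agent.Lib.Helper28.Steiner

set_option autoImplicit false
open Cfsg

namespace Cfsg.Agent.S5625

open Cfsg.Agent.Helper28

/-- In any Steiner system S(5, 8, 24) and for any set Y of three points, the blocks meeting Y in exactly 3, 2, 1 and 0 points number 21, 168, 360 and 210 respectively (so there are 759 blocks in all). -/
theorem result (α : Type*) [Fintype α] [DecidableEq α] (hα : Fintype.card α = 24) (B : Set (Finset α)) (hB : Cfsg.IsSteinerSystem 5 8 B) (Y : Finset α) (hY : Y.card = 3) : {b : Finset α | b ∈ B ∧ (b ∩ Y).card = 3}.ncard = 21 ∧ {b : Finset α | b ∈ B ∧ (b ∩ Y).card = 2}.ncard = 168 ∧ {b : Finset α | b ∈ B ∧ (b ∩ Y).card = 1}.ncard = 360 ∧ {b : Finset α | b ∈ B ∧ (b ∩ Y).card = 0}.ncard = 210 := by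
  classical
  set Bf : Finset (Finset α) := Finset.univ.filter (fun b => b ∈ B) with hBf
  have hmemBf : ∀ b, b ∈ Bf ↔ b ∈ B := by
    intro b; simp [hBf]
  have hBk : ∀ b ∈ Bf, b.card = 8 := fun b hb => hB.1 b ((hmemBf b).mp hb)
  have hSt : ∀ T : Finset α, T.card = 5 → ∃! b, b ∈ Bf ∧ T ⊆ b := by
    intro T hT
    obtain ⟨b, ⟨hb, hTb⟩, huniq⟩ := hB.2 T hT
    exact ⟨b, ⟨(hmemBf b).mpr hb, hTb⟩, fun b' hb' => huniq b' ⟨(hmemBf b').mp hb'.1, hb'.2⟩⟩
  -- the numbers of blocks through a j-subset of Y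
  have hN : ∀ j : ℕ, j ≤ 3 → ∀ J ∈ Y.powersetCard j,
      (Bf.filter (fun b => J ⊆ b)).card * (8 - j).choose (5 - j) = (24 - j).choose (5 - j) := by
    intro j hj J hJ
    rw [Finset.mem_powersetCard] at hJ
    have := steiner_count 5 8 Bf hBk hSt J (by omega)
    rw [hα, hJ.2] at this
    exact this
  have hN0 : ∀ J ∈ Y.powersetCard 0, (Bf.filter (fun b => J ⊆ b)).card = 759 := by
    intro J hJ
    have h := hN 0 (by omega) J hJ
    have h1 : (8 - 0).choose (5 - 0) = 56 := by decide
    have h2 : (24 - 0).choose (5 - 0) = 42504 := by decide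
    rw [h1, h2] at h
    omega
  have hN1 : ∀ J ∈ Y.powersetCard 1, (Bf.filter (fun b => J ⊆ b)).card = 253 := by
    intro J hJ
    have h := hN 1 (by omega) J hJ
    have h1 : (8 - 1).choose (5 - 1) = 35 := by decide
    have h2 : (24 - 1).choose (5 - 1) = 8855 := by decide
    rw [h1, h2] at h
    omega
  have hN2 : ∀ J ∈ Y.powersetCard 2, (Bf.filter (fun b => J ⊆ b)).card = 77 := by
    intro J hJ
    have h := hN 2 (by omega) J hJ
    have h1 : (8 - 2).choose (5 - 2) = 20 := by decide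
    have h2 : (24 - 2).choose (5 - 2) = 1540 := by decide
    rw [h1, h2] at h
    omega
  have hN3 : ∀ J ∈ Y.powersetCard 3, (Bf.filter (fun b => J ⊆ b)).card = 21 := by
    intro J hJ
    have h := hN 3 (by omega) J hJ
    have h1 : (8 - 3).choose (5 - 3) = 10 := by decide
    have h2 : (24 - 3).choose (5 - 3) = 210 := by decide
    rw [h1, h2] at h
    omega
  -- the four weighted sums
  have hS : ∀ j : ℕ, ∀ c : ℕ, (∀ J ∈ Y.powersetCard j, (Bf.filter (fun b => J ⊆ b)).card = c) →
      ∑ b ∈ Bf, ((b ∩ Y).card).choose j = (Nat.choose 3 j) * c := by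
    intro j c hc
    rw [sum_choose_inter, Finset.sum_congr rfl hc, Finset.sum_const, Finset.card_powersetCard, hY,
      smul_eq_mul]
  -- group the blocks by the size of the intersection
  set n : ℕ → ℕ := fun k => (Bf.filter (fun b => (b ∩ Y).card = k)).card with hn
  have hfib : ∀ f : ℕ → ℕ, ∑ b ∈ Bf, f ((b ∩ Y).card) = ∑ k ∈ Finset.range 4, n k * f k := by
    intro f
    have hmaps : ∀ b ∈ Bf, (b ∩ Y).card ∈ Finset.range 4 := by
      intro b _
      rw [Finset.mem_range]
      have := Finset.card_le_card (Finset.inter_subset_right : b ∩ Y ⊆ Y)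
      omega
    rw [← Finset.sum_fiberwise_of_maps_to hmaps]
    apply Finset.sum_congr rfl
    intro k _
    rw [Finset.sum_congr rfl (fun b hb => by rw [(Finset.mem_filter.mp hb).2] : ∀ b ∈ Bf.filter
      (fun b => (b ∩ Y).card = k), f ((b ∩ Y).card) = f k)]
    rw [Finset.sum_const, smul_eq_mul]
  have e0 := (hfib (fun k => k.choose 0)).symm.trans (hS 0 759 hN0)
  have e1 := (hfib (fun k => k.choose 1)).symm.trans (hS 1 253 hN1)
  have e2 := (hfib (fun k => k.choose 2)).symm.trans (hS 2 77 hN2)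
  have e3 := (hfib (fun k => k.choose 3)).symm.trans (hS 3 21 hN3)
  simp only [Finset.sum_range_succ, Finset.sum_range_zero] at e0 e1 e2 e3
  norm_num [Nat.choose] at e0 e1 e2 e3
  have hset : ∀ k : ℕ, {b : Finset α | b ∈ B ∧ (b ∩ Y).card = k}.ncard = n k := by
    intro k
    have : {b : Finset α | b ∈ B ∧ (b ∩ Y).card = k}
        = ((Bf.filter (fun b => (b ∩ Y).card = k) : Finset (Finset α)) : Set (Finset α)) := by
      ext b
      simp [hmemBf]
    rw [this, Set.ncard_coe_finset]
  rw [hset 3, hset 2, hset 1, hset 0]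
  omega

end Cfsg.Agent.S5625
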