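import Mathlib
import Cfsg.Statements.S5627
import Cfsg.Agent.Lib.Helper27.WittPlane4

set_option autoImplicit false
open Cfsg

namespace Cfsg.Agent.S5627

open Cfsg.Agent.Helper27.Witt

/-- A projective plane of order 4 has exactly 2520 independent 4-sets of points and 168 hyperovals; each independent 4-set lies in a unique hyperoval. -/
theorem result {α : Type*} [Fintype α] [DecidableEq α] (hα : Fintype.card α = 21) (L : Set (Finset α)) (hL : Cfsg.IsSteinerSystem 2 5 L) : {S : Finset α | (S.card = 4 ∧ ∀ l ∈ L, (l ∩ S).card ≤ 2)}.ncard = 2520 ∧ {H : Finset α | (H.card = 6 ∧ ∀ l ∈ L, (l ∩ H).card ≤ 2)}.ncard = 168 ∧ ∀ S : Finset α, (S.card = 4 ∧ ∀ l ∈ L, (l ∩ S).card ≤ 2) → ∃! H : Finset α, (H.card = 6 ∧ ∀ l ∈ L, (l ∩ H).card ≤ 2) ∧ S ⊆ H := by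
  have h168 := ncard_hyperovals hL hα
  refine ⟨?_, h168, ?_⟩
  · rw [ncard_four_arcs hL hα, h168]
  · intro S hS
    exact existsUnique_hyperoval hL hα S hS.1 hS.2

end Cfsg.Agent.S5627
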