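import Mathlib
import Cfsg.Statements.S5628
import Cfsg.Agent.Lib.Helper27.WittPlane3

set_option autoImplicit false
open Cfsg

namespace Cfsg.Agent.S5628

open Cfsg.Agent.Helper27.Witt

/-- Every permutation of a hyperoval of the projective plane of order 4 extends to a unique collineation. -/
theorem result {α : Type*} [Fintype α] [DecidableEq α] (hα : Fintype.card α = 21) (L : Set (Finset α)) (hL : Cfsg.IsSteinerSystem 2 5 L) (H : Finset α) (hH : (H.card = 6 ∧ ∀ l ∈ L, (l ∩ H).card ≤ 2)) (σ : Equiv.Perm ↥H) : ∃! g : Equiv.Perm α, g ∈ Cfsg.setSystemAut L ∧ ∀ p : ↥H, g p = σ p := by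
  obtain ⟨g, hg, hgσ⟩ := exists_collineation hL hα H hH.1 hH.2 σ
  refine ⟨g, ⟨hg, hgσ⟩, ?_⟩
  rintro g' ⟨hg', hgσ'⟩
  have hf : g⁻¹ * g' ∈ Cfsg.setSystemAut L := Subgroup.mul_mem _ (Subgroup.inv_mem _ hg) hg'
  have hfix : ∀ x ∈ H, (g⁻¹ * g') x = x := by
    intro x hx
    have h1 := hgσ ⟨x, hx⟩
    have h2 := hgσ' ⟨x, hx⟩
    rw [Equiv.Perm.mul_apply, Equiv.Perm.inv_eq_iff_eq]
    show g' x = g x
    rw [h1, h2]
  have := collineation_eq_one hL hα H hH.1 hH.2 _ hf hfix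
  rw [inv_mul_eq_one] at this
  exact this.symm

end Cfsg.Agent.S5628
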