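import Mathlib
import Cfsg.Agent.Lib.Helper28.SubspaceMax
set_option autoImplicit false
open Cfsg
namespace Cfsg.Agent.S5631
open Cfsg.Agent.Helper28 Cfsg.Agent.Helper28.SubspaceMax

/-- For a finite field F and n ≥ 13, the stabiliser in SL_n(F) of any proper non-zero subspace W of F^n is a maximal subgroup of SL_n(F). Here SL_n(F) is the kernel of the determinant inside GL_n(F) and the stabiliser is the set of elements of determinant one mapping W onto itself. -/
theorem result {F : Type*} [Field F] [Fintype F] (n : ℕ) (hn : 13 ≤ n) (W : Submodule F (Fin n → F)) (hW0 : W ≠ ⊥) (hW1 : W ≠ ⊤) : Cfsg.Geo.IsMaximalIn (Cfsg.Geo.specialLinear (Fin n) F) (Cfsg.Geo.subspaceStabilizer W ⊓ Cfsg.Geo.specialLinear (Fin n) F) := by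
  refine ⟨?_, ?_⟩
  · obtain ⟨g, hgS, hgW⟩ := exists_specialLinear_not_stabilizer W hW0 hW1
    rw [lt_iff_le_and_ne]
    refine ⟨inf_le_right, ?_⟩
    intro heq
    rw [← heq] at hgS
    exact hgW hgS.1
  · intro M hPM hMG
    by_cases hMP : M ≤ Cfsg.Geo.subspaceStabilizer W
    · left
      exact le_antisymm (fun x hx => ⟨hMP hx, hMG hx⟩) hPM
    · right
      obtain ⟨h, hhM, hhW⟩ := SetLike.not_le_iff_exists.mp hMP
      exact le_antisymm hMG (maximal_aux (by omega) W M hPM h hhM hhW)

end Cfsg.Agent.S5631
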