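import Mathlib
import Cfsg.Statements.S5632
import Cfsg.Agent.Lib.Helper28.Transvec

set_option autoImplicit false
open Cfsg

namespace Cfsg.Agent.S5632

open scoped Matrix
open Cfsg.Agent.Helper28

/-- For a finite field F and subspaces 0 < W < U of F^n with dim W + dim U = n, the elements of SL_n(F) stabilising both W and U form a subgroup that is not maximal in SL_n(F): some subgroup lies strictly between it and SL_n(F). -/
theorem result {F : Type*} [Field F] [Fintype F] (n : ℕ) (W U : Submodule F (Fin n → F)) (hW0 : W ≠ ⊥) (hWU : W < U) (hdim : Module.finrank F W + Module.finrank F U = n) : ∃ K : Subgroup (Matrix.GeneralLinearGroup (Fin n) F), Cfsg.Geo.subspaceStabilizer W ⊓ Cfsg.Geo.subspaceStabilizer U ⊓ Cfsg.Geo.specialLinear (Fin n) F < K ∧ K < Cfsg.Geo.specialLinear (Fin n) F := by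
  have hW1 : W ≠ ⊤ := by
    rintro rfl
    exact not_top_lt hWU
  -- U is a proper subspace
  have hU1 : U ≠ ⊤ := by
    rintro rfl
    have h1 : Module.finrank F (⊤ : Submodule F (Fin n → F)) = n := by
      rw [finrank_top, Module.finrank_fin_fun]
    have h2 : 0 < Module.finrank F W := by
      rw [Module.finrank_pos_iff_exists_ne_zero]
      obtain ⟨w, hwW, hw0⟩ := (Submodule.ne_bot_iff W).mp hW0
      exact ⟨⟨w, hwW⟩, fun h => hw0 (congrArg Subtype.val h)⟩
    omega
  refine ⟨Cfsg.Geo.subspaceStabilizer W ⊓ Cfsg.Geo.specialLinear (Fin n) F, ?_, ?_⟩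
  · -- first strict inclusion
    obtain ⟨u, huU, huW⟩ := SetLike.exists_of_lt hWU
    obtain ⟨v, hvU⟩ : ∃ v, v ∉ U := by
      by_contra h
      push Not at h
      exact hU1 (eq_top_iff.mpr fun x _ => h x)
    have huM : u ∉ W ⊔ Submodule.span F {v} := by
      intro hmem
      obtain ⟨w, hwW, z, hz, hsum⟩ := Submodule.mem_sup.mp hmem
      obtain ⟨a, rfl⟩ := Submodule.mem_span_singleton.mp hz
      have h1 : a • v ∈ U := by
        have : a • v = u - w := by rw [← hsum]; abel
        rw [this]
        exact U.sub_mem huU (hWU.le hwW)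
      by_cases ha : a = 0
      · subst ha
        rw [zero_smul, add_zero] at hsum
        exact huW (hsum ▸ hwW)
      · apply hvU
        have : v = a⁻¹ • (a • v) := by rw [smul_smul, inv_mul_cancel₀ ha, one_smul]
        rw [this]
        exact U.smul_mem _ h1
    have hvM : v ∈ W ⊔ Submodule.span F {v} :=
      (le_sup_right : Submodule.span F {v} ≤ _) (Submodule.mem_span_singleton_self v)
    obtain ⟨g, φ, hdet, hφM, hφu, hg⟩ := exists_transvection _ u v hvM huM
    have hgW : g ∈ Cfsg.Geo.subspaceStabilizer W :=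
      mem_subspaceStabilizer_of_transvection _ W le_sup_left v hvM g φ hφM hg
    have hgU : g ∉ Cfsg.Geo.subspaceStabilizer U := by
      intro hmem
      have h1 : (g : Matrix (Fin n) (Fin n) F) *ᵥ u ∈ U := (hmem u).mp huU
      rw [hg, hφu, one_smul] at h1
      exact hvU ((U.add_mem_iff_right huU).mp h1)
    rw [lt_iff_le_and_ne]
    constructor
    · intro x hx
      exact ⟨hx.1.1, hx.2⟩
    · intro heq
      have : g ∈ Cfsg.Geo.subspaceStabilizer W ⊓ Cfsg.Geo.specialLinear (Fin n) F :=
        ⟨hgW, (mem_specialLinear_iff g).mpr hdet⟩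
      rw [← heq] at this
      exact hgU this.1.2
  · -- second strict inclusion
    obtain ⟨g, hgS, hgW⟩ := exists_specialLinear_not_stabilizer W hW0 hW1
    rw [lt_iff_le_and_ne]
    refine ⟨inf_le_right, ?_⟩
    intro heq
    rw [← heq] at hgS
    exact hgW hgS.1

end Cfsg.Agent.S5632
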