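import Mathlib
import Cfsg.Statements.S5633
import Cfsg.Agent.Lib.Helper28.Transvec

set_option autoImplicit false
open Cfsg

namespace Cfsg.Agent.S5633

open scoped Matrix
open Cfsg.Agent.Helper28

/-- For a finite field F and complementary non-zero subspaces W ⊕ U = F^n with dim W < dim U, the elements of SL_n(F) stabilising both W and U form a subgroup that is not maximal in SL_n(F): some subgroup lies strictly between it and SL_n(F). -/
theorem result {F : Type*} [Field F] [Fintype F] (n : ℕ) (W U : Submodule F (Fin n → F)) (hW0 : W ≠ ⊥) (hWU : W ⊓ U = ⊥) (hWU' : W ⊔ U = ⊤) (hdim : Module.finrank F W < Module.finrank F U) : ∃ K : Subgroup (Matrix.GeneralLinearGroup (Fin n) F), Cfsg.Geo.subspaceStabilizer W ⊓ Cfsg.Geo.subspaceStabilizer U ⊓ Cfsg.Geo.specialLinear (Fin n) F < K ∧ K < Cfsg.Geo.specialLinear (Fin n) F := by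
  have hU0 : U ≠ ⊥ := by
    rintro rfl
    rw [finrank_bot] at hdim
    omega
  have hW1 : W ≠ ⊤ := by
    rintro rfl
    rw [top_inf_eq] at hWU
    exact hU0 hWU
  refine ⟨Cfsg.Geo.subspaceStabilizer W ⊓ Cfsg.Geo.specialLinear (Fin n) F, ?_, ?_⟩
  · -- first strict inclusion
    obtain ⟨u, huU, hu0⟩ := (Submodule.ne_bot_iff U).mp hU0
    obtain ⟨w, hwW, hw0⟩ := (Submodule.ne_bot_iff W).mp hW0
    have huW : u ∉ W := by
      intro h
      have : u ∈ W ⊓ U := ⟨h, huU⟩
      rw [hWU, Submodule.mem_bot] at this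
      exact hu0 this
    obtain ⟨g, φ, hdet, hφM, hφu, hg⟩ := exists_transvection W u w hwW huW
    have hgW : g ∈ Cfsg.Geo.subspaceStabilizer W :=
      mem_subspaceStabilizer_of_transvection W W le_rfl w hwW g φ hφM hg
    have hgU : g ∉ Cfsg.Geo.subspaceStabilizer U := by
      intro hmem
      have h1 : (g : Matrix (Fin n) (Fin n) F) *ᵥ u ∈ U := (hmem u).mp huU
      rw [hg, hφu, one_smul] at h1
      have h2 : w ∈ U := (U.add_mem_iff_right huU).mp h1
      have : w ∈ W ⊓ U := ⟨hwW, h2⟩
      rw [hWU, Submodule.mem_bot] at this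
      exact hw0 this
    rw [lt_iff_le_and_ne]
    constructor
    · intro x hx
      exact ⟨hx.1.1, hx.2⟩
    · intro heq
      have : g ∈ Cfsg.Geo.subspaceStabilizer W ⊓ Cfsg.Geo.specialLinear (Fin n) F :=
        ⟨hgW, (mem_specialLinear_iff g).mpr hdet⟩
      rw [← heq] at this
      exact hgU this.1.2
  · -- second strict inclusion
    obtain ⟨g, hgS, hgW⟩ := exists_specialLinear_not_stabilizer W hW0 hW1
    rw [lt_iff_le_and_ne]
    refine ⟨inf_le_right, ?_⟩
    intro heq
    rw [← heq] at hgS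
    exact hgW hgS.1

end Cfsg.Agent.S5633
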