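import Mathlib
import Cfsg.Agent.Lib.Helper28.DecompComp
set_option autoImplicit false
open Cfsg
namespace Cfsg.Agent.S5635
open Matrix Cfsg.Agent.Helper28 Cfsg.Agent.Helper28.DecompComp
open scoped Classical

variable {F : Type*} [Field F] {n t : ℕ} {D : Fin t → Submodule F (Fin n → F)}

theorem sum_range_eq {r : ℕ} (s : Fin r → Fin t) (hs : Function.Injective s) (G : Fin t → F)
    (hG : ∀ i, (¬ ∃ k, s k = i) → G i = 0) : ∑ i, G i = ∑ k, G (s k) := by
  rw [← Finset.sum_image (s := Finset.univ) (g := s) (f := G) (fun x _ y _ h => hs h)]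
  symm
  apply Finset.sum_subset (Finset.subset_univ _)
  intro i _ hi
  apply hG
  rintro ⟨k, hk⟩
  exact hi (Finset.mem_image.mpr ⟨k, Finset.mem_univ _, hk⟩)

/-- the polynomial identity behind the invariance of the count -/
theorem poly4 (e : ℕ) (hch : (e = 1 ∧ (2 : F) = 0) ∨ (e = 2 ∧ (3 : F) = 0) ∨ (e = 3 ∧ (2 : F) = 0))
    (y : Fin 4 → F) :
    ∑ k, ((y k + ∑ j, y j) ^ e - y k ^ e) = 0 := by
  simp only [Fin.sum_univ_four]
  rcases hch with ⟨rfl, h⟩ | ⟨rfl, h⟩ | ⟨rfl, h⟩
  · linear_combination (2 * (y 0 + y 1 + y 2 + y 3)) * h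
  · linear_combination (2 * (y 0 + y 1 + y 2 + y 3) ^ 2) * h
  · linear_combination (2 * (y 0 + y 1 + y 2 + y 3) * (y 0 ^ 2 + y 1 ^ 2 + y 2 ^ 2 + y 3 ^ 2) +
      3 * (y 0 + y 1 + y 2 + y 3) ^ 3 + (y 0 + y 1 + y 2 + y 3) *
        (y 0 * y 1 + y 0 * y 2 + y 0 * y 3 + y 1 * y 2 + y 1 * y 3 + y 2 * y 3)) * h

section one

variable (hD : Cfsg.Geo.IsMDecomposition 1 D) (e : ℕ) (he : e ≠ 0)
  (hq : ∀ y : F, y ≠ 0 → y ^ e = 1)

include he hq in
theorem ind_one (i : Fin t) (v : Fin n → F) :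
    (if comp hD i v = 0 then 0 else 1 : F) = (X hD i 0 v) ^ e := by
  have h1 : comp hD i v = 0 ↔ X hD i 0 v = 0 := by
    rw [comp_eq_zero_iff]
    exact Fin.forall_fin_one
  by_cases h : X hD i 0 v = 0
  · rw [if_pos (h1.mpr h), h, zero_pow he]
  · rw [if_neg (fun h' => h (h1.mp h')), hq _ h]

include he hq in
theorem cnt_TM_one (hch : (e = 1 ∧ (2 : F) = 0) ∨ (e = 2 ∧ (3 : F) = 0) ∨ (e = 3 ∧ (2 : F) = 0))
    (s : Fin 4 → Fin t) (hs : Function.Injective s) (v : Fin n → F) :
    (cnt hD (TM (phiS hD s 0) (wS hD s 0) *ᵥ v) : F) = (cnt hD v : F) := by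
  rw [cnt_cast, cnt_cast, ← sub_eq_zero, ← Finset.sum_sub_distrib]
  simp only [ind_one hD e he hq]
  simp only [TM_mulVec, map_add, map_smul, smul_eq_mul, X_wS hD s hs]
  rw [sum_range_eq s hs]
  · have h1 : ∀ k : Fin 4, ((∃ k', s k' = s k) ∧ (0 : Fin 1) = 0) := fun k => ⟨⟨k, rfl⟩, rfl⟩
    simp only [h1, and_self, if_true, mul_one, phiS_apply]
    exact poly4 e hch (fun k => X hD (s k) 0 v)
  · intro i hi
    rw [if_neg (fun h => hi h.1), mul_zero, add_zero, sub_self]

include he hq in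
theorem exists_one (hch : (e = 1 ∧ (2 : F) = 0) ∨ (e = 2 ∧ (3 : F) = 0) ∨ (e = 3 ∧ (2 : F) = 0))
    (ht : 8 ≤ t) :
    ∃ g : GL (Fin n) F, g ∈ KK hD ∧ g ∉ Cfsg.Geo.decompositionStabilizer D := by
  have h24 : (24 : F) = 0 := by
    rcases hch with ⟨-, h⟩ | ⟨-, h⟩ | ⟨-, h⟩
    · linear_combination 12 * h
    · linear_combination 8 * h
    · linear_combination 12 * h
  obtain ⟨s, hsdef⟩ : ∃ s : Fin 4 → Fin t, s = fun k => ⟨k.val, by have := k.isLt; omega⟩ :=
    ⟨_, rfl⟩
  obtain ⟨s', hs'def⟩ : ∃ s' : Fin 4 → Fin t,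
      s' = fun k => ⟨k.val + 4, by have := k.isLt; omega⟩ := ⟨_, rfl⟩
  have hs : Function.Injective s := by
    intro a b hab
    rw [hsdef] at hab
    simp only [Fin.mk.injEq] at hab
    exact Fin.ext hab
  have hs' : Function.Injective s' := by
    intro a b hab
    rw [hs'def] at hab
    simp only [Fin.mk.injEq] at hab
    exact Fin.ext (by omega)
  have hss' : ∀ k k', s' k ≠ s k' := by
    intro k k' h
    rw [hsdef, hs'def] at h
    simp only [Fin.mk.injEq] at h
    have := k'.isLt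
    omega
  have hφw : phiS hD s 0 (wS hD s 0) = 4 := by
    rw [phiS_apply]
    simp only [X_wS hD s hs]
    have h1 : ∀ k : Fin 4, ((∃ k', s k' = s k) ∧ (0 : Fin 1) = 0) := fun k => ⟨⟨k, rfl⟩, rfl⟩
    simp only [h1, and_self, if_true, Finset.sum_const, Finset.card_univ, Fintype.card_fin]
    norm_num
  have hφw' : phiS hD s' 0 (wS hD s' 0) = 4 := by
    rw [phiS_apply]
    simp only [X_wS hD s' hs']
    have h1 : ∀ k : Fin 4, ((∃ k', s' k' = s' k) ∧ (0 : Fin 1) = 0) := fun k => ⟨⟨k, rfl⟩, rfl⟩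
    simp only [h1, and_self, if_true, Finset.sum_const, Finset.card_univ, Fintype.card_fin]
    norm_num
  have hdet : (TM (phiS hD s 0) (wS hD s 0) * TM (phiS hD s' 0) (wS hD s' 0)).det = 1 := by
    rw [det_mul, TM_det, TM_det, hφw, hφw']
    linear_combination h24
  obtain ⟨g, hgval⟩ : ∃ g : GL (Fin n) F, (g : Matrix (Fin n) (Fin n) F) =
      TM (phiS hD s 0) (wS hD s 0) * TM (phiS hD s' 0) (wS hD s' 0) :=
    ⟨Matrix.GeneralLinearGroup.mkOfDetNeZero _ (by rw [hdet]; exact one_ne_zero), rfl⟩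
  refine ⟨g, ⟨?_, ?_⟩, ?_⟩
  · rw [mem_specialLinear_iff]
    apply Units.ext
    rw [Matrix.GeneralLinearGroup.val_det_apply, hgval, hdet, Units.val_one]
  · intro v
    rw [hgval, ← Matrix.mulVec_mulVec, cnt_TM_one hD e he hq hch s hs,
      cnt_TM_one hD e he hq hch s' hs']
  · have h01 : s 0 ≠ s 1 := fun h => by have := hs h; simp at this
    have h02 : s 0 ≠ s 2 := fun h => by have := hs h; simp at this
    have h12 : s 1 ≠ s 2 := fun h => by have := hs h; simp at this
    have hin : TM (phiS hD s' 0) (wS hD s' 0) *ᵥ E hD (s 0) 0 = E hD (s 0) 0 := by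
      rw [TM_mulVec, phiS_apply]
      rw [Finset.sum_eq_zero, zero_smul, add_zero]
      intro k _
      rw [X_E, if_neg (fun h => hss' k 0 h.1)]
    have hout : TM (phiS hD s 0) (wS hD s 0) *ᵥ E hD (s 0) 0 = E hD (s 0) 0 + wS hD s 0 := by
      rw [TM_mulVec, phiS_apply]
      simp only [X_E]
      rw [Finset.sum_eq_single 0]
      · simp
      · intro k _ hk
        rw [if_neg]
        rintro ⟨h, -⟩
        exact hk (hs h)
      · intro h; exact absurd (Finset.mem_univ _) h
    have hga : (g : Matrix (Fin n) (Fin n) F) *ᵥ E hD (s 0) 0 = E hD (s 0) 0 + wS hD s 0 := by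
      rw [hgval, ← Matrix.mulVec_mulVec, hin, hout]
    apply not_stab_of_two hD g (s 0) (s 1) (s 2) h12 (E hD (s 0) 0) (E_mem hD _ _)
    · rw [hga]
      intro h0
      have := (comp_eq_zero_iff hD _ _).mp h0 0
      rw [map_add, X_E, X_wS hD s hs, if_neg (fun h => h01 h.1.symm), if_pos ⟨⟨1, rfl⟩, rfl⟩,
        zero_add] at this
      exact one_ne_zero this
    · rw [hga]
      intro h0
      have := (comp_eq_zero_iff hD _ _).mp h0 0
      rw [map_add, X_E, X_wS hD s hs, if_neg (fun h => h02 h.1.symm), if_pos ⟨⟨2, rfl⟩, rfl⟩,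
        zero_add] at this
      exact one_ne_zero this

end one

section two

variable (hD : Cfsg.Geo.IsMDecomposition 2 D) (hq : ∀ y : F, y = 0 ∨ y = 1)

include hq in
theorem two_eq_zero : (2 : F) = 0 := by
  rcases hq 2 with h | h
  · exact h
  · exfalso
    have : (1 : F) = 0 := by linear_combination h
    exact one_ne_zero this

include hq in
theorem ind_two (i : Fin t) (v : Fin n → F) :
    (if comp hD i v = 0 then 0 else 1 : F) =
      X hD i 0 v + X hD i 1 v + X hD i 0 v * X hD i 1 v := by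
  have h2 := two_eq_zero hq
  have h1 : comp hD i v = 0 ↔ X hD i 0 v = 0 ∧ X hD i 1 v = 0 := by
    rw [comp_eq_zero_iff]
    exact Fin.forall_fin_two
  rcases hq (X hD i 0 v) with hx | hx <;> rcases hq (X hD i 1 v) with hy | hy
  · rw [if_pos (h1.mpr ⟨hx, hy⟩), hx, hy]
    ring
  · rw [if_neg (fun h => by have := (h1.mp h).2; rw [hy] at this; exact one_ne_zero this), hx, hy]
    ring
  · rw [if_neg (fun h => by have := (h1.mp h).1; rw [hx] at this; exact one_ne_zero this), hx, hy]
    ring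
  · rw [if_neg (fun h => by have := (h1.mp h).1; rw [hx] at this; exact one_ne_zero this), hx, hy]
    linear_combination -h2

include hq in
theorem cnt_TM_two (s : Fin 3 → Fin t) (hs : Function.Injective s) (v : Fin n → F) :
    (cnt hD (TM (phiS hD s 1) (wS hD s 0) *ᵥ v) : F) = (cnt hD v : F) := by
  have h2 := two_eq_zero hq
  rw [cnt_cast, cnt_cast, ← sub_eq_zero, ← Finset.sum_sub_distrib]
  simp only [ind_two hD hq]
  simp only [TM_mulVec, map_add, map_smul, smul_eq_mul, X_wS hD s hs]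
  rw [sum_range_eq s hs]
  · have h1 : ∀ k : Fin 3, ((∃ k', s k' = s k) ∧ (0 : Fin 2) = 0) := fun k => ⟨⟨k, rfl⟩, rfl⟩
    have h3 : ∀ k : Fin 3, ¬ ((∃ k', s k' = s k) ∧ (1 : Fin 2) = 0) := fun k h => by
      have := h.2
      simp at this
    simp only [h1, h3, and_self, if_true, if_false, mul_one, mul_zero, add_zero, phiS_apply,
      Fin.sum_univ_three, Fin.reduceEq, and_false, and_true, exists_apply_eq_apply]
    obtain ⟨c, hc⟩ : ∃ c, c = X hD (s 0) 1 v + X hD (s 1) 1 v + X hD (s 2) 1 v := ⟨_, rfl⟩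
    rw [← hc]
    have hcc : c * c = c := by
      rcases hq c with h | h <;> rw [h] <;> ring
    linear_combination (2 * c) * h2 + hcc - c * hc
  · intro i hi
    rw [if_neg (fun h => hi h.1), if_neg (fun h => hi h.1), mul_zero, add_zero, add_zero, sub_self]

include hq in
theorem exists_two (ht : 3 ≤ t) :
    ∃ g : GL (Fin n) F, g ∈ KK hD ∧ g ∉ Cfsg.Geo.decompositionStabilizer D := by
  obtain ⟨s, hsdef⟩ : ∃ s : Fin 3 → Fin t, s = fun k => ⟨k.val, by have := k.isLt; omega⟩ :=
    ⟨_, rfl⟩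
  have hs : Function.Injective s := by
    intro a b hab
    rw [hsdef] at hab
    simp only [Fin.mk.injEq] at hab
    exact Fin.ext hab
  have hφw : phiS hD s 1 (wS hD s 0) = 0 := by
    rw [phiS_apply]
    apply Finset.sum_eq_zero
    intro k _
    rw [X_wS hD s hs, if_neg]
    rintro ⟨-, h⟩
    simp at h
  have hdet : (TM (phiS hD s 1) (wS hD s 0)).det = 1 := by
    rw [TM_det, hφw, add_zero]
  obtain ⟨g, hgval⟩ : ∃ g : GL (Fin n) F, (g : Matrix (Fin n) (Fin n) F) =
      TM (phiS hD s 1) (wS hD s 0) :=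
    ⟨Matrix.GeneralLinearGroup.mkOfDetNeZero (TM (phiS hD s 1) (wS hD s 0))
      (by rw [hdet]; exact one_ne_zero), rfl⟩
  refine ⟨g, ⟨?_, ?_⟩, ?_⟩
  · rw [mem_specialLinear_iff]
    apply Units.ext
    rw [Matrix.GeneralLinearGroup.val_det_apply, hgval, hdet, Units.val_one]
  · intro v
    rw [hgval, cnt_TM_two hD hq s hs]
  · have h01 : s 0 ≠ s 1 := fun h => by have := hs h; simp at this
    have h02 : s 0 ≠ s 2 := fun h => by have := hs h; simp at this
    have h12 : s 1 ≠ s 2 := fun h => by have := hs h; simp at this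
    have hga : (g : Matrix (Fin n) (Fin n) F) *ᵥ E hD (s 0) 1 = E hD (s 0) 1 + wS hD s 0 := by
      rw [hgval, TM_mulVec, phiS_apply]
      simp only [X_E]
      rw [Finset.sum_eq_single 0]
      · simp
      · intro k _ hk
        rw [if_neg]
        rintro ⟨h, -⟩
        exact hk (hs h)
      · intro h; exact absurd (Finset.mem_univ _) h
    apply not_stab_of_two hD g (s 0) (s 1) (s 2) h12 (E hD (s 0) 1) (E_mem hD _ _)
    · rw [hga]
      intro h0
      have := (comp_eq_zero_iff hD _ _).mp h0 0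
      rw [map_add, X_E, X_wS hD s hs, if_neg (fun h => h01 h.1.symm), if_pos ⟨⟨1, rfl⟩, rfl⟩,
        zero_add] at this
      exact one_ne_zero this
    · rw [hga]
      intro h0
      have := (comp_eq_zero_iff hD _ _).mp h0 0
      rw [map_add, X_E, X_wS hD s hs, if_neg (fun h => h02 h.1.symm), if_pos ⟨⟨2, rfl⟩, rfl⟩,
        zero_add] at this
      exact one_ne_zero this

end two

theorem all_zero_or_one [Fintype F] (hF : Fintype.card F = 2) : ∀ y : F, y = 0 ∨ y = 1 := by
  intro y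
  by_contra h
  push Not at h
  have : 2 < Fintype.card F :=
    Fintype.two_lt_card_iff.mpr ⟨0, 1, y, zero_ne_one, Ne.symm h.1, Ne.symm h.2⟩
  omega

/-- For a finite field F with q elements and n ≥ 13, let D be a decomposition of F^n into t ≥ 2 independent subspaces of equal dimension m spanning F^n, where m = 1 and q ≤ 4, or m = 2 and q = 2. Then the elements of SL_n(F) permuting the members of D form a subgroup that is not maximal: some subgroup lies strictly between it and SL_n(F). -/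
theorem result {F : Type*} [Field F] [Fintype F] (n : ℕ) (hn : 13 ≤ n) {t : ℕ} (m : ℕ) (D : Fin t → Submodule F (Fin n → F)) (hD : Cfsg.Geo.IsMDecomposition m D) (h : (m = 1 ∧ Fintype.card F ≤ 4) ∨ (m = 2 ∧ Fintype.card F = 2)) : ∃ K : Subgroup (Matrix.GeneralLinearGroup (Fin n) F), Cfsg.Geo.decompositionStabilizer D ⊓ Cfsg.Geo.specialLinear (Fin n) F < K ∧ K < Cfsg.Geo.specialLinear (Fin n) F := by
  have hcount := le_count hD
  have key : ∃ g : GL (Fin n) F, g ∈ KK hD ∧ g ∉ Cfsg.Geo.decompositionStabilizer D := by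
    rcases h with ⟨rfl, hcard⟩ | ⟨rfl, hcard⟩
    · have h1 : 1 < Fintype.card F := Fintype.one_lt_card
      have hq : ∀ y : F, y ≠ 0 → y ^ (Fintype.card F - 1) = 1 :=
        fun y hy => FiniteField.pow_card_sub_one_eq_one y hy
      have hc0 : (Fintype.card F : F) = 0 := Nat.cast_card_eq_zero F
      have hch : (Fintype.card F - 1 = 1 ∧ (2 : F) = 0) ∨ (Fintype.card F - 1 = 2 ∧ (3 : F) = 0) ∨
          (Fintype.card F - 1 = 3 ∧ (2 : F) = 0) := by
        have hcases : Fintype.card F = 2 ∨ Fintype.card F = 3 ∨ Fintype.card F = 4 := by omega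
        rcases hcases with h | h | h
        · left
          rw [h] at hc0
          exact ⟨by rw [h], by exact_mod_cast hc0⟩
        · right; left
          rw [h] at hc0
          exact ⟨by rw [h], by exact_mod_cast hc0⟩
        · right; right
          rw [h] at hc0
          refine ⟨by rw [h], ?_⟩
          have h4 : (2 : F) * 2 = 0 := by
            have : ((4 : ℕ) : F) = 0 := hc0
            push_cast at this
            linear_combination this
          exact mul_self_eq_zero.mp h4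
      exact exists_one hD _ (by omega) hq hch (by omega)
    · exact exists_two hD (all_zero_or_one hcard) (by omega)
  obtain ⟨g, hgK, hgS⟩ := key
  refine ⟨KK hD, ?_, KK_lt hD⟩
  rw [lt_iff_le_and_ne]
  refine ⟨stab_le_KK hD, fun heq => ?_⟩
  rw [← heq] at hgK
  exact hgS hgK.1

end Cfsg.Agent.S5635
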