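import Mathlib
import Cfsg.Prelude.Def_GeometricClasses
set_option autoImplicit false
open Cfsg
namespace Cfsg.Agent.S5638
open Matrix Kronecker

variable {F : Type*} [Field F]

/-- an element of order three of `GL₂` over the field with two elements -/
def zeta : Matrix (Fin 2) (Fin 2) F := !![0, 1; 1, 1]

/-- an involution inverting `zeta` -/
def tau : Matrix (Fin 2) (Fin 2) F := !![1, 1; 0, 1]

section

variable (h2 : (2 : F) = 0)

include h2 in
theorem zeta_sq : (zeta : Matrix (Fin 2) (Fin 2) F) * zeta = !![1, 1; 1, 0] := by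
  unfold zeta
  ext i j
  fin_cases i <;> fin_cases j <;> (try simp [Matrix.mul_apply, Fin.sum_univ_two]) <;> (try linear_combination h2)

include h2 in
theorem zeta_cube : (zeta : Matrix (Fin 2) (Fin 2) F) * zeta * zeta = 1 := by
  rw [zeta_sq h2]
  unfold zeta
  ext i j
  fin_cases i <;> fin_cases j <;> (try simp [Matrix.mul_apply, Fin.sum_univ_two]) <;> (try linear_combination h2)

include h2 in
theorem zeta_cube' : (zeta : Matrix (Fin 2) (Fin 2) F) * (zeta * zeta) = 1 := by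
  rw [← mul_assoc, zeta_cube h2]

include h2 in
theorem tau_sq : (tau : Matrix (Fin 2) (Fin 2) F) * tau = 1 := by
  unfold tau
  ext i j
  fin_cases i <;> fin_cases j <;> (try simp [Matrix.mul_apply, Fin.sum_univ_two]) <;> (try linear_combination h2)

include h2 in
theorem tau_zeta_tau : (tau : Matrix (Fin 2) (Fin 2) F) * zeta * tau = zeta * zeta := by
  rw [zeta_sq h2]
  unfold tau zeta
  ext i j
  fin_cases i <;> fin_cases j <;> (try simp [Matrix.mul_apply, Fin.sum_univ_two]) <;> (try linear_combination h2)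

include h2 in
theorem zeta_poly : (zeta : Matrix (Fin 2) (Fin 2) F) * zeta + zeta + 1 = 0 := by
  rw [zeta_sq h2]
  unfold zeta
  ext i j
  fin_cases i <;> fin_cases j <;> (try simp [Matrix.one_apply]) <;> (try linear_combination h2)

end

section blocks

variable {n₂ : ℕ} (k₀ : Fin n₂)

/-- the projection onto the coordinate `k₀` -/
def pM : Matrix (Fin n₂) (Fin n₂) F := Matrix.diagonal (fun k => if k = k₀ then 1 else 0)

/-- the complementary projection -/
def pM' : Matrix (Fin n₂) (Fin n₂) F := Matrix.diagonal (fun k => if k = k₀ then 0 else 1)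

theorem pM_mul_pM : (pM k₀ : Matrix (Fin n₂) (Fin n₂) F) * pM k₀ = pM k₀ := by
  unfold pM
  rw [Matrix.diagonal_mul_diagonal]
  congr 1
  funext k
  split_ifs <;> simp

theorem pM'_mul_pM' : (pM' k₀ : Matrix (Fin n₂) (Fin n₂) F) * pM' k₀ = pM' k₀ := by
  unfold pM'
  rw [Matrix.diagonal_mul_diagonal]
  congr 1
  funext k
  split_ifs <;> simp

theorem pM_mul_pM' : (pM k₀ : Matrix (Fin n₂) (Fin n₂) F) * pM' k₀ = 0 := by
  unfold pM pM'
  rw [Matrix.diagonal_mul_diagonal, ← Matrix.diagonal_zero]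
  congr 1
  funext k
  split_ifs <;> simp

theorem pM'_mul_pM : (pM' k₀ : Matrix (Fin n₂) (Fin n₂) F) * pM k₀ = 0 := by
  unfold pM pM'
  rw [Matrix.diagonal_mul_diagonal, ← Matrix.diagonal_zero]
  congr 1
  funext k
  split_ifs <;> simp

theorem pM_add_pM' : (pM k₀ : Matrix (Fin n₂) (Fin n₂) F) + pM' k₀ = 1 := by
  unfold pM pM'
  rw [Matrix.diagonal_add, ← Matrix.diagonal_one]
  congr 1
  funext k
  split_ifs <;> simp

/-- the block matrix with `A` at the coordinate `k₀` and `B` at the others -/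
def blk (A B : Matrix (Fin 2) (Fin 2) F) : Matrix (Fin 2 × Fin n₂) (Fin 2 × Fin n₂) F :=
  A ⊗ₖ pM k₀ + B ⊗ₖ pM' k₀

theorem blk_mul (A B A' B' : Matrix (Fin 2) (Fin 2) F) :
    blk k₀ A B * blk k₀ A' B' = blk k₀ (A * A') (B * B') := by
  unfold blk
  rw [add_mul, mul_add, mul_add, ← Matrix.mul_kronecker_mul, ← Matrix.mul_kronecker_mul,
    ← Matrix.mul_kronecker_mul, ← Matrix.mul_kronecker_mul, pM_mul_pM, pM_mul_pM', pM'_mul_pM,
    pM'_mul_pM', Matrix.kronecker_zero, Matrix.kronecker_zero, add_zero, zero_add]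

theorem blk_same (A : Matrix (Fin 2) (Fin 2) F) : blk k₀ A A = A ⊗ₖ (1 : Matrix (Fin n₂) (Fin n₂) F) := by
  unfold blk
  rw [← Matrix.kronecker_add, pM_add_pM']

theorem blk_one : blk k₀ (1 : Matrix (Fin 2) (Fin 2) F) 1 = 1 := by
  rw [blk_same, Matrix.one_kronecker_one]

theorem blk_apply_same (A B : Matrix (Fin 2) (Fin 2) F) (i j : Fin 2) :
    blk k₀ A B (i, k₀) (j, k₀) = A i j := by
  unfold blk pM pM'
  simp [Matrix.kroneckerMap_apply]

theorem blk_apply_other (A B : Matrix (Fin 2) (Fin 2) F) (i j : Fin 2) (k₁ : Fin n₂) (h : k₁ ≠ k₀) :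
    blk k₀ A B (i, k₁) (j, k₁) = B i j := by
  unfold blk pM pM'
  simp [Matrix.kroneckerMap_apply, h]

/-- a block matrix which is a Kronecker product has proportional blocks -/
theorem blk_kron (A B : Matrix (Fin 2) (Fin 2) F) (k₁ : Fin n₂) (h : k₁ ≠ k₀)
    (a : Matrix (Fin 2) (Fin 2) F) (b : Matrix (Fin n₂) (Fin n₂) F) (hab : blk k₀ A B = a ⊗ₖ b)
    (i j i' j' : Fin 2) : A i j * B i' j' = A i' j' * B i j := by
  have h1 : ∀ i j, A i j = a i j * b k₀ k₀ := by
    intro i j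
    rw [← blk_apply_same k₀ A B i j, hab]
    simp [Matrix.kroneckerMap_apply]
  have h2 : ∀ i j, B i j = a i j * b k₁ k₁ := by
    intro i j
    rw [← blk_apply_other k₀ A B i j k₁ h, hab]
    simp [Matrix.kroneckerMap_apply]
  rw [h1, h2, h1, h2]
  ring

/-- block matrices with invertible blocks, as invertible matrices -/
def blkU (A A' B B' : Matrix (Fin 2) (Fin 2) F) (hA : A * A' = 1) (hA' : A' * A = 1)
    (hB : B * B' = 1) (hB' : B' * B = 1) : GL (Fin 2 × Fin n₂) F :=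
  ⟨blk k₀ A B, blk k₀ A' B', by rw [blk_mul, hA, hB, blk_one], by rw [blk_mul, hA', hB', blk_one]⟩

end blocks

section conj

variable (hq : ∀ y : F, y = 0 ∨ y = 1)

include hq in
theorem two_eq_zero : (2 : F) = 0 := by
  rcases hq 2 with h | h
  · exact h
  · exfalso
    have : (1 : F) = 0 := by linear_combination h
    exact one_ne_zero this

include hq in
/-- over the field with two elements a root of `x² + x + 1` in the 2×2 matrices is `zeta` or its
square -/
theorem eq_zeta_of_poly (M : Matrix (Fin 2) (Fin 2) F) (hM : M * M + M + 1 = 0) :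
    M = zeta ∨ M = zeta * zeta := by
  have h2 := two_eq_zero hq
  have e00 := congrFun (congrFun hM 0) 0
  have e01 := congrFun (congrFun hM 0) 1
  simp only [Matrix.add_apply, Matrix.mul_apply, Fin.sum_univ_two, Matrix.one_apply_eq,
    Matrix.zero_apply] at e00
  simp only [Matrix.add_apply, Matrix.mul_apply, Fin.sum_univ_two, Matrix.zero_apply] at e01
  rw [Matrix.one_apply_ne (by decide : (0 : Fin 2) ≠ 1)] at e01
  have hpp : M 0 0 * M 0 0 + M 0 0 = 0 := by
    rcases hq (M 0 0) with h | h <;> rw [h]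
    · ring
    · linear_combination h2
  have hqr : M 0 1 * M 1 0 = 1 := by linear_combination e00 - hpp - h2
  have hq1 : M 0 1 = 1 := by
    rcases hq (M 0 1) with h | h
    · rw [h, zero_mul] at hqr
      exact absurd hqr zero_ne_one
    · exact h
  have hr1 : M 1 0 = 1 := by
    rcases hq (M 1 0) with h | h
    · rw [h, mul_zero] at hqr
      exact absurd hqr zero_ne_one
    · exact h
  have hs : M 1 1 = M 0 0 + 1 := by
    rw [hq1] at e01
    linear_combination e01 - (M 0 0 + 1) * h2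
  rw [zeta_sq h2]
  rcases hq (M 0 0) with hp | hp
  · left
    rw [Matrix.eta_fin_two M, hp, hq1, hr1, hs, hp, zero_add]
    rfl
  · right
    rw [Matrix.eta_fin_two M, hp, hq1, hr1, hs, hp]
    have : (1 : F) + 1 = 0 := by linear_combination h2
    rw [this]

include hq in
theorem conj_zeta (a : GL (Fin 2) F) :
    (a : Matrix (Fin 2) (Fin 2) F) * zeta = zeta * (a : Matrix (Fin 2) (Fin 2) F) ∨
      (a : Matrix (Fin 2) (Fin 2) F) * zeta = zeta * zeta * (a : Matrix (Fin 2) (Fin 2) F) := by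
  have h2 := two_eq_zero hq
  have e1 : ((a⁻¹ : GL (Fin 2) F) : Matrix (Fin 2) (Fin 2) F) * (a : Matrix (Fin 2) (Fin 2) F) = 1 := by
    rw [← Units.val_mul, inv_mul_cancel, Units.val_one]
  have e2 : (a : Matrix (Fin 2) (Fin 2) F) * ((a⁻¹ : GL (Fin 2) F) : Matrix (Fin 2) (Fin 2) F) = 1 := by
    rw [← Units.val_mul, mul_inv_cancel, Units.val_one]
  obtain ⟨A, hA⟩ : ∃ A, A = (a : Matrix (Fin 2) (Fin 2) F) := ⟨_, rfl⟩
  obtain ⟨A', hA'⟩ : ∃ A', A' = ((a⁻¹ : GL (Fin 2) F) : Matrix (Fin 2) (Fin 2) F) := ⟨_, rfl⟩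
  rw [← hA, ← hA'] at e1 e2
  rw [← hA]
  have hM : (A * zeta * A') * (A * zeta * A') + A * zeta * A' + 1 = 0 := by
    have h1 : (A * zeta * A') * (A * zeta * A') = A * (zeta * zeta) * A' := by
      calc (A * zeta * A') * (A * zeta * A') = A * zeta * (A' * A) * zeta * A' := by
            simp only [mul_assoc]
        _ = A * (zeta * zeta) * A' := by rw [e1, mul_one]; simp only [mul_assoc]
    rw [h1]
    calc A * (zeta * zeta) * A' + A * zeta * A' + 1 = A * (zeta * zeta + zeta + 1) * A' := by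
          rw [mul_add, mul_add, add_mul, add_mul, mul_one, e2]
      _ = 0 := by rw [zeta_poly h2, mul_zero, zero_mul]
  have hMA : A * zeta * A' * A = A * zeta := by
    rw [mul_assoc, e1, mul_one]
  rcases eq_zeta_of_poly hq _ hM with h | h
  · left
    rw [← hMA, h]
  · right
    rw [← hMA, h]

end conj

section main

variable {n₂ : ℕ} (hq : ∀ y : F, y = 0 ∨ y = 1) (h2 : (2 : F) = 0) (k₀ k₁ : Fin n₂)

/-- `zeta ⊗ 1` -/
def zU : GL (Fin 2 × Fin n₂) F :=
  blkU k₀ zeta (zeta * zeta) zeta (zeta * zeta) (zeta_cube' h2) (zeta_cube h2) (zeta_cube' h2)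
    (zeta_cube h2)

/-- `zeta` on one block, the identity elsewhere -/
def gU : GL (Fin 2 × Fin n₂) F :=
  blkU k₀ zeta (zeta * zeta) 1 1 (zeta_cube' h2) (zeta_cube h2) (one_mul 1) (one_mul 1)

/-- `tau` on one block, the identity elsewhere -/
def hU : GL (Fin 2 × Fin n₂) F :=
  blkU k₀ tau tau 1 1 (tau_sq h2) (tau_sq h2) (one_mul 1) (one_mul 1)

theorem zU_val : ((zU h2 k₀ : GL (Fin 2 × Fin n₂) F) : Matrix (Fin 2 × Fin n₂) (Fin 2 × Fin n₂) F) =
    zeta ⊗ₖ (1 : Matrix (Fin n₂) (Fin n₂) F) := blk_same k₀ zeta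

theorem zU_mem_kron : zU h2 k₀ ∈ Cfsg.Geo.kroneckerSubgroup 2 n₂ F :=
  ⟨⟨zeta, zeta * zeta, zeta_cube' h2, zeta_cube h2⟩, 1, by rw [zU_val]; rfl⟩

theorem zpowers_le_kron : Subgroup.zpowers (zU h2 k₀) ≤ Cfsg.Geo.kroneckerSubgroup 2 n₂ F := by
  rw [Subgroup.zpowers_le]
  exact zU_mem_kron h2 k₀

include hq in
theorem kron_le_normalizer : Cfsg.Geo.kroneckerSubgroup 2 n₂ F ≤
    Subgroup.normalizer (Subgroup.zpowers (zU h2 k₀) : Set (GL (Fin 2 × Fin n₂) F)) := by
  rw [Subgroup.le_normalizer_iff]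
  rintro g ⟨a, b, hg⟩ x hx
  obtain ⟨k, rfl⟩ := Subgroup.mem_zpowers_iff.mp hx
  rw [← conj_zpow]
  apply Subgroup.zpow_mem
  rcases conj_zeta hq a with h | h
  · have : g * zU h2 k₀ * g⁻¹ = zU h2 k₀ := by
      rw [mul_inv_eq_iff_eq_mul]
      apply Units.ext
      rw [Units.val_mul, Units.val_mul, hg, zU_val, ← Matrix.mul_kronecker_mul,
        ← Matrix.mul_kronecker_mul, h, mul_one, one_mul]
    rw [this]
    exact Subgroup.mem_zpowers _
  · have : g * zU h2 k₀ * g⁻¹ = zU h2 k₀ * zU h2 k₀ := by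
      rw [mul_inv_eq_iff_eq_mul]
      apply Units.ext
      rw [Units.val_mul, Units.val_mul, Units.val_mul, hg, zU_val, ← Matrix.mul_kronecker_mul,
        ← Matrix.mul_kronecker_mul, ← Matrix.mul_kronecker_mul, h]
      simp only [mul_one, one_mul]
    rw [this]
    exact mul_mem (Subgroup.mem_zpowers _) (Subgroup.mem_zpowers _)

theorem gU_mem_normalizer : gU h2 k₀ ∈
    Subgroup.normalizer (Subgroup.zpowers (zU h2 k₀) : Set (GL (Fin 2 × Fin n₂) F)) := by
  have hcomm : Commute (gU h2 k₀) (zU h2 k₀) := by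
    apply Units.ext
    show blk k₀ zeta 1 * blk k₀ zeta zeta = blk k₀ zeta zeta * blk k₀ zeta 1
    rw [blk_mul, blk_mul, one_mul, mul_one]
  have hle : Subgroup.zpowers (gU h2 k₀) ≤
      Subgroup.normalizer (Subgroup.zpowers (zU h2 k₀) : Set (GL (Fin 2 × Fin n₂) F)) := by
    rw [Subgroup.le_normalizer_iff]
    intro h hh x hx
    obtain ⟨j, rfl⟩ := Subgroup.mem_zpowers_iff.mp hh
    obtain ⟨k, rfl⟩ := Subgroup.mem_zpowers_iff.mp hx
    have : Commute (gU h2 k₀ ^ j) (zU h2 k₀ ^ k) := (hcomm.zpow_left j).zpow_right k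
    rw [this.eq, mul_inv_cancel_right]
    exact Subgroup.zpow_mem_zpowers _ _
  exact hle (Subgroup.mem_zpowers _)

theorem gU_not_mem_kron (h01 : k₁ ≠ k₀) : gU h2 k₀ ∉ Cfsg.Geo.kroneckerSubgroup 2 n₂ F := by
  rintro ⟨a, b, hg⟩
  have := blk_kron k₀ (zeta : Matrix (Fin 2) (Fin 2) F) 1 k₁ h01 _ _ hg 0 1 0 0
  simp [zeta] at this

theorem hU_not_mem_normalizer (h01 : k₁ ≠ k₀) : hU h2 k₀ ∉
    Subgroup.normalizer (Subgroup.zpowers (zU h2 k₀) : Set (GL (Fin 2 × Fin n₂) F)) := by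
  intro hh
  have h1 := (Subgroup.mem_normalizer_iff.mp hh (zU h2 k₀)).mp (Subgroup.mem_zpowers _)
  obtain ⟨a, b, hg⟩ := zpowers_le_kron h2 k₀ h1
  have hval : ((hU h2 k₀ * zU h2 k₀ * (hU h2 k₀)⁻¹ : GL (Fin 2 × Fin n₂) F) :
      Matrix (Fin 2 × Fin n₂) (Fin 2 × Fin n₂) F) = blk k₀ (zeta * zeta) zeta := by
    show blk k₀ tau 1 * blk k₀ zeta zeta * blk k₀ tau 1 = _
    rw [blk_mul, blk_mul, tau_zeta_tau h2, one_mul, mul_one]
  rw [hval] at hg
  have := blk_kron k₀ (zeta * zeta : Matrix (Fin 2) (Fin 2) F) zeta k₁ h01 _ _ hg 0 0 0 1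
  rw [zeta_sq h2] at this
  simp [zeta] at this

include hq h2 in
/-- the Kronecker subgroup is not maximal -/
theorem exists_between (h01 : k₁ ≠ k₀) : ∃ K : Subgroup (GL (Fin 2 × Fin n₂) F),
    Cfsg.Geo.kroneckerSubgroup 2 n₂ F < K ∧ K < ⊤ := by
  refine ⟨Subgroup.normalizer (Subgroup.zpowers (zU h2 k₀) : Set (GL (Fin 2 × Fin n₂) F)), ?_, ?_⟩
  · rw [lt_iff_le_and_ne]
    refine ⟨kron_le_normalizer hq h2 k₀, fun heq => ?_⟩
    have := gU_mem_normalizer h2 k₀
    rw [← heq] at this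
    exact gU_not_mem_kron h2 k₀ k₁ h01 this
  · rw [lt_top_iff_ne_top]
    intro heq
    have : hU h2 k₀ ∈ Subgroup.normalizer
        (Subgroup.zpowers (zU h2 k₀) : Set (GL (Fin 2 × Fin n₂) F)) := by
      rw [heq]
      exact Subgroup.mem_top _
    exact hU_not_mem_normalizer h2 k₀ k₁ h01 this

end main

theorem all_zero_or_one [Fintype F] (hF : Fintype.card F = 2) : ∀ y : F, y = 0 ∨ y = 1 := by
  intro y
  by_contra h
  push Not at h
  have : 2 < Fintype.card F :=
    Fintype.two_lt_card_iff.mpr ⟨0, 1, y, zero_ne_one, Ne.symm h.1, Ne.symm h.2⟩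
  omega

/-- Over the field with 2 elements, for n = 2 n₂ ≥ 13, the stabiliser in SL_n of a tensor decomposition with factors of dimensions 2 and n₂ (the conjugate by any P of the Kronecker-product subgroup transported along any bijection Fin n ≃ Fin 2 × Fin n₂, intersected with SL_n) is not a maximal subgroup: some subgroup lies strictly between it and SL_n. -/
theorem result {F : Type*} [Field F] [Fintype F] (n : ℕ) (hn : 13 ≤ n) (hq : Fintype.card F = 2) (n₂ : ℕ) (e : Fin n ≃ Fin 2 × Fin n₂) (P : Matrix.GeneralLinearGroup (Fin n) F) : ∃ K : Subgroup (Matrix.GeneralLinearGroup (Fin n) F), Cfsg.Geo.tensorProductSubgroup 2 n₂ e P ⊓ Cfsg.Geo.specialLinear (Fin n) F < K ∧ K < Cfsg.Geo.specialLinear (Fin n) F := by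
  have hq' := all_zero_or_one hq
  have h2 := two_eq_zero hq'
  have hn₂ : n = 2 * n₂ := by
    have := Fintype.card_congr e
    simpa using this
  have hSL : Cfsg.Geo.specialLinear (Fin n) F = ⊤ := by
    rw [eq_top_iff]
    intro g _
    unfold Cfsg.Geo.specialLinear
    rw [MonoidHom.mem_ker]
    apply Units.ext
    rcases hq' ((Matrix.GeneralLinearGroup.det g : Fˣ) : F) with h | h
    · exact absurd h (Units.ne_zero _)
    · exact h
  rw [hSL, inf_top_eq]
  obtain ⟨Θ, hΘ⟩ : ∃ Θ : GL (Fin 2 × Fin n₂) F →* GL (Fin n) F,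
      Θ = (MulAut.conj P).toMonoidHom.comp (Cfsg.Geo.glReindex e.symm).toMonoidHom := ⟨_, rfl⟩
  have hΘinj : Function.Injective Θ := by
    rw [hΘ]
    exact (MulAut.conj P).injective.comp (Cfsg.Geo.glReindex e.symm).injective
  have hΘsurj : Function.Surjective Θ := by
    rw [hΘ]
    exact (MulAut.conj P).surjective.comp (Cfsg.Geo.glReindex e.symm).surjective
  have hT : Cfsg.Geo.tensorProductSubgroup 2 n₂ e P = (Cfsg.Geo.kroneckerSubgroup 2 n₂ F).map Θ := by
    unfold Cfsg.Geo.tensorProductSubgroup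
    rw [Subgroup.map_map, hΘ]
  obtain ⟨K₀, h1, h3⟩ := exists_between hq' h2 (⟨0, by omega⟩ : Fin n₂) (⟨1, by omega⟩ : Fin n₂)
    (by simp [Fin.ext_iff])
  refine ⟨K₀.map Θ, ?_, ?_⟩
  · rw [hT]
    exact (Subgroup.map_lt_map_iff_of_injective hΘinj).mpr h1
  · rw [← Subgroup.map_top_of_surjective Θ hΘsurj]
    exact (Subgroup.map_lt_map_iff_of_injective hΘinj).mpr h3

end Cfsg.Agent.S5638
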