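import Mathlib
import Cfsg.Agent.Lib.Helper28.OrthInSLMain
import Cfsg.Agent.Lib.Helper17.OmegaElts
set_option autoImplicit false
open Cfsg
namespace Cfsg.Agent.S5644
open Cfsg.Agent.Helper17.OmegaElts Cfsg.Agent.Helper28.OrthInSL

/-- For a finite field F of odd order and n ≥ 13, let Q be a non-degenerate quadratic form on F^n (its polar form is non-degenerate). Then the elements of SL_n(F) that are similarities of Q (Q(gv) = c Q(v) for a non-zero scalar c depending on g) form a maximal subgroup of SL_n(F). -/
theorem result {F : Type*} [Field F] [Fintype F] (n : ℕ) (hn : 13 ≤ n) (hodd : Odd (Fintype.card F)) (Q : (Fin n → F) → F) (hQ : Cfsg.Geo.IsNondegenerateQuadraticForm Q) : Cfsg.Geo.IsMaximalIn (Cfsg.Geo.specialLinear (Fin n) F) (Cfsg.Geo.quadSimilarityGroup Q ⊓ Cfsg.Geo.specialLinear (Fin n) F) := by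
  have h2 : (2 : F) ≠ 0 := by
    have hc : ringChar F ≠ 2 := by
      intro h
      have := FiniteField.even_card_of_char_two h
      have := Nat.odd_iff.1 hodd
      omega
    exact Ring.two_ne_zero hc
  have hQ' := toQF_nondeg Q hQ
  exact maximal_orth (Q := toQF Q hQ) h2 hQ' (by omega)

end Cfsg.Agent.S5644
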