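import Mathlib
import Cfsg.Agent.Lib.Helper28.SpImprim
import Cfsg.Agent.Lib.Helper28.OrthRoot
set_option autoImplicit false
open Cfsg
namespace Cfsg.Agent.S5647
open Cfsg.Agent.Helper28.OrthRoot Cfsg.Agent.Helper28.SpImprim
  Cfsg.Agent.Helper28.SpSingMax Cfsg.Agent.Helper2.Symp
open scoped Cfsg.Agent.Helper2.Symp

/-- For a finite field F with q elements and m ≥ 7, let D be a decomposition of F^(2m) into t ≥ 2 pairwise orthogonal subspaces of equal dimension k on each of which the standard alternating form is non-degenerate, spanning F^(2m). Unless k = 2 and q = 2, the elements of Sp_2m(F) permuting the members of D form a maximal subgroup of Sp_2m(F). -/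
theorem result {F : Type*} [Field F] [Fintype F] (m : ℕ) (hm : 7 ≤ m) {t : ℕ} (k : ℕ) (D : Fin t → Submodule F (Fin m ⊕ Fin m → F)) (hD : Cfsg.Geo.IsNondegenerateMDecomposition (Cfsg.sympForm m F) k D) (hex : ¬ (k = 2 ∧ Fintype.card F = 2)) : Cfsg.Geo.IsMaximalIn (Cfsg.spGL m F) (Cfsg.Geo.decompositionStabilizer D ⊓ Cfsg.spGL m F) := by
  classical
  have hinj : Function.Injective (toGLHom m F) := by
    intro a b hab
    apply Subtype.ext
    have := congrArg (fun x : GL (Fin m ⊕ Fin m) F =>
      (x : Matrix (Fin m ⊕ Fin m) (Fin m ⊕ Fin m) F)) hab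
    exact this
  have hrange : Cfsg.spGL m F = (⊤ : Subgroup (Matrix.symplecticGroup (Fin m) F)).map
      (toGLHom m F) := by
    ext x
    constructor
    · intro hx
      obtain ⟨g, rfl⟩ := exists_of_mem_spGL x hx
      exact ⟨g, Subgroup.mem_top _, rfl⟩
    · rintro ⟨g, -, rfl⟩
      exact toGLHom_mem_spGL g
  have h1 : Cfsg.Geo.decompositionStabilizer D ⊓ Cfsg.spGL m F = (HD D).map (toGLHom m F) := by
    rw [hrange, inf_map_eq _ hinj]
    unfold HD
    rw [inf_top_eq]
  rw [h1, hrange]
  apply maximal_map _ hinj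
  refine ⟨lt_of_le_of_ne le_top (hd_ne_top hD), ?_⟩
  intro M hHM _
  by_cases hM : M = HD D
  · left; exact hM
  · right; exact imprim_top hD hex M hHM hM

end Cfsg.Agent.S5647
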