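import Mathlib
import Cfsg.Agent.Lib.Helper28.SpSingMax
set_option autoImplicit false
open Cfsg
namespace Cfsg.Agent.S5648
open Cfsg.Agent.Helper2.Symp Cfsg.Agent.Helper28.SpSingMax
open scoped Cfsg.Agent.Helper2.Symp
open scoped Classical

variable {F : Type*} [Field F] {m t : ℕ}

/-- the `i`-th member of the decomposition is not orthogonal to `v` -/
def Hit (D : Fin t → Submodule F (Fin m ⊕ Fin m → F)) (i : Fin t) (v : Fin m ⊕ Fin m → F) : Prop :=
  ∃ d ∈ D i, Bf d v ≠ 0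

/-- the quadratic form counting the members not orthogonal to `v` -/
noncomputable def Qf (D : Fin t → Submodule F (Fin m ⊕ Fin m → F)) (v : Fin m ⊕ Fin m → F) : F :=
  ∑ i, if Hit D i v then 1 else 0

/-- the isometry group of `Qf` inside the symplectic group -/
noncomputable def KK (D : Fin t → Submodule F (Fin m ⊕ Fin m → F)) :
    Subgroup (Matrix.GeneralLinearGroup (Fin m ⊕ Fin m) F) where
  carrier := {g | g ∈ Cfsg.spGL m F ∧
    ∀ v, Qf D ((g : Matrix (Fin m ⊕ Fin m) (Fin m ⊕ Fin m) F).mulVec v) = Qf D v}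
  mul_mem' {a b} ha hb := by
    refine ⟨mul_mem ha.1 hb.1, fun v => ?_⟩
    rw [Units.val_mul, ← Matrix.mulVec_mulVec, ha.2, hb.2]
  one_mem' := ⟨one_mem _, fun v => by rw [Units.val_one, Matrix.one_mulVec]⟩
  inv_mem' {a} ha := by
    refine ⟨inv_mem ha.1, fun v => ?_⟩
    have := ha.2 (((a⁻¹ : Matrix.GeneralLinearGroup (Fin m ⊕ Fin m) F) :
      Matrix (Fin m ⊕ Fin m) (Fin m ⊕ Fin m) F).mulVec v)
    rw [Matrix.mulVec_mulVec, ← Units.val_mul, mul_inv_cancel, Units.val_one,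
      Matrix.one_mulVec] at this
    exact this.symm

section

variable (D : Fin t → Submodule F (Fin m ⊕ Fin m → F))
  (hD : Cfsg.Geo.IsNondegenerateMDecomposition (Cfsg.sympForm m F) 2 D)

include hD in
theorem orth (i j : Fin t) (hij : i ≠ j) (d e : Fin m ⊕ Fin m → F) (hd : d ∈ D i) (he : e ∈ D j) :
    Bf d e = 0 := hD.orthogonal i j hij d hd e he

include hD in
theorem exists_comp (x : Fin m ⊕ Fin m → F) :
    ∃ μ : ∀ i, D i, (∑ i, (μ i : Fin m ⊕ Fin m → F)) = x := by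
  have h : x ∈ ⨆ i ∈ (Finset.univ : Finset (Fin t)), D i := by
    have : (⨆ i ∈ (Finset.univ : Finset (Fin t)), D i) = ⨆ i, D i := by simp
    rw [this, hD.decomp.iSup_eq_top]
    exact Submodule.mem_top
  exact (Submodule.mem_iSup_finset_iff_exists_sum D x).mp h

theorem Bf_sum_right (d : Fin m ⊕ Fin m → F) (s : Finset (Fin t))
    (f : Fin t → (Fin m ⊕ Fin m → F)) : Bf d (∑ i ∈ s, f i) = ∑ i ∈ s, Bf d (f i) := by
  induction s using Finset.induction_on with
  | empty => simp [Bf_zero_right]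
  | insert a s ha ih => rw [Finset.sum_insert ha, Finset.sum_insert ha, Bf_add_right, ih]

theorem Bf_sum_left (d : Fin m ⊕ Fin m → F) (s : Finset (Fin t))
    (f : Fin t → (Fin m ⊕ Fin m → F)) : Bf (∑ i ∈ s, f i) d = ∑ i ∈ s, Bf (f i) d := by
  induction s using Finset.induction_on with
  | empty => simp [Bf_zero_left]
  | insert a s ha ih => rw [Finset.sum_insert ha, Finset.sum_insert ha, Bf_add_left, ih]

include hD in
theorem Bf_comp (μ : ∀ i, D i) (i : Fin t) (d : Fin m ⊕ Fin m → F) (hd : d ∈ D i) :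
    Bf d (∑ j, (μ j : Fin m ⊕ Fin m → F)) = Bf d (μ i) := by
  rw [Bf_sum_right, Finset.sum_eq_single i]
  · intro j _ hji
    exact orth D hD i j (Ne.symm hji) d (μ j) hd (μ j).2
  · intro h; exact absurd (Finset.mem_univ _) h

include hD in
theorem hit_iff (μ : ∀ i, D i) (i : Fin t) :
    Hit D i (∑ j, (μ j : Fin m ⊕ Fin m → F)) ↔ (μ i : Fin m ⊕ Fin m → F) ≠ 0 := by
  constructor
  · rintro ⟨d, hd, hne⟩ h0
    rw [Bf_comp D hD μ i d hd, h0, Bf_zero_right] at hne
    exact hne rfl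
  · intro hne
    obtain ⟨d, hd, hdne⟩ := (hD.nondegenerate i (μ i) (μ i).2 hne).1
    exact ⟨d, hd, by rw [Bf_comp D hD μ i d hd]; exact hdne⟩

end

section two

variable (hq : ∀ x : F, x ≠ 0 → x = 1)
  (D : Fin t → Submodule F (Fin m ⊕ Fin m → F))
  (hD : Cfsg.Geo.IsNondegenerateMDecomposition (Cfsg.sympForm m F) 2 D)

include hq in
theorem one_add_one : (1 : F) + 1 = 0 := by
  by_contra h
  have h1 := hq _ h
  have : (1 : F) = 0 := by linear_combination h1
  exact one_ne_zero this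

include hq hD in
/-- two distinct non-zero vectors of a member are not orthogonal -/
theorem Bf_ne_zero_of_ne (i : Fin t) (u w : Fin m ⊕ Fin m → F) (hu : u ∈ D i) (hw : w ∈ D i)
    (hu0 : u ≠ 0) (hw0 : w ≠ 0) (huw : u + w ≠ 0) : Bf u w ≠ 0 := by
  intro h0
  have h2 := one_add_one hq
  have hli : LinearIndependent F ![u, w] := by
    rw [LinearIndependent.pair_iff]
    intro a b hab
    by_cases ha : a = 0
    · by_cases hb : b = 0
      · exact ⟨ha, hb⟩
      · rw [ha, zero_smul, zero_add, hq b hb, one_smul] at hab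
        exact absurd hab hw0
    · by_cases hb : b = 0
      · rw [hb, zero_smul, add_zero, hq a ha, one_smul] at hab
        exact absurd hab hu0
      · rw [hq a ha, hq b hb, one_smul, one_smul] at hab
        exact absurd hab huw
  have hspan : Submodule.span F (Set.range ![u, w]) = D i := by
    apply Submodule.eq_of_le_of_finrank_eq
    · rw [Submodule.span_le]
      rintro _ ⟨k, rfl⟩
      fin_cases k
      · exact hu
      · exact hw
    · rw [finrank_span_eq_card hli, Fintype.card_fin, hD.decomp.finrank_eq i]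
  obtain ⟨d, hd, hdu⟩ := (hD.nondegenerate i u hu hu0).1
  rw [← hspan, Matrix.range_cons_cons_empty, Submodule.mem_span_pair] at hd
  obtain ⟨a, b, rfl⟩ := hd
  apply hdu
  show Bf (a • u + b • w) u = 0
  rw [Bf_add_left, Bf_smul_left, Bf_smul_left, Bf_self, Bf_skew w u, h0]
  ring

include hq hD in
/-- the polar identity for `Qf` -/
theorem Qf_add (x y : Fin m ⊕ Fin m → F) : Qf D (x + y) = Qf D x + Qf D y + Bf x y := by
  have h2 := one_add_one hq
  obtain ⟨μ, rfl⟩ := exists_comp D hD x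
  obtain ⟨ν, rfl⟩ := exists_comp D hD y
  have hB : Bf (∑ i, (μ i : Fin m ⊕ Fin m → F)) (∑ i, (ν i : Fin m ⊕ Fin m → F)) =
      ∑ i, Bf (μ i : Fin m ⊕ Fin m → F) (ν i) := by
    rw [Bf_sum_left]
    apply Finset.sum_congr rfl
    intro i _
    exact Bf_comp D hD ν i (μ i) (μ i).2
  have hsum : (∑ i, (μ i : Fin m ⊕ Fin m → F)) + (∑ i, (ν i : Fin m ⊕ Fin m → F)) =
      ∑ i, ((μ i + ν i : D i) : Fin m ⊕ Fin m → F) := by
    rw [← Finset.sum_add_distrib]
    rfl
  rw [hB, hsum]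
  unfold Qf
  rw [← Finset.sum_add_distrib, ← Finset.sum_add_distrib]
  apply Finset.sum_congr rfl
  intro i _
  rw [if_congr (hit_iff D hD (fun i => μ i + ν i) i) rfl rfl,
    if_congr (hit_iff D hD μ i) rfl rfl, if_congr (hit_iff D hD ν i) rfl rfl]
  show (if ((μ i : Fin m ⊕ Fin m → F) + (ν i : Fin m ⊕ Fin m → F)) ≠ 0 then (1 : F) else 0) = _
  by_cases hu : (μ i : Fin m ⊕ Fin m → F) = 0
  · rw [hu, zero_add, Bf_zero_left, if_neg (not_not.mpr rfl), zero_add, add_zero]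
  by_cases hw : (ν i : Fin m ⊕ Fin m → F) = 0
  · rw [hw, add_zero, Bf_zero_right, if_neg (not_not.mpr rfl), add_zero, add_zero]
  rw [if_pos hu, if_pos hw]
  by_cases huw : (μ i : Fin m ⊕ Fin m → F) + (ν i : Fin m ⊕ Fin m → F) = 0
  · rw [if_neg (not_not.mpr huw)]
    have : (ν i : Fin m ⊕ Fin m → F) = -(μ i : Fin m ⊕ Fin m → F) := by
      rw [eq_neg_iff_add_eq_zero, add_comm]; exact huw
    rw [this, Bf_neg_right, Bf_self, neg_zero, add_zero, h2]
  · rw [if_pos huw]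
    have := Bf_ne_zero_of_ne hq D hD i _ _ (μ i).2 (ν i).2 hu hw huw
    rw [hq _ this, h2, zero_add]

include hD in
/-- `Qf` of a non-zero vector of a member is one -/
theorem Qf_mem (i : Fin t) (a : Fin m ⊕ Fin m → F) (ha : a ∈ D i) (ha0 : a ≠ 0) : Qf D a = 1 := by
  unfold Qf
  rw [Finset.sum_eq_single i]
  · rw [if_pos]
    obtain ⟨d, hd, hdne⟩ := (hD.nondegenerate i a ha ha0).1
    exact ⟨d, hd, hdne⟩
  · intro j _ hji
    rw [if_neg]
    rintro ⟨d, hd, hdne⟩
    exact hdne (orth D hD j i hji d a hd ha)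
  · intro h; exact absurd (Finset.mem_univ _) h

end two

section main

variable [Fintype F]

theorem card_two (hq : Fintype.card F = 2) : ∀ x : F, x ≠ 0 → x = 1 := by
  intro x hx
  by_contra h1
  have : 2 < Fintype.card F :=
    Fintype.two_lt_card_iff.mpr ⟨0, 1, x, zero_ne_one, Ne.symm hx, Ne.symm h1⟩
  omega

variable (D : Fin t → Submodule F (Fin m ⊕ Fin m → F))
  (hD : Cfsg.Geo.IsNondegenerateMDecomposition (Cfsg.sympForm m F) 2 D)

omit [Fintype F] in
include hD in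
theorem le_count : m ≤ t := by
  have h1 : Module.finrank F (Fin m ⊕ Fin m → F) = m + m := by
    rw [Module.finrank_fintype_fun_eq_card, Fintype.card_sum, Fintype.card_fin]
  let L : (∀ i, D i) →ₗ[F] (Fin m ⊕ Fin m → F) := ∑ i, (D i).subtype ∘ₗ LinearMap.proj i
  have hL : Function.Surjective L := by
    intro x
    obtain ⟨μ, hμ⟩ := exists_comp D hD x
    refine ⟨μ, ?_⟩
    rw [← hμ]
    simp [L]
  have h2 := LinearMap.finrank_range_add_finrank_ker L
  rw [LinearMap.range_eq_top.mpr hL, finrank_top, h1, Module.finrank_pi_fintype] at h2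
  simp only [hD.decomp.finrank_eq] at h2
  simp at h2
  omega

omit [Fintype F] in
include hD in
theorem exists_ne_zero (i : Fin t) : ∃ a ∈ D i, a ≠ 0 := by
  have h : D i ≠ ⊥ := by
    rw [← Submodule.one_le_finrank_iff, hD.decomp.finrank_eq i]
    norm_num
  exact Submodule.exists_mem_ne_zero_of_ne_bot h

omit [Fintype F] in
theorem stab_le_KK : Cfsg.Geo.decompositionStabilizer D ⊓ Cfsg.spGL m F ≤ KK D := by
  rintro g ⟨⟨σ, hσ⟩, hg⟩
  have hg' : ∀ u v, Bf ((g : Matrix (Fin m ⊕ Fin m) (Fin m ⊕ Fin m) F).mulVec u)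
      ((g : Matrix (Fin m ⊕ Fin m) (Fin m ⊕ Fin m) F).mulVec v) = Bf u v := hg
  refine ⟨hg, fun v => ?_⟩
  unfold Qf
  rw [← Equiv.sum_comp σ]
  apply Finset.sum_congr rfl
  intro i _
  apply if_congr _ rfl rfl
  constructor
  · rintro ⟨d, hd, hne⟩
    rw [← hσ i] at hd
    obtain ⟨d', hd', rfl⟩ := hd
    refine ⟨d', hd', ?_⟩
    rw [Matrix.toLin'_apply, hg'] at hne
    exact hne
  · rintro ⟨d, hd, hne⟩
    refine ⟨(g : Matrix (Fin m ⊕ Fin m) (Fin m ⊕ Fin m) F).mulVec d, ?_, ?_⟩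
    · rw [← hσ i]
      exact ⟨d, hd, Matrix.toLin'_apply _ _⟩
    · rw [hg']
      exact hne

end main

section final

variable (hq : ∀ x : F, x ≠ 0 → x = 1)
  (D : Fin t → Submodule F (Fin m ⊕ Fin m → F))
  (hD : Cfsg.Geo.IsNondegenerateMDecomposition (Cfsg.sympForm m F) 2 D)

theorem toGL_mulVec (x v : Fin m ⊕ Fin m → F) :
    ((toGLHom m F (tv x 1) : GL (Fin m ⊕ Fin m) F) :
      Matrix (Fin m ⊕ Fin m) (Fin m ⊕ Fin m) F).mulVec v = v + (Bf v x) • x := by
  rw [toGLHom_val, ← smul_def, tv_smul, one_mul]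

include hq hD in
/-- the transvection along a vector of `Qf`-value one preserves `Qf` -/
theorem tv_mem_KK (x : Fin m ⊕ Fin m → F) (hx : Qf D x = 1) : toGLHom m F (tv x 1) ∈ KK D := by
  have h2 := one_add_one hq
  refine ⟨toGLHom_mem_spGL _, fun v => ?_⟩
  rw [toGL_mulVec]
  by_cases h0 : Bf v x = 0
  · rw [h0, zero_smul, add_zero]
  · rw [hq _ h0, one_smul, Qf_add hq D hD, hx, hq _ h0]
    linear_combination (Qf D v) * 0 + h2

end final

/-- Over the field with 2 elements and for m ≥ 7, let D be a decomposition of F^(2m) into t pairwise orthogonal non-degenerate 2-dimensional subspaces for the standard alternating form (t = m ≥ 2). Then the elements of Sp_2m(2) permuting the members of D form a subgroup that is not maximal: some subgroup lies strictly between it and Sp_2m(2). -/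
theorem result {F : Type*} [Field F] [Fintype F] (m : ℕ) (hm : 7 ≤ m) (hq : Fintype.card F = 2) {t : ℕ} (D : Fin t → Submodule F (Fin m ⊕ Fin m → F)) (hD : Cfsg.Geo.IsNondegenerateMDecomposition (Cfsg.sympForm m F) 2 D) : ∃ K : Subgroup (Matrix.GeneralLinearGroup (Fin m ⊕ Fin m) F), Cfsg.Geo.decompositionStabilizer D ⊓ Cfsg.spGL m F < K ∧ K < Cfsg.spGL m F := by
  have hq' := card_two hq
  have h2 := one_add_one hq'
  have ht : m ≤ t := le_count D hD
  obtain ⟨i₀, hi₀⟩ : ∃ i : Fin t, i = ⟨0, by omega⟩ := ⟨_, rfl⟩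
  obtain ⟨i₁, hi₁⟩ : ∃ i : Fin t, i = ⟨1, by omega⟩ := ⟨_, rfl⟩
  obtain ⟨i₂, hi₂⟩ : ∃ i : Fin t, i = ⟨2, by omega⟩ := ⟨_, rfl⟩
  have h01 : i₀ ≠ i₁ := by rw [hi₀, hi₁]; simp [Fin.ext_iff]
  have h02 : i₀ ≠ i₂ := by rw [hi₀, hi₂]; simp [Fin.ext_iff]
  have h12 : i₁ ≠ i₂ := by rw [hi₁, hi₂]; simp [Fin.ext_iff]
  obtain ⟨a, ha, ha0⟩ := exists_ne_zero D hD i₀
  obtain ⟨b, hb, hb0⟩ := exists_ne_zero D hD i₁
  obtain ⟨c, hc, hc0⟩ := exists_ne_zero D hD i₂
  obtain ⟨a', ha', haa⟩ := (hD.nondegenerate i₀ a ha ha0).1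
  have haa' : Bf a' a = 1 := hq' _ haa
  have hab : Bf a b = 0 := orth D hD i₀ i₁ h01 a b ha hb
  have hac : Bf a c = 0 := orth D hD i₀ i₂ h02 a c ha hc
  have hbc : Bf b c = 0 := orth D hD i₁ i₂ h12 b c hb hc
  have ha'b : Bf a' b = 0 := orth D hD i₀ i₁ h01 a' b ha' hb
  have ha'c : Bf a' c = 0 := orth D hD i₀ i₂ h02 a' c ha' hc
  have hQab : Qf D (a + b) = 0 := by
    rw [Qf_add hq' D hD, Qf_mem D hD i₀ a ha ha0, Qf_mem D hD i₁ b hb hb0, hab, add_zero, h2]
  have hQabc : Qf D (a + b + c) = 1 := by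
    rw [Qf_add hq' D hD, hQab, Qf_mem D hD i₂ c hc hc0, Bf_add_left, hac, hbc]
    ring
  refine ⟨KK D, ?_, ?_⟩
  · rw [lt_iff_le_and_ne]
    refine ⟨stab_le_KK D, fun heq => ?_⟩
    have hg : toGLHom m F (tv (a + b + c) 1) ∈ KK D := tv_mem_KK hq' D hD _ hQabc
    rw [← heq] at hg
    obtain ⟨⟨σ, hσ⟩, -⟩ := hg
    have hw : a' + (a + b + c) ∈ D (σ i₀) := by
      rw [← hσ i₀]
      refine ⟨a', ha', ?_⟩
      rw [Matrix.toLin'_apply, toGL_mulVec, Bf_add_right, Bf_add_right, haa', ha'b, ha'c,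
        add_zero, add_zero, one_smul]
    obtain ⟨d₁, hd₁, hd₁b⟩ := (hD.nondegenerate i₁ b hb hb0).1
    obtain ⟨d₂, hd₂, hd₂c⟩ := (hD.nondegenerate i₂ c hc hc0).1
    have e1 : σ i₀ = i₁ := by
      by_contra hne
      have h := orth D hD i₁ (σ i₀) (Ne.symm hne) d₁ _ hd₁ hw
      rw [Bf_add_right, Bf_add_right, Bf_add_right, orth D hD i₁ i₀ h01.symm d₁ a' hd₁ ha',
        orth D hD i₁ i₀ h01.symm d₁ a hd₁ ha, orth D hD i₁ i₂ h12 d₁ c hd₁ hc, zero_add,
        zero_add, add_zero] at h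
      exact hd₁b h
    have e2 : σ i₀ = i₂ := by
      by_contra hne
      have h := orth D hD i₂ (σ i₀) (Ne.symm hne) d₂ _ hd₂ hw
      rw [Bf_add_right, Bf_add_right, Bf_add_right, orth D hD i₂ i₀ h02.symm d₂ a' hd₂ ha',
        orth D hD i₂ i₀ h02.symm d₂ a hd₂ ha, orth D hD i₂ i₁ h12.symm d₂ b hd₂ hb, zero_add,
        zero_add, zero_add] at h
      exact hd₂c h
    exact h12 (e1.symm.trans e2)
  · rw [lt_iff_le_and_ne]
    refine ⟨fun g hg => hg.1, fun heq => ?_⟩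
    have hg : toGLHom m F (tv (a + b) 1) ∈ KK D := by
      rw [heq]
      exact toGLHom_mem_spGL _
    have h := hg.2 a'
    rw [toGL_mulVec, Bf_add_right, haa', ha'b, add_zero, one_smul, Qf_add hq' D hD, hQab,
      Bf_add_right, haa', ha'b] at h
    have : (1 : F) = 0 := by linear_combination h
    exact one_ne_zero this

end Cfsg.Agent.S5648
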