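import Mathlib
import Cfsg.Agent.Lib.Helper28.SpTsPair
set_option autoImplicit false
open Cfsg
namespace Cfsg.Agent.S5649
open Cfsg.Agent.Helper28.SpTsPair

/-- For a finite field F of odd order and m ≥ 7, let D be a decomposition of F^(2m) into two complementary subspaces of dimension m on each of which the standard alternating form vanishes identically. Then the elements of Sp_2m(F) preserving or interchanging the two subspaces form a maximal subgroup of Sp_2m(F). -/
theorem result {F : Type*} [Field F] [Fintype F] (m : ℕ) (hm : 7 ≤ m) (hodd : Odd (Fintype.card F)) (D : Fin 2 → Submodule F (Fin m ⊕ Fin m → F)) (hD : Cfsg.Geo.IsMDecomposition m D) (hts : ∀ i, Cfsg.Geo.IsTotallySingularFor (Cfsg.sympForm m F) (D i)) : Cfsg.Geo.IsMaximalIn (Cfsg.spGL m F) (Cfsg.Geo.decompositionStabilizer D ⊓ Cfsg.spGL m F) := by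
  classical
  have h2 : (2 : F) ≠ 0 := by
    have hc : ringChar F ≠ 2 := by
      intro h
      have := FiniteField.even_card_of_char_two h
      have := Nat.odd_iff.1 hodd
      omega
    exact Ring.two_ne_zero hc
  have hdec : ∀ v : Fin m ⊕ Fin m → F, ∃ w ∈ D 0, ∃ u ∈ D 1, v = w + u := by
    intro v
    have hle : iSup D ≤ D 0 ⊔ D 1 := by
      apply iSup_le
      intro i
      fin_cases i
      · exact le_sup_left
      · exact le_sup_right
    have hv : v ∈ D 0 ⊔ D 1 := by
      apply hle
      rw [hD.iSup_eq_top]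
      exact Submodule.mem_top
    obtain ⟨w, hw, u, hu, hwu⟩ := Submodule.mem_sup.mp hv
    exact ⟨w, hw, u, hu, hwu.symm⟩
  have hf0 := hD.finrank_eq 0
  have hf1 := hD.finrank_eq 1
  exact maximal_pair D h2 (hts 0) (hts 1) hdec (by omega) (by rw [hf0, hf1])

end Cfsg.Agent.S5649
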