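import Mathlib
import Cfsg.Agent.Lib.Helper28.OrthInSp
set_option autoImplicit false
open Cfsg
namespace Cfsg.Agent.S5652
open Cfsg.Agent.Helper28.OrthRoot Cfsg.Agent.Helper17.OmegaElts Cfsg.Agent.Helper28.OrthInSp
  Cfsg.Agent.Helper28.SpSingMax Cfsg.Agent.Helper2.Symp
open scoped Cfsg.Agent.Helper2.Symp

/-- For a finite field F of characteristic two and m ≥ 7, let Q be a non-degenerate quadratic form on F^(2m) whose polar form is the standard alternating form. Then the elements of Sp_2m(F) that are similarities of Q (they are exactly the isometries of Q) form a maximal subgroup of Sp_2m(F). -/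
theorem result {F : Type*} [Field F] [Fintype F] (m : ℕ) (hm : 7 ≤ m) (heven : ¬ Odd (Fintype.card F)) (Q : (Fin m ⊕ Fin m → F) → F) (hQ : Cfsg.Geo.IsNondegenerateQuadraticForm Q) (hpol : ∀ u v, QuadraticMap.polar Q u v = Cfsg.sympForm m F u v) : Cfsg.Geo.IsMaximalIn (Cfsg.spGL m F) (Cfsg.Geo.quadSimilarityGroup Q ⊓ Cfsg.spGL m F) := by
  classical
  have hQ' := toQF_nondeg Q hQ
  have h2 : (2 : F) = 0 := by
    by_contra h
    apply heven
    rw [Nat.odd_iff]
    apply FiniteField.odd_card_of_char_ne_two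
    intro hc
    apply h
    have : CharP F 2 := by
      rw [← hc]
      exact ringChar.charP F
    exact_mod_cast CharP.cast_eq_zero F 2
  have hpol' : ∀ u v, QuadraticMap.polar (toQF Q hQ) u v = Bf u v := hpol
  have hinj : Function.Injective (toGLHom m F) := by
    intro a b hab
    apply Subtype.ext
    have := congrArg (fun x : GL (Fin m ⊕ Fin m) F =>
      (x : Matrix (Fin m ⊕ Fin m) (Fin m ⊕ Fin m) F)) hab
    exact this
  have hrange : Cfsg.spGL m F = (⊤ : Subgroup (Matrix.symplecticGroup (Fin m) F)).map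
      (toGLHom m F) := by
    ext x
    constructor
    · intro hx
      obtain ⟨g, rfl⟩ := exists_of_mem_spGL x hx
      exact ⟨g, Subgroup.mem_top _, rfl⟩
    · rintro ⟨g, -, rfl⟩
      exact toGLHom_mem_spGL g
  have hcomap : (Cfsg.Geo.quadSimilarityGroup Q).comap (toGLHom m F) ⊓ ⊤ = OQ (toQF Q hQ) := by
    ext g
    rw [inf_top_eq, Subgroup.mem_comap, mem_OQ_iff]
    constructor
    · rintro ⟨c, hc⟩
      have hc' : ∀ v, Q (g • v) = (c : F) * Q v := hc
      have hc1 : (c : F) = 1 := by
        have i0 : Fin m := ⟨0, by omega⟩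
        have e1 := Bf_smul_smul g (fV i0 : Fin m ⊕ Fin m → F) (eV i0)
        have hpolB : ∀ u v : Fin m ⊕ Fin m → F, Bf u v = QuadraticMap.polar Q u v :=
          fun u v => (hpol u v).symm
        rw [hpolB, hpolB] at e1
        unfold QuadraticMap.polar at e1
        rw [← smul_add, hc', hc', hc'] at e1
        have e2 : QuadraticMap.polar Q (fV i0 : Fin m ⊕ Fin m → F) (eV i0) = 1 := by
          rw [hpol]; exact Bf_fV_eV i0
        unfold QuadraticMap.polar at e2
        have e3 : (c : F) * (Q ((fV i0 : Fin m ⊕ Fin m → F) + eV i0) - Q (fV i0) - Q (eV i0)) =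
            Q ((fV i0 : Fin m ⊕ Fin m → F) + eV i0) - Q (fV i0) - Q (eV i0) := by
          linear_combination e1
        rw [e2, mul_one] at e3
        exact e3
      intro v
      show Q (g • v) = Q v
      rw [hc', hc1, one_mul]
    · intro h
      refine ⟨1, fun v => ?_⟩
      rw [Units.val_one, one_mul]
      exact h v
  have h1 : Cfsg.Geo.quadSimilarityGroup Q ⊓ Cfsg.spGL m F =
      (OQ (toQF Q hQ)).map (toGLHom m F) := by
    rw [hrange, inf_map_eq _ hinj, hcomap]
  rw [h1, hrange]
  apply maximal_map _ hinj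
  refine ⟨lt_of_le_of_ne le_top (oq_ne_top (toQF Q hQ) hpol' h2 hQ' (by omega)), ?_⟩
  intro M hOM _
  by_cases hM : M = OQ (toQF Q hQ)
  · left; exact hM
  · right; exact oq_top (toQF Q hQ) hpol' h2 hQ' (by omega) M hOM hM

end Cfsg.Agent.S5652
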