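import Mathlib
import Cfsg.Agent.Lib.Helper28.SuSingMax
set_option autoImplicit false
open Cfsg
namespace Cfsg.Agent.S5653
open Cfsg.Agent.Helper11.Herm Cfsg.Agent.Helper28.SuSingMax

/-- Let F be the field with q² elements and n ≥ 13, and let SU_n(q) be the group of matrices of determinant one preserving the standard unitary form Σ u_i v_i^q on F^n (the intersection of the unitary group GU_n with the kernel of the determinant). The elements of SU_n(q) stabilising a non-zero subspace on which the form vanishes identically form a maximal subgroup of SU_n(q). -/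
theorem result {F : Type*} [Field F] [Fintype F] (n q : ℕ) (hF : Fintype.card F = q ^ 2) (hn : 13 ≤ n) (W : Submodule F (Fin n → F)) (hW0 : W ≠ ⊥) (hW : Cfsg.Geo.IsTotallySingularFor (Cfsg.hermForm n F q) W) : Cfsg.Geo.IsMaximalIn (Cfsg.GU n F q ⊓ Cfsg.Geo.specialLinear (Fin n) F) (Cfsg.Geo.subspaceStabilizer W ⊓ (Cfsg.GU n F q ⊓ Cfsg.Geo.specialLinear (Fin n) F)) := by
  obtain ⟨φ, hφ⟩ := exists_frob hF
  have hφφ := frob_frob hF φ hφ
  have hN1 := frob_norm_surj hF φ hφ
  have hφid := frob_ne_id hF φ hφ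
  rw [GU_eq_UG φ hφ n]
  have hW' : ∀ u ∈ W, ∀ v ∈ W, hdot φ u v = 0 := by
    intro u hu v hv
    rw [← hermForm_eq_hdot φ hφ]
    exact hW u hu v hv
  exact maximal_aux φ hφid hφφ hN1 (by omega) W hW' hW0

end Cfsg.Agent.S5653
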