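import Mathlib
import Cfsg.Agent.Lib.Helper28.SuNondegMax
set_option autoImplicit false
open Cfsg
namespace Cfsg.Agent.S5654
open Cfsg.Agent.Helper11.Herm Cfsg.Agent.Helper28.SuNondegMax

/-- Let F be the field with q² elements and n ≥ 13. In SU_n(q) (determinant-one isometries of the standard unitary form on F^n) the stabiliser of a non-zero subspace W on which the form is non-degenerate and with 2 dim W < n is a maximal subgroup. -/
theorem result {F : Type*} [Field F] [Fintype F] (n q : ℕ) (hF : Fintype.card F = q ^ 2) (hn : 13 ≤ n) (W : Submodule F (Fin n → F)) (hW0 : W ≠ ⊥) (hW : Cfsg.Geo.IsNondegenerateOn (Cfsg.hermForm n F q) W) (hdim : 2 * Module.finrank F W < n) : Cfsg.Geo.IsMaximalIn (Cfsg.GU n F q ⊓ Cfsg.Geo.specialLinear (Fin n) F) (Cfsg.Geo.subspaceStabilizer W ⊓ (Cfsg.GU n F q ⊓ Cfsg.Geo.specialLinear (Fin n) F)) := by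
  obtain ⟨φ, hφ⟩ := exists_frob hF
  have hφφ := frob_frob hF φ hφ
  have hN1 := frob_norm_surj hF φ hφ
  have hN2 := frob_trace_ne_zero hF φ hφ
  have hφid := frob_ne_id hF φ hφ
  rw [GU_eq_UG φ hφ n]
  have hW' : ∀ u ∈ W, (∀ v ∈ W, hdot φ u v = 0) → u = 0 := by
    intro u hu hall
    by_contra hne
    obtain ⟨x, hx, hxu⟩ := (hW u hu hne).2
    rw [hermForm_eq_hdot φ hφ] at hxu
    exact hxu (hall x hx)
  exact maximal_nondeg φ hφid hφφ hN1 hN2 (by omega) W hW0 hW' hdim

end Cfsg.Agent.S5654
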