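import Mathlib
import Cfsg.Agent.Lib.Helper28.SuGen
set_option autoImplicit false
open Cfsg
namespace Cfsg.Agent.S5656
open Cfsg.Agent.Helper11.Herm Cfsg.Agent.Helper28.SuGen Matrix

variable {F : Type*} [Field F] {n t : ℕ} (φ : F →+* F)

/-- the non-isotropic vectors lying in a member of the decomposition -/
def EE (D : Fin t → Submodule F (Fin n → F)) : Set (Fin n → F) :=
  {v | (∃ i, v ∈ D i) ∧ hdot φ v v ≠ 0}

/-- the stabiliser of `EE` in the special unitary group -/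
def KK (D : Fin t → Submodule F (Fin n → F)) : Subgroup (GL (Fin n) F) where
  carrier := {g | g ∈ Cfsg.Agent.Helper28.SuGen.SUg (Fin n) φ ∧
    ∀ v, ((g : Matrix (Fin n) (Fin n) F) *ᵥ v ∈ EE φ D ↔ v ∈ EE φ D)}
  mul_mem' {a b} ha hb :=
    ⟨mul_mem ha.1 hb.1, fun v => by rw [Units.val_mul, ← Matrix.mulVec_mulVec, ha.2, hb.2]⟩
  one_mem' := ⟨one_mem _, fun v => by rw [Units.val_one, Matrix.one_mulVec]⟩
  inv_mem' {a} ha := ⟨inv_mem ha.1, fun v => by rw [← ha.2, inv_mulVec_mulVec]⟩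

theorem mem_span_pair_of_finrank (W : Submodule F (Fin n → F)) (hW : Module.finrank F W = 2)
    (u w : Fin n → F) (hu : u ∈ W) (hw : w ∈ W) (hli : LinearIndependent F ![u, w])
    (x : Fin n → F) (hx : x ∈ W) : ∃ a b : F, a • u + b • w = x := by
  have hspan : Submodule.span F (Set.range ![u, w]) = W := by
    apply Submodule.eq_of_le_of_finrank_eq
    · rw [Submodule.span_le]
      rintro _ ⟨k, rfl⟩
      fin_cases k
      · exact hu
      · exact hw
    · rw [finrank_span_eq_card hli, Fintype.card_fin, hW]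
  rw [← hspan, Matrix.range_cons_cons_empty, Submodule.mem_span_pair] at hx
  exact hx

section

variable (hφφ : ∀ x, φ (φ x) = x) (h2 : (1 : F) + 1 = 0) (hN : ∀ x : F, x ≠ 0 → x * φ x = 1)
  (D : Fin t → Submodule F (Fin n → F))
  (hD : Cfsg.Geo.IsNondegenerateMDecomposition (hdot φ) 2 D)

include hφφ h2 hN in
theorem norm_eq_one (v : Fin n → F) (hv : hdot φ v v ≠ 0) : hdot φ v v = 1 := by
  have h1 : φ (hdot φ v v) = hdot φ v v := hdot_conj φ hφφ v v
  have h3 := hN _ hv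
  rw [h1] at h3
  have h4 : (hdot φ v v + 1) * (hdot φ v v + 1) = 0 := by
    linear_combination h3 + (hdot φ v v + 1) * h2
  have h5 : hdot φ v v + 1 = 0 := mul_self_eq_zero.mp h4
  linear_combination h5 - h2

include hD in
theorem orth (i j : Fin t) (hij : i ≠ j) (d e : Fin n → F) (hd : d ∈ D i) (he : e ∈ D j) :
    hdot φ d e = 0 := hD.orthogonal i j hij d hd e he

include hD in
theorem exists_comp (x : Fin n → F) :
    ∃ μ : ∀ i, D i, (∑ i, (μ i : Fin n → F)) = x := by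
  have h : x ∈ ⨆ i ∈ (Finset.univ : Finset (Fin t)), D i := by
    have : (⨆ i ∈ (Finset.univ : Finset (Fin t)), D i) = ⨆ i, D i := by simp
    rw [this, hD.decomp.iSup_eq_top]
    exact Submodule.mem_top
  exact (Submodule.mem_iSup_finset_iff_exists_sum D x).mp h

include hD in
theorem le_count : n ≤ 2 * t := by
  have h1 : Module.finrank F (Fin n → F) = n := by
    rw [Module.finrank_fintype_fun_eq_card, Fintype.card_fin]
  let L : (∀ i, D i) →ₗ[F] (Fin n → F) := ∑ i, (D i).subtype ∘ₗ LinearMap.proj i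
  have hL : Function.Surjective L := by
    intro x
    obtain ⟨μ, hμ⟩ := exists_comp φ D hD x
    refine ⟨μ, ?_⟩
    rw [← hμ]
    simp [L]
  have h3 := LinearMap.finrank_range_add_finrank_ker L
  rw [LinearMap.range_eq_top.mpr hL, finrank_top, h1, Module.finrank_pi_fintype] at h3
  simp only [hD.decomp.finrank_eq] at h3
  simp at h3
  omega

include hD in
theorem exists_ne_zero (i : Fin t) : ∃ a ∈ D i, a ≠ 0 := by
  have h : D i ≠ ⊥ := by
    rw [← Submodule.one_le_finrank_iff, hD.decomp.finrank_eq i]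
    norm_num
  exact Submodule.exists_mem_ne_zero_of_ne_bot h

include hD in
theorem exists_not_mem_span (i : Fin t) (a : Fin n → F) : ∃ x ∈ D i, ∀ c : F, x ≠ c • a := by
  by_contra hcon
  push Not at hcon
  have hle : D i ≤ Submodule.span F {a} := by
    intro x hx
    obtain ⟨c, hc⟩ := hcon x hx
    rw [hc]
    exact Submodule.smul_mem _ _ (Submodule.mem_span_singleton_self a)
  have h1 := Submodule.finrank_mono hle
  have h3 : Module.finrank F (Submodule.span F {a}) ≤ 1 := by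
    have := finrank_span_le_card (R := F) ({a} : Set (Fin n → F))
    simpa using this
  rw [hD.decomp.finrank_eq i] at h1
  omega

include hφφ h2 hN hD in
theorem exists_nonisotropic (htr : ∃ μ : F, μ + φ μ ≠ 0) (i : Fin t) :
    ∃ a ∈ D i, hdot φ a a = 1 := by
  obtain ⟨u, hu, hu0⟩ := exists_ne_zero φ D hD i
  by_cases huu : hdot φ u u = 0
  · obtain ⟨x, hx, hxu⟩ := (hD.nondegenerate i u hu hu0).1
    by_cases hxx : hdot φ x x = 0
    · obtain ⟨μ, hμ⟩ := htr
      have hc : φ (hdot φ x u) ≠ 0 := fun h => hxu (by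
        have := congrArg φ h
        rwa [hφφ, map_zero] at this)
      refine ⟨(μ * (hdot φ x u)⁻¹) • x + u,
        (D i).add_mem ((D i).smul_mem _ hx) hu, norm_eq_one φ hφφ h2 hN _ ?_⟩
      rw [hdot_add_left, hdot_add_right, hdot_add_right, hdot_smul_left, hdot_smul_left,
        hdot_smul_right, hdot_smul_right, hxx, huu, ← hdot_conj φ hφφ x u, map_mul, map_inv₀]
      intro h0
      apply hμ
      have e1 : μ * (hdot φ x u)⁻¹ * hdot φ x u = μ := by
        rw [mul_assoc, inv_mul_cancel₀ hxu, mul_one]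
      have e2 : φ μ * (φ (hdot φ x u))⁻¹ * φ (hdot φ x u) = φ μ := by
        rw [mul_assoc, inv_mul_cancel₀ hc, mul_one]
      rw [e1, e2] at h0
      linear_combination h0
    · exact ⟨x, hx, norm_eq_one φ hφφ h2 hN x hxx⟩
  · exact ⟨u, hu, norm_eq_one φ hφφ h2 hN u huu⟩

include hφφ hN hD in
/-- two non-isotropic vectors of a member are orthogonal or proportional -/
theorem two_point (i : Fin t) (v a : Fin n → F) (hv : v ∈ D i) (ha : a ∈ D i)
    (hvv : hdot φ v v = 1) (haa : hdot φ a a = 1) (hva : hdot φ v a ≠ 0) :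
    v = hdot φ v a • a := by
  obtain ⟨c, hc⟩ : ∃ c, c = hdot φ v a := ⟨_, rfl⟩
  rw [← hc] at hva ⊢
  by_contra hne
  have hw0 : v - c • a ≠ 0 := fun h => hne (sub_eq_zero.mp h)
  have hwW : v - c • a ∈ D i := (D i).sub_mem hv ((D i).smul_mem _ ha)
  have hav : hdot φ a v = φ c := by rw [hc, hdot_conj φ hφφ]
  have hwa : hdot φ (v - c • a) a = 0 := by
    rw [hdot_sub_left, hdot_smul_left, haa, ← hc]
    ring
  have hwv : hdot φ (v - c • a) v = 0 := by
    rw [hdot_sub_left, hdot_smul_left, hvv, hav, hN c hva]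
    ring
  have hww : hdot φ (v - c • a) (v - c • a) = 0 := by
    rw [hdot_sub_right, hdot_smul_right, hwa, hwv]
    ring
  have hli : LinearIndependent F ![v - c • a, a] := by
    rw [LinearIndependent.pair_iff]
    intro α β hαβ
    have h1 := congrArg (fun z => hdot φ z a) hαβ
    simp only [hdot_add_left, hdot_smul_left, hwa, haa, hdot_zero_left] at h1
    have hβ : β = 0 := by linear_combination h1
    rw [hβ, zero_smul, add_zero] at hαβ
    exact ⟨(smul_eq_zero.mp hαβ).resolve_right hw0, hβ⟩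
  obtain ⟨x, hx, hwx⟩ := (hD.nondegenerate i _ hwW hw0).2
  obtain ⟨α, β, rfl⟩ := mem_span_pair_of_finrank (D i) (hD.decomp.finrank_eq i) _ _ hwW ha hli x hx
  apply hwx
  rw [hdot_add_right, hdot_smul_right, hdot_smul_right, hww, hwa]
  ring

end

section

variable (hφφ : ∀ x, φ (φ x) = x) (h2 : (1 : F) + 1 = 0) (hN : ∀ x : F, x ≠ 0 → x * φ x = 1)
  (D : Fin t → Submodule F (Fin n → F))
  (hD : Cfsg.Geo.IsNondegenerateMDecomposition (hdot φ) 2 D)

theorem stab_le_KK : Cfsg.Geo.decompositionStabilizer D ⊓ Cfsg.Agent.Helper28.SuGen.SUg (Fin n) φ ≤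
    KK φ D := by
  rintro g ⟨⟨σ, hσ⟩, hg⟩
  have hgU := (mem_UG_iff φ g).mp hg.1
  refine ⟨hg, fun v => ?_⟩
  constructor
  · rintro ⟨⟨j, hj⟩, hne⟩
    rw [IsU.hdot_mulVec φ hgU] at hne
    refine ⟨⟨σ.symm j, ?_⟩, hne⟩
    have h1 := hσ (σ.symm j)
    rw [Equiv.apply_symm_apply] at h1
    rw [← h1] at hj
    obtain ⟨v', hv', hvv'⟩ := hj
    rw [Matrix.toLin'_apply] at hvv'
    have := congrArg (fun z => ((g⁻¹ : GL (Fin n) F) : Matrix (Fin n) (Fin n) F) *ᵥ z) hvv'
    simp only [mulVec_inv_mulVec] at this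
    rw [← this]
    exact hv'
  · rintro ⟨⟨i, hi⟩, hne⟩
    refine ⟨⟨σ i, ?_⟩, ?_⟩
    · rw [← hσ i]
      exact ⟨v, hi, Matrix.toLin'_apply _ _⟩
    · rw [IsU.hdot_mulVec φ hgU]
      exact hne

include hφφ h2 in
theorem UT_mem_SUg (w : Fin n → F) (hw : hdot φ w w = 0) :
    UT φ w 1 ∈ Cfsg.Agent.Helper28.SuGen.SUg (Fin n) φ :=
  ⟨UT_mem_UG φ hφφ w hw 1 (by rw [map_one]; exact h2), UT_mem_SL φ w hw 1⟩

theorem UT_one_mulVec (w : Fin n → F) (hw : hdot φ w w = 0) (x : Fin n → F) :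
    ((UT φ w 1 : GL (Fin n) F) : Matrix (Fin n) (Fin n) F) *ᵥ x = x + hdot φ x w • w := by
  rw [UT_mulVec φ w hw, one_mul]

include h2 in
theorem UT_invol (w : Fin n → F) (hw : hdot φ w w = 0) (x : Fin n → F) :
    ((UT φ w 1 : GL (Fin n) F) : Matrix (Fin n) (Fin n) F) *ᵥ
      (((UT φ w 1 : GL (Fin n) F) : Matrix (Fin n) (Fin n) F) *ᵥ x) = x := by
  rw [UT_one_mulVec φ w hw, UT_one_mulVec φ w hw, hdot_add_left, hdot_smul_left, hw, mul_zero,
    add_zero, add_assoc, ← add_smul]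
  have : hdot φ x w + hdot φ x w = 0 := by linear_combination (hdot φ x w) * h2
  rw [this, zero_smul, add_zero]

include h2 in
theorem smul_add_smul_add (c : F) (a b : Fin n → F) : c • a + c • (a + b) = c • b := by
  rw [smul_add, ← add_assoc, ← add_smul]
  have : c + c = 0 := by linear_combination c * h2
  rw [this, zero_smul, zero_add]

include hφφ h2 hN hD in
/-- the transvection along the sum of two non-isotropic vectors of distinct members preserves `EE` -/
theorem swap_maps (i₀ i₁ : Fin t) (h01 : i₀ ≠ i₁) (a b : Fin n → F) (ha : a ∈ D i₀) (hb : b ∈ D i₁)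
    (haa : hdot φ a a = 1) (hbb : hdot φ b b = 1) (hw : hdot φ (a + b) (a + b) = 0)
    (v : Fin n → F) (hv : v ∈ EE φ D) :
    ((UT φ (a + b) 1 : GL (Fin n) F) : Matrix (Fin n) (Fin n) F) *ᵥ v ∈ EE φ D := by
  obtain ⟨⟨j, hj⟩, hne⟩ := hv
  have hvv := norm_eq_one φ hφφ h2 hN v hne
  rw [UT_one_mulVec φ _ hw, hdot_add_right]
  by_cases hj0 : j = i₀
  · rw [hj0] at hj
    rw [orth φ D hD i₀ i₁ h01 v b hj hb, add_zero]
    by_cases hva : hdot φ v a = 0
    · rw [hva, zero_smul, add_zero]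
      exact ⟨⟨i₀, hj⟩, hne⟩
    · have hv' := two_point φ hφφ hN D hD i₀ v a hj ha hvv haa hva
      obtain ⟨c, hc⟩ : ∃ c, c = hdot φ v a := ⟨_, rfl⟩
      rw [← hc] at hv' hva ⊢
      rw [hv', smul_add_smul_add h2]
      refine ⟨⟨i₁, (D i₁).smul_mem _ hb⟩, ?_⟩
      rw [hdot_smul_left, hdot_smul_right, hbb, mul_one, hN c hva]
      exact one_ne_zero
  by_cases hj1 : j = i₁
  · rw [hj1] at hj
    rw [orth φ D hD i₁ i₀ h01.symm v a hj ha, zero_add]
    by_cases hvb : hdot φ v b = 0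
    · rw [hvb, zero_smul, add_zero]
      exact ⟨⟨i₁, hj⟩, hne⟩
    · have hv' := two_point φ hφφ hN D hD i₁ v b hj hb hvv hbb hvb
      obtain ⟨c, hc⟩ : ∃ c, c = hdot φ v b := ⟨_, rfl⟩
      rw [← hc] at hv' hvb ⊢
      rw [hv', add_comm a b, smul_add_smul_add h2]
      refine ⟨⟨i₀, (D i₀).smul_mem _ ha⟩, ?_⟩
      rw [hdot_smul_left, hdot_smul_right, haa, mul_one, hN c hvb]
      exact one_ne_zero
  · rw [orth φ D hD j i₀ hj0 v a hj ha, orth φ D hD j i₁ hj1 v b hj hb, add_zero, zero_smul,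
      add_zero]
    exact ⟨⟨j, hj⟩, hne⟩

include hφφ h2 hN hD in
theorem swap_mem_KK (i₀ i₁ : Fin t) (h01 : i₀ ≠ i₁) (a b : Fin n → F) (ha : a ∈ D i₀)
    (hb : b ∈ D i₁) (haa : hdot φ a a = 1) (hbb : hdot φ b b = 1)
    (hw : hdot φ (a + b) (a + b) = 0) : UT φ (a + b) 1 ∈ KK φ D := by
  refine ⟨UT_mem_SUg φ hφφ h2 _ hw, fun v => ⟨fun h => ?_, fun h => ?_⟩⟩
  · have := swap_maps φ hφφ h2 hN D hD i₀ i₁ h01 a b ha hb haa hbb hw _ h
    rwa [UT_invol φ h2 _ hw] at this
  · exact swap_maps φ hφφ h2 hN D hD i₀ i₁ h01 a b ha hb haa hbb hw _ h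

end

/-- Let F be the field with 4 elements (q = 2) and n ≥ 13. Let D be a decomposition of F^n into t pairwise orthogonal 2-dimensional subspaces, each non-degenerate for the standard unitary form Σ u_i v_i². Then the elements of SU_n(2) permuting the members of D form a subgroup that is not maximal: some subgroup lies strictly between it and SU_n(2). -/
theorem result {F : Type*} [Field F] [Fintype F] (n : ℕ) (hF : Fintype.card F = 4) (hn : 13 ≤ n) {t : ℕ} (D : Fin t → Submodule F (Fin n → F)) (hD : Cfsg.Geo.IsNondegenerateMDecomposition (Cfsg.hermForm n F 2) 2 D) : ∃ K : Subgroup (Matrix.GeneralLinearGroup (Fin n) F), Cfsg.Geo.decompositionStabilizer D ⊓ (Cfsg.GU n F 2 ⊓ Cfsg.Geo.specialLinear (Fin n) F) < K ∧ K < (Cfsg.GU n F 2 ⊓ Cfsg.Geo.specialLinear (Fin n) F) := by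
  have hF' : Fintype.card F = 2 ^ 2 := by rw [hF]; norm_num
  obtain ⟨φ, hφ⟩ := exists_frob hF'
  have hφφ := frob_frob hF' φ hφ
  have htr := frob_trace_ne_zero hF' φ hφ
  have h2 : (1 : F) + 1 = 0 := by
    have h := hφ (1 + 1)
    rw [map_add, map_one] at h
    linear_combination -h
  have hN : ∀ x : F, x ≠ 0 → x * φ x = 1 := by
    intro x hx
    rw [hφ]
    have := FiniteField.pow_card_sub_one_eq_one x hx
    rw [hF] at this
    linear_combination this
  rw [GU_eq_UG φ hφ n]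
  have hform : Cfsg.hermForm n F 2 = hdot φ := by
    funext u v
    exact hermForm_eq_hdot φ hφ n u v
  rw [hform] at hD
  have ht := le_count φ D hD
  obtain ⟨i₀, hi₀⟩ : ∃ i : Fin t, i = ⟨0, by omega⟩ := ⟨_, rfl⟩
  obtain ⟨i₁, hi₁⟩ : ∃ i : Fin t, i = ⟨1, by omega⟩ := ⟨_, rfl⟩
  obtain ⟨i₂, hi₂⟩ : ∃ i : Fin t, i = ⟨2, by omega⟩ := ⟨_, rfl⟩
  obtain ⟨i₃, hi₃⟩ : ∃ i : Fin t, i = ⟨3, by omega⟩ := ⟨_, rfl⟩
  have h01 : i₀ ≠ i₁ := by rw [hi₀, hi₁]; simp [Fin.ext_iff]
  have h02 : i₀ ≠ i₂ := by rw [hi₀, hi₂]; simp [Fin.ext_iff]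
  have h03 : i₀ ≠ i₃ := by rw [hi₀, hi₃]; simp [Fin.ext_iff]
  have h12 : i₁ ≠ i₂ := by rw [hi₁, hi₂]; simp [Fin.ext_iff]
  have h13 : i₁ ≠ i₃ := by rw [hi₁, hi₃]; simp [Fin.ext_iff]
  have h23 : i₂ ≠ i₃ := by rw [hi₂, hi₃]; simp [Fin.ext_iff]
  obtain ⟨a, ha, haa⟩ := exists_nonisotropic φ hφφ h2 hN D hD htr i₀
  obtain ⟨b, hb, hbb⟩ := exists_nonisotropic φ hφφ h2 hN D hD htr i₁
  obtain ⟨c, hc, hcc⟩ := exists_nonisotropic φ hφφ h2 hN D hD htr i₂
  obtain ⟨d, hd, hdd⟩ := exists_nonisotropic φ hφφ h2 hN D hD htr i₃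
  have hab := orth φ D hD i₀ i₁ h01 a b ha hb
  have hba := orth φ D hD i₁ i₀ h01.symm b a hb ha
  have hac := orth φ D hD i₀ i₂ h02 a c ha hc
  have hca := orth φ D hD i₂ i₀ h02.symm c a hc ha
  have had := orth φ D hD i₀ i₃ h03 a d ha hd
  have hda := orth φ D hD i₃ i₀ h03.symm d a hd ha
  have hbc := orth φ D hD i₁ i₂ h12 b c hb hc
  have hcb := orth φ D hD i₂ i₁ h12.symm c b hc hb
  have hbd := orth φ D hD i₁ i₃ h13 b d hb hd
  have hdb := orth φ D hD i₃ i₁ h13.symm d b hd hb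
  have hcd := orth φ D hD i₂ i₃ h23 c d hc hd
  have hdc := orth φ D hD i₃ i₂ h23.symm d c hd hc
  have hw : hdot φ (a + b) (a + b) = 0 := by
    rw [hdot_add_left, hdot_add_right, hdot_add_right, haa, hab, hba, hbb]
    linear_combination h2
  have hw' : hdot φ ((a + b) + (c + d)) ((a + b) + (c + d)) = 0 := by
    simp only [hdot_add_left, hdot_add_right, haa, hab, hba, hbb, hac, hca, had, hda, hbc, hcb,
      hbd, hdb, hcd, hdc, hcc, hdd]
    linear_combination 2 * h2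
  refine ⟨KK φ D, ?_, ?_⟩
  · rw [lt_iff_le_and_ne]
    refine ⟨stab_le_KK φ D, fun heq => ?_⟩
    have hg : UT φ (a + b) 1 ∈ KK φ D :=
      swap_mem_KK φ hφφ h2 hN D hD i₀ i₁ h01 a b ha hb haa hbb hw
    rw [← heq] at hg
    obtain ⟨⟨σ, hσ⟩, -⟩ := hg
    have hga : b ∈ D (σ i₀) := by
      rw [← hσ i₀]
      refine ⟨a, ha, ?_⟩
      rw [Matrix.toLin'_apply, UT_one_mulVec φ _ hw, hdot_add_right, haa, hab, add_zero]
      rw [one_smul]
      have := smul_add_smul_add h2 (1 : F) a b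
      rwa [one_smul, one_smul, one_smul] at this
    have e1 : σ i₀ = i₁ := by
      by_contra hne
      have h := orth φ D hD i₁ (σ i₀) (Ne.symm hne) b b hb hga
      rw [hbb] at h
      exact one_ne_zero h
    obtain ⟨x, hx, hxa⟩ := exists_not_mem_span φ D hD i₀ a
    have hgx : x + hdot φ x a • (a + b) ∈ D i₁ := by
      rw [← e1, ← hσ i₀]
      refine ⟨x, hx, ?_⟩
      rw [Matrix.toLin'_apply, UT_one_mulVec φ _ hw, hdot_add_right,
        orth φ D hD i₀ i₁ h01 x b hx hb, add_zero]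
    have hy1 : x + hdot φ x a • a ∈ D i₁ := by
      have := (D i₁).sub_mem hgx ((D i₁).smul_mem (hdot φ x a) hb)
      have e : x + hdot φ x a • (a + b) - hdot φ x a • b = x + hdot φ x a • a := by
        rw [smul_add]; abel
      rwa [e] at this
    have hy0 : x + hdot φ x a • a ∈ D i₀ := (D i₀).add_mem hx ((D i₀).smul_mem _ ha)
    have hy : x + hdot φ x a • a = 0 := by
      by_contra hne
      obtain ⟨z, hz, hzy⟩ := (hD.nondegenerate i₀ _ hy0 hne).1
      exact hzy (orth φ D hD i₀ i₁ h01 z _ hz hy1)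
    apply hxa (-hdot φ x a)
    rw [neg_smul]
    exact eq_neg_of_add_eq_zero_left hy
  · rw [lt_iff_le_and_ne]
    refine ⟨fun g hg => hg.1, fun heq => ?_⟩
    have hg : UT φ ((a + b) + (c + d)) 1 ∈ KK φ D := by
      rw [heq]
      exact UT_mem_SUg φ hφφ h2 _ hw'
    have haE : a ∈ EE φ D := ⟨⟨i₀, ha⟩, by rw [haa]; exact one_ne_zero⟩
    have h := (hg.2 a).mpr haE
    rw [UT_one_mulVec φ _ hw', hdot_add_right, hdot_add_right, hdot_add_right, haa, hab, hac,
      had, add_zero, add_zero, add_zero, one_smul] at h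
    have e : a + (a + b + (c + d)) = b + (c + d) := by
      have haa2 : a + a = 0 := by
        have := congrArg (fun k : F => k • a) h2
        simpa [add_smul] using this
      rw [add_assoc a b, ← add_assoc a a, haa2, zero_add]
    rw [e] at h
    obtain ⟨⟨j, hj⟩, -⟩ := h
    have e1 : j = i₁ := by
      by_contra hne
      have h := orth φ D hD i₁ j (Ne.symm hne) b _ hb hj
      rw [hdot_add_right, hdot_add_right, hbb, hbc, hbd, add_zero, add_zero] at h
      exact one_ne_zero h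
    have e2 : j = i₂ := by
      by_contra hne
      have h := orth φ D hD i₂ j (Ne.symm hne) c _ hc hj
      rw [hdot_add_right, hdot_add_right, hcb, hcc, hcd, add_zero, zero_add] at h
      exact one_ne_zero h
    exact h12 (e1.symm.trans e2)

end Cfsg.Agent.S5656
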