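import Mathlib
import Cfsg.Agent.Lib.Helper28.SuTsPair
set_option autoImplicit false
open Cfsg
namespace Cfsg.Agent.S5657
open Cfsg.Agent.Helper11.Herm Cfsg.Agent.Helper28.SuSingMax Cfsg.Agent.Helper28.SuTsPair

/-- Let F be the field with q² elements and n = 2k ≥ 13. Let D be a decomposition of F^n into two complementary subspaces of dimension k on each of which the standard unitary form vanishes identically. Then the elements of SU_n(q) preserving or interchanging the two subspaces form a maximal subgroup of SU_n(q). -/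
theorem result {F : Type*} [Field F] [Fintype F] (n q : ℕ) (hF : Fintype.card F = q ^ 2) (hn : 13 ≤ n) (k : ℕ) (hk : 2 * k = n) (D : Fin 2 → Submodule F (Fin n → F)) (hD : Cfsg.Geo.IsMDecomposition k D) (hts : ∀ i, Cfsg.Geo.IsTotallySingularFor (Cfsg.hermForm n F q) (D i)) : Cfsg.Geo.IsMaximalIn (Cfsg.GU n F q ⊓ Cfsg.Geo.specialLinear (Fin n) F) (Cfsg.Geo.decompositionStabilizer D ⊓ (Cfsg.GU n F q ⊓ Cfsg.Geo.specialLinear (Fin n) F)) := by
  classical
  obtain ⟨φ, hφ⟩ := exists_frob hF
  have hφφ := frob_frob hF φ hφ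
  have hN1 := frob_norm_surj hF φ hφ
  have hφid := frob_ne_id hF φ hφ
  rw [GU_eq_UG φ hφ n]
  have hW : ∀ i, ∀ u ∈ D i, ∀ v ∈ D i, hdot φ u v = 0 := by
    intro i u hu v hv
    rw [← hermForm_eq_hdot φ hφ]
    exact hts i u hu v hv
  have hdec : ∀ v : Fin n → F, ∃ w ∈ D 0, ∃ u ∈ D 1, v = w + u := by
    intro v
    have hle : iSup D ≤ D 0 ⊔ D 1 := by
      apply iSup_le
      intro i
      fin_cases i
      · exact le_sup_left
      · exact le_sup_right
    have hv : v ∈ D 0 ⊔ D 1 := by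
      apply hle
      rw [hD.iSup_eq_top]
      exact Submodule.mem_top
    obtain ⟨w, hw, u, hu, hwu⟩ := Submodule.mem_sup.mp hv
    exact ⟨w, hw, u, hu, hwu.symm⟩
  have hf0 := hD.finrank_eq 0
  have hf1 := hD.finrank_eq 1
  exact maximal_pair φ hφid hφφ D hN1 (by omega) (hW 0) (hW 1) hdec (by omega) (by rw [hf0, hf1])

end Cfsg.Agent.S5657
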