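import Mathlib
import Cfsg.Statements.S5658
import Cfsg.Agent.Lib.Helper28.SuSubG

set_option autoImplicit false
open Cfsg

namespace Cfsg.Agent.S5658

open Cfsg.Agent.Helper11.Herm Cfsg.Agent.Helper28.SuSingMax Cfsg.Agent.H28SuSub
open scoped Cfsg.Agent.H28SuSub

/-- Let F be the field with q² elements, n ≥ 13, and F₀ a subfield with |F| = |F₀| ^ r for an odd prime r. Let P be an invertible matrix such that the standard unitary form takes values in F₀ on the F₀-span of the columns of P. Then the elements of SU_n(q) lying in the subfield group of P (the conjugate by P of the product of GL_n(F₀) with the scalars) form a maximal subgroup of SU_n(q). -/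
theorem result {F : Type*} [Field F] [Fintype F] (n q : ℕ) (hF : Fintype.card F = q ^ 2) (hn : 13 ≤ n) (F₀ : Subfield F) (r : ℕ) (hr : r.Prime) (hro : Odd r) (hcard : Fintype.card F = Nat.card F₀ ^ r) (P : Matrix.GeneralLinearGroup (Fin n) F) (hP : Cfsg.Geo.IsFormRationalStructure (Cfsg.hermForm n F q) F₀ 1 P) : Cfsg.Geo.IsMaximalIn (Cfsg.GU n F q ⊓ Cfsg.Geo.specialLinear (Fin n) F) (Cfsg.Geo.subfieldSubgroup F₀ P ⊓ (Cfsg.GU n F q ⊓ Cfsg.Geo.specialLinear (Fin n) F)) := by
  classical
  obtain ⟨φ, hφ⟩ := exists_frob hF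
  have hφφ := frob_frob hF φ hφ
  have hN1 := frob_norm_surj hF φ hφ
  have hφid := frob_ne_id hF φ hφ
  rw [GU_eq_UG φ hφ n]
  have hst : ∀ x ∈ F₀, φ x ∈ F₀ := by
    intro x hx
    rw [hφ]
    exact pow_mem hx q
  obtain ⟨D⟩ := exists_data (n := n) (by omega) hφid hφφ hN1 hst r hr hro hcard
  have hP' : ∀ u v : Fin n → F, RatV F₀ u → RatV F₀ v → hdot φ (P • u) (P • v) ∈ F₀ := by
    intro u v hu hv
    have := hP u v hu hv
    rw [one_mul, hermForm_eq_hdot φ hφ] at this
    exact this
  exact su_subfield_maximal D r hr hcard P hP'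

end Cfsg.Agent.S5658
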