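import Mathlib
import Cfsg.Agent.Lib.Helper28.OrInSUG
set_option autoImplicit false
open Cfsg
namespace Cfsg.Agent.S5659
open Cfsg.Agent.Helper11.Herm Cfsg.Agent.H28OrInSU

/-- Let F be the field with q² elements, q odd, n ≥ 13, and F₀ the subfield with q elements. Let P be an invertible matrix such that the standard unitary form takes values in F₀ on the F₀-span of the columns of P (so it restricts to a non-degenerate symmetric bilinear form there). Then the elements of SU_n(q) lying in the subfield group of P form a maximal subgroup of SU_n(q). -/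
theorem result {F : Type*} [Field F] [Fintype F] (n q : ℕ) (hF : Fintype.card F = q ^ 2) (hn : 13 ≤ n) (hodd : Odd q) (F₀ : Subfield F) (hcard : Fintype.card F = Nat.card F₀ ^ 2) (P : Matrix.GeneralLinearGroup (Fin n) F) (hP : Cfsg.Geo.IsFormRationalStructure (Cfsg.hermForm n F q) F₀ 1 P) : Cfsg.Geo.IsMaximalIn (Cfsg.GU n F q ⊓ Cfsg.Geo.specialLinear (Fin n) F) (Cfsg.Geo.subfieldSubgroup F₀ P ⊓ (Cfsg.GU n F q ⊓ Cfsg.Geo.specialLinear (Fin n) F)) := by
  obtain ⟨φ, hφ⟩ := exists_frob hF
  rw [GU_eq_UG φ hφ n]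
  have hP' : ∀ u v : Fin n → F, Cfsg.Agent.H28OrSub.RatV F₀ u → Cfsg.Agent.H28OrSub.RatV F₀ v →
      Hp φ P u v ∈ F₀ := by
    intro u v hu hv
    have := hP u v hu hv
    rw [hermForm_eq_hdot φ hφ, one_mul] at this
    exact this
  exact main_orth q hF (by rw [Fintype.card_fin]; omega) hodd F₀ hcard P φ hφ hP'

end Cfsg.Agent.S5659
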