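import Mathlib
import Cfsg.Agent.Lib.Helper28.SpInSU
set_option autoImplicit false
open Cfsg
namespace Cfsg.Agent.S5660
open Cfsg.Agent.Helper11.Herm Cfsg.Agent.Helper28.SpInSU

/-- Let F be the field with q² elements, n ≥ 13 even, and F₀ the subfield with q elements. Let ζ be a non-zero element with ζ + ζ^q = 0 and P an invertible matrix such that ζ times the standard unitary form takes values in F₀ on the F₀-span of the columns of P and the form vanishes on every pair (u, u) of that span (so ζ times the form restricts to a non-degenerate alternating form there). Then the elements of SU_n(q) lying in the subfield group of P form a maximal subgroup of SU_n(q). -/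
theorem result {F : Type*} [Field F] [Fintype F] (n q : ℕ) (hF : Fintype.card F = q ^ 2) (hn : 13 ≤ n) (heven : Even n) (F₀ : Subfield F) (hcard : Fintype.card F = Nat.card F₀ ^ 2) (ζ : F) (hζ0 : ζ ≠ 0) (hζ : ζ + ζ ^ q = 0) (P : Matrix.GeneralLinearGroup (Fin n) F) (hP : Cfsg.Geo.IsFormRationalStructure (Cfsg.hermForm n F q) F₀ ζ P) (halt : ∀ u : Fin n → F, (∀ i, u i ∈ F₀) → Cfsg.hermForm n F q (Matrix.mulVec (P : Matrix (Fin n) (Fin n) F) u) (Matrix.mulVec (P : Matrix (Fin n) (Fin n) F) u) = 0) : Cfsg.Geo.IsMaximalIn (Cfsg.GU n F q ⊓ Cfsg.Geo.specialLinear (Fin n) F) (Cfsg.Geo.subfieldSubgroup F₀ P ⊓ (Cfsg.GU n F q ⊓ Cfsg.Geo.specialLinear (Fin n) F)) := by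
  obtain ⟨φ, hφ⟩ := exists_frob hF
  have hφφ := frob_frob hF φ hφ
  have hN1 := frob_norm_surj hF φ hφ
  have hφid := frob_ne_id hF φ hφ
  rw [GU_eq_UG φ hφ n]
  have hfix : ∀ x, φ x = x ↔ x ∈ F₀ := by
    intro x
    rw [hφ]
    exact fix_iff hF F₀ hcard x
  have hP' : ∀ u v : Fin n → F, Rat F₀ u → Rat F₀ v → Bz φ ζ P u v ∈ F₀ := by
    intro u v hu hv
    have := hP u v hu hv
    rw [hermForm_eq_hdot φ hφ] at this
    exact this
  have halt' : ∀ u : Fin n → F, Rat F₀ u →
      hdot φ (Matrix.mulVec (P : Matrix (Fin n) (Fin n) F) u)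
        (Matrix.mulVec (P : Matrix (Fin n) (Fin n) F) u) = 0 := by
    intro u hu
    have := halt u hu
    rw [hermForm_eq_hdot φ hφ] at this
    exact this
  have hζ' : ζ + φ ζ = 0 := by rw [hφ]; exact hζ
  exact maximal_subfield φ F₀ ζ P hfix hP' halt' hφφ hζ0 hζ' hφid hN1
    (by rw [Fintype.card_fin]; omega) ⟨0, by omega⟩ ⟨1, by omega⟩ ⟨2, by omega⟩
    (by simp [Fin.ext_iff]) (by simp [Fin.ext_iff]) (by simp [Fin.ext_iff])

end Cfsg.Agent.S5660
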