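import Mathlib
import Cfsg.Agent.Lib.Helper28.TensFrameD
set_option autoImplicit false
open Cfsg
namespace Cfsg.Agent.S5667
open Matrix Kronecker Cfsg.Agent.H28TF

variable {F : Type*} [Field F]

/-- the core: the isometries of `G₁ ⊗ 1` which are Kronecker products do not form a maximal
subgroup, for an alternating `G₁` -/
theorem core (h3 : (3 : F) = 0) (hc : ∀ x : F, x = 0 ∨ x = 1 ∨ x = -1) {n₁ : ℕ}
    (G₁ : Matrix (Fin n₁) (Fin n₁) F) (hskew : G₁ᵀ = -G₁) (a₀ : Fin n₁) (x₀ : Fin n₁ → F)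
    (hx₀ : x₀ ⬝ᵥ G₁ *ᵥ Pi.single a₀ 1 ≠ 0) :
    ∃ K₀ : Subgroup (GL (Fin n₁ × Fin 3) F),
      Cfsg.Geo.kroneckerSubgroup n₁ 3 F ⊓ Cfsg.preserving (Cfsg.glToMat (Fin n₁ × Fin 3) F)
        (Cfsg.Geo.formOfGram id (G₁ ⊗ₖ (1 : Matrix (Fin 3) (Fin 3) F))) < K₀ ∧
      K₀ < Cfsg.preserving (Cfsg.glToMat (Fin n₁ × Fin 3) F)
        (Cfsg.Geo.formOfGram id (G₁ ⊗ₖ (1 : Matrix (Fin 3) (Fin 3) F))) := by
  have h2 : (2 : F) ≠ 0 := two_ne_zero_of_three h3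
  have halt : ∀ x : Fin n₁ → F, x ⬝ᵥ G₁ *ᵥ x = 0 := by
    intro x
    have h : x ⬝ᵥ G₁ *ᵥ x = - (x ⬝ᵥ G₁ *ᵥ x) := by
      conv_lhs => rw [Matrix.dotProduct_mulVec, ← Matrix.mulVec_transpose, hskew,
        Matrix.neg_mulVec, neg_dotProduct, dotProduct_comm]
    have h' : (2 : F) * (x ⬝ᵥ G₁ *ᵥ x) = 0 := by linear_combination h
    exact (mul_eq_zero.mp h').resolve_left h2
  obtain ⟨u₀, hu₀⟩ : ∃ u₀ : Fin n₁ → F, u₀ = Pi.single a₀ 1 := ⟨_, rfl⟩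
  rw [← hu₀] at hx₀
  obtain ⟨t, ht⟩ : ∃ t, t = x₀ ⬝ᵥ G₁ *ᵥ u₀ := ⟨_, rfl⟩
  have ht0 : t ≠ 0 := by rw [ht]; exact hx₀
  obtain ⟨G, hG⟩ : ∃ G, G = G₁ ⊗ₖ (1 : Matrix (Fin 3) (Fin 3) F) := ⟨_, rfl⟩
  have hGskew : Gᵀ = -G := by
    rw [hG, ← Matrix.kroneckerMap_transpose, hskew, Matrix.transpose_one]
    ext ⟨i, j⟩ ⟨i', j'⟩
    simp [Matrix.kroneckerMap_apply]
  rw [← hG]
  refine ⟨Stab n₁ 3 F ⊓ Cfsg.preserving (Cfsg.glToMat (Fin n₁ × Fin 3) F)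
    (Cfsg.Geo.formOfGram id G), ?_, ?_⟩
  · rw [lt_iff_le_and_ne]
    refine ⟨le_inf ?_ inf_le_right, ?_⟩
    · apply mem_Stab_of_maps
      rintro g ⟨hgk, hgi⟩ v hv
      rw [hG] at hgi
      exact kron_isom_maps h3 hc G₁ ⟨x₀, u₀, hx₀⟩ g hgk hgi v hv
    · intro heq
      obtain ⟨A, hA⟩ : ∃ A : GL (Fin n₁) F, A = tvz G₁ u₀ (halt u₀) := ⟨_, rfl⟩
      have hAi : (A : Matrix (Fin n₁) (Fin n₁) F)ᵀ * G₁ * (A : Matrix (Fin n₁) (Fin n₁) F) = G₁ := by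
        rw [hA]
        exact (mem_isom_iff G₁ _).mp (tvz_mem_isom G₁ hskew u₀ (halt u₀))
      have hmem : bkU (0 : Fin 3) A 1 ∈ Stab n₁ 3 F ⊓ Cfsg.preserving (Cfsg.glToMat (Fin n₁ × Fin 3) F)
          (Cfsg.Geo.formOfGram id G) := by
        refine Subgroup.mem_inf.mpr ⟨bkU_mem_Stab 0 A 1, ?_⟩
        rw [mem_isom_iff, bkU_val, hG]
        apply bk_isom 0 G₁ _ _ hAi
        rw [Units.val_one, Matrix.transpose_one, one_mul, mul_one]
      rw [← heq] at hmem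
      obtain ⟨a, b, hab⟩ := hmem.1
      rw [bkU_val, Units.val_one] at hab
      obtain ⟨s, hs⟩ := bk_kron (0 : Fin 3) (A : Matrix (Fin n₁) (Fin n₁) F) 1 (by decide) _ _ hab a₀
      have h1 : (A : Matrix (Fin n₁) (Fin n₁) F) *ᵥ x₀ = x₀ + t • u₀ := by
        rw [hA, tvz_mulVec, ht]
      rw [hs, Matrix.smul_mulVec, Matrix.one_mulVec] at h1
      have h4 := congrArg (fun y => x₀ ⬝ᵥ G₁ *ᵥ y) h1
      simp only [Matrix.mulVec_add, Matrix.mulVec_smul, dotProduct_add, dotProduct_smul,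
        halt x₀, smul_eq_mul, ← ht] at h4
      have : t * t = 0 := by linear_combination -h4
      exact ht0 (mul_self_eq_zero.mp this)
  · rw [lt_iff_le_and_ne]
    refine ⟨inf_le_right, fun heq => ?_⟩
    obtain ⟨w₀, hw₀⟩ : ∃ w₀ : Fin 3 → F, w₀ = Pi.single 0 1 + Pi.single 1 1 := ⟨_, rfl⟩
    have hz : tp u₀ w₀ ⬝ᵥ G *ᵥ tp u₀ w₀ = 0 := by
      rw [← formOfGram_id, hG, form_tp, halt u₀, zero_mul]
    have hT : tvz G (tp u₀ w₀) hz ∈ Stab n₁ 3 F ⊓ Cfsg.preserving (Cfsg.glToMat (Fin n₁ × Fin 3) F)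
        (Cfsg.Geo.formOfGram id G) := by
      rw [heq]
      exact tvz_mem_isom G hGskew _ hz
    have hv : tp x₀ (Pi.single (0 : Fin 3) 1) ∈ SS n₁ 3 F := ⟨0, x₀, rfl⟩
    have h1 := (hT.1 _).mpr hv
    rw [tvz_mulVec] at h1
    have h5 : tp x₀ (Pi.single (0 : Fin 3) 1) ⬝ᵥ G *ᵥ tp u₀ w₀ = t := by
      rw [← formOfGram_id, hG, form_tp, Matrix.one_mulVec, hw₀, single_one_dotProduct, ← ht]
      simp
    rw [h5] at h1
    obtain ⟨i, y, hy⟩ := h1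
    have e1 : t = y a₀ * (Pi.single i (1 : F) : Fin 3 → F) 1 := by
      have := congrFun hy (a₀, 1)
      simp only [Pi.add_apply, Pi.smul_apply, tp_apply, smul_eq_mul, hw₀, hu₀,
        Pi.single_eq_same] at this
      rw [Pi.single_eq_of_ne (by decide : (1 : Fin 3) ≠ 0)] at this
      linear_combination this
    have e0 : ∀ a, x₀ a + t * u₀ a = y a * (Pi.single i (1 : F) : Fin 3 → F) 0 := by
      intro a
      have := congrFun hy (a, 0)
      simp only [Pi.add_apply, Pi.smul_apply, tp_apply, smul_eq_mul, hw₀] at this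
      simpa using this
    have hi : i = 1 := by
      by_contra hne
      rw [Pi.single_eq_of_ne (fun h => hne h.symm), mul_zero] at e1
      exact ht0 e1
    rw [hi] at e0
    have hx : x₀ = (-t) • u₀ := by
      funext a
      have := e0 a
      rw [Pi.single_eq_of_ne (by decide : (0 : Fin 3) ≠ 1), mul_zero] at this
      rw [Pi.smul_apply, smul_eq_mul]
      linear_combination this
    have : t = 0 := by
      rw [ht]
      conv_lhs => rw [hx]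
      rw [smul_dotProduct, halt u₀, smul_zero]
    exact ht0 this

/-- Over the field with 3 elements and for m ≥ 7, suppose the standard alternating form on F^(2m) is similar, through P and e, to the tensor product of a non-degenerate symplectic form f₁ on F^(n₁) and a non-degenerate symmetric bilinear form f₂ on F^3. Then the elements of Sp_2m(3) in the stabiliser of this tensor decomposition form a subgroup that is not maximal: some subgroup lies strictly between it and Sp_2m(3). -/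
theorem result {F : Type*} [Field F] [Fintype F] (m : ℕ) (hm : 7 ≤ m) (hq : Fintype.card F = 3) (n₁ : ℕ) (e : (Fin m ⊕ Fin m) ≃ Fin n₁ × Fin 3) (P : Matrix.GeneralLinearGroup (Fin m ⊕ Fin m) F) (f₁ : (Fin n₁ → F) → (Fin n₁ → F) → F) (f₂ : (Fin 3 → F) → (Fin 3 → F) → F) (hf₁ : Cfsg.Geo.IsSymplecticForm f₁) (hf₂ : Cfsg.Geo.IsSymmetricForm f₂) (hT : Cfsg.Geo.IsTensorFormStructure id (Cfsg.sympForm m F) f₁ f₂ e P) : ∃ K : Subgroup (Matrix.GeneralLinearGroup (Fin m ⊕ Fin m) F), Cfsg.Geo.tensorProductSubgroup n₁ 3 e P ⊓ Cfsg.spGL m F < K ∧ K < Cfsg.spGL m F := by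
  have h3 := three_eq_zero hq
  have hc := three_cases hq
  obtain ⟨P', c, hc0, htps, hform⟩ :=
    exists_normal_form h3 hc (Cfsg.sympForm m F) f₁ f₂ hf₂ e P hT
  rw [← htps]
  have hn₁ : 0 < n₁ := by
    have := Fintype.card_congr e
    simp at this
    omega
  obtain ⟨G₁, hG₁⟩ : ∃ G₁, G₁ = Cfsg.Geo.gramMatrix f₁ := ⟨_, rfl⟩
  rw [← hG₁] at hform
  have hskew : G₁ᵀ = -G₁ := by
    ext i j
    rw [hG₁, Matrix.transpose_apply, Matrix.neg_apply]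
    exact hf₁.skew _ _
  have hu₀ : (Pi.single (⟨0, hn₁⟩ : Fin n₁) (1 : F) : Fin n₁ → F) ≠ 0 := by
    intro h
    have := congrFun h ⟨0, hn₁⟩
    simp at this
  obtain ⟨x₀, hx₀⟩ := (hf₁.nondegenerate _ hu₀).1
  rw [bil_eq_gram f₁ hf₁.bilinear, ← hG₁] at hx₀
  obtain ⟨K₀, hK1, hK2⟩ := core h3 hc G₁ hskew ⟨0, hn₁⟩ x₀ hx₀
  have hcomap : (Cfsg.spGL m F).comap (Th e P').toMonoidHom =
      Cfsg.preserving (Cfsg.glToMat (Fin n₁ × Fin 3) F)
        (Cfsg.Geo.formOfGram id (G₁ ⊗ₖ (1 : Matrix (Fin 3) (Fin 3) F))) := by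
    ext g
    rw [Subgroup.mem_comap]
    exact Th_mem_preserving e P' (Cfsg.sympForm m F) _ c hc0 hform g
  apply sandwich e P' (Cfsg.spGL m F) K₀
  · rw [hcomap]
    exact hK1
  · rw [hcomap]
    exact hK2

end Cfsg.Agent.S5667
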