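import Mathlib
import Cfsg.Agent.Lib.Helper28.TensUnitC
import Cfsg.Agent.Lib.Helper11.Unitary
set_option autoImplicit false
open Cfsg
namespace Cfsg.Agent.S5671
open Matrix Kronecker Cfsg.Agent.H28TF

variable {F : Type*} [Field F]

section prep

variable (φ : F →+* F)

theorem Bh_zero_right' {κ : Type} [Fintype κ] (G : Matrix κ κ F) (x : κ → F) :
    Bh φ G x 0 = 0 := by
  have := Bh_smul_right φ G 0 x 0
  simpa using this

theorem pj_map {n₂ : ℕ} (k₀ : Fin n₂) : (pj k₀ : Matrix (Fin n₂) (Fin n₂) F).map φ = pj k₀ := by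
  unfold pj
  ext i j
  simp only [Matrix.map_apply, Matrix.diagonal_apply]
  split_ifs <;> simp

theorem pj'_map {n₂ : ℕ} (k₀ : Fin n₂) : (pj' k₀ : Matrix (Fin n₂) (Fin n₂) F).map φ = pj' k₀ := by
  unfold pj'
  ext i j
  simp only [Matrix.map_apply, Matrix.diagonal_apply]
  split_ifs <;> simp

theorem kron_map {n₁ n₂ : ℕ} (A : Matrix (Fin n₁) (Fin n₁) F) (B : Matrix (Fin n₂) (Fin n₂) F) :
    (A ⊗ₖ B).map φ = A.map φ ⊗ₖ B.map φ := by
  ext ⟨i, j⟩ ⟨i', j'⟩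
  simp [Matrix.kroneckerMap_apply]

theorem bk_map {n₁ n₂ : ℕ} (k₀ : Fin n₂) (A B : Matrix (Fin n₁) (Fin n₁) F) :
    (bk k₀ A B).map φ = bk k₀ (A.map φ) (B.map φ) := by
  unfold bk
  rw [Matrix.map_add (f := φ) (hf := map_add φ), kron_map, kron_map, pj_map, pj'_map]

theorem one_map {n : ℕ} : (1 : Matrix (Fin n) (Fin n) F).map φ = 1 := by
  ext i j
  simp only [Matrix.map_apply, Matrix.one_apply]
  split_ifs <;> simp

theorem bk_isomh {n₁ n₂ : ℕ} (k₀ : Fin n₂) (G₁ A B : Matrix (Fin n₁) (Fin n₁) F)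
    (hA : Aᵀ * G₁ * A.map φ = G₁) (hB : Bᵀ * G₁ * B.map φ = G₁) :
    (bk k₀ A B)ᵀ * (G₁ ⊗ₖ (1 : Matrix (Fin n₂) (Fin n₂) F)) * (bk k₀ A B).map φ =
      G₁ ⊗ₖ (1 : Matrix (Fin n₂) (Fin n₂) F) := by
  rw [← bk_same k₀, bk_transpose, bk_map, bk_mul, bk_mul, hA, hB]

end prep

section core

variable (φ : F →+* F) (hφφ : ∀ x, φ (φ x) = x) (h2 : (1 : F) + 1 = 0)
  (hN : ∀ x : F, x ≠ 0 → x * φ x = 1)

include hφφ h2 hN in
/-- the core: the special isometries of the sesquilinear form `G₂ ⊗ 1` which are Kronecker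
products do not form a maximal subgroup -/
theorem core {n₂ : ℕ} (G₂ : Matrix (Fin n₂) (Fin n₂) F) (hherm : G₂ᵀ = G₂.map φ)
    (a₀ : Fin n₂) (u x₀ : Fin n₂ → F) (huu : Bh φ G₂ u u = 0) (hx₀ : Bh φ G₂ x₀ u ≠ 0) :
    ∃ K₀ : Subgroup (GL (Fin n₂ × Fin 2) F),
      Cfsg.Geo.kroneckerSubgroup n₂ 2 F ⊓
        (Cfsg.preserving (Cfsg.glToMat (Fin n₂ × Fin 2) F)
          (Cfsg.Geo.formOfGram (⇑φ) (G₂ ⊗ₖ (1 : Matrix (Fin 2) (Fin 2) F))) ⊓
         Cfsg.Geo.specialLinear (Fin n₂ × Fin 2) F) < K₀ ∧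
      K₀ < Cfsg.preserving (Cfsg.glToMat (Fin n₂ × Fin 2) F)
          (Cfsg.Geo.formOfGram (⇑φ) (G₂ ⊗ₖ (1 : Matrix (Fin 2) (Fin 2) F))) ⊓
         Cfsg.Geo.specialLinear (Fin n₂ × Fin 2) F := by
  obtain ⟨t, ht⟩ : ∃ t, t = Bh φ G₂ x₀ u := ⟨_, rfl⟩
  have ht0 : t ≠ 0 := by rw [ht]; exact hx₀
  have hφt0 : φ t ≠ 0 := by
    intro h
    apply ht0
    have := congrArg φ h
    rwa [hφφ, map_zero] at this
  obtain ⟨G, hG⟩ : ∃ G, G = G₂ ⊗ₖ (1 : Matrix (Fin 2) (Fin 2) F) := ⟨_, rfl⟩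
  have hGherm : Gᵀ = G.map φ := by
    rw [hG, ← Matrix.kroneckerMap_transpose, hherm, Matrix.transpose_one, kron_map, one_map]
  rw [← hG]
  obtain ⟨Isom, hIsom⟩ : ∃ I, I = Cfsg.preserving (Cfsg.glToMat (Fin n₂ × Fin 2) F)
    (Cfsg.Geo.formOfGram (⇑φ) G) := ⟨_, rfl⟩
  rw [← hIsom]
  have htu : t • u ≠ 0 := by
    intro h
    have h1 : Bh φ G₂ x₀ (t • u) = 0 := by
      rw [h, Bh_zero_right']
    rw [Bh_smul_right, ← ht] at h1
    exact mul_ne_zero hφt0 ht0 h1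
  refine ⟨Stab n₂ 2 F ⊓ (Isom ⊓ Cfsg.Geo.specialLinear (Fin n₂ × Fin 2) F), ?_, ?_⟩
  · rw [lt_iff_le_and_ne]
    refine ⟨le_inf ?_ inf_le_right, ?_⟩
    · apply mem_Stab_of_maps
      rintro g ⟨hgk, hgi, -⟩ v hv
      rw [hIsom, hG] at hgi
      exact kron_isomh_maps φ h2 hN G₂ ⟨x₀, u, hx₀⟩ g hgk hgi v hv
    · intro heq
      obtain ⟨A, hA⟩ : ∃ A : GL (Fin n₂) F, A = tvh φ G₂ u huu := ⟨_, rfl⟩
      have hAi : (A : Matrix (Fin n₂) (Fin n₂) F)ᵀ * G₂ * (A : Matrix (Fin n₂) (Fin n₂) F).map φ = G₂ := by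
        rw [hA]
        exact (mem_isomh_iff φ G₂ _).mp (tvh_mem_isom φ h2 hφφ G₂ hherm u huu)
      have hmem : bkU (0 : Fin 2) A 1 ∈
          Stab n₂ 2 F ⊓ (Isom ⊓ Cfsg.Geo.specialLinear (Fin n₂ × Fin 2) F) := by
        refine Subgroup.mem_inf.mpr ⟨bkU_mem_Stab 0 A 1, Subgroup.mem_inf.mpr ⟨?_, ?_⟩⟩
        · rw [hIsom, mem_isomh_iff, bkU_val, hG]
          apply bk_isomh φ 0 G₂ _ _ hAi
          rw [Units.val_one, Matrix.transpose_one, one_mul, one_map, mul_one]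
        · rw [mem_SL_iff, bkU_val, Units.val_one, det_bk_one, hA]
          exact tvl_det _ _ _
      rw [← heq] at hmem
      obtain ⟨a, b, hab⟩ := hmem.1
      rw [bkU_val, Units.val_one] at hab
      obtain ⟨s, hs⟩ := bk_kron (0 : Fin 2) (A : Matrix (Fin n₂) (Fin n₂) F) 1 (by decide) _ _ hab a₀
      have h1 : (A : Matrix (Fin n₂) (Fin n₂) F) *ᵥ x₀ = x₀ + t • u := by
        rw [hA, tvh_mulVec, ht]
      rw [hs, Matrix.smul_mulVec, Matrix.one_mulVec] at h1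
      have h4 := congrArg (fun y => Bh φ G₂ y u) h1
      simp only [Bh_add_left, Bh_smul_left, huu, ← ht, mul_zero, add_zero] at h4
      have hs1 : s = 1 := mul_right_cancel₀ ht0 (by rw [h4, one_mul])
      rw [hs1, one_smul] at h1
      exact htu (by
        have := h1
        nth_rewrite 1 [← add_zero x₀] at this
        exact (add_left_cancel this).symm)
  · rw [lt_iff_le_and_ne]
    refine ⟨inf_le_right, fun heq => ?_⟩
    obtain ⟨w₀, hw₀⟩ : ∃ w₀ : Fin 2 → F, w₀ = Pi.single 0 1 + Pi.single 1 1 := ⟨_, rfl⟩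
    have hz : Bh φ G (tp u w₀) (tp u w₀) = 0 := by
      rw [hG, Bh_tp, huu, zero_mul]
    have hT : tvh φ G (tp u w₀) hz ∈
        Stab n₂ 2 F ⊓ (Isom ⊓ Cfsg.Geo.specialLinear (Fin n₂ × Fin 2) F) := by
      rw [heq]
      refine Subgroup.mem_inf.mpr ⟨?_, tvh_mem_SL φ G _ hz⟩
      rw [hIsom]
      exact tvh_mem_isom φ h2 hφφ G hGherm _ hz
    have hv : tp x₀ (Pi.single (0 : Fin 2) 1) ∈ SS n₂ 2 F := ⟨0, x₀, rfl⟩
    have h1 := (hT.1 _).mpr hv
    rw [tvh_mulVec] at h1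
    have h5 : Bh φ G (tp x₀ (Pi.single (0 : Fin 2) 1)) (tp u w₀) = t := by
      rw [hG, Bh_tp, Bh_one, Fin.sum_univ_two, hw₀, ← ht]
      simp
    rw [h5] at h1
    obtain ⟨i, y, hy⟩ := h1
    have e1 : ∀ a, t * u a = y a * (Pi.single i (1 : F) : Fin 2 → F) 1 := by
      intro a
      have := congrFun hy (a, 1)
      simp only [Pi.add_apply, Pi.smul_apply, tp_apply, smul_eq_mul, hw₀,
        Pi.single_eq_same] at this
      rw [Pi.single_eq_of_ne (by decide : (1 : Fin 2) ≠ 0)] at this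
      linear_combination this
    have e0 : ∀ a, x₀ a + t * u a = y a * (Pi.single i (1 : F) : Fin 2 → F) 0 := by
      intro a
      have := congrFun hy (a, 0)
      simp only [Pi.add_apply, Pi.smul_apply, tp_apply, smul_eq_mul, hw₀,
        Pi.single_eq_same] at this
      rw [Pi.single_eq_of_ne (by decide : (0 : Fin 2) ≠ 1)] at this
      linear_combination this
    have hi : i = 1 := by
      by_contra hne
      apply htu
      funext a
      have := e1 a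
      rw [Pi.single_eq_of_ne (fun h => hne h.symm), mul_zero] at this
      rw [Pi.smul_apply, smul_eq_mul, this]
      rfl
    rw [hi] at e0
    have hx : x₀ + t • u = 0 := by
      funext a
      have := e0 a
      rw [Pi.single_eq_of_ne (by decide : (0 : Fin 2) ≠ 1), mul_zero] at this
      rw [Pi.add_apply, Pi.smul_apply, smul_eq_mul, this]
      rfl
    have h6 := congrArg (fun y => Bh φ G₂ y u) hx
    simp only [Bh_add_left, Bh_smul_left, huu, ← ht, mul_zero, add_zero] at h6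
    apply ht0
    rw [h6]
    have := Bh_smul_left φ G₂ 0 0 u
    simpa using this

end core

section iso

variable (φ : F →+* F) (hφφ : ∀ x, φ (φ x) = x) (h2 : (1 : F) + 1 = 0)
  (hN : ∀ x : F, x ≠ 0 → x * φ x = 1) (hφ : ∀ x, φ x = x ^ 2)

include hφφ h2 hN hφ in
/-- a non-zero isotropic vector -/
theorem exists_isotropic (htr : ∃ μ : F, μ + φ μ ≠ 0) {n : ℕ} (hn : 2 ≤ n)
    (f : (Fin n → F) → (Fin n → F) → F) (hf : Cfsg.Geo.IsUnitaryFormPow 2 f) :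
    ∃ u : Fin n → F, u ≠ 0 ∧ f u u = 0 := by
  obtain ⟨i₀, hi₀⟩ : ∃ i : Fin n, i = ⟨0, by omega⟩ := ⟨_, rfl⟩
  obtain ⟨i₁, hi₁⟩ : ∃ i : Fin n, i = ⟨1, by omega⟩ := ⟨_, rfl⟩
  have h01 : i₀ ≠ i₁ := by rw [hi₀, hi₁]; simp [Fin.ext_iff]
  have he0 : (Pi.single i₀ (1 : F) : Fin n → F) ≠ 0 := by
    intro h
    have := congrFun h i₀
    simp at this
  obtain ⟨w₀, hw₀⟩ := exists_norm_one φ hφφ h2 hN hφ f hf htr _ he0
  obtain ⟨v, hv⟩ : ∃ v : Fin n → F, ∀ c : F, v ≠ c • w₀ := by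
    by_contra hcon
    push Not at hcon
    obtain ⟨c₀, hc₀⟩ := hcon (Pi.single i₀ 1)
    obtain ⟨c₁, hc₁⟩ := hcon (Pi.single i₁ 1)
    have e00 := congrFun hc₀ i₀
    have e01 := congrFun hc₀ i₁
    have e10 := congrFun hc₁ i₀
    have e11 := congrFun hc₁ i₁
    simp only [Pi.smul_apply, smul_eq_mul, Pi.single_eq_same] at e00 e11
    rw [Pi.single_eq_of_ne h01.symm] at e01
    rw [Pi.single_eq_of_ne h01] at e10
    simp only [Pi.smul_apply, smul_eq_mul] at e01 e10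
    have : (1 : F) = 0 := by
      calc (1 : F) = (c₀ * w₀ i₀) * (c₁ * w₀ i₁) := by rw [← e00, ← e11, mul_one]
        _ = (c₀ * w₀ i₁) * (c₁ * w₀ i₀) := by ring
        _ = 0 := by rw [← e01, zero_mul]
    exact one_ne_zero this
  obtain ⟨w₁, hw₁⟩ : ∃ w₁, w₁ = v + (-(f v w₀)) • w₀ := ⟨_, rfl⟩
  have hw₁0 : w₁ ≠ 0 := by
    intro h
    apply hv (f v w₀)
    rw [hw₁, neg_smul] at h
    exact add_neg_eq_zero.mp h
  have h10 : f w₁ w₀ = 0 := by
    rw [hw₁, hf.add_left, hf.smul_left, hw₀]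
    ring
  have h01' : f w₀ w₁ = 0 := by
    rw [uf_conj φ hφ f hf, h10, map_zero]
  by_cases h11 : f w₁ w₁ = 0
  · exact ⟨w₁, hw₁0, h11⟩
  · have h11' := uf_norm_eq_one φ hφφ h2 hN hφ f hf w₁ h11
    refine ⟨w₀ + w₁, ?_, ?_⟩
    · intro h
      have := congrArg (fun z => f z w₀) h
      simp only [hf.add_left, hw₀, h10, add_zero] at this
      have h0 : f 0 w₀ = 0 := by
        have := hf.smul_left 0 0 w₀
        simpa using this
      rw [h0] at this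
      exact one_ne_zero this
    · rw [hf.add_left, uf_add_right φ hφ f hf, uf_add_right φ hφ f hf, hw₀, h01', h10, h11']
      linear_combination h2

end iso

/-- Let F be the field with 4 elements (q = 2) and n ≥ 13. Suppose the standard unitary form on F^n is similar, through P and e, to the tensor product of non-degenerate unitary forms on F^2 and F^(n₂). Then the elements of SU_n(2) in the stabiliser of this tensor decomposition form a subgroup that is not maximal: some subgroup lies strictly between it and SU_n(2). -/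
theorem result {F : Type*} [Field F] [Fintype F] (n : ℕ) (hF : Fintype.card F = 4) (hn : 13 ≤ n) (n₂ : ℕ) (e : Fin n ≃ Fin 2 × Fin n₂) (P : Matrix.GeneralLinearGroup (Fin n) F) (f₁ : (Fin 2 → F) → (Fin 2 → F) → F) (f₂ : (Fin n₂ → F) → (Fin n₂ → F) → F) (hf₁ : Cfsg.Geo.IsUnitaryFormPow 2 f₁) (hf₂ : Cfsg.Geo.IsUnitaryFormPow 2 f₂) (hT : Cfsg.Geo.IsTensorFormStructure (fun x : F => x ^ 2) (Cfsg.hermForm n F 2) f₁ f₂ e P) : ∃ K : Subgroup (Matrix.GeneralLinearGroup (Fin n) F), Cfsg.Geo.tensorProductSubgroup 2 n₂ e P ⊓ (Cfsg.GU n F 2 ⊓ Cfsg.Geo.specialLinear (Fin n) F) < K ∧ K < (Cfsg.GU n F 2 ⊓ Cfsg.Geo.specialLinear (Fin n) F) := by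
  have hF' : Fintype.card F = 2 ^ 2 := by rw [hF]; norm_num
  obtain ⟨φ, hφ⟩ := Cfsg.Agent.Helper11.Herm.exists_frob hF'
  have hφφ := Cfsg.Agent.Helper11.Herm.frob_frob hF' φ hφ
  have htr := Cfsg.Agent.Helper11.Herm.frob_trace_ne_zero hF' φ hφ
  have h2 : (1 : F) + 1 = 0 := by
    have h := hφ (1 + 1)
    rw [map_add, map_one] at h
    linear_combination -h
  have hN : ∀ x : F, x ≠ 0 → x * φ x = 1 := by
    intro x hx
    rw [hφ]
    have := FiniteField.pow_card_sub_one_eq_one x hx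
    rw [hF] at this
    linear_combination this
  have hσ : (fun x : F => x ^ 2) = ⇑φ := by
    funext x
    exact (hφ x).symm
  rw [hσ] at hT
  have hn₂ : n = 2 * n₂ := by
    have := Fintype.card_congr e
    simpa using this
  rw [tps_swap]
  have hT' := tensorForm_swap' (⇑φ) (Cfsg.hermForm n F 2) f₁ f₂ e P hT
  obtain ⟨e', he'⟩ : ∃ e' : Fin n ≃ Fin n₂ × Fin 2, e' = e.trans (Equiv.prodComm _ _) := ⟨_, rfl⟩
  rw [← he'] at hT' ⊢
  obtain ⟨P', c, hc0, htps, hform⟩ := exists_normal_form_u φ hφφ h2 hN hφ htr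
    (Cfsg.hermForm n F 2) f₂ f₁ hf₁ e' P hT'
  rw [← htps]
  obtain ⟨G₂, hG₂⟩ : ∃ G₂, G₂ = Cfsg.Geo.gramMatrix f₂ := ⟨_, rfl⟩
  rw [← hG₂] at hform
  have hherm : G₂ᵀ = G₂.map φ := by
    rw [hG₂]
    exact gram_herm φ hφ f₂ hf₂
  have hfB : ∀ x y, f₂ x y = Bh φ G₂ x y := by
    intro x y
    rw [hG₂]
    exact unit_eq_gram φ hφ f₂ hf₂ x y
  obtain ⟨u, hu0, huu⟩ := exists_isotropic φ hφφ h2 hN hφ htr (by omega : 2 ≤ n₂) f₂ hf₂
  obtain ⟨x₀, hx₀⟩ := (hf₂.nondegenerate u hu0).1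
  rw [hfB] at huu hx₀
  obtain ⟨K₀, hK1, hK2⟩ := core φ hφφ h2 hN G₂ hherm ⟨0, by omega⟩ u x₀ huu hx₀
  have hcomap : (Cfsg.GU n F 2 ⊓ Cfsg.Geo.specialLinear (Fin n) F).comap (Th e' P').toMonoidHom =
      Cfsg.preserving (Cfsg.glToMat (Fin n₂ × Fin 2) F)
          (Cfsg.Geo.formOfGram (⇑φ) (G₂ ⊗ₖ (1 : Matrix (Fin 2) (Fin 2) F))) ⊓
         Cfsg.Geo.specialLinear (Fin n₂ × Fin 2) F := by
    rw [Subgroup.comap_inf, comap_SL]
    congr 1
    ext g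
    rw [Subgroup.mem_comap]
    exact Th_mem_preserving e' P' (Cfsg.hermForm n F 2) _ c hc0 hform g
  apply sandwich e' P' (Cfsg.GU n F 2 ⊓ Cfsg.Geo.specialLinear (Fin n) F) K₀
  · rw [hcomap]
    exact hK1
  · rw [hcomap]
    exact hK2

end Cfsg.Agent.S5671
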