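import Mathlib
import Cfsg.Agent.Lib.Helper28.OrthRoot
import Cfsg.Agent.Lib.Helper2.OrthFrames3
set_option autoImplicit false
open Cfsg
namespace Cfsg.Agent.S5674
open Cfsg.Agent.Helper2.Orth Cfsg.Agent.Helper13 Cfsg.Agent.Helper28.OrthRoot

/-- Let F be a finite field of odd order, m ≥ 6, Q the standard quadratic form x₀² + Σ x_i y_i on F^(2m+1) and Ω the commutator subgroup of its isometry group inside GL_(2m+1)(F). The elements of Ω stabilising a non-zero subspace on which Q vanishes form a maximal subgroup of Ω. -/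
theorem result {F : Type*} [Field F] [Fintype F] (hodd : Odd (Fintype.card F)) (m : ℕ) (hm : 6 ≤ m) (W : Submodule F (Unit ⊕ (Fin m ⊕ Fin m) → F)) (hW0 : W ≠ ⊥) (hW : Cfsg.Geo.IsTotallySingularQuad (Cfsg.quadFormOdd m F) W) : Cfsg.Geo.IsMaximalIn (Cfsg.Geo.omegaGL (Cfsg.quadFormOdd m F)) (Cfsg.Geo.subspaceStabilizer W ⊓ Cfsg.Geo.omegaGL (Cfsg.quadFormOdd m F)) := by
  classical
  have h2 : (2 : F) ≠ 0 := by
    have hc : ringChar F ≠ 2 := by
      intro h
      have := FiniteField.even_card_of_char_two h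
      have := Nat.odd_iff.1 hodd
      omega
    exact Ring.two_ne_zero hc
  obtain ⟨k, rfl⟩ : ∃ k, m = k + 3 := ⟨m - 3, by omega⟩
  rw [quadFormOdd_eq] at hW ⊢
  have hcardι : Fintype.card (Unit ⊕ (Fin (k + 3) ⊕ Fin (k + 3))) = 2 * (k + 3) + 1 := by
    simp only [Fintype.card_sum, Fintype.card_fin, Fintype.card_unit]
    omega
  have hex : Fintype.card F ≠ 2 ∨ Fintype.card (Unit ⊕ (Fin (k + 3) ⊕ Fin (k + 3))) ≠ 4 := by
    right
    omega
  have hQ := nondeg_odd (F := F) (k + 3) h2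
  have fr2 := (hypFrame_odd (F := F) k).comp Fin.castSucc (Fin.castSucc_injective 2)
  have hΩ := Omega_eq_eichGroup hQ hex fr2
  have hwi : ∀ U : Submodule F (Unit ⊕ (Fin (k + 3) ⊕ Fin (k + 3)) → F),
      (∀ u ∈ U, matQ (oddMat (k + 3) F) u = 0) → Module.finrank F U ≤ k + 3 := by
    intro U hU
    have := two_mul_finrank_ts_le hQ U hU
    omega
  have hWle := hwi W hW
  exact maximal_ts hQ hΩ (k + 3) hwi (by omega) (by omega) W hW0 hW (by omega)

end Cfsg.Agent.S5674
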