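import Mathlib
import Cfsg.Agent.Lib.Helper28.OrthNondegGlue
import Cfsg.Agent.Lib.Helper2.OrthFrames3
set_option autoImplicit false
open Cfsg
namespace Cfsg.Agent.S5675
open Cfsg.Agent.Helper2.Orth Cfsg.Agent.Helper13 Cfsg.Agent.Helper28.OrthRoot
  Cfsg.Agent.Helper28.OrthNondeg Cfsg.Agent.Helper28.OrthNondegGlue

/-- Let F be a finite field of odd order q, m ≥ 6, Q the standard quadratic form on F^(2m+1) and Ω the commutator subgroup of its isometry group. Let W be a non-zero subspace of even dimension on which the polar form of Q is non-degenerate; exclude the case q = 3, dim W = 2 with Q vanishing on some line of W (a plus-type plane). Then the elements of Ω stabilising W (equivalently, stabilising its orthogonal complement, of odd dimension) form a maximal subgroup of Ω. -/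
theorem result {F : Type*} [Field F] [Fintype F] (hodd : Odd (Fintype.card F)) (m : ℕ) (hm : 6 ≤ m) (W : Submodule F (Unit ⊕ (Fin m ⊕ Fin m) → F)) (hW0 : W ≠ ⊥) (hev : Even (Module.finrank F W)) (hW : Cfsg.Geo.IsNondegenerateOn (QuadraticMap.polar (Cfsg.quadFormOdd m F)) W) (hex : ¬ (Fintype.card F = 3 ∧ Module.finrank F W = 2 ∧ Cfsg.Geo.IsPlusTypeOn (Cfsg.quadFormOdd m F) W)) : Cfsg.Geo.IsMaximalIn (Cfsg.Geo.omegaGL (Cfsg.quadFormOdd m F)) (Cfsg.Geo.subspaceStabilizer W ⊓ Cfsg.Geo.omegaGL (Cfsg.quadFormOdd m F)) := by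
  classical
  have h2 : (2 : F) ≠ 0 := by
    have hc : ringChar F ≠ 2 := by
      intro h
      have := FiniteField.even_card_of_char_two h
      have := Nat.odd_iff.1 hodd
      omega
    exact Ring.two_ne_zero hc
  obtain ⟨k, rfl⟩ : ∃ k, m = k + 3 := ⟨m - 3, by omega⟩
  rw [quadFormOdd_eq] at hW hex ⊢
  have hcardι : Fintype.card (Unit ⊕ (Fin (k + 3) ⊕ Fin (k + 3))) = 2 * (k + 3) + 1 := by
    simp only [Fintype.card_sum, Fintype.card_fin, Fintype.card_unit]
    omega
  have hexc4 : Fintype.card F ≠ 2 ∨ Fintype.card (Unit ⊕ (Fin (k + 3) ⊕ Fin (k + 3))) ≠ 4 := by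
    right
    omega
  have hQ := nondeg_odd (F := F) (k + 3) h2
  have fr2 := (hypFrame_odd (F := F) k).comp Fin.castSucc (Fin.castSucc_injective 2)
  have hΩ := Omega_eq_eichGroup hQ hexc4 fr2
  obtain ⟨hWU, hdec, hsum⟩ := compl_data hQ W hW
  rw [hcardι] at hsum
  obtain ⟨r, hr⟩ := hev
  have hq3 : Fintype.card F ≤ 3 → Fintype.card F = 3 := by
    intro h
    have h1 : 1 < Fintype.card F := Fintype.one_lt_card
    have := Nat.odd_iff.1 hodd
    omega
  by_cases hcase : Module.finrank F W ≤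
      Module.finrank F (LinearMap.BilinForm.orthogonal (QuadraticMap.polarBilin
        (matQ (oddMat (k + 3) F))) W)
  · have hW0' : ∃ w ∈ W, w ≠ 0 := Submodule.exists_mem_ne_zero_of_ne_bot hW0
    exact (maximal_nondeg hQ hΩ hexc4 W _ hWU hdec (by omega) (by omega) hW0'
      (no_map_of_finrank_lt _ _ (by omega)) (by
        rintro ⟨hc, hle, s, hs, hs0, hsQ⟩
        have h2' := finrank_eq_two_of_sing W (nondeg_left hQ W _ hWU hdec) hs hs0 hsQ hle
        exact hex ⟨hq3 hc, h2', plusType_of_sing W hs hs0 hsQ h2'⟩)).1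
  · have hWU' : ∀ w ∈ LinearMap.BilinForm.orthogonal (QuadraticMap.polarBilin
        (matQ (oddMat (k + 3) F))) W, ∀ u ∈ W,
        QuadraticMap.polar (matQ (oddMat (k + 3) F)) w u = 0 := by
      intro w hw u hu
      rw [QuadraticMap.polar_comm]
      exact hWU u hu w hw
    have hdec' : ∀ v : Unit ⊕ (Fin (k + 3) ⊕ Fin (k + 3)) → F,
        ∃ w ∈ LinearMap.BilinForm.orthogonal (QuadraticMap.polarBilin
          (matQ (oddMat (k + 3) F))) W, ∃ u ∈ W, v = w + u := by
      intro v
      obtain ⟨w, hw, u, hu, hv⟩ := hdec v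
      exact ⟨u, hu, w, hw, hv.trans (add_comm w u)⟩
    have hU0 : ∃ w ∈ LinearMap.BilinForm.orthogonal (QuadraticMap.polarBilin
        (matQ (oddMat (k + 3) F))) W, w ≠ 0 := by
      have hpos : 0 < Module.finrank F (LinearMap.BilinForm.orthogonal
          (QuadraticMap.polarBilin (matQ (oddMat (k + 3) F))) W) := by omega
      obtain ⟨⟨w, hw⟩, hw0⟩ := Module.finrank_pos_iff_exists_ne_zero.mp hpos
      exact ⟨w, hw, fun h => hw0 (Subtype.ext h)⟩
    exact (maximal_nondeg hQ hΩ hexc4 _ W hWU' hdec' (by omega) (by omega) hU0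
      (no_map_of_finrank_lt _ _ (by omega)) (by
        rintro ⟨hc, hle, s, hs, hs0, hsQ⟩
        have h2' := finrank_eq_two_of_sing _ (nondeg_left hQ _ W hWU' hdec') hs hs0 hsQ hle
        omega)).2

end Cfsg.Agent.S5675
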