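import Mathlib
import Cfsg.Statements.S5676
import Cfsg.Agent.Lib.Helper17.OmegaPlane
import Cfsg.Agent.S2614

set_option autoImplicit false
open Cfsg

namespace Cfsg.Agent.S5676

/-- Let F be the field with 3 elements, m ≥ 6, Q the standard quadratic form on F^(2m+1) and Ω the commutator subgroup of its isometry group. Let W be a 2-dimensional subspace on which the polar form is non-degenerate and which contains a line on which Q vanishes. Then the elements of Ω stabilising W form a subgroup that is not maximal: some subgroup lies strictly between it and Ω. -/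
theorem result {F : Type*} [Field F] [Fintype F] (hq : Fintype.card F = 3) (m : ℕ) (hm : 6 ≤ m) (W : Submodule F (Unit ⊕ (Fin m ⊕ Fin m) → F)) (hdim : Module.finrank F W = 2) (hW : Cfsg.Geo.IsNondegenerateOn (QuadraticMap.polar (Cfsg.quadFormOdd m F)) W) (hplus : Cfsg.Geo.IsPlusTypeOn (Cfsg.quadFormOdd m F) W) : ∃ K : Subgroup (Matrix.GeneralLinearGroup (Unit ⊕ (Fin m ⊕ Fin m)) F), Cfsg.Geo.subspaceStabilizer W ⊓ Cfsg.Geo.omegaGL (Cfsg.quadFormOdd m F) < K ∧ K < Cfsg.Geo.omegaGL (Cfsg.quadFormOdd m F) := by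
  classical
  have hQeq : Cfsg.quadFormOdd m F = ⇑(Cfsg.Agent.Helper13.matQ (Cfsg.Agent.S2614.oddMat m F)) := by
    funext v
    rw [Cfsg.Agent.S2614.matQ_oddMat]; rfl
  rw [hQeq] at hW hplus ⊢
  have h2 : (2 : F) ≠ 0 := by
    intro h
    have h3 : ((Fintype.card F : ℕ) : F) = 0 := Nat.cast_card_eq_zero F
    rw [hq] at h3
    have h1 : (1 : F) = 0 := by
      have : ((3 : ℕ) : F) = 2 + 1 := by norm_num
      rw [this, h, zero_add] at h3
      exact h3
    exact one_ne_zero h1
  have hnd : (QuadraticMap.polarBilin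
      (Cfsg.Agent.Helper13.matQ (Cfsg.Agent.S2614.oddMat m F))).Nondegenerate := by
    apply Cfsg.Agent.Helper13.matQ_nondeg
    rw [Cfsg.Agent.S2614.oddMat_det]
    exact mul_ne_zero h2 (pow_ne_zero _ (neg_ne_zero.2 one_ne_zero))
  have hqq : ∀ α : F, α ≠ 0 → α * α = 1 := by
    intro α hα
    have h := FiniteField.pow_card_sub_one_eq_one α hα
    rw [hq] at h
    rw [← pow_two]; exact h
  have hWnd : W ⊓ LinearMap.BilinForm.orthogonal
      (QuadraticMap.polarBilin (Cfsg.Agent.Helper13.matQ (Cfsg.Agent.S2614.oddMat m F))) W = ⊥ := by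
    rw [eq_bot_iff]
    rintro w ⟨hw1, hw2⟩
    rw [Submodule.mem_bot]
    by_contra hw0
    obtain ⟨⟨x, hxW, hx⟩, -⟩ := hW w hw1 hw0
    apply hx
    exact (Cfsg.Agent.Helper17.Spinor.mem_orthogonal_iff'
      (Cfsg.Agent.Helper13.matQ (Cfsg.Agent.S2614.oddMat m F)) W w).1 hw2 x hxW
  obtain ⟨U, hUW, hUts, hU2⟩ := hplus
  have hU1 : Module.finrank F U = 1 := by omega
  obtain ⟨e, heU, he0⟩ : ∃ e ∈ U, e ≠ 0 := by
    apply Submodule.exists_mem_ne_zero_of_ne_bot
    intro h
    rw [h, finrank_bot] at hU1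
    omega
  exact Cfsg.Agent.Helper17.OmegaElts.exists_between_hyp_plane
    (Cfsg.Agent.Helper13.matQ (Cfsg.Agent.S2614.oddMat m F)) hnd
    (by simp only [Fintype.card_sum, Fintype.card_unit, Fintype.card_fin]; omega)
    hqq hdim hWnd (hUW heU) he0 (hUts e heU)

end Cfsg.Agent.S5676
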