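import Mathlib
import Cfsg.Agent.Lib.Helper28.OrSubI
import Cfsg.Agent.Lib.Helper2.OrthOrders
set_option autoImplicit false
open Cfsg
namespace Cfsg.Agent.S5683
open Cfsg.Agent.Helper2.Orth Cfsg.Agent.Helper13

/-- Let F be a finite field of odd order, m ≥ 6, Q the standard quadratic form on F^(2m+1) and Ω the commutator subgroup of its isometry group. Let F₀ be a subfield with |F| = |F₀| ^ r for a prime r and P an invertible matrix such that Q takes values in F₀ on the F₀-span of the columns of P. Then the elements of Ω lying in the subfield group of P (the conjugate by P of the product of GL_(2m+1)(F₀) with the scalars) form a maximal subgroup of Ω. -/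
theorem result {F : Type*} [Field F] [Fintype F] (hodd : Odd (Fintype.card F)) (m : ℕ) (hm : 6 ≤ m) (F₀ : Subfield F) (r : ℕ) (hr : r.Prime) (hcard : Fintype.card F = Nat.card F₀ ^ r) (P : Matrix.GeneralLinearGroup (Unit ⊕ (Fin m ⊕ Fin m)) F) (hP : Cfsg.Geo.IsQuadFormRationalStructure (Cfsg.quadFormOdd m F) F₀ P) : Cfsg.Geo.IsMaximalIn (Cfsg.Geo.omegaGL (Cfsg.quadFormOdd m F)) (Cfsg.Geo.subfieldSubgroup F₀ P ⊓ Cfsg.Geo.omegaGL (Cfsg.quadFormOdd m F)) := by
  classical
  have h2 : (2 : F) ≠ 0 := by
    have hc : ringChar F ≠ 2 := by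
      intro h
      have := FiniteField.even_card_of_char_two h
      have := Nat.odd_iff.1 hodd
      omega
    exact Ring.two_ne_zero hc
  rw [quadFormOdd_eq] at hP ⊢
  have hcardι : Fintype.card (Unit ⊕ (Fin m ⊕ Fin m)) = 2 * m + 1 := by
    simp only [Fintype.card_sum, Fintype.card_fin, Fintype.card_unit]
    omega
  have hP' : Cfsg.Geo.IsQuadFormRationalStructure
      (fun v : Unit ⊕ (Fin m ⊕ Fin m) → F => (1 : F) * matQ (oddMat m F) v) F₀ P := by
    intro u hu
    beta_reduce
    rw [one_mul]
    exact hP u hu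
  exact Cfsg.Agent.H28OrSub.main_general (matQ (oddMat m F)) (nondeg_odd (F := F) m h2)
    (by rw [hcardι]; omega) F₀ r hr hcard P 1 one_ne_zero hP'

end Cfsg.Agent.S5683
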