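import Mathlib
import Cfsg.Agent.Lib.Helper28.OrthRootEven
set_option autoImplicit false
open Cfsg
namespace Cfsg.Agent.S5687
open Cfsg.Agent.Helper28.OrthRoot Cfsg.Agent.Helper28.OrthRootEven Cfsg.Agent.Helper17.OmegaElts

/-- Let F be a finite field with q elements, n ≥ 13 even, Q a non-degenerate quadratic form on F^n of minus type (no subspace of dimension n/2 is totally singular), and Ω the commutator subgroup of the isometry group of Q, viewed inside GL_n(F). The elements of Ω stabilising a non-zero subspace on which Q vanishes form a maximal subgroup of Ω. -/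
theorem result {F : Type*} [Field F] [Fintype F] {n : ℕ} (hn : 13 ≤ n) (heven : Even n) (Q : (Fin n → F) → F) (hQ : Cfsg.Geo.IsNondegenerateQuadraticForm Q) (hminus : ¬ Cfsg.Geo.IsPlusTypeOn Q ⊤) (W : Submodule F (Fin n → F)) (hW0 : W ≠ ⊥) (hW : Cfsg.Geo.IsTotallySingularQuad Q W) : Cfsg.Geo.IsMaximalIn (Cfsg.Geo.omegaGL Q) (Cfsg.Geo.subspaceStabilizer W ⊓ Cfsg.Geo.omegaGL Q) := by
  classical
  have hQ' := toQF_nondeg Q hQ
  have hΩ := omega_eq_eich_even (toQF Q hQ) hQ' (by omega) heven
  obtain ⟨r, hr⟩ := heven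
  have hwi : ∀ U : Submodule F (Fin n → F), (∀ u ∈ U, toQF Q hQ u = 0) →
      Module.finrank F U ≤ r - 1 := by
    intro U hU
    have h1 := two_mul_finrank_ts_le hQ' U hU
    rw [Fintype.card_fin] at h1
    by_contra hcon
    have h2 : Module.finrank F U = r := by omega
    apply hminus
    refine ⟨U, le_top, hU, ?_⟩
    rw [finrank_top, Module.finrank_fintype_fun_eq_card, Fintype.card_fin, h2, hr]
    ring
  have hWle := hwi W hW
  have h := maximal_ts hQ' hΩ (r - 1) hwi (by rw [Fintype.card_fin]; omega)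
    (by rw [Fintype.card_fin]; omega) W hW0 hW (by rw [Fintype.card_fin]; omega)
  exact h

end Cfsg.Agent.S5687
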