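import Mathlib
import Cfsg.Agent.Lib.Helper28.OrthNondegGlue
set_option autoImplicit false
open Cfsg
namespace Cfsg.Agent.S5688
open Cfsg.Agent.Helper28.OrthRoot Cfsg.Agent.Helper28.OrthRootEven Cfsg.Agent.Helper17.OmegaElts
  Cfsg.Agent.Helper28.OrthNondeg Cfsg.Agent.Helper28.OrthNondegGlue Cfsg.Agent.Helper2.Orth

/-- Let F be a finite field with q elements, n ≥ 13 even, Q a non-degenerate quadratic form on F^n of plus type (some subspace of dimension n/2 is totally singular), and Ω the commutator subgroup of the isometry group of Q, viewed inside GL_n(F). Let W be a non-zero proper subspace with dim W ≠ n/2 on which the polar form of Q is non-degenerate. Exclude the case q ≤ 3 in which W, or its orthogonal complement, is a plane containing a line on which Q vanishes. Then the elements of Ω stabilising W form a maximal subgroup of Ω. -/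
theorem result {F : Type*} [Field F] [Fintype F] {n : ℕ} (hn : 13 ≤ n) (heven : Even n) (Q : (Fin n → F) → F) (hQ : Cfsg.Geo.IsNondegenerateQuadraticForm Q) (hplus : Cfsg.Geo.IsPlusTypeOn Q ⊤) (W : Submodule F (Fin n → F)) (hW0 : W ≠ ⊥) (hW1 : W ≠ ⊤) (hdim : 2 * Module.finrank F W ≠ n) (hW : Cfsg.Geo.IsNondegenerateOn (QuadraticMap.polar Q) W) (hex : ¬ (Fintype.card F ≤ 3 ∧ (∃ U : Submodule F (Fin n → F), Module.finrank F U = 2 ∧ Cfsg.Geo.IsNondegenerateOn (QuadraticMap.polar Q) U ∧ Cfsg.Geo.IsPlusTypeOn Q U ∧ (U = W ∨ (Cfsg.Geo.AreOrthogonalFor (QuadraticMap.polar Q) U W ∧ Module.finrank F U + Module.finrank F W = n))))) : Cfsg.Geo.IsMaximalIn (Cfsg.Geo.omegaGL Q) (Cfsg.Geo.subspaceStabilizer W ⊓ Cfsg.Geo.omegaGL Q) := by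
  classical
  have hQ' := toQF_nondeg Q hQ
  have hΩ := omega_eq_eich_even (toQF Q hQ) hQ' (by omega) heven
  have hex4 : Fintype.card F ≠ 2 ∨ Fintype.card (Fin n) ≠ 4 := by
    right; rw [Fintype.card_fin]; omega
  obtain ⟨hWU, hdec, hsum⟩ := compl_data (Q := toQF Q hQ) hQ' W hW
  rw [Fintype.card_fin] at hsum
  have hWlt : Module.finrank F W < n := by
    have hle := Submodule.finrank_le W
    rw [Module.finrank_fintype_fun_eq_card, Fintype.card_fin] at hle
    rcases Nat.lt_or_ge (Module.finrank F W) n with h | h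
    · exact h
    · exfalso
      apply hW1
      apply Submodule.eq_top_of_finrank_eq
      rw [Module.finrank_fintype_fun_eq_card, Fintype.card_fin]
      omega
  by_cases hcase : Module.finrank F W <
      Module.finrank F (LinearMap.BilinForm.orthogonal (QuadraticMap.polarBilin (toQF Q hQ)) W)
  · have hW0' : ∃ w ∈ W, w ≠ 0 := Submodule.exists_mem_ne_zero_of_ne_bot hW0
    exact (maximal_nondeg hQ' hΩ hex4 W _ hWU hdec (by omega)
      (by rw [Fintype.card_fin]; omega) hW0'
      (no_map_of_finrank_lt _ _ hcase) (by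
        rintro ⟨hc, hle, s, hs, hs0, hsQ⟩
        have h2' := finrank_eq_two_of_sing W (nondeg_left hQ' W _ hWU hdec) hs hs0 hsQ hle
        exact hex ⟨hc, W, h2', hW, plusType_of_sing (Q := toQF Q hQ) W hs hs0 hsQ h2',
          Or.inl rfl⟩)).1
  · have hWU' : ∀ w ∈ LinearMap.BilinForm.orthogonal (QuadraticMap.polarBilin (toQF Q hQ)) W,
        ∀ u ∈ W, QuadraticMap.polar (toQF Q hQ) w u = 0 := by
      intro w hw u hu
      rw [QuadraticMap.polar_comm]
      exact hWU u hu w hw
    have hdec' : ∀ v : Fin n → F,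
        ∃ w ∈ LinearMap.BilinForm.orthogonal (QuadraticMap.polarBilin (toQF Q hQ)) W,
          ∃ u ∈ W, v = w + u := by
      intro v
      obtain ⟨w, hw, u, hu, hv⟩ := hdec v
      exact ⟨u, hu, w, hw, hv.trans (add_comm w u)⟩
    have hU0 : ∃ w ∈ LinearMap.BilinForm.orthogonal (QuadraticMap.polarBilin (toQF Q hQ)) W,
        w ≠ 0 := by
      have hpos : 0 < Module.finrank F (LinearMap.BilinForm.orthogonal
          (QuadraticMap.polarBilin (toQF Q hQ)) W) := by omega
      obtain ⟨⟨w, hw⟩, hw0⟩ := Module.finrank_pos_iff_exists_ne_zero.mp hpos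
      exact ⟨w, hw, fun h => hw0 (Subtype.ext h)⟩
    exact (maximal_nondeg hQ' hΩ hex4 _ W hWU' hdec' (by omega)
      (by rw [Fintype.card_fin]; omega) hU0
      (no_map_of_finrank_lt _ _ (by omega)) (by
        rintro ⟨hc, hle, s, hs, hs0, hsQ⟩
        have hnd := nondeg_left hQ' _ W hWU' hdec'
        have h2' := finrank_eq_two_of_sing _ hnd hs hs0 hsQ hle
        exact hex ⟨hc, _, h2', nondegOn_of (Q := toQF Q hQ) _ hnd,
          plusType_of_sing (Q := toQF Q hQ) _ hs hs0 hsQ h2',
          Or.inr ⟨hWU', by omega⟩⟩)).2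

end Cfsg.Agent.S5688
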