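import Mathlib
import Cfsg.Agent.Lib.Helper28.OrthNondegGlue
import Cfsg.Agent.Lib.Helper28.OrthNegSim
set_option autoImplicit false
open Cfsg
namespace Cfsg.Agent.S5689
open Cfsg.Agent.Helper28.OrthRoot Cfsg.Agent.Helper28.OrthRootEven Cfsg.Agent.Helper17.OmegaElts
  Cfsg.Agent.Helper28.OrthNondeg Cfsg.Agent.Helper28.OrthNondegGlue Cfsg.Agent.Helper2.Orth
  Cfsg.Agent.Helper28.OrthNegSim

/-- two orthogonal isometric halves of even dimension force plus type -/
theorem plus_of_isometric_halves {F : Type*} [Field F] [Fintype F] {ι : Type} [Fintype ι]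
    [DecidableEq ι] {Q : QuadraticForm F (ι → F)}
    (hQ : (QuadraticMap.polarBilin Q).Nondegenerate) (W U : Submodule F (ι → F))
    (hWU : ∀ w ∈ W, ∀ u ∈ U, QuadraticMap.polar Q w u = 0)
    (hdec : ∀ v : ι → F, ∃ w ∈ W, ∃ u ∈ U, v = w + u)
    (hev : Even (Module.finrank F U))
    (g : Cfsg.isometryGroup F (⇑Q)) (hg : ∀ u ∈ U, g • u ∈ W) :
    ∃ T : Submodule F (ι → F), (∀ t ∈ T, Q t = 0) ∧ Module.finrank F T = Module.finrank F U := by
  classical
  have hnd : ∀ v : U, (∀ v' : U, QuadraticMap.polar (Q.comp U.subtype) v v' = 0) → v = 0 := by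
    intro v hv
    apply Subtype.ext
    apply nondeg_right hQ W U hWU hdec v.1 v.2
    intro u' hu'
    have := hv ⟨u', hu'⟩
    simp only [QuadraticMap.polar, QuadraticMap.comp_apply, Submodule.subtype_apply,
      map_add] at this
    simp only [QuadraticMap.polar]
    exact this
  obtain ⟨σ, hσ⟩ := exists_neg_sim (Q.comp U.subtype) hnd hev
  let τ : U →ₗ[F] (ι → F) := U.subtype ∘ₗ σ + W.subtype ∘ₗ (resMap g W U hg)
  have hτ : ∀ u : U, τ u = (σ u : ι → F) + g • (u : ι → F) := fun u => rfl
  refine ⟨LinearMap.range τ, ?_, ?_⟩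
  · rintro t ⟨u, rfl⟩
    rw [hτ, Q_add' Q, Q_smul Q]
    have h1 : Q (σ u : ι → F) = - Q (u : ι → F) := hσ u
    have h2 : QuadraticMap.polar Q (σ u : ι → F) (g • (u : ι → F)) = 0 := by
      rw [QuadraticMap.polar_comm]
      exact hWU _ (hg u u.2) _ (σ u).2
    rw [h1, h2]
    ring
  · apply LinearMap.finrank_range_of_inj
    rw [← LinearMap.ker_eq_bot, LinearMap.ker_eq_bot']
    intro u hu
    rw [hτ] at hu
    have h1 : (σ u : ι → F) = - (g • (u : ι → F)) := eq_neg_of_add_eq_zero_left hu
    have h2 : (σ u : ι → F) ∈ W := by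
      rw [h1]
      exact W.neg_mem (hg u u.2)
    have h3 : (σ u : ι → F) = 0 := inter_eq_zero hQ W U hWU hdec _ h2 (σ u).2
    rw [h3, zero_add] at hu
    apply Subtype.ext
    have : g • (u : ι → F) = g • (0 : ι → F) := by rw [hu, smul_zero]
    exact smul_left_cancel' g this

/-- Let F be a finite field with q elements, n ≥ 13 even, Q a non-degenerate quadratic form on F^n of minus type (no subspace of dimension n/2 is totally singular), and Ω the commutator subgroup of the isometry group of Q, viewed inside GL_n(F). Let W be a non-zero proper subspace on which the polar form of Q is non-degenerate, not of odd dimension n/2. Exclude the case q ≤ 3 in which W, or its orthogonal complement, is a plane containing a line on which Q vanishes. Then the elements of Ω stabilising W form a maximal subgroup of Ω. -/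
theorem result {F : Type*} [Field F] [Fintype F] {n : ℕ} (hn : 13 ≤ n) (heven : Even n) (Q : (Fin n → F) → F) (hQ : Cfsg.Geo.IsNondegenerateQuadraticForm Q) (hminus : ¬ Cfsg.Geo.IsPlusTypeOn Q ⊤) (W : Submodule F (Fin n → F)) (hW0 : W ≠ ⊥) (hW1 : W ≠ ⊤) (hdim : ¬ (2 * Module.finrank F W = n ∧ Odd (Module.finrank F W))) (hW : Cfsg.Geo.IsNondegenerateOn (QuadraticMap.polar Q) W) (hex : ¬ (Fintype.card F ≤ 3 ∧ (∃ U : Submodule F (Fin n → F), Module.finrank F U = 2 ∧ Cfsg.Geo.IsNondegenerateOn (QuadraticMap.polar Q) U ∧ Cfsg.Geo.IsPlusTypeOn Q U ∧ (U = W ∨ (Cfsg.Geo.AreOrthogonalFor (QuadraticMap.polar Q) U W ∧ Module.finrank F U + Module.finrank F W = n))))) : Cfsg.Geo.IsMaximalIn (Cfsg.Geo.omegaGL Q) (Cfsg.Geo.subspaceStabilizer W ⊓ Cfsg.Geo.omegaGL Q) := by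
  classical
  have hQ' := toQF_nondeg Q hQ
  have hΩ := omega_eq_eich_even (toQF Q hQ) hQ' (by omega) heven
  have hex4 : Fintype.card F ≠ 2 ∨ Fintype.card (Fin n) ≠ 4 := by
    right; rw [Fintype.card_fin]; omega
  obtain ⟨hWU, hdec, hsum⟩ := compl_data (Q := toQF Q hQ) hQ' W hW
  rw [Fintype.card_fin] at hsum
  have hWlt : Module.finrank F W < n := by
    have hle := Submodule.finrank_le W
    rw [Module.finrank_fintype_fun_eq_card, Fintype.card_fin] at hle
    rcases Nat.lt_or_ge (Module.finrank F W) n with h | h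
    · exact h
    · exfalso
      apply hW1
      apply Submodule.eq_top_of_finrank_eq
      rw [Module.finrank_fintype_fun_eq_card, Fintype.card_fin]
      omega
  by_cases hcase : Module.finrank F W ≤
      Module.finrank F (LinearMap.BilinForm.orthogonal (QuadraticMap.polarBilin (toQF Q hQ)) W)
  · have hW0' : ∃ w ∈ W, w ≠ 0 := Submodule.exists_mem_ne_zero_of_ne_bot hW0
    have hno : ¬ ∃ g : Cfsg.isometryGroup F (⇑(toQF Q hQ)),
        ∀ u ∈ LinearMap.BilinForm.orthogonal (QuadraticMap.polarBilin (toQF Q hQ)) W,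
          g • u ∈ W := by
      rcases Nat.lt_or_ge (Module.finrank F W) (Module.finrank F
        (LinearMap.BilinForm.orthogonal (QuadraticMap.polarBilin (toQF Q hQ)) W)) with hlt | hge
      · exact no_map_of_finrank_lt _ _ hlt
      · rintro ⟨g, hg⟩
        have heq : 2 * Module.finrank F W = n := by omega
        have hevU : Even (Module.finrank F
            (LinearMap.BilinForm.orthogonal (QuadraticMap.polarBilin (toQF Q hQ)) W)) := by
          have hne : ¬ Odd (Module.finrank F W) := fun ho => hdim ⟨heq, ho⟩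
          rw [Nat.not_odd_iff_even] at hne
          have : Module.finrank F (LinearMap.BilinForm.orthogonal
            (QuadraticMap.polarBilin (toQF Q hQ)) W) = Module.finrank F W := by omega
          rw [this]
          exact hne
        obtain ⟨T, hT, hTdim⟩ := plus_of_isometric_halves hQ' W _ hWU hdec hevU g hg
        apply hminus
        refine ⟨T, le_top, hT, ?_⟩
        rw [finrank_top, Module.finrank_fintype_fun_eq_card, Fintype.card_fin, hTdim]
        omega
    exact (maximal_nondeg hQ' hΩ hex4 W _ hWU hdec (by omega)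
      (by rw [Fintype.card_fin]; omega) hW0' hno (by
        rintro ⟨hc, hle, s, hs, hs0, hsQ⟩
        have h2' := finrank_eq_two_of_sing W (nondeg_left hQ' W _ hWU hdec) hs hs0 hsQ hle
        exact hex ⟨hc, W, h2', hW, plusType_of_sing (Q := toQF Q hQ) W hs hs0 hsQ h2',
          Or.inl rfl⟩)).1
  · have hWU' : ∀ w ∈ LinearMap.BilinForm.orthogonal (QuadraticMap.polarBilin (toQF Q hQ)) W,
        ∀ u ∈ W, QuadraticMap.polar (toQF Q hQ) w u = 0 := by
      intro w hw u hu
      rw [QuadraticMap.polar_comm]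
      exact hWU u hu w hw
    have hdec' : ∀ v : Fin n → F,
        ∃ w ∈ LinearMap.BilinForm.orthogonal (QuadraticMap.polarBilin (toQF Q hQ)) W,
          ∃ u ∈ W, v = w + u := by
      intro v
      obtain ⟨w, hw, u, hu, hv⟩ := hdec v
      exact ⟨u, hu, w, hw, hv.trans (add_comm w u)⟩
    have hU0 : ∃ w ∈ LinearMap.BilinForm.orthogonal (QuadraticMap.polarBilin (toQF Q hQ)) W,
        w ≠ 0 := by
      have hpos : 0 < Module.finrank F (LinearMap.BilinForm.orthogonal
          (QuadraticMap.polarBilin (toQF Q hQ)) W) := by omega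
      obtain ⟨⟨w, hw⟩, hw0⟩ := Module.finrank_pos_iff_exists_ne_zero.mp hpos
      exact ⟨w, hw, fun h => hw0 (Subtype.ext h)⟩
    exact (maximal_nondeg hQ' hΩ hex4 _ W hWU' hdec' (by omega)
      (by rw [Fintype.card_fin]; omega) hU0
      (no_map_of_finrank_lt _ _ (by omega)) (by
        rintro ⟨hc, hle, s, hs, hs0, hsQ⟩
        have hnd := nondeg_left hQ' _ W hWU' hdec'
        have h2' := finrank_eq_two_of_sing _ hnd hs hs0 hsQ hle
        exact hex ⟨hc, _, h2', nondegOn_of (Q := toQF Q hQ) _ hnd,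
          plusType_of_sing (Q := toQF Q hQ) _ hs hs0 hsQ h2',
          Or.inr ⟨hWU', by omega⟩⟩)).2

end Cfsg.Agent.S5689
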