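import Mathlib
import Cfsg.Statements.S5690
import Cfsg.Agent.Lib.Helper17.OmegaPlane

set_option autoImplicit false
open Cfsg

namespace Cfsg.Agent.S5690

/-- Let F be a finite field with q elements, n ≥ 13 even, Q a non-degenerate quadratic form on F^n (of either type), and Ω the commutator subgroup of the isometry group of Q, viewed inside GL_n(F). Suppose q ≤ 3 and W is a plane on which the polar form is non-degenerate and which contains a line on which Q vanishes. Then the elements of Ω stabilising W form a subgroup that is not maximal: some subgroup lies strictly between it and Ω. -/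
theorem result {F : Type*} [Field F] [Fintype F] {n : ℕ} (hn : 13 ≤ n) (heven : Even n) (Q : (Fin n → F) → F) (hQ : Cfsg.Geo.IsNondegenerateQuadraticForm Q) (hq : Fintype.card F ≤ 3) (W : Submodule F (Fin n → F)) (hdim : Module.finrank F W = 2) (hW : Cfsg.Geo.IsNondegenerateOn (QuadraticMap.polar Q) W) (hWp : Cfsg.Geo.IsPlusTypeOn Q W) : ∃ K : Subgroup (Matrix.GeneralLinearGroup (Fin n) F), Cfsg.Geo.subspaceStabilizer W ⊓ Cfsg.Geo.omegaGL Q < K ∧ K < Cfsg.Geo.omegaGL Q := by
  have hqq : ∀ α : F, α ≠ 0 → α * α = 1 := by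
    intro α hα
    have h := FiniteField.pow_card_sub_one_eq_one α hα
    have hc : Fintype.card F = 2 ∨ Fintype.card F = 3 := by
      have := Fintype.one_lt_card (α := F)
      omega
    rcases hc with hc | hc
    · rw [hc] at h
      simp only [Nat.add_one_sub_one, pow_one] at h
      rw [h]; ring
    · rw [hc] at h
      rw [← pow_two]; exact h
  have hWnd : W ⊓ LinearMap.BilinForm.orthogonal
      (QuadraticMap.polarBilin (Cfsg.Agent.Helper17.OmegaElts.toQF Q hQ)) W = ⊥ := by
    rw [eq_bot_iff]
    rintro w ⟨hw1, hw2⟩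
    rw [Submodule.mem_bot]
    by_contra hw0
    obtain ⟨⟨x, hxW, hx⟩, -⟩ := hW w hw1 hw0
    apply hx
    exact (Cfsg.Agent.Helper17.Spinor.mem_orthogonal_iff'
      (Cfsg.Agent.Helper17.OmegaElts.toQF Q hQ) W w).1 hw2 x hxW
  obtain ⟨U, hUW, hUts, hU2⟩ := hWp
  have hU1 : Module.finrank F U = 1 := by omega
  obtain ⟨e, heU, he0⟩ : ∃ e ∈ U, e ≠ 0 := by
    apply Submodule.exists_mem_ne_zero_of_ne_bot
    intro h
    rw [h, finrank_bot] at hU1
    omega
  exact Cfsg.Agent.Helper17.OmegaElts.exists_between_hyp_plane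
    (Cfsg.Agent.Helper17.OmegaElts.toQF Q hQ) (Cfsg.Agent.Helper17.OmegaElts.toQF_nondeg Q hQ)
    (by rw [Fintype.card_fin]; omega) hqq hdim hWnd (hUW heU) he0 (hUts e heU)

end Cfsg.Agent.S5690
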