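import Mathlib
import Cfsg.Agent.Lib.Helper28.OrthNonsingPt
set_option autoImplicit false
open Cfsg
namespace Cfsg.Agent.S5691
open Cfsg.Agent.Helper28.OrthRoot Cfsg.Agent.Helper28.OrthRootEven Cfsg.Agent.Helper17.OmegaElts
  Cfsg.Agent.Helper28.OrthNonsingPt

/-- Let F be a finite field with q elements, n ≥ 13 even, Q a non-degenerate quadratic form on F^n (of either type), and Ω the commutator subgroup of the isometry group of Q, viewed inside GL_n(F). Suppose q is even and v is a vector with Q(v) ≠ 0. Then the elements of Ω stabilising the line spanned by v form a maximal subgroup of Ω. -/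
theorem result {F : Type*} [Field F] [Fintype F] {n : ℕ} (hn : 13 ≤ n) (heven : Even n) (Q : (Fin n → F) → F) (hQ : Cfsg.Geo.IsNondegenerateQuadraticForm Q) (hchar : ¬ Odd (Fintype.card F)) (v : (Fin n → F)) (hv : Q v ≠ 0) : Cfsg.Geo.IsMaximalIn (Cfsg.Geo.omegaGL Q) (Cfsg.Geo.subspaceStabilizer (Submodule.span F {v}) ⊓ Cfsg.Geo.omegaGL Q) := by
  classical
  have hQ' := toQF_nondeg Q hQ
  have hΩ := omega_eq_eich_even (toQF Q hQ) hQ' (by omega) heven
  have h2 : (2 : F) = 0 := by
    by_contra h
    apply hchar
    rw [Nat.odd_iff]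
    apply FiniteField.odd_card_of_char_ne_two
    intro hc
    apply h
    have : CharP F 2 := by
      rw [← hc]
      exact ringChar.charP F
    exact_mod_cast CharP.cast_eq_zero F 2
  obtain ⟨r, hr⟩ := heven
  have hwi : ∀ U : Submodule F (Fin n → F), (∀ u ∈ U, toQF Q hQ u = 0) →
      Module.finrank F U ≤ r := by
    intro U hU
    have := two_mul_finrank_ts_le hQ' U hU
    rw [Fintype.card_fin] at this
    omega
  have h := maximal_nonsing hQ' h2 hΩ r hwi (by rw [Fintype.card_fin]; omega)
    (by rw [Fintype.card_fin]; omega) v hv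
  exact h

end Cfsg.Agent.S5691
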