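import Mathlib
import Cfsg.Agent.Lib.Helper28.OrthTsPair
set_option autoImplicit false
open Cfsg
namespace Cfsg.Agent.S5697
open Cfsg.Agent.Helper28.OrthRoot Cfsg.Agent.Helper28.OrthRootEven Cfsg.Agent.Helper17.OmegaElts
  Cfsg.Agent.Helper28.OrthTsPair Cfsg.Agent.Helper2.Orth

/-- Let F be a finite field with q elements, n ≥ 13 even, Q a non-degenerate quadratic form on F^n of plus type (some subspace of dimension n/2 is totally singular), and Ω the commutator subgroup of the isometry group of Q, viewed inside GL_n(F). Suppose n/2 is even and let D be a decomposition of F^n into two complementary subspaces of dimension n/2 on each of which Q vanishes. Then the elements of Ω preserving or interchanging the two subspaces form a maximal subgroup of Ω. -/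
theorem result {F : Type*} [Field F] [Fintype F] {n : ℕ} (hn : 13 ≤ n) (heven : Even n) (Q : (Fin n → F) → F) (hQ : Cfsg.Geo.IsNondegenerateQuadraticForm Q) (hplus : Cfsg.Geo.IsPlusTypeOn Q ⊤) (k : ℕ) (hk : 2 * k = n) (hke : Even k) (D : Fin 2 → Submodule F (Fin n → F)) (hD : Cfsg.Geo.IsMDecomposition k D) (hts : ∀ i, Cfsg.Geo.IsTotallySingularQuad Q (D i)) : Cfsg.Geo.IsMaximalIn (Cfsg.Geo.omegaGL Q) (Cfsg.Geo.decompositionStabilizer D ⊓ Cfsg.Geo.omegaGL Q) := by
  classical
  have hQ' := toQF_nondeg Q hQ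
  have hΩ := omega_eq_eich_even (toQF Q hQ) hQ' (by omega) heven
  have hex : Fintype.card F ≠ 2 ∨ Fintype.card (Fin n) ≠ 4 := by
    right; rw [Fintype.card_fin]; omega
  have hdec : ∀ v : Fin n → F, ∃ w ∈ D 0, ∃ u ∈ D 1, v = w + u := by
    intro v
    have hle : iSup D ≤ D 0 ⊔ D 1 := by
      apply iSup_le
      intro i
      fin_cases i
      · exact le_sup_left
      · exact le_sup_right
    have hv : v ∈ D 0 ⊔ D 1 := by
      apply hle
      rw [hD.iSup_eq_top]
      exact Submodule.mem_top
    obtain ⟨w, hw, u, hu, hwu⟩ := Submodule.mem_sup.mp hv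
    exact ⟨w, hw, u, hu, hwu.symm⟩
  have hf0 := hD.finrank_eq 0
  have hf1 := hD.finrank_eq 1
  exact maximal_pair (Q := toQF Q hQ) hQ' D hΩ hex (hts 0) (hts 1) hdec (by omega)
    (by rw [hf0, hf1]) (by rw [hf0]; exact hke) (by rw [Fintype.card_fin]; omega)

end Cfsg.Agent.S5697
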