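import Mathlib
import Cfsg.Agent.Lib.Helper28.OrthNondegGlue
set_option autoImplicit false
open Cfsg
namespace Cfsg.Agent.S5699
open Cfsg.Agent.Helper28.OrthRoot Cfsg.Agent.Helper28.OrthRootEven Cfsg.Agent.Helper17.OmegaElts
  Cfsg.Agent.Helper28.OrthNondeg Cfsg.Agent.Helper28.OrthNondegGlue Cfsg.Agent.Helper2.Orth

/-- Let F be a finite field with q elements, n ≥ 13 even, Q a non-degenerate quadratic form on F^n (of either type), and Ω the commutator subgroup of the isometry group of Q, viewed inside GL_n(F). Let D be a decomposition of F^n into two orthogonal subspaces of odd dimension n/2 on which the polar form is non-degenerate and which are not Q-isometric to each other. Then the elements of Ω permuting (necessarily fixing) the two subspaces form a maximal subgroup of Ω. -/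
theorem result {F : Type*} [Field F] [Fintype F] {n : ℕ} (hn : 13 ≤ n) (heven : Even n) (Q : (Fin n → F) → F) (hQ : Cfsg.Geo.IsNondegenerateQuadraticForm Q) (k : ℕ) (hk : 2 * k = n) (hko : Odd k) (D : Fin 2 → Submodule F (Fin n → F)) (hD : Cfsg.Geo.IsNondegenerateMDecomposition (QuadraticMap.polar Q) k D) (hni : ¬ Cfsg.Geo.AreIsometricFor Q (D 0) (D 1)) : Cfsg.Geo.IsMaximalIn (Cfsg.Geo.omegaGL Q) (Cfsg.Geo.decompositionStabilizer D ⊓ Cfsg.Geo.omegaGL Q) := by
  classical
  have hQ' := toQF_nondeg Q hQ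
  have hΩ := omega_eq_eich_even (toQF Q hQ) hQ' (by omega) heven
  have hex : Fintype.card F ≠ 2 ∨ Fintype.card (Fin n) ≠ 4 := by
    right; rw [Fintype.card_fin]; omega
  have hWU : ∀ w ∈ D 0, ∀ u ∈ D 1, QuadraticMap.polar (toQF Q hQ) w u = 0 :=
    hD.orthogonal 0 1 (by decide)
  have hdec : ∀ v : Fin n → F, ∃ w ∈ D 0, ∃ u ∈ D 1, v = w + u := by
    intro v
    have hle : iSup D ≤ D 0 ⊔ D 1 := by
      apply iSup_le
      intro i
      fin_cases i
      · exact le_sup_left
      · exact le_sup_right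
    have hv : v ∈ D 0 ⊔ D 1 := by
      apply hle
      rw [hD.decomp.iSup_eq_top]
      exact Submodule.mem_top
    obtain ⟨w, hw, u, hu, hwu⟩ := Submodule.mem_sup.mp hv
    exact ⟨w, hw, u, hu, hwu.symm⟩
  have hf0 := hD.decomp.finrank_eq 0
  have hf1 := hD.decomp.finrank_eq 1
  have hW0 : ∃ w ∈ D 0, w ≠ 0 := by
    have hpos : 0 < Module.finrank F (D 0) := by omega
    obtain ⟨⟨w, hw⟩, hw0⟩ := Module.finrank_pos_iff_exists_ne_zero.mp hpos
    exact ⟨w, hw, fun h => hw0 (Subtype.ext h)⟩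
  have hno : ¬ ∃ g : Cfsg.isometryGroup F (⇑(toQF Q hQ)), ∀ u ∈ D 1, g • u ∈ D 0 := by
    rintro ⟨g, hg⟩
    exact hni (areIsometric_symm (isometric_of_map (D 0) (D 1) (by rw [hf0, hf1]) g hg))
  have main := (maximal_nondeg hQ' hΩ hex (D 0) (D 1) hWU hdec (by omega)
    (by rw [Fintype.card_fin]; omega) hW0 hno (by
      rintro ⟨-, h2, -⟩
      omega)).1
  have heq : Cfsg.Geo.decompositionStabilizer D ⊓ Cfsg.Geo.omegaGL Q =
      Cfsg.Geo.subspaceStabilizer (D 0) ⊓ Cfsg.Geo.omegaGL Q := by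
    ext g
    constructor
    · intro hg
      rw [Subgroup.mem_inf] at hg ⊢
      obtain ⟨⟨σ, hσ⟩, hgΩ⟩ := hg
      refine ⟨?_, hgΩ⟩
      obtain ⟨h, hhΩ, rfl⟩ := (mem_omegaGL_iff (toQF Q hQ) g).1 hgΩ
      rw [coe_mem_subspaceStabilizer_iff (toQF Q hQ) h (D 0)]
      have h0 := hσ 0
      have hcases : σ 0 = 0 ∨ σ 0 = 1 := by
        generalize σ 0 = j
        fin_cases j
        · left; rfl
        · right; rfl
      rcases hcases with hc | hc
      · rw [hc] at h0
        exact h0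
      · exfalso
        rw [hc] at h0
        apply hni
        apply isometric_of_map (Q := toQF Q hQ) (D 1) (D 0) (by rw [hf0, hf1]) h
        intro u hu
        have : Matrix.toLin' ((h : Matrix.GeneralLinearGroup (Fin n) F) : Matrix (Fin n) (Fin n) F) u
            ∈ (D 0).map (Matrix.toLin' ((h : Matrix.GeneralLinearGroup (Fin n) F) :
              Matrix (Fin n) (Fin n) F)) := ⟨u, hu, rfl⟩
        rw [h0] at this
        exact this
    · intro hg
      rw [Subgroup.mem_inf] at hg ⊢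
      obtain ⟨hgS, hgΩ⟩ := hg
      refine ⟨?_, hgΩ⟩
      obtain ⟨h, hhΩ, rfl⟩ := (mem_omegaGL_iff (toQF Q hQ) g).1 hgΩ
      have hS0 : h ∈ StabG (toQF Q hQ) (D 0) := hgS
      have hS1 : h ∈ StabG (toQF Q hQ) (D 1) := stab_right_of_left hQ' (D 0) (D 1) hWU hdec h hS0
      have e0 := (coe_mem_subspaceStabilizer_iff (toQF Q hQ) h (D 0)).1 hS0
      have e1 := (coe_mem_subspaceStabilizer_iff (toQF Q hQ) h (D 1)).1 hS1
      refine ⟨1, fun i => ?_⟩
      fin_cases i
      · exact e0
      · exact e1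
  rw [heq]
  exact main

end Cfsg.Agent.S5699
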