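import Mathlib
import Cfsg.Agent.Lib.Helper28.TensOmegaA
import Cfsg.Agent.S5638
set_option autoImplicit false
open Cfsg
namespace Cfsg.Agent.S5705
open Matrix Kronecker Cfsg.Agent.H28TF Cfsg.Agent.S5638 QuadraticMap

variable {F : Type*} [Field F] {n₂ : ℕ}

/-- the vectors in terms of their two rows -/
def pr (w w' : Fin n₂ → F) : Fin 2 × Fin n₂ → F :=
  tp (Pi.single 0 1) w + tp (Pi.single 1 1) w'

theorem pr_add (a b c d : Fin n₂ → F) : pr a b + pr c d = pr (a + c) (b + d) := by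
  unfold pr
  rw [tp_add_right, tp_add_right]
  abel

theorem smul_pr (c : F) (a b : Fin n₂ → F) : c • pr a b = pr (c • a) (c • b) := by
  unfold pr
  rw [tp_smul_right, tp_smul_right, smul_add]

theorem pr_apply_zero (a b : Fin n₂ → F) (j : Fin n₂) : pr a b (0, j) = a j := by
  unfold pr
  simp [tp_apply]

theorem pr_apply_one (a b : Fin n₂ → F) (j : Fin n₂) : pr a b (1, j) = b j := by
  unfold pr
  simp [tp_apply]

theorem pr_inj {a b c d : Fin n₂ → F} (h : pr a b = pr c d) : a = c ∧ b = d := by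
  constructor
  · funext j
    have := congrFun h (0, j)
    rwa [pr_apply_zero, pr_apply_zero] at this
  · funext j
    have := congrFun h (1, j)
    rwa [pr_apply_one, pr_apply_one] at this

theorem pr_surj (x : Fin 2 × Fin n₂ → F) : ∃ a b, x = pr a b := by
  refine ⟨fun j => x (0, j), fun j => x (1, j), ?_⟩
  funext ⟨i, j⟩
  fin_cases i
  · exact (pr_apply_zero (fun j => x (0, j)) (fun j => x (1, j)) j).symm
  · exact (pr_apply_one (fun j => x (0, j)) (fun j => x (1, j)) j).symm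

theorem pr_zero_right (a : Fin n₂ → F) : pr a 0 = tp (Pi.single 0 1) a := by
  unfold pr
  rw [tp_zero_right, add_zero]

section main

variable (hq : ∀ y : F, y = 0 ∨ y = 1) (h2 : (2 : F) = 0) (k₀ : Fin n₂)

theorem zeta_e0 : (zeta : Matrix (Fin 2) (Fin 2) F) *ᵥ Pi.single 0 1 = Pi.single 1 1 := by
  funext i
  fin_cases i <;> simp [zeta, Matrix.mulVec, dotProduct, Fin.sum_univ_two]

theorem zeta_e1 : (zeta : Matrix (Fin 2) (Fin 2) F) *ᵥ Pi.single 1 1 =
    Pi.single 0 1 + Pi.single 1 1 := by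
  funext i
  fin_cases i <;> simp [zeta, Matrix.mulVec, dotProduct, Fin.sum_univ_two]

include h2 in
theorem Z_pr (a b : Fin n₂ → F) :
    ((zU h2 k₀ : GL (Fin 2 × Fin n₂) F) : Matrix (Fin 2 × Fin n₂) (Fin 2 × Fin n₂) F) *ᵥ pr a b =
      pr b (a + b) := by
  rw [zU_val]
  unfold pr
  rw [Matrix.mulVec_add, kron_mulVec_tp, kron_mulVec_tp, zeta_e0, zeta_e1, Matrix.one_mulVec,
    Matrix.one_mulVec, tp_add_left, tp_add_right]
  abel

include h2 in
theorem zU_cube : (zU h2 k₀ : GL (Fin 2 × Fin n₂) F) ^ (3 : ℤ) = 1 := by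
  have : (zU h2 k₀ : GL (Fin 2 × Fin n₂) F) ^ (3 : ℕ) = 1 := by
    apply Units.ext
    rw [pow_succ, pow_two, Units.val_mul, Units.val_mul, zU_val, ← Matrix.mul_kronecker_mul,
      ← Matrix.mul_kronecker_mul, zeta_cube h2, mul_one, mul_one, Matrix.one_kronecker_one,
      Units.val_one]
  exact_mod_cast this

end main

section core

theorem core (hq : ∀ y : F, y = 0 ∨ y = 1) (h2 : (2 : F) = 0) (k₀ : Fin n₂) (f₂ : (Fin n₂ → F) → (Fin n₂ → F) → F) (hf₂ : Cfsg.Geo.IsSymplecticForm f₂)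
    (Ω' : Subgroup (GL (Fin 2 × Fin n₂) F))
    (Q' : (Fin 2 × Fin n₂ → F) → F) (β : (Fin 2 × Fin n₂ → F) → (Fin 2 × Fin n₂ → F) → F)
    (hβ : ∀ w w' y y', β (pr w w') (pr y y') = f₂ w y' + f₂ w' y)
    (hQ' : ∀ w w', Q' (pr w w') = f₂ w w')
    (heich : ∀ z b, Q' z = 0 → β z b = 0 → ∃ g ∈ Ω', ∀ x,
      (g : Matrix (Fin 2 × Fin n₂) (Fin 2 × Fin n₂) F) *ᵥ x =
        x + (β b x • z - β z x • b - Q' b • β z x • z))
    (w w' x₀ : Fin n₂ → F) (hww' : f₂ w w' = 0) (hwx : f₂ w x₀ = 1) (hw'x : f₂ w' x₀ = 0)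
    (hw'0 : w' ≠ 0) :
    ∃ K₀ : Subgroup (GL (Fin 2 × Fin n₂) F),
      Cfsg.Geo.kroneckerSubgroup 2 n₂ F ⊓ Ω' < K₀ ∧ K₀ < Ω' := by
  have hb := hf₂.bilinear
  have hnegF : ∀ c : F, -c = c := by
    intro c
    linear_combination (-c) * h2
  have hsymm : ∀ u v, f₂ u v = f₂ v u := by
    intro u v
    rw [hf₂.skew u v, hnegF]
  have hz0 : ∀ u, f₂ u 0 = 0 := by
    intro u
    have := hb.smul_right 0 u 0
    simpa using this
  have h0z : ∀ u, f₂ 0 u = 0 := by
    intro u
    rw [hsymm, hz0]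
  -- the normalised form of the Eichler elements
  have heich2 : ∀ z b, Q' z = 0 → β z b = 0 → Q' b = 0 → ∃ g ∈ Ω', ∀ x,
      (g : Matrix (Fin 2 × Fin n₂) (Fin 2 × Fin n₂) F) *ᵥ x = x + β b x • z + β z x • b := by
    intro z b hz hzb hbb
    obtain ⟨g, hg, hact⟩ := heich z b hz hzb
    refine ⟨g, hg, fun x => ?_⟩
    rw [hact, hbb, zero_smul, sub_zero, sub_eq_add_neg, ← neg_smul, hnegF, add_assoc]
  obtain ⟨N, hN⟩ : ∃ N, N = Subgroup.normalizer
    (Subgroup.zpowers (zU h2 k₀) : Set (GL (Fin 2 × Fin n₂) F)) := ⟨_, rfl⟩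
  refine ⟨N ⊓ Ω', ?_, ?_⟩
  · rw [lt_iff_le_and_ne]
    refine ⟨inf_le_inf_right _ (by rw [hN]; exact kron_le_normalizer hq h2 k₀), ?_⟩
    intro heq
    -- the first witness
    have hQz : Q' (pr w w') = 0 := by rw [hQ', hww']
    have hβzb : β (pr w w') (pr w' (w + w')) = 0 := by
      rw [hβ, hb.add_right, hf₂.alternating, hf₂.alternating, hww']
      ring
    have hQb : Q' (pr w' (w + w')) = 0 := by
      rw [hQ', hb.add_right, hf₂.alternating, hsymm, hww']
      ring
    obtain ⟨g, hgΩ, hg⟩ := heich2 _ _ hQz hβzb hQb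
    have hgN : g ∈ N := by
      have hcomm : Commute g (zU h2 k₀) := by
        apply Units.ext
        rw [Units.val_mul, Units.val_mul, Matrix.ext_iff_mulVec]
        intro x
        obtain ⟨x₀', x₁', rfl⟩ := pr_surj x
        rw [← Matrix.mulVec_mulVec, ← Matrix.mulVec_mulVec, Z_pr, hg, hg, Matrix.mulVec_add,
          Matrix.mulVec_add, Matrix.mulVec_smul, Matrix.mulVec_smul, Z_pr, Z_pr, Z_pr]
        have e1 : β (pr w' (w + w')) (pr x₁' (x₀' + x₁')) = β (pr w w') (pr x₀' x₁') := by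
          rw [hβ, hβ]
          simp only [hb.add_left, hb.add_right]
          linear_combination (f₂ w' x₁') * h2
        have e2 : β (pr w w') (pr x₁' (x₀' + x₁')) =
            β (pr w' (w + w')) (pr x₀' x₁') + β (pr w w') (pr x₀' x₁') := by
          rw [hβ, hβ, hβ]
          simp only [hb.add_left, hb.add_right]
          linear_combination (-(f₂ w' x₀')) * h2
        rw [e1, e2]
        obtain ⟨p, hp⟩ : ∃ p, p = β (pr w w') (pr x₀' x₁') := ⟨_, rfl⟩
        obtain ⟨q, hq'⟩ : ∃ q, q = β (pr w' (w + w')) (pr x₀' x₁') := ⟨_, rfl⟩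
        rw [← hp, ← hq']
        simp only [smul_pr, pr_add]
        congr 1
        · module
        · module
      rw [hN, Subgroup.mem_normalizer_iff]
      intro h
      constructor
      · intro hh
        obtain ⟨k, rfl⟩ := Subgroup.mem_zpowers_iff.mp hh
        rw [(hcomm.zpow_right k).eq, mul_inv_cancel_right]
        exact Subgroup.zpow_mem_zpowers _ _
      · intro hh
        obtain ⟨k, hk⟩ := Subgroup.mem_zpowers_iff.mp hh
        have : h = g⁻¹ * (zU h2 k₀ ^ k) * g := by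
          rw [hk]
          group
        rw [this, mul_assoc, ← (hcomm.zpow_right k).eq, inv_mul_cancel_left]
        exact Subgroup.zpow_mem_zpowers _ _
    have hmem : g ∈ N ⊓ Ω' := ⟨hgN, hgΩ⟩
    rw [← heq] at hmem
    obtain ⟨a, b', hab⟩ := hmem.1
    have h1 := hg (pr x₀ 0)
    rw [hβ, hβ, hz0, hz0, hw'x, hb.add_left, hwx, hw'x, hab] at h1
    simp only [add_zero, zero_add, one_smul, zero_smul] at h1
    rw [pr_add, zero_add, pr_zero_right, kron_mulVec_tp] at h1
    obtain ⟨y, hy⟩ : ∃ y, y = (b' : Matrix (Fin n₂) (Fin n₂) F) *ᵥ x₀ := ⟨_, rfl⟩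
    obtain ⟨v, hv⟩ : ∃ v, v = (a : Matrix (Fin 2) (Fin 2) F) *ᵥ Pi.single 0 1 := ⟨_, rfl⟩
    rw [← hy, ← hv] at h1
    have hc0 : x₀ + w = v 0 • y := by
      funext j
      have := congrFun h1 (0, j)
      rw [tp_apply, pr_apply_zero] at this
      rw [Pi.smul_apply, smul_eq_mul, this]
    have hc1 : w' = v 1 • y := by
      funext j
      have := congrFun h1 (1, j)
      rw [tp_apply, pr_apply_one] at this
      rw [Pi.smul_apply, smul_eq_mul, this]
    have hv1 : v 1 ≠ 0 := by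
      intro h0
      apply hw'0
      rw [hc1, h0, zero_smul]
    have hwy : f₂ w y = 0 := by
      have := hww'
      rw [hc1, hb.smul_right] at this
      exact (mul_eq_zero.mp this).resolve_left hv1
    have h3 : f₂ w (x₀ + w) = 1 := by
      rw [hb.add_right, hwx, hf₂.alternating, add_zero]
    rw [hc0, hb.smul_right, hwy, mul_zero] at h3
    exact zero_ne_one h3
  · rw [lt_iff_le_and_ne]
    refine ⟨inf_le_right, fun heq => ?_⟩
    have hQz : Q' (pr w 0) = 0 := by rw [hQ', hz0]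
    have hβzb : β (pr w 0) (pr w' 0) = 0 := by
      rw [hβ, hz0, h0z, add_zero]
    have hQb : Q' (pr w' 0) = 0 := by rw [hQ', hz0]
    obtain ⟨g, hgΩ, hg⟩ := heich2 _ _ hQz hβzb hQb
    have hgN : g ∈ N := by
      have : g ∈ N ⊓ Ω' := by
        rw [heq]
        exact hgΩ
      exact this.1
    rw [hN, Subgroup.mem_normalizer_iff] at hgN
    have h1 := (hgN (zU h2 k₀)).mp (Subgroup.mem_zpowers _)
    obtain ⟨k, hk⟩ := Subgroup.mem_zpowers_iff.mp h1
    have hk' : zU h2 k₀ ^ (k % 3) * g = g * zU h2 k₀ := by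
      rw [← zpow_eq_zpow_emod k (zU_cube h2 k₀), hk]
      group
    have hgen : ∀ a b : Fin n₂ → F,
        (g : Matrix (Fin 2 × Fin n₂) (Fin 2 × Fin n₂) F) *ᵥ pr a b =
          pr (a + f₂ w' b • w + f₂ w b • w') b := by
      intro a b
      rw [hg, hβ, hβ, h0z, add_zero, add_zero, smul_pr, smul_pr, pr_add, pr_add]
      simp only [smul_zero, add_zero]
    have hx := congrArg (fun M : GL (Fin 2 × Fin n₂) F =>
      (M : Matrix (Fin 2 × Fin n₂) (Fin 2 × Fin n₂) F) *ᵥ pr 0 x₀) hk'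
    simp only [Units.val_mul, ← Matrix.mulVec_mulVec] at hx
    rw [Z_pr, hgen, hgen] at hx
    simp only [zero_add, add_zero, hw'x, hwx, zero_smul, one_smul] at hx
    have hk0 : 0 ≤ k % 3 := Int.emod_nonneg k (by norm_num)
    have hk3 : k % 3 < 3 := Int.emod_lt_of_pos k (by norm_num)
    obtain ⟨r, hr⟩ : ∃ r : ℤ, r = k % 3 := ⟨_, rfl⟩
    rw [← hr] at hx hk0 hk3
    have hx0ne : x₀ ≠ 0 := by
      intro h0
      rw [h0, hz0] at hwx
      exact zero_ne_one hwx
    interval_cases r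
    · rw [zpow_zero, Units.val_one, Matrix.one_mulVec] at hx
      have := (pr_inj hx).1
      apply hx0ne
      have h5 : x₀ + w' = 0 + w' := by rw [zero_add]; exact this.symm
      exact add_right_cancel h5
    · rw [zpow_one, Z_pr] at hx
      have := (pr_inj hx).2
      apply hw'0
      have h5 : w' + x₀ = 0 + x₀ := by rw [zero_add]; exact this
      exact add_right_cancel h5
    · have e2 : (zU h2 k₀ : GL (Fin 2 × Fin n₂) F) ^ (2 : ℤ) = zU h2 k₀ * zU h2 k₀ := by
        rw [zpow_ofNat, pow_two]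
      rw [e2, Units.val_mul, ← Matrix.mulVec_mulVec, Z_pr, Z_pr] at hx
      have := (pr_inj hx).2
      have h5 : w' + x₀ = 0 := by
        have h6 : x₀ + (w' + x₀) = x₀ + 0 := by rw [add_zero]; exact this
        exact add_left_cancel h6
      have h7 : f₂ w (w' + x₀) = 1 := by
        rw [hb.add_right, hww', hwx, zero_add]
      rw [h5, hz0] at h7
      exact zero_ne_one h7

end core


theorem exists_wwx (hq : ∀ y : F, y = 0 ∨ y = 1) (h3 : 3 ≤ n₂)
    (f₂ : (Fin n₂ → F) → (Fin n₂ → F) → F) (hf₂ : Cfsg.Geo.IsSymplecticForm f₂) :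
    ∃ w w' x₀ : Fin n₂ → F, f₂ w w' = 0 ∧ f₂ w x₀ = 1 ∧ f₂ w' x₀ = 0 ∧ w' ≠ 0 := by
  have hb := hf₂.bilinear
  obtain ⟨w, hw⟩ : ∃ w : Fin n₂ → F, w = Pi.single ⟨0, by omega⟩ 1 := ⟨_, rfl⟩
  have hw0 : w ≠ 0 := by
    intro h
    have := congrFun h ⟨0, by omega⟩
    rw [hw] at this
    simp at this
  obtain ⟨x₀, hx₀⟩ := (hf₂.nondegenerate w hw0).2
  have hx1 : f₂ w x₀ = 1 := (hq _).resolve_left hx₀
  let L₁ : (Fin n₂ → F) →ₗ[F] F :=
    { toFun := fun y => f₂ w y
      map_add' := fun y y' => hb.add_right w y y'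
      map_smul' := fun c y => by
        show f₂ w (c • y) = c • f₂ w y
        rw [hb.smul_right, smul_eq_mul] }
  let L₂ : (Fin n₂ → F) →ₗ[F] F :=
    { toFun := fun y => f₂ y x₀
      map_add' := fun y y' => hb.add_left y y' x₀
      map_smul' := fun c y => by
        show f₂ (c • y) x₀ = c • f₂ y x₀
        rw [hb.smul_left, smul_eq_mul] }
  have hker : LinearMap.ker (L₁.prod L₂) ≠ ⊥ := by
    apply LinearMap.ker_ne_bot_of_finrank_lt
    rw [Module.finrank_prod, Module.finrank_self, Module.finrank_fintype_fun_eq_card,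
      Fintype.card_fin]
    omega
  obtain ⟨w', hw', hw'0⟩ := Submodule.exists_mem_ne_zero_of_ne_bot hker
  rw [LinearMap.mem_ker, LinearMap.prod_apply, Prod.mk_eq_zero] at hw'
  exact ⟨w, w', x₀, hw'.1, hx1, hw'.2, hw'0⟩

/-- Let F be the field with 2 elements, n = 2 n₂ ≥ 13 even, Q a non-degenerate quadratic form on F^n of plus type and Ω the commutator subgroup of its isometry group. Suppose that, through P and e, the polar form of Q is similar to the tensor product of non-degenerate symplectic forms f₁ on F^2 and f₂ on F^(n₂), and Q vanishes on the images of all pure tensors. Then the elements of Ω in the stabiliser of this tensor decomposition form a subgroup that is not maximal: some subgroup lies strictly between it and Ω. -/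
theorem result {F : Type*} [Field F] [Fintype F] {n : ℕ} (hn : 13 ≤ n) (heven : Even n) (Q : (Fin n → F) → F) (hQ : Cfsg.Geo.IsNondegenerateQuadraticForm Q) (hplus : Cfsg.Geo.IsPlusTypeOn Q ⊤) (hq : Fintype.card F = 2) (n₂ : ℕ) (h2 : 2 < n₂) (e : (Fin n) ≃ Fin 2 × Fin n₂) (P : Matrix.GeneralLinearGroup (Fin n) F) (f₁ : (Fin 2 → F) → (Fin 2 → F) → F) (f₂ : (Fin n₂ → F) → (Fin n₂ → F) → F) (hf₁ : Cfsg.Geo.IsSymplecticForm f₁) (hf₂ : Cfsg.Geo.IsSymplecticForm f₂) (hT : Cfsg.Geo.IsTensorFormStructure id (QuadraticMap.polar Q) f₁ f₂ e P) (hpure : (∀ (x₁ : Fin 2 → F) (x₂ : Fin n₂ → F), Q (Matrix.mulVec (P : Matrix (Fin n) (Fin n) F) ((fun a : Fin 2 × Fin n₂ => x₁ a.1 * x₂ a.2) ∘ e)) = 0)) : ∃ K : Subgroup (Matrix.GeneralLinearGroup (Fin n) F), Cfsg.Geo.tensorProductSubgroup 2 n₂ e P ⊓ Cfsg.Geo.omegaGL Q < K ∧ K < Cfsg.Geo.omegaGL Q := by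
  have hq' := all_zero_or_one hq
  have h2 := two_eq_zero hq'
  have hnegF : ∀ c : F, -c = c := by
    intro c
    linear_combination (-c) * h2
  have hn₂ : n = 2 * n₂ := by
    have := Fintype.card_congr e
    simpa using this
  obtain ⟨c, hc0, hform⟩ := hT
  have hc1 : c = 1 := (hq' c).resolve_left hc0
  rw [hc1] at hform
  have hb₁ := hf₁.bilinear
  have hb₂ := hf₂.bilinear
  -- the binary form
  have h00 : f₁ (Pi.single 0 1) (Pi.single 0 1) = 0 := hf₁.alternating _
  have h11 : f₁ (Pi.single 1 1) (Pi.single 1 1) = 0 := hf₁.alternating _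
  have h10 : f₁ (Pi.single 1 1) (Pi.single 0 1) = 1 := by
    have he0 : (Pi.single (0 : Fin 2) (1 : F) : Fin 2 → F) ≠ 0 := by
      intro h
      have := congrFun h 0
      simp at this
    obtain ⟨x, hx⟩ := (hf₁.nondegenerate _ he0).1
    have hxd : x = x 0 • (Pi.single 0 1 : Fin 2 → F) + x 1 • Pi.single 1 1 := by
      funext i
      fin_cases i <;> simp
    rw [hxd, hb₁.add_left, hb₁.smul_left, hb₁.smul_left, h00, mul_zero, zero_add] at hx
    exact (hq' _).resolve_left (right_ne_zero_of_mul hx)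
  have h01 : f₁ (Pi.single 0 1) (Pi.single 1 1) = 1 := by
    rw [hf₁.skew, h10, hnegF]
  -- the polar form on the pairs
  have hβtp : ∀ (a a' : Fin 2 → F) (w w' : Fin n₂ → F),
      polar Q (ps e P (tp a w)) (ps e P (tp a' w')) = f₁ a a' * f₂ w w' := by
    intro a a' w w'
    have := hform (tp a w) (tp a' w')
    rw [one_mul, form_tp, ← bil_eq_gram f₁ hb₁, ← bil_eq_gram f₂ hb₂] at this
    exact this
  have hβadd_left : ∀ x y z, polar Q (ps e P (x + y)) (ps e P z) =
      polar Q (ps e P x) (ps e P z) + polar Q (ps e P y) (ps e P z) := by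
    intro x y z
    have h1 := hform (x + y) z
    have h2' := hform x z
    have h3 := hform y z
    unfold ps
    rw [h1, h2', h3, formOfGram_eq_Bf, formOfGram_eq_Bf, formOfGram_eq_Bf, Bf_add_left]
    ring
  have hβadd_right : ∀ x y z, polar Q (ps e P z) (ps e P (x + y)) =
      polar Q (ps e P z) (ps e P x) + polar Q (ps e P z) (ps e P y) := by
    intro x y z
    have h1 := hform z (x + y)
    have h2' := hform z x
    have h3 := hform z y
    unfold ps
    rw [h1, h2', h3, formOfGram_eq_Bf, formOfGram_eq_Bf, formOfGram_eq_Bf, Bf_add_right]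
    ring
  have hβpr : ∀ w w' y y' : Fin n₂ → F,
      polar Q (ps e P (pr w w')) (ps e P (pr y y')) = f₂ w y' + f₂ w' y := by
    intro w w' y y'
    unfold pr
    rw [hβadd_left, hβadd_right, hβadd_right, hβtp, hβtp, hβtp, hβtp, h00, h01, h10, h11]
    ring
  have hQ'pr : ∀ w w' : Fin n₂ → F, Q (ps e P (pr w w')) = f₂ w w' := by
    intro w w'
    have h1 : Q (ps e P (pr w w')) = polar Q (ps e P (tp (Pi.single 0 1) w))
        (ps e P (tp (Pi.single 1 1) w')) + Q (ps e P (tp (Pi.single 0 1) w)) +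
        Q (ps e P (tp (Pi.single 1 1) w')) := by
      unfold pr
      rw [ps_add]
      unfold polar
      ring
    have hp0 : Q (ps e P (tp (Pi.single 0 1) w)) = 0 := hpure _ _
    have hp1 : Q (ps e P (tp (Pi.single 1 1) w')) = 0 := hpure _ _
    rw [h1, hp0, hp1, hβtp, h01]
    ring
  obtain ⟨w, w', x₀, hww', hwx, hw'x, hw'0⟩ := exists_wwx hq' (by omega) f₂ hf₂
  obtain ⟨K₀, hK1, hK2⟩ := core hq' h2 (⟨0, by omega⟩ : Fin n₂) f₂ hf₂
    ((Cfsg.Geo.omegaGL Q).comap (Th e P).toMonoidHom)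
    (fun x => Q (ps e P x)) (fun x y => polar Q (ps e P x) (ps e P y)) hβpr hQ'pr
    (fun z b hz hzb => exists_eich_pairs (by omega) heven Q hQ e P z b hz hzb)
    w w' x₀ hww' hwx hw'x hw'0
  exact sandwich e P (Cfsg.Geo.omegaGL Q) K₀ hK1 hK2

end Cfsg.Agent.S5705
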