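import Mathlib
import Cfsg.Agent.S3681
import Cfsg.Statements.S5713
-- import your own Cfsg.Agent.* helpers here

set_option autoImplicit false
open Cfsg

namespace Cfsg.Agent.S5713

open scoped Pointwise

section graph
variable {G Ω : Type*} [Group G] [MulAction G Ω]

/-- the graph hom induced by a group element on an invariant graph -/
def smulHom (Γ : SimpleGraph Ω)
    (hinv : ∀ (a : G) (x y : Ω), Γ.Adj x y → Γ.Adj (a • x) (a • y)) (a : G) : Γ →g Γ :=
  ⟨fun x => a • x, fun h => hinv a _ _ h⟩

theorem reach_smul (Γ : SimpleGraph Ω)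
    (hinv : ∀ (a : G) (x y : Ω), Γ.Adj x y → Γ.Adj (a • x) (a • y)) (a : G) (x y : Ω)
    (h : Γ.Reachable x y) : Γ.Reachable (a • x) (a • y) :=
  h.map (smulHom Γ hinv a)

theorem conn (hprim : MulAction.IsPreprimitive G Ω) (Γ : SimpleGraph Ω)
    (hinv : ∀ (a : G) (x y : Ω), Γ.Adj x y → Γ.Adj (a • x) (a • y)) {x0 y0 : Ω}
    (h0 : Γ.Adj x0 y0) : Γ.Connected := by
  let B : Set Ω := {y | Γ.Reachable x0 y}
  have hB : MulAction.IsBlock G B := by
    rw [MulAction.isBlock_iff_smul_eq_of_mem]
    intro g a ha hga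
    have h1 : Γ.Reachable x0 (g • x0) :=
      SimpleGraph.Reachable.trans hga (reach_smul Γ hinv g _ _ ha).symm
    ext y
    constructor
    · rintro ⟨y', hy', rfl⟩
      exact h1.trans (reach_smul Γ hinv g _ _ hy')
    · intro hy
      refine ⟨g⁻¹ • y, ?_, by simp⟩
      have := reach_smul Γ hinv g⁻¹ _ _ (h1.symm.trans hy)
      rw [inv_smul_smul] at this
      exact this
  rcases hprim.isTrivialBlock_of_isBlock hB with h | h
  · exact absurd (h (show x0 ∈ B from SimpleGraph.Reachable.refl _)
      (show y0 ∈ B from h0.reachable)) h0.ne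
  · have : Nonempty Ω := ⟨x0⟩
    rw [SimpleGraph.connected_iff]
    refine ⟨fun u v => ?_, inferInstance⟩
    have hu : u ∈ B := by rw [h]; trivial
    have hv : v ∈ B := by rw [h]; trivial
    exact (SimpleGraph.Reachable.symm hu).trans hv

theorem closer {Γ : SimpleGraph Ω} (hc : Γ.Connected) {x z : Ω} (hxz : x ≠ z) :
    ∃ y, Γ.Adj x y ∧ Γ.dist y z + 1 = Γ.dist x z := by
  obtain ⟨p, hp⟩ := hc.exists_walk_length_eq_dist x z
  cases p with
  | nil => exact absurd rfl hxz
  | @cons _ y _ h q =>
    refine ⟨y, h, ?_⟩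
    rw [SimpleGraph.Walk.length_cons] at hp
    have h1 := SimpleGraph.dist_le q
    have h2 : Γ.dist x z ≤ Γ.dist x y + Γ.dist y z := hc.dist_triangle
    rw [SimpleGraph.dist_eq_one_iff_adj.mpr h] at h2
    omega

theorem dist_smul {Γ : SimpleGraph Ω} (hc : Γ.Connected)
    (hinv : ∀ (a : G) (x y : Ω), Γ.Adj x y → Γ.Adj (a • x) (a • y)) (a : G) (x z : Ω) :
    Γ.dist (a • x) (a • z) = Γ.dist x z := by
  have key : ∀ (a : G) (x z : Ω), Γ.dist (a • x) (a • z) ≤ Γ.dist x z := by
    intro a x z
    obtain ⟨p, hp⟩ := hc.exists_walk_length_eq_dist x z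
    have := SimpleGraph.dist_le (p.map (smulHom Γ hinv a))
    rw [SimpleGraph.Walk.length_map] at this
    rw [← hp]; exact this
  apply le_antisymm (key a x z)
  have := key a⁻¹ (a • x) (a • z)
  simpa using this

end graph

section count
variable {G Ω : Type*} [Group G] [MulAction G Ω] [Fintype Ω] [DecidableEq Ω]

/-- support of an element as a finset -/
def supp (a : G) : Finset Ω := Finset.univ.filter (fun z => a • z ≠ z)

theorem mem_supp {a : G} {z : Ω} : z ∈ (supp a : Finset Ω) ↔ a • z ≠ z := by simp [supp]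

theorem supp_mul_subset (a b : G) : (supp (a * b) : Finset Ω) ⊆ supp a ∪ supp b := by
  intro z hz
  rw [mem_supp] at hz
  rw [Finset.mem_union, mem_supp, mem_supp]
  by_contra hcon
  push Not at hcon
  apply hz
  rw [mul_smul, hcon.2, hcon.1]

theorem card_supp_mul_le (a b : G) :
    (supp (a * b) : Finset Ω).card ≤ (supp a : Finset Ω).card + (supp b : Finset Ω).card :=
  (Finset.card_le_card (supp_mul_subset a b)).trans (Finset.card_union_le _ _)

theorem supp_inv (a : G) : (supp a⁻¹ : Finset Ω) = supp a := by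
  ext z
  rw [mem_supp, mem_supp, not_iff_not]
  constructor
  · intro h
    rw [← h, smul_inv_smul, h]
  · intro h
    rw [← h, inv_smul_smul, h]

theorem card_supp_conj (a b : G) :
    (supp (a * b * a⁻¹) : Finset Ω).card = (supp b : Finset Ω).card := by
  symm
  apply Finset.card_bij (fun z _ => a • z)
  · intro z hz
    rw [mem_supp] at hz ⊢
    rw [mul_smul, mul_smul, inv_smul_smul]
    intro h
    exact hz (MulAction.injective a h)
  · intro z1 _ z2 _ h
    exact MulAction.injective a h
  · intro z hz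
    refine ⟨a⁻¹ • z, ?_, smul_inv_smul a z⟩
    rw [mem_supp] at hz ⊢
    intro h
    apply hz
    rw [mul_smul, mul_smul, h, smul_inv_smul]

theorem edge_count {Γ : SimpleGraph Ω} [DecidableRel Γ.Adj] (hc : Γ.Connected)
    (hinv : ∀ (a : G) (x y : Ω), Γ.Adj x y → Γ.Adj (a • x) (a • y)) (M K : ℕ)
    (hM : ∀ x y, Γ.Adj x y → ∃ a : G, a • x = y ∧ (supp a : Finset Ω).card ≤ M)
    (hK : ∀ x, (Γ.neighborFinset x).card ≤ K) :
    2 * (Fintype.card Ω - 1) ≤ K * M := by
  classical
  set n := Fintype.card Ω with hn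
  have hnpos : 0 < n := by
    have := hc.nonempty
    exact Fintype.card_pos
  let F : Ω → Ω → ℕ := fun x y =>
    (Finset.univ.filter (fun z => Γ.dist y z < Γ.dist x z)).card
  have ha : ∀ x y, Γ.Adj x y → F x y + F y x ≤ M := by
    intro x y hxy
    obtain ⟨a, hax, hcard⟩ := hM x y hxy
    refine le_trans ?_ hcard
    rw [← Finset.card_union_of_disjoint]
    · apply Finset.card_le_card
      intro z hz
      rw [mem_supp]
      intro hz'
      have : Γ.dist y z = Γ.dist x z := by
        have := dist_smul hc hinv a x z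
        rw [hax, hz'] at this
        exact this
      simp only [Finset.mem_union, Finset.mem_filter, Finset.mem_univ, true_and] at hz
      omega
    · rw [Finset.disjoint_filter]
      intro z _ h1 h2
      omega
  have hb : n * (n - 1) ≤ ∑ x, ∑ y ∈ Γ.neighborFinset x, F x y := by
    have hF : ∀ x y, F x y = ∑ z, if Γ.dist y z < Γ.dist x z then 1 else 0 := by
      intro x y
      exact Finset.card_filter _ _
    simp_rw [hF]
    calc n * (n - 1) = ∑ z : Ω, ∑ x ∈ Finset.univ.erase z, 1 := by
          simp [hn, Finset.card_erase_of_mem]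
      _ ≤ ∑ z : Ω, ∑ x, ∑ y ∈ Γ.neighborFinset x,
            if Γ.dist y z < Γ.dist x z then 1 else 0 := by
          apply Finset.sum_le_sum
          intro z _
          refine le_trans ?_ (Finset.sum_le_sum_of_subset (Finset.erase_subset z Finset.univ))
          apply Finset.sum_le_sum
          intro x hx
          have hxz : x ≠ z := Finset.ne_of_mem_erase hx
          obtain ⟨y, hxy, hd⟩ := closer hc hxz
          have hy : y ∈ Γ.neighborFinset x := by
            rw [SimpleGraph.mem_neighborFinset]; exact hxy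
          refine le_trans ?_ (Finset.single_le_sum (f := fun y =>
            if Γ.dist y z < Γ.dist x z then 1 else 0) (fun _ _ => Nat.zero_le _) hy)
          rw [if_pos (by omega)]
      _ = _ := by
          rw [Finset.sum_comm]
          apply Finset.sum_congr rfl
          intro x _
          rw [Finset.sum_comm]
  have hswap : ∑ x, ∑ y ∈ Γ.neighborFinset x, F y x = ∑ x, ∑ y ∈ Γ.neighborFinset x, F x y := by
    rw [Finset.sum_comm' (s := Finset.univ) (t := fun x => Γ.neighborFinset x)
      (t' := Finset.univ) (s' := fun y => Γ.neighborFinset y)]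
    intro x y
    simp only [Finset.mem_univ, true_and, and_true, SimpleGraph.mem_neighborFinset]
    exact ⟨fun h => h.symm, fun h => h.symm⟩
  have hsum : ∑ x, ∑ y ∈ Γ.neighborFinset x, (F x y + F y x) ≤ n * (K * M) := by
    calc ∑ x, ∑ y ∈ Γ.neighborFinset x, (F x y + F y x)
        ≤ ∑ x : Ω, ∑ y ∈ Γ.neighborFinset x, M := by
          apply Finset.sum_le_sum
          intro x _
          apply Finset.sum_le_sum
          intro y hy
          rw [SimpleGraph.mem_neighborFinset] at hy
          exact ha x y hy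
      _ = ∑ x : Ω, (Γ.neighborFinset x).card * M := by
          apply Finset.sum_congr rfl
          intro x _
          rw [Finset.sum_const, smul_eq_mul]
      _ ≤ ∑ x : Ω, K * M := by
          apply Finset.sum_le_sum
          intro x _
          exact Nat.mul_le_mul_right M (hK x)
      _ = n * (K * M) := by
          rw [Finset.sum_const, smul_eq_mul, Finset.card_univ]
  have hsplit : ∑ x, ∑ y ∈ Γ.neighborFinset x, (F x y + F y x)
      = (∑ x, ∑ y ∈ Γ.neighborFinset x, F x y) + ∑ x, ∑ y ∈ Γ.neighborFinset x, F y x := by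
    rw [← Finset.sum_add_distrib]
    apply Finset.sum_congr rfl
    intro x _
    rw [Finset.sum_add_distrib]
  rw [hsplit, hswap] at hsum
  have h3 : n * (2 * (n - 1)) ≤ n * (K * M) := by
    calc n * (2 * (n - 1)) = n * (n - 1) + n * (n - 1) := by ring
      _ ≤ _ := le_trans (Nat.add_le_add hb hb) hsum
  exact Nat.le_of_mul_le_mul_left h3 hnpos

end count

section orb
variable {G Ω : Type*} [Group G] [MulAction G Ω] [Fintype Ω] [DecidableEq Ω]

variable (G) in
/-- the symmetrized orbital graph of the pair `(x0, y0)` -/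
def orbGraph (x0 y0 : Ω) : SimpleGraph Ω where
  Adj x y := x ≠ y ∧ ∃ a : G, (a • x0 = x ∧ a • y0 = y) ∨ (a • x0 = y ∧ a • y0 = x)
  symm := ⟨fun _ _ h => ⟨h.1.symm, h.2.choose, h.2.choose_spec.symm⟩⟩
  loopless := ⟨fun _ h => h.1 rfl⟩

theorem orbGraph_inv (x0 y0 : Ω) (b : G) (x y : Ω) (h : (orbGraph G x0 y0).Adj x y) :
    (orbGraph G x0 y0).Adj (b • x) (b • y) := by
  obtain ⟨hne, a, h⟩ := h
  refine ⟨fun e => hne (MulAction.injective b e), b * a, ?_⟩
  rcases h with ⟨h1, h2⟩ | ⟨h1, h2⟩
  · left; rw [mul_smul, mul_smul, h1, h2]; exact ⟨rfl, rfl⟩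
  · right; rw [mul_smul, mul_smul, h1, h2]; exact ⟨rfl, rfl⟩

theorem orbGraph_adj_base {x0 y0 : Ω} (h : x0 ≠ y0) : (orbGraph G x0 y0).Adj x0 y0 :=
  ⟨h, 1, Or.inl ⟨one_smul _ _, one_smul _ _⟩⟩

theorem card_neighbor_smul {Γ : SimpleGraph Ω} [DecidableRel Γ.Adj]
    (hinv : ∀ (a : G) (x y : Ω), Γ.Adj x y → Γ.Adj (a • x) (a • y)) (a : G) (x : Ω) :
    (Γ.neighborFinset (a • x)).card = (Γ.neighborFinset x).card := by
  symm
  apply Finset.card_bij (fun y _ => a • y)
  · intro y hy
    rw [SimpleGraph.mem_neighborFinset] at hy ⊢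
    exact hinv a _ _ hy
  · intro y1 _ y2 _ h
    exact MulAction.injective a h
  · intro y hy
    rw [SimpleGraph.mem_neighborFinset] at hy
    refine ⟨a⁻¹ • y, ?_, smul_inv_smul a y⟩
    rw [SimpleGraph.mem_neighborFinset]
    have := hinv a⁻¹ _ _ hy
    rwa [inv_smul_smul] at this

open Classical in
variable (G) in
/-- the suborbit of `z` under the stabilizer of `x` -/
noncomputable def subOrb (x z : Ω) : Finset Ω :=
  Finset.univ.filter (fun y => ∃ a : G, a • x = x ∧ a • z = y)

theorem mem_subOrb {x z y : Ω} : y ∈ subOrb G x z ↔ ∃ a : G, a • x = x ∧ a • z = y := by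
  simp [subOrb]

theorem subOrb_coe (x z : Ω) :
    (subOrb G x z : Set Ω) = MulAction.orbit (MulAction.stabilizer G x) z := by
  ext y
  rw [Finset.mem_coe, mem_subOrb, MulAction.mem_orbit_iff]
  constructor
  · rintro ⟨a, ha, hy⟩
    exact ⟨⟨a, ha⟩, hy⟩
  · rintro ⟨⟨a, ha⟩, hy⟩
    exact ⟨a, ha, hy⟩

theorem subOrb_symm [MulAction.IsPretransitive G Ω] [Finite G] (x z : Ω) :
    (subOrb G x z).card = (subOrb G z x).card := by
  have key : ∀ x z : Ω, (subOrb G x z).card * Nat.card Ω =
      (MulAction.stabilizer G z ⊓ MulAction.stabilizer G x).index := by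
    intro x z
    have h1 : (subOrb G x z).card = (MulAction.orbit (MulAction.stabilizer G x) z).ncard := by
      rw [← subOrb_coe, Set.ncard_coe_finset]
    have h2 := MulAction.index_stabilizer (MulAction.stabilizer G x) z
    have h3 : MulAction.stabilizer (MulAction.stabilizer G x) z =
        (MulAction.stabilizer G z).subgroupOf (MulAction.stabilizer G x) := by
      ext a
      rw [MulAction.mem_stabilizer_iff, Subgroup.mem_subgroupOf, MulAction.mem_stabilizer_iff]
      rfl
    rw [h3] at h2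
    have h4 : (MulAction.stabilizer G z).relIndex (MulAction.stabilizer G x) =
        (subOrb G x z).card := by
      rw [h1, ← h2]; rfl
    rw [← h4, ← Subgroup.inf_relIndex_right, ← MulAction.index_stabilizer_of_transitive G x]
    exact Subgroup.relIndex_mul_index inf_le_right
  have hpos : 0 < Nat.card Ω := by
    have : Nonempty Ω := ⟨x⟩
    exact Nat.card_pos
  have := key x z
  rw [inf_comm, ← key z x] at this
  exact Nat.eq_of_mul_eq_mul_right hpos this

end orb

section cases
variable {G Ω : Type*} [Group G] [MulAction G Ω] [Fintype Ω] [DecidableEq Ω]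

theorem exists_dist_three {Γ : SimpleGraph Ω} (hc : Γ.Connected)
    (h : ∃ x w, 3 ≤ Γ.dist x w) : ∃ x w, Γ.dist x w = 3 := by
  obtain ⟨x, w, hd⟩ := h
  have key : ∀ d, ∀ x, Γ.dist x w = d → 3 ≤ d → ∃ x', Γ.dist x' w = 3 := by
    intro d
    induction d with
    | zero => intro x _ h; omega
    | succ d ih =>
      intro x hx h3
      by_cases hd3 : d + 1 = 3
      · exact ⟨x, by omega⟩
      · have hxw : x ≠ w := by
          rintro rfl
          rw [SimpleGraph.dist_self] at hx
          omega
        obtain ⟨y, _, hy⟩ := closer hc hxw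
        exact ih y (by omega) (by omega)
  obtain ⟨x', hx'⟩ := key _ x rfl hd
  exact ⟨x', w, hx'⟩

theorem dist_three {Γ : SimpleGraph Ω} [DecidableRel Γ.Adj] (hc : Γ.Connected)
    (hinv : ∀ (a : G) (x y : Ω), Γ.Adj x y → Γ.Adj (a • x) (a • y)) (μ K : ℕ)
    (hM : ∀ x y, Γ.Adj x y → ∃ a : G, a • x = y ∧ (supp a : Finset Ω).card ≤ μ)
    (hK : ∀ x, (Γ.neighborFinset x).card = K)
    (x w : Ω) (hd : Γ.dist x w = 3) : 2 * K ≤ 3 * μ := by
  have hxw : x ≠ w := by
    rintro rfl
    rw [SimpleGraph.dist_self] at hd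
    omega
  obtain ⟨y1, h1, hd1⟩ := closer hc hxw
  have hy1w : y1 ≠ w := by
    rintro rfl
    rw [SimpleGraph.dist_self] at hd1
    omega
  obtain ⟨y2, h2, hd2⟩ := closer hc hy1w
  have h3 : Γ.Adj y2 w := SimpleGraph.dist_eq_one_iff_adj.mp (by omega)
  obtain ⟨a1, ha1, hc1⟩ := hM _ _ h1
  obtain ⟨a2, ha2, hc2⟩ := hM _ _ h2
  obtain ⟨a3, ha3, hc3⟩ := hM _ _ h3
  set a := a3 * a2 * a1 with ha
  have hax : a • x = w := by
    rw [ha, mul_smul, mul_smul, ha1, ha2, ha3]
  have hcard : (supp a : Finset Ω).card ≤ 3 * μ := by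
    rw [ha]
    have e1 := card_supp_mul_le (Ω := Ω) (a3 * a2) a1
    have e2 := card_supp_mul_le (Ω := Ω) a3 a2
    omega
  have hfar : ∀ z, Γ.Adj x z → Γ.Adj w z → False := by
    intro z hz1 hz2
    have t := hc.dist_triangle (u := x) (v := z) (w := w)
    rw [SimpleGraph.dist_eq_one_iff_adj.mpr hz1, SimpleGraph.dist_eq_one_iff_adj.mpr hz2.symm] at t
    omega
  have hsub : Γ.neighborFinset x ∪ Γ.neighborFinset w ⊆ (supp a : Finset Ω) := by
    intro z hz
    rw [mem_supp]
    intro hfix
    rcases Finset.mem_union.mp hz with hz | hz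
    · rw [SimpleGraph.mem_neighborFinset] at hz
      have := hinv a _ _ hz
      rw [hax, hfix] at this
      exact hfar z hz this
    · rw [SimpleGraph.mem_neighborFinset] at hz
      have hfix' : a⁻¹ • z = z := by rw [inv_smul_eq_iff, hfix]
      have hax' : a⁻¹ • w = x := by rw [inv_smul_eq_iff, hax]
      have := hinv a⁻¹ _ _ hz
      rw [hax', hfix'] at this
      exact hfar z this hz
  have hdisj : Disjoint (Γ.neighborFinset x) (Γ.neighborFinset w) := by
    rw [Finset.disjoint_left]
    intro z hz1 hz2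
    rw [SimpleGraph.mem_neighborFinset] at hz1 hz2
    exact hfar z hz1 hz2
  have := Finset.card_le_card hsub
  rw [Finset.card_union_of_disjoint hdisj, hK, hK] at this
  omega

theorem diam_two {Γ : SimpleGraph Ω} (hc : Γ.Connected) (μ : ℕ)
    (hM : ∀ x y, Γ.Adj x y → ∃ a : G, a • x = y ∧ (supp a : Finset Ω).card ≤ μ)
    (hd : ∀ x w, Γ.dist x w ≤ 2) (x w : Ω) (hxw : x ≠ w) :
    ∃ a : G, a • x = w ∧ (supp a : Finset Ω).card ≤ 2 * μ := by
  obtain ⟨y, h1, hd1⟩ := closer hc hxw
  have := hd x w
  by_cases hyw : y = w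
  · subst hyw
    obtain ⟨a, ha, hca⟩ := hM _ _ h1
    exact ⟨a, ha, by omega⟩
  · have hpos := hc.pos_dist_of_ne hyw
    have h2 : Γ.Adj y w := SimpleGraph.dist_eq_one_iff_adj.mp (by omega)
    obtain ⟨a1, ha1, hc1⟩ := hM _ _ h1
    obtain ⟨a2, ha2, hc2⟩ := hM _ _ h2
    refine ⟨a2 * a1, by rw [mul_smul, ha1, ha2], ?_⟩
    have := card_supp_mul_le (Ω := Ω) a2 a1
    omega

theorem small_suborbit [MulAction.IsPretransitive G Ω] [Finite G] (M : ℕ)
    (hMn : M < Fintype.card Ω)
    (h2 : ∀ x w : Ω, x ≠ w → ∃ a : G, a • x = w ∧ (supp a : Finset Ω).card ≤ M)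
    (x z1 z2 : Ω) (hz1 : z1 ≠ x) (hz2 : z2 ≠ x) (hnot : ∀ a : G, a • x = x → a • z1 ≠ z2) :
    ∃ z, z ≠ x ∧ (subOrb G x z).card + 2 ≤ M := by
  classical
  by_contra hcon
  push Not at hcon
  set n := Fintype.card Ω with hn
  have hxnot : ∀ z, z ≠ x → x ∉ subOrb G x z := by
    intro z hz
    rw [mem_subOrb]
    rintro ⟨a, ha, hy⟩
    exact hz (MulAction.injective a (hy.trans ha.symm))
  have hle : ∀ z, z ≠ x → (subOrb G x z).card + M ≤ n := by
    intro z hz
    obtain ⟨z', hz', hdisj⟩ : ∃ z', z' ≠ x ∧ Disjoint (subOrb G x z) (subOrb G x z') := by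
      by_cases hzz : z ∈ subOrb G x z1
      · refine ⟨z2, hz2, ?_⟩
        rw [Finset.disjoint_left]
        intro y hy1 hy2
        rw [mem_subOrb] at hy1 hy2 hzz
        obtain ⟨a, ha, hay⟩ := hy1
        obtain ⟨b, hb, hby⟩ := hy2
        obtain ⟨c, hc, hcz⟩ := hzz
        apply hnot (b⁻¹ * a * c)
        · rw [mul_smul, mul_smul, hc, ha, inv_smul_eq_iff, hb]
        · rw [mul_smul, mul_smul, hcz, hay, inv_smul_eq_iff, hby]
      · refine ⟨z1, hz1, ?_⟩
        rw [Finset.disjoint_left]
        intro y hy1 hy2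
        rw [mem_subOrb] at hy1 hy2
        obtain ⟨a, ha, hay⟩ := hy1
        obtain ⟨b, hb, hby⟩ := hy2
        apply hzz
        rw [mem_subOrb]
        refine ⟨a⁻¹ * b, ?_, ?_⟩
        · rw [mul_smul, hb, inv_smul_eq_iff, ha]
        · rw [mul_smul, hby, inv_smul_eq_iff, hay]
    have hunion : (insert x (subOrb G x z ∪ subOrb G x z')).card ≤ n := Finset.card_le_univ _
    rw [Finset.card_insert_of_notMem, Finset.card_union_of_disjoint hdisj] at hunion
    · have := hcon z' hz'
      omega
    · rw [Finset.mem_union]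
      rintro (h | h)
      · exact hxnot z hz h
      · exact hxnot z' hz' h
  have hch : ∀ w : Ω, ∃ a : G, w ≠ x → (a • x = w ∧ (supp a : Finset Ω).card ≤ M) := by
    intro w
    by_cases hw : w = x
    · exact ⟨1, fun h => absurd hw h⟩
    · obtain ⟨a, ha⟩ := h2 x w (Ne.symm hw)
      exact ⟨a, fun _ => ha⟩
  choose gw hgw using hch
  let fixF : G → Finset Ω := fun a => Finset.univ.filter (fun z => a • z = z)
  have hfs : ∀ a : G, (fixF a).card + (supp a : Finset Ω).card = n := by
    intro a
    have := Finset.card_filter_add_card_filter_not (s := (Finset.univ : Finset Ω))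
      (fun z => a • z = z)
    rw [Finset.card_univ] at this
    exact this
  have hn2 : 2 ≤ n := by
    have : ({x, z1} : Finset Ω).card ≤ n := Finset.card_le_univ _
    rwa [Finset.card_pair (Ne.symm hz1)] at this
  have hlow : (n - 1) * (n - M) ≤ ∑ w ∈ Finset.univ.erase x, (fixF (gw w)).card := by
    rw [← Finset.card_univ (α := Ω)] at hn
    have hc1 : ((Finset.univ : Finset Ω).erase x).card = n - 1 := by
      rw [Finset.card_erase_of_mem (Finset.mem_univ x), ← hn]
    rw [← hc1, ← smul_eq_mul, ← Finset.sum_const]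
    apply Finset.sum_le_sum
    intro w hw
    have h1 := hgw w (Finset.ne_of_mem_erase hw)
    have h2' := hfs (gw w)
    omega
  have hup : ∑ w ∈ Finset.univ.erase x, (fixF (gw w)).card ≤ (n - 1) * (n - M - 1) := by
    have hF : ∀ w, (fixF (gw w)).card = ∑ z, if gw w • z = z then 1 else 0 :=
      fun w => Finset.card_filter _ _
    simp_rw [hF]
    rw [Finset.sum_comm]
    rw [← Finset.sum_erase_add _ _ (Finset.mem_univ x)]
    have hzero : ∑ w ∈ Finset.univ.erase x, (if gw w • x = x then 1 else 0) = 0 := by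
      apply Finset.sum_eq_zero
      intro w hw
      have h1 := (hgw w (Finset.ne_of_mem_erase hw)).1
      rw [if_neg]
      rw [h1]
      exact Finset.ne_of_mem_erase hw
    rw [hzero, add_zero]
    have hc1 : ((Finset.univ : Finset Ω).erase x).card = n - 1 := by
      rw [Finset.card_erase_of_mem (Finset.mem_univ x), Finset.card_univ]
    rw [← hc1, ← smul_eq_mul, ← Finset.sum_const]
    apply Finset.sum_le_sum
    intro z hz
    have hzx : z ≠ x := Finset.ne_of_mem_erase hz
    rw [← Finset.card_filter]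
    have hsub : (Finset.univ.erase x).filter (fun w => gw w • z = z) ⊆ (subOrb G z x).erase x := by
      intro w hw
      rw [Finset.mem_filter] at hw
      rw [Finset.mem_erase, mem_subOrb]
      have h1 := (hgw w (Finset.ne_of_mem_erase hw.1)).1
      exact ⟨Finset.ne_of_mem_erase hw.1, gw w, hw.2, h1⟩
    have hxin : x ∈ subOrb G z x := by
      rw [mem_subOrb]
      exact ⟨1, one_smul _ _, one_smul _ _⟩
    have := Finset.card_le_card hsub
    rw [Finset.card_erase_of_mem hxin, ← subOrb_symm x z] at this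
    have := hle z hzx
    omega
  have hfin := le_trans hlow hup
  have hpos : 0 < n - 1 := by omega
  have := Nat.le_of_mul_le_mul_left hfin hpos
  omega

theorem orbGraph_deg_le [MulAction.IsPretransitive G Ω] (x z : Ω)
    [DecidableRel (orbGraph G x z).Adj] :
    ((orbGraph G x z).neighborFinset x).card ≤ (subOrb G x z).card + (subOrb G z x).card := by
  classical
  obtain ⟨b, hb⟩ := MulAction.exists_smul_eq G z x
  have hsub : (orbGraph G x z).neighborFinset x ⊆
      subOrb G x z ∪ (subOrb G z x).image (fun y => b • y) := by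
    intro y hy
    rw [SimpleGraph.mem_neighborFinset] at hy
    obtain ⟨_, a, h⟩ := hy
    rw [Finset.mem_union]
    rcases h with ⟨h1, h2⟩ | ⟨h1, h2⟩
    · left
      rw [mem_subOrb]
      exact ⟨a, h1, h2⟩
    · right
      rw [Finset.mem_image]
      refine ⟨b⁻¹ • y, ?_, smul_inv_smul b y⟩
      rw [mem_subOrb]
      refine ⟨b⁻¹ * a, ?_, ?_⟩
      · rw [mul_smul, h2, inv_smul_eq_iff, hb]
      · rw [mul_smul, h1]
  refine le_trans (Finset.card_le_card hsub) (le_trans (Finset.card_union_le _ _) ?_)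
  exact Nat.add_le_add_left Finset.card_image_le _

end cases

section assembly
variable {G Ω : Type*} [Group G] [MulAction G Ω] [Fintype Ω] [DecidableEq Ω]

theorem orbGraph_elt (g : G) (x0 : Ω) (x y : Ω) (h : (orbGraph G x0 (g • x0)).Adj x y) :
    ∃ b : G, b • x = y ∧ (supp b : Finset Ω).card ≤ (supp g : Finset Ω).card := by
  obtain ⟨_, a, h⟩ := h
  rcases h with ⟨h1, h2⟩ | ⟨h1, h2⟩
  · refine ⟨a * g * a⁻¹, ?_, (card_supp_conj a g).le⟩
    rw [← h1, mul_smul, mul_smul, inv_smul_smul, h2]
  · refine ⟨a * g⁻¹ * a⁻¹, ?_, ?_⟩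
    · rw [← h2, mul_smul, mul_smul, inv_smul_smul, inv_smul_smul, h1]
    · rw [card_supp_conj, supp_inv]

theorem uniprim [Finite G] (hprim : MulAction.IsPreprimitive G Ω) (g : G) (x0 : Ω)
    (hgx : g • x0 ≠ x0) (x z1 z2 : Ω) (hz1 : z1 ≠ x) (hz2 : z2 ≠ x)
    (hnot : ∀ a : G, a • x = x → a • z1 ≠ z2) :
    Fintype.card Ω ≤ (2 * (supp g : Finset Ω).card + 1) ^ 2 := by
  classical
  have htrans : MulAction.IsPretransitive G Ω := hprim.toIsPretransitive
  set μ := (supp g : Finset Ω).card with hμ
  set n := Fintype.card Ω with hn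
  by_cases hbig : n ≤ 2 * μ
  · nlinarith
  push Not at hbig
  have hinv := orbGraph_inv (G := G) x0 (g • x0)
  have hc : (orbGraph G x0 (g • x0)).Connected :=
    conn hprim _ hinv (orbGraph_adj_base (Ne.symm hgx))
  have hM := orbGraph_elt g x0
  have hK : ∀ y, ((orbGraph G x0 (g • x0)).neighborFinset y).card =
      ((orbGraph G x0 (g • x0)).neighborFinset x0).card := by
    intro y
    obtain ⟨a, rfl⟩ := MulAction.exists_smul_eq G x0 y
    exact card_neighbor_smul hinv a x0
  set K := ((orbGraph G x0 (g • x0)).neighborFinset x0).card with hKdef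
  have hI := edge_count hc hinv μ K hM (fun y => (hK y).le)
  by_cases h3 : ∃ x w, 3 ≤ (orbGraph G x0 (g • x0)).dist x w
  · obtain ⟨x', w', hd⟩ := exists_dist_three hc h3
    have h4 := dist_three hc hinv μ K hM hK x' w' hd
    have h5 : 2 * (2 * (n - 1)) ≤ 3 * μ * μ := by
      calc 2 * (2 * (n - 1)) ≤ 2 * (K * μ) := Nat.mul_le_mul_left 2 hI
        _ = (2 * K) * μ := by ring
        _ ≤ (3 * μ) * μ := Nat.mul_le_mul_right μ h4
    have h6 : n ≤ (n - 1) + 1 := by omega
    nlinarith
  · push Not at h3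
    have h2 := diam_two hc μ hM (fun x w => by have := h3 x w; omega)
    obtain ⟨z, hz, hsmall⟩ := small_suborbit (2 * μ) hbig h2 x z1 z2 hz1 hz2 hnot
    have hinv' := orbGraph_inv (G := G) x z
    have hc' : (orbGraph G x z).Connected :=
      conn hprim _ hinv' (orbGraph_adj_base (Ne.symm hz))
    have hK' : ∀ y, ((orbGraph G x z).neighborFinset y).card ≤ 2 * (2 * μ - 2) := by
      intro y
      obtain ⟨a, rfl⟩ := MulAction.exists_smul_eq G x y
      rw [card_neighbor_smul hinv' a x]
      have := orbGraph_deg_le (G := G) x z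
      rw [← subOrb_symm x z] at this
      omega
    have hM' : ∀ u v, (orbGraph G x z).Adj u v →
        ∃ a : G, a • u = v ∧ (supp a : Finset Ω).card ≤ 2 * μ :=
      fun u v huv => h2 u v huv.ne
    have hI' := edge_count hc' hinv' (2 * μ) (2 * (2 * μ - 2)) hM' hK'
    have h6 : n ≤ (n - 1) + 1 := by omega
    have h7 : 2 * μ - 2 + 2 = 2 * μ := by omega
    nlinarith

end assembly

section twotrans
variable {G Ω : Type*} [Group G] [MulAction G Ω] [Fintype Ω] [DecidableEq Ω]

theorem exists_disjoint_translate [Finite G] (x0 : Ω)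
    (htr : ∀ z1 z2 : Ω, z1 ≠ x0 → z2 ≠ x0 → ∃ a : G, a • x0 = x0 ∧ a • z1 = z2)
    (T : Finset Ω) (hT : x0 ∉ T) (hcard : T.card ^ 2 < Fintype.card Ω - 1) :
    ∃ a : G, a • x0 = x0 ∧ ∀ t ∈ T, a • t ∉ T := by
  classical
  have : Fintype G := Fintype.ofFinite G
  by_contra hcon
  push Not at hcon
  set n := Fintype.card Ω with hn
  let H : Finset G := Finset.univ.filter (fun a => a • x0 = x0)
  have hHmem : ∀ a : G, a ∈ H ↔ a • x0 = x0 := by
    intro a
    simp [H]
  have hHpos : 0 < H.card := Finset.card_pos.mpr ⟨1, (hHmem 1).mpr (one_smul _ _)⟩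
  let c : Ω → Ω → ℕ := fun t' t => (H.filter (fun a => a • t' = t)).card
  have hconst : ∀ t' t1 t2, t1 ≠ x0 → t2 ≠ x0 → c t' t1 = c t' t2 := by
    intro t' t1 t2 h1 h2
    obtain ⟨b, hb0, hb⟩ := htr t1 t2 h1 h2
    apply Finset.card_bij (fun a _ => b * a)
    · intro a ha
      rw [Finset.mem_filter, hHmem] at ha ⊢
      exact ⟨by rw [mul_smul, ha.1, hb0], by rw [mul_smul, ha.2, hb]⟩
    · intro a1 _ a2 _ h
      exact mul_left_cancel h
    · intro a ha
      rw [Finset.mem_filter, hHmem] at ha
      refine ⟨b⁻¹ * a, ?_, by group⟩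
      rw [Finset.mem_filter, hHmem]
      exact ⟨by rw [mul_smul, ha.1, inv_smul_eq_iff, hb0],
        by rw [mul_smul, ha.2, inv_smul_eq_iff, hb]⟩
  have hsum : ∀ t', t' ≠ x0 → ∑ t ∈ Finset.univ.erase x0, c t' t = H.card := by
    intro t' ht'
    symm
    apply Finset.card_eq_sum_card_fiberwise
    intro a ha
    have ha' := (hHmem a).mp ha
    rw [Finset.mem_coe, Finset.mem_erase]
    refine ⟨?_, Finset.mem_univ _⟩
    intro h
    exact ht' (MulAction.injective a (h.trans ha'.symm))
  have hmul : ∀ t' t, t' ≠ x0 → t ≠ x0 → c t' t * (n - 1) = H.card := by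
    intro t' t ht' ht
    rw [← hsum t' ht', Finset.sum_congr rfl
      (fun t2 ht2 => hconst t' t2 t (Finset.ne_of_mem_erase ht2) ht), Finset.sum_const,
      smul_eq_mul, Finset.card_erase_of_mem (Finset.mem_univ x0), Finset.card_univ, mul_comm]
  have h1 : H.card ≤ ∑ a ∈ H, (T.filter (fun t => a • t ∈ T)).card := by
    rw [Finset.card_eq_sum_ones]
    apply Finset.sum_le_sum
    intro a ha
    obtain ⟨t, ht, hat⟩ := hcon a ((hHmem a).mp ha)
    exact Finset.card_pos.mpr ⟨t, Finset.mem_filter.mpr ⟨ht, hat⟩⟩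
  have h2 : ∑ a ∈ H, (T.filter (fun t => a • t ∈ T)).card = ∑ t' ∈ T, ∑ t ∈ T, c t' t := by
    simp_rw [Finset.card_filter]
    rw [Finset.sum_comm]
    apply Finset.sum_congr rfl
    intro t' ht'
    rw [← Finset.card_filter]
    rw [Finset.card_eq_sum_card_fiberwise (f := fun a => a • t') (t := T)]
    · apply Finset.sum_congr rfl
      intro t ht
      congr 1
      ext a
      simp only [Finset.mem_filter]
      constructor
      · rintro ⟨⟨ha, _⟩, hat⟩
        exact ⟨ha, hat⟩
      · rintro ⟨ha, hat⟩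
        exact ⟨⟨ha, hat ▸ ht⟩, hat⟩
    · intro a ha
      exact (Finset.mem_filter.mp ha).2
  have h3 : H.card * (n - 1) ≤ T.card ^ 2 * H.card := by
    calc H.card * (n - 1) ≤ (∑ t' ∈ T, ∑ t ∈ T, c t' t) * (n - 1) :=
          Nat.mul_le_mul_right _ (h1.trans h2.le)
      _ = ∑ t' ∈ T, ∑ t ∈ T, c t' t * (n - 1) := by
          rw [Finset.sum_mul]
          apply Finset.sum_congr rfl
          intro t' _
          rw [Finset.sum_mul]
      _ = ∑ t' ∈ T, ∑ t ∈ T, H.card := by
          apply Finset.sum_congr rfl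
          intro t' ht'
          apply Finset.sum_congr rfl
          intro t ht
          exact hmul t' t (ne_of_mem_of_not_mem ht' hT) (ne_of_mem_of_not_mem ht hT)
      _ = T.card ^ 2 * H.card := by
          simp only [Finset.sum_const, smul_eq_mul]
          ring
  have h4 : n - 1 ≤ T.card ^ 2 := by
    rw [mul_comm] at h3
    exact Nat.le_of_mul_le_mul_right h3 hHpos
  omega

end twotrans


/-- A classification-free minimal-degree bound. Let G be a finite group acting faithfully and primitively on a finite set Ω with n elements, and suppose that the image of G in the symmetric group on Ω does not contain the alternating group on Ω. Then every non-identity element of G moves at least (√n − 1)/2 points of Ω, that is, it fixes at most n − (√n − 1)/2 points. -/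
theorem result {G Ω : Type*} [Group G] [Finite G] [MulAction G Ω] [FaithfulSMul G Ω] [Fintype Ω] [DecidableEq Ω]
    (hprim : MulAction.IsPreprimitive G Ω)
    (hA : ¬ alternatingGroup Ω ≤ (MulAction.toPermHom G Ω).range)
    (g : G) (hg : g ≠ 1) :
    (Real.sqrt (Fintype.card Ω) - 1) / 2 ≤ (Fintype.card Ω : ℝ) - Nat.card (MulAction.fixedBy Ω g) := by
  classical
  obtain ⟨x0, hx0⟩ : ∃ x0 : Ω, g • x0 ≠ x0 := by
    by_contra h
    push Not at h
    apply hg
    apply FaithfulSMul.eq_of_smul_eq_smul (α := Ω)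
    intro a
    rw [h a, one_smul]
  have hnat : Fintype.card Ω ≤ (2 * (supp g : Finset Ω).card + 1) ^ 2 := by
    by_cases h2t : ∀ x z1 z2 : Ω, z1 ≠ x → z2 ≠ x → ∃ a : G, a • x = x ∧ a • z1 = z2
    · by_contra hlt
      push Not at hlt
      have hx0s : x0 ∈ (supp g : Finset Ω) := mem_supp.mpr hx0
      have hT : x0 ∉ (supp g : Finset Ω).erase x0 := Finset.notMem_erase _ _
      have hTc : ((supp g : Finset Ω).erase x0).card = (supp g : Finset Ω).card - 1 :=
        Finset.card_erase_of_mem hx0s
      have hpos : 0 < (supp g : Finset Ω).card := Finset.card_pos.mpr ⟨x0, hx0s⟩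
      have hcard : ((supp g : Finset Ω).erase x0).card ^ 2 < Fintype.card Ω - 1 := by
        rw [hTc]
        have h1 : ((supp g : Finset Ω).card - 1) ^ 2 + 2 ≤ (2 * (supp g : Finset Ω).card + 1) ^ 2 := by
          have : (supp g : Finset Ω).card - 1 ≤ (supp g : Finset Ω).card := Nat.sub_le _ _
          nlinarith
        omega
      obtain ⟨a, ha0, haT⟩ := exists_disjoint_translate x0 (h2t x0) _ hT hcard
      apply hA
      have ha0' : a⁻¹ • x0 = x0 := by rw [inv_smul_eq_iff, ha0]
      have h3c : (MulAction.toPermHom G Ω g * MulAction.toPermHom G Ω (a * g * a⁻¹) *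
          (MulAction.toPermHom G Ω g)⁻¹ * (MulAction.toPermHom G Ω (a * g * a⁻¹))⁻¹).IsThreeCycle := by
        apply Cfsg.Agent.S3681.isThreeCycle_comm _ _ x0
        · exact hx0
        · change (a * g * a⁻¹) • x0 ≠ x0
          rw [mul_smul, mul_smul, ha0']
          intro h
          apply hx0
          apply MulAction.injective a
          change a • g • x0 = a • x0
          rw [h, ha0]
        · intro z hz hgz
          change g • z ≠ z at hgz
          change (a * g * a⁻¹) • z = z
          by_contra hcon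
          have hz1 : z ∈ (supp g : Finset Ω).erase x0 :=
            Finset.mem_erase.mpr ⟨hz, mem_supp.mpr hgz⟩
          have hz2 : a⁻¹ • z ∈ (supp g : Finset Ω).erase x0 := by
            rw [Finset.mem_erase, mem_supp]
            refine ⟨?_, ?_⟩
            · intro h
              apply hz
              rw [inv_smul_eq_iff, ha0] at h
              exact h
            · intro h
              apply hcon
              rw [mul_smul, mul_smul, h, smul_inv_smul]
          have := haT _ hz2
          rw [smul_inv_smul] at this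
          exact this hz1
      have hmem : MulAction.toPermHom G Ω g * MulAction.toPermHom G Ω (a * g * a⁻¹) *
          (MulAction.toPermHom G Ω g)⁻¹ * (MulAction.toPermHom G Ω (a * g * a⁻¹))⁻¹ ∈
          (MulAction.toPermHom G Ω).range :=
        ⟨g * (a * g * a⁻¹) * g⁻¹ * (a * g * a⁻¹)⁻¹, by simp only [map_mul, map_inv]⟩
      let φ : G → (MulAction.toPermHom G Ω).range := fun g => ⟨MulAction.toPermHom G Ω g, ⟨g, rfl⟩⟩
      let f : Ω →ₑ[φ] Ω := { toFun := id, map_smul' := fun g x => rfl }
      have hprimH : MulAction.IsPreprimitive (MulAction.toPermHom G Ω).range Ω :=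
        MulAction.IsPreprimitive.of_surjective (f := f) Function.surjective_id
      exact Equiv.Perm.alternatingGroup_le_of_isPreprimitive_of_isThreeCycle_mem hprimH h3c hmem
    · push Not at h2t
      obtain ⟨x, z1, z2, hz1, hz2, hnot⟩ := h2t
      exact uniprim hprim g x0 hx0 x z1 z2 hz1 hz2 hnot
  have hfix : Nat.card (MulAction.fixedBy Ω g) + (supp g : Finset Ω).card = Fintype.card Ω := by
    have h1 : Nat.card (MulAction.fixedBy Ω g) =
        (Finset.univ.filter (fun z : Ω => g • z = z)).card := by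
      rw [Nat.card_eq_fintype_card, ← Set.toFinset_card]
      congr 1
      ext z
      simp [MulAction.mem_fixedBy]
    rw [h1]
    have := Finset.card_filter_add_card_filter_not (s := (Finset.univ : Finset Ω))
      (fun z => g • z = z)
    rw [Finset.card_univ] at this
    exact this
  set μ := (supp g : Finset Ω).card with hμ
  have hreal : (Fintype.card Ω : ℝ) - Nat.card (MulAction.fixedBy Ω g) = (μ : ℝ) := by
    have : (Fintype.card Ω : ℝ) = (Nat.card (MulAction.fixedBy Ω g) : ℝ) + (μ : ℝ) := by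
      exact_mod_cast hfix.symm
    linarith
  rw [hreal]
  have hsq : Real.sqrt (Fintype.card Ω) ≤ 2 * (μ : ℝ) + 1 := by
    rw [Real.sqrt_le_left (by positivity)]
    exact_mod_cast hnat
  linarith

end Cfsg.Agent.S5713
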