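import Mathlib
import Cfsg.Statements.S5726
-- import your own Cfsg.Agent.* helpers here

set_option autoImplicit false
open Cfsg

namespace Cfsg.Agent.S5726

/-- A Sylow `p`-subgroup of a finite group acting transitively on a set of `p`-power size has a full orbit. -/
theorem sylow_orbit_eq_univ {G Ω : Type*} [Group G] [Finite G] [MulAction G Ω] [Finite Ω]
    [MulAction.IsPretransitive G Ω] (p k : ℕ) [Fact p.Prime] (hΩ : Nat.card Ω = p ^ k)
    (P : Sylow p G) (ω : Ω) : MulAction.orbit (↥(P : Subgroup G)) ω = Set.univ := by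
  classical
  set S := MulAction.stabilizer G ω with hS
  have hSi : S.index = p ^ k := by
    rw [hS, MulAction.index_stabilizer_of_transitive, hΩ]
  have hPi : ¬ p ∣ (P : Subgroup G).index := P.not_dvd_index
  have hcop : Nat.Coprime (P : Subgroup G).index S.index := by
    rw [hSi]
    exact Nat.Coprime.pow_right k ((Nat.Prime.coprime_iff_not_dvd Fact.out).mpr hPi).symm
  have h1 : (P : Subgroup G).index ∣ (S ⊓ (P : Subgroup G)).index :=
    Subgroup.index_dvd_of_le inf_le_right
  have h2 : S.index ∣ (S ⊓ (P : Subgroup G)).index :=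
    Subgroup.index_dvd_of_le inf_le_left
  have h3 : (P : Subgroup G).index * S.index ∣ (S ⊓ (P : Subgroup G)).index :=
    hcop.mul_dvd_of_dvd_of_dvd h1 h2
  have h4 : (S ⊓ (P : Subgroup G)).relIndex (P : Subgroup G) * (P : Subgroup G).index
      = (S ⊓ (P : Subgroup G)).index := Subgroup.relIndex_mul_index inf_le_right
  have hPpos : 0 < (P : Subgroup G).index := Nat.pos_of_ne_zero Subgroup.index_ne_zero_of_finite
  have h5 : S.index ∣ S.relIndex (P : Subgroup G) := by
    rw [← Subgroup.inf_relIndex_right]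
    rw [← h4, mul_comm ((S ⊓ (P : Subgroup G)).relIndex (P : Subgroup G))] at h3
    exact Nat.dvd_of_mul_dvd_mul_left hPpos h3
  have h6 : S.relIndex (P : Subgroup G) = (MulAction.orbit (↥(P : Subgroup G)) ω).ncard := by
    rw [← MulAction.index_stabilizer]
    rfl
  have h7 : (MulAction.orbit (↥(P : Subgroup G)) ω).ncard ≤ Nat.card Ω := by
    rw [← Set.ncard_univ]
    exact Set.ncard_le_ncard (Set.subset_univ _) Set.finite_univ
  have h8 : 0 < (MulAction.orbit (↥(P : Subgroup G)) ω).ncard := by
    rw [Set.ncard_pos]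
    exact ⟨ω, MulAction.mem_orbit_self ω⟩
  have h9 : (MulAction.orbit (↥(P : Subgroup G)) ω).ncard = Nat.card Ω := by
    apply le_antisymm h7
    rw [hΩ, ← hSi]
    rw [h6] at h5
    exact Nat.le_of_dvd h8 h5
  rw [← Set.ncard_univ] at h9
  exact Set.eq_of_subset_of_ncard_le (Set.subset_univ _) h9.ge Set.finite_univ

/-- If a finite group acts faithfully and transitively on a set with p^k elements, p a prime and k ≥ 1, then some element of order p fixes no point. -/
theorem result {G Ω : Type*} [Group G] [Finite G] [MulAction G Ω] [FaithfulSMul G Ω] [Fintype Ω] (htr : MulAction.IsPretransitive G Ω)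
    (p k : ℕ) (hp : p.Prime) (hk : 1 ≤ k) (hΩ : Fintype.card Ω = p ^ k) :
    ∃ g : G, orderOf g = p ∧ ∀ ω : Ω, g • ω ≠ ω := by
  classical
  have : Fact p.Prime := ⟨hp⟩
  have hΩ' : Nat.card Ω = p ^ k := by rw [Nat.card_eq_fintype_card, hΩ]
  obtain ⟨P⟩ : Nonempty (Sylow p G) := inferInstance
  have hne : Nonempty Ω := by
    rw [← Fintype.card_pos_iff, hΩ]
    exact pow_pos hp.pos k
  obtain ⟨ω₀⟩ := hne
  have horb := sylow_orbit_eq_univ p k hΩ' P
  -- P is nontrivial
  have hPnt : Nontrivial (↥(P : Subgroup G)) := by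
    by_contra hnt
    rw [not_nontrivial_iff_subsingleton] at hnt
    have h1 : MulAction.orbit (↥(P : Subgroup G)) ω₀ = {ω₀} := by
      ext x
      constructor
      · rintro ⟨g, rfl⟩
        have : g = 1 := Subsingleton.elim _ _
        simp [this]
      · rintro rfl
        exact MulAction.mem_orbit_self _
    rw [horb ω₀] at h1
    have h2 : Nat.card Ω = 1 := by
      rw [← Set.ncard_univ, h1, Set.ncard_singleton]
    rw [hΩ'] at h2
    have : p ^ 1 ≤ p ^ k := Nat.pow_le_pow_right hp.pos hk
    rw [h2, pow_one] at this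
    exact absurd this (not_le.mpr hp.one_lt)
  have hPp : IsPGroup p (↥(P : Subgroup G)) := P.isPGroup'
  have hZnt : Nontrivial (Subgroup.center (↥(P : Subgroup G))) := hPp.center_nontrivial
  have hZp : IsPGroup p (Subgroup.center (↥(P : Subgroup G))) := hPp.to_subgroup _
  obtain ⟨n, hn⟩ := IsPGroup.iff_card.mp hZp
  have hn0 : n ≠ 0 := by
    rintro rfl
    rw [pow_zero] at hn
    have := (Finite.one_lt_card_iff_nontrivial).mpr hZnt
    omega
  have hdvd : p ∣ Nat.card (Subgroup.center (↥(P : Subgroup G))) := by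
    rw [hn]
    exact dvd_pow_self p hn0
  obtain ⟨z, hz⟩ := exists_prime_orderOf_dvd_card' p hdvd
  refine ⟨((z : ↥(P : Subgroup G)) : G), ?_, ?_⟩
  · rw [Subgroup.orderOf_coe, Subgroup.orderOf_coe, hz]
  · intro ω hω
    have hall : ∀ ω' : Ω, ((z : ↥(P : Subgroup G)) : G) • ω' = ω' := by
      intro ω'
      have hmem : ω' ∈ MulAction.orbit (↥(P : Subgroup G)) ω := by
        rw [horb ω]; exact Set.mem_univ _
      obtain ⟨g, rfl⟩ := hmem
      have hcomm : (z : ↥(P : Subgroup G)) * g = g * (z : ↥(P : Subgroup G)) :=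
        (Subgroup.mem_center_iff.mp z.2 g).symm
      show ((z : ↥(P : Subgroup G)) : G) • ((g : G) • ω) = (g : G) • ω
      rw [smul_smul, ← Subgroup.coe_mul, hcomm, Subgroup.coe_mul, ← smul_smul, hω]
    have h1 : ((z : ↥(P : Subgroup G)) : G) = 1 := by
      apply FaithfulSMul.eq_of_smul_eq_smul (α := Ω)
      intro a
      rw [hall a, one_smul]
    have h2 : orderOf (((z : ↥(P : Subgroup G)) : G)) = p := by
      rw [Subgroup.orderOf_coe, Subgroup.orderOf_coe, hz]
    rw [h1, orderOf_one] at h2
    exact hp.one_lt.ne h2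

end Cfsg.Agent.S5726
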