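import Mathlib
import Cfsg.Statements.S5727
import Cfsg.Agent.S5726

set_option autoImplicit false
open Cfsg

namespace Cfsg.Agent.S5727

/-- A finite `p`-group acting on a finite set of size `m * p` with `m < p`, all of whose point stabilizers have
index `p`, contains an element without fixed points whose `p`-th power acts trivially. -/
theorem pgroup_derangement {Q Ω : Type*} [Group Q] [Finite Q] [MulAction Q Ω] [Fintype Ω]
    (p m : ℕ) (hp : p.Prime) (hQ : IsPGroup p Q) (hm : m < p) (hΩ : Fintype.card Ω = m * p)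
    (hstab : ∀ ω : Ω, (MulAction.stabilizer Q ω).index = p) :
    ∃ z : Q, (∀ ω : Ω, z • ω ≠ ω) ∧ ∀ ω : Ω, z ^ p • ω = ω := by
  classical
  have : Fact p.Prime := ⟨hp⟩
  have : Fintype Q := Fintype.ofFinite Q
  by_cases hemp : IsEmpty Ω
  · exact ⟨1, fun ω => (hemp.false ω).elim, fun ω => (hemp.false ω).elim⟩
  rw [not_isEmpty_iff] at hemp
  obtain ⟨ω₀⟩ := hemp
  -- the order of Q is a positive power of p
  obtain ⟨a, ha⟩ := IsPGroup.iff_card.mp hQ
  have ha0 : a ≠ 0 := by
    rintro rfl
    rw [pow_zero] at ha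
    have h1 := (hstab ω₀) ▸ Subgroup.index_dvd_card (MulAction.stabilizer Q ω₀)
    rw [ha] at h1
    exact hp.one_lt.ne' (Nat.dvd_one.mp h1)
  have hminFac : (Nat.card Q).minFac = p := by
    rw [ha]; exact hp.pow_minFac ha0
  have hnormal : ∀ ω : Ω, (MulAction.stabilizer Q ω).Normal := fun ω =>
    Subgroup.normal_of_index_eq_minFac_card (by rw [hstab ω, hminFac])
  -- a stabilizer fixes the whole orbit pointwise
  have hfixorb : ∀ (z : Q) (ω : Ω), z • ω = ω → ∀ g : Q, z • (g • ω) = g • ω := by
    intro z ω hz g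
    have hzmem : z ∈ MulAction.stabilizer Q ω := hz
    have h1 : g⁻¹ * z * g⁻¹⁻¹ ∈ MulAction.stabilizer Q ω := (hnormal ω).conj_mem z hzmem g⁻¹
    rw [inv_inv] at h1
    have h2 : (g⁻¹ * z * g) • ω = ω := h1
    calc z • (g • ω) = g • ((g⁻¹ * z * g) • ω) := by
            rw [smul_smul, smul_smul]; congr 1; group
      _ = g • ω := by rw [h2]
  -- the p-th power of any element acts trivially
  have hpow : ∀ (z : Q) (ω : Ω), z ^ p • ω = ω := by
    intro z ω
    have := hnormal ω
    have h1 : z ^ (MulAction.stabilizer Q ω).index ∈ MulAction.stabilizer Q ω :=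
      Subgroup.pow_index_mem _ z
    rw [hstab ω] at h1
    exact h1
  by_contra hcon
  push_neg at hcon
  have hcon' : ∀ z : Q, ∃ ω : Ω, z • ω = ω := by
    intro z
    by_contra h
    push_neg at h
    obtain ⟨ω, hω⟩ := hcon z h
    exact hω (hpow z ω)
  -- every element fixes at least p points
  have hfixge : ∀ z : Q, p ≤ (Finset.univ.filter (fun ω : Ω => z • ω = ω)).card := by
    intro z
    obtain ⟨ω, hω⟩ := hcon' z
    have h1 : (MulAction.orbit Q ω).ncard = p := by
      rw [← MulAction.index_stabilizer, hstab ω]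
    have h2 : MulAction.orbit Q ω ⊆ ((Finset.univ.filter (fun ω : Ω => z • ω = ω) : Finset Ω) : Set Ω) := by
      rintro _ ⟨g, rfl⟩
      simp only [Finset.coe_filter, Finset.mem_univ, true_and, Set.mem_setOf_eq]
      exact hfixorb z ω hω g
    have h3 := Set.ncard_le_ncard h2 (Finset.finite_toSet _)
    rw [h1, Set.ncard_coe_finset] at h3
    exact h3
  -- double counting
  have hdc : ∑ z : Q, (Finset.univ.filter (fun ω : Ω => z • ω = ω)).card
      = ∑ ω : Ω, (Finset.univ.filter (fun z : Q => z • ω = ω)).card :=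
    Finset.sum_card_bipartiteAbove_eq_sum_card_bipartiteBelow (s := Finset.univ) (t := Finset.univ)
      (fun (z : Q) (ω : Ω) => z • ω = ω)
  have hstabcard : ∀ ω : Ω, (Finset.univ.filter (fun z : Q => z • ω = ω)).card * p = Fintype.card Q := by
    intro ω
    have h1 : (Finset.univ.filter (fun z : Q => z • ω = ω)).card = Nat.card (MulAction.stabilizer Q ω) := by
      rw [Nat.card_eq_fintype_card, Fintype.card_subtype]
      rfl
    rw [h1, ← hstab ω, Subgroup.card_mul_index, Nat.card_eq_fintype_card]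
  have hsum1 : (∑ ω : Ω, (Finset.univ.filter (fun z : Q => z • ω = ω)).card) * p
      = (m * p) * Fintype.card Q := by
    rw [Finset.sum_mul, Finset.sum_congr rfl (fun ω _ => hstabcard ω), Finset.sum_const,
      Finset.card_univ, hΩ, smul_eq_mul]
  have hsum2 : p * Fintype.card Q ≤ ∑ z : Q, (Finset.univ.filter (fun ω : Ω => z • ω = ω)).card := by
    calc p * Fintype.card Q = ∑ _z : Q, p := by
            rw [Finset.sum_const, Finset.card_univ, smul_eq_mul, mul_comm]
      _ ≤ _ := Finset.sum_le_sum (fun z _ => hfixge z)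
  rw [hdc] at hsum2
  have hQpos : 0 < Fintype.card Q := Fintype.card_pos
  have h3 : p * Fintype.card Q * p ≤ m * p * Fintype.card Q := by
    rw [← hsum1]
    exact Nat.mul_le_mul_right p hsum2
  have h4 : p * (Fintype.card Q * p) ≤ m * (Fintype.card Q * p) := by
    calc p * (Fintype.card Q * p) = p * Fintype.card Q * p := by ring
      _ ≤ m * p * Fintype.card Q := h3
      _ = m * (Fintype.card Q * p) := by ring
  have h5 : p ≤ m := Nat.le_of_mul_le_mul_right h4 (Nat.mul_pos hQpos hp.pos)
  omega

/-- If a finite group acts faithfully and transitively on a set with m·p elements, where p is a prime and 1 ≤ m ≤ p, then some element of order p fixes no point. -/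
theorem result {G Ω : Type*} [Group G] [Finite G] [MulAction G Ω] [FaithfulSMul G Ω] [Fintype Ω] (htr : MulAction.IsPretransitive G Ω)
    (p m : ℕ) (hp : p.Prime) (hm : 1 ≤ m) (hmp : m ≤ p) (hΩ : Fintype.card Ω = m * p) :
    ∃ g : G, orderOf g = p ∧ ∀ ω : Ω, g • ω ≠ ω := by
  classical
  rcases Nat.lt_or_ge m p with hlt | hge
  swap
  · have hmeq : m = p := le_antisymm hmp hge
    subst hmeq
    exact Cfsg.Agent.S5726.result htr m 2 hp (by norm_num) (by rw [hΩ]; ring)
  have : Fact p.Prime := ⟨hp⟩
  have hΩ' : Nat.card Ω = m * p := by rw [Nat.card_eq_fintype_card, hΩ]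
  obtain ⟨P⟩ : Nonempty (Sylow p G) := inferInstance
  have hne : Nonempty Ω := by
    rw [← Fintype.card_pos_iff, hΩ]
    exact Nat.mul_pos hm hp.pos
  -- every point stabilizer in P has index p
  have hstab : ∀ ω : Ω, (MulAction.stabilizer (↥(P : Subgroup G)) ω).index = p := by
    intro ω
    set S := MulAction.stabilizer G ω with hS
    have hSi : S.index = m * p := by
      rw [hS, MulAction.index_stabilizer_of_transitive, hΩ']
    have hPi : ¬ p ∣ (P : Subgroup G).index := P.not_dvd_index
    have h2 : S.index ∣ (S ⊓ (P : Subgroup G)).index := Subgroup.index_dvd_of_le inf_le_left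
    have h4 : (S ⊓ (P : Subgroup G)).relIndex (P : Subgroup G) * (P : Subgroup G).index
        = (S ⊓ (P : Subgroup G)).index := Subgroup.relIndex_mul_index inf_le_right
    have h5 : p ∣ S.relIndex (P : Subgroup G) := by
      rw [← Subgroup.inf_relIndex_right]
      have h6 : p ∣ (S ⊓ (P : Subgroup G)).relIndex (P : Subgroup G) * (P : Subgroup G).index := by
        rw [h4]
        exact dvd_trans (by rw [hSi]; exact dvd_mul_left p m) h2
      rcases (Nat.Prime.dvd_mul hp).mp h6 with h | h
      · exact h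
      · exact absurd h hPi
    have h6 : S.relIndex (P : Subgroup G) = (MulAction.stabilizer (↥(P : Subgroup G)) ω).index := rfl
    rw [← h6]
    -- the relative index is a power of p, at most m * p < p ^ 2
    have h7 : S.relIndex (P : Subgroup G) ∣ Nat.card (↥(P : Subgroup G)) := Subgroup.relIndex_dvd_card _ _
    obtain ⟨a, ha⟩ := IsPGroup.iff_card.mp P.isPGroup'
    rw [ha] at h7
    obtain ⟨j, -, hj⟩ := (Nat.dvd_prime_pow hp).mp h7
    have h8 : S.relIndex (P : Subgroup G) = (MulAction.orbit (↥(P : Subgroup G)) ω).ncard := by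
      rw [h6, MulAction.index_stabilizer]
    have h9 : (MulAction.orbit (↥(P : Subgroup G)) ω).ncard ≤ Nat.card Ω := by
      rw [← Set.ncard_univ]
      exact Set.ncard_le_ncard (Set.subset_univ _) Set.finite_univ
    rw [← h8, hΩ', hj] at h9
    have h10 : p ^ j < p ^ 2 := by
      calc p ^ j ≤ m * p := h9
        _ < p * p := Nat.mul_lt_mul_of_pos_right hlt hp.pos
        _ = p ^ 2 := by ring
    have h11 : j < 2 := (Nat.pow_lt_pow_iff_right hp.one_lt).mp h10
    rw [hj] at h5 ⊢
    interval_cases j
    · rw [pow_zero] at h5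
      exact absurd (Nat.dvd_one.mp h5) hp.one_lt.ne'
    · exact pow_one p
  obtain ⟨z, hz1, hz2⟩ := pgroup_derangement (Q := ↥(P : Subgroup G)) (Ω := Ω) p m hp P.isPGroup' hlt hΩ hstab
  refine ⟨(z : G), ?_, fun ω => hz1 ω⟩
  obtain ⟨ω₀⟩ := hne
  have hzne : (z : G) ≠ 1 := by
    intro h
    apply hz1 ω₀
    show (z : G) • ω₀ = ω₀
    rw [h, one_smul]
  have hzp : (z : G) ^ p = 1 := by
    apply FaithfulSMul.eq_of_smul_eq_smul (α := Ω)
    intro ω
    rw [one_smul]
    exact hz2 ω
  exact orderOf_eq_prime hzp hzne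

end Cfsg.Agent.S5727
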