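import Mathlib
import Cfsg.Statements.S5728

set_option autoImplicit false
open Cfsg

namespace Cfsg.Agent.S5728

section

variable {K : Type} [Field K]

/-- The scaling permutation. -/
def scalePerm (c : K) (hc : c ≠ 0) : Equiv.Perm K := Equiv.mulLeft₀ c hc

theorem scalePerm_apply (c : K) (hc : c ≠ 0) (y : K) : scalePerm c hc y = c * y := rfl

theorem scalePerm_inv_apply (c : K) (hc : c ≠ 0) (y : K) : (scalePerm c hc)⁻¹ y = c⁻¹ * y := by
  rw [Equiv.Perm.inv_def]
  apply (scalePerm c hc).injective
  rw [Equiv.apply_symm_apply, scalePerm_apply, ← mul_assoc, mul_inv_cancel₀ hc, one_mul]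

theorem scalePerm_mem (c : K) (hc : c ≠ 0) : scalePerm c hc ∈ affineGroup K :=
  ⟨Units.mk0 c hc, 0, fun x => by rw [scalePerm_apply, Units.val_mk0, add_zero]⟩

/-- The translation permutation. -/
def transPerm (c : K) : Equiv.Perm K := Equiv.addRight c

theorem transPerm_apply (c : K) (y : K) : transPerm c y = y + c := rfl

theorem transPerm_inv_apply (c : K) (y : K) : (transPerm c)⁻¹ y = y - c := by
  rw [Equiv.Perm.inv_def]
  apply (transPerm c).injective
  rw [Equiv.apply_symm_apply, transPerm_apply, sub_add_cancel]

theorem transPerm_mem (c : K) : transPerm c ∈ affineGroup K :=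
  ⟨1, c, fun x => by rw [transPerm_apply, Units.val_one, one_mul]⟩

theorem pow_scale_apply (h : Equiv.Perm K) (a : K) (hh : ∀ y, h y = a * y) (r : ℕ) (y : K) :
    (h ^ r) y = a ^ r * y := by
  induction r generalizing y with
  | zero => simp
  | succ n ih => rw [pow_succ, Equiv.Perm.mul_apply, ih, hh, pow_succ, mul_assoc]

end

/-- An elusive transitive action. Let p = 2^s − 1 be a prime and let F be the field with p² elements. Inside the group of affine maps x ↦ a·x + b of F (a ≠ 0), consider the subgroup of maps with both coefficients in the prime field. Then every element of prime order of the affine group is conjugate, within the affine group, to an element of that subgroup; equivalently, in the transitive action of the affine group on the cosets of that subgroup (of degree p(p + 1)) every element of prime order fixes a point. -/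
theorem result (p s : ℕ) [Fact p.Prime] (hs : p = 2 ^ s - 1)
    (g : Equiv.Perm (GaloisField p 2)) (hg : g ∈ Cfsg.affineGroup (GaloisField p 2)) (hord : (orderOf g).Prime) :
    ∃ x ∈ Cfsg.affineGroup (GaloisField p 2), ∃ a b : ZMod p, a ≠ 0 ∧
      ∀ y : GaloisField p 2, (x * g * x⁻¹) y = algebraMap (ZMod p) (GaloisField p 2) a * y + algebraMap (ZMod p) (GaloisField p 2) b := by
  obtain ⟨a, b, hab⟩ := hg
  have hp : p.Prime := Fact.out
  by_cases ha : (a : GaloisField p 2) = 1
  · -- translations
    have hb : b ≠ 0 := by
      intro hb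
      have : g = 1 := by
        ext y
        rw [hab, ha, hb, one_mul, add_zero, Equiv.Perm.one_apply]
      rw [this, orderOf_one] at hord
      exact Nat.not_prime_one hord
    refine ⟨scalePerm b⁻¹ (inv_ne_zero hb), scalePerm_mem _ _, 1, 1, one_ne_zero, ?_⟩
    intro y
    rw [Equiv.Perm.mul_apply, Equiv.Perm.mul_apply, scalePerm_inv_apply, scalePerm_apply, hab, ha,
      map_one, inv_inv, one_mul, one_mul, mul_add, ← mul_assoc, inv_mul_cancel₀ hb, one_mul]
  · -- a fixed point
    have h1a : (1 : GaloisField p 2) - a ≠ 0 := by
      intro h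
      apply ha
      rw [sub_eq_zero] at h
      exact h.symm
    set c : GaloisField p 2 := b / (1 - a) with hc
    have hconj : ∀ y : GaloisField p 2, (transPerm (-c) * g * (transPerm (-c))⁻¹) y = (a : GaloisField p 2) * y := by
      intro y
      rw [Equiv.Perm.mul_apply, Equiv.Perm.mul_apply, transPerm_inv_apply, transPerm_apply, hab, hc]
      field_simp
      ring
    -- a is in the prime field
    set r := orderOf g with hr
    have hpow : (transPerm (-c) * g * (transPerm (-c))⁻¹) ^ r = 1 := by
      rw [conj_pow, hr, pow_orderOf_eq_one, mul_one, mul_inv_cancel]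
    have har : (a : GaloisField p 2) ^ r = 1 := by
      have := pow_scale_apply _ _ hconj r 1
      rw [hpow, Equiv.Perm.one_apply, mul_one] at this
      exact this.symm
    have har' : a ^ r = 1 := by
      apply Units.ext
      rw [Units.val_pow_eq_pow_val, har, Units.val_one]
    have haone : a ≠ 1 := by
      intro h
      apply ha
      rw [h, Units.val_one]
    have hoa : orderOf a = r := by
      have hdvd := orderOf_dvd_of_pow_eq_one har'
      rcases (Nat.dvd_prime hord).mp hdvd with h | h
      · exact absurd (orderOf_eq_one_iff.mp h) haone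
      · exact h
    have hrdvd : r ∣ p ^ 2 - 1 := by
      rw [← hoa, ← GaloisField.card p 2 (by norm_num), ← Nat.card_units]
      exact orderOf_dvd_natCard a
    -- the Mersenne condition
    have hs2 : 2 ≤ s := by
      by_contra hlt
      push Not at hlt
      interval_cases s
      · simp at hs; rw [hs] at hp; exact Nat.not_prime_zero hp
      · simp at hs; rw [hs] at hp; exact Nat.not_prime_one hp
    have hpow2 : 4 ≤ 2 ^ s := by
      calc 4 = 2 ^ 2 := by norm_num
        _ ≤ 2 ^ s := Nat.pow_le_pow_right (by norm_num) hs2
    have hp1 : p + 1 = 2 ^ s := by omega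
    have hfact : p ^ 2 - 1 = (p - 1) * 2 ^ s := by
      rw [← hp1]
      have h3 : 1 ≤ p := hp.one_le
      obtain ⟨k, rfl⟩ : ∃ k, p = k + 1 := ⟨p - 1, by omega⟩
      simp only [Nat.add_sub_cancel]
      have : (k + 1) ^ 2 = k * (k + 1 + 1) + 1 := by ring
      rw [this, Nat.add_sub_cancel]
    have h2dvd : 2 ∣ p - 1 := by
      have h2 : 2 ∣ 2 ^ s := dvd_pow_self 2 (by omega)
      omega
    have hrp : r ∣ p - 1 := by
      rw [hfact] at hrdvd
      rcases (Nat.Prime.dvd_mul hord).mp hrdvd with h | h
      · exact h
      · have := (Nat.prime_dvd_prime_iff_eq hord Nat.prime_two).mp (hord.dvd_of_dvd_pow h)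
        rw [this]
        exact h2dvd
    have hap : (a : GaloisField p 2) ^ p = a := by
      obtain ⟨k, hk⟩ := hrp
      have h3 : 1 ≤ p := hp.one_le
      have hpk : p = r * k + 1 := by omega
      have h4 : (a : GaloisField p 2) ^ p = (a : GaloisField p 2) ^ (r * k + 1) := congrArg _ hpk
      rw [h4, pow_succ, pow_mul, har, one_pow, one_mul]
    have hmem : (a : GaloisField p 2) ∈ (⊥ : Subfield (GaloisField p 2)) :=
      (Subfield.mem_bot_iff_pow_eq_self (GaloisField p 2) p).mpr hap
    obtain ⟨n, hn⟩ := (mem_bot_iff_intCast p (GaloisField p 2)).mp hmem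
    refine ⟨transPerm (-c), transPerm_mem _, (n : ZMod p), 0, ?_, ?_⟩
    · intro h0
      have : (a : GaloisField p 2) = 0 := by
        rw [← hn, ← map_intCast (algebraMap (ZMod p) (GaloisField p 2)), h0, map_zero]
      exact a.ne_zero this
    · intro y
      rw [hconj, map_intCast, hn, map_zero, add_zero]

end Cfsg.Agent.S5728
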