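import Mathlib
import Cfsg.Statements.S5729

set_option autoImplicit false
open Cfsg

namespace Cfsg.Agent.S5729

/-- The arithmetic core of the Cameron--Cohen bound. -/
theorem core {G : Type*} [Fintype G] [DecidableEq G] (e : G) (f : G → ℕ) (n : ℕ) (hn : 3 ≤ n)
    (hf1 : f e = n) (hfle : ∀ g, f g ≤ n) (hfn : ∀ g, f g = n → g = e)
    (hsum : ∑ g, f g = Fintype.card G) (hsq : 2 * Fintype.card G ≤ ∑ g, f g ^ 2) :
    (Fintype.card G = n * (Finset.univ.filter fun g => f g = 0).card ∧ (∀ g, g ≠ e → f g ≤ 1) ∧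
      Fintype.card G = n * (n - 1) ∧ ∃ g, g ≠ e ∧ f g ≠ 0) ∨
    Fintype.card G < n * (Finset.univ.filter fun g => f g = 0).card := by
  classical
  set N := Fintype.card G with hN
  set D := (Finset.univ.filter fun g => f g = 0).card with hD
  -- pointwise inequality
  have hpt : ∀ g, ((f g : ℤ) - 1) * ((f g : ℤ) - n) ≤ (n : ℤ) * (if f g = 0 then 1 else 0) := by
    intro g
    by_cases h0 : f g = 0
    · simp [h0]
    · have h1 : (1 : ℤ) ≤ f g := by exact_mod_cast Nat.one_le_iff_ne_zero.mpr h0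
      have h2 : (f g : ℤ) ≤ n := by exact_mod_cast hfle g
      simp only [h0, if_false, mul_zero]
      nlinarith
  have hsumD : ∑ g, ((n : ℤ) * (if f g = 0 then 1 else 0)) = (n : ℤ) * D := by
    rw [← Finset.mul_sum, hD, Finset.card_filter]
    push_cast
    rfl
  have hexpand : ∑ g, (((f g : ℤ) - 1) * ((f g : ℤ) - n))
      = (∑ g, (f g : ℤ) ^ 2) - ((n : ℤ) + 1) * (∑ g, (f g : ℤ)) + (n : ℤ) * N := by
    have : ∀ g, ((f g : ℤ) - 1) * ((f g : ℤ) - n) = (f g : ℤ) ^ 2 - ((n : ℤ) + 1) * (f g : ℤ) + n := by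
      intro g; ring
    simp_rw [this]
    rw [Finset.sum_add_distrib, Finset.sum_sub_distrib, ← Finset.mul_sum, Finset.sum_const,
      Finset.card_univ, nsmul_eq_mul]
    ring
  have hsumZ : ∑ g, (f g : ℤ) = N := by exact_mod_cast hsum
  have hsqZ : (2 : ℤ) * N ≤ ∑ g, (f g : ℤ) ^ 2 := by exact_mod_cast hsq
  have hle : ∑ g, (((f g : ℤ) - 1) * ((f g : ℤ) - n)) ≤ (n : ℤ) * D := by
    rw [← hsumD]
    exact Finset.sum_le_sum (fun g _ => hpt g)
  have hNle : (N : ℤ) ≤ (n : ℤ) * D := by
    rw [hexpand, hsumZ] at hle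
    nlinarith
  rcases lt_or_eq_of_le hNle with hlt | heq
  · right
    exact_mod_cast hlt
  left
  -- equality case
  have hsumeq : ∑ g, (((f g : ℤ) - 1) * ((f g : ℤ) - n)) = (n : ℤ) * D := by
    apply le_antisymm hle
    rw [hexpand, hsumZ, ← heq]
    nlinarith
  have hpteq : ∀ g, ((f g : ℤ) - 1) * ((f g : ℤ) - n) = (n : ℤ) * (if f g = 0 then 1 else 0) := by
    have h0 : ∑ g, ((n : ℤ) * (if f g = 0 then 1 else 0) - ((f g : ℤ) - 1) * ((f g : ℤ) - n)) = 0 := by
      rw [Finset.sum_sub_distrib, hsumD, hsumeq, sub_self]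
    have h1 := (Finset.sum_eq_zero_iff_of_nonneg (fun g _ => sub_nonneg.mpr (hpt g))).mp h0
    intro g
    have := h1 g (Finset.mem_univ g)
    linarith
  have hsqeq : ∑ g, (f g : ℤ) ^ 2 = 2 * N := by
    rw [hexpand, hsumZ, ← heq] at hsumeq
    linarith
  have hsmall : ∀ g, g ≠ e → f g ≤ 1 := by
    intro g hg
    by_contra hcon
    push Not at hcon
    have h0 : f g ≠ 0 := by omega
    have h1 := hpteq g
    simp only [h0, if_false, mul_zero] at h1
    rcases mul_eq_zero.mp h1 with h | h
    · have : (f g : ℤ) = 1 := by linarith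
      have : f g = 1 := by exact_mod_cast this
      omega
    · have : (f g : ℤ) = n := by linarith
      have : f g = n := by exact_mod_cast this
      exact hg (hfn g this)
  -- N = n (n - 1)
  have hterm : ∀ g, g ≠ e → (f g : ℤ) ^ 2 - (f g : ℤ) = 0 := by
    intro g hg
    have := hsmall g hg
    interval_cases h : f g <;> simp
  have hdiff : ∑ g, ((f g : ℤ) ^ 2 - (f g : ℤ)) = (n : ℤ) ^ 2 - n := by
    rw [Finset.sum_eq_single e (fun g _ hg => hterm g hg) (fun h => absurd (Finset.mem_univ e) h), hf1]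
  have hNeq : (N : ℤ) = (n : ℤ) ^ 2 - n := by
    rw [Finset.sum_sub_distrib, hsqeq, hsumZ] at hdiff
    linarith
  have hn1 : 1 ≤ n := by omega
  have hNeq' : N = n * (n - 1) := by
    have : (N : ℤ) = (n : ℤ) * ((n : ℤ) - 1) := by rw [hNeq]; ring
    zify [hn1]
    exact this
  refine ⟨by exact_mod_cast heq, hsmall, hNeq', ?_⟩
  by_contra hcon
  push Not at hcon
  have h1 : ∑ g, (f g : ℤ) = (n : ℤ) := by
    rw [Finset.sum_eq_single e (fun g _ hg => by rw [hcon g hg]; simp)
      (fun h => absurd (Finset.mem_univ e) h), hf1]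
  rw [hsumZ, hNeq] at h1
  have h3 : (3 : ℤ) ≤ n := by exact_mod_cast hn
  nlinarith

/-- Let a finite group G act faithfully and transitively on a set with n ≥ 3 points. Then either G is a Frobenius permutation group (Frobenius as a permutation group: transitive, some non-identity element fixes a point, and no non-identity element fixes two points) of order n(n − 1) and exactly |G|/n of its elements are derangements (fix no point), or the number of derangements is greater than |G|/n. -/
theorem result {G Ω : Type*} [Group G] [Finite G] [MulAction G Ω] [FaithfulSMul G Ω] [Fintype Ω] (htr : MulAction.IsPretransitive G Ω) (hn : 3 ≤ Fintype.card Ω) :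
    ((MulAction.IsPretransitive G Ω ∧ (∃ g : G, g ≠ 1 ∧ ∃ ω : Ω, g • ω = ω) ∧ ∀ g : G, g ≠ 1 → Nat.card (MulAction.fixedBy Ω g) ≤ 1) ∧ Nat.card G = Fintype.card Ω * (Fintype.card Ω - 1) ∧ Fintype.card Ω * Nat.card {g : G // ∀ ω : Ω, g • ω ≠ ω} = Nat.card G) ∨
    Nat.card G < Fintype.card Ω * Nat.card {g : G // ∀ ω : Ω, g • ω ≠ ω} := by
  classical
  have : Fintype G := Fintype.ofFinite G
  set n := Fintype.card Ω with hndef
  -- the fixed point counting function
  set F : G → Finset Ω := fun g => Finset.univ.filter (fun ω => g • ω = ω) with hF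
  set f : G → ℕ := fun g => (F g).card with hf
  have hcardfix : ∀ g : G, Fintype.card (MulAction.fixedBy Ω g) = f g := by
    intro g
    rw [Fintype.card_subtype]
    rfl
  have hne : Nonempty Ω := by
    rw [← Fintype.card_pos_iff]; omega
  -- Burnside on Ω
  have hB1 : ∑ g : G, f g = Fintype.card G := by
    have h1 := MulAction.sum_card_fixedBy_eq_card_orbits_mul_card_group G Ω
    simp_rw [hcardfix] at h1
    rw [h1]
    have : Fintype.card (Quotient (MulAction.orbitRel G Ω)) = 1 := by
      have hu := (MulAction.pretransitive_iff_unique_quotient_of_nonempty (G := G) (α := Ω)).mp htr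
      obtain ⟨u⟩ := hu
      exact Fintype.card_eq_one_iff.mpr ⟨u.default, fun y => u.uniq y⟩
    rw [this, one_mul]
  -- Burnside on Ω × Ω
  have hcardfix2 : ∀ g : G, Fintype.card (MulAction.fixedBy (Ω × Ω) g) = f g ^ 2 := by
    intro g
    rw [Fintype.card_subtype]
    have : (Finset.univ.filter (fun x : Ω × Ω => x ∈ MulAction.fixedBy (Ω × Ω) g)) = (F g) ×ˢ (F g) := by
      ext ⟨a, b⟩
      simp [hF, MulAction.mem_fixedBy, Prod.ext_iff]
    rw [this, Finset.card_product, sq]
  have hB2 : 2 * Fintype.card G ≤ ∑ g : G, f g ^ 2 := by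
    have h1 := MulAction.sum_card_fixedBy_eq_card_orbits_mul_card_group G (Ω × Ω)
    simp_rw [hcardfix2] at h1
    rw [h1]
    apply Nat.mul_le_mul_right
    -- at least two orbits on pairs
    have h2 : 1 < Fintype.card Ω := by omega
    obtain ⟨α, β, hαβ⟩ := Fintype.one_lt_card_iff.mp h2
    have : 1 < Fintype.card (Quotient (MulAction.orbitRel G (Ω × Ω))) := by
      rw [Fintype.one_lt_card_iff]
      refine ⟨Quotient.mk'' (α, α), Quotient.mk'' (α, β), ?_⟩
      intro h
      rw [Quotient.eq''] at h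
      obtain ⟨g, hg⟩ := h
      simp only [Prod.smul_mk, Prod.mk.injEq] at hg
      have : g • β = g • α := by rw [hg.1, hg.2]
      exact hαβ (MulAction.injective g this).symm
    omega
  have hf1 : f 1 = n := by
    simp [hf, hF, hndef]
  have hfle : ∀ g, f g ≤ n := fun g => Finset.card_le_univ _
  have hfn : ∀ g, f g = n → g = 1 := by
    intro g hg
    have h1 : F g = Finset.univ := Finset.eq_univ_of_card _ hg
    apply FaithfulSMul.eq_of_smul_eq_smul (α := Ω)
    intro ω
    have : ω ∈ F g := by rw [h1]; exact Finset.mem_univ ω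
    rw [one_smul]
    exact (Finset.mem_filter.mp this).2
  have hD : Nat.card {g : G // ∀ ω : Ω, g • ω ≠ ω} = (Finset.univ.filter fun g => f g = 0).card := by
    rw [Nat.card_eq_fintype_card, Fintype.card_subtype]
    congr 1
    ext g
    simp only [Finset.mem_filter, Finset.mem_univ, true_and, hf, hF, Finset.card_eq_zero,
      Finset.filter_eq_empty_iff]
    exact ⟨fun h x _ => h x, fun h x => h trivial⟩
  have hNG : Nat.card G = Fintype.card G := Nat.card_eq_fintype_card
  rcases core (1 : G) f n hn hf1 hfle hfn hB1 hB2 with ⟨h1, h2, h3, g, hg1, hg2⟩ | h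
  · left
    refine ⟨⟨htr, ⟨g, hg1, ?_⟩, ?_⟩, ?_, ?_⟩
    · have : (F g).Nonempty := Finset.card_pos.mp (Nat.pos_of_ne_zero hg2)
      obtain ⟨ω, hω⟩ := this
      exact ⟨ω, (Finset.mem_filter.mp hω).2⟩
    · intro g hg
      rw [Nat.card_eq_fintype_card, hcardfix]
      exact h2 g hg
    · rw [hNG, h3]
    · rw [hNG, hD, h1]
  · right
    rw [hNG, hD]
    exact h

end Cfsg.Agent.S5729
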