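import Mathlib
import Cfsg.Statements.S5738

set_option autoImplicit false
open Cfsg

namespace Cfsg.Agent.S5738

section

variable {F K : Type*} [Field F] [Field K] [Algebra F K]

/-- The multiplication maps. -/
noncomputable def singerHom : Kˣ →* (Module.End F K)ˣ :=
  Units.map ((Algebra.lmul F K : K →ₐ[F] Module.End F K) : K →* Module.End F K)

theorem singerHom_apply (a : Kˣ) (x : K) :
    ((singerHom a : (Module.End F K)ˣ) : Module.End F K) x = (a : K) * x := rfl

/-- The field automorphisms as invertible linear maps. -/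
noncomputable def autUnit (φ : K ≃ₐ[F] K) : (Module.End F K)ˣ :=
  LinearMap.GeneralLinearGroup.ofLinearEquiv φ.toLinearEquiv

theorem autUnit_apply (φ : K ≃ₐ[F] K) (x : K) :
    ((autUnit φ : (Module.End F K)ˣ) : Module.End F K) x = φ x := rfl

theorem autUnit_inv_apply (φ : K ≃ₐ[F] K) (x : K) :
    (((autUnit φ)⁻¹ : (Module.End F K)ˣ) : Module.End F K) x = φ.symm x := rfl

theorem unit_inv_apply_apply (g : (Module.End F K)ˣ) (x : K) :
    ((g⁻¹ : (Module.End F K)ˣ) : Module.End F K) ((g : Module.End F K) x) = x := by
  have : ((g⁻¹ * g : (Module.End F K)ˣ) : Module.End F K) x = x := by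
    rw [inv_mul_cancel, Units.val_one, Module.End.one_apply]
  exact this

theorem unit_apply_inv_apply (g : (Module.End F K)ˣ) (x : K) :
    (g : Module.End F K) (((g⁻¹ : (Module.End F K)ˣ) : Module.End F K) x) = x := by
  have : ((g * g⁻¹ : (Module.End F K)ˣ) : Module.End F K) x = x := by
    rw [mul_inv_cancel, Units.val_one, Module.End.one_apply]
  exact this

theorem conj_autUnit (φ : K ≃ₐ[F] K) (a : Kˣ) :
    autUnit φ * singerHom a * (autUnit φ)⁻¹ = (singerHom (Units.map (φ : K →* K) a) : (Module.End F K)ˣ) := by
  apply Units.ext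
  apply LinearMap.ext
  intro x
  show φ ((a : K) * φ.symm x) = φ (a : K) * x
  rw [map_mul, AlgEquiv.apply_symm_apply]

/-- The candidate parametrisation of the normaliser. -/
noncomputable def param (x : Kˣ × (K ≃ₐ[F] K)) : (Module.End F K)ˣ :=
  singerHom x.1 * autUnit x.2

theorem param_apply (x : Kˣ × (K ≃ₐ[F] K)) (y : K) :
    ((param x : (Module.End F K)ˣ) : Module.End F K) y = (x.1 : K) * x.2 y := rfl

theorem param_injective : Function.Injective (param : Kˣ × (K ≃ₐ[F] K) → (Module.End F K)ˣ) := by
  rintro ⟨b, φ⟩ ⟨b', φ'⟩ h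
  have h1 : ∀ y : K, (b : K) * φ y = (b' : K) * φ' y := by
    intro y
    have := congrArg (fun g : (Module.End F K)ˣ => (g : Module.End F K) y) h
    simpa [param_apply] using this
  have hb : b = b' := by
    apply Units.ext
    have := h1 1
    rwa [map_one, map_one, mul_one, mul_one] at this
  subst hb
  have hφ : φ = φ' := by
    apply AlgEquiv.ext
    intro y
    exact mul_left_cancel₀ b.ne_zero (h1 y)
  rw [hφ]

theorem autUnit_mem_normalizer (φ : K ≃ₐ[F] K) :
    autUnit φ ∈ Subgroup.normalizer
      (((singerHom : Kˣ →* (Module.End F K)ˣ).range : Subgroup (Module.End F K)ˣ) : Set (Module.End F K)ˣ) := by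
  rw [Subgroup.mem_set_normalizer_iff]
  intro h
  constructor
  · rintro ⟨a, rfl⟩
    rw [conj_autUnit]
    exact ⟨_, rfl⟩
  · rintro ⟨a, ha⟩
    have h2 : h = (autUnit φ)⁻¹ * singerHom a * autUnit φ := by
      rw [ha]; group
    have h3 : (autUnit φ)⁻¹ = autUnit φ.symm := by
      apply Units.ext
      apply LinearMap.ext
      intro x
      rfl
    have h4 : autUnit φ = (autUnit φ.symm)⁻¹ := by
      rw [← h3, inv_inv]
    rw [h2, h3, h4, conj_autUnit]
    exact ⟨_, rfl⟩

theorem range_param [Finite K] :
    Set.range (param : Kˣ × (K ≃ₐ[F] K) → (Module.End F K)ˣ) =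
      (Subgroup.normalizer
      (((singerHom : Kˣ →* (Module.End F K)ˣ).range : Subgroup (Module.End F K)ˣ) : Set (Module.End F K)ˣ) :
        Set (Module.End F K)ˣ) := by
  ext g
  constructor
  · rintro ⟨⟨b, φ⟩, rfl⟩
    apply Subgroup.mul_mem
    · exact Subgroup.le_normalizer ⟨b, rfl⟩
    · exact autUnit_mem_normalizer φ
  · intro hg
    rw [SetLike.mem_coe, Subgroup.mem_set_normalizer_iff] at hg
    -- the value at one
    have hinj : Function.Injective (g : Module.End F K) := by
      intro x y hxy
      have := congrArg ((g⁻¹ : (Module.End F K)ˣ) : Module.End F K) hxy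
      rwa [unit_inv_apply_apply, unit_inv_apply_apply] at this
    have hb : (g : Module.End F K) 1 ≠ 0 := by
      intro h0
      have : (g : Module.End F K) 1 = (g : Module.End F K) 0 := by rw [h0, map_zero]
      exact one_ne_zero (hinj this)
    set b : Kˣ := Units.mk0 _ hb with hbdef
    have hbval : (b : K) = (g : Module.End F K) 1 := rfl
    -- the semilinearity
    have hsemi : ∀ (a : Kˣ) (y : K), (g : Module.End F K) ((a : K) * y) =
        (g : Module.End F K) (a : K) * (b : K)⁻¹ * (g : Module.End F K) y := by
      intro a y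
      obtain ⟨a', ha'⟩ := (hg (singerHom a)).mp ⟨a, rfl⟩
      have h1 : singerHom a' * g = g * singerHom a := by
        rw [ha']; group
      have h2 : ∀ z : K, (a' : K) * (g : Module.End F K) z = (g : Module.End F K) ((a : K) * z) := by
        intro z
        have := congrArg (fun u : (Module.End F K)ˣ => (u : Module.End F K) z) h1
        exact this
      have h3 : (a' : K) = (g : Module.End F K) (a : K) * (b : K)⁻¹ := by
        have := h2 1
        rw [mul_one, ← hbval] at this
        rw [← this, mul_assoc, mul_inv_cancel₀ b.ne_zero, mul_one]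
      rw [← h2, h3]
    -- the linear equivalence
    set l : K ≃ₗ[F] K := LinearMap.GeneralLinearGroup.toLinearEquiv (singerHom b⁻¹ * g) with hl
    have hlapp : ∀ x : K, l x = (b : K)⁻¹ * (g : Module.End F K) x := by
      intro x
      show ((b⁻¹ : Kˣ) : K) * (g : Module.End F K) x = _
      rw [Units.val_inv_eq_inv_val]
    have hl1 : l 1 = 1 := by
      rw [hlapp, ← hbval, inv_mul_cancel₀ b.ne_zero]
    have hlmul : ∀ x y : K, l (x * y) = l x * l y := by
      intro x y
      by_cases hx : x = 0
      · rw [hx, zero_mul, map_zero, zero_mul]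
      · have := hsemi (Units.mk0 x hx) y
        rw [Units.val_mk0] at this
        rw [hlapp, hlapp, hlapp, this]
        ring
    refine ⟨⟨b, AlgEquiv.ofLinearEquiv l hl1 hlmul⟩, ?_⟩
    apply Units.ext
    apply LinearMap.ext
    intro x
    rw [param_apply]
    show (b : K) * l x = _
    rw [hlapp, ← mul_assoc, mul_inv_cancel₀ b.ne_zero, one_mul]

end

/-- Let F ⊆ K be finite fields with |F| = q and [K : F] = n ≥ 2, so |K| = q^n. Regard K as an n-dimensional F-vector space; the multiplications by non-zero elements of K form a cyclic subgroup of GL_F(K) of order q^n − 1 acting regularly on the non-zero vectors (a Singer group). Its normaliser in GL_F(K) has order n·(q^n − 1). -/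
theorem result {F K : Type*} [Field F] [Fintype F] [Field K] [Fintype K] [Algebra F K] (n : ℕ) (hn : 2 ≤ n) (hdim : Module.finrank F K = n) :
    Nat.card (Subgroup.normalizer (((Units.map ((Algebra.lmul F K : K →ₐ[F] Module.End F K) : K →* Module.End F K)).range : Subgroup (Module.End F K)ˣ) : Set (Module.End F K)ˣ)) = n * (Fintype.card K - 1) := by
  have h1 := range_param (F := F) (K := K)
  change Nat.card ((Subgroup.normalizer
      (((singerHom : Kˣ →* (Module.End F K)ˣ).range : Subgroup (Module.End F K)ˣ) : Set (Module.End F K)ˣ) :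
        Set (Module.End F K)ˣ)) = _
  rw [← h1, Nat.card_range_of_injective param_injective, Nat.card_prod, Nat.card_units,
    IsGalois.card_aut_eq_finrank, hdim, Nat.card_eq_fintype_card, mul_comm]

end Cfsg.Agent.S5738
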