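import Mathlib
import Cfsg.Statements.S5739
import Cfsg.Agent.S5738

set_option autoImplicit false
open Cfsg

namespace Cfsg.Agent.S5739

open Cfsg.Agent.S5738

section

variable {F K : Type*} [Field F] [Field K] [Algebra F K]

theorem unit_injective (g : (Module.End F K)ˣ) : Function.Injective (g : Module.End F K) := by
  intro x y hxy
  have := congrArg ((g⁻¹ : (Module.End F K)ˣ) : Module.End F K) hxy
  rwa [unit_inv_apply_apply, unit_inv_apply_apply] at this

theorem unit_one_ne_zero (g : (Module.End F K)ˣ) : (g : Module.End F K) 1 ≠ 0 := by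
  intro h0
  have : (g : Module.End F K) 1 = (g : Module.End F K) 0 := by rw [h0, map_zero]
  exact one_ne_zero (unit_injective g this)

/-- The subfield of those `a` whose multiplication is conjugated by `g` to a multiplication. -/
def conjField (g : (Module.End F K)ˣ) : IntermediateField F K where
  carrier := {a | ∃ a' : K, ∀ x : K, a * (g : Module.End F K) x = (g : Module.End F K) (a' * x)}
  mul_mem' := by
    rintro a c ⟨a', ha⟩ ⟨c', hc⟩
    refine ⟨a' * c', fun x => ?_⟩
    rw [mul_assoc, hc, ha, mul_assoc]
  one_mem' := ⟨1, fun x => by rw [one_mul, one_mul]⟩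
  add_mem' := by
    rintro a c ⟨a', ha⟩ ⟨c', hc⟩
    refine ⟨a' + c', fun x => ?_⟩
    rw [add_mul, ha, hc, add_mul, map_add]
  zero_mem' := ⟨0, fun x => by rw [zero_mul, zero_mul, map_zero]⟩
  algebraMap_mem' c := by
    refine ⟨algebraMap F K c, fun x => ?_⟩
    rw [← Algebra.smul_def, ← Algebra.smul_def, map_smul]
  inv_mem' := by
    rintro a ⟨a', ha⟩
    by_cases ha0 : a = 0
    · refine ⟨0, fun x => ?_⟩
      rw [ha0, inv_zero, zero_mul, zero_mul, map_zero]
    · have ha'0 : a' ≠ 0 := by
        intro h0
        have h1 := ha 1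
        rw [h0, zero_mul, map_zero] at h1
        rcases mul_eq_zero.mp h1 with h | h
        · exact ha0 h
        · exact unit_one_ne_zero g h
      refine ⟨a'⁻¹, fun x => ?_⟩
      have h1 := ha (a'⁻¹ * x)
      rw [← mul_assoc, mul_inv_cancel₀ ha'0, one_mul] at h1
      rw [← h1, ← mul_assoc, inv_mul_cancel₀ ha0, one_mul]

theorem mem_conjField (g : (Module.End F K)ˣ) (a : K) :
    a ∈ conjField g ↔ ∃ a' : K, ∀ x : K, a * (g : Module.End F K) x = (g : Module.End F K) (a' * x) :=
  Iff.rfl

/-- The map from the units of the subfield to the intersection. -/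
noncomputable def theta (g : (Module.End F K)ˣ) : (↥(conjField g))ˣ →* (Module.End F K)ˣ :=
  (singerHom : Kˣ →* (Module.End F K)ˣ).comp (Units.map ((conjField g).val : ↥(conjField g) →* K))

theorem theta_apply (g : (Module.End F K)ˣ) (u : (↥(conjField g))ˣ) (x : K) :
    ((theta g u : (Module.End F K)ˣ) : Module.End F K) x = ((u : ↥(conjField g)) : K) * x := rfl

theorem theta_injective (g : (Module.End F K)ˣ) : Function.Injective (theta g) := by
  intro u v huv
  apply Units.ext
  apply Subtype.ext
  have := congrArg (fun h : (Module.End F K)ˣ => (h : Module.End F K) 1) huv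
  simpa [theta_apply] using this

theorem conj_eq_of_semilinear (g : (Module.End F K)ˣ) (a a' : Kˣ)
    (h : ∀ x : K, (a : K) * (g : Module.End F K) x = (g : Module.End F K) ((a' : K) * x)) :
    (singerHom a : (Module.End F K)ˣ) = g * singerHom a' * g⁻¹ := by
  rw [eq_mul_inv_iff_mul_eq]
  apply Units.ext
  apply LinearMap.ext
  intro x
  exact h x

theorem semilinear_of_conj_eq (g : (Module.End F K)ˣ) (a a' : Kˣ)
    (h : (singerHom a : (Module.End F K)ˣ) = g * singerHom a' * g⁻¹) (x : K) :
    (a : K) * (g : Module.End F K) x = (g : Module.End F K) ((a' : K) * x) := by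
  rw [eq_mul_inv_iff_mul_eq] at h
  have := congrArg (fun u : (Module.End F K)ˣ => (u : Module.End F K) x) h
  exact this

theorem range_theta (g : (Module.End F K)ˣ) :
    (theta g).range = ((singerHom : Kˣ →* (Module.End F K)ˣ).range).map (MulAut.conj g).toMonoidHom ⊓
      (singerHom : Kˣ →* (Module.End F K)ˣ).range := by
  ext h
  constructor
  · rintro ⟨u, rfl⟩
    obtain ⟨a', ha'⟩ := (u : ↥(conjField g)).2
    have hu0 : ((u : ↥(conjField g)) : K) ≠ 0 := by
      intro h0
      exact u.ne_zero (Subtype.ext h0)
    have ha'0 : a' ≠ 0 := by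
      intro h0
      have h1 := ha' 1
      rw [h0, zero_mul, map_zero] at h1
      rcases mul_eq_zero.mp h1 with h | h
      · exact hu0 h
      · exact unit_one_ne_zero g h
    have hth : theta g u = singerHom (Units.mk0 _ hu0) := by
      apply Units.ext
      apply LinearMap.ext
      intro x
      rfl
    refine ⟨?_, ?_⟩
    · refine ⟨singerHom (Units.mk0 a' ha'0), ⟨_, rfl⟩, ?_⟩
      rw [hth]
      show g * _ * g⁻¹ = _
      rw [← conj_eq_of_semilinear g (Units.mk0 _ hu0) (Units.mk0 a' ha'0)]
      intro x
      exact ha' x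
    · rw [hth]
      exact ⟨_, rfl⟩
  · rintro ⟨⟨h', ⟨a', rfl⟩, hh'⟩, ⟨a, rfl⟩⟩
    have hh'' : (singerHom a : (Module.End F K)ˣ) = g * singerHom a' * g⁻¹ := hh'.symm
    have hmem : (a : K) ∈ conjField g := ⟨a', semilinear_of_conj_eq g a a' hh''⟩
    refine ⟨Units.mk0 ⟨(a : K), hmem⟩ ?_, ?_⟩
    · intro h0
      exact a.ne_zero (congrArg Subtype.val h0)
    · apply Units.ext
      apply LinearMap.ext
      intro x
      rfl

end

/-- Let F ⊆ K be finite fields with |F| = q and [K : F] = n ≥ 2, and let M ≤ GL_F(K) be the Singer group of multiplications by non-zero elements of K. If g ∈ GL_F(K) does not normalise M, then the order of M ∩ gMg⁻¹ divides q^r − 1 for some proper divisor r of n. In particular, when n is prime, that order divides q − 1. -/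
theorem result {F K : Type*} [Field F] [Fintype F] [Field K] [Fintype K] [Algebra F K] (n : ℕ) (hn : 2 ≤ n) (hdim : Module.finrank F K = n)
    (g : (Module.End F K)ˣ) (hg : ((Units.map ((Algebra.lmul F K : K →ₐ[F] Module.End F K) : K →* Module.End F K)).range).map (MulAut.conj g).toMonoidHom ≠ (Units.map ((Algebra.lmul F K : K →ₐ[F] Module.End F K) : K →* Module.End F K)).range) :
    ∃ r : ℕ, 1 ≤ r ∧ r ∣ n ∧ r < n ∧ Nat.card ↥(((Units.map ((Algebra.lmul F K : K →ₐ[F] Module.End F K) : K →* Module.End F K)).range).map (MulAut.conj g).toMonoidHom ⊓ (Units.map ((Algebra.lmul F K : K →ₐ[F] Module.End F K) : K →* Module.End F K)).range) ∣ Fintype.card F ^ r - 1 := by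
  change ((singerHom : Kˣ →* (Module.End F K)ˣ).range).map (MulAut.conj g).toMonoidHom ≠
    (singerHom : Kˣ →* (Module.End F K)ˣ).range at hg
  change ∃ r : ℕ, 1 ≤ r ∧ r ∣ n ∧ r < n ∧
    Nat.card ↥(((singerHom : Kˣ →* (Module.End F K)ˣ).range).map (MulAut.conj g).toMonoidHom ⊓
      (singerHom : Kˣ →* (Module.End F K)ˣ).range) ∣ Fintype.card F ^ r - 1
  set B := conjField g with hB
  have hfd : FiniteDimensional F K := Module.Finite.of_finite
  refine ⟨Module.finrank F B, ?_, ?_, ?_, ?_⟩
  · exact Module.finrank_pos
  · rw [← hdim]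
    exact Module.finrank_dvd_finrank_right (F := F) (K := ↥B) (A := K)
  · have hle : Module.finrank F B ≤ n := by
      rw [← hdim]
      exact Submodule.finrank_le B.toSubalgebra.toSubmodule
    rcases lt_or_eq_of_le hle with hlt | heq
    · exact hlt
    · exfalso
      have htop : B.toSubalgebra.toSubmodule = ⊤ := by
        apply Submodule.eq_top_of_finrank_eq
        rw [← hdim] at heq
        exact heq
      have hall : ∀ a : K, a ∈ B := by
        intro a
        have : a ∈ B.toSubalgebra.toSubmodule := by rw [htop]; exact Submodule.mem_top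
        exact this
      have hle2 : (singerHom : Kˣ →* (Module.End F K)ˣ).range ≤
          ((singerHom : Kˣ →* (Module.End F K)ˣ).range).map (MulAut.conj g).toMonoidHom := by
        rintro _ ⟨a, rfl⟩
        obtain ⟨a', ha'⟩ := hall (a : K)
        have ha'0 : a' ≠ 0 := by
          intro h0
          have h1 := ha' 1
          rw [h0, zero_mul, map_zero] at h1
          rcases mul_eq_zero.mp h1 with h | h
          · exact a.ne_zero h
          · exact unit_one_ne_zero g h
        refine ⟨singerHom (Units.mk0 a' ha'0), ⟨_, rfl⟩, ?_⟩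
        show g * _ * g⁻¹ = _
        rw [← conj_eq_of_semilinear g a (Units.mk0 a' ha'0)]
        intro x
        exact ha' x
      have hfinEnd : Finite (Module.End F K) :=
        Finite.of_injective (fun f : Module.End F K => (f : K → K)) DFunLike.coe_injective
      have hcard : Nat.card ↥(((singerHom : Kˣ →* (Module.End F K)ˣ).range).map (MulAut.conj g).toMonoidHom) ≤
          Nat.card ↥((singerHom : Kˣ →* (Module.End F K)ˣ).range) := by
        rw [Subgroup.card_map_of_injective (MulAut.conj g).injective]
      exact hg (Subgroup.eq_of_le_of_card_ge hle2 hcard).symm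
  · rw [← range_theta g, Nat.card_congr (MonoidHom.ofInjective (theta_injective g)).symm.toEquiv,
      Nat.card_units, Module.natCard_eq_pow_finrank (K := F) (V := ↥B), Nat.card_eq_fintype_card]

end Cfsg.Agent.S5739
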