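import Mathlib
import Cfsg.Statements.S5747

set_option autoImplicit false
open Cfsg

namespace Cfsg.Agent.S5747

section ListLand

variable {G Ω : Type*} [Group G] [MulAction G Ω]

/-- The pointwise stabilizer in `H` of the members of a list. -/
def stab : Subgroup G → List Ω → Subgroup G
  | H, [] => H
  | H, x :: l => stab (H ⊓ MulAction.stabilizer G x) l

theorem mem_stab (H : Subgroup G) (l : List Ω) (g : G) :
    g ∈ stab H l ↔ g ∈ H ∧ ∀ x ∈ l, g • x = x := by
  induction l generalizing H with
  | nil => simp [stab]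
  | cons x l ih =>
    rw [stab, ih, Subgroup.mem_inf, MulAction.mem_stabilizer_iff]
    simp only [List.mem_cons, forall_eq_or_imp]
    tauto

theorem stab_append (H : Subgroup G) (l₁ l₂ : List Ω) :
    stab H (l₁ ++ l₂) = stab (stab H l₁) l₂ := by
  induction l₁ generalizing H with
  | nil => rfl
  | cons x l ih => simp only [List.cons_append, stab, ih]

theorem stab_perm (H : Subgroup G) {l l' : List Ω} (h : l.Perm l') : stab H l = stab H l' := by
  ext g
  rw [mem_stab, mem_stab]
  constructor
  · rintro ⟨h1, h2⟩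
    exact ⟨h1, fun x hx => h2 x (h.mem_iff.mpr hx)⟩
  · rintro ⟨h1, h2⟩
    exact ⟨h1, fun x hx => h2 x (h.mem_iff.mp hx)⟩

theorem stab_mono {H K : Subgroup G} (h : H ≤ K) (l : List Ω) : stab H l ≤ stab K l := by
  intro g hg
  rw [mem_stab] at hg ⊢
  exact ⟨h hg.1, hg.2⟩

theorem stab_le (H : Subgroup G) (l : List Ω) : stab H l ≤ H := by
  intro g hg
  rw [mem_stab] at hg
  exact hg.1

/-- Some element of `H` moves `x`. -/
def Moved (H : Subgroup G) (x : Ω) : Prop := ∃ g ∈ H, g • x ≠ x

theorem inf_eq_of_not_moved {H : Subgroup G} {x : Ω} (h : ¬ Moved H x) :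
    H ⊓ MulAction.stabilizer G x = H := by
  apply inf_eq_left.mpr
  intro g hg
  rw [MulAction.mem_stabilizer_iff]
  by_contra hne
  exact h ⟨g, hg, hne⟩

theorem Moved.mono {H K : Subgroup G} (h : H ≤ K) {x : Ω} (hm : Moved H x) : Moved K x := by
  obtain ⟨g, hg, hx⟩ := hm
  exact ⟨g, h hg, hx⟩

/-- The list is irredundant relative to `H`: each member is moved by the stabilizer in `H` of the preceding ones. -/
def Irr : Subgroup G → List Ω → Prop
  | _, [] => True
  | H, x :: l => Moved H x ∧ Irr (H ⊓ MulAction.stabilizer G x) l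

open Classical in
/-- The number of non-redundant members of a list relative to `H`. -/
noncomputable def rk : Subgroup G → List Ω → ℕ
  | _, [] => 0
  | H, x :: l => (if Moved H x then 1 else 0) + rk (H ⊓ MulAction.stabilizer G x) l

theorem rk_le_length (H : Subgroup G) (l : List Ω) : rk H l ≤ l.length := by
  induction l generalizing H with
  | nil => simp [rk]
  | cons x l ih =>
    rw [rk, List.length_cons]
    have := ih (H ⊓ MulAction.stabilizer G x)
    split_ifs <;> omega

theorem irr_of_rk_eq_length (H : Subgroup G) (l : List Ω) (h : rk H l = l.length) : Irr H l := by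
  induction l generalizing H with
  | nil => trivial
  | cons x l ih =>
    rw [rk, List.length_cons] at h
    have h1 := rk_le_length (H ⊓ MulAction.stabilizer G x) l
    by_cases hm : Moved H x
    · rw [if_pos hm] at h
      exact ⟨hm, ih _ (by omega)⟩
    · rw [if_neg hm] at h
      omega

theorem rk_eq_length_of_irr (H : Subgroup G) (l : List Ω) (h : Irr H l) : rk H l = l.length := by
  induction l generalizing H with
  | nil => rfl
  | cons x l ih =>
    obtain ⟨hm, hl⟩ := h
    rw [rk, List.length_cons, if_pos hm, ih _ hl]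
    omega

theorem rk_append (H : Subgroup G) (l₁ l₂ : List Ω) :
    rk H (l₁ ++ l₂) = rk H l₁ + rk (stab H l₁) l₂ := by
  induction l₁ generalizing H with
  | nil => simp [rk, stab]
  | cons x l ih =>
    simp only [List.cons_append, rk, stab, ih]
    omega

theorem irr_append (H : Subgroup G) (l₁ l₂ : List Ω) :
    Irr H (l₁ ++ l₂) ↔ Irr H l₁ ∧ Irr (stab H l₁) l₂ := by
  induction l₁ generalizing H with
  | nil => simp [Irr, stab]
  | cons x l ih =>
    simp only [List.cons_append, Irr, stab, ih]
    tauto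

theorem rk_bot (l : List Ω) : rk (⊥ : Subgroup G) l = 0 := by
  induction l with
  | nil => rfl
  | cons x l ih =>
    have hm : ¬ Moved (⊥ : Subgroup G) x := by
      rintro ⟨g, hg, hx⟩
      rw [Subgroup.mem_bot] at hg
      subst hg
      exact hx (one_smul _ _)
    rw [rk, if_neg hm, bot_inf_eq, ih]

/-- Removing the redundant members of a list. -/
theorem exists_reduction (H : Subgroup G) (l : List Ω) :
    ∃ l' : List Ω, Irr H l' ∧ stab H l' = stab H l ∧ l'.length = rk H l := by
  induction l generalizing H with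
  | nil => exact ⟨[], trivial, rfl, rfl⟩
  | cons x l ih =>
    by_cases hm : Moved H x
    · obtain ⟨l', h1, h2, h3⟩ := ih (H ⊓ MulAction.stabilizer G x)
      refine ⟨x :: l', ⟨hm, h1⟩, ?_, ?_⟩
      · simp only [stab, h2]
      · rw [List.length_cons, h3, rk, if_pos hm]; omega
    · have heq := inf_eq_of_not_moved hm
      obtain ⟨l', h1, h2, h3⟩ := ih H
      refine ⟨l', h1, ?_, ?_⟩
      · rw [h2]; simp only [stab, heq]
      · rw [h3, rk, if_neg hm, heq]; omega

theorem not_mem_of_irr {H : Subgroup G} {l : List Ω} {x : Ω} (h : Irr H l)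
    (hx : H ≤ MulAction.stabilizer G x) : x ∉ l := by
  induction l generalizing H with
  | nil => simp
  | cons z l ih =>
    obtain ⟨hm, hl⟩ := h
    rw [List.mem_cons, not_or]
    constructor
    · rintro rfl
      obtain ⟨g, hg, hgx⟩ := hm
      exact hgx (hx hg)
    · exact ih hl (le_trans inf_le_left hx)

theorem nodup_of_irr {H : Subgroup G} {l : List Ω} (h : Irr H l) : l.Nodup := by
  induction l generalizing H with
  | nil => exact List.nodup_nil
  | cons x l ih =>
    obtain ⟨_, hl⟩ := h
    rw [List.nodup_cons]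
    exact ⟨not_mem_of_irr hl inf_le_right, ih hl⟩

/-- The symmetry property of a subgroup needed to swap two adjacent members of a list. -/
def Sym (Ω : Type*) [MulAction G Ω] (H : Subgroup G) : Prop :=
  ∀ x y : Ω, Moved H x → Moved H y →
    (Moved (H ⊓ MulAction.stabilizer G x) y ↔ Moved (H ⊓ MulAction.stabilizer G y) x)

theorem rk_perm (C : Subgroup G → Prop)
    (hC : ∀ (H : Subgroup G) (x : Ω), C H → C (H ⊓ MulAction.stabilizer G x))
    (hS : ∀ H : Subgroup G, C H → Sym Ω H) {l l' : List Ω} (h : l.Perm l') :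
    ∀ H : Subgroup G, C H → rk H l = rk H l' := by
  induction h with
  | nil => intro H _; rfl
  | cons x _ ih =>
    intro H hH
    rw [rk, rk, ih _ (hC H x hH)]
  | swap x y l =>
    intro H hH
    simp only [rk]
    rw [inf_right_comm H (MulAction.stabilizer G y) (MulAction.stabilizer G x)]
    by_cases hx : Moved H x
    · by_cases hy : Moved H y
      · have := hS H hH x y hx hy
        by_cases hxy : Moved (H ⊓ MulAction.stabilizer G x) y
        · rw [if_pos hx, if_pos hy, if_pos hxy, if_pos (this.mp hxy)]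
        · rw [if_pos hx, if_pos hy, if_neg hxy, if_neg (fun h => hxy (this.mpr h))]
      · have hy' : ¬ Moved (H ⊓ MulAction.stabilizer G x) y := fun h => hy (h.mono inf_le_left)
        rw [if_neg hy, if_neg hy', inf_eq_of_not_moved hy]
        omega
    · have hx' : ¬ Moved (H ⊓ MulAction.stabilizer G y) x := fun h => hx (h.mono inf_le_left)
      rw [if_neg hx, if_neg hx', inf_eq_of_not_moved hx]
      omega
  | trans _ _ ih₁ ih₂ =>
    intro H hH
    rw [ih₁ H hH, ih₂ H hH]

/-- A list is an irredundant base. -/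
def IBL (G : Type*) {Ω : Type*} [Group G] [MulAction G Ω] (l : List Ω) : Prop :=
  stab (⊤ : Subgroup G) l = ⊥ ∧ Irr (⊤ : Subgroup G) l

/-- If irredundant bases are closed under reordering and a base exists, all stabilizers of lists
have the symmetry property. -/
theorem sym_of_perm_closed (hB : ∀ M M' : List Ω, IBL G M → M.Perm M' → IBL G M')
    (T : List Ω) (hT : stab (⊤ : Subgroup G) T = ⊥) (P : List Ω) :
    Sym Ω (stab (⊤ : Subgroup G) P) := by
  have key : ∀ x y : Ω, Moved (stab (⊤ : Subgroup G) P) x →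
      Moved (stab (⊤ : Subgroup G) P ⊓ MulAction.stabilizer G x) y →
      Moved (stab (⊤ : Subgroup G) P ⊓ MulAction.stabilizer G y) x := by
    intro x y hx hxy
    obtain ⟨P', hP1, hP2, -⟩ := exists_reduction (⊤ : Subgroup G) P
    set H := stab (⊤ : Subgroup G) P with hH
    have hL : Irr (⊤ : Subgroup G) (P' ++ [x, y]) := by
      rw [irr_append, hP2]
      exact ⟨hP1, hx, hxy, trivial⟩
    obtain ⟨T', hT1, hT2, -⟩ := exists_reduction (stab (⊤ : Subgroup G) (P' ++ [x, y])) T
    have hM : IBL G ((P' ++ [x, y]) ++ T') := by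
      constructor
      · rw [stab_append, hT2, eq_bot_iff, ← hT]
        exact stab_mono le_top T
      · rw [irr_append]
        exact ⟨hL, hT1⟩
    have hperm : ((P' ++ [x, y]) ++ T').Perm ((P' ++ [y, x]) ++ T') := by
      apply List.Perm.append_right
      apply List.Perm.append_left
      exact List.Perm.swap y x []
    have hM' := hB _ _ hM hperm
    have h1 := hM'.2
    rw [irr_append, irr_append, hP2] at h1
    exact h1.1.2.2.1
  intro x y hx hy
  exact ⟨fun h => key x y hx h, fun h => key y x hy h⟩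

theorem length_eq_of_perm_closed (hB : ∀ M M' : List Ω, IBL G M → M.Perm M' → IBL G M')
    (A B : List Ω) (hA : IBL G A) (hB' : IBL G B) : A.length = B.length := by
  set C : Subgroup G → Prop := fun H => ∃ P : List Ω, H = stab (⊤ : Subgroup G) P with hCdef
  have hC : ∀ (H : Subgroup G) (x : Ω), C H → C (H ⊓ MulAction.stabilizer G x) := by
    rintro H x ⟨P, rfl⟩
    refine ⟨P ++ [x], ?_⟩
    rw [stab_append]
    rfl
  have hS : ∀ H : Subgroup G, C H → Sym Ω H := by
    rintro H ⟨P, rfl⟩
    exact sym_of_perm_closed hB A hA.1 P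
  have hperm : (A ++ B).Perm (B ++ A) := List.perm_append_comm
  have h1 := rk_perm C hC hS hperm ⊤ ⟨[], rfl⟩
  rw [rk_append, rk_append, hA.1, hB'.1, rk_bot, rk_bot, rk_eq_length_of_irr _ _ hA.2,
    rk_eq_length_of_irr _ _ hB'.2] at h1
  omega

theorem perm_closed_of_length_eq (hA : ∀ A B : List Ω, IBL G A → IBL G B → A.length = B.length)
    (M M' : List Ω) (hM : IBL G M) (hperm : M.Perm M') : IBL G M' := by
  have h1 : stab (⊤ : Subgroup G) M' = ⊥ := by rw [← stab_perm _ hperm, hM.1]
  obtain ⟨M'', h2, h3, h4⟩ := exists_reduction (⊤ : Subgroup G) M'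
  have h5 : IBL G M'' := ⟨by rw [h3, h1], h2⟩
  have h6 := hA M'' M h5 hM
  refine ⟨h1, irr_of_rk_eq_length _ _ ?_⟩
  rw [← h4, h6, hperm.length_eq]

/-- Irredundancy of a tuple, in terms of its list. -/
theorem irr_ofFn (H : Subgroup G) (t : ℕ) (f : Fin t → Ω) :
    Irr H (List.ofFn f) ↔
      ∀ i : Fin t, ∃ g ∈ H, (∀ j : Fin t, j < i → g • f j = f j) ∧ g • f i ≠ f i := by
  induction t generalizing H with
  | zero =>
    simp only [List.ofFn_zero, Irr, true_iff]
    intro i
    exact i.elim0
  | succ t ih =>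
    rw [List.ofFn_succ, Irr, ih, Fin.forall_fin_succ]
    apply and_congr
    · constructor
      · rintro ⟨g, hg, hx⟩
        exact ⟨g, hg, fun j hj => absurd hj (Fin.not_lt_zero j), hx⟩
      · rintro ⟨g, hg, -, hx⟩
        exact ⟨g, hg, hx⟩
    · apply forall_congr'
      intro i
      constructor
      · rintro ⟨g, hg, h1, h2⟩
        refine ⟨g, hg.1, ?_, h2⟩
        intro j
        refine Fin.cases ?_ (fun j' => ?_) j
        · intro _
          exact hg.2
        · intro hj'
          exact h1 j' (Fin.succ_lt_succ_iff.mp hj')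
      · rintro ⟨g, hg, h1, h2⟩
        refine ⟨g, ⟨hg, ?_⟩, ?_, h2⟩
        · exact h1 0 (Fin.succ_pos i)
        · intro j hj
          exact h1 j.succ (Fin.succ_lt_succ_iff.mpr hj)

theorem ibl_ofFn (t : ℕ) (f : Fin t → Ω) :
    IBL G (List.ofFn f) ↔
      ((∀ g : G, (∀ i : Fin t, g • f i = f i) → g = 1) ∧
        ∀ i : Fin t, ∃ g : G, (∀ j : Fin t, j < i → g • f j = f j) ∧ g • f i ≠ f i) := by
  unfold IBL
  apply and_congr
  · rw [eq_bot_iff]
    constructor
    · intro h g hg
      have : g ∈ stab (⊤ : Subgroup G) (List.ofFn f) := by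
        rw [mem_stab]
        refine ⟨Subgroup.mem_top g, ?_⟩
        intro x hx
        rw [List.mem_ofFn] at hx
        obtain ⟨i, rfl⟩ := hx
        exact hg i
      exact Subgroup.mem_bot.mp (h this)
    · intro h g hg
      rw [mem_stab] at hg
      rw [Subgroup.mem_bot]
      apply h
      intro i
      exact hg.2 (f i) (List.mem_ofFn.mpr ⟨i, rfl⟩)
  · rw [irr_ofFn]
    apply forall_congr'
    intro i
    constructor
    · rintro ⟨g, -, h⟩
      exact ⟨g, h⟩
    · rintro ⟨g, h⟩
      exact ⟨g, Subgroup.mem_top g, h⟩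

/-- A reordering of a list without duplicates is given by a permutation of the indices. -/
theorem exists_perm_of_perm {l l' : List Ω} (hnd : l.Nodup) (hperm : l.Perm l') :
    ∃ σ : Equiv.Perm (Fin l.length), List.ofFn (l.get ∘ σ) = l' := by
  classical
  have hnd' : l'.Nodup := hperm.nodup_iff.mp hnd
  have hlen : l.length = l'.length := hperm.length_eq
  let e := List.Nodup.getEquiv l hnd
  let e' := List.Nodup.getEquiv l' hnd'
  let m : { x // x ∈ l' } ≃ { x // x ∈ l } := Equiv.subtypeEquivRight (fun x => hperm.mem_iff.symm)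
  let σ : Equiv.Perm (Fin l.length) := (finCongr hlen).trans (e'.trans (m.trans e.symm))
  refine ⟨σ, ?_⟩
  apply List.ext_get
  · rw [List.length_ofFn, hlen]
  · intro n h1 h2
    rw [List.get_ofFn]
    simp only [Function.comp_apply]
    have key : ∀ i : Fin l.length, l.get (σ i) = l'.get (finCongr hlen i) := by
      intro i
      have h3 : (e (σ i) : Ω) = (e' (finCongr hlen i) : Ω) := by
        simp only [σ, Equiv.trans_apply, Equiv.apply_symm_apply]
        rfl
      exact h3
    rw [key]
    rfl

end ListLand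

/-- Let a finite group G act on a finite set Ω. An irredundant base is a sequence of points ω₁, …, ω_t whose pointwise stabiliser is trivial and in which each ω_i is moved by some element fixing ω₁, …, ω_{i−1}. Then all irredundant bases have the same length if and only if every reordering of an irredundant base is again an irredundant base. -/
theorem result {G Ω : Type*} [Group G] [Finite G] [MulAction G Ω] [Fintype Ω] :
    (∀ (t t' : ℕ) (f : Fin t → Ω) (f' : Fin t' → Ω), ((∀ g : G, (∀ i : Fin t, g • f i = f i) → g = 1) ∧ ∀ i : Fin t, ∃ g : G, (∀ j : Fin t, j < i → g • f j = f j) ∧ g • f i ≠ f i) → ((∀ g : G, (∀ i : Fin t', g • f' i = f' i) → g = 1) ∧ ∀ i : Fin t', ∃ g : G, (∀ j : Fin t', j < i → g • f' j = f' j) ∧ g • f' i ≠ f' i) → t = t') ↔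
    (∀ (t : ℕ) (f : Fin t → Ω) (σ : Equiv.Perm (Fin t)), ((∀ g : G, (∀ i : Fin t, g • f i = f i) → g = 1) ∧ ∀ i : Fin t, ∃ g : G, (∀ j : Fin t, j < i → g • f j = f j) ∧ g • f i ≠ f i) → ((∀ g : G, (∀ i : Fin t, g • (f ∘ σ) i = (f ∘ σ) i) → g = 1) ∧ ∀ i : Fin t, ∃ g : G, (∀ j : Fin t, j < i → g • (f ∘ σ) j = (f ∘ σ) j) ∧ g • (f ∘ σ) i ≠ (f ∘ σ) i)) := by
  constructor
  · intro ha t f σ hf
    have hA : ∀ A B : List Ω, IBL G A → IBL G B → A.length = B.length := by
      intro A B hA hB
      apply ha A.length B.length A.get B.get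
      · rw [← ibl_ofFn, List.ofFn_get]; exact hA
      · rw [← ibl_ofFn, List.ofFn_get]; exact hB
    have h1 : IBL G (List.ofFn f) := (ibl_ofFn t f).mpr hf
    have h2 := perm_closed_of_length_eq hA _ _ h1 (Equiv.Perm.ofFn_comp_perm σ f).symm
    exact (ibl_ofFn t (f ∘ σ)).mp h2
  · intro hb t t' f f' hf hf'
    have hB : ∀ M M' : List Ω, IBL G M → M.Perm M' → IBL G M' := by
      intro M M' hM hperm
      obtain ⟨σ, hσ⟩ := exists_perm_of_perm (nodup_of_irr hM.2) hperm
      have h1 : IBL G (List.ofFn M.get) := by rw [List.ofFn_get]; exact hM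
      have h2 := hb M.length M.get σ ((ibl_ofFn _ _).mp h1)
      rw [← hσ]
      exact (ibl_ofFn _ _).mpr h2
    have h := length_eq_of_perm_closed hB _ _ ((ibl_ofFn t f).mpr hf) ((ibl_ofFn t' f').mpr hf')
    simpa using h

end Cfsg.Agent.S5747
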