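import Mathlib
import Cfsg.Statements.S5752
import Cfsg.Agent.Lib.Helper10.TW9
-- import your own Cfsg.Agent.* helpers here

set_option autoImplicit false
open Cfsg

namespace Cfsg.Agent.S5752
open Cfsg.Agent.Helper10.TW Cfsg.Agent.Helper7 in

/-- A form of the Thompson–Wielandt Theorem on primitive permutation groups. Let G be a finite group and M₁, M₂ two distinct conjugate maximal subgroups of G with trivial core in G; define two descending sequences of subgroups by A₀ = M₁, B₀ = M₂ and, for every i, A_{i+1} = the core in M₁ of A_i ∩ B_i and B_{i+1} = the core in M₂ of A_i ∩ B_i (the core in M of a subgroup Y ≤ M is the largest normal subgroup of M contained in Y). If A₂ and B₂ are both non-trivial, then for some prime p the subgroup generated by A₂ and B₂ is a p-group, and for each j the generalized Fitting subgroups of M_j and of its first core (A₁, resp. B₁) are their largest normal p-subgroups. -/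
theorem result {G : Type*} [Group G] [Finite G] (M₁ M₂ : Subgroup G) (hmax : IsCoatom M₁) (g : G)
    (hconj : M₂ = M₁.map (MulAut.conj g).toMonoidHom) (hne : M₁ ≠ M₂) (hcore : M₁.normalCore = ⊥)
    (A B : ℕ → Subgroup G) (hA0 : A 0 = M₁) (hB0 : B 0 = M₂)
    (hA : ∀ i, A (i + 1) = ((A i ⊓ B i).subgroupOf M₁).normalCore.map M₁.subtype)
    (hB : ∀ i, B (i + 1) = ((A i ⊓ B i).subgroupOf M₂).normalCore.map M₂.subtype) (hA2 : A 2 ≠ ⊥) (hB2 : B 2 ≠ ⊥) :
    ∃ p : ℕ, p.Prime ∧ IsPGroup p ↥(A 2 ⊔ B 2) ∧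
      Cfsg.generalizedFittingSubgroup ↥M₁ = Cfsg.pCore p ↥M₁ ∧ Cfsg.generalizedFittingSubgroup ↥(A 1) = Cfsg.pCore p ↥(A 1) ∧
      Cfsg.generalizedFittingSubgroup ↥M₂ = Cfsg.pCore p ↥M₂ ∧ Cfsg.generalizedFittingSubgroup ↥(B 1) = Cfsg.pCore p ↥(B 1) := by
  -- the second maximal subgroup
  have hco₂ : IsCoatom M₂ := by
    have h := (OrderIso.isCoatom_iff (MulEquiv.mapSubgroup (MulAut.conj g)) M₁).mpr hmax
    rw [hconj]
    exact h
  have hmem : ∀ z, z ∈ M₂ ↔ g⁻¹ * z * g ∈ M₁ := by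
    intro z
    rw [hconj]
    constructor
    · rintro ⟨w, hw, rfl⟩
      simpa [MulAut.conj_apply, mul_assoc] using hw
    · intro h
      refine ⟨g⁻¹ * z * g, h, ?_⟩
      simp [MulAut.conj_apply, mul_assoc]
  have hcore₂ : M₂.normalCore = ⊥ := by
    rw [eq_bot_iff, ← hcore]
    intro x hx c
    have h1 := (hmem _).mp (hx (g * c))
    have e : g⁻¹ * (g * c * x * (g * c)⁻¹) * g = c * x * c⁻¹ := by group
    rwa [e] at h1
  have hpair : Pair M₁ M₂ := ⟨hmax, hco₂, hne, hcore, hcore₂⟩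
  have e : ↥M₁ ≃* ↥M₂ :=
    ((MulAut.conj g).subgroupMap M₁).trans (MulEquiv.subgroupCongr hconj.symm)
  -- identify the sequences
  have hA1 : A 1 = cA M₁ M₂ := by
    rw [hA 0, hA0, hB0]; rfl
  have hB1 : B 1 = cA M₂ M₁ := by
    rw [hB 0, hA0, hB0, inf_comm]; rfl
  have hA2' : A 2 = cA2 M₁ M₂ := by
    rw [hA 1, hA1, hB1]; rfl
  have hB2' : B 2 = cA2 M₂ M₁ := by
    rw [hB 1, hA1, hB1]
    unfold cA2
    rw [yY_comm M₂ M₁]
    rfl
  rw [hA2'] at hA2
  rw [hB2'] at hB2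
  obtain ⟨p, hp, -, -, hsup, h1, h2, h3, h4⟩ := tw_full hpair e hA2 hB2
  rw [hA2', hB2', hA1, hB1]
  exact ⟨p, hp, hsup, h1, h2, h3, h4⟩

end Cfsg.Agent.S5752
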