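import Mathlib
import Cfsg.Statements.S5754

set_option autoImplicit false
open Cfsg

namespace Cfsg.Agent.S5754

open QuadraticMap

/-- Expansion of `Q (x - y)`. -/
theorem map_sub_expand {F V : Type*} [Field F] [AddCommGroup V] [Module F V]
    (Q : QuadraticForm F V) (x y : V) : Q (x - y) = Q x + Q y - polar Q x y := by
  have h1 : Q x = Q (x - y) + Q y + polar Q (x - y) y := by
    have := QuadraticMap.map_add Q (x - y) y
    rwa [sub_add_cancel] at this
  rw [QuadraticMap.polar_sub_left, QuadraticMap.polar_self] at h1
  simp only [nsmul_eq_mul, Nat.cast_ofNat] at h1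
  linear_combination -h1

/-- The reflection along a non-singular vector `d`, as an isometry of `Q`. -/
theorem exists_reflection {F V : Type*} [Field F] [AddCommGroup V] [Module F V]
    (Q : QuadraticForm F V) (d : V) (hd : Q d ≠ 0) :
    ∃ s : Q.IsometryEquiv Q, ∀ v : V, s v = v - ((Q d)⁻¹ * polar Q v d) • d := by
  set f : V →ₗ[F] F := (Q d)⁻¹ • (QuadraticMap.polarBilin Q).flip d with hf
  have hfv : ∀ v, f v = (Q d)⁻¹ * polar Q v d := by
    intro v
    rw [hf]
    rfl
  have h2 : f d = 2 := by
    rw [hfv, QuadraticMap.polar_self]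
    simp only [nsmul_eq_mul, Nat.cast_ofNat]
    field_simp
  have happ : ∀ v, Module.reflection h2 v = v - ((Q d)⁻¹ * polar Q v d) • d := by
    intro v
    rw [Module.reflection_apply, hfv]
  refine ⟨{ Module.reflection h2 with map_app' := ?_ }, ?_⟩
  · intro v
    show Q (Module.reflection h2 v) = Q v
    rw [happ]
    set c := (Q d)⁻¹ * polar Q v d with hc
    rw [map_sub_expand, QuadraticMap.map_smul, QuadraticMap.polar_smul_right]
    simp only [smul_eq_mul]
    have : c * Q d = polar Q v d := by
      rw [hc]; field_simp
    calc Q v + c * c * Q d - c * polar Q v d = Q v + c * (c * Q d) - c * polar Q v d := by ring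
      _ = Q v := by rw [this]; ring
  · intro v
    exact happ v

/-- Over an anisotropic form, a family of vectors can be carried to another family with the same values
of `Q` and of its polar form by an isometry. -/
theorem exists_isometry {F V : Type*} [Field F] [AddCommGroup V] [Module F V]
    (Q : QuadraticForm F V) (hQ : Q.Anisotropic) (n : ℕ) (x x' : Fin n → V)
    (hq : ∀ i, Q (x i) = Q (x' i)) (hp : ∀ i j, polar Q (x i) (x j) = polar Q (x' i) (x' j)) :
    ∀ k, k ≤ n → ∃ φ : Q.IsometryEquiv Q, ∀ i : Fin n, i.val < k → φ (x i) = x' i := by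
  intro k
  induction k with
  | zero =>
    intro _
    exact ⟨QuadraticMap.IsometryEquiv.refl Q, fun i hi => absurd hi (Nat.not_lt_zero _)⟩
  | succ k ih =>
    intro hk
    obtain ⟨φ, hφ⟩ := ih (by omega)
    set ik : Fin n := ⟨k, by omega⟩ with hik
    set y := φ (x ik) with hy
    by_cases hyx : y = x' ik
    · refine ⟨φ, fun i hi => ?_⟩
      rcases Nat.lt_succ_iff_lt_or_eq.mp hi with h | h
      · exact hφ i h
      · have : i = ik := Fin.ext h
        rw [this]; exact hyx
    · set d := y - x' ik with hd
      have hd0 : d ≠ 0 := sub_ne_zero.mpr hyx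
      have hQd : Q d ≠ 0 := fun h => hd0 (hQ d h)
      obtain ⟨s, hs⟩ := exists_reflection Q d hQd
      have hQy : Q y = Q (x' ik) := by rw [hy, QuadraticMap.IsometryEquiv.map_app, hq]
      have hpolar_iso : ∀ a b : V, polar Q (φ a) (φ b) = polar Q a b := by
        intro a b
        unfold polar
        rw [← map_add, QuadraticMap.IsometryEquiv.map_app, QuadraticMap.IsometryEquiv.map_app,
          QuadraticMap.IsometryEquiv.map_app]
      refine ⟨φ.trans s, fun i hi => ?_⟩
      show s (φ (x i)) = x' i
      rcases Nat.lt_succ_iff_lt_or_eq.mp hi with h | h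
      · rw [hφ i h, hs]
        have h0 : polar Q (x' i) d = 0 := by
          rw [hd, QuadraticMap.polar_sub_right, hy, ← hφ i h, hpolar_iso, hφ i h, hp i ik, sub_self]
        rw [h0, mul_zero, zero_smul, sub_zero]
      · have hi' : i = ik := Fin.ext h
        rw [hi', ← hy, hs]
        have h1 : polar Q y d = Q d := by
          rw [hd, QuadraticMap.polar_sub_right, map_sub_expand, QuadraticMap.polar_self, hQy]
          simp only [nsmul_eq_mul, Nat.cast_ofNat]
          ring
        rw [h1, inv_mul_cancel₀ hQd, one_smul, hd]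
        abel

/-- Let V be a finite-dimensional vector space over a finite field F carrying an anisotropic quadratic form Q (Q(v) = 0 only for v = 0). Then the group of all maps v ↦ φ(v) + c, with φ an isometry of Q and c ∈ V, acts on V as a binary permutation group: given n ≥ 2 and two n-tuples u, u' of vectors such that every pair of corresponding entries of u is carried to that of u' by such a map, one such map carries u to u'. -/
theorem result {F V : Type*} [Field F] [Finite F] [AddCommGroup V] [Module F V] [Module.Finite F V]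
    (Q : QuadraticForm F V) (hQ : Q.Anisotropic) (n : ℕ) (hn : 2 ≤ n) (u u' : Fin n → V)
    (h2 : ∀ i j : Fin n, i ≠ j → ∃ (φ : Q.IsometryEquiv Q) (c : V), φ (u i) + c = u' i ∧ φ (u j) + c = u' j) :
    ∃ (φ : Q.IsometryEquiv Q) (c : V), ∀ i, φ (u i) + c = u' i := by
  have hdist : ∀ i j : Fin n, Q (u i - u j) = Q (u' i - u' j) := by
    intro i j
    by_cases hij : i = j
    · subst hij; simp
    · obtain ⟨φ, c, h1, h2'⟩ := h2 i j hij
      have : u' i - u' j = φ (u i - u j) := by
        rw [← h1, ← h2', map_sub]; abel
      rw [this, QuadraticMap.IsometryEquiv.map_app]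
  set z : Fin n := ⟨0, by omega⟩ with hz
  set x : Fin n → V := fun i => u i - u z with hx
  set x' : Fin n → V := fun i => u' i - u' z with hx'
  have hq : ∀ i, Q (x i) = Q (x' i) := fun i => hdist i z
  have hsub : ∀ i j, Q (x i - x j) = Q (x' i - x' j) := by
    intro i j
    have h1 : x i - x j = u i - u j := by simp only [hx]; abel
    have h2 : x' i - x' j = u' i - u' j := by simp only [hx']; abel
    rw [h1, h2, hdist]
  have hp : ∀ i j, polar Q (x i) (x j) = polar Q (x' i) (x' j) := by
    intro i j
    have h1 := map_sub_expand Q (x i) (x j)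
    have h2 := map_sub_expand Q (x' i) (x' j)
    rw [hsub i j, h2, hq i, hq j] at h1
    linear_combination h1
  obtain ⟨φ, hφ⟩ := exists_isometry Q hQ n x x' hq hp n le_rfl
  refine ⟨φ, u' z - φ (u z), fun i => ?_⟩
  have h1 := hφ i i.isLt
  simp only [hx, hx', map_sub] at h1
  rw [← sub_eq_zero] at h1 ⊢
  rw [← h1]
  abel

end Cfsg.Agent.S5754
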