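import Mathlib
import Cfsg.Statements.S5763
import Cfsg.Agent.Lib.Helper28.SylowS8

set_option autoImplicit false
open Cfsg

namespace Cfsg.Agent.S5763

open Cfsg.Agent.Helper28.S8

theorem perm_inv_apply_self {α : Type*} (y : Equiv.Perm α) (a : α) : y⁻¹ (y a) = a :=
  y.symm_apply_apply a

theorem perm_apply_inv_self {α : Type*} (y : Equiv.Perm α) (a : α) : y (y⁻¹ a) = a :=
  y.apply_symm_apply a

/-- Membership in the normal 2-subgroup from the pointwise criterion. -/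
theorem mem_N0_of_crit (τ : Equiv.Perm (Fin 8)) (hinv : ∀ a, τ (τ a) = a) (hcrit : CritF m0f ⇑τ) :
    ∃ h : τ ∈ C0, (⟨τ, h⟩ : ↥C0) ∈ N0 := by
  rw [critF_def] at hcrit
  obtain ⟨hcomm, hcase⟩ := hcrit
  have hC : τ ∈ C0 := (mem_C0_iff τ).mpr hcomm
  refine ⟨hC, ?_⟩
  show piHom ⟨τ, hC⟩ ∈ V4
  rw [mem_V4_iff]
  rcases hcase with h | h
  · left
    apply Equiv.Perm.ext
    intro j
    rw [piHom_apply, Equiv.Perm.one_apply]
    show ef (τ (sf j)) = j
    have := (ef_eq_iff (sf j) (τ (sf j))).mpr (h (sf j))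
    rw [← this, ef_sf]
  · right
    constructor
    · rw [← map_mul]
      have : (⟨τ, hC⟩ : ↥C0) * ⟨τ, hC⟩ = 1 := by
        apply Subtype.ext
        apply Equiv.Perm.ext
        intro a
        show τ (τ a) = a
        exact hinv a
      rw [this, map_one]
    · intro j
      rw [piHom_apply]
      show ef (τ (sf j)) ≠ j
      intro hj
      have h1 : ef (sf j) = ef (τ (sf j)) := by rw [hj, ef_sf]
      rcases (ef_eq_iff (sf j) (τ (sf j))).mp h1 with h2 | h2
      · exact (h (sf j)).1 h2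
      · exact (h (sf j)).2 h2

theorem conj_m0_apply (y : Equiv.Perm (Fin 8)) (a : Fin 8) :
    (y * m0 * y⁻¹) (y a) = y (m0f a) := by
  rw [Equiv.Perm.mul_apply, Equiv.Perm.mul_apply, perm_inv_apply_self, m0_apply]

/-- Transport of the criterion under conjugation. -/
theorem crit_conj (y τ : Equiv.Perm (Fin 8)) (hcrit : CritF (⇑(y * m0 * y⁻¹)) ⇑τ) :
    CritF m0f ⇑(y⁻¹ * τ * y) := by
  rw [critF_def] at hcrit ⊢
  obtain ⟨hcomm, hcase⟩ := hcrit
  have happ : ∀ a, (y⁻¹ * τ * y) a = y⁻¹ (τ (y a)) := fun a => rfl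
  refine ⟨?_, ?_⟩
  · intro a
    rw [happ, happ, ← conj_m0_apply y a, hcomm (y a)]
    have h1 : τ (y a) = y (y⁻¹ (τ (y a))) := (perm_apply_inv_self y _).symm
    rw [h1, conj_m0_apply, perm_inv_apply_self, perm_inv_apply_self]
  · rcases hcase with h | h
    · left
      intro a
      rcases h (y a) with h1 | h1
      · left
        rw [happ, h1, perm_inv_apply_self]
      · right
        rw [happ, h1, conj_m0_apply, perm_inv_apply_self]
    · right
      intro a
      obtain ⟨h1, h2⟩ := h (y a)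
      constructor
      · intro h3
        apply h1
        rw [happ] at h3
        have := congrArg y h3
        rwa [perm_apply_inv_self] at this
      · intro h3
        apply h2
        rw [happ] at h3
        have := congrArg y h3
        rwa [perm_apply_inv_self, ← conj_m0_apply] at this

/-- The common nontrivial element. -/
theorem exists_common (y : Equiv.Perm (Fin 8)) :
    ∃ τ : Equiv.Perm (Fin 8), τ ≠ 1 ∧ (∃ h : τ ∈ C0, (⟨τ, h⟩ : ↥C0) ∈ N0) ∧
      (∃ h : y⁻¹ * τ * y ∈ C0, (⟨y⁻¹ * τ * y, h⟩ : ↥C0) ∈ N0) := by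
  set f : Fin 8 → Fin 8 := ⇑(y * m0 * y⁻¹) with hf
  have hfy : ∀ a, f (y a) = y (m0f a) := conj_m0_apply y
  have hinv : ∀ a, f (f a) = a := by
    intro a
    have h1 : a = y (y⁻¹ a) := (perm_apply_inv_self y a).symm
    rw [h1, hfy, hfy, m0f_invol]
  have hfpf : ∀ a, f a ≠ a := by
    intro a h
    have h1 : a = y (y⁻¹ a) := (perm_apply_inv_self y a).symm
    rw [h1, hfy] at h
    exact m0f_ne _ (y.injective h)
  have hPF := CL f hinv hfpf
  rw [pF_def] at hPF
  have hex : ∃ τf : Fin 8 → Fin 8, GoodF f τf := by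
    rcases hPF with ⟨a, _, h⟩ | h | h
    · exact ⟨_, h⟩
    · exact ⟨_, h⟩
    · exact ⟨_, h⟩
  obtain ⟨τf, hgood⟩ := hex
  rw [goodF_def] at hgood
  obtain ⟨hτinv, ⟨a, ha⟩, hc0, hcf⟩ := hgood
  set τ : Equiv.Perm (Fin 8) := ⟨τf, τf, hτinv, hτinv⟩ with hτ
  have hτapp : ∀ b, τ b = τf b := fun b => rfl
  have hcoe : (⇑τ : Fin 8 → Fin 8) = τf := rfl
  refine ⟨τ, ?_, ?_, ?_⟩
  · intro h1
    apply ha
    rw [← hτapp, h1, Equiv.Perm.one_apply]
  · exact mem_N0_of_crit τ hτinv (by rw [hcoe]; exact hc0)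
  · apply mem_N0_of_crit
    · intro b
      show y⁻¹ (τ (y (y⁻¹ (τ (y b))))) = b
      rw [perm_apply_inv_self, hτapp, hτapp, hτinv, perm_inv_apply_self]
    · apply crit_conj
      rw [hcoe]
      exact hcf

theorem factorization_card_perm :
    (Nat.card (Equiv.Perm (Fin 8))).factorization 2 = 7 := by
  have h1 : Nat.card (Equiv.Perm (Fin 8)) = 2 ^ 7 * 315 := by
    rw [Nat.card_eq_fintype_card, Fintype.card_perm, Fintype.card_fin]
    decide
  rw [h1, Nat.factorization_mul (by norm_num) (by norm_num), Finsupp.add_apply,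
    Nat.factorization_pow, Finsupp.smul_apply, Nat.Prime.factorization_self Nat.prime_two,
    Nat.factorization_eq_zero_of_not_dvd (by norm_num : ¬ 2 ∣ 315)]
  rfl

/-- In the symmetric group on 8 letters any two Sylow 2-subgroups have non-trivial intersection: for a Sylow 2-subgroup H and every element x, H ∩ xHx⁻¹ ≠ 1. -/
theorem result (H : Sylow 2 (Equiv.Perm (Fin 8))) (x : Equiv.Perm (Fin 8)) :
    (H : Subgroup (Equiv.Perm (Fin 8))) ⊓ (H : Subgroup (Equiv.Perm (Fin 8))).map (MulAut.conj x).toMonoidHom ≠ ⊥ := by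
  have : Fact (Nat.Prime 2) := ⟨Nat.prime_two⟩
  -- a Sylow 2-subgroup of the centraliser
  obtain ⟨K, hK⟩ := Sylow.exists_subgroup_card_pow_prime (G := ↥C0) 2 (n := 7)
    (by rw [card_C0]; norm_num)
  have hN0n : N0.Normal := N0_normal
  have hN0K : N0 ≤ K := normal_pgroup_le 2 7 3 (by rw [card_C0]; norm_num) (by norm_num) N0 K N0_isPGroup hK
  set K' : Subgroup (Equiv.Perm (Fin 8)) := K.map C0.subtype with hK'
  have hK'card : Nat.card ↥K' = 2 ^ 7 := by
    rw [hK', Subgroup.card_map_of_injective C0.subtype_injective, hK]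
  have hmemK' : ∀ τ : Equiv.Perm (Fin 8), (∃ h : τ ∈ C0, (⟨τ, h⟩ : ↥C0) ∈ N0) → τ ∈ K' := by
    rintro τ ⟨h, hN⟩
    exact ⟨⟨τ, h⟩, hN0K hN, rfl⟩
  -- conjugacy of Sylow subgroups
  set P : Sylow 2 (Equiv.Perm (Fin 8)) := Sylow.ofCard K' (by rw [hK'card, factorization_card_perm]) with hP
  obtain ⟨g, hg⟩ := MulAction.exists_smul_eq (Equiv.Perm (Fin 8)) P H
  have hHmem : ∀ τ : Equiv.Perm (Fin 8), τ ∈ K' → g * τ * g⁻¹ ∈ (H : Subgroup (Equiv.Perm (Fin 8))) := by
    intro τ hτ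
    rw [← hg, Sylow.coe_subgroup_smul, Subgroup.mem_pointwise_smul_iff_inv_smul_mem,
      MulAut.smul_def, MulAut.conj_inv_apply]
    have : g⁻¹ * (g * τ * g⁻¹) * g = τ := by group
    rw [this]
    exact hτ
  obtain ⟨τ, hτ1, hτN, hτN'⟩ := exists_common (g⁻¹ * x * g)
  have h1 := hHmem τ (hmemK' τ hτN)
  have h2 := hHmem _ (hmemK' _ hτN')
  intro hbot
  have h3 : g * τ * g⁻¹ ∈ (H : Subgroup (Equiv.Perm (Fin 8))) ⊓
      (H : Subgroup (Equiv.Perm (Fin 8))).map (MulAut.conj x).toMonoidHom := by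
    refine ⟨h1, ?_⟩
    refine ⟨_, h2, ?_⟩
    show x * _ * x⁻¹ = _
    group
  rw [hbot, Subgroup.mem_bot] at h3
  apply hτ1
  have : τ = g⁻¹ * (g * τ * g⁻¹) * g := by group
  rw [this, h3]
  group

end Cfsg.Agent.S5763
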