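import Mathlib
import Cfsg.Statements.S5885
import Cfsg.Agent.Lib.Helper29.RelCoatom

set_option autoImplicit false
open Cfsg
open MulAction
open scoped Pointwise

namespace Cfsg.Agent.S5885

open Cfsg.Agent.Helper29

section core

variable {G : Type*} [Group G] {Ω : Type*} [MulAction G Ω] [Fintype Ω] [DecidableEq Ω]

/-- realise a product of two swaps -/
theorem exists_swaps
    (hsurj : ∀ σ : Equiv.Perm Ω, σ ∈ alternatingGroup Ω → ∃ g : G, ∀ x, g • x = σ x)
    {x y u v : Ω} (hxy : x ≠ y) (huv : u ≠ v) :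
    ∃ g : G, ∀ w, g • w = Equiv.swap x y (Equiv.swap u v w) := by
  obtain ⟨g, hg⟩ := hsurj (Equiv.swap x y * Equiv.swap u v)
    (Equiv.Perm.mul_mem_alternatingGroup_of_isSwap ⟨x, y, hxy, rfl⟩ ⟨u, v, huv, rfl⟩)
  exact ⟨g, fun w => by rw [hg]; rfl⟩

/-- three cycle `x → y → z → x` fixing everything else -/
theorem exists_three_cycle
    (hsurj : ∀ σ : Equiv.Perm Ω, σ ∈ alternatingGroup Ω → ∃ g : G, ∀ x, g • x = σ x)
    {x y z : Ω} (hxy : x ≠ y) (hyz : y ≠ z) (hxz : x ≠ z) :
    ∃ g : G, g • x = y ∧ g • y = z ∧ g • z = x ∧ ∀ w, w ≠ x → w ≠ y → w ≠ z → g • w = w := by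
  obtain ⟨g, hg⟩ := exists_swaps hsurj hxy hyz
  refine ⟨g, ?_, ?_, ?_, ?_⟩
  · rw [hg, Equiv.swap_apply_of_ne_of_ne hxy hxz, Equiv.swap_apply_left]
  · rw [hg, Equiv.swap_apply_left, Equiv.swap_apply_of_ne_of_ne hxz.symm hyz.symm]
  · rw [hg, Equiv.swap_apply_right, Equiv.swap_apply_right]
  · intro w h1 h2 h3
    rw [hg, Equiv.swap_apply_of_ne_of_ne h2 h3, Equiv.swap_apply_of_ne_of_ne h1 h2]

/-- double transposition `(x y)(u v)` fixing everything else -/
theorem exists_double_swap
    (hsurj : ∀ σ : Equiv.Perm Ω, σ ∈ alternatingGroup Ω → ∃ g : G, ∀ x, g • x = σ x)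
    {x y u v : Ω} (hxy : x ≠ y) (huv : u ≠ v) (hxu : x ≠ u) (hxv : x ≠ v) (hyu : y ≠ u) (hyv : y ≠ v) :
    ∃ g : G, g • x = y ∧ g • y = x ∧ ∀ w, w ≠ x → w ≠ y → w ≠ u → w ≠ v → g • w = w := by
  obtain ⟨g, hg⟩ := exists_swaps hsurj hxy huv
  refine ⟨g, ?_, ?_, ?_⟩
  · rw [hg, Equiv.swap_apply_of_ne_of_ne hxu hxv, Equiv.swap_apply_left]
  · rw [hg, Equiv.swap_apply_of_ne_of_ne hyu hyv, Equiv.swap_apply_right]
  · intro w h1 h2 h3 h4
    rw [hg, Equiv.swap_apply_of_ne_of_ne h3 h4, Equiv.swap_apply_of_ne_of_ne h1 h2]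

theorem exists_ne_ne (h3 : 3 ≤ Fintype.card Ω) (a c : Ω) : ∃ d : Ω, d ≠ a ∧ d ≠ c := by
  by_contra hcon
  push Not at hcon
  have hsub : (Finset.univ : Finset Ω) ⊆ {a, c} := by
    intro d _
    by_cases hda : d = a
    · simp [hda]
    · simp [hcon d hda]
  have := Finset.card_le_card hsub
  have h2 : ({a, c} : Finset Ω).card ≤ 2 := Finset.card_le_two
  rw [Finset.card_univ] at this
  omega

/-- the intransitive case -/
theorem intransitive_case
    (hsurj : ∀ σ : Equiv.Perm Ω, σ ∈ alternatingGroup Ω → ∃ g : G, ∀ x, g • x = σ x)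
    (hodd : Odd (Fintype.card Ω)) (a : Ω)
    (H : Subgroup G) (K : Subgroup G) (hK : IsCoatom K) (hHK : H ≤ K)
    (hinf : K ⊓ stabilizer G a = H) (hHneK : H ≠ K)
    (horb : MulAction.orbit K a ≠ Set.univ) : IsCoatom (H.subgroupOf K) := by
  have hmemH : ∀ g : G, g ∈ K → g • a = a → g ∈ H := fun g hgK hga => by
    rw [← hinf]; exact ⟨hgK, hga⟩
  set Δ : Set Ω := MulAction.orbit K a with hΔ
  have haΔ : a ∈ Δ := mem_orbit_self a
  obtain ⟨c, hc⟩ : ∃ c, c ∉ Δ := by
    by_contra h
    push Not at h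
    exact horb (Set.eq_univ_of_forall h)
  have hac : a ≠ c := fun h => hc (h ▸ haΔ)
  have h3 : 3 ≤ Fintype.card Ω := by
    have h2 : 1 < Fintype.card Ω := Fintype.one_lt_card_iff.mpr ⟨a, c, hac⟩
    obtain ⟨k, hk⟩ := hodd
    omega
  have hKle : K ≤ stabilizer G Δ := by
    intro k hk
    rw [mem_stabilizer_iff]
    exact smul_orbit (⟨k, hk⟩ : K) a
  have hstab_ne : stabilizer G Δ ≠ ⊤ := by
    intro htop
    obtain ⟨d, hda, hdc⟩ := exists_ne_ne h3 a c
    obtain ⟨g, hg1, -, -, -⟩ := exists_three_cycle hsurj hac hdc.symm hda.symm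
    have hg : g ∈ stabilizer G Δ := htop ▸ Subgroup.mem_top g
    rw [mem_stabilizer_iff] at hg
    have : g • a ∈ g • Δ := Set.smul_mem_smul_set haΔ
    rw [hg, hg1] at this
    exact hc this
  have hKeq : K = stabilizer G Δ := by
    rcases eq_or_lt_of_le hKle with h | h
    · exact h
    · exact absurd (hK.2 _ h) hstab_ne
  have hmemK : ∀ g : G, (∀ w ∈ Δ, g • w ∈ Δ) → g ∈ K := by
    intro g hg
    rw [hKeq, mem_stabilizer_set_iff_smul_set_subset Δ.toFinite]
    rintro _ ⟨w, hw, rfl⟩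
    exact hg w hw
  rw [isCoatom_subgroupOf_iff hHK]
  refine ⟨hHneK, fun L hHL hLK => ?_⟩
  by_cases hLM : L ≤ stabilizer G a
  · left
    refine le_antisymm ?_ hHL
    rw [← hinf]
    exact le_inf hLK hLM
  · right
    obtain ⟨l, hlL, hlM⟩ := SetLike.not_le_iff_exists.mp hLM
    rw [mem_stabilizer_iff] at hlM
    have hlK : l ∈ K := hLK hlL
    have hbΔ : l • a ∈ Δ := mem_orbit a (⟨l, hlK⟩ : K)
    refine le_antisymm hLK (fun k hk => ?_)
    have hcΔ : k • a ∈ Δ := mem_orbit a (⟨k, hk⟩ : K)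
    -- it suffices to find l' ∈ L with l' • a = k • a
    suffices hsuff : ∃ l' ∈ L, l' • a = k • a by
      obtain ⟨l', hl'L, hl'⟩ := hsuff
      have h1 : l'⁻¹ * k ∈ H := by
        apply hmemH _ (K.mul_mem (K.inv_mem (hLK hl'L)) hk)
        rw [mul_smul, ← hl', inv_smul_smul]
      have h2 : k = l' * (l'⁻¹ * k) := by group
      rw [h2]
      exact L.mul_mem hl'L (hHL h1)
    by_cases hka : k • a = a
    · exact ⟨1, L.one_mem, by rw [one_smul, hka]⟩
    by_cases hkb : k • a = l • a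
    · exact ⟨l, hlL, hkb.symm⟩
    -- find h ∈ H with h • (l • a) = k • a
    suffices hsuff : ∃ h : G, h • a = a ∧ h • (l • a) = k • a ∧ ∀ w ∈ Δ, h • w ∈ Δ by
      obtain ⟨h, h1, h2, h3⟩ := hsuff
      refine ⟨h * l, L.mul_mem (hHL (hmemH h (hmemK h h3) h1)) hlL, ?_⟩
      rw [mul_smul, h2]
    by_cases hd : ∃ d ∈ Δ, d ≠ a ∧ d ≠ l • a ∧ d ≠ k • a
    · obtain ⟨d, hdΔ, hda, hdb, hdc⟩ := hd
      obtain ⟨h, h1, h2, h3, h4⟩ := exists_three_cycle hsurj (Ne.symm hkb) hdc.symm hdb.symm
      refine ⟨h, h4 a (Ne.symm hlM) (Ne.symm hka) hda.symm, h1, fun w hw => ?_⟩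
      by_cases hw1 : w = l • a
      · rw [hw1, h1]; exact hcΔ
      by_cases hw2 : w = k • a
      · rw [hw2, h2]; exact hdΔ
      by_cases hw3 : w = d
      · rw [hw3, h3]; exact hbΔ
      rw [h4 w hw1 hw2 hw3]; exact hw
    · push Not at hd
      -- Δ = {a, l • a, k • a}; find two points outside
      obtain ⟨v, hvΔ, hvc⟩ : ∃ v, v ∉ Δ ∧ v ≠ c := by
        by_contra hcon
        push Not at hcon
        have hsub : (Finset.univ : Finset Ω) ⊆ {a, l • a, k • a, c} := by
          intro w _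
          by_cases hw : w ∈ Δ
          · by_cases hw1 : w = a
            · simp [hw1]
            by_cases hw2 : w = l • a
            · simp [hw2]
            have := hd w hw hw1 hw2
            simp [this]
          · simp [hcon w hw]
        have hsup : ({a, l • a, k • a, c} : Finset Ω) ⊆ Finset.univ := Finset.subset_univ _
        have heq : (Finset.univ : Finset Ω) = {a, l • a, k • a, c} := Finset.Subset.antisymm hsub hsup
        have hcard : ({a, l • a, k • a, c} : Finset Ω).card = 4 := by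
          have hcb : c ≠ l • a := fun h => hc (h ▸ hbΔ)
          have hcc : c ≠ k • a := fun h => hc (h ▸ hcΔ)
          rw [Finset.card_insert_of_notMem, Finset.card_insert_of_notMem, Finset.card_insert_of_notMem,
            Finset.card_singleton]
          · simp [hcc.symm]
          · simp [Ne.symm hkb, hcb.symm]
          · simp [Ne.symm hlM, Ne.symm hka, hac]
        have : Fintype.card Ω = 4 := by rw [← Finset.card_univ, heq, hcard]
        obtain ⟨m, hm⟩ := hodd
        omega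
      have hcb : c ≠ l • a := fun h => hc (h ▸ hbΔ)
      have hcc : c ≠ k • a := fun h => hc (h ▸ hcΔ)
      have hvb : v ≠ l • a := fun h => hvΔ (h ▸ hbΔ)
      have hvk : v ≠ k • a := fun h => hvΔ (h ▸ hcΔ)
      have hva : v ≠ a := fun h => hvΔ (h ▸ haΔ)
      obtain ⟨h, h1, h2, h4⟩ := exists_double_swap hsurj (Ne.symm hkb) hvc.symm hcb.symm hvb.symm
        hcc.symm hvk.symm
      refine ⟨h, h4 a (Ne.symm hlM) (Ne.symm hka) hac hva.symm, h1, fun w hw => ?_⟩
      by_cases hw1 : w = l • a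
      · rw [hw1, h1]; exact hcΔ
      by_cases hw2 : w = k • a
      · rw [hw2, h2]; exact hbΔ
      have hwc : w ≠ c := fun h => hc (h ▸ hw)
      have hwv : w ≠ v := fun h => hvΔ (h ▸ hw)
      rw [h4 w hw1 hw2 hwc hwv]; exact hw

/-- the imprimitive case is impossible -/
theorem imprimitive_case
    (hsurj : ∀ σ : Equiv.Perm Ω, σ ∈ alternatingGroup Ω → ∃ g : G, ∀ x, g • x = σ x)
    (hodd : Odd (Fintype.card Ω)) (a : Ω)
    (H : Subgroup G) (hHM : H ≤ stabilizer G a)
    (hHmax : ∀ L : Subgroup G, H ≤ L → L ≤ stabilizer G a → L = H ∨ L = stabilizer G a)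
    (K : Subgroup G) (hHK : H ≤ K)
    [IsPretransitive K Ω] (B : Set Ω) (haB : a ∈ B) (hB : IsBlock K B) (hBnt : ¬ IsTrivialBlock B) :
    False := by
  rw [IsTrivialBlock, not_or] at hBnt
  obtain ⟨hBns, hBnu⟩ := hBnt
  -- b ∈ B, b ≠ a
  obtain ⟨b, hbB, hba⟩ : ∃ b ∈ B, b ≠ a := by
    rw [Set.not_subsingleton_iff] at hBns
    obtain ⟨x, hx, y, hy, hxy⟩ := hBns
    by_cases hxa : x = a
    · exact ⟨y, hy, fun h => hxy (hxa.trans h.symm)⟩
    · exact ⟨x, hx, hxa⟩
  obtain ⟨c, hcB⟩ := (Set.ne_univ_iff_exists_notMem B).mp hBnu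
  -- second block
  obtain ⟨k₂, hk₂⟩ := exists_smul_eq K a c
  have hcB₂ : c ∈ k₂ • B := by rw [← hk₂]; exact Set.smul_mem_smul_set haB
  have hB12 : Disjoint B (k₂ • B) := by
    have := @hB 1 k₂ (by
      rw [one_smul]
      intro h
      exact hcB (h ▸ hcB₂))
    rwa [one_smul] at this
  -- third block
  obtain ⟨e, heB, heB₂⟩ : ∃ e, e ∉ B ∧ e ∉ k₂ • B := by
    by_contra hcon
    push Not at hcon
    have huniv : B ∪ k₂ • B = Set.univ := by
      ext w
      simp only [Set.mem_union, Set.mem_univ, iff_true]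
      by_cases hw : w ∈ B
      · exact Or.inl hw
      · exact Or.inr (hcon w hw)
    have hcard := Set.ncard_union_eq hB12
    rw [huniv, Set.ncard_univ, Nat.card_eq_fintype_card, Set.ncard_smul_set] at hcard
    obtain ⟨m, hm⟩ := hodd
    omega
  obtain ⟨k₃, hk₃⟩ := exists_smul_eq K a e
  have heB₃ : e ∈ k₃ • B := by rw [← hk₃]; exact Set.smul_mem_smul_set haB
  have hB23 : Disjoint (k₂ • B) (k₃ • B) := by
    apply @hB k₂ k₃
    intro h
    exact heB₂ (h ▸ heB₃)
  -- points
  have hac : a ≠ c := fun h => hcB (h ▸ haB)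
  have hae : a ≠ e := fun h => heB (h ▸ haB)
  have hbc : b ≠ c := fun h => hcB (h ▸ hbB)
  have hbe : b ≠ e := fun h => heB (h ▸ hbB)
  have hce : c ≠ e := fun h => heB₂ (h ▸ hcB₂)
  -- L = stabilizer of a and B
  have hHL : H ≤ stabilizer G a ⊓ stabilizer G B := by
    intro h hh
    refine ⟨hHM hh, ?_⟩
    show h • B = B
    have hha : h • a = a := hHM hh
    have := (isBlock_iff_smul_eq_of_mem.mp hB) (g := (⟨h, hHK hh⟩ : K)) haB (by
      show h • a ∈ B
      rw [hha]; exact haB)
    exact this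
  have hL : stabilizer G a ⊓ stabilizer G B = H := by
    rcases hHmax _ hHL inf_le_left with h | h
    · exact h
    · exfalso
      obtain ⟨g, hg1, -, -, hg4⟩ := exists_three_cycle hsurj hbc hce hbe
      have hga : g ∈ stabilizer G a := hg4 a hba.symm hac hae
      rw [← h] at hga
      have hgB : g • B = B := hga.2
      have : g • b ∈ g • B := Set.smul_mem_smul_set hbB
      rw [hgB, hg1] at this
      exact hcB this
  -- second three cycle
  set y : Ω := k₂ • b with hy
  have hyB₂ : y ∈ k₂ • B := Set.smul_mem_smul_set hbB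
  have hcy : c ≠ y := by
    rw [hy, ← hk₂]
    intro h
    exact hba (smul_left_cancel k₂ h).symm
  have hye : y ≠ e := fun h => heB₂ (h ▸ hyB₂)
  obtain ⟨g, hg1, hg2, -, hg4⟩ := exists_three_cycle hsurj hcy hye hce
  have hfix : ∀ w ∈ B, g • w = w := by
    intro w hw
    apply hg4 w
    · intro h; exact hcB (h ▸ hw)
    · intro h
      exact (Set.disjoint_left.mp hB12) hw (h ▸ hyB₂)
    · intro h; exact heB (h ▸ hw)
  have hgH : g ∈ H := by
    rw [← hL]
    refine ⟨hfix a haB, ?_⟩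
    show g • B = B
    ext w
    constructor
    · rintro ⟨v, hv, rfl⟩
      show g • v ∈ B
      rw [hfix v hv]; exact hv
    · intro hw
      exact ⟨w, hw, hfix w hw⟩
  have hgK : g ∈ K := hHK hgH
  have hB₂ : IsBlock K (k₂ • B) := hB.translate k₂
  have := (isBlock_iff_smul_eq_of_mem.mp hB₂) (g := (⟨g, hgK⟩ : K)) hcB₂ (by
    show g • c ∈ k₂ • B
    rw [hg1]; exact hyB₂)
  have hmem : g • y ∈ (⟨g, hgK⟩ : K) • (k₂ • B) := Set.smul_mem_smul_set (a := (⟨g, hgK⟩ : K)) hyB₂
  rw [this, hg2] at hmem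
  exact heB₂ hmem

/-- the core statement, for a group acting on a finite set of odd size through (at least) the
alternating group -/
theorem core
    (hsurj : ∀ σ : Equiv.Perm Ω, σ ∈ alternatingGroup Ω → ∃ g : G, ∀ x, g • x = σ x)
    (hodd : Odd (Fintype.card Ω)) (a : Ω) (M : Subgroup G) (hMstab : stabilizer G a = M)
    (hMco : IsCoatom M) (H : Subgroup G) (hHM : H ≤ M) (hHne : H ≠ M)
    (hHmax : ∀ L : Subgroup G, H ≤ L → L ≤ M → L = H ∨ L = M)
    (K : Subgroup G) (hK : IsCoatom K) (hHK : H ≤ K) : IsCoatom (H.subgroupOf K) := by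
  subst hMstab
  by_cases hKM : K = stabilizer G a
  · subst hKM
    exact (isCoatom_subgroupOf_iff hHM).mpr ⟨hHne, hHmax⟩
  have hinf : K ⊓ stabilizer G a = H := by
    rcases hHmax (K ⊓ stabilizer G a) (le_inf hHK hHM) inf_le_right with h | h
    · exact h
    · exfalso
      have hle : stabilizer G a ≤ K := by rw [← h]; exact inf_le_left
      rcases eq_or_lt_of_le hle with h1 | h1
      · exact hKM h1.symm
      · exact hK.1 (hMco.2 K h1)
  have hHneK : H ≠ K := by
    intro h
    have hle : K ≤ stabilizer G a := h ▸ hHM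
    rcases eq_or_lt_of_le hle with h1 | h1
    · exact hKM h1
    · exact hMco.1 (hK.2 _ h1)
  by_cases horb : MulAction.orbit K a = Set.univ
  · have hKtrans : IsPretransitive K Ω := (isPretransitive_iff_orbit_eq_univ a).mpr horb
    by_cases hprim : IsPreprimitive K Ω
    · have hnt : Nontrivial Ω := by
        obtain ⟨g, -, hg⟩ := SetLike.exists_of_lt (lt_top_iff_ne_top.mpr hMco.1)
        rw [mem_stabilizer_iff] at hg
        exact ⟨⟨g • a, a, hg⟩⟩
      have h1 := IsPreprimitive.isCoatom_stabilizer_of_isPreprimitive K a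
      have h2 : stabilizer K a = H.subgroupOf K := by
        ext ⟨k, hk⟩
        rw [mem_stabilizer_iff, Subgroup.mem_subgroupOf]
        constructor
        · intro h
          rw [← hinf]
          exact ⟨hk, h⟩
        · intro h
          exact hHM h
      rw [← h2]; exact h1
    · exfalso
      obtain ⟨B, haB, hB, hBnt⟩ : ∃ B : Set Ω, a ∈ B ∧ IsBlock K B ∧ ¬ IsTrivialBlock B := by
        by_contra hcon
        push Not at hcon
        exact hprim (IsPreprimitive.of_isTrivialBlock_base a (fun {B} haB hB => hcon B haB hB))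
      exact imprimitive_case hsurj hodd a H hHM hHmax K hHK B haB hB hBnt
  · exact intransitive_case hsurj hodd a H K hK hHK hinf hHneK horb

end core

/-- transport of the hypothesis on primitive groups of degree `n` to the coset action -/
theorem exists_smul_of_alt {G : Type*} [Group G] [Finite G] (n : ℕ)
    (hA : ∀ P : Subgroup (Equiv.Perm (Fin n)), MulAction.IsPreprimitive P (Fin n) → alternatingGroup (Fin n) ≤ P)
    (M : Subgroup G) (hM : IsCoatom M) (hn : M.index = n) [Fintype (G ⧸ M)] [DecidableEq (G ⧸ M)] :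
    ∀ σ : Equiv.Perm (G ⧸ M), σ ∈ alternatingGroup (G ⧸ M) → ∃ g : G, ∀ x : G ⧸ M, g • x = σ x := by
  have hnt : Nontrivial (G ⧸ M) := by
    obtain ⟨g, -, hg⟩ := SetLike.exists_of_lt (lt_top_iff_ne_top.mpr hM.1)
    refine ⟨⟨(g : G ⧸ M), ((1 : G) : G ⧸ M), ?_⟩⟩
    intro h
    rw [QuotientGroup.eq] at h
    apply hg
    have := M.inv_mem h
    simpa using this
  have hprim : IsPreprimitive G (G ⧸ M) := by
    rw [← isCoatom_stabilizer_iff_preprimitive G ((1 : G) : G ⧸ M), stabilizer_quotient]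
    exact hM
  have hcard : Fintype.card (G ⧸ M) = n := by
    rw [← hn, Subgroup.index, Nat.card_eq_fintype_card]
  let e : (G ⧸ M) ≃ Fin n := Fintype.equivFinOfCardEq hcard
  let φ : G →* Equiv.Perm (Fin n) := (e.permCongrHom : Equiv.Perm (G ⧸ M) →* Equiv.Perm (Fin n)).comp
    (MulAction.toPermHom G (G ⧸ M))
  let f : (G ⧸ M) →ₑ[φ.rangeRestrict] Fin n :=
    { toFun := e
      map_smul' := by
        intro g x
        show e (g • x) = (φ g) (e x)
        simp [φ, Equiv.permCongrHom, Equiv.permCongr] }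
  have hP : IsPreprimitive φ.range (Fin n) := IsPreprimitive.of_surjective (f := f) e.surjective
  have hle := hA φ.range hP
  intro σ hσ
  have hσ' : e.permCongr σ ∈ alternatingGroup (Fin n) := by
    rw [Equiv.Perm.mem_alternatingGroup, Equiv.Perm.sign_permCongr]
    exact hσ
  obtain ⟨g, hg⟩ := hle hσ'
  refine ⟨g, fun x => ?_⟩
  have h1 : e.permCongr (MulAction.toPerm g) = e.permCongr σ := hg
  have h2 := e.permCongr.injective h1
  rw [← h2]; rfl

/-- Let n be an odd positive integer such that every primitive permutation group of degree n contains the alternating group (so the symmetric and alternating groups are the only primitive groups of degree n). Let G be a finite group, M a maximal subgroup of G of index n, and H a maximal subgroup of M. Then H is a second maximal subgroup of G: H is maximal in every maximal subgroup K of G containing H. -/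
theorem result {G : Type*} [Group G]
    [Finite G] (n : ℕ) (hodd : Odd n)
    (hA : ∀ P : Subgroup (Equiv.Perm (Fin n)), MulAction.IsPreprimitive P (Fin n) → alternatingGroup (Fin n) ≤ P)
    (M : Subgroup G) (hM : IsCoatom M) (hn : M.index = n) (H : Subgroup G) (hHM : H ≤ M)
    (hmax : IsCoatom (H.subgroupOf M)) (K : Subgroup G) (hK : IsCoatom K) (hHK : H ≤ K) :
    IsCoatom (H.subgroupOf K) := by
  classical
  have : Fintype (G ⧸ M) := Fintype.ofFinite _
  have hsurj := exists_smul_of_alt n hA M hM hn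
  have hcard : Fintype.card (G ⧸ M) = n := by
    rw [← hn, Subgroup.index, Nat.card_eq_fintype_card]
  obtain ⟨hHne, hHmax⟩ := (isCoatom_subgroupOf_iff hHM).mp hmax
  exact core hsurj (hcard ▸ hodd) ((1 : G) : G ⧸ M) M (stabilizer_quotient M) hM H hHM hHne hHmax K hK hHK

end Cfsg.Agent.S5885
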