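import Mathlib
import Cfsg.Statements.S5887
import Cfsg.Agent.Lib.Helper12.FieldSubalg
import Cfsg.Agent.Lib.Helper12.FieldSubalg2

set_option autoImplicit false
set_option linter.style.haveILetI false
open Cfsg

namespace Cfsg.Agent.S5887

open Cfsg.Agent.Helper12.FieldSub Matrix

section core
variable {F : Type*} [Field F] [Fintype F]

theorem mem_normalizer_iff {n : ℕ} (K : Subalgebra F (Matrix (Fin n) (Fin n) F))
    (g : GL (Fin n) F) : g ∈ Cfsg.Geo.subalgebraNormalizer K ↔
      ∀ k : Matrix (Fin n) (Fin n) F, k ∈ K ↔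
        (g : Matrix (Fin n) (Fin n) F) * k * ((g⁻¹ : GL (Fin n) F) : Matrix (Fin n) (Fin n) F) ∈ K :=
  Iff.rfl

theorem mem_specialLinear_iff {n : ℕ} (g : GL (Fin n) F) :
    g ∈ Cfsg.Geo.specialLinear (Fin n) F ↔ (g : Matrix (Fin n) (Fin n) F).det = 1 := by
  unfold Cfsg.Geo.specialLinear
  rw [MonoidHom.mem_ker]
  constructor
  · intro h
    have := congrArg Units.val h
    rwa [Matrix.GeneralLinearGroup.val_det_apply, Units.val_one] at this
  · intro h
    apply Units.ext
    rw [Matrix.GeneralLinearGroup.val_det_apply, Units.val_one]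
    exact h

theorem core (n r : ℕ) (hr1 : 1 < r) (hrp : ¬ r.Prime) (hrn : r ∣ n) (hlt : r < n)
    (K : Subalgebra F (Matrix (Fin n) (Fin n) F)) (hK : Cfsg.Geo.IsFieldSubalgebra r K) :
    ∃ K' : Subalgebra F (Matrix (Fin n) (Fin n) F),
      Cfsg.Geo.subalgebraNormalizer K ≤ Cfsg.Geo.subalgebraNormalizer K' ∧
      (∃ g : GL (Fin n) F, g ∈ Cfsg.Geo.subalgebraNormalizer K' ∧
        g ∈ Cfsg.Geo.specialLinear (Fin n) F ∧ g ∉ Cfsg.Geo.subalgebraNormalizer K) ∧
      (∃ t : GL (Fin n) F, t ∈ Cfsg.Geo.specialLinear (Fin n) F ∧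
        t ∉ Cfsg.Geo.subalgebraNormalizer K') := by
  classical
  obtain ⟨p, hchar⟩ := CharP.exists F
  haveI := hchar
  haveI : Fact p.Prime := ⟨CharP.char_is_prime F p⟩
  have hn0 : 0 < n := by omega
  haveI : Nonempty (Fin n) := ⟨⟨0, hn0⟩⟩
  obtain ⟨q, hq⟩ : ∃ q, q = Fintype.card F := ⟨_, rfl⟩
  have hq2 : 2 ≤ q := by
    rw [hq]
    exact Fintype.one_lt_card
  obtain ⟨s, hsdef⟩ : ∃ s, s = r.minFac := ⟨_, rfl⟩
  have hs : s.Prime := hsdef ▸ Nat.minFac_prime (by omega)
  have hsr : s ∣ r := hsdef ▸ Nat.minFac_dvd r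
  have hslt : s < r := hsdef ▸ (Nat.not_prime_iff_minFac_lt (by omega)).1 hrp
  have hs2 : 2 ≤ s := hs.two_le
  obtain ⟨Q, hQdef⟩ : ∃ Q, Q = q ^ s := ⟨_, rfl⟩
  have hQ : ∃ e : ℕ, 0 < e ∧ Q = Fintype.card F ^ e := ⟨s, by omega, by rw [hQdef, hq]⟩
  obtain ⟨z, hzK, hz⟩ := exists_generator hn0 K hK.comm hK.inv
  rw [hK.finrank_eq, ← hq] at hz
  obtain ⟨K', hK'⟩ := exists_fixed_subalgebra hn0 K hK.comm p Q hQ
  -- arithmetic
  have hqs : q ^ s < q ^ r := Nat.pow_lt_pow_right (by omega) hslt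
  have hq1s : q ^ 1 < q ^ s := Nat.pow_lt_pow_right (by omega) (by omega)
  rw [pow_one] at hq1s
  have hQ1 : 1 ≤ Q := by rw [hQdef]; omega
  obtain ⟨t, ht⟩ := hsr
  have hdvd : q ^ s - 1 ∣ q ^ r - 1 := by
    rw [ht, pow_mul]
    have := Nat.sub_dvd_pow_sub_pow (q ^ s) 1 t
    rwa [one_pow] at this
  obtain ⟨M, hM⟩ := hdvd
  have hMpos : 0 < M := by
    rcases Nat.eq_zero_or_pos M with h | h
    · rw [h, mul_zero] at hM
      omega
    · exact h
  have hzT : z ^ (q ^ r - 1) = 1 := (hz _).2 dvd_rfl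
  have hTpos : 1 ≤ q ^ r - 1 := by omega
  have hzQ : z ^ Q ≠ z := by
    intro h
    have h1 : z ^ (Q - 1) = 1 := by
      have e1 : z ^ (Q - 1) * z ^ (q ^ r - 1) = z ^ (q ^ r - 1) := by
        obtain ⟨T', hT'⟩ : ∃ T', q ^ r - 1 = T' + 1 := ⟨q ^ r - 2, by omega⟩
        rw [hT', pow_succ', ← mul_assoc, ← pow_succ, Nat.sub_add_cancel hQ1, h]
      rwa [hzT, mul_one] at e1
    have h2 := (hz _).1 h1
    have h3 := Nat.le_of_dvd (by rw [hQdef]; omega) h2
    rw [hQdef] at h3
    omega
  -- the non-scalar fixed element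
  obtain ⟨x0, hx0def⟩ : ∃ x0, x0 = z ^ M := ⟨_, rfl⟩
  have hx0K : x0 ∈ K := hx0def ▸ K.pow_mem hzK M
  have hx0Q : x0 ^ Q = x0 := by
    have e1 : M * Q = (q ^ r - 1) + M := by
      rw [hM, hQdef]
      have : q ^ s = (q ^ s - 1) + 1 := by omega
      conv_lhs => rw [this]
      ring
    rw [hx0def, ← pow_mul, e1, pow_add, hzT, one_mul]
  have hx0K' : x0 ∈ K' := (hK' x0).2 ⟨hx0K, hx0Q⟩
  have hx0ns : ∀ c : F, x0 ≠ c • (1 : Matrix (Fin n) (Fin n) F) := by
    intro c hc
    have hc0 : c ≠ 0 := by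
      rintro rfl
      rw [zero_smul] at hc
      have h1 : x0 ^ (q ^ s - 1) = 1 := by
        rw [hx0def, ← pow_mul, mul_comm, ← hM, hzT]
      rw [hc, zero_pow (by omega)] at h1
      exact zero_ne_one h1
    have h1 : x0 ^ (q - 1) = 1 := by
      rw [hc, smul_pow, one_pow, hq, FiniteField.pow_card_sub_one_eq_one c hc0, one_smul]
    rw [hx0def, ← pow_mul] at h1
    have h2 := (hz _).1 h1
    rw [hM, mul_comm] at h2
    have h3 : q ^ s - 1 ∣ q - 1 := Nat.dvd_of_mul_dvd_mul_left hMpos h2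
    have h4 := Nat.le_of_dvd (by omega) h3
    omega
  -- inverses in `K'`
  have hK'inv : ∀ x ∈ K', x ≠ 0 → ∃ y ∈ K', x * y = 1 := by
    intro x hx hx0
    obtain ⟨hxK, hxQ⟩ := (hK' x).1 hx
    obtain ⟨y, hyK, hxy⟩ := hK.inv x hxK hx0
    refine ⟨y, (hK' y).2 ⟨hyK, ?_⟩, hxy⟩
    have hyx : y * x = 1 := mul_eq_one_comm.1 hxy
    have e1 : x * y ^ Q = 1 := by
      have : (x * y) ^ Q = 1 := by rw [hxy, one_pow]
      rwa [(show Commute x y from hK.comm x hxK y hyK).mul_pow, hxQ] at this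
    calc y ^ Q = (y * x) * y ^ Q := by rw [hyx, one_mul]
      _ = y * (x * y ^ Q) := by rw [mul_assoc]
      _ = y := by rw [e1, mul_one]
  refine ⟨K', ?_, ?_, ?_⟩
  · -- the normaliser of `K` normalises `K'`
    intro g hg
    rw [mem_normalizer_iff] at hg ⊢
    intro k
    rw [hK', hK', Units.conj_pow]
    constructor
    · rintro ⟨h1, h2⟩
      exact ⟨(hg k).1 h1, by rw [h2]⟩
    · rintro ⟨h1, h2⟩
      refine ⟨(hg k).2 h1, ?_⟩
      have e1 : ((g⁻¹ : GL (Fin n) F) : Matrix (Fin n) (Fin n) F) *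
          ((g : Matrix (Fin n) (Fin n) F) * k ^ Q *
            ((g⁻¹ : GL (Fin n) F) : Matrix (Fin n) (Fin n) F)) * (g : Matrix (Fin n) (Fin n) F) =
          k ^ Q := by
        simp only [← mul_assoc, Units.inv_mul, one_mul]
        rw [mul_assoc, Units.inv_mul, mul_one]
      have e2 : ((g⁻¹ : GL (Fin n) F) : Matrix (Fin n) (Fin n) F) *
          ((g : Matrix (Fin n) (Fin n) F) * k *
            ((g⁻¹ : GL (Fin n) F) : Matrix (Fin n) (Fin n) F)) * (g : Matrix (Fin n) (Fin n) F) =
          k := by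
        simp only [← mul_assoc, Units.inv_mul, one_mul]
        rw [mul_assoc, Units.inv_mul, mul_one]
      rw [← e1, h2, e2]
  · -- the unipotent element
    obtain ⟨N, w, hw0, hNw, ⟨u, hNu⟩, hNN, hNk⟩ := exists_semilinear_nilpotent hn0 K hK.comm hK.inv
      (by rw [hK.finrank_eq]; exact hlt) p Q hQ
    have h1 : (1 + N) * (1 - N) = 1 := by
      have : (1 + N) * (1 - N) = 1 - N * N := by noncomm_ring
      rw [this, hNN, sub_zero]
    have h2 : (1 - N) * (1 + N) = 1 := by
      have : (1 - N) * (1 + N) = 1 - N * N := by noncomm_ring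
      rw [this, hNN, sub_zero]
    obtain ⟨g, hg, hg'⟩ : ∃ g : GL (Fin n) F, (g : Matrix (Fin n) (Fin n) F) = 1 + N ∧
        ((g⁻¹ : GL (Fin n) F) : Matrix (Fin n) (Fin n) F) = 1 - N :=
      ⟨⟨1 + N, 1 - N, h1, h2⟩, rfl, rfl⟩
    have hcommK' : ∀ l ∈ K', N * l = l * N := by
      intro l hl
      obtain ⟨hlK, hlQ⟩ := (hK' l).1 hl
      rw [hNk l hlK, hlQ]
    have hconj : ∀ l ∈ K', (1 + N) * l * (1 - N) = l := by
      intro l hl
      have : (1 + N) * l = l * (1 + N) := by
        rw [add_mul, one_mul, mul_add, mul_one, hcommK' l hl]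
      rw [this, mul_assoc, h1, mul_one]
    have hconj' : ∀ l ∈ K', (1 - N) * l * (1 + N) = l := by
      intro l hl
      have : (1 - N) * l = l * (1 - N) := by
        rw [sub_mul, one_mul, mul_sub, mul_one, hcommK' l hl]
      rw [this, mul_assoc, h2, mul_one]
    refine ⟨g, ?_, ?_, ?_⟩
    · rw [mem_normalizer_iff]
      intro k
      rw [hg, hg']
      constructor
      · intro hk
        rw [hconj k hk]
        exact hk
      · intro hk
        have e1 := hconj' _ hk
        have e2 : (1 - N) * ((1 + N) * k * (1 - N)) * (1 + N) = k := by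
          have : (1 - N) * ((1 + N) * k * (1 - N)) * (1 + N) =
              ((1 - N) * (1 + N)) * k * ((1 - N) * (1 + N)) := by
            simp only [mul_assoc]
          rw [this, h2, one_mul, mul_one]
        rw [e2] at e1
        rw [e1]
        exact hk
    · rw [mem_specialLinear_iff, hg]
      exact det_one_add_of_sq_zero p hn0 N hNN
    · intro hgK
      rw [mem_normalizer_iff] at hgK
      have e1 := (hgK z).1 hzK
      rw [hg, hg'] at e1
      have e2 : (1 + N) * z * (1 - N) = z + (z ^ Q - z) * N := by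
        have hNz := hNk z hzK
        have hNzN : N * z * N = 0 := by rw [hNz, mul_assoc, hNN, mul_zero]
        have : (1 + N) * z * (1 - N) = z + N * z - z * N - N * z * N := by noncomm_ring
        rw [this, hNzN, sub_zero, hNz, sub_mul]
        abel
      rw [e2] at e1
      have hD : (z ^ Q - z) * N ∈ K := by
        have := K.sub_mem e1 hzK
        rwa [add_sub_cancel_left] at this
      have hdz : z ^ Q - z ∈ K := K.sub_mem (K.pow_mem hzK Q) hzK
      have hdz0 : z ^ Q - z ≠ 0 := sub_ne_zero.2 hzQ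
      have hD0 : (z ^ Q - z) * N = 0 := by
        by_contra hne
        apply hw0
        apply mulVec_eq_zero hK.inv hD hne
        rw [← Matrix.mulVec_mulVec, hNw, Matrix.mulVec_zero]
      have hDu : ((z ^ Q - z) * N) *ᵥ u = (z ^ Q - z) *ᵥ w := by
        rw [← Matrix.mulVec_mulVec, hNu]
      rw [hD0, Matrix.zero_mulVec] at hDu
      exact hw0 (mulVec_eq_zero hK.inv hdz hdz0 hDu.symm)
  · -- a transvection
    by_contra hcon
    push Not at hcon
    have hn3 : 3 ≤ n := by
      have hr4 : 4 ≤ r := by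
        by_contra hlt4
        have : r = 2 ∨ r = 3 := by omega
        rcases this with rfl | rfl
        · exact hrp Nat.prime_two
        · exact hrp Nat.prime_three
      omega
    obtain ⟨c, hc⟩ := scalar_of_transvections_normalize hn3 hK'inv (fun i j hij k hk => by
      have h1 : transvection i j (1 : F) * transvection i j (-1 : F) = 1 := by
        rw [transvection_mul_transvection_same i j hij, add_neg_cancel, transvection_zero]
      have h2 : transvection i j (-1 : F) * transvection i j (1 : F) = 1 := by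
        rw [transvection_mul_transvection_same i j hij, neg_add_cancel, transvection_zero]
      obtain ⟨tu, htu, htu'⟩ : ∃ tu : GL (Fin n) F,
          (tu : Matrix (Fin n) (Fin n) F) = transvection i j 1 ∧
          ((tu⁻¹ : GL (Fin n) F) : Matrix (Fin n) (Fin n) F) = transvection i j (-1) :=
        ⟨⟨transvection i j 1, transvection i j (-1), h1, h2⟩, rfl, rfl⟩
      have h3 := hcon tu (by
        rw [mem_specialLinear_iff, htu]
        exact det_transvection_of_ne i j hij 1)
      rw [mem_normalizer_iff] at h3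
      have h4 := (h3 k).1 hk
      rwa [htu, htu'] at h4) hx0K'
    exact hx0ns c hc

end core

/-- Let F be a finite field, n a positive integer and r a composite number (r > 1, not prime) that divides n with r < n. Let K be a subalgebra of the algebra of n × n matrices over F which is a field of degree r over F (commutative, every non-zero element invertible, of dimension r over F). Then the normaliser N of K in GL_n(F) (a group of type ΓL_{n/r}(F_{q^r})) is not a maximal subgroup of GL_n(F), and N ∩ SL_n(F) is not a maximal subgroup of SL_n(F): both lie properly inside the normaliser of an intermediate subfield of prime degree over F. -/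
theorem result {F : Type*} [Field F]
    [Fintype F] (n r : ℕ) (hr1 : 1 < r) (hrp : ¬ r.Prime) (hrn : r ∣ n) (hlt : r < n)
    (K : Subalgebra F (Matrix (Fin n) (Fin n) F)) (hK : Cfsg.Geo.IsFieldSubalgebra r K) :
    ¬ IsCoatom (Cfsg.Geo.subalgebraNormalizer K) ∧
      ¬ Cfsg.Geo.IsMaximalIn (Cfsg.Geo.specialLinear (Fin n) F)
        (Cfsg.Geo.subalgebraNormalizer K ⊓ Cfsg.Geo.specialLinear (Fin n) F) := by
  obtain ⟨K', hle, ⟨g, hgK', hgS, hgK⟩, ⟨t, htS, htK'⟩⟩ := core n r hr1 hrp hrn hlt K hK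
  constructor
  · intro hco
    have hlt' : Cfsg.Geo.subalgebraNormalizer K < Cfsg.Geo.subalgebraNormalizer K' :=
      lt_of_le_of_ne hle (fun heq => hgK (heq ▸ hgK'))
    have htop := hco.2 _ hlt'
    apply htK'
    rw [htop]
    exact Subgroup.mem_top t
  · rintro ⟨-, hmax⟩
    rcases hmax (Cfsg.Geo.subalgebraNormalizer K' ⊓ Cfsg.Geo.specialLinear (Fin n) F)
      (inf_le_inf_right _ hle) inf_le_right with h | h
    · have h1 : g ∈ Cfsg.Geo.subalgebraNormalizer K' ⊓ Cfsg.Geo.specialLinear (Fin n) F :=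
        ⟨hgK', hgS⟩
      rw [h] at h1
      exact hgK h1.1
    · have h1 : t ∈ Cfsg.Geo.subalgebraNormalizer K' ⊓ Cfsg.Geo.specialLinear (Fin n) F := by
        rw [h]
        exact htS
      exact htK' h1.1

end Cfsg.Agent.S5887
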