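import Mathlib
import Cfsg.Statements.S5894
import Cfsg.Agent.Lib.Helper29.Wreath
import Cfsg.Agent.Lib.Helper29.PointStab
import Cfsg.Agent.Lib.Helper29.RelCoatom

set_option autoImplicit false
open Cfsg
open MulAction
open scoped Pointwise

namespace Cfsg.Agent.S5894

open Cfsg.Agent.Helper29

theorem fin2_eq_iff (i j : Fin 2) : i = j ↔ (i = 0 ↔ j = 0) := by
  revert i j; decide

/-- For every m ≥ 2 the symmetric group on 2m letters has a maximal subgroup M of index 2m together with a maximal subgroup H of M that is not second maximal: some maximal subgroup K of the symmetric group contains H without H being maximal in K. (One may take M the stabiliser of a letter, H ≅ S_m × S_{m−1} inside it, and K ≅ S_m ≀ S₂ the stabiliser of a partition into two m-sets, with H < S_m × S_m < K.) So the prime-index hypothesis in the second-maximality criterion cannot be relaxed to any even index ≥ 4. -/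
theorem result (m : ℕ) (hm : 2 ≤ m) :
    ∃ M H K : Subgroup (Equiv.Perm (Fin (2 * m))), IsCoatom M ∧ M.index = 2 * m ∧ H ≤ M ∧ IsCoatom (H.subgroupOf M) ∧
      IsCoatom K ∧ H ≤ K ∧ ¬ IsCoatom (H.subgroupOf K) := by
  classical
  set E : Fin (2 * m) ≃ Fin 2 × Fin m := finProdFinEquiv.symm with hE
  set f : Fin (2 * m) → Fin 2 := fun x => (E x).1 with hf
  have hEf : ∀ x, (E x).1 = f x := fun x => rfl
  set z : Fin (2 * m) := E.symm (0, ⟨0, by omega⟩) with hz
  set z₁ : Fin (2 * m) := E.symm (0, ⟨1, by omega⟩) with hz₁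
  set w : Fin (2 * m) := E.symm (1, ⟨0, by omega⟩) with hw
  have hfz : f z = 0 := by simp [hf, hz]
  have hfz₁ : f z₁ = 0 := by simp [hf, hz₁]
  have hfw : f w = 1 := by simp [hf, hw]
  have hz₁z : z₁ ≠ z := by
    rw [hz, hz₁]
    intro h
    have := E.symm.injective h
    simp at this
  have hwz : w ≠ z := by
    intro h
    have : f w = f z := by rw [h]
    rw [hfw, hfz] at this
    simp at this
  set s : Set (Fin (2 * m)) := {x | f x = 0} with hs
  set M := stabilizer (Equiv.Perm (Fin (2 * m))) z with hM
  set L := stabilizer (Equiv.Perm (Fin (2 * m))) s with hL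
  set H := M ⊓ L with hH
  set K := partitionStabilizer f with hK
  have hcardΩ : Nat.card (Fin (2 * m)) = 2 * m := by simp
  have hLK : L ≤ K := by
    intro g hg
    rw [hL, mem_stabilizer_set] at hg
    intro x y
    rw [fin2_eq_iff (f x) (f y), fin2_eq_iff (f (g x)) (f (g y))]
    have hx := hg x
    have hy := hg y
    simp only [hs, Set.mem_ofPred_eq, Equiv.Perm.smul_def] at hx hy
    rw [hx, hy]
  refine ⟨M, H, K, ?_, ?_, inf_le_left, ?_, ?_, inf_le_right.trans hLK, ?_⟩
  · -- M is a coatom
    have := Equiv.Perm.isCoatom_stabilizer (α := Fin (2 * m)) (s := {z}) (Set.singleton_nonempty z)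
      ⟨w, by simpa using hwz⟩ (by rw [hcardΩ, Set.ncard_singleton]; omega)
    rwa [stabilizer_singleton] at this
  · rw [hM, index_stabilizer_of_transitive, hcardΩ]
  · -- H maximal in M
    apply isCoatom_stabilizer_inf_subgroupOf z s
    · exact ⟨⟨z₁, hz₁z⟩, hfz₁⟩
    · refine ⟨⟨w, hwz⟩, ?_⟩
      simp only [Set.mem_compl_iff, Set.mem_preimage, hs, Set.mem_ofPred_eq]
      rw [hfw]; simp
    · have hc : Nat.card {x : Fin (2 * m) // x ≠ z} = 2 * m - 1 := by
        rw [Nat.card_eq_fintype_card, Fintype.card_subtype_compl, Fintype.card_subtype_eq]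
        simp
      rw [hc]
      omega
  · exact isCoatom_partitionStabilizer' hm (le_refl 2) f E hEf
  · -- H is not maximal in K
    intro hco
    have hHK : H ≤ K := inf_le_right.trans hLK
    obtain ⟨-, hmax⟩ := (isCoatom_subgroupOf_iff hHK).mp hco
    rcases hmax L inf_le_right hLK with h | h
    · -- swap z z₁ ∈ L but not in M
      have h1 : Equiv.swap z z₁ ∈ L := by
        rw [hL, mem_stabilizer_set]
        intro x
        simp only [hs, Set.mem_ofPred_eq, Equiv.Perm.smul_def]
        by_cases hxz : x = z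
        · rw [hxz, Equiv.swap_apply_left, hfz, hfz₁]
        by_cases hxz₁ : x = z₁
        · rw [hxz₁, Equiv.swap_apply_right, hfz, hfz₁]
        rw [Equiv.swap_apply_of_ne_of_ne hxz hxz₁]
      rw [h] at h1
      have h2 : Equiv.swap z z₁ ∈ M := h1.1
      rw [hM, mem_stabilizer_iff, Equiv.Perm.smul_def, Equiv.swap_apply_left] at h2
      exact hz₁z h2
    · -- the fibre swap is in K but not in L
      have h1 : fibrePerm E (Equiv.swap 0 1) ∈ K := fibrePerm_mem f E hEf _
      rw [← h, hL, mem_stabilizer_set] at h1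
      have h2 := (h1 z).mpr hfz
      simp only [hs, Set.mem_ofPred_eq, Equiv.Perm.smul_def] at h2
      rw [apply_fibrePerm f E hEf, hfz, Equiv.swap_apply_left] at h2
      simp at h2

end Cfsg.Agent.S5894
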