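import Mathlib
import Cfsg.Statements.S5895
import Cfsg.Agent.Lib.Helper29.RelCoatom

set_option autoImplicit false
open Cfsg

namespace Cfsg.Agent.S5895

open SemidirectProduct Cfsg.Agent.Helper29
open scoped LinearAlgebra.Projectivization

section abstract

variable {N C : Type*} [Group N] [Group C] (φ : C →* MulAut N)

theorem isCoatom_range_inr [Nontrivial N]
    (htrans : ∀ n n' : N, n ≠ 1 → n' ≠ 1 → ∃ c : C, φ c n = n') :
    IsCoatom (inr : C →* N ⋊[φ] C).range := by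
  constructor
  · intro h
    obtain ⟨n, hn⟩ := exists_ne (1 : N)
    have hmem : (inl n : N ⋊[φ] C) ∈ (inr : C →* N ⋊[φ] C).range := h ▸ Subgroup.mem_top _
    obtain ⟨c, hc⟩ := hmem
    have h1 := congrArg SemidirectProduct.left hc
    rw [left_inr, left_inl] at h1
    exact hn h1.symm
  · intro L hL
    obtain ⟨g, hgL, hgM⟩ := SetLike.exists_of_lt hL
    have hn : g.left ≠ 1 := by
      intro h
      apply hgM
      refine ⟨g.right, ?_⟩
      ext
      · rw [left_inr, h]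
      · rw [right_inr]
    have hinl : (inl g.left : N ⋊[φ] C) ∈ L := by
      have h1 : (inl g.left : N ⋊[φ] C) = g * (inr g.right)⁻¹ := by
        rw [eq_mul_inv_iff_mul_eq, inl_left_mul_inr_right]
      rw [h1]
      exact L.mul_mem hgL (L.inv_mem (hL.le ⟨g.right, rfl⟩))
    rw [eq_top_iff]
    intro x _
    rw [← inl_left_mul_inr_right x]
    refine L.mul_mem ?_ (hL.le ⟨x.right, rfl⟩)
    by_cases hx : x.left = 1
    · rw [hx, map_one]; exact L.one_mem
    · obtain ⟨c, hc⟩ := htrans g.left x.left hn hx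
      rw [← hc, inl_aut]
      exact L.mul_mem (L.mul_mem (hL.le ⟨c, rfl⟩) hinl) (hL.le ⟨c⁻¹, rfl⟩)

theorem index_range_inr [Finite N] [Finite C] :
    (inr : C →* N ⋊[φ] C).range.index = Nat.card N := by
  have : Finite (N ⋊[φ] C) := Finite.of_equiv _ SemidirectProduct.equivProd.symm
  have h1 := Subgroup.card_mul_index (inr : C →* N ⋊[φ] C).range
  rw [SemidirectProduct.card] at h1
  have h2 : Nat.card (inr : C →* N ⋊[φ] C).range = Nat.card C :=
    Nat.card_congr (MonoidHom.ofInjective inr_injective).symm.toEquiv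
  rw [h2, mul_comm] at h1
  exact Nat.eq_of_mul_eq_mul_right Nat.card_pos h1

theorem isCoatom_map_inr_subgroupOf {H₀ : Subgroup C} (h : IsCoatom H₀) :
    IsCoatom ((H₀.map (inr : C →* N ⋊[φ] C)).subgroupOf (inr : C →* N ⋊[φ] C).range) := by
  rw [isCoatom_subgroupOf_iff (Subgroup.map_le_range _ _)]
  refine ⟨?_, ?_⟩
  · intro heq
    apply h.1
    rw [eq_top_iff]
    intro c _
    have hmem : (inr c : N ⋊[φ] C) ∈ H₀.map (inr : C →* N ⋊[φ] C) := heq ▸ ⟨c, rfl⟩
    obtain ⟨c', hc', hcc⟩ := hmem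
    rwa [← inr_injective hcc]
  · intro L hHL hLM
    have h1 : H₀ ≤ L.comap (inr : C →* N ⋊[φ] C) := by
      intro c hc
      exact hHL ⟨c, hc, rfl⟩
    rcases h.le_iff.mp h1 with h2 | h2
    · right
      apply le_antisymm hLM
      rintro _ ⟨c, rfl⟩
      have hc : c ∈ L.comap (inr : C →* N ⋊[φ] C) := h2 ▸ Subgroup.mem_top c
      exact hc
    · left
      apply le_antisymm _ hHL
      intro x hx
      obtain ⟨c, rfl⟩ := hLM hx
      have hc : c ∈ L.comap (inr : C →* N ⋊[φ] C) := hx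
      rw [h2] at hc
      exact ⟨c, hc, rfl⟩

/-- the intermediate subgroup `W ⋊ H₀` -/
def midSubgroup (H₀ : Subgroup C) (W : Subgroup N) (hW : ∀ c ∈ H₀, ∀ n ∈ W, φ c n ∈ W) :
    Subgroup (N ⋊[φ] C) where
  carrier := {g | g.right ∈ H₀ ∧ g.left ∈ W}
  mul_mem' := by
    rintro a b ⟨ha1, ha2⟩ ⟨hb1, hb2⟩
    exact ⟨H₀.mul_mem ha1 hb1, W.mul_mem ha2 (hW _ ha1 _ hb2)⟩
  one_mem' := ⟨H₀.one_mem, W.one_mem⟩
  inv_mem' := by
    rintro a ⟨ha1, ha2⟩
    exact ⟨H₀.inv_mem ha1, hW _ (H₀.inv_mem ha1) _ (W.inv_mem ha2)⟩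

theorem map_inr_le_comap (H₀ : Subgroup C) :
    H₀.map (inr : C →* N ⋊[φ] C) ≤ H₀.comap (rightHom : N ⋊[φ] C →* C) := by
  rintro _ ⟨c, hc, rfl⟩
  show rightHom (inr c : N ⋊[φ] C) ∈ H₀
  rw [rightHom_inr]; exact hc

theorem not_isCoatom_subgroupOf (H₀ : Subgroup C) (W : Subgroup N)
    (hW : ∀ c ∈ H₀, ∀ n ∈ W, φ c n ∈ W) (hWbot : W ≠ ⊥) (hWtop : W ≠ ⊤) :
    ¬ IsCoatom ((H₀.map (inr : C →* N ⋊[φ] C)).subgroupOf
      (H₀.comap (rightHom : N ⋊[φ] C →* C))) := by
  rw [isCoatom_subgroupOf_iff (map_inr_le_comap φ H₀)]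
  rintro ⟨-, hmax⟩
  have hHJ : H₀.map (inr : C →* N ⋊[φ] C) ≤ midSubgroup φ H₀ W hW := by
    rintro _ ⟨c, hc, rfl⟩
    exact ⟨hc, by rw [left_inr]; exact W.one_mem⟩
  have hJK : midSubgroup φ H₀ W hW ≤ H₀.comap (rightHom : N ⋊[φ] C →* C) := fun g hg => hg.1
  rcases hmax _ hHJ hJK with h | h
  · obtain ⟨⟨n, hnW⟩, hn1⟩ := (Subgroup.ne_bot_iff_exists_ne_one.mp hWbot)
    have hn1' : n ≠ 1 := fun h0 => hn1 (Subtype.ext h0)
    have hmem : (inl n : N ⋊[φ] C) ∈ midSubgroup φ H₀ W hW :=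
      ⟨by rw [right_inl]; exact H₀.one_mem, by rw [left_inl]; exact hnW⟩
    rw [h] at hmem
    obtain ⟨c, -, hc⟩ := hmem
    have h1 := congrArg SemidirectProduct.left hc
    rw [left_inr, left_inl] at h1
    exact hn1' h1.symm
  · obtain ⟨n, hn⟩ : ∃ n : N, n ∉ W := by
      by_contra hcon
      push Not at hcon
      exact hWtop (eq_top_iff.mpr fun x _ => hcon x)
    have hmem : (inl n : N ⋊[φ] C) ∈ H₀.comap (rightHom : N ⋊[φ] C →* C) := by
      show rightHom (inl n : N ⋊[φ] C) ∈ H₀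
      rw [rightHom_inl]; exact H₀.one_mem
    rw [← h] at hmem
    exact hn hmem.2

end abstract

section concrete

theorem exists_linearEquiv_apply_eq {K V : Type*} [Field K] [AddCommGroup V] [Module K V]
    {v w : V} (hv : v ≠ 0) (hw : w ≠ 0) : ∃ c : V ≃ₗ[K] V, c v = w := by
  have : MulAction.IsPretransitive (V ≃ₗ[K] V) (ℙ K V) :=
    MulAction.isPretransitive_of_is_two_pretransitive
  obtain ⟨c, hc⟩ := MulAction.exists_smul_eq (V ≃ₗ[K] V)
    (Projectivization.mk K v hv) (Projectivization.mk K w hw)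
  rw [Projectivization.smul_mk, Projectivization.mk_eq_mk_iff] at hc
  obtain ⟨a, ha⟩ := hc
  refine ⟨(LinearEquiv.smulOfUnit a⁻¹) * c, ?_⟩
  show a⁻¹ • (c v) = w
  have h1 : c v = a • w := ha.symm
  rw [h1, smul_smul, inv_mul_cancel, one_smul]



variable (p d : ℕ) [Fact p.Prime]

/-- the action of the general linear group on the (multiplicative version of the) vectors -/
def phi : ((Fin d → ZMod p) ≃ₗ[ZMod p] (Fin d → ZMod p)) →*
    MulAut (Multiplicative (Fin d → ZMod p)) where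
  toFun c := AddEquiv.toMultiplicative c.toAddEquiv
  map_one' := by ext; rfl
  map_mul' a b := by ext; rfl

variable {d} (hd : 2 ≤ d)

/-- first basis vector -/
def e0 : Fin d → ZMod p := Pi.single (⟨0, by omega⟩ : Fin d) 1

/-- second basis vector -/
def e1 : Fin d → ZMod p := Pi.single (⟨1, by omega⟩ : Fin d) 1

theorem e0_ne_zero : e0 p hd ≠ 0 := by
  intro h
  have := congrFun h ⟨0, by omega⟩
  simp [e0] at this

theorem e1_ne_zero : e1 p hd ≠ 0 := by
  intro h
  have := congrFun h ⟨1, by omega⟩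
  simp [e1] at this

theorem e1_not_smul (a : ZMod p) : a • e0 p hd ≠ e1 p hd := by
  intro h
  have := congrFun h ⟨1, by omega⟩
  simp [e0, e1] at this

/-- the base point of the projective space -/
def x0 : ℙ (ZMod p) (Fin d → ZMod p) := Projectivization.mk (ZMod p) (e0 p hd) (e0_ne_zero p hd)

theorem nontrivial_proj (hd' : 2 ≤ d) : Nontrivial (ℙ (ZMod p) (Fin d → ZMod p)) := by
  have hd := hd'
  refine ⟨⟨x0 p hd, Projectivization.mk (ZMod p) (e1 p hd) (e1_ne_zero p hd), ?_⟩⟩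
  intro h
  rw [x0, Projectivization.mk_eq_mk_iff'] at h
  obtain ⟨a, ha⟩ := h
  have := congrFun ha ⟨0, by omega⟩
  simp [e0, e1] at this

/-- the stabilizer of the base point -/
def H0 : Subgroup ((Fin d → ZMod p) ≃ₗ[ZMod p] (Fin d → ZMod p)) :=
  MulAction.stabilizer _ (x0 p hd)

theorem isCoatom_H0 : IsCoatom (H0 p hd) := by
  have := nontrivial_proj p hd
  have : MulAction.IsPreprimitive ((Fin d → ZMod p) ≃ₗ[ZMod p] (Fin d → ZMod p))
      (ℙ (ZMod p) (Fin d → ZMod p)) :=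
    MulAction.isPreprimitive_of_is_two_pretransitive inferInstance
  exact MulAction.IsPreprimitive.isCoatom_stabilizer_of_isPreprimitive
    (G := (Fin d → ZMod p) ≃ₗ[ZMod p] (Fin d → ZMod p)) (x0 p hd)

theorem mem_H0 (c : (Fin d → ZMod p) ≃ₗ[ZMod p] (Fin d → ZMod p)) :
    c ∈ H0 p hd ↔ ∃ a : ZMod p, a • e0 p hd = c (e0 p hd) := by
  rw [H0, MulAction.mem_stabilizer_iff, x0, Projectivization.smul_mk,
    Projectivization.mk_eq_mk_iff']
  rfl

/-- the line, as a subgroup of the multiplicative version of the space -/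
def W0 : Subgroup (Multiplicative (Fin d → ZMod p)) :=
  AddSubgroup.toSubgroup (Submodule.span (ZMod p) {e0 p hd}).toAddSubgroup

theorem mem_W0 (n : Multiplicative (Fin d → ZMod p)) :
    n ∈ W0 p hd ↔ ∃ a : ZMod p, a • e0 p hd = Multiplicative.toAdd n := by
  rw [W0]
  show Multiplicative.toAdd n ∈ Submodule.span (ZMod p) {e0 p hd} ↔ _
  rw [Submodule.mem_span_singleton]

theorem W0_invariant : ∀ c ∈ H0 p hd, ∀ n ∈ W0 p hd, phi p d c n ∈ W0 p hd := by
  intro c hc n hn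
  rw [mem_H0] at hc
  rw [mem_W0] at hn ⊢
  obtain ⟨a, ha⟩ := hc
  obtain ⟨b, hb⟩ := hn
  refine ⟨b * a, ?_⟩
  show _ = c (Multiplicative.toAdd n)
  rw [← hb, map_smul, ← ha, smul_smul]

theorem W0_ne_bot : W0 p hd ≠ ⊥ := by
  intro h
  have hmem : Multiplicative.ofAdd (e0 p hd) ∈ W0 p hd := by
    rw [mem_W0]; exact ⟨1, one_smul _ _⟩
  rw [h, Subgroup.mem_bot] at hmem
  exact e0_ne_zero p hd hmem

theorem W0_ne_top : W0 p hd ≠ ⊤ := by
  intro h
  have hmem : Multiplicative.ofAdd (e1 p hd) ∈ W0 p hd := h ▸ Subgroup.mem_top _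
  rw [mem_W0] at hmem
  obtain ⟨a, ha⟩ := hmem
  exact e1_not_smul p hd a ha


theorem phi_apply' (p d : ℕ) [Fact p.Prime]
    (c : (Fin d → ZMod p) ≃ₗ[ZMod p] (Fin d → ZMod p)) (v : Fin d → ZMod p) :
    phi p d c (Multiplicative.ofAdd v) = Multiplicative.ofAdd (c v) := rfl

theorem phi_trans (p d : ℕ) [Fact p.Prime] (n n' : Multiplicative (Fin d → ZMod p))
    (hn : n ≠ 1) (hn' : n' ≠ 1) : ∃ c, phi p d c n = n' := by
  have h1 : Multiplicative.toAdd n ≠ 0 := fun h => hn h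
  have h2 : Multiplicative.toAdd n' ≠ 0 := fun h => hn' h
  obtain ⟨c, hc⟩ := exists_linearEquiv_apply_eq (K := ZMod p) h1 h2
  exact ⟨c, congrArg Multiplicative.ofAdd hc⟩

end concrete

/-- For every prime p and every d ≥ 2 there is a finite group G with a maximal subgroup M of index p^d and a maximal subgroup H of M that is not second maximal in G. -/
theorem result (p d : ℕ) (hp : p.Prime)
    (hd : 2 ≤ d) :
    ∃ (G : Type) (_ : Group G) (_ : Finite G) (M H K : Subgroup G), IsCoatom M ∧ M.index = p ^ d ∧ H ≤ M ∧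
      IsCoatom (H.subgroupOf M) ∧ IsCoatom K ∧ H ≤ K ∧ ¬ IsCoatom (H.subgroupOf K) := by
  have : Fact p.Prime := ⟨hp⟩
  have hfinC : Finite ((Fin d → ZMod p) ≃ₗ[ZMod p] (Fin d → ZMod p)) :=
    Finite.of_injective (fun c => (c : (Fin d → ZMod p) → (Fin d → ZMod p)))
      DFunLike.coe_injective
  have hfinN : Finite (Multiplicative (Fin d → ZMod p)) := inferInstance
  have hntN : Nontrivial (Multiplicative (Fin d → ZMod p)) :=
    ⟨⟨Multiplicative.ofAdd (e0 p hd), 1, fun h => e0_ne_zero p hd h⟩⟩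
  refine ⟨Multiplicative (Fin d → ZMod p) ⋊[phi p d]
      ((Fin d → ZMod p) ≃ₗ[ZMod p] (Fin d → ZMod p)), inferInstance,
    Finite.of_equiv _ SemidirectProduct.equivProd.symm, (inr).range, (H0 p hd).map inr,
    (H0 p hd).comap rightHom, ?_, ?_, ?_, ?_, ?_, ?_, ?_⟩
  · exact isCoatom_range_inr _ (phi_trans p d)
  · rw [index_range_inr]
    show Nat.card (Fin d → ZMod p) = p ^ d
    rw [Nat.card_fun, Nat.card_zmod, Nat.card_fin]
  · exact Subgroup.map_le_range _ _
  · exact isCoatom_map_inr_subgroupOf _ (isCoatom_H0 p hd)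
  · exact Subgroup.isCoatom_comap_of_surjective rightHom_surjective (isCoatom_H0 p hd)
  · exact map_inr_le_comap _ _
  · exact not_isCoatom_subgroupOf _ _ (W0 p hd) (W0_invariant p hd) (W0_ne_bot p hd)
      (W0_ne_top p hd)

end Cfsg.Agent.S5895
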