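import Mathlib
import Cfsg.Statements.S5896
import Cfsg.Agent.S0144
import Cfsg.Agent.Lib.Helper16.Coatom

set_option autoImplicit false
set_option linter.unusedSectionVars false
open Cfsg

namespace Cfsg.Agent.S5896

open MonoidAlgebra
open scoped commutatorElement

section Construction

variable (p : ℕ) [hp : Fact p.Prime] (G : Type) [Group G]

/-- the augmentation map -/
noncomputable def eps : MonoidAlgebra (ZMod p) G →+* ZMod p :=
  (MonoidAlgebra.lift (ZMod p) (ZMod p) G (1 : G →* ZMod p)).toRingHom

theorem eps_single (g : G) (c : ZMod p) : eps p G (single g c) = c := by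
  unfold eps
  simp [MonoidAlgebra.lift_single]

/-- the semidirect product of the augmentation ideal by `G` -/
@[ext] structure Aff where
  v : MonoidAlgebra (ZMod p) G
  hv : eps p G v = 0
  g : G

variable {p G}

noncomputable instance : Mul (Aff p G) :=
  ⟨fun a b => ⟨a.v + single a.g 1 * b.v, by rw [map_add, map_mul, a.hv, b.hv]; simp, a.g * b.g⟩⟩

noncomputable instance : One (Aff p G) := ⟨⟨0, map_zero _, 1⟩⟩

noncomputable instance : Inv (Aff p G) :=
  ⟨fun a => ⟨-(single a.g⁻¹ 1 * a.v), by rw [map_neg, map_mul, a.hv]; simp, a.g⁻¹⟩⟩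

@[simp] theorem mul_v (a b : Aff p G) : (a * b).v = a.v + single a.g 1 * b.v := rfl
@[simp] theorem mul_g (a b : Aff p G) : (a * b).g = a.g * b.g := rfl
@[simp] theorem one_v : (1 : Aff p G).v = 0 := rfl
@[simp] theorem one_g : (1 : Aff p G).g = 1 := rfl
@[simp] theorem inv_v (a : Aff p G) : (a⁻¹).v = -(single a.g⁻¹ 1 * a.v) := rfl
@[simp] theorem inv_g (a : Aff p G) : (a⁻¹).g = a.g⁻¹ := rfl

theorem single_mul_single_mul (x y : G) (w : MonoidAlgebra (ZMod p) G) :
    single x (1 : ZMod p) * (single y 1 * w) = single (x * y) 1 * w := by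
  rw [← mul_assoc, MonoidAlgebra.single_mul_single, mul_one]

theorem single_one_mul (w : MonoidAlgebra (ZMod p) G) :
    single (1 : G) (1 : ZMod p) * w = w := by
  rw [← MonoidAlgebra.one_def, one_mul]

noncomputable instance : Group (Aff p G) where
  mul_assoc a b c := by
    ext1
    · simp only [mul_v, mul_g, mul_add, add_assoc, single_mul_single_mul]
    · simp only [mul_g, mul_assoc]
  one_mul a := by
    ext1
    · simp only [mul_v, one_v, one_g, single_one_mul, zero_add]
    · simp only [mul_g, one_g, one_mul]
  mul_one a := by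
    ext1
    · simp only [mul_v, one_v, mul_zero, add_zero]
    · simp only [mul_g, one_g, mul_one]
  inv_mul_cancel a := by
    ext1
    · simp only [mul_v, inv_v, inv_g, one_v, neg_add_cancel]
    · simp only [mul_g, inv_g, inv_mul_cancel, one_g]

end Construction

section Props

variable {p : ℕ} [hp : Fact p.Prime] {G : Type} [Group G]

/-- projection onto `G` -/
def proj : Aff p G →* G where
  toFun a := a.g
  map_one' := rfl
  map_mul' _ _ := rfl

/-- the complement -/
noncomputable def inr : G →* Aff p G where
  toFun g := ⟨0, map_zero _, g⟩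
  map_one' := rfl
  map_mul' x y := by
    ext1
    · simp
    · simp

@[simp] theorem inr_v (g : G) : (inr (p := p) g).v = 0 := rfl
@[simp] theorem inr_g (g : G) : (inr (p := p) g).g = g := rfl
@[simp] theorem proj_apply (a : Aff p G) : proj a = a.g := rfl

theorem proj_surjective : Function.Surjective (proj (p := p) (G := G)) :=
  fun g => ⟨inr g, rfl⟩

/-- the kernel elements -/
def inl (v : MonoidAlgebra (ZMod p) G) (hv : eps p G v = 0) : Aff p G := ⟨v, hv, 1⟩

@[simp] theorem inl_v (v : MonoidAlgebra (ZMod p) G) (hv : eps p G v = 0) : (inl v hv).v = v := rfl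
@[simp] theorem inl_g (v : MonoidAlgebra (ZMod p) G) (hv : eps p G v = 0) : (inl v hv).g = 1 := rfl

theorem inl_mul_inr (a : Aff p G) : inl a.v a.hv * inr a.g = a := by
  ext1
  · simp
  · simp

instance [Finite G] : Finite (Aff p G) := by
  have : Function.Injective (fun a : Aff p G => ((fun x => a.v.coeff x : G → ZMod p), a.g)) := by
    intro a b h
    simp only [Prod.mk.injEq] at h
    ext1
    · apply MonoidAlgebra.ext
      apply Finsupp.ext
      intro x
      exact congrFun h.1 x
    · exact h.2
  exact Finite.of_injective _ this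

/-- the commutator of a kernel element and a complement element -/
theorem comm_inl_inr (u : MonoidAlgebra (ZMod p) G) (hu : eps p G u = 0) (g : G) :
    ⁅inl u hu, inr g⁆ = inl (u - single g 1 * u) (by rw [map_sub, map_mul, hu]; simp) := by
  rw [commutatorElement_def]
  ext1
  · simp [single_one_mul, sub_eq_add_neg]
  · simp

theorem conj_inl (u : MonoidAlgebra (ZMod p) G) (hu : eps p G u = 0) (g : G) :
    inr g * inl u hu * (inr g)⁻¹ = inl (single g 1 * u) (by rw [map_mul, hu]; simp) := by
  ext1
  · simp
  · simp

theorem inl_add (u w : MonoidAlgebra (ZMod p) G) (hu : eps p G u = 0) (hw : eps p G w = 0) :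
    inl u hu * inl w hw = inl (u + w) (by rw [map_add, hu, hw, add_zero]) := by
  ext1
  · simp [single_one_mul]
  · simp

theorem inl_neg (u : MonoidAlgebra (ZMod p) G) (hu : eps p G u = 0) :
    (inl u hu)⁻¹ = inl (-u) (by rw [map_neg, hu, neg_zero]) := by
  ext1
  · simp [single_one_mul]
  · simp

/-- the kernel elements lying in the commutator subgroup, as a submodule -/
def Jmod (p : ℕ) [Fact p.Prime] (G : Type) [Group G] :
    Submodule (ZMod p) (MonoidAlgebra (ZMod p) G) where
  carrier := {v | ∃ hv : eps p G v = 0, inl v hv ∈ commutator (Aff p G)}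
  zero_mem' := ⟨map_zero _, by
    have : inl (0 : MonoidAlgebra (ZMod p) G) (map_zero _) = 1 := rfl
    rw [this]; exact one_mem _⟩
  add_mem' := by
    rintro u w ⟨hu, hu'⟩ ⟨hw, hw'⟩
    refine ⟨by rw [map_add, hu, hw, add_zero], ?_⟩
    rw [← inl_add u w hu hw]
    exact mul_mem hu' hw'
  smul_mem' := by
    rintro c u ⟨hu, hu'⟩
    have hc : c • u = c.val • u := by
      rw [← Nat.cast_smul_eq_nsmul (ZMod p), ZMod.natCast_zmod_val]
    rw [hc]
    have key : ∀ n : ℕ, ∃ h : eps p G (n • u) = 0, inl (n • u) h ∈ commutator (Aff p G) := by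
      intro n
      induction n with
      | zero =>
        refine ⟨by simp, ?_⟩
        have : inl ((0 : ℕ) • u) (by simp) = 1 := by
          ext1 <;> simp
        rw [this]; exact one_mem _
      | succ n ih =>
        obtain ⟨h1, h2⟩ := ih
        refine ⟨by rw [succ_nsmul, map_add, h1, hu, add_zero], ?_⟩
        have : inl ((n + 1) • u) (by rw [succ_nsmul, map_add, h1, hu, add_zero]) =
            inl (n • u) h1 * inl u hu := by
          rw [inl_add]
          ext1
          · exact succ_nsmul u n
          · rfl
        rw [this]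
        exact mul_mem h2 hu'
    exact key c.val

theorem mem_Jmod {v : MonoidAlgebra (ZMod p) G} :
    v ∈ Jmod p G ↔ ∃ hv : eps p G v = 0, inl v hv ∈ commutator (Aff p G) := Iff.rfl

theorem Jmod_smul {v : MonoidAlgebra (ZMod p) G} (hv : v ∈ Jmod p G) (g : G) :
    single g (1 : ZMod p) * v ∈ Jmod p G := by
  obtain ⟨h1, h2⟩ := hv
  refine ⟨by rw [map_mul, h1]; simp, ?_⟩
  rw [← conj_inl v h1 g]
  exact (inferInstance : (commutator (Aff p G)).Normal).conj_mem _ h2 _

theorem Jmod_of_smul {v : MonoidAlgebra (ZMod p) G} (g : G)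
    (hv : single g (1 : ZMod p) * v ∈ Jmod p G) : v ∈ Jmod p G := by
  have := Jmod_smul hv g⁻¹
  rwa [single_mul_single_mul, inv_mul_cancel, single_one_mul] at this

theorem sub_smul_mem_Jmod (u : MonoidAlgebra (ZMod p) G) (hu : eps p G u = 0) (g : G) :
    u - single g 1 * u ∈ Jmod p G := by
  refine ⟨by rw [map_sub, map_mul, hu]; simp, ?_⟩
  rw [← comm_inl_inr u hu g]
  exact Subgroup.commutator_mem_commutator (Subgroup.mem_top _) (Subgroup.mem_top _)

/-- `E x = 1 - x` -/
noncomputable def E (p : ℕ) (x : G) : MonoidAlgebra (ZMod p) G := 1 - single x 1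

theorem eps_E (x : G) : eps p G (E p x) = 0 := by
  unfold E
  rw [map_sub, map_one, eps_single, sub_self]

theorem E_mul (x y : G) : E p (x * y) = E p x + single x 1 * E p y := by
  unfold E
  rw [mul_sub, mul_one, MonoidAlgebra.single_mul_single, mul_one]
  abel

theorem E_one : E p (1 : G) = 0 := by
  unfold E
  rw [← MonoidAlgebra.one_def, sub_self]

/-- the elements `x` with `E x` in `J` form a subgroup -/
def Tsub (p : ℕ) [Fact p.Prime] (G : Type) [Group G] : Subgroup G where
  carrier := {x | E p x ∈ Jmod p G}
  one_mem' := by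
    show E p (1 : G) ∈ Jmod p G
    rw [E_one]; exact zero_mem _
  mul_mem' := by
    intro x y hx hy
    show E p (x * y) ∈ Jmod p G
    rw [E_mul]
    exact add_mem hx (Jmod_smul hy x)
  inv_mem' := by
    intro x hx
    show E p x⁻¹ ∈ Jmod p G
    apply Jmod_of_smul x
    have h1 : E p (x * x⁻¹) = E p x + single x 1 * E p x⁻¹ := E_mul x x⁻¹
    rw [mul_inv_cancel, E_one] at h1
    have h2 : single x (1 : ZMod p) * E p x⁻¹ = - E p x := by
      rw [eq_neg_iff_add_eq_zero, add_comm]; exact h1.symm
    rw [h2]
    exact neg_mem hx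

theorem comm_mem_Tsub (x y : G) : (y * x)⁻¹ * (x * y) ∈ Tsub p G := by
  show E p ((y * x)⁻¹ * (x * y)) ∈ Jmod p G
  apply Jmod_of_smul (y * x)
  have h1 : E p (y * x * ((y * x)⁻¹ * (x * y))) =
      E p (y * x) + single (y * x) 1 * E p ((y * x)⁻¹ * (x * y)) := E_mul _ _
  rw [mul_inv_cancel_left] at h1
  have h2 : single (y * x) (1 : ZMod p) * E p ((y * x)⁻¹ * (x * y)) = E p (x * y) - E p (y * x) := by
    rw [h1]; abel
  rw [h2, E_mul x y, E_mul y x]
  have e1 := sub_smul_mem_Jmod (E p x) (eps_E x) y
  have e2 := sub_smul_mem_Jmod (E p y) (eps_E y) x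
  have : E p x + single x 1 * E p y - (E p y + single y 1 * E p x) =
      (E p x - single y 1 * E p x) - (E p y - single x 1 * E p y) := by abel
  rw [this]
  exact sub_mem e1 e2

theorem Tsub_eq_top (hG : commutator G = ⊤) : Tsub p G = ⊤ := by
  rw [eq_top_iff, ← hG, commutator_eq_closure, Subgroup.closure_le]
  rintro c ⟨a, b, rfl⟩
  have := comm_mem_Tsub (p := p) a⁻¹ b⁻¹
  have h2 : (b⁻¹ * a⁻¹)⁻¹ * (a⁻¹ * b⁻¹) = ⁅a, b⁆ := by
    rw [commutatorElement_def]; group
  rw [h2] at this
  exact this

theorem all_mem_Jmod (hG : commutator G = ⊤) (v : MonoidAlgebra (ZMod p) G) :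
    v - single 1 (eps p G v) ∈ Jmod p G := by
  induction v using MonoidAlgebra.induction_on with
  | of g =>
    have : g ∈ Tsub p G := by rw [Tsub_eq_top hG]; exact Subgroup.mem_top _
    have h1 : E p g ∈ Jmod p G := this
    have h2 : (MonoidAlgebra.of (ZMod p) G g) - single 1 (eps p G (MonoidAlgebra.of (ZMod p) G g)) = - E p g := by
      rw [MonoidAlgebra.of_apply, eps_single]
      unfold E
      rw [MonoidAlgebra.one_def]; abel
    rw [h2]
    exact neg_mem h1
  | add f g hf hg =>
    have : f + g - single 1 (eps p G (f + g)) =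
        (f - single 1 (eps p G f)) + (g - single 1 (eps p G g)) := by
      rw [map_add, MonoidAlgebra.single_add]; abel
    rw [this]
    exact add_mem hf hg
  | smul r f hf =>
    have : r • f - single 1 (eps p G (r • f)) = r • (f - single 1 (eps p G f)) := by
      rw [smul_sub, MonoidAlgebra.smul_single, smul_eq_mul]
      congr 2
      unfold eps
      simp
    rw [this]
    exact Submodule.smul_mem _ r hf

/-- the semidirect product is perfect -/
theorem aff_perfect (hG : commutator G = ⊤) : commutator (Aff p G) = ⊤ := by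
  rw [eq_top_iff]
  intro a _
  rw [← inl_mul_inr a]
  apply mul_mem
  · have := all_mem_Jmod hG a.v
    rw [a.hv] at this
    have h0 : single (1 : G) (0 : ZMod p) = 0 := MonoidAlgebra.single_zero _
    rw [h0, sub_zero] at this
    obtain ⟨_, h⟩ := this
    exact h
  · have h1 : a.g ∈ commutator G := by rw [hG]; exact Subgroup.mem_top _
    have h2 : (commutator G).map (inr (p := p)) ≤ commutator (Aff p G) := by
      rw [commutator_def, Subgroup.map_commutator, commutator_def]
      exact Subgroup.commutator_mono le_top le_top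
    exact h2 (Subgroup.mem_map_of_mem _ h1)

end Props

section Derived

variable {p : ℕ} [hp : Fact p.Prime] {G : Type} [Group G]

theorem solvable_comap (H : Subgroup G) [hH : Group.IsSolvable H] :
    Group.IsSolvable (H.comap (proj (p := p))) := by
  set g := (proj (p := p)).subgroupComap H with hg
  have hcomm : Group.IsSolvable g.ker := by
    apply Group.isSolvable_of_comm
    intro a b
    have ha : (a : H.comap (proj (p := p))).1.g = 1 := by
      have := a.2
      rw [MonoidHom.mem_ker] at this
      exact congrArg Subtype.val this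
    have hb : (b : H.comap (proj (p := p))).1.g = 1 := by
      have := b.2
      rw [MonoidHom.mem_ker] at this
      exact congrArg Subtype.val this
    apply Subtype.ext
    apply Subtype.ext
    ext1
    · simp [ha, hb, single_one_mul, add_comm]
    · simp [ha, hb]
  exact Group.isSolvable_of_ker_le_range g.ker.subtype g (by rw [Subgroup.range_subtype])

/-- powers of `1 - h` do not vanish when the order of `h` is prime to `p` -/
theorem pow_ne_zero_of_coprime [Finite G] (hcop : ¬ p ∣ Nat.card G) {h : G} (hh : h ≠ 1) (k : ℕ) :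
    (1 - single h (1 : ZMod p)) ^ k ≠ (0 : MonoidAlgebra (ZMod p) G) := by
  intro h0
  have hchar : CharP (MonoidAlgebra (ZMod p) G) p := charP_of_injective_algebraMap' (ZMod p) p
  have hk : k ≤ p ^ k := (Nat.lt_pow_self hp.out.one_lt).le
  have h1 : (1 - single h (1 : ZMod p)) ^ (p ^ k) = (0 : MonoidAlgebra (ZMod p) G) := by
    rw [← Nat.sub_add_cancel hk, pow_add, h0, mul_zero]
  rw [sub_pow_char_pow_of_commute p k (Commute.one_left _), one_pow, MonoidAlgebra.single_pow, one_pow] at h1
  have h2 := congrArg (fun x => x.coeff (1 : G)) h1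
  simp only [MonoidAlgebra.coeff_sub, MonoidAlgebra.one_def, MonoidAlgebra.coeff_single,
    Finsupp.coe_sub, Pi.sub_apply, MonoidAlgebra.coeff_zero,
    Finsupp.coe_zero, Pi.zero_apply] at h2
  have hne : h ^ p ^ k ≠ 1 := by
    intro he
    have hd : orderOf h ∣ p ^ k := orderOf_dvd_of_pow_eq_one he
    obtain ⟨j, _, hj⟩ := (Nat.dvd_prime_pow hp.out).1 hd
    have hd2 : orderOf h ∣ Nat.card G := orderOf_dvd_natCard h
    rcases Nat.eq_zero_or_pos j with rfl | hjpos
    · rw [pow_zero, orderOf_eq_one_iff] at hj
      exact hh hj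
    · apply hcop
      rw [hj] at hd2
      exact dvd_trans (dvd_pow_self p hjpos.ne') hd2
  simp [hne] at h2

theorem eps_pow (h : G) (k : ℕ) : eps p G ((1 - single h (1 : ZMod p)) ^ (k + 1)) = 0 := by
  rw [map_pow, map_sub, map_one, eps_single, sub_self, zero_pow (Nat.succ_ne_zero k)]

/-- the derived series of the preimage is longer -/
theorem derived_comap [Finite G] (hcop : ¬ p ∣ Nat.card G) (H : Subgroup G) (d : ℕ)
    (hd : derivedSeries H d ≠ ⊥) : derivedSeries (H.comap (proj (p := p))) (d + 1) ≠ ⊥ := by
  obtain ⟨⟨h, hhd⟩, hh1⟩ : ∃ h : derivedSeries H d, h ≠ 1 := (Subgroup.ne_bot_iff_exists_ne_one).1 hd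
  have hh1' : (h : G) ≠ 1 := by
    intro he
    apply hh1
    apply Subtype.ext
    apply Subtype.ext
    exact he
  set H' := H.comap (proj (p := p)) with hH'
  -- the embedding of H into H'
  let emb : H →* H' :=
    { toFun := fun x => ⟨inr (x : G), by rw [hH', Subgroup.mem_comap]; exact x.2⟩
      map_one' := by apply Subtype.ext; exact map_one _
      map_mul' := by intro x y; apply Subtype.ext; exact map_mul _ _ _ }
  have hemb : ∀ j ≤ d, emb h ∈ derivedSeries H' j := by
    intro j hj
    have h1 : h ∈ derivedSeries H j := derivedSeries_antitone H hj hhd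
    exact map_derivedSeries_le_derivedSeries emb j (Subgroup.mem_map_of_mem _ h1)
  -- the kernel elements
  let w : ℕ → H' := fun j =>
    ⟨inl ((1 - single (h : G) (1 : ZMod p)) ^ (j + 1)) (eps_pow _ j), by
      rw [hH', Subgroup.mem_comap]; exact H.one_mem⟩
  have hw : ∀ j ≤ d + 1, w j ∈ derivedSeries H' j := by
    intro j
    induction j with
    | zero => intro _; exact Subgroup.mem_top _
    | succ j ih =>
      intro hj
      have h1 := ih (by omega)
      have h2 := hemb j (by omega)
      rw [derivedSeries_succ]
      have h3 : ⁅w j, emb h⁆ = w (j + 1) := by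
        apply Subtype.ext
        show ⁅(w j : Aff p G), (emb h : Aff p G)⁆ = (w (j + 1) : Aff p G)
        show ⁅inl _ _, inr (h : G)⁆ = inl _ _
        rw [comm_inl_inr]
        ext1
        · simp only [inl_v]
          rw [pow_succ' _ (j + 1), sub_mul, one_mul]
        · rfl
      rw [← h3]
      exact Subgroup.commutator_mem_commutator h1 h2
  have hne : w (d + 1) ≠ 1 := by
    intro he
    have := congrArg (fun x : H' => (x : Aff p G).v) he
    exact pow_ne_zero_of_coprime hcop hh1' (d + 1 + 1) this
  intro hbot
  have := hw (d + 1) le_rfl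
  rw [hbot, Subgroup.mem_bot] at this
  exact hne this

end Derived

section Base

/-- the base case: `A₅` with a point stabiliser -/
theorem base : ∃ (G : Type) (_ : Group G) (_ : Finite G) (H : Subgroup G), commutator G = ⊤ ∧
    IsCoatom H ∧ Group.IsSolvable H ∧ derivedSeries H 0 ≠ ⊥ := by
  have hprim : MulAction.IsPreprimitive (alternatingGroup (Fin 5)) (Fin 5) :=
    alternatingGroup.isPreprimitive_of_three_le_card (Fin 5) (by simp)
  have hcard : Nat.card (alternatingGroup (Fin 5)) = 60 := by
    rw [nat_card_alternatingGroup]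
    simp [Nat.factorial]
  have hsimple : IsSimpleGroup (alternatingGroup (Fin 5)) := alternatingGroup.isSimpleGroup (by simp)
  have h12 : Nat.card (MulAction.stabilizer (alternatingGroup (Fin 5)) (0 : Fin 5)) = 12 := by
    have h1 := MulAction.index_stabilizer_of_transitive (alternatingGroup (Fin 5)) (0 : Fin 5)
    have h2 := Subgroup.index_mul_card (MulAction.stabilizer (alternatingGroup (Fin 5)) (0 : Fin 5))
    rw [h1, hcard] at h2
    simp only [Nat.card_eq_fintype_card, Fintype.card_fin] at h2
    rw [← Nat.card_eq_fintype_card] at h2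
    omega
  refine ⟨alternatingGroup (Fin 5), inferInstance, inferInstance,
    MulAction.stabilizer (alternatingGroup (Fin 5)) (0 : Fin 5), ?_, ?_, ?_, ?_⟩
  · rcases (inferInstance : (commutator (alternatingGroup (Fin 5))).Normal).eq_bot_or_eq_top with h | h
    · exfalso
      rw [commutator_eq_bot_iff] at h
      let _ : CommGroup (alternatingGroup (Fin 5)) :=
        { (inferInstance : Group (alternatingGroup (Fin 5))) with mul_comm := h.is_comm.comm }
      have := IsSimpleGroup.prime_card (α := alternatingGroup (Fin 5))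
      rw [hcard] at this
      norm_num at this
    · exact h
  · exact MulAction.IsPreprimitive.isCoatom_stabilizer_of_isPreprimitive _ (0 : Fin 5)
  · exact Cfsg.Agent.S0144.result 2 3 2 1 (by norm_num) (by norm_num) (by rw [h12]; norm_num)
  · rw [derivedSeries_zero]
    intro h
    have h5 : Nat.card (MulAction.stabilizer (alternatingGroup (Fin 5)) (0 : Fin 5)) = 1 := by
      have : Subsingleton (MulAction.stabilizer (alternatingGroup (Fin 5)) (0 : Fin 5)) := by
        constructor
        intro a b
        have ha : a ∈ (⊤ : Subgroup _) := Subgroup.mem_top a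
        have hb : b ∈ (⊤ : Subgroup _) := Subgroup.mem_top b
        rw [h, Subgroup.mem_bot] at ha hb
        rw [ha, hb]
      exact Nat.card_unique
    omega

end Base

/-- Finite perfect groups have solvable maximal subgroups of unbounded derived length: for every d there is a finite perfect group G (equal to its commutator subgroup) with a solvable maximal subgroup H whose derived length exceeds d, i.e. the d-th term of the derived series of H is non-trivial. (Take the derived subgroup of a wreath product S ≀ A₅ with S solvable of large derived length, and H the preimage of a maximal subgroup of A₅.) -/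
theorem result (d : ℕ) :
    ∃ (G : Type) (_ : Group G) (_ : Finite G) (H : Subgroup G), commutator G = ⊤ ∧ IsCoatom H ∧ Group.IsSolvable H ∧
      derivedSeries H d ≠ ⊥ := by
  induction d with
  | zero => exact base
  | succ d ih =>
    obtain ⟨G, hG, hfin, H, hperf, hco, hsol, hder⟩ := ih
    obtain ⟨p, hp1, hp2⟩ := Nat.exists_infinite_primes (Nat.card G + 1)
    have hpf : Fact p.Prime := ⟨hp2⟩
    have hcop : ¬ p ∣ Nat.card G := by
      intro h
      have := Nat.le_of_dvd Nat.card_pos h
      omega
    refine ⟨Aff p G, inferInstance, inferInstance, H.comap (proj (p := p)), aff_perfect hperf,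
      Cfsg.Agent.Helper16.isCoatom_comap_of_surjective _ proj_surjective hco,
      solvable_comap H, derived_comap hcop H d hder⟩

end Cfsg.Agent.S5896
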