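import Mathlib
import Cfsg.Statements.S5902

set_option autoImplicit false
open Cfsg

namespace Cfsg.Agent.S5902

/-- complement for a subgroup not contained in `M`, when `X ≤ M` has a complemented lattice -/
theorem compl_of_not_le {G : Type*} [Group G] [Finite G] (X M : Subgroup G)
    (hK : ComplementedLattice (Subgroup X))
    (huniq : ∀ M' : Subgroup G, IsCoatom M' → X ≤ M' → M' = M)
    (H : Subgroup G) (hH : ¬ H ≤ M) : ∃ C : Subgroup G, H ⊔ C = ⊤ ∧ H ⊓ C = ⊥ := by
  -- complement of `(H ⊓ X)` inside `X`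
  obtain ⟨C', hC'⟩ := hK.exists_isCompl ((H ⊓ X).subgroupOf X)
  refine ⟨C'.map X.subtype, ?_, ?_⟩
  · by_contra hne
    obtain ⟨M', hM', hle⟩ := (eq_top_or_exists_le_coatom (H ⊔ C'.map X.subtype)).resolve_left hne
    have hXle : X ≤ H ⊔ C'.map X.subtype := by
      have h1 : ((H ⊓ X).subgroupOf X ⊔ C').map X.subtype = X := by
        rw [hC'.sup_eq_top, ← MonoidHom.range_eq_map, Subgroup.range_subtype]
      rw [Subgroup.map_sup, Subgroup.map_subgroupOf_eq_of_le inf_le_right] at h1
      calc X = (H ⊓ X) ⊔ C'.map X.subtype := h1.symm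
        _ ≤ H ⊔ C'.map X.subtype := sup_le_sup_right inf_le_left _
    have : M' = M := huniq M' hM' (hXle.trans hle)
    exact hH (le_sup_left.trans (this ▸ hle))
  · have hCX : C'.map X.subtype ≤ X := by
      intro x hx
      obtain ⟨y, _, rfl⟩ := hx
      exact y.2
    have h2 : (H ⊓ C'.map X.subtype).subgroupOf X ≤ (H ⊓ X).subgroupOf X ⊓ C' := by
      intro x hx
      rw [Subgroup.mem_subgroupOf] at hx
      refine ⟨?_, ?_⟩
      · show x ∈ (H ⊓ X).subgroupOf X
        rw [Subgroup.mem_subgroupOf]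
        exact ⟨hx.1, x.2⟩
      · obtain ⟨y, hy, hyx⟩ := hx.2
        have : y = x := Subtype.ext hyx
        exact this ▸ hy
    rw [hC'.inf_eq_bot] at h2
    rw [eq_bot_iff]
    intro x hx
    have hxX : x ∈ X := hCX hx.2
    have : (⟨x, hxX⟩ : X) ∈ (H ⊓ C'.map X.subtype).subgroupOf X := by
      rw [Subgroup.mem_subgroupOf]; exact hx
    have h3 := h2 this
    rw [Subgroup.mem_bot] at h3 ⊢
    exact congrArg Subtype.val h3

theorem compl_conj {G : Type*} [Group G] (H C : Subgroup G) (g : G)
    (h1 : H.map (MulAut.conj g).toMonoidHom ⊔ C = ⊤) (h2 : H.map (MulAut.conj g).toMonoidHom ⊓ C = ⊥) :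
    ∃ C' : Subgroup G, H ⊔ C' = ⊤ ∧ H ⊓ C' = ⊥ := by
  refine ⟨C.map (MulAut.conj g⁻¹).toMonoidHom, ?_, ?_⟩
  · have := congrArg (Subgroup.map (MulAut.conj g⁻¹).toMonoidHom) h1
    rw [Subgroup.map_sup, Subgroup.map_map] at this
    have hid : (MulAut.conj g⁻¹).toMonoidHom.comp (MulAut.conj g).toMonoidHom = MonoidHom.id G := by
      ext x; simp [mul_assoc]
    rw [hid, Subgroup.map_id] at this
    rw [this]
    exact Subgroup.map_top_of_surjective _ (MulAut.conj g⁻¹).surjective
  · have := congrArg (Subgroup.map (MulAut.conj g⁻¹).toMonoidHom) h2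
    rw [Subgroup.map_inf _ _ _ (MulAut.conj g⁻¹).injective, Subgroup.map_map] at this
    have hid : (MulAut.conj g⁻¹).toMonoidHom.comp (MulAut.conj g).toMonoidHom = MonoidHom.id G := by
      ext x; simp [mul_assoc]
    rw [hid, Subgroup.map_id] at this
    rw [this]
    simp

theorem compl_of_not_le_core {G : Type*} [Group G] [Finite G] (X M : Subgroup G)
    (hK : ComplementedLattice (Subgroup X))
    (huniq : ∀ M' : Subgroup G, IsCoatom M' → X ≤ M' → M' = M)
    (H : Subgroup G) (hH : ¬ H ≤ M.normalCore) : ∃ C : Subgroup G, H ⊔ C = ⊤ ∧ H ⊓ C = ⊥ := by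
  -- some conjugate of H is not in M
  have : ∃ g : G, ¬ H.map (MulAut.conj g).toMonoidHom ≤ M := by
    by_contra hcon
    push Not at hcon
    apply hH
    intro x hx
    rw [Subgroup.normalCore, Subgroup.mem_mk]
    intro b
    have := hcon b ⟨x, hx, rfl⟩
    simpa using this
  obtain ⟨g, hg⟩ := this
  obtain ⟨C, h1, h2⟩ := compl_of_not_le X M hK huniq _ hg
  exact compl_conj H C g h1 h2

/-- Let G be a finite group, X a subgroup whose own subgroup lattice is complemented, and suppose X lies in exactly one maximal subgroup M of G. Then every subgroup H of G not contained in the normal core of M has a complement in the subgroup lattice of G (some C with H ⊔ C = G and H ⊓ C = 1); in particular the subgroup lattice of G modulo the normal core of M is complemented. -/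
theorem result {G : Type*} [Group G] [Finite G] (X M : Subgroup G)
    (hK : ComplementedLattice (Subgroup X))
    (hM : IsCoatom M) (hXM : X ≤ M) (huniq : ∀ M' : Subgroup G, IsCoatom M' → X ≤ M' → M' = M) :
    (∀ H : Subgroup G, ¬ H ≤ M.normalCore → ∃ C : Subgroup G, H ⊔ C = ⊤ ∧ H ⊓ C = ⊥) ∧
    ComplementedLattice (Subgroup (G ⧸ M.normalCore)) := by
  refine ⟨fun H hH => compl_of_not_le_core X M hK huniq H hH, ⟨fun Hbar => ?_⟩⟩
  set N := M.normalCore with hN
  by_cases hb : Hbar = ⊥
  · exact ⟨⊤, by rw [hb]; exact isCompl_bot_top⟩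
  · set H := Hbar.comap (QuotientGroup.mk' N) with hHdef
    have hNH : N ≤ H := by
      intro x hx
      rw [hHdef, Subgroup.mem_comap]
      have : QuotientGroup.mk' N x = 1 := by
        rw [QuotientGroup.mk'_apply, QuotientGroup.eq_one_iff]; exact hx
      rw [this]; exact one_mem _
    have hHN : ¬ H ≤ N := by
      intro hle
      apply hb
      rw [eq_bot_iff]
      intro y hy
      obtain ⟨x, rfl⟩ := QuotientGroup.mk'_surjective N y
      have : x ∈ H := hy
      have := hle this
      rw [Subgroup.mem_bot, QuotientGroup.mk'_apply, QuotientGroup.eq_one_iff]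
      exact this
    obtain ⟨C, h1, h2⟩ := compl_of_not_le_core X M hK huniq H hHN
    refine ⟨C.map (QuotientGroup.mk' N), ?_⟩
    have hmapH : H.map (QuotientGroup.mk' N) = Hbar :=
      Subgroup.map_comap_eq_self_of_surjective (QuotientGroup.mk'_surjective N) Hbar
    rw [isCompl_iff, disjoint_iff, codisjoint_iff]
    constructor
    · rw [eq_bot_iff]
      intro y hy
      obtain ⟨hy1, c, hc, rfl⟩ := hy
      have hcH : c ∈ H := hy1
      have : c ∈ H ⊓ C := ⟨hcH, hc⟩
      rw [h2, Subgroup.mem_bot] at this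
      rw [this, map_one]; exact one_mem _
    · rw [← hmapH, ← Subgroup.map_sup, h1]
      exact Subgroup.map_top_of_surjective _ (QuotientGroup.mk'_surjective N)

end Cfsg.Agent.S5902
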