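import Mathlib
import Cfsg.Statements.S5903
import Cfsg.Agent.S5901
import Cfsg.Agent.S5902

set_option autoImplicit false
open Cfsg

namespace Cfsg.Agent.S5903

/-- the interval `[N, X]` is complemented when the lattice of `X ⧸ N` is -/
theorem interval_compl {G : Type*} [Group G] (X N : Subgroup G) (hNX : N ≤ X)
    [(N.subgroupOf X).Normal] (hK : ComplementedLattice (Subgroup (X ⧸ N.subgroupOf X)))
    (Y : Subgroup G) (hNY : N ≤ Y) (hYX : Y ≤ X) :
    ∃ C : Subgroup G, N ≤ C ∧ C ≤ X ∧ Y ⊔ C = X ∧ Y ⊓ C = N := by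
  set π := QuotientGroup.mk' (N.subgroupOf X) with hπ
  have hker : π.ker = N.subgroupOf X := QuotientGroup.ker_mk' _
  have hsurj : Function.Surjective π := QuotientGroup.mk'_surjective _
  obtain ⟨Cbar, hC⟩ := hK.exists_isCompl ((Y.subgroupOf X).map π)
  have hY' : ((Y.subgroupOf X).map π).comap π = Y.subgroupOf X := by
    apply Subgroup.comap_map_eq_self
    rw [hker]
    exact Subgroup.subgroupOf_mono X hNY
  set C' := Cbar.comap π with hC'
  have hNC' : N.subgroupOf X ≤ C' := by
    rw [← hker]; exact Subgroup.ker_le_comap π Cbar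
  refine ⟨C'.map X.subtype, ?_, ?_, ?_, ?_⟩
  · have := Subgroup.map_mono (f := X.subtype) hNC'
    rwa [Subgroup.map_subgroupOf_eq_of_le hNX] at this
  · intro x hx
    obtain ⟨y, _, rfl⟩ := hx
    exact y.2
  · have h1 : Y.subgroupOf X ⊔ C' = ⊤ := by
      rw [← hY', hC', Subgroup.comap_sup_eq_of_le_range π (by simp [MonoidHom.range_eq_top.mpr hsurj])
        (by simp [MonoidHom.range_eq_top.mpr hsurj]), hC.sup_eq_top, Subgroup.comap_top]
    have := congrArg (Subgroup.map X.subtype) h1
    rw [Subgroup.map_sup, Subgroup.map_subgroupOf_eq_of_le hYX, ← MonoidHom.range_eq_map,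
      Subgroup.range_subtype] at this
    exact this
  · have h1 : Y.subgroupOf X ⊓ C' = N.subgroupOf X := by
      rw [← hY', hC', ← Subgroup.comap_inf, hC.inf_eq_bot]
      exact hker
    have := congrArg (Subgroup.map X.subtype) h1
    rw [Subgroup.map_inf _ _ _ X.subtype_injective, Subgroup.map_subgroupOf_eq_of_le hYX,
      Subgroup.map_subgroupOf_eq_of_le hNX] at this
    exact this

theorem center_eq_bot {G : Type*} [Group G] [IsSimpleGroup G] (M N : Subgroup G)
    (hM : IsCoatom M) (hNM : N ≤ M) (hN : N ≠ ⊥) : Subgroup.center G = ⊥ := by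
  rcases (inferInstance : (Subgroup.center G).Normal).eq_bot_or_eq_top with h | h
  · exact h
  · exfalso
    have hnormal : M.Normal := by
      refine ⟨fun m hm g => ?_⟩
      have : g ∈ Subgroup.center G := h ▸ Subgroup.mem_top g
      rw [Subgroup.mem_center_iff] at this
      have h2 : g * m * g⁻¹ = m := by rw [← this m, mul_assoc, mul_inv_cancel, mul_one]
      rw [h2]; exact hm
    rcases hnormal.eq_bot_or_eq_top with h1 | h1
    · apply hN
      rw [eq_bot_iff]; exact h1 ▸ hNM
    · exact hM.1 h1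

/-- key group theoretic step -/
theorem exists_conj {G : Type*} [Group G] [Finite G] [IsSimpleGroup G] (M N : Subgroup G)
    (hM : IsCoatom M) (hNM : N ≤ M) (hN : (Nat.card N).Prime) (hcen : ∀ n ∈ N, ∀ m ∈ M, m * n = n * m)
    (H : Subgroup G) (hHbot : H ≠ ⊥) (hHtop : H ≠ ⊤) :
    ∃ g : G, ¬ H.map (MulAut.conj g).toMonoidHom ≤ M ∧ H.map (MulAut.conj g).toMonoidHom ⊓ N = ⊥ := by
  have hNbot : N ≠ ⊥ := by
    intro h
    rw [h] at hN
    simp at hN
    exact Nat.not_prime_one hN
  have hcenter := center_eq_bot M N hM hNM hNbot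
  by_contra hcon
  push Not at hcon
  -- for every g: H centralizes N^g or N^g ≤ H
  have key : ∀ g : G, (∀ h ∈ H, ∀ n ∈ N, h * (g * n * g⁻¹) = (g * n * g⁻¹) * h) ∨
      (∀ n ∈ N, g * n * g⁻¹ ∈ H) := by
    intro g
    by_cases hle : H.map (MulAut.conj g⁻¹).toMonoidHom ≤ M
    · left
      intro h hh n hn
      have hm : g⁻¹ * h * g ∈ M := by
        have := hle ⟨h, hh, rfl⟩
        simpa using this
      have := hcen n hn _ hm
      calc h * (g * n * g⁻¹) = g * ((g⁻¹ * h * g) * n) * g⁻¹ := by group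
        _ = g * (n * (g⁻¹ * h * g)) * g⁻¹ := by rw [this]
        _ = (g * n * g⁻¹) * h := by group
    · right
      have hne := hcon g⁻¹ hle
      -- the intersection with N is all of N
      have hsub : (H.map (MulAut.conj g⁻¹).toMonoidHom ⊓ N).subgroupOf N = ⊤ := by
        have : Fact (Nat.card N).Prime := ⟨hN⟩
        rcases Subgroup.eq_bot_or_eq_top_of_prime_card
          ((H.map (MulAut.conj g⁻¹).toMonoidHom ⊓ N).subgroupOf N) with h | h
        · exfalso
          apply hne
          rw [Subgroup.subgroupOf_eq_bot] at h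
          rw [disjoint_iff, inf_assoc, inf_idem] at h
          exact h
        · exact h
      intro n hn
      have : (⟨n, hn⟩ : N) ∈ (H.map (MulAut.conj g⁻¹).toMonoidHom ⊓ N).subgroupOf N := by
        rw [hsub]; exact Subgroup.mem_top _
      rw [Subgroup.mem_subgroupOf] at this
      obtain ⟨h, hh, hhn⟩ := this.1
      simp at hhn
      have : g * n * g⁻¹ = h := by rw [← hhn]; group
      rw [this]; exact hh
  -- A = closure of conjugates of N inside H
  set S : Set G := {x | ∃ g n, n ∈ N ∧ (∀ n' ∈ N, g * n' * g⁻¹ ∈ H) ∧ x = g * n * g⁻¹} with hS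
  set A := Subgroup.closure S with hA
  have hAH : A ≤ H := by
    rw [hA, Subgroup.closure_le]
    rintro x ⟨g, n, hn, hP, rfl⟩
    exact hP n hn
  -- normal closure of N is everything
  have hncl : Subgroup.normalClosure (N : Set G) = ⊤ := by
    rcases (inferInstance : (Subgroup.normalClosure (N : Set G)).Normal).eq_bot_or_eq_top with h | h
    · exfalso
      apply hNbot
      rw [eq_bot_iff, ← h]
      exact Subgroup.le_normalClosure
    · exact h
  have hconj_le : ∀ (K : Subgroup G), (∀ g : G, ∀ n ∈ N, g * n * g⁻¹ ∈ K) → K = ⊤ := by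
    intro K hK
    rw [eq_top_iff, ← hncl, Subgroup.normalClosure, Subgroup.closure_le]
    intro x hx
    rw [Group.mem_conjugatesOfSet_iff] at hx
    obtain ⟨n, hn, hc⟩ := hx
    rw [isConj_iff] at hc
    obtain ⟨c, rfl⟩ := hc
    exact hK c n hn
  have hnorm : Subgroup.normalizer (A : Set G) = ⊤ := by
    apply hconj_le
    intro g n hn
    rcases key g with hc | hP
    · -- g n g⁻¹ centralizes H hence A
      rw [Subgroup.mem_normalizer_iff]
      intro a
      have hcomm : ∀ a ∈ A, (g * n * g⁻¹) * a * (g * n * g⁻¹)⁻¹ = a := by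
        intro a ha
        rw [← hc a (hAH ha) n hn, mul_assoc, mul_inv_cancel, mul_one]
      constructor
      · intro ha
        show _ ∈ A
        rw [hcomm a ha]; exact ha
      · intro ha
        have ha' : (g * n * g⁻¹) * a * (g * n * g⁻¹)⁻¹ ∈ A := ha
        have := hcomm _ ha'
        have h3 : a = (g * n * g⁻¹)⁻¹ * ((g * n * g⁻¹) * a * (g * n * g⁻¹)⁻¹) * (g * n * g⁻¹) := by group
        have h4 : (g * n * g⁻¹)⁻¹ * ((g * n * g⁻¹) * a * (g * n * g⁻¹)⁻¹) * (g * n * g⁻¹)
            = (g * n * g⁻¹) * a * (g * n * g⁻¹)⁻¹ := by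
          have h5 := hc _ (hAH ha') n hn
          calc (g * n * g⁻¹)⁻¹ * ((g * n * g⁻¹) * a * (g * n * g⁻¹)⁻¹) * (g * n * g⁻¹)
              = (g * n * g⁻¹)⁻¹ * (((g * n * g⁻¹) * a * (g * n * g⁻¹)⁻¹) * (g * n * g⁻¹)) := by group
            _ = (g * n * g⁻¹)⁻¹ * ((g * n * g⁻¹) * ((g * n * g⁻¹) * a * (g * n * g⁻¹)⁻¹)) := by rw [h5]
            _ = (g * n * g⁻¹) * a * (g * n * g⁻¹)⁻¹ := by group
        show a ∈ A
        rw [h3, h4]; exact ha'
    · exact Subgroup.le_normalizer (Subgroup.subset_closure ⟨g, n, hn, hP, rfl⟩)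
  have hAnormal : A.Normal := Subgroup.normalizer_eq_top_iff.mp hnorm
  rcases hAnormal.eq_bot_or_eq_top with hAb | hAt
  · -- then no g satisfies P (else N trivial), so H central
    have hnoP : ∀ g : G, ¬ (∀ n ∈ N, g * n * g⁻¹ ∈ H) := by
      intro g hP
      apply hNbot
      rw [eq_bot_iff]
      intro n hn
      have : g * n * g⁻¹ ∈ A := Subgroup.subset_closure ⟨g, n, hn, hP, rfl⟩
      rw [hAb, Subgroup.mem_bot] at this
      rw [Subgroup.mem_bot]
      have h2 : n = g⁻¹ * (g * n * g⁻¹) * g := by group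
      rw [h2, this]; group
    apply hHbot
    rw [eq_bot_iff, ← hcenter]
    intro h hh
    have : Subgroup.centralizer ({h} : Set G) = ⊤ := by
      apply hconj_le
      intro g n hn
      rw [Subgroup.mem_centralizer_iff]
      intro y hy
      rw [Set.mem_singleton_iff] at hy
      subst hy
      exact ((key g).resolve_right (hnoP g)) y hh n hn
    rw [Subgroup.mem_center_iff]
    intro y
    have hy : y ∈ Subgroup.centralizer ({h} : Set G) := this ▸ Subgroup.mem_top y
    rw [Subgroup.mem_centralizer_iff] at hy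
    exact (hy h rfl).symm
  · apply hHtop
    rw [eq_top_iff, ← hAt]; exact hAH

/-- Let G be a finite simple group, X a subgroup lying in exactly one maximal subgroup M of G, and N a subgroup of prime order with N ≤ X that is central in M. If the subgroup lattice of X/N is complemented, then the subgroup lattice of G is complemented. -/
theorem result {G : Type*} [Group G] [Finite G] [IsSimpleGroup G] (X M N : Subgroup G)
    (hM : IsCoatom M) (hXM : X ≤ M) (huniq : ∀ M' : Subgroup G, IsCoatom M' → X ≤ M' → M' = M)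
    (hNX : N ≤ X) (hN : (Nat.card N).Prime) (hcen : ∀ n ∈ N, ∀ m ∈ M, m * n = n * m)
    [(N.subgroupOf X).Normal] (hK : ComplementedLattice (Subgroup (X ⧸ N.subgroupOf X))) :
    ComplementedLattice (Subgroup G) := by
  refine ⟨fun H => ?_⟩
  by_cases hb : H = ⊥
  · exact ⟨⊤, by rw [hb]; exact isCompl_bot_top⟩
  by_cases ht : H = ⊤
  · exact ⟨⊥, by rw [ht]; exact isCompl_top_bot⟩
  obtain ⟨g, hg1, hg2⟩ := exists_conj M N hM (hNX.trans hXM) hN hcen H hb ht
  have hXtop : X ≠ ⊤ := by
    intro h
    apply hM.1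
    rw [eq_top_iff, ← h]; exact hXM
  obtain ⟨C, h1, h2⟩ := Cfsg.Agent.S5901.result N X M hNX hXtop
    (fun Y hNY hYX => interval_compl X N hNX hK Y hNY hYX) hM hXM huniq _ hg1 hg2
  obtain ⟨C', h3, h4⟩ := Cfsg.Agent.S5902.compl_conj H C g h1 h2
  exact ⟨C', by rw [isCompl_iff, disjoint_iff, codisjoint_iff]; exact ⟨h4, h3⟩⟩

end Cfsg.Agent.S5903
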