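import Mathlib
import Cfsg.Statements.S5904

set_option autoImplicit false
open Cfsg
open scoped Pointwise

namespace Cfsg.Agent.S5904

/-- the stabilizer of the partition `{O, Oᶜ}` -/
def partStab {Ω : Type*} (O : Set Ω) : Subgroup (Equiv.Perm Ω) where
  carrier := {g | g • O = O ∨ g • O = Oᶜ}
  mul_mem' := by
    intro g h hg hh
    simp only [Set.mem_ofPred_eq] at *
    rw [mul_smul]
    rcases hh with hh | hh
    · rw [hh]; exact hg
    · rw [hh, Set.smul_set_compl]
      rcases hg with hg | hg
      · right; rw [hg]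
      · left; rw [hg, compl_compl]
  one_mem' := by simp
  inv_mem' := by
    intro g hg
    simp only [Set.mem_ofPred_eq] at *
    rcases hg with hg | hg
    · left
      rw [inv_smul_eq_iff, hg]
    · right
      rw [inv_smul_eq_iff, Set.smul_set_compl, hg, compl_compl]

/-- Let Ω be a finite set with more than two elements and O ⊆ Ω a subset with exactly as many elements as its complement. Then the setwise stabilizer of O in the symmetric group on Ω is not a maximal subgroup (it is properly contained in the stabilizer of the partition {O, Ω ∖ O}, which is proper). -/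
theorem result {Ω : Type*} [Fintype Ω] [DecidableEq Ω] (hΩ : 2 < Fintype.card Ω)
    (O : Set Ω) (hO : Nat.card O = Nat.card ↥Oᶜ) :
    ¬ IsCoatom (MulAction.stabilizer (Equiv.Perm Ω) O) := by
  classical
  intro hco
  -- cardinalities
  have hsum : Nat.card O + Nat.card ↥Oᶜ = Fintype.card Ω := by
    rw [Nat.card_coe_set_eq, Nat.card_coe_set_eq, Set.ncard_add_ncard_compl, Nat.card_eq_fintype_card]
  have hO2 : 2 ≤ Nat.card O := by omega
  have hO2' : 2 ≤ O.ncard := by rwa [Nat.card_coe_set_eq] at hO2
  obtain ⟨a, a', ha, ha', haa'⟩ : ∃ a a', a ∈ O ∧ a' ∈ O ∧ a ≠ a' := by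
    have : 1 < O.ncard := by omega
    rw [Set.one_lt_ncard_iff] at this
    obtain ⟨a, b, ha, hb, hab⟩ := this
    exact ⟨a, b, ha, hb, hab⟩
  have hOc : 2 ≤ Oᶜ.ncard := by rw [← Nat.card_coe_set_eq]; omega
  obtain ⟨b, hb⟩ : ∃ b, b ∈ Oᶜ := by
    have : Oᶜ.Nonempty := by
      rw [← Set.ncard_pos]; omega
    exact this
  -- an equivalence exchanging O and its complement
  obtain ⟨e⟩ : Nonempty (O ≃ ↥Oᶜ) := by
    have : Fintype O := Fintype.ofFinite _
    have : Fintype ↥Oᶜ := Fintype.ofFinite _
    rw [Nat.card_eq_fintype_card, Nat.card_eq_fintype_card] at hO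
    exact Fintype.card_eq.mp hO
  have hlt : MulAction.stabilizer (Equiv.Perm Ω) O < partStab O := by
    refine lt_of_le_of_ne ?_ ?_
    · intro g hg
      left
      exact hg
    · intro heq
      -- σ exchanges O and Oᶜ
      set σ : Equiv.Perm Ω := Equiv.extendSubtype (p := (· ∈ O)) (q := (· ∈ Oᶜ)) e with hσ
      have hσO : σ • O = Oᶜ := by
        ext x
        rw [Set.mem_smul_set_iff_inv_smul_mem]
        constructor
        · intro hx
          have := Equiv.extendSubtype_mem (p := (· ∈ O)) (q := (· ∈ Oᶜ)) e (σ⁻¹ • x) hx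
          rw [← hσ] at this
          simpa using this
        · intro hx
          by_contra hnx
          have := Equiv.extendSubtype_not_mem (p := (· ∈ O)) (q := (· ∈ Oᶜ)) e (σ⁻¹ • x) hnx
          rw [← hσ] at this
          simp at this
          exact hx this
      have : σ ∈ partStab O := Or.inr hσO
      rw [← heq, MulAction.mem_stabilizer_iff, hσO] at this
      have hbO : b ∈ O := this ▸ hb
      exact hb hbO
  have htop := hco.2 _ hlt
  -- the swap of a and b is not in partStab
  have hsw : Equiv.swap a b ∈ partStab O := htop ▸ Subgroup.mem_top _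
  have hbmem : b ∈ Equiv.swap a b • O := by
    rw [Set.mem_smul_set]
    exact ⟨a, ha, by simp⟩
  have ha'mem : a' ∈ Equiv.swap a b • O := by
    rw [Set.mem_smul_set]
    refine ⟨a', ha', ?_⟩
    have hne : a' ≠ b := fun h => hb (h ▸ ha')
    simp [Equiv.swap_apply_of_ne_of_ne haa'.symm hne]
  rcases hsw with h | h
  · rw [h] at hbmem
    exact hb hbmem
  · rw [h] at ha'mem
    exact ha'mem ha'

end Cfsg.Agent.S5904
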