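import Mathlib
import Cfsg.Statements.S5908
import Cfsg.Agent.S0827

set_option autoImplicit false
open Cfsg

namespace Cfsg.Agent.S5908

theorem quat_aux : ∀ g : QuaternionGroup 2, g ^ 2 = 1 → (g = 1 ∨ g = QuaternionGroup.a 2) := by
  decide

theorem quat_aux2 : ∀ g : QuaternionGroup 2, g ^ 2 = 1 ∨ g ^ 2 = QuaternionGroup.a 2 := by
  decide

/-- The subgroup lattice of PSU₃(2) (the solvable group of order 72, realised over the field with 4 elements) is not complemented: some subgroup H has no subgroup X with H ⊔ X = ⊤ and H ⊓ X = ⊥. -/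
theorem result {F : Type*} [Field F] [Fintype F] (hF : Fintype.card F = 4) :
    ¬ ComplementedLattice (Subgroup (Cfsg.PSU 3 F 2)) := by
  obtain ⟨N, hNn, hcardN, -, ⟨e⟩⟩ := Cfsg.Agent.S0827.result hF
  intro hcl
  -- the homomorphism onto the quaternion group
  let ψ : Cfsg.PSU 3 F 2 →* QuaternionGroup 2 := e.toMonoidHom.comp (QuotientGroup.mk' N)
  have hψs : Function.Surjective ψ := e.surjective.comp (QuotientGroup.mk'_surjective N)
  -- the preimage of the centre `{1, a 2}`
  let Z : Subgroup (QuaternionGroup 2) := Subgroup.zpowers (QuaternionGroup.a 2)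
  have hZ : ∀ g : QuaternionGroup 2, g ∈ Z ↔ g = 1 ∨ g = QuaternionGroup.a 2 := by
    intro g
    constructor
    · intro hg
      obtain ⟨k, hk⟩ := Subgroup.mem_zpowers_iff.1 hg
      have h2 : (QuaternionGroup.a 2 : QuaternionGroup 2) ^ 2 = 1 := by decide
      rcases Int.even_or_odd' k with ⟨m, hm | hm⟩
      · left
        rw [← hk, hm, zpow_mul, zpow_two, ← pow_two, h2, one_zpow]
      · right
        rw [← hk, hm, zpow_add, zpow_mul, zpow_two, ← pow_two, h2, one_zpow, one_mul, zpow_one]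
    · rintro (h | h)
      · rw [h]; exact Subgroup.one_mem _
      · rw [h]; exact Subgroup.mem_zpowers _
  let H : Subgroup (Cfsg.PSU 3 F 2) := Z.comap ψ
  obtain ⟨X, hX⟩ := hcl.exists_isCompl H
  have hdisj : H ⊓ X = ⊥ := hX.disjoint.eq_bot
  have hsup : H ⊔ X = ⊤ := hX.codisjoint.eq_top
  -- every element of `X` squares into `H`, hence is trivial
  have hXbot : X = ⊥ := by
    rw [Subgroup.eq_bot_iff_forall]
    intro x hx
    have h1 : x ^ 2 ∈ H := by
      show ψ (x ^ 2) ∈ Z
      rw [map_pow, hZ]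
      exact quat_aux2 (ψ x)
    have h2 : x ^ 2 ∈ H ⊓ X := ⟨h1, X.pow_mem hx 2⟩
    rw [hdisj, Subgroup.mem_bot] at h2
    have h3 : (ψ x) ^ 2 = 1 := by rw [← map_pow, h2, map_one]
    have h4 : x ∈ H := by
      show ψ x ∈ Z
      rw [hZ]
      exact quat_aux (ψ x) h3
    have h5 : x ∈ H ⊓ X := ⟨h4, hx⟩
    rw [hdisj, Subgroup.mem_bot] at h5
    exact h5
  rw [hXbot, sup_bot_eq] at hsup
  -- but `H` is proper
  obtain ⟨g, hg⟩ := hψs (QuaternionGroup.xa 0)
  have h6 : g ∈ H := by rw [hsup]; exact Subgroup.mem_top _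
  have h7 : ψ g ∈ Z := h6
  rw [hg, hZ] at h7
  revert h7
  decide

end Cfsg.Agent.S5908
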