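import Mathlib
import Cfsg.Statements.S5910
import Cfsg.Agent.Lib.Helper29.Wreath
import Cfsg.Agent.Lib.Helper29.RelCoatom

set_option autoImplicit false
open Cfsg

namespace Cfsg.Agent.S5910

open Equiv

abbrev B := ZMod 2 × ZMod 2
abbrev V := B × ZMod 2

def s' (c : ZMod 2) : ℤˣ := if c = 0 then 1 else -1

set_option maxRecDepth 100000 in
theorem t1 : ∀ φ : B → ZMod 2, (∏ b, s' (φ b)) = 1 → ∀ x y z, φ (x+y+z) = φ x + φ y + φ z := by
  decide

set_option maxRecDepth 100000 in
theorem t2 : ∀ k : B → B, Function.Injective k → ∀ x y z, k (x+y+z) = k x + k y + k z := by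
  decide

theorem t3 : ∀ c : ZMod 2, Equiv.Perm.sign (Equiv.addRight c) = s' c := by
  decide

theorem t4 : ∀ a c : ZMod 2, c ≠ a → c = 1 + a := by decide

theorem t5 : ∀ t : ZMod 2, t = 0 ∨ t = 1 := by decide

/-- affine permutations of `V` -/
def affV : Subgroup (Perm V) where
  carrier := {h | ∀ x y z : V, h (x + y + z) = h x + h y + h z}
  mul_mem' := by
    intro g h hg hh x y z
    simp only [Perm.mul_apply]
    rw [hh, hg]
  one_mem' := by
    intro x y z
    rfl
  inv_mem' := by
    intro g hg x y z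
    apply g.injective
    rw [hg]
    simp only [Perm.inv_def, Equiv.apply_symm_apply]

theorem mem_affV (h : Perm V) : h ∈ affV ↔ ∀ x y z : V, h (x + y + z) = h x + h y + h z := Iff.rfl

theorem affine_of_fibre_even (h : Perm V) (hfib : ∀ x y : V, x.1 = y.1 ↔ (h x).1 = (h y).1)
    (hsign : Perm.sign h = 1) : h ∈ affV := by
  classical
  set hbar : B → B := fun b => (h (b, 0)).1 with hbar_def
  set φ : B → ZMod 2 := fun b => (h (b, 0)).2 with φ_def
  have hfst : ∀ b t, (h (b, t)).1 = hbar b := by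
    intro b t
    exact (hfib (b, t) (b, 0)).mp rfl
  have hbar_inj : Function.Injective hbar := by
    intro b b' hbb
    have := (hfib (b, 0) (b', 0)).mpr hbb
    exact this
  have hbar_bij : Function.Bijective hbar := Finite.injective_iff_bijective.mp hbar_inj
  set hbarE : Perm B := Equiv.ofBijective hbar hbar_bij with hbarE_def
  have hform : ∀ b t, h (b, t) = (hbar b, t + φ b) := by
    intro b t
    rcases t5 t with rfl | rfl
    · apply Prod.ext
      · exact hfst b 0
      · simp [φ_def]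
    · apply Prod.ext
      · exact hfst b 1
      · show (h (b, 1)).2 = 1 + φ b
        apply t4
        intro heq
        have h1 : h (b, 1) = h (b, 0) := by
          apply Prod.ext
          · rw [hfst, hfst]
          · exact heq
        have h2 := h.injective h1
        have h3 := congrArg Prod.snd h2
        exact one_ne_zero h3
  -- decomposition
  set L : Perm V := Equiv.prodCongrLeft (fun _ : ZMod 2 => hbarE) with hL
  set R : Perm V := Equiv.prodCongrRight (fun b' : B => Equiv.addRight (φ (hbarE.symm b'))) with hR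
  have hdecomp : h = R * L := by
    ext1 x
    obtain ⟨b, t⟩ := x
    rw [hform, Perm.mul_apply]
    show _ = R (hbarE b, t)
    show _ = (hbarE b, t + φ (hbarE.symm (hbarE b)))
    rw [Equiv.symm_apply_apply]
    rfl
  have hsL : Perm.sign L = 1 := by
    rw [hL, Perm.sign_prodCongrLeft]
    rw [Finset.prod_const]
    have : (Finset.univ : Finset (ZMod 2)).card = 2 := by decide
    rw [this, sq, Int.units_mul_self]
  have hsR : Perm.sign R = ∏ b, s' (φ b) := by
    rw [hR, Perm.sign_prodCongrRight]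
    rw [← Equiv.prod_comp hbarE.symm (fun b => s' (φ b))]
    apply Finset.prod_congr rfl
    intro b' _
    exact t3 _
  have hprod : ∏ b, s' (φ b) = 1 := by
    have h0 := congrArg Perm.sign hdecomp
    rw [Perm.sign_mul, hsL, mul_one, hsign, hsR] at h0
    exact h0.symm
  have hφaff := t1 φ hprod
  have hbaraff := t2 hbar hbar_inj
  intro x y z
  obtain ⟨b₁, t₁⟩ := x
  obtain ⟨b₂, t₂⟩ := y
  obtain ⟨b₃, t₃⟩ := z
  show h (b₁ + b₂ + b₃, t₁ + t₂ + t₃) = _
  rw [hform, hform, hform, hform, hφaff, hbaraff]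
  apply Prod.ext
  · rfl
  · show t₁ + t₂ + t₃ + (φ b₁ + φ b₂ + φ b₃) = (t₁ + φ b₁) + (t₂ + φ b₂) + (t₃ + φ b₃)
    abel

/-- an affine even permutation not preserving the fibres -/
def h₂ : Perm V := swap (((0, 0), 1) : V) ((0, 1), 0) * swap (((1, 0), 1) : V) ((1, 1), 0)

/-- a three-cycle -/
def h₃ : Perm V := swap (((0, 0), 0) : V) ((0, 0), 1) * swap (((0, 0), 1) : V) ((0, 1), 0)

set_option maxRecDepth 100000 in
theorem h₂_mem : h₂ ∈ affV := by
  show ∀ x y z : V, h₂ (x + y + z) = h₂ x + h₂ y + h₂ z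
  decide

theorem h₂_sign : Perm.sign h₂ = 1 := by
  rw [h₂, Perm.sign_mul, Perm.sign_swap (by decide), Perm.sign_swap (by decide)]
  rfl

theorem h₂_not_fibre : ¬ (∀ u v : V, u.1 = v.1 ↔ (h₂ u).1 = (h₂ v).1) := by
  intro h
  have := (h ((0, 0), 0) ((0, 0), 1)).mp rfl
  revert this
  decide

theorem h₃_sign : Perm.sign h₃ = 1 := by
  rw [h₃, Perm.sign_mul, Perm.sign_swap (by decide), Perm.sign_swap (by decide)]
  rfl

theorem h₃_not_mem : h₃ ∉ affV := by
  intro h
  have := h ((1, 0), 0) ((1, 1), 0) ((0, 1), 1)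
  revert this
  decide

/-- Let Ω be a set with 8 elements and f : Ω → Fin 4 a labelling whose four fibres all have size 2 (a partition of the 8 points into 4 pairs). Then the group of even permutations preserving this partition, (S₂ ≀ S₄) ∩ A₈, is not a maximal subgroup of the alternating group A₈ (it lies in a subgroup isomorphic to the affine group AGL₃(2)). -/
theorem result {Ω : Type*} [Fintype Ω] [DecidableEq Ω] (h8 : Fintype.card Ω = 8)
    (f : Ω → Fin 4) (hf : ∀ i : Fin 4, Nat.card {x : Ω // f x = i} = 2) :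
    ¬ IsCoatom ((Subgroup.closure {g : Equiv.Perm Ω | ∀ x y : Ω, f x = f y ↔ f (g x) = f (g y)} ⊓ alternatingGroup Ω).subgroupOf (alternatingGroup Ω)) := by
  classical
  obtain ⟨E, hE⟩ := Cfsg.Agent.Helper29.exists_labelling 2 f hf
  let θ : Fin 4 ≃ B := Fintype.equivOfCardEq (by decide)
  let θ' : Fin 2 ≃ ZMod 2 := Fintype.equivOfCardEq (by decide)
  let β : Ω ≃ V := E.trans (Equiv.prodCongr θ θ')
  have hβ1 : ∀ x : Ω, (β x).1 = θ (f x) := by
    intro x
    show θ (E x).1 = θ (f x)
    rw [hE]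
  have hβ : ∀ x y : Ω, f x = f y ↔ (β x).1 = (β y).1 := by
    intro x y
    rw [hβ1, hβ1]
    exact θ.injective.eq_iff.symm
  set c : Perm Ω ≃* Perm V := β.permCongrHom with hc
  rw [Cfsg.Agent.Helper29.closure_eq_partitionStabilizer]
  set P := Cfsg.Agent.Helper29.partitionStabilizer f with hP
  set A := alternatingGroup Ω with hA
  set K : Subgroup (Perm Ω) := (affV.comap c.toMonoidHom) ⊓ A with hK
  intro hco
  have hPA : P ⊓ A ≤ A := inf_le_right
  obtain ⟨hne, hmax⟩ := (Cfsg.Agent.Helper29.isCoatom_subgroupOf_iff hPA).mp hco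
  have hcapp : ∀ (g : Perm Ω) (u : V), c g u = β (g (β.symm u)) := fun g u => rfl
  have hmemP : ∀ g : Perm Ω, g ∈ P ↔ ∀ u v : V, u.1 = v.1 ↔ (c g u).1 = (c g v).1 := by
    intro g
    constructor
    · intro hg u v
      rw [hcapp, hcapp, ← hβ]
      rw [← hg (β.symm u) (β.symm v), hβ, Equiv.apply_symm_apply, Equiv.apply_symm_apply]
    · intro hg x y
      have := hg (β x) (β y)
      rw [hcapp, hcapp, Equiv.symm_apply_apply, Equiv.symm_apply_apply, ← hβ, ← hβ] at this
      exact this
  have hsign : ∀ g : Perm Ω, Perm.sign (c g) = Perm.sign g := fun g => Perm.sign_permCongr β g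
  have hmemK : ∀ g : Perm Ω, g ∈ K ↔ c g ∈ affV ∧ g ∈ A := fun g => Iff.rfl
  have h1 : P ⊓ A ≤ K := by
    rintro g ⟨hgP, hgA⟩
    rw [hmemK]
    refine ⟨?_, hgA⟩
    apply affine_of_fibre_even
    · exact (hmemP g).mp hgP
    · rw [hsign]; exact Perm.mem_alternatingGroup.mp hgA
  rcases hmax K h1 inf_le_right with h | h
  · have hg : c.symm h₂ ∈ K := by
      rw [hmemK]
      refine ⟨?_, ?_⟩
      · rw [MulEquiv.apply_symm_apply]; exact h₂_mem
      · rw [hA, Perm.mem_alternatingGroup, ← hsign, MulEquiv.apply_symm_apply]; exact h₂_sign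
    rw [h] at hg
    have h2 := (hmemP _).mp hg.1
    rw [MulEquiv.apply_symm_apply] at h2
    exact h₂_not_fibre h2
  · have hg : c.symm h₃ ∈ A := by
      rw [hA, Perm.mem_alternatingGroup, ← hsign, MulEquiv.apply_symm_apply]; exact h₃_sign
    rw [← h, hmemK, MulEquiv.apply_symm_apply] at hg
    exact h₃_not_mem hg.1

end Cfsg.Agent.S5910
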