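import Mathlib
import Cfsg.Statements.S5912
import Cfsg.Agent.Lib.Helper29.SymSix

set_option autoImplicit false
open Cfsg

namespace Cfsg.Agent.S5912

open Equiv Cfsg.Agent.Helper29

/-- a conjugate of a point stabilizer is a point stabilizer -/
theorem map_conj_stab {Ω : Type*} [DecidableEq Ω] (g : Perm Ω) (a : Ω) :
    Subgroup.map (MulAut.conj g).toMonoidHom (MulAction.stabilizer (Perm Ω) a) =
      MulAction.stabilizer (Perm Ω) (g a) := by
  have := MulAction.stabilizer_smul_eq_stabilizer_map_conj (G := Perm Ω) g a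
  rw [Perm.smul_def] at this
  exact this.symm

/-- two index 6 subgroups that are not point stabilizers are conjugate -/
theorem conj_of_exotic {Ω : Type*} [Fintype Ω] [DecidableEq Ω] (h6 : Fintype.card Ω = 6)
    (H H' : Subgroup (Perm Ω)) (hH : H.index = 6) (hH' : H'.index = 6)
    (hne : ¬ ∃ x : Ω, H = MulAction.stabilizer (Perm Ω) x)
    (hne' : ¬ ∃ x : Ω, H' = MulAction.stabilizer (Perm Ω) x) :
    ∃ g : Perm Ω, Subgroup.map (MulAut.conj g).toMonoidHom H = H' := by
  obtain ⟨e, he⟩ := exists_realization h6 H hH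
  obtain ⟨e', he'⟩ := exists_realization h6 H' hH'
  have hex : ¬ ∀ s : Perm (Fin 6), s.IsSwap → (e.symm s).IsSwap :=
    fun h => hne (stab_of_swap_preserving h6 H hH e he h)
  have hex' : ¬ ∀ s : Perm (Fin 6), s.IsSwap → (e'.symm s).IsSwap :=
    fun h => hne' (stab_of_swap_preserving h6 H' hH' e' he' h)
  have hsw := comp_swap_preserving h6 e e' hex hex'
  obtain ⟨σ, hσ⟩ := inner_of_swap_preserving (by omega) (e.trans e'.symm) hsw
  refine ⟨σ, ?_⟩
  ext h
  constructor
  · rintro ⟨g, hg, rfl⟩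
    show σ * g * σ⁻¹ ∈ H'
    rw [← hσ g, he']
    show e' (e'.symm (e g)) 0 = 0
    rw [MulEquiv.apply_symm_apply]
    exact (he g).mp hg
  · intro hh
    refine ⟨e.symm (e' h), ?_, ?_⟩
    · show e.symm (e' h) ∈ H
      rw [he, MulEquiv.apply_symm_apply]
      exact (he' h).mp hh
    · show σ * e.symm (e' h) * σ⁻¹ = h
      rw [← hσ]
      show e'.symm (e (e.symm (e' h))) = h
      rw [MulEquiv.apply_symm_apply, MulEquiv.symm_apply_apply]

/-- The symmetric group on a 6-element set Ω has exactly two conjugacy classes of subgroups of index 6: there are two non-conjugate subgroups of index 6 (a point stabilizer and a transitive subgroup isomorphic to S₅), and every subgroup of index 6 is conjugate to one of them. -/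
theorem result {Ω : Type*} [Fintype Ω] [DecidableEq Ω] (h6 : Fintype.card Ω = 6) :
    ∃ H₁ H₂ : Subgroup (Equiv.Perm Ω), H₁.index = 6 ∧ H₂.index = 6 ∧
      (¬ ∃ g : Equiv.Perm Ω, Subgroup.map (MulAut.conj g).toMonoidHom H₁ = H₂) ∧
      ∀ H : Subgroup (Equiv.Perm Ω), H.index = 6 →
        ∃ g : Equiv.Perm Ω, Subgroup.map (MulAut.conj g).toMonoidHom H₁ = H ∨ Subgroup.map (MulAut.conj g).toMonoidHom H₂ = H := by
  have hpos : 0 < Fintype.card Ω := by omega
  obtain ⟨a₀⟩ := Fintype.card_pos_iff.mp hpos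
  obtain ⟨H₂, hH₂, htrans⟩ := exists_exotic h6
  have hnt : Nontrivial Ω := Fintype.one_lt_card_iff_nontrivial.mp (by omega)
  have hH₂ne : ¬ ∃ x : Ω, H₂ = MulAction.stabilizer (Perm Ω) x := by
    rintro ⟨x, hx⟩
    obtain ⟨y, hy⟩ := exists_ne x
    obtain ⟨g, hg, hgx⟩ := htrans x y
    rw [hx, MulAction.mem_stabilizer_iff] at hg
    have : g x = x := hg
    rw [hgx] at this
    exact hy this
  refine ⟨MulAction.stabilizer (Perm Ω) a₀, H₂, ?_, hH₂, ?_, ?_⟩
  · rw [Cfsg.Agent.S5911.index_stab, h6]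
  · rintro ⟨g, hg⟩
    rw [map_conj_stab] at hg
    exact hH₂ne ⟨g a₀, hg.symm⟩
  · intro H hH
    by_cases hstab : ∃ x : Ω, H = MulAction.stabilizer (Perm Ω) x
    · obtain ⟨x, hx⟩ := hstab
      obtain ⟨g, hg⟩ := MulAction.exists_smul_eq (Perm Ω) a₀ x
      refine ⟨g, Or.inl ?_⟩
      rw [map_conj_stab, hx]
      congr 1
    · obtain ⟨g, hg⟩ := conj_of_exotic h6 H₂ H hH₂ hH hH₂ne hstab
      exact ⟨g, Or.inr hg⟩

end Cfsg.Agent.S5912
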