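import Mathlib
import Cfsg.Statements.S5913

set_option autoImplicit false
open Cfsg

namespace Cfsg.Agent.S5913

theorem exists_not_commute {S : Type*} [Group S] [IsSimpleGroup S] (hS : ¬ IsMulCommutative S)
    (a : S) (ha : a ≠ 1) : ∃ s : S, a * s * a⁻¹ * s⁻¹ ≠ 1 := by
  by_contra hcon
  push Not at hcon
  have hac : a ∈ Subgroup.center S := by
    rw [Subgroup.mem_center_iff]
    intro s
    have := hcon s
    have h2 : a * s = s * a := by
      calc a * s = (a * s * a⁻¹ * s⁻¹) * s * a := by group
        _ = s * a := by rw [this, one_mul]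
    exact h2.symm
  rcases (inferInstance : (Subgroup.center S).Normal).eq_bot_or_eq_top with h | h
  · rw [h, Subgroup.mem_bot] at hac
    exact ha hac
  · apply hS
    refine ⟨⟨fun x y => ?_⟩⟩
    have : y ∈ Subgroup.center S := h ▸ Subgroup.mem_top y
    rw [Subgroup.mem_center_iff] at this
    exact (this x)

theorem mulSingle_mem {S : Type*} [Group S] [IsSimpleGroup S] (hS : ¬ IsMulCommutative S) (n : ℕ)
    (N : Subgroup (Fin n → S)) [hN : N.Normal] (i : Fin n) (y : Fin n → S) (hy : y ∈ N) (hyi : y i ≠ 1)
    (s : S) : Pi.mulSingle i s ∈ N := by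
  set A : Subgroup S := N.comap (MonoidHom.mulSingle (fun _ : Fin n => S) i) with hA
  have hAn : A.Normal := hN.comap _
  obtain ⟨t, ht⟩ := exists_not_commute hS (y i) hyi
  have hmem : y i * t * (y i)⁻¹ * t⁻¹ ∈ A := by
    rw [hA, Subgroup.mem_comap]
    have h1 : y * Pi.mulSingle i t * y⁻¹ * (Pi.mulSingle i t)⁻¹ ∈ N := by
      have h2 : Pi.mulSingle i t * y⁻¹ * (Pi.mulSingle i t)⁻¹ ∈ N := hN.conj_mem _ (N.inv_mem hy) _
      have := N.mul_mem hy h2
      simpa [mul_assoc] using this
    have h3 : y * Pi.mulSingle i t * y⁻¹ * (Pi.mulSingle i t)⁻¹ =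
        MonoidHom.mulSingle (fun _ : Fin n => S) i (y i * t * (y i)⁻¹ * t⁻¹) := by
      ext j
      by_cases hj : j = i
      · subst hj; simp
      · simp [Pi.mulSingle_eq_of_ne hj]
    rw [← h3]; exact h1
  rcases hAn.eq_bot_or_eq_top with h | h
  · rw [h, Subgroup.mem_bot] at hmem
    exact absurd hmem ht
  · have : s ∈ A := h ▸ Subgroup.mem_top s
    exact this

/-- Let S be a non-abelian simple group and n a natural number. Every normal subgroup N of the direct power S^n (functions Fin n → S) is a subproduct: there is a set T of coordinates such that N consists exactly of the elements whose coordinates outside T are trivial. In particular the minimal normal subgroups of S^n are its n factors. -/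
theorem result {S : Type*} [Group S] [IsSimpleGroup S] (hS : ¬ IsMulCommutative S) (n : ℕ)
    (N : Subgroup (Fin n → S)) [N.Normal] :
    ∃ T : Finset (Fin n), ∀ x : Fin n → S, x ∈ N ↔ ∀ i, i ∉ T → x i = 1 := by
  classical
  refine ⟨Finset.univ.filter (fun i => ∃ y ∈ N, y i ≠ 1), fun x => ⟨fun hx i hi => ?_, fun hx => ?_⟩⟩
  · by_contra hne
    apply hi
    simp only [Finset.mem_filter, Finset.mem_univ, true_and]
    exact ⟨x, hx, hne⟩
  · -- truncations of x
    have key : ∀ U : Finset (Fin n), U ⊆ Finset.univ.filter (fun i => ∃ y ∈ N, y i ≠ 1) →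
        (fun j => if j ∈ U then x j else 1) ∈ N := by
      intro U
      induction U using Finset.induction_on with
      | empty =>
        intro _
        have : (fun j : Fin n => if j ∈ (∅ : Finset (Fin n)) then x j else (1 : S)) = 1 := by
          ext j; simp
        rw [this]; exact N.one_mem
      | insert a U ha ih =>
        intro hsub
        have hU : U ⊆ Finset.univ.filter (fun i => ∃ y ∈ N, y i ≠ 1) :=
          (Finset.subset_insert a U).trans hsub
        have haT := hsub (Finset.mem_insert_self a U)
        simp only [Finset.mem_filter, Finset.mem_univ, true_and] at haT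
        obtain ⟨y, hy, hya⟩ := haT
        have h1 := mulSingle_mem hS n N a y hy hya (x a)
        have h2 := N.mul_mem (ih hU) h1
        have : (fun j => if j ∈ insert a U then x j else 1) =
            (fun j => if j ∈ U then x j else 1) * Pi.mulSingle a (x a) := by
          ext j
          by_cases hj : j = a
          · subst hj; simp [ha]
          · simp [Finset.mem_insert, hj, Pi.mulSingle_eq_of_ne hj]
        rw [this]; exact h2
    have := key _ subset_rfl
    have hx' : (fun j => if j ∈ Finset.univ.filter (fun i => ∃ y ∈ N, y i ≠ 1) then x j else 1) = x := by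
      ext j
      by_cases hj : j ∈ Finset.univ.filter (fun i => ∃ y ∈ N, y i ≠ 1)
      · simp only [hj, if_true]
      · simp only [hj, if_false]; exact (hx j hj).symm
    rw [hx'] at this
    exact this

end Cfsg.Agent.S5913
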