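import Mathlib
import Cfsg.Statements.S5914
import Cfsg.Agent.S5913

set_option autoImplicit false
open Cfsg

namespace Cfsg.Agent.S5914

section backward

variable {S : Type*} [Group S] {n : ℕ}

/-- coordinate swap automorphism -/
def swapAut (i j : Fin n) : (Fin n → S) ≃* (Fin n → S) where
  toFun x := x ∘ Equiv.swap i j
  invFun x := x ∘ Equiv.swap i j
  left_inv x := by ext k; simp
  right_inv x := by ext k; simp
  map_mul' _ _ := rfl

theorem swapAut_mulSingle (i j : Fin n) (s : S) :
    swapAut i j (Pi.mulSingle i s : Fin n → S) = Pi.mulSingle j s := by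
  ext k
  show (Pi.mulSingle i s : Fin n → S) (Equiv.swap i j k) = _
  by_cases hk : k = j
  · subst hk; simp
  · rw [Pi.mulSingle_eq_of_ne hk, Pi.mulSingle_eq_of_ne]
    intro h
    apply hk
    have := congrArg (Equiv.swap i j) h
    simpa using this

/-- transvection automorphism (for commutative `S`) -/
def transvection (hcomm : ∀ a b : S, a * b = b * a) (i j : Fin n) (hij : i ≠ j) :
    (Fin n → S) ≃* (Fin n → S) where
  toFun x := Function.update x i (x i * x j)
  invFun x := Function.update x i (x i * (x j)⁻¹)
  left_inv x := by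
    ext k
    by_cases hk : k = i
    · subst hk; simp [Function.update_of_ne hij.symm]
    · simp [Function.update_of_ne hk]
  right_inv x := by
    ext k
    by_cases hk : k = i
    · subst hk; simp [Function.update_of_ne hij.symm]
    · simp [Function.update_of_ne hk]
  map_mul' x y := by
    ext k
    by_cases hk : k = i
    · subst hk
      simp only [Function.update_self, Pi.mul_apply]
      calc x k * y k * (x j * y j) = x k * (y k * x j) * y j := by group
        _ = x k * (x j * y k) * y j := by rw [hcomm (y k) (x j)]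
        _ = x k * x j * (y k * y j) := by group
    · simp [Function.update_of_ne hk]

theorem char_mem {G : Type*} [Group G] {H : Subgroup G} (hH : H.Characteristic) (φ : G ≃* G)
    {x : G} (hx : x ∈ H) : φ x ∈ H := by
  have := (Subgroup.characteristic_iff_map_le.mp hH) φ
  exact this ⟨x, hx, rfl⟩

/-- a subgroup of a power containing all the coordinate subgroups is everything -/
theorem eq_top_of_mulSingle_mem (H : Subgroup (Fin n → S))
    (h : ∀ (k : Fin n) (s : S), (Pi.mulSingle k s : Fin n → S) ∈ H) : H = ⊤ := by
  classical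
  rw [eq_top_iff]
  intro x _
  have key : ∀ U : Finset (Fin n), (fun j => if j ∈ U then x j else 1) ∈ H := by
    intro U
    induction U using Finset.induction_on with
    | empty =>
      have : (fun j : Fin n => if j ∈ (∅ : Finset (Fin n)) then x j else (1 : S)) = 1 := by
        ext j; simp
      rw [this]; exact H.one_mem
    | insert a U ha ih =>
      have h2 := H.mul_mem ih (h a (x a))
      have : (fun j => if j ∈ insert a U then x j else 1) =
          (fun j => if j ∈ U then x j else 1) * Pi.mulSingle a (x a) := by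
        ext j
        by_cases hj : j = a
        · subst hj; simp [ha]
        · simp [Finset.mem_insert, hj]
      rw [this]; exact h2
  have := key Finset.univ
  simpa using this

theorem char_simple_pi [IsSimpleGroup S] (H : Subgroup (Fin n → S))
    (hH : H.Characteristic) : H = ⊥ ∨ H = ⊤ := by
  classical
  by_cases hb : H = ⊥
  · exact Or.inl hb
  right
  have hHn : H.Normal := Subgroup.normal_of_characteristic H
  obtain ⟨x, hx1⟩ := (Subgroup.ne_bot_iff_exists_ne_one).mp hb
  have hx1' : (x : Fin n → S) ≠ 1 := fun h => hx1 (Subtype.ext h)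
  obtain ⟨j, hj⟩ : ∃ j, (x : Fin n → S) j ≠ 1 := by
    by_contra hcon
    push Not at hcon
    exact hx1' (funext hcon)
  -- Step 1
  obtain ⟨i, s, hs1, hsH⟩ : ∃ (i : Fin n) (s : S), s ≠ 1 ∧ (Pi.mulSingle i s : Fin n → S) ∈ H := by
    by_cases hcomm : ∀ a b : S, a * b = b * a
    · by_cases hother : ∃ i, i ≠ j
      · obtain ⟨i, hij⟩ := hother
        have h1 : transvection hcomm i j hij (x : Fin n → S) ∈ H := char_mem hH _ x.2
        have h2 := H.mul_mem h1 (H.inv_mem x.2)
        refine ⟨i, (x : Fin n → S) j, hj, ?_⟩
        have : (Pi.mulSingle i ((x : Fin n → S) j) : Fin n → S) =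
            transvection hcomm i j hij (x : Fin n → S) * (x : Fin n → S)⁻¹ := by
          ext k
          by_cases hk : k = i
          · subst hk
            simp only [transvection, MulEquiv.coe_mk, Equiv.coe_fn_mk, Pi.mul_apply,
              Function.update_self, Pi.inv_apply, Pi.mulSingle_eq_same]
            rw [hcomm ((x : Fin n → S) k) ((x : Fin n → S) j)]
            group
          · simp [transvection, Function.update_of_ne hk, Pi.mulSingle_eq_of_ne hk]
        rw [this]; exact h2
      · push Not at hother
        refine ⟨j, (x : Fin n → S) j, hj, ?_⟩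
        have : (Pi.mulSingle j ((x : Fin n → S) j) : Fin n → S) = x := by
          ext k
          rw [hother k]; simp
        rw [this]; exact x.2
    · have hS : ¬ IsMulCommutative S := by
        intro h
        exact hcomm (fun a b => h.is_comm.comm a b)
      obtain ⟨t, ht⟩ := Cfsg.Agent.S5913.exists_not_commute hS _ hj
      refine ⟨j, _, ht, ?_⟩
      have h1 : (x : Fin n → S) * Pi.mulSingle j t * (x : Fin n → S)⁻¹ * (Pi.mulSingle j t)⁻¹ ∈ H := by
        have h2 : Pi.mulSingle j t * (x : Fin n → S)⁻¹ * (Pi.mulSingle j t)⁻¹ ∈ H :=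
          hHn.conj_mem _ (H.inv_mem x.2) _
        have := H.mul_mem x.2 h2
        simpa [mul_assoc] using this
      have h3 : (x : Fin n → S) * Pi.mulSingle j t * (x : Fin n → S)⁻¹ * (Pi.mulSingle j t)⁻¹ =
          Pi.mulSingle j ((x : Fin n → S) j * t * ((x : Fin n → S) j)⁻¹ * t⁻¹) := by
        ext k
        by_cases hk : k = j
        · subst hk; simp
        · simp [Pi.mulSingle_eq_of_ne hk]
      rw [← h3]; exact h1
  -- Step 2
  have hall_i : ∀ s' : S, (Pi.mulSingle i s' : Fin n → S) ∈ H := by
    set A : Subgroup S := H.comap (MonoidHom.mulSingle (fun _ : Fin n => S) i) with hA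
    have hAn : A.Normal := hHn.comap _
    rcases hAn.eq_bot_or_eq_top with h | h
    · exfalso
      have : s ∈ A := hsH
      rw [h, Subgroup.mem_bot] at this
      exact hs1 this
    · intro s'
      have : s' ∈ A := h ▸ Subgroup.mem_top s'
      exact this
  -- Step 3
  have hall : ∀ (k : Fin n) (s' : S), (Pi.mulSingle k s' : Fin n → S) ∈ H := by
    intro k s'
    rw [← swapAut_mulSingle i k s']
    exact char_mem hH _ (hall_i s')
  exact eq_top_of_mulSingle_mem H hall

end backward

section forward

/-- appending a coordinate -/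
def snocMulEquiv (N : Type*) [Group N] (k : ℕ) : ((Fin k → N) × N) ≃* (Fin (k + 1) → N) where
  toFun p := Fin.snoc (α := fun _ => N) p.1 p.2
  invFun x := (Fin.init (α := fun _ => N) x, x (Fin.last k))
  left_inv p := by
    ext <;> simp
  right_inv x := by
    simp
  map_mul' p q := by
    ext i
    refine Fin.lastCases ?_ (fun j => ?_) i
    · simp
    · simp

variable {G : Type*} [Group G] [Finite G]

/-- internal direct product of two disjoint normal subgroups -/
noncomputable def supEquivProd (P N' : Subgroup G) (hP : P.Normal) (hN' : N'.Normal)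
    (hd : Disjoint P N') : (P × N') ≃* ↥(P ⊔ N') := by
  have comm : ∀ (p : P) (n : N'), Commute (P.subtype p) (N'.subtype n) := fun p n =>
    Subgroup.commute_of_normal_of_disjoint P N' hP hN' hd p n p.2 n.2
  have hinj : Function.Injective (MonoidHom.noncommCoprod P.subtype N'.subtype comm) := by
    rw [MonoidHom.noncommCoprod_injective]
    refine ⟨P.subtype_injective, N'.subtype_injective, ?_⟩
    rw [Subgroup.range_subtype, Subgroup.range_subtype]
    exact hd
  have hrange : (MonoidHom.noncommCoprod P.subtype N'.subtype comm).range = P ⊔ N' := by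
    rw [MonoidHom.noncommCoprod_range, Subgroup.range_subtype, Subgroup.range_subtype]
  exact (MonoidHom.ofInjective hinj).trans (MulEquiv.subgroupCongr hrange)

theorem forward [Nontrivial G]
    (hcs : ∀ H : Subgroup G, H.Characteristic → H = ⊥ ∨ H = ⊤) :
    ∃ (S : Type) (_ : Group S) (_ : IsSimpleGroup S) (n : ℕ), 1 ≤ n ∧ Nonempty (G ≃* (Fin n → S)) := by
  classical
  -- a nontrivial normal subgroup of minimal cardinality
  obtain ⟨N, ⟨hNn, hNb⟩, hNmin⟩ := Set.exists_min_image {N : Subgroup G | N.Normal ∧ N ≠ ⊥}
    (fun N => Nat.card N) (Set.toFinite _) ⟨⊤, ⟨inferInstance, top_ne_bot⟩⟩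
  have hNmin' : ∀ B : Subgroup G, B.Normal → B ≠ ⊥ → Nat.card N ≤ Nat.card B :=
    fun B h1 h2 => hNmin B ⟨h1, h2⟩
  -- good subgroups
  let Good : Subgroup G → Prop := fun P => P.Normal ∧ ∃ k : ℕ, Nonempty (P ≃* (Fin k → N))
  have hbot : Good ⊥ := ⟨inferInstance, 0, ⟨MulEquiv.ofUnique⟩⟩
  obtain ⟨P, -, hPmax⟩ := Finite.exists_le_maximal (p := Good) hbot
  obtain ⟨hPn, k, ⟨eP⟩⟩ := hPmax.prop
  -- all images of N lie in P
  have hle : ∀ φ : G ≃* G, N.map φ.toMonoidHom ≤ P := by
    intro φ
    by_contra hnle
    set N' := N.map φ.toMonoidHom with hN'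
    have hN'n : N'.Normal := hNn.map _ φ.surjective
    have eN' : N ≃* N' := N.equivMapOfInjective φ.toMonoidHom φ.injective
    have hcard : Nat.card N' = Nat.card N := (Nat.card_congr eN'.toEquiv).symm
    have hdisj : Disjoint P N' := by
      rw [disjoint_iff]
      by_contra hne
      have hin : (P ⊓ N').Normal := inferInstance
      have h1 := hNmin' (P ⊓ N') hin hne
      have h2 : Nat.card ↥(P ⊓ N') ≤ Nat.card N' := Subgroup.card_le_of_le inf_le_right
      have h3 : Nat.card ↥(P ⊓ N') = Nat.card N' := by omega
      have h4 : P ⊓ N' = N' := Subgroup.eq_of_le_of_card_ge inf_le_right (by omega)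
      exact hnle (h4 ▸ inf_le_left)
    have hgood : Good (P ⊔ N') := by
      refine ⟨inferInstance, k + 1, ⟨?_⟩⟩
      exact (supEquivProd P N' hPn hN'n hdisj).symm.trans
        ((MulEquiv.prodCongr eP eN'.symm).trans (snocMulEquiv N k))
    have := hPmax.le_of_ge hgood le_sup_left
    exact hnle (le_sup_right.trans this)
  -- the characteristic subgroup generated by the images
  set Q : Subgroup G := ⨆ φ : G ≃* G, N.map φ.toMonoidHom with hQ
  have hQchar : Q.Characteristic := by
    rw [Subgroup.characteristic_iff_map_le]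
    intro ψ
    rw [hQ, Subgroup.map_iSup]
    refine iSup_le fun φ => ?_
    rw [Subgroup.map_map]
    exact le_iSup (fun φ : G ≃* G => N.map φ.toMonoidHom) (φ.trans ψ)
  have hNQ : N ≤ Q := by
    have h0 : N = N.map (MulEquiv.refl G).toMonoidHom := by
      ext x
      constructor
      · intro hx; exact ⟨x, hx, rfl⟩
      · rintro ⟨y, hy, rfl⟩; exact hy
    have := le_iSup (fun φ : G ≃* G => N.map φ.toMonoidHom) (MulEquiv.refl G)
    exact h0.le.trans this
  have hQtop : Q = ⊤ := by
    rcases hcs Q hQchar with h | h
    · exfalso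
      apply hNb
      rw [eq_bot_iff, ← h]; exact hNQ
    · exact h
  have hPtop : P = ⊤ := by
    rw [eq_top_iff, ← hQtop, hQ]
    exact iSup_le hle
  have eG : G ≃* (Fin k → N) :=
    (Subgroup.topEquiv.symm.trans (MulEquiv.subgroupCongr hPtop.symm)).trans eP
  have hk : 1 ≤ k := by
    by_contra hk0
    have hk0' : k = 0 := by omega
    subst hk0'
    have : Subsingleton (Fin 0 → N) := inferInstance
    have : Subsingleton G := eG.toEquiv.subsingleton
    exact not_subsingleton G this
  -- N is simple
  have hNnt : Nontrivial N := (Subgroup.nontrivial_iff_ne_bot N).mpr hNb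
  have hNsimple : IsSimpleGroup N := by
    refine ⟨fun A hA => ?_⟩
    by_contra hcon
    push Not at hcon
    obtain ⟨hAb, hAt⟩ := hcon
    set ι : N →* (Fin k → N) := MonoidHom.mulSingle (fun _ : Fin k => N) ⟨0, hk⟩ with hι
    have hιinj : Function.Injective ι := fun a b h =>
      Pi.mulSingle_injective (M := fun _ : Fin k => N) ⟨0, hk⟩ h
    set B' : Subgroup (Fin k → N) := A.map ι with hB'
    have hB'n : B'.Normal := by
      refine ⟨fun y hy x => ?_⟩
      obtain ⟨a, ha, rfl⟩ := hy
      refine ⟨x ⟨0, hk⟩ * a * (x ⟨0, hk⟩)⁻¹, hA.conj_mem a ha _, ?_⟩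
      ext j
      by_cases hj : j = ⟨0, hk⟩
      · subst hj; simp [hι]
      · simp [hι, Pi.mulSingle_eq_of_ne hj]
    set B : Subgroup G := B'.comap eG.toMonoidHom with hB
    have hBn : B.Normal := hB'n.comap _
    have hcardB : Nat.card B = Nat.card A := by
      have e1 : Nat.card B = Nat.card B' :=
        Nat.card_congr (Equiv.subtypeEquiv eG.toEquiv (fun x => Iff.rfl))
      have e2 : A ≃* B' := A.equivMapOfInjective ι hιinj
      rw [e1, ← Nat.card_congr e2.toEquiv]
    have hBb : B ≠ ⊥ := by
      intro h
      have : Nat.card B = 1 := by rw [h]; simp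
      rw [hcardB] at this
      exact hAb (Subgroup.card_eq_one.mp this)
    have h1 := hNmin' B hBn hBb
    rw [hcardB] at h1
    have h2 : Nat.card A ≤ Nat.card N := Subgroup.card_le_card_group A
    have h3 : Nat.card A = Nat.card N := le_antisymm h2 h1
    exact hAt ((Subgroup.card_eq_iff_eq_top A).mp h3)
  -- transfer to universe 0
  refine ⟨Shrink.{0} N, inferInstance, ?_, k, hk, ⟨?_⟩⟩
  · exact MulEquiv.isSimpleGroup (Shrink.mulEquiv : Shrink.{0} N ≃* N)
  · exact eG.trans (MulEquiv.piCongrRight (fun _ => (Shrink.mulEquiv : Shrink.{0} N ≃* N).symm))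

end forward

/-- A non-trivial finite group G is characteristically simple (its only characteristic subgroups are 1 and G) if and only if G is isomorphic to a direct power S^n (n ≥ 1) of some simple group S (possibly cyclic of prime order). -/
theorem result {G : Type*} [Group G] [Finite G] [Nontrivial G] :
    (∀ H : Subgroup G, H.Characteristic → H = ⊥ ∨ H = ⊤) ↔
    ∃ (S : Type) (_ : Group S) (_ : IsSimpleGroup S) (n : ℕ), 1 ≤ n ∧ Nonempty (G ≃* (Fin n → S)) := by
  constructor
  · exact forward
  · rintro ⟨S, _, _, n, -, ⟨e⟩⟩ H hH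
    have hchar : (H.map e.toMonoidHom).Characteristic := by
      rw [Subgroup.characteristic_iff_map_le]
      intro φ
      rintro _ ⟨_, ⟨x, hx, rfl⟩, rfl⟩
      refine ⟨e.symm (φ (e x)), ?_, by simp⟩
      exact char_mem hH ((e.trans φ).trans e.symm) hx
    rcases char_simple_pi _ hchar with h | h
    · left
      rw [Subgroup.map_eq_bot_iff_of_injective _ e.injective] at h
      exact h
    · right
      rw [eq_top_iff]
      intro x _
      have : e x ∈ H.map e.toMonoidHom := h ▸ Subgroup.mem_top _
      obtain ⟨y, hy, hyx⟩ := this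
      have : y = x := e.injective hyx
      exact this ▸ hy

end Cfsg.Agent.S5914
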