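import Mathlib
import Cfsg.Statements.S5938
import Cfsg.Agent.S0803
import Cfsg.Agent.Lib.Helper12.PSL2Max3
import Cfsg.Agent.Lib.Helper13.DicksonCor1

set_option autoImplicit false
open Cfsg

namespace Cfsg.Agent.S5938

/-- Let p be a prime with p ≡ ±1 (mod 8) and F a field with p elements. Then PSL_2(F) has a maximal subgroup isomorphic to the symmetric group S_4. -/
theorem result {F : Type*} [Field F] [Fintype F] (p : ℕ) [Fact p.Prime] (hF : Fintype.card F = p) (hp : p % 8 = 1 ∨ p % 8 = 7) : ∃ H : Subgroup (Matrix.ProjectiveSpecialLinearGroup (Fin 2) F), IsCoatom H ∧ Nonempty (H ≃* Equiv.Perm (Fin 4)) := by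
  classical
  have hpp : p.Prime := Fact.out
  haveI : CharP F p := Cfsg.Agent.Helper13.DC.charP_of_card_prime hpp hF
  have hp7 : 7 ≤ p := by
    by_contra hcon
    have : p = 1 := by omega
    rw [this] at hpp; exact Nat.not_prime_one hpp
  have hpodd : Odd p := by rw [Nat.odd_iff]; omega
  have hp2 : p ≠ 2 := by omega
  have h16 : p ^ 2 % 16 = 1 := by
    have : p % 16 = 1 ∨ p % 16 = 9 ∨ p % 16 = 7 ∨ p % 16 = 15 := by omega
    rw [pow_two, Nat.mul_mod]
    rcases this with h | h | h | h <;> rw [h]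
  obtain ⟨H, ⟨e⟩⟩ := (Cfsg.Agent.S0803.result hF).2 h16
  have hHcard : Nat.card H = 24 := by
    rw [Nat.card_congr e.toEquiv, Cfsg.Agent.Helper12.PSL2Max.card_S4]
  have hG := Cfsg.Agent.Helper12.PSL2Max.card_PSL2_mul' F hF
  rw [Cfsg.Agent.Helper12.PSL2Max.gcd_two_odd hpodd] at hG
  refine ⟨H, ?_, ⟨e⟩⟩
  apply Cfsg.Agent.Helper12.PSL2Max.isCoatom_of_dickson p hF H
  · intro htop
    have h1 : Nat.card H = Nat.card (Matrix.ProjectiveSpecialLinearGroup (Fin 2) F) := by
      rw [htop]; exact Subgroup.card_top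
    rw [hHcard] at h1
    rw [← h1] at hG
    have h2 : 7 * 6 * 8 ≤ p * (p - 1) * (p + 1) := by
      apply Nat.mul_le_mul
      · apply Nat.mul_le_mul hp7
        omega
      · omega
    omega
  · intro hc
    exact Cfsg.Agent.Helper13.DC.not_isCyclic_commutator_S4
      (Cfsg.Agent.Helper12.PSL2Max.isCyclic_commutator_of_injective e.symm.toMonoidHom
        e.symm.injective hc)
  · intro hc
    exact Cfsg.Agent.Helper13.DC.not_isPGroup_commutator_S4 p hpp hp2
      (Cfsg.Agent.Helper12.PSL2Max.isPGroup_commutator_of_injective e.symm.toMonoidHom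
        e.symm.injective hc)
  · intro M hHM hMtop
    have hlt := Cfsg.Agent.Helper12.PSL2Max.card_lt_of_lt hHM
    rw [hHcard] at hlt
    have h24 : 24 ∣ Nat.card M := by
      rw [← hHcard]; exact Subgroup.card_dvd_of_le hHM.le
    refine ⟨?_, ?_, ?_, ?_⟩
    · rintro ⟨e'⟩
      rw [Nat.card_congr e'.toEquiv, Cfsg.Agent.Helper12.PSL2Max.card_A4] at hlt
      omega
    · rintro ⟨e'⟩
      rw [Nat.card_congr e'.toEquiv, Cfsg.Agent.Helper12.PSL2Max.card_S4] at hlt
      omega
    · rintro ⟨e'⟩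
      rw [Nat.card_congr e'.toEquiv, Cfsg.Agent.Helper12.PSL2Max.card_A5] at h24
      omega
    · intro K _ _ m hm
      have hk2 : 2 ≤ Fintype.card K := Fintype.one_lt_card
      have hk := Cfsg.Agent.Helper13.DC.card_eq_of_pow_eq_prime hpp hk2 hm
      exact Cfsg.Agent.Helper13.DC.not_equiv_of_card_eq (by rw [hF]; exact hpodd) M hMtop K
        (by rw [hk, hF])

end Cfsg.Agent.S5938
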