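-- Statement S5939 (helper12).
import Mathlib
import Cfsg.Statements.S5939
import Cfsg.Agent.S0804
import Cfsg.Agent.Lib.Helper12.PSL2Max3

set_option autoImplicit false
open Cfsg

namespace Cfsg.Agent.S5939

open Cfsg.Agent.Helper12.PSL2Max

/-- Let p be a prime and F a finite field of characteristic p such that either F has p elements and p ≡ ±1 (mod 10), or F has p² elements and p ≡ ±3 (mod 10). Then PSL_2(F) has a maximal subgroup isomorphic to the alternating group A_5. -/
theorem result {F : Type*} [Field F] [Fintype F] (p : ℕ) [Fact p.Prime] [CharP F p] (h : (Fintype.card F = p ∧ (p % 10 = 1 ∨ p % 10 = 9)) ∨ (Fintype.card F = p ^ 2 ∧ (p % 10 = 3 ∨ p % 10 = 7))) : ∃ H : Subgroup (Matrix.ProjectiveSpecialLinearGroup (Fin 2) F), IsCoatom H ∧ Nonempty (H ≃* alternatingGroup (Fin 5)) := by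
  classical
  obtain ⟨q, hq⟩ : ∃ q, Fintype.card F = q := ⟨_, rfl⟩
  have hpp : p.Prime := Fact.out
  have hqcases : (q = p ∧ (p % 10 = 1 ∨ p % 10 = 9)) ∨ (q = p ^ 2 ∧ (p % 10 = 3 ∨ p % 10 = 7)) := by
    rw [← hq]; exact h
  have hpodd : Odd p := by
    rw [Nat.odd_iff]
    rcases hqcases with ⟨_, h⟩ | ⟨_, h⟩ <;> omega
  have hqodd : Odd q := by
    rcases hqcases with ⟨h, _⟩ | ⟨h, _⟩
    · rw [h]; exact hpodd
    · rw [h]; exact hpodd.pow
  have h5 : 5 ∣ q * (q ^ 2 - 1) := by
    apply Dvd.dvd.mul_left
    have hq2 : q ^ 2 % 5 = 1 := by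
      rcases hqcases with ⟨h, hm⟩ | ⟨h, hm⟩
      · rw [h, Nat.pow_mod]
        have : p % 5 = 1 ∨ p % 5 = 4 := by omega
        rcases this with h' | h' <;> rw [h']
      · rw [h, ← pow_mul, Nat.pow_mod]
        have : p % 5 = 3 ∨ p % 5 = 2 := by omega
        rcases this with h' | h' <;> rw [h']
    exact Nat.dvd_of_mod_eq_zero (Nat.sub_mod_eq_zero_of_mod_eq (by rw [hq2]))
  have hq9 : 9 ≤ q := by
    rcases hqcases with ⟨h, hm⟩ | ⟨h, hm⟩
    · rw [h]
      have := hpp.two_le
      by_contra hcon
      have : p = 1 ∨ p = 9 := by omega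
      rcases this with h' | h'
      · omega
      · rw [h'] at hpp; norm_num at hpp
    · rw [h]
      have h3 : 3 ≤ p := by
        have := hpp.two_le
        omega
      calc 9 = 3 ^ 2 := by norm_num
        _ ≤ p ^ 2 := Nat.pow_le_pow_left h3 2
  obtain ⟨H, ⟨e⟩⟩ := (Cfsg.Agent.S0804.result hq).2 h5
  have hHcard : Nat.card H = 60 := by rw [Nat.card_congr e.toEquiv, card_A5]
  have hG := card_PSL2_mul' F hq
  rw [gcd_two_odd hqodd] at hG
  refine ⟨H, ?_, ⟨e⟩⟩
  apply isCoatom_of_dickson p hq H
  · intro htop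
    have h1 : Nat.card H = Nat.card (Matrix.ProjectiveSpecialLinearGroup (Fin 2) F) := by
      rw [htop]; exact Subgroup.card_top
    rw [hHcard] at h1
    rw [← h1] at hG
    have h2 : 9 * 8 * 10 ≤ q * (q - 1) * (q + 1) := by
      apply Nat.mul_le_mul
      · apply Nat.mul_le_mul hq9
        omega
      · omega
    omega
  · intro hc
    exact not_isCyclic_commutator_A5
      (isCyclic_commutator_of_injective e.symm.toMonoidHom e.symm.injective hc)
  · intro hc
    exact not_isPGroup_commutator_A5 p
      (isPGroup_commutator_of_injective e.symm.toMonoidHom e.symm.injective hc)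
  · intro M hHM hMtop
    have hlt := card_lt_of_lt hHM
    rw [hHcard] at hlt
    have hMdvd : Nat.card M ∣ Nat.card (Matrix.ProjectiveSpecialLinearGroup (Fin 2) F) :=
      Subgroup.card_subgroup_dvd_card M
    have hMne : Nat.card M ≠ Nat.card (Matrix.ProjectiveSpecialLinearGroup (Fin 2) F) :=
      fun h => hMtop (Subgroup.eq_top_of_card_eq M h)
    have h60 : 60 ∣ Nat.card M := by
      rw [← hHcard]; exact Subgroup.card_dvd_of_le hHM.le
    refine ⟨?_, ?_, ?_, ?_⟩
    · rintro ⟨e'⟩
      rw [Nat.card_congr e'.toEquiv, card_A4] at hlt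
      omega
    · rintro ⟨e'⟩
      rw [Nat.card_congr e'.toEquiv, card_S4] at hlt
      omega
    · rintro ⟨e'⟩
      rw [Nat.card_congr e'.toEquiv, card_A5] at hlt
      omega
    · intro K _ _ m hm
      obtain ⟨k, hk⟩ : ∃ k, Fintype.card K = k := ⟨_, rfl⟩
      rw [hk] at hm
      have hk2 : 2 ≤ k := by rw [← hk]; exact Fintype.one_lt_card
      have hm0 : m ≠ 0 := by
        rintro rfl
        rw [pow_zero] at hm
        omega
      have hkdvd : k ∣ q := by rw [← hm]; exact dvd_pow_self k hm0
      have hkcases : k = q ∨ (k = p ∧ (p % 10 = 3 ∨ p % 10 = 7)) := by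
        rcases hqcases with ⟨h, hmod⟩ | ⟨h, hmod⟩
        · left
          rw [h] at hkdvd ⊢
          rcases (Nat.dvd_prime hpp).1 hkdvd with h' | h'
          · omega
          · exact h'
        · rw [h] at hkdvd
          obtain ⟨i, hi2, hi⟩ := (Nat.dvd_prime_pow hpp).1 hkdvd
          interval_cases i
          · rw [pow_zero] at hi; omega
          · right; rw [pow_one] at hi; exact ⟨hi, hmod⟩
          · left; rw [hi, h]
      rcases hkcases with hkq | ⟨hkp, hmod⟩
      · have hKF : Fintype.card K = Fintype.card F := by rw [hk, hkq, hq]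
        constructor
        · rintro ⟨e'⟩
          apply hMne
          rw [Nat.card_congr e'.toEquiv]
          exact card_PSL2_congr K F hKF
        · rintro ⟨e'⟩
          have h1 := card_PGL2_eq_two_mul K F hKF (by rw [hq]; exact hqodd)
          rw [← Nat.card_congr e'.toEquiv] at h1
          have h2 := Nat.le_of_dvd Nat.card_pos hMdvd
          have h3 : 0 < Nat.card (Matrix.ProjectiveSpecialLinearGroup (Fin 2) F) := Nat.card_pos
          omega
      · have hnd : ¬ 5 ∣ p * (p - 1) * (p + 1) := by
          intro hd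
          have h1 : (p * (p - 1) * (p + 1)) % 5 = 0 := Nat.mod_eq_zero_of_dvd hd
          rcases hmod with h' | h'
          · obtain ⟨t, ht⟩ : ∃ t, p = 10 * t + 3 := ⟨p / 10, by omega⟩
            have e1 : p - 1 = 10 * t + 2 := by omega
            have e2 : p * (p - 1) * (p + 1) = 5 * (200 * t ^ 3 + 180 * t ^ 2 + 52 * t + 4) + 4 := by
              rw [e1, ht]; ring
            omega
          · obtain ⟨t, ht⟩ : ∃ t, p = 10 * t + 7 := ⟨p / 10, by omega⟩
            have e1 : p - 1 = 10 * t + 6 := by omega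
            have e2 : p * (p - 1) * (p + 1) =
                5 * (200 * t ^ 3 + 420 * t ^ 2 + 292 * t + 67) + 1 := by
              rw [e1, ht]; ring
            omega
        constructor
        · rintro ⟨e'⟩
          have h1 := card_PSL2_mul' K (hk.trans hkp)
          rw [← Nat.card_congr e'.toEquiv] at h1
          apply hnd
          rw [← h1]
          exact Dvd.dvd.mul_left (dvd_trans (by norm_num : 5 ∣ 60) h60) _
        · rintro ⟨e'⟩
          have h1 := card_PGL2' K (hk.trans hkp)
          rw [← Nat.card_congr e'.toEquiv] at h1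
          apply hnd
          rw [← h1]
          exact dvd_trans (by norm_num : 5 ∣ 60) h60

end Cfsg.Agent.S5939
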