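import Mathlib
import Cfsg.Statements.S5940
import Cfsg.Agent.S0802
import Cfsg.Agent.S0803
import Cfsg.Agent.S0804
import Cfsg.Agent.Lib.Helper12.PSL2Max3
import Cfsg.Agent.Lib.Helper13.DicksonCor1

set_option autoImplicit false
open Cfsg

namespace Cfsg.Agent.S5940

/-- Let p ≥ 5 be a prime with p ≡ ±3 (mod 8) and p ≢ ±1 (mod 10), and F a field with p elements. Then PSL_2(F) has a maximal subgroup isomorphic to the alternating group A_4. -/
theorem result {F : Type*} [Field F] [Fintype F] (p : ℕ) [Fact p.Prime] (hF : Fintype.card F = p) (h5 : 5 ≤ p) (h8 : p % 8 = 3 ∨ p % 8 = 5) (h10 : p % 10 ≠ 1 ∧ p % 10 ≠ 9) : ∃ H : Subgroup (Matrix.ProjectiveSpecialLinearGroup (Fin 2) F), IsCoatom H ∧ Nonempty (H ≃* alternatingGroup (Fin 4)) := by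
  classical
  have hpp : p.Prime := Fact.out
  haveI : CharP F p := Cfsg.Agent.Helper13.DC.charP_of_card_prime hpp hF
  have hpodd : Odd p := by rw [Nat.odd_iff]; omega
  have hp2 : p ≠ 2 := by omega
  have h16 : p ^ 2 % 16 ≠ 1 := by
    have : p % 16 = 3 ∨ p % 16 = 11 ∨ p % 16 = 5 ∨ p % 16 = 13 := by omega
    rw [pow_two, Nat.mul_mod]
    rcases this with h | h | h | h <;> rw [h] <;> norm_num
  obtain ⟨H, ⟨e⟩⟩ := (Cfsg.Agent.S0802.result (F := F) p 1 (by rw [pow_one]; exact hF)).2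
    (by rintro ⟨h, _⟩; omega)
  have hHcard : Nat.card H = 12 := by
    rw [Nat.card_congr e.toEquiv, Cfsg.Agent.Helper12.PSL2Max.card_A4]
  have hG := Cfsg.Agent.Helper12.PSL2Max.card_PSL2_mul' F hF
  rw [Cfsg.Agent.Helper12.PSL2Max.gcd_two_odd hpodd] at hG
  have hGge : 5 * 4 * 6 ≤ p * (p - 1) * (p + 1) := by
    apply Nat.mul_le_mul
    · apply Nat.mul_le_mul h5
      omega
    · omega
  refine ⟨H, ?_, ⟨e⟩⟩
  apply Cfsg.Agent.Helper12.PSL2Max.isCoatom_of_dickson p hF H
  · intro htop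
    have h1 : Nat.card H = Nat.card (Matrix.ProjectiveSpecialLinearGroup (Fin 2) F) := by
      rw [htop]; exact Subgroup.card_top
    rw [hHcard] at h1
    rw [← h1] at hG
    omega
  · intro hc
    exact Cfsg.Agent.Helper13.DC.not_isCyclic_commutator_A4
      (Cfsg.Agent.Helper12.PSL2Max.isCyclic_commutator_of_injective e.symm.toMonoidHom
        e.symm.injective hc)
  · intro hc
    exact Cfsg.Agent.Helper13.DC.not_isPGroup_commutator_A4 p hpp hp2
      (Cfsg.Agent.Helper12.PSL2Max.isPGroup_commutator_of_injective e.symm.toMonoidHom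
        e.symm.injective hc)
  · intro M hHM hMtop
    have hlt := Cfsg.Agent.Helper12.PSL2Max.card_lt_of_lt hHM
    rw [hHcard] at hlt
    have hMne : Nat.card M ≠ Nat.card (Matrix.ProjectiveSpecialLinearGroup (Fin 2) F) :=
      fun h => hMtop (Subgroup.eq_top_of_card_eq M h)
    refine ⟨?_, ?_, ?_, ?_⟩
    · rintro ⟨e'⟩
      rw [Nat.card_congr e'.toEquiv, Cfsg.Agent.Helper12.PSL2Max.card_A4] at hlt
      omega
    · rintro ⟨e'⟩
      exact h16 ((Cfsg.Agent.S0803.result hF).1 ⟨M, ⟨e'⟩⟩)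
    · rintro ⟨e'⟩
      have h5d := (Cfsg.Agent.S0804.result hF).1 ⟨M, ⟨e'⟩⟩
      have hmod : p % 10 = 3 ∨ p % 10 = 5 ∨ p % 10 = 7 := by omega
      rcases hmod with h' | h' | h'
      · obtain ⟨t, ht⟩ : ∃ t, p = 10 * t + 3 := ⟨p / 10, by omega⟩
        have e2 : p * (p ^ 2 - 1) = 5 * (200 * t ^ 3 + 180 * t ^ 2 + 52 * t + 4) + 4 := by
          have e1 : p ^ 2 - 1 = 100 * t ^ 2 + 60 * t + 8 := by
            rw [ht]; ring_nf; omega
          rw [e1, ht]; ring
        omega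
      · have hp5 : p = 5 := by
          have h5p : 5 ∣ p := by omega
          exact ((Nat.prime_dvd_prime_iff_eq Nat.prime_five hpp).1 h5p).symm
        apply hMne
        rw [Nat.card_congr e'.toEquiv, Cfsg.Agent.Helper12.PSL2Max.card_A5]
        rw [hp5] at hG
        omega
      · obtain ⟨t, ht⟩ : ∃ t, p = 10 * t + 7 := ⟨p / 10, by omega⟩
        have e2 : p * (p ^ 2 - 1) = 5 * (200 * t ^ 3 + 420 * t ^ 2 + 292 * t + 67) + 1 := by
          have e1 : p ^ 2 - 1 = 100 * t ^ 2 + 140 * t + 48 := by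
            rw [ht]; ring_nf; omega
          rw [e1, ht]; ring
        omega
    · intro K _ _ m hm
      have hk2 : 2 ≤ Fintype.card K := Fintype.one_lt_card
      have hk := Cfsg.Agent.Helper13.DC.card_eq_of_pow_eq_prime hpp hk2 hm
      exact Cfsg.Agent.Helper13.DC.not_equiv_of_card_eq (by rw [hF]; exact hpodd) M hMtop K
        (by rw [hk, hF])

end Cfsg.Agent.S5940
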