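import Mathlib
import Cfsg.Statements.S5941
import Cfsg.Agent.S0805
import Cfsg.Agent.Lib.Helper12.PSL2Max3
import Cfsg.Agent.Lib.Helper13.DicksonCor2

set_option autoImplicit false
open Cfsg

namespace Cfsg.Agent.S5941

/-- Let K and F be finite fields of odd characteristic with #F = (#K)². Then PSL_2(F) has a maximal subgroup isomorphic to PGL_2(K). -/
theorem result {F K : Type*} [Field F] [Fintype F] [Field K] [Fintype K] (q : ℕ) (hK : Fintype.card K = q) (hF : Fintype.card F = q ^ 2) (hq : Odd q) : ∃ H : Subgroup (Matrix.ProjectiveSpecialLinearGroup (Fin 2) F), IsCoatom H ∧ Nonempty (H ≃* Matrix.ProjGenLinGroup (Fin 2) K) := by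
  classical
  haveI hpF : Fact (ringChar F).Prime := ⟨CharP.char_is_prime F (ringChar F)⟩
  have hQodd : Odd (q ^ 2) := hq.pow
  have hp2 : ringChar F ≠ 2 := by
    intro h
    have := FiniteField.even_card_of_char_two h
    rw [hF] at this
    rw [Nat.odd_iff] at hQodd
    omega
  have hK2 : (2 : K) ≠ 0 := by
    apply Ring.two_ne_zero
    intro h
    have := FiniteField.even_card_of_char_two h
    rw [hK] at this
    rw [Nat.odd_iff] at hq
    omega
  obtain ⟨H, ⟨e⟩⟩ := (Cfsg.Agent.S0805.result (F := F) (K := K) hF hQodd 2 (by norm_num)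
    (by rw [hK])).2.2 (by decide)
  have hHcard : Nat.card H = q * (q - 1) * (q + 1) := by
    rw [Nat.card_congr e.toEquiv, Cfsg.Agent.Helper12.PSL2Max.card_PGL2' K hK]
  have hG := Cfsg.Agent.Helper12.PSL2Max.card_PSL2_mul' F hF
  rw [Cfsg.Agent.Helper12.PSL2Max.gcd_two_odd hQodd] at hG
  have hq3 : 3 ≤ q := by
    have : 2 ≤ q := by rw [← hK]; exact Fintype.one_lt_card
    rw [Nat.odd_iff] at hq
    omega
  obtain ⟨k, hk⟩ := hq
  have hk1 : 1 ≤ k := by omega
  have e1 : q - 1 = 2 * k := by omega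
  have e2 : q ^ 2 - 1 = 4 * k ^ 2 + 4 * k := by
    rw [hk]; ring_nf; omega
  have hH' : Nat.card H = 4 * k * (k + 1) * (2 * k + 1) := by
    rw [hHcard, e1, hk]; ring
  have hG' : Nat.card (Matrix.ProjectiveSpecialLinearGroup (Fin 2) F) =
      Nat.card H * ((2 * k + 1) * (2 * k ^ 2 + 2 * k + 1)) := by
    apply Nat.eq_of_mul_eq_mul_left (by norm_num : 0 < 2)
    rw [hG, hH', e2, hk]; ring
  have hH24 : 24 ≤ Nat.card H := by
    rw [hH']
    calc 24 = 4 * 1 * (1 + 1) * (2 * 1 + 1) := by norm_num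
      _ ≤ 4 * k * (k + 1) * (2 * k + 1) := by gcongr
  have hmono : ∀ a b : ℕ, a ≤ b → a * (a - 1) * (a + 1) ≤ b * (b - 1) * (b + 1) := by
    intro a b hab
    have : a - 1 ≤ b - 1 := by omega
    gcongr
  refine ⟨H, ?_, ⟨e⟩⟩
  apply Cfsg.Agent.Helper12.PSL2Max.isCoatom_of_dickson (ringChar F) hF H
  · intro htop
    have h1 : Nat.card H = Nat.card (Matrix.ProjectiveSpecialLinearGroup (Fin 2) F) := by
      rw [htop]; exact Subgroup.card_top
    rw [hG'] at h1
    have h5 : 3 * 5 ≤ (2 * k + 1) * (2 * k ^ 2 + 2 * k + 1) := by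
      apply Nat.mul_le_mul
      · omega
      · have : 1 ≤ k ^ 2 := Nat.one_le_pow _ _ hk1
        omega
    have : Nat.card H * 15 ≤ Nat.card H * ((2 * k + 1) * (2 * k ^ 2 + 2 * k + 1)) :=
      Nat.mul_le_mul_left _ h5
    omega
  · intro hc
    exact Cfsg.Agent.Helper13.DC.not_isCyclic_commutator_PGL2 hK2
      (Cfsg.Agent.Helper12.PSL2Max.isCyclic_commutator_of_injective e.symm.toMonoidHom
        e.symm.injective hc)
  · intro hc
    exact Cfsg.Agent.Helper13.DC.not_isPGroup_commutator_PGL2 hK2 (ringChar F) hpF.out hp2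
      (Cfsg.Agent.Helper12.PSL2Max.isPGroup_commutator_of_injective e.symm.toMonoidHom
        e.symm.injective hc)
  · intro M hHM hMtop
    have hlt := Cfsg.Agent.Helper12.PSL2Max.card_lt_of_lt hHM
    have hdvd : Nat.card H ∣ Nat.card M := Subgroup.card_dvd_of_le hHM.le
    refine ⟨?_, ?_, ?_, ?_⟩
    · rintro ⟨e'⟩
      rw [Nat.card_congr e'.toEquiv, Cfsg.Agent.Helper12.PSL2Max.card_A4] at hlt
      omega
    · rintro ⟨e'⟩
      rw [Nat.card_congr e'.toEquiv, Cfsg.Agent.Helper12.PSL2Max.card_S4] at hlt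
      omega
    · rintro ⟨e'⟩
      rw [Nat.card_congr e'.toEquiv, Cfsg.Agent.Helper12.PSL2Max.card_A5] at hlt hdvd
      have hle := Nat.le_of_dvd (by norm_num) hdvd
      have hcases : Nat.card H ∈ Finset.Icc 24 60 := Finset.mem_Icc.2 ⟨hH24, hle⟩
      have hk1' : k = 1 := by
        by_contra hne
        have hk2 : 2 ≤ k := by omega
        have : 4 * 2 * (2 + 1) * (2 * 2 + 1) ≤ 4 * k * (k + 1) * (2 * k + 1) := by gcongr
        omega
      rw [hH', hk1'] at hdvd
      norm_num at hdvd
    · intro K' _ _ m hm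
      have hk2 : 2 ≤ Fintype.card K' := Fintype.one_lt_card
      have key : Nat.card M ≤ Fintype.card K' * (Fintype.card K' - 1) * (Fintype.card K' + 1) →
          Fintype.card K' = Fintype.card F := by
        intro hle
        have hqk : q < Fintype.card K' := by
          by_contra hcon
          have := hmono _ _ (not_lt.1 hcon)
          rw [hHcard] at hlt
          omega
        have hm2 : m < 2 := by
          by_contra hcon
          have h1 : Fintype.card K' ^ 2 ≤ Fintype.card K' ^ m :=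
            Nat.pow_le_pow_right (by omega) (not_lt.1 hcon)
          have h2 : q ^ 2 < Fintype.card K' ^ 2 := Nat.pow_lt_pow_left hqk (by norm_num)
          omega
        interval_cases m
        · rw [pow_zero] at hm
          have : 3 ^ 2 ≤ q ^ 2 := Nat.pow_le_pow_left hq3 2
          omega
        · rw [pow_one] at hm
          rw [hm, hF]
      constructor
      · rintro ⟨e'⟩
        have h1 := Cfsg.Agent.Helper12.PSL2Max.card_PSL2_mul' K' rfl
        rw [← Nat.card_congr e'.toEquiv] at h1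
        have hg := Cfsg.Agent.Helper12.PSL2Max.gcd_two_pos (Fintype.card K' - 1)
        have hKF := key (by
          calc Nat.card M = 1 * Nat.card M := (one_mul _).symm
            _ ≤ Nat.gcd 2 (Fintype.card K' - 1) * Nat.card M := Nat.mul_le_mul_right _ hg
            _ = _ := h1)
        exact (Cfsg.Agent.Helper13.DC.not_equiv_of_card_eq (by rw [hF]; exact hQodd) M hMtop K'
          hKF).1 ⟨e'⟩
      · rintro ⟨e'⟩
        have h1 := Cfsg.Agent.Helper12.PSL2Max.card_PGL2' K' rfl
        rw [← Nat.card_congr e'.toEquiv] at h1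
        have hKF := key h1.le
        exact (Cfsg.Agent.Helper13.DC.not_equiv_of_card_eq (by rw [hF]; exact hQodd) M hMtop K'
          hKF).2 ⟨e'⟩

end Cfsg.Agent.S5941
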