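-- Statement S5942 (helper12).
import Mathlib
import Cfsg.Statements.S5942
import Cfsg.Agent.Lib.Helper12.PSL2Max5

set_option autoImplicit false
open Cfsg

namespace Cfsg.Agent.S5942

open Cfsg.Agent.Helper12.PSL2Max

theorem nine_pow_mod16 (t : ℕ) : 9 ^ t % 16 = 1 ∨ 9 ^ t % 16 = 9 := by
  induction t with
  | zero => left; norm_num
  | succ t ih =>
    rw [pow_succ, Nat.mul_mod]
    rcases ih with h | h <;> rw [h] <;> norm_num

theorem nine_pow_mod5 (t : ℕ) : 9 ^ t % 5 = 1 ∨ 9 ^ t % 5 = 4 := by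
  induction t with
  | zero => left; norm_num
  | succ t ih =>
    rw [pow_succ, Nat.mul_mod]
    rcases ih with h | h <;> rw [h] <;> norm_num

theorem not_sixteen_dvd {r : ℕ} (hr : Odd r) : ¬ 16 ∣ (3 ^ r - 1) * (3 ^ r + 1) := by
  obtain ⟨t, rfl⟩ := hr
  obtain ⟨Q, hQ⟩ : ∃ Q, Q = 3 ^ (2 * t + 1) := ⟨_, rfl⟩
  rw [← hQ]
  have h1 : Q % 16 = 3 ∨ Q % 16 = 11 := by
    have h0 : Q = 9 ^ t * 3 := by rw [hQ, pow_succ, pow_mul]; norm_num
    rw [h0, Nat.mul_mod]
    rcases nine_pow_mod16 t with h | h <;> rw [h] <;> norm_num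
  intro hd
  have h2 := Nat.mod_eq_zero_of_dvd hd
  rcases h1 with h | h
  · obtain ⟨s, hs⟩ : ∃ s, Q = 16 * s + 3 := ⟨Q / 16, by omega⟩
    have e1 : Q - 1 = 16 * s + 2 := by omega
    have e2 : (Q - 1) * (Q + 1) = 16 * (16 * s ^ 2 + 6 * s) + 8 := by rw [e1, hs]; ring
    omega
  · obtain ⟨s, hs⟩ : ∃ s, Q = 16 * s + 11 := ⟨Q / 16, by omega⟩
    have e1 : Q - 1 = 16 * s + 10 := by omega
    have e2 : (Q - 1) * (Q + 1) = 16 * (16 * s ^ 2 + 22 * s + 7) + 8 := by rw [e1, hs]; ring
    omega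

theorem not_five_dvd {r : ℕ} (hr : Odd r) : ¬ 5 ∣ 3 ^ r * (3 ^ r - 1) * (3 ^ r + 1) := by
  obtain ⟨t, rfl⟩ := hr
  obtain ⟨Q, hQ⟩ : ∃ Q, Q = 3 ^ (2 * t + 1) := ⟨_, rfl⟩
  rw [← hQ]
  have h1 : Q % 5 = 3 ∨ Q % 5 = 2 := by
    have h0 : Q = 9 ^ t * 3 := by rw [hQ, pow_succ, pow_mul]; norm_num
    rw [h0, Nat.mul_mod]
    rcases nine_pow_mod5 t with h | h <;> rw [h] <;> norm_num
  intro hd
  have h2 := Nat.mod_eq_zero_of_dvd hd
  rcases h1 with h | h
  · obtain ⟨s, hs⟩ : ∃ s, Q = 5 * s + 3 := ⟨Q / 5, by omega⟩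
    have e1 : Q - 1 = 5 * s + 2 := by omega
    have e2 : Q * (Q - 1) * (Q + 1) = 5 * (25 * s ^ 3 + 45 * s ^ 2 + 26 * s + 4) + 4 := by
      rw [e1, hs]; ring
    omega
  · obtain ⟨s, hs⟩ : ∃ s, Q = 5 * s + 2 := ⟨Q / 5, by omega⟩
    have e1 : Q - 1 = 5 * s + 1 := by omega
    have e2 : Q * (Q - 1) * (Q + 1) = 5 * (25 * s ^ 3 + 30 * s ^ 2 + 11 * s + 1) + 1 := by
      rw [e1, hs]; ring
    omega

/-- Let K and F be finite fields of odd characteristic with #F = (#K)^r for an odd prime r. Then PSL_2(F) has a maximal subgroup isomorphic to PSL_2(K). -/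
theorem result {F K : Type*} [Field F] [Fintype F] [Field K] [Fintype K] (q r : ℕ) (hK : Fintype.card K = q) (hF : Fintype.card F = q ^ r) (hq : Odd q) (hr : r.Prime) (hr2 : r ≠ 2) : ∃ H : Subgroup (Matrix.ProjectiveSpecialLinearGroup (Fin 2) F), IsCoatom H ∧ Nonempty (H ≃* Matrix.ProjectiveSpecialLinearGroup (Fin 2) K) := by
  classical
  have hq2' : 2 ≤ q := by rw [← hK]; exact Fintype.one_lt_card
  have hq3 : 3 ≤ q := by
    obtain ⟨t, ht⟩ := hq
    omega
  have hrodd : Odd r := hr.odd_of_ne_two hr2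
  obtain ⟨p, hpK⟩ := CharP.exists K
  have hpp : p.Prime := CharP.char_is_prime K p
  haveI : Fact p.Prime := ⟨hpp⟩
  obtain ⟨e, he1, hKe⟩ := exists_card_eq_pow K p
  rw [hK] at hKe
  have hp2 : p ≠ 2 := by
    rintro rfl
    rw [hKe, Nat.odd_pow_iff (by omega)] at hq
    exact absurd hq (by decide)
  have hp3 : 3 ≤ p := by
    have := hpp.two_le
    omega
  obtain ⟨ι⟩ := Cfsg.Agent.Helper28.SubfieldPSL2.exists_ringHom (K := K) (F := F) (m := r)
    (by rw [hK, hF])
  haveI : CharP F p := charP_of_injective_ringHom ι.injective p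
  obtain ⟨H, ⟨e0⟩⟩ := Cfsg.Agent.Helper28.SubfieldPSL2.exists_psl_subgroup (F := F) ι
  obtain ⟨Q, hQ⟩ : ∃ Q, Q = q ^ r := ⟨_, rfl⟩
  rw [← hQ] at hF
  have hQodd : Odd Q := by rw [hQ]; exact hq.pow
  have hqQ : q < Q := by
    rw [hQ]
    calc q = q ^ 1 := (pow_one q).symm
      _ < q ^ r := Nat.pow_lt_pow_right (by omega) hr.one_lt
  have hGcard : 2 * Nat.card (Matrix.ProjectiveSpecialLinearGroup (Fin 2) F) =
      Q * (Q - 1) * (Q + 1) := by
    have := card_PSL2_mul' F hF
    rwa [gcd_two_odd hQodd] at this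
  have hHcard : 2 * Nat.card H = q * (q - 1) * (q + 1) := by
    rw [Nat.card_congr e0.toEquiv]
    have := card_PSL2_mul' K hK
    rwa [gcd_two_odd hq] at this
  have hQe : Q = p ^ (e * r) := by rw [hQ, hKe, pow_mul]
  have hthree : q = 3 → (3 : K) = 0 ∧ p = 3 ∧ Q = 3 ^ r := by
    intro h3
    have h1 : p ∣ 3 := by rw [← h3, hKe]; exact dvd_pow_self p (by omega)
    have h2 : p = 3 := (Nat.prime_dvd_prime_iff_eq hpp Nat.prime_three).1 h1
    refine ⟨?_, h2, by rw [hQ, h3]⟩
    have := CharP.cast_eq_zero K p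
    rw [h2] at this
    exact_mod_cast this
  have h24 : 3 * 2 * 4 ≤ q * (q - 1) * (q + 1) :=
    Nat.mul_le_mul (Nat.mul_le_mul hq3 (by omega)) (by omega)
  have hq_of_lt : q * (q - 1) * (q + 1) < 120 → q = 3 := by
    intro h
    by_contra hne
    have h5 : 5 ≤ q := by
      obtain ⟨t, ht⟩ := hq
      omega
    have : 5 * 4 * 6 ≤ q * (q - 1) * (q + 1) :=
      Nat.mul_le_mul (Nat.mul_le_mul h5 (by omega)) (by omega)
    omega
  refine ⟨H, ?_, ⟨e0⟩⟩
  apply isCoatom_of_dickson p hF H
  · intro htop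
    have h1 : Nat.card H = Nat.card (Matrix.ProjectiveSpecialLinearGroup (Fin 2) F) := by
      rw [htop]; exact Subgroup.card_top
    have := ord_strict hq2' hqQ
    omega
  · intro hc
    have hc' := isCyclic_commutator_of_injective e0.symm.toMonoidHom e0.symm.injective hc
    by_cases h3 : q = 3
    · exact not_isCyclic_commutator_three (hthree h3).1 hc'
    · have h5 : 4 ≤ q := by omega
      exact not_isCyclic_commutator_PSL2 K (by rw [hK]; exact h5) hc'
  · intro hc
    have hc' := isPGroup_commutator_of_injective e0.symm.toMonoidHom e0.symm.injective hc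
    by_cases h3 : q = 3
    · exact not_isPGroup_commutator_three (hthree h3).1 p hp2 hc'
    · have h5 : 4 ≤ q := by omega
      exact not_isPGroup_commutator_PSL2 K (by rw [hK]; exact h5) p hc'
  · intro M hHM hMtop
    have hlt := card_lt_of_lt hHM
    have hMdvd : Nat.card M ∣ Nat.card (Matrix.ProjectiveSpecialLinearGroup (Fin 2) F) :=
      Subgroup.card_subgroup_dvd_card M
    have hMne : Nat.card M ≠ Nat.card (Matrix.ProjectiveSpecialLinearGroup (Fin 2) F) :=
      fun h => hMtop (Subgroup.eq_top_of_card_eq M h)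
    have hMle := Nat.le_of_dvd Nat.card_pos hMdvd
    have hHdvd : Nat.card H ∣ Nat.card M := Subgroup.card_dvd_of_le hHM.le
    refine ⟨?_, ?_, ?_, ?_⟩
    · rintro ⟨e'⟩
      rw [Nat.card_congr e'.toEquiv, card_A4] at hlt
      omega
    · rintro ⟨e'⟩
      have hM24 : Nat.card M = 24 := by rw [Nat.card_congr e'.toEquiv, card_S4]
      rw [hM24] at hlt hMdvd
      have h3 : q = 3 := hq_of_lt (by omega)
      obtain ⟨-, -, hQ3⟩ := hthree h3
      have h1 : 48 ∣ Q * (Q - 1) * (Q + 1) := by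
        rw [← hGcard]
        exact Nat.mul_dvd_mul (dvd_refl 2) hMdvd
      have h2 : 16 ∣ Q * ((Q - 1) * (Q + 1)) := by
        rw [← mul_assoc]
        exact dvd_trans (by norm_num) h1
      have hcop : Nat.Coprime 16 Q := by
        have : Nat.Coprime (2 ^ 4) Q := Nat.Coprime.pow_left 4 (Nat.coprime_two_left.2 hQodd)
        simpa using this
      have h4 := hcop.dvd_of_dvd_mul_left h2
      rw [hQ3] at h4
      exact not_sixteen_dvd hrodd h4
    · rintro ⟨e'⟩
      have hM60 : Nat.card M = 60 := by rw [Nat.card_congr e'.toEquiv, card_A5]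
      rw [hM60] at hlt hMdvd
      have h3 : q = 3 := hq_of_lt (by omega)
      obtain ⟨-, -, hQ3⟩ := hthree h3
      have h1 : 5 ∣ Q * (Q - 1) * (Q + 1) := by
        rw [← hGcard]
        exact Dvd.dvd.mul_left (dvd_trans (by norm_num) hMdvd) 2
      rw [hQ3] at h1
      exact not_five_dvd hrodd h1
    · intro K' _ _ m hm
      obtain ⟨k, hk⟩ : ∃ k, Fintype.card K' = k := ⟨_, rfl⟩
      rw [hk] at hm
      have hk2 : 2 ≤ k := by rw [← hk]; exact Fintype.one_lt_card
      have hm0 : m ≠ 0 := by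
        rintro rfl
        rw [pow_zero] at hm
        omega
      have hkdvd : k ∣ p ^ (e * r) := by rw [← hQe, ← hm]; exact dvd_pow_self k hm0
      obtain ⟨a, -, hka⟩ := (Nat.dvd_prime_pow hpp).1 hkdvd
      have ha1 : 1 ≤ a := by
        by_contra hcon
        have : a = 0 := by omega
        rw [this, pow_zero] at hka
        omega
      have hkodd : Odd k := by
        rw [hka]; exact (Nat.Prime.odd_of_ne_two hpp hp2).pow
      have ham : a * m = e * r := by
        apply Nat.pow_right_injective hpp.two_le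
        show p ^ (a * m) = p ^ (e * r)
        rw [pow_mul, ← hka, hm, hQe]
      -- the common consequence of `f(q) ∣ 2 f(k)`
      have key : q * (q - 1) * (q + 1) ∣ 2 * (k * (k - 1) * (k + 1)) → k = q ∨ k = Q := by
        intro hd
        have h1 : (q - 1) * (q + 1) ∣ k * (2 * ((k - 1) * (k + 1))) := by
          have : (q - 1) * (q + 1) ∣ q * (q - 1) * (q + 1) := ⟨q, by ring⟩
          have h2 := dvd_trans this hd
          have e1 : 2 * (k * (k - 1) * (k + 1)) = k * (2 * ((k - 1) * (k + 1))) := by ring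
          rwa [e1] at h2
        have hcop : Nat.Coprime ((q - 1) * (q + 1)) k := by
          rw [hka]
          apply Nat.Coprime.pow_right
          rw [Nat.coprime_comm, Nat.Prime.coprime_iff_not_dvd hpp]
          intro hpd
          rw [pred_mul_succ q (by omega)] at hpd
          have hpq : p ∣ q ^ 2 := by
            rw [hKe, ← pow_mul]; exact dvd_pow_self p (by omega)
          have h1q : 1 ≤ q ^ 2 := Nat.one_le_pow _ _ (by omega)
          have : p ∣ q ^ 2 - (q ^ 2 - 1) := Nat.dvd_sub hpq hpd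
          have h11 : q ^ 2 - (q ^ 2 - 1) = 1 := by omega
          rw [h11, Nat.dvd_one] at this
          omega
        have h2 : (q - 1) * (q + 1) ∣ 2 * ((k - 1) * (k + 1)) := hcop.dvd_of_dvd_mul_left h1
        rw [pred_mul_succ q (by omega), pred_mul_succ k (by omega), hKe, hka, ← pow_mul,
          ← pow_mul, mul_comm e 2, mul_comm a 2] at h2
        rcases exponent_cases hpp.two_le he1 hr ham h2 with h4 | h4
        · left; rw [hka, h4, ← hKe]
        · right; rw [hka, h4, ← hQe]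
      constructor
      · rintro ⟨e'⟩
        have hMk : 2 * Nat.card M = k * (k - 1) * (k + 1) := by
          rw [Nat.card_congr e'.toEquiv]
          have := card_PSL2_mul' K' hk
          rwa [gcd_two_odd hkodd] at this
        have hd : q * (q - 1) * (q + 1) ∣ 2 * (k * (k - 1) * (k + 1)) := by
          rw [← hHcard, ← hMk]
          exact Dvd.dvd.mul_left (Nat.mul_dvd_mul (dvd_refl 2) hHdvd) 2
        rcases key hd with h | h
        · rw [h] at hMk
          omega
        · rw [h] at hMk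
          omega
      · rintro ⟨e'⟩
        have hMk : Nat.card M = k * (k - 1) * (k + 1) := by
          rw [Nat.card_congr e'.toEquiv]
          exact card_PGL2' K' hk
        have hd : q * (q - 1) * (q + 1) ∣ 2 * (k * (k - 1) * (k + 1)) := by
          rw [← hHcard, ← hMk]
          exact Nat.mul_dvd_mul (dvd_refl 2) hHdvd
        rcases key hd with h | h
        · -- `PGL₂(q)` does not embed
          have hnd := Cfsg.Agent.Helper28.SubfieldPSL2.not_dvd_of_odd (F := F) (K := K')
            (by rw [hF]; exact hQodd) hrodd (by rw [hk, h, hF, hQ])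
          apply hnd
          rw [← Nat.card_congr e'.toEquiv]
          exact hMdvd
        · rw [h] at hMk
          have h0 : 0 < Nat.card (Matrix.ProjectiveSpecialLinearGroup (Fin 2) F) := Nat.card_pos
          omega

end Cfsg.Agent.S5942
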