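-- Statement S5943 (helper12).
import Mathlib
import Cfsg.Statements.S5943
import Cfsg.Agent.Lib.Helper12.PSL2Max4

set_option autoImplicit false
open Cfsg

namespace Cfsg.Agent.S5943

open Cfsg.Agent.Helper12.PSL2Max

/-- Let K and F be finite fields of characteristic 2 with #K = q > 2 and #F = q^r for a prime r. Then PSL_2(F) has a maximal subgroup isomorphic to PSL_2(K) (which equals PGL_2(K) in characteristic 2). -/
theorem result {F K : Type*} [Field F] [Fintype F] [Field K] [Fintype K] (q r : ℕ) (hK : Fintype.card K = q) (hF : Fintype.card F = q ^ r) (hq : Even q) (hq2 : q ≠ 2) (hr : r.Prime) : ∃ H : Subgroup (Matrix.ProjectiveSpecialLinearGroup (Fin 2) F), IsCoatom H ∧ Nonempty (H ≃* Matrix.ProjectiveSpecialLinearGroup (Fin 2) K) := by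
  classical
  have hq2' : 2 ≤ q := by rw [← hK]; exact Fintype.one_lt_card
  have hq4 : 4 ≤ q := by
    obtain ⟨t, ht⟩ := hq
    omega
  have hFeven : Even (q ^ r) := (Nat.even_pow.2 ⟨hq, hr.ne_zero⟩)
  have hF2 : ringChar F = 2 := by
    rw [FiniteField.even_card_iff_char_two, hF]
    exact Nat.even_iff.1 hFeven
  haveI : CharP F 2 := ringChar.of_eq hF2
  have hK2 : ringChar K = 2 := by
    rw [FiniteField.even_card_iff_char_two, hK]
    exact Nat.even_iff.1 hq
  haveI : CharP K 2 := ringChar.of_eq hK2
  haveI : Fact (Nat.Prime 2) := ⟨Nat.prime_two⟩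
  obtain ⟨e, he1, hKe⟩ := exists_card_eq_pow K 2
  rw [hK] at hKe
  obtain ⟨ι⟩ := Cfsg.Agent.Helper28.SubfieldPSL2.exists_ringHom (K := K) (F := F) (m := r)
    (by rw [hK, hF])
  obtain ⟨H, ⟨e0⟩⟩ := Cfsg.Agent.Helper28.SubfieldPSL2.exists_psl_subgroup (F := F) ι
  obtain ⟨Q, hQ⟩ : ∃ Q, Q = q ^ r := ⟨_, rfl⟩
  rw [← hQ] at hF hFeven
  have hqQ : q < Q := by
    rw [hQ]
    calc q = q ^ 1 := (pow_one q).symm
      _ < q ^ r := Nat.pow_lt_pow_right (by omega) hr.one_lt
  have hGcard : Nat.card (Matrix.ProjectiveSpecialLinearGroup (Fin 2) F) =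
      Q * (Q - 1) * (Q + 1) := by
    have := card_PSL2_mul' F hF
    rwa [gcd_two_even hFeven (by omega), one_mul] at this
  have hHcard : Nat.card H = q * (q - 1) * (q + 1) := by
    rw [Nat.card_congr e0.toEquiv]
    have := card_PSL2_mul' K hK
    rwa [gcd_two_even hq (by omega), one_mul] at this
  refine ⟨H, ?_, ⟨e0⟩⟩
  apply isCoatom_of_dickson 2 hF H
  · intro htop
    have h1 : Nat.card H = Nat.card (Matrix.ProjectiveSpecialLinearGroup (Fin 2) F) := by
      rw [htop]; exact Subgroup.card_top
    rw [hHcard, hGcard] at h1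
    have := ord_strict hq2' hqQ
    omega
  · intro hc
    exact not_isCyclic_commutator_PSL2 K (by rw [hK]; exact hq4)
      (isCyclic_commutator_of_injective e0.symm.toMonoidHom e0.symm.injective hc)
  · intro hc
    exact not_isPGroup_commutator_PSL2 K (by rw [hK]; exact hq4) 2
      (isPGroup_commutator_of_injective e0.symm.toMonoidHom e0.symm.injective hc)
  · intro M hHM hMtop
    have hlt := card_lt_of_lt hHM
    rw [hHcard] at hlt
    have hMdvd : Nat.card M ∣ Nat.card (Matrix.ProjectiveSpecialLinearGroup (Fin 2) F) :=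
      Subgroup.card_subgroup_dvd_card M
    have hMne : Nat.card M ≠ Nat.card (Matrix.ProjectiveSpecialLinearGroup (Fin 2) F) :=
      fun h => hMtop (Subgroup.eq_top_of_card_eq M h)
    have hHdvd : q * (q - 1) * (q + 1) ∣ Nat.card M := by
      rw [← hHcard]; exact Subgroup.card_dvd_of_le hHM.le
    have h60 : 4 * 3 * 5 ≤ q * (q - 1) * (q + 1) :=
      Nat.mul_le_mul (Nat.mul_le_mul hq4 (by omega)) (by omega)
    refine ⟨?_, ?_, ?_, ?_⟩
    · rintro ⟨e'⟩
      rw [Nat.card_congr e'.toEquiv, card_A4] at hlt
      omega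
    · rintro ⟨e'⟩
      rw [Nat.card_congr e'.toEquiv, card_S4] at hlt
      omega
    · rintro ⟨e'⟩
      rw [Nat.card_congr e'.toEquiv, card_A5] at hlt
      omega
    · intro K' _ _ m hm
      obtain ⟨k, hk⟩ : ∃ k, Fintype.card K' = k := ⟨_, rfl⟩
      rw [hk] at hm
      have hk2 : 2 ≤ k := by rw [← hk]; exact Fintype.one_lt_card
      have hm0 : m ≠ 0 := by
        rintro rfl
        rw [pow_zero] at hm
        omega
      have hQe : Q = 2 ^ (e * r) := by rw [hQ, hKe, pow_mul]
      have hkdvd : k ∣ 2 ^ (e * r) := by rw [← hQe, ← hm]; exact dvd_pow_self k hm0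
      obtain ⟨a, -, hka⟩ := (Nat.dvd_prime_pow Nat.prime_two).1 hkdvd
      have ha1 : 1 ≤ a := by
        by_contra hcon
        have : a = 0 := by omega
        rw [this, pow_zero] at hka
        omega
      have hkeven : Even k := by
        rw [hka]; exact (Nat.even_pow.2 ⟨even_two, by omega⟩)
      have ham : a * m = e * r := by
        apply Nat.pow_right_injective (le_refl 2)
        show 2 ^ (a * m) = 2 ^ (e * r)
        rw [pow_mul, ← hka, hm, hQe]
      have key : Nat.card M = k * (k - 1) * (k + 1) → False := by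
        intro hMk
        rw [hMk] at hlt hHdvd hMdvd hMne
        rw [hGcard] at hMdvd hMne
        have hqk : q < k := ord_lt_imp hlt
        have hkQ : k < Q := by
          apply ord_lt_imp
          have := Nat.le_of_dvd (Nat.mul_pos (Nat.mul_pos (by omega) (by omega)) (by omega)) hMdvd
          omega
        -- divisibility of the odd parts
        have h1 : (q - 1) * (q + 1) ∣ k * ((k - 1) * (k + 1)) := by
          have : (q - 1) * (q + 1) ∣ q * (q - 1) * (q + 1) := ⟨q, by ring⟩
          have h2 := dvd_trans this hHdvd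
          rwa [mul_assoc] at h2
        have hcop : Nat.Coprime ((q - 1) * (q + 1)) k := by
          rw [hka]
          apply Nat.Coprime.pow_right
          rw [Nat.coprime_two_right]
          apply Odd.mul
          · rw [Nat.odd_iff]
            obtain ⟨t, ht⟩ := hq
            omega
          · rw [Nat.odd_iff]
            obtain ⟨t, ht⟩ := hq
            omega
        have h2 : (q - 1) * (q + 1) ∣ (k - 1) * (k + 1) := hcop.dvd_of_dvd_mul_left h1
        rw [pred_mul_succ q (by omega), pred_mul_succ k (by omega), hKe, hka, ← pow_mul,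
          ← pow_mul, mul_comm e 2, mul_comm a 2] at h2
        have h3 : 2 ^ (2 * e) - 1 ∣ 2 * (2 ^ (2 * a) - 1) := Dvd.dvd.mul_left h2 2
        rcases exponent_cases (le_refl 2) he1 hr ham h3 with h4 | h4
        · rw [h4, ← hKe] at hka
          omega
        · rw [h4, ← hQe] at hka
          omega
      constructor
      · rintro ⟨e'⟩
        apply key
        rw [Nat.card_congr e'.toEquiv]
        have := card_PSL2_mul' K' hk
        rwa [gcd_two_even hkeven (by omega), one_mul] at this
      · rintro ⟨e'⟩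
        apply key
        rw [Nat.card_congr e'.toEquiv]
        exact card_PGL2' K' hk

end Cfsg.Agent.S5943
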