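import Mathlib
import Cfsg.Statements.S5945
import Cfsg.Agent.Lib.Helper29.SymSix
import Cfsg.Agent.Lib.Helper29.PointStab
import Cfsg.Agent.S5912

set_option autoImplicit false
open Cfsg

namespace Cfsg.Agent.S5945

open Equiv Cfsg.Agent.Helper29

theorem card6 : Fintype.card (Fin 6) = 6 := Fintype.card_fin 6

/-- every index 6 subgroup is isomorphic to the symmetric group of degree 5 -/
theorem iso_S5 (H : Subgroup (Perm (Fin 6))) (hH : H.index = 6) :
    Nonempty (H ≃* Perm (Fin 5)) := by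
  obtain ⟨e, he⟩ := exists_realization card6 H hH
  have hmap : H.map (e : Perm (Fin 6) →* Perm (Fin 6)) =
      MulAction.stabilizer (Perm (Fin 6)) (0 : Fin 6) := by
    ext g
    rw [MulAction.mem_stabilizer_iff]
    constructor
    · rintro ⟨h, hh, rfl⟩
      exact (he h).mp hh
    · intro hg
      refine ⟨e.symm g, ?_, MulEquiv.apply_symm_apply e g⟩
      show e.symm g ∈ H
      rw [he, MulEquiv.apply_symm_apply]
      exact hg
  have e1 : H ≃* H.map (e : Perm (Fin 6) →* Perm (Fin 6)) := e.subgroupMap H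
  have e2 : H.map (e : Perm (Fin 6) →* Perm (Fin 6)) ≃*
      MulAction.stabilizer (Perm (Fin 6)) (0 : Fin 6) := MulEquiv.subgroupCongr hmap
  have e3 : Perm {x : Fin 6 // x ≠ 0} ≃*
      (Equiv.Perm.ofSubtype : Perm {x : Fin 6 // x ≠ 0} →* Perm (Fin 6)).range :=
    MonoidHom.ofInjective Equiv.Perm.ofSubtype_injective
  have e4 : (Equiv.Perm.ofSubtype : Perm {x : Fin 6 // x ≠ 0} →* Perm (Fin 6)).range ≃*
      MulAction.stabilizer (Perm (Fin 6)) (0 : Fin 6) :=
    MulEquiv.subgroupCongr (range_ofSubtype_ne (0 : Fin 6))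
  have hc : Fintype.card {x : Fin 6 // x ≠ 0} = 5 := by
    rw [Fintype.card_subtype_compl, Fintype.card_subtype_eq]; rfl
  have e5 : Perm {x : Fin 6 // x ≠ 0} ≃* Perm (Fin 5) :=
    (Fintype.equivFinOfCardEq hc).permCongrHom
  exact ⟨e1.trans (e2.trans (e4.symm.trans (e3.symm.trans e5)))⟩

/-- The symmetric group S_6 has exactly 12 subgroups of index 6; each of them is isomorphic to S_5, and at least one of them is not the stabilizer of any point. -/
theorem result : Nat.card {H : Subgroup (Equiv.Perm (Fin 6)) // H.index = 6} = 12 ∧ (∀ H : Subgroup (Equiv.Perm (Fin 6)), H.index = 6 → Nonempty (H ≃* Equiv.Perm (Fin 5))) ∧ ∃ H : Subgroup (Equiv.Perm (Fin 6)), H.index = 6 ∧ ∀ a : Fin 6, H ≠ MulAction.stabilizer (Equiv.Perm (Fin 6)) a := by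
  obtain ⟨H₂, hH₂, htrans⟩ := exists_exotic card6
  have hH₂ne : ¬ ∃ x : Fin 6, H₂ = MulAction.stabilizer (Perm (Fin 6)) x := by
    rintro ⟨x, hx⟩
    obtain ⟨y, hy⟩ := exists_ne x
    obtain ⟨g, hg, hgx⟩ := htrans x y
    rw [hx, MulAction.mem_stabilizer_iff] at hg
    have : g x = x := hg
    rw [hgx] at this
    exact hy this
  refine ⟨?_, iso_S5, H₂, hH₂, fun a h => hH₂ne ⟨a, h⟩⟩
  obtain ⟨e₂, he₂⟩ := exists_realization card6 H₂ hH₂
  -- the twisted point stabilizers
  have hidxK : ∀ b : Fin 6, ((MulAction.stabilizer (Perm (Fin 6)) b).comap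
      (e₂ : Perm (Fin 6) →* Perm (Fin 6))).index = 6 := by
    intro b
    rw [Subgroup.index_comap_of_surjective _ e₂.surjective, Cfsg.Agent.S5911.index_stab, card6]
  have hmemK : ∀ (b : Fin 6) (g : Perm (Fin 6)),
      g ∈ (MulAction.stabilizer (Perm (Fin 6)) b).comap (e₂ : Perm (Fin 6) →* Perm (Fin 6)) ↔
        e₂ g b = b := fun b g => Iff.rfl
  -- K_b is a conjugate of H₂
  have hKconj : ∀ σ : Perm (Fin 6),
      (MulAction.stabilizer (Perm (Fin 6)) (e₂ σ 0)).comap (e₂ : Perm (Fin 6) →* Perm (Fin 6)) =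
        Subgroup.map (MulAut.conj σ).toMonoidHom H₂ := by
    intro σ
    ext g
    rw [hmemK]
    constructor
    · intro hg
      refine ⟨σ⁻¹ * g * σ, ?_, ?_⟩
      · show σ⁻¹ * g * σ ∈ H₂
        rw [he₂, map_mul, map_mul, map_inv]
        simp only [Perm.mul_apply]
        rw [hg, Perm.inv_def, Equiv.symm_apply_apply]
      · show σ * (σ⁻¹ * g * σ) * σ⁻¹ = g
        group
    · rintro ⟨h, hh, rfl⟩
      show e₂ (σ * h * σ⁻¹) (e₂ σ 0) = e₂ σ 0
      have h0 : e₂ h 0 = 0 := (he₂ h).mp hh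
      rw [map_mul, map_mul, map_inv]
      simp only [Perm.mul_apply]
      rw [Perm.inv_def, Equiv.symm_apply_apply, h0]
  have hKne : ∀ b a : Fin 6, MulAction.stabilizer (Perm (Fin 6)) a ≠
      (MulAction.stabilizer (Perm (Fin 6)) b).comap (e₂ : Perm (Fin 6) →* Perm (Fin 6)) := by
    intro b a heq
    obtain ⟨τ, hτ⟩ := MulAction.exists_smul_eq (Perm (Fin 6)) (0 : Fin 6) b
    have hτ' : e₂ (e₂.symm τ) 0 = b := by rw [MulEquiv.apply_symm_apply]; exact hτ
    rw [← hτ', hKconj] at heq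
    apply hH₂ne
    refine ⟨(e₂.symm τ)⁻¹ a, ?_⟩
    rw [← Cfsg.Agent.S5912.map_conj_stab, heq, Subgroup.map_map]
    have : (MulAut.conj (e₂.symm τ)⁻¹).toMonoidHom.comp (MulAut.conj (e₂.symm τ)).toMonoidHom =
        MonoidHom.id _ := by
      ext g x
      simp
    rw [this, Subgroup.map_id]
  -- the bijection
  let f : Fin 6 ⊕ Fin 6 → {H : Subgroup (Perm (Fin 6)) // H.index = 6} := fun x =>
    match x with
    | Sum.inl a => ⟨MulAction.stabilizer (Perm (Fin 6)) a, by
        rw [Cfsg.Agent.S5911.index_stab, card6]⟩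
    | Sum.inr b => ⟨(MulAction.stabilizer (Perm (Fin 6)) b).comap
        (e₂ : Perm (Fin 6) →* Perm (Fin 6)), hidxK b⟩
  have hf : Function.Bijective f := by
    constructor
    · rintro (a | b) (a' | b') hab
      · have := congrArg Subtype.val hab
        exact congrArg Sum.inl (stab_injective (by simp) this)
      · exact absurd (congrArg Subtype.val hab) (hKne b' a)
      · exact absurd (congrArg Subtype.val hab).symm (hKne b a')
      · have h1 := congrArg Subtype.val hab
        have h2 := Subgroup.comap_injective e₂.surjective h1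
        exact congrArg Sum.inr (stab_injective (by simp) h2)
    · rintro ⟨H, hH⟩
      by_cases hstab : ∃ x : Fin 6, H = MulAction.stabilizer (Perm (Fin 6)) x
      · obtain ⟨x, hx⟩ := hstab
        exact ⟨Sum.inl x, Subtype.ext hx.symm⟩
      · obtain ⟨g, hg⟩ := Cfsg.Agent.S5912.conj_of_exotic card6 H₂ H hH₂ hH hH₂ne hstab
        refine ⟨Sum.inr (e₂ g 0), Subtype.ext ?_⟩
        show (MulAction.stabilizer (Perm (Fin 6)) (e₂ g 0)).comap
          (e₂ : Perm (Fin 6) →* Perm (Fin 6)) = H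
        rw [hKconj, hg]
  rw [← Nat.card_congr (Equiv.ofBijective f hf)]
  simp
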