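import Mathlib
import Cfsg.Statements.S5947
import Cfsg.Agent.Lib.Helper13.Singer
import Cfsg.Agent.Lib.Helper15.Zsigmondy

set_option autoImplicit false
open Cfsg

namespace Cfsg.Agent.S5947

open Cfsg.Agent.Helper13.SS Polynomial Module

/-- a prime power one less than a power of two is a prime -/
theorem exp_eq_one_of_pow_add_one {p k m : ℕ} (hp : p.Prime) (hk : 0 < k)
    (h : p ^ k + 1 = 2 ^ m) : k = 1 := by
  have hp2 : 2 ≤ p := hp.two_le
  have hpk : 2 ≤ p ^ k := by
    calc 2 ≤ p := hp2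
      _ = p ^ 1 := (pow_one p).symm
      _ ≤ p ^ k := Nat.pow_le_pow_right (by omega) hk
  have hm : 2 ≤ m := by
    by_contra hcon
    have : m = 0 ∨ m = 1 := by omega
    rcases this with rfl | rfl <;> simp at h <;> omega
  -- p is odd
  have hpodd : Odd p := by
    rcases hp.eq_two_or_odd' with rfl | ho
    · exfalso
      have h1 : (2 ^ k + 1) % 2 = 1 := by
        have : 2 ∣ 2 ^ k := dvd_pow_self 2 (by omega)
        omega
      have h2 : (2 ^ m) % 2 = 0 := by
        have : 2 ∣ 2 ^ m := dvd_pow_self 2 (by omega)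
        omega
      omega
    · exact ho
  rcases Nat.even_or_odd k with hke | hko
  · exfalso
    obtain ⟨j, rfl⟩ := hke
    have h1 : p ^ (j + j) = (p ^ j) * (p ^ j) := by rw [pow_add]
    have hoddj : Odd (p ^ j) := hpodd.pow
    obtain ⟨c, hc⟩ := hoddj
    have h2 : (p ^ (j + j) + 1) % 4 = 2 := by
      rw [h1, hc]
      have : (2 * c + 1) * (2 * c + 1) + 1 = 4 * (c * c + c) + 2 := by ring
      omega
    have h3 : (2 ^ m) % 4 = 0 := by
      have : 4 ∣ 2 ^ m := by
        have : (4 : ℕ) = 2 ^ 2 := by norm_num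
        rw [this]
        exact pow_dvd_pow 2 hm
      omega
    omega
  · by_contra hk1
    have hdvd : p + 1 ∣ p ^ k + 1 := by
      have := Odd.nat_add_dvd_pow_add_pow p 1 hko
      rwa [one_pow] at this
    rw [h] at hdvd
    obtain ⟨a, ha, hpa⟩ := (Nat.dvd_prime_pow Nat.prime_two).1 hdvd
    have hlt : p + 1 < p ^ k + 1 := by
      have : p ^ 1 < p ^ k := Nat.pow_lt_pow_right (by omega) (by
        obtain ⟨c, hc⟩ := hko
        omega)
      rw [pow_one] at this
      omega
    have ham : a < m := by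
      by_contra hcon
      have : a = m := by omega
      rw [this, ← h] at hpa
      omega
    have h1 : 2 ^ (a + 1) ∣ p ^ k + 1 := by
      rw [h]
      exact pow_dvd_pow 2 (by omega)
    -- p^2 ≡ 1 mod 2^(a+1)
    have hsq : p ^ 2 ≡ 1 [MOD 2 ^ (a + 1)] := by
      obtain ⟨c, hc⟩ := hpodd
      have h2 : p ^ 2 = 1 + 2 ^ (a + 1) * c := by
        have : p ^ 2 = (p + 1) * (p - 1) + 1 := by
          have : p = (p - 1) + 1 := by omega
          nlinarith [this]
        rw [this, hpa, hc]
        have : 2 * c + 1 - 1 = 2 * c := by omega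
        rw [this, pow_succ]
        ring
      rw [h2]
      have h3 : 1 + 2 ^ (a + 1) * c ≡ 1 + 0 [MOD 2 ^ (a + 1)] :=
        Nat.ModEq.add_left 1 ((Nat.modEq_zero_iff_dvd).2 (dvd_mul_right _ _))
      exact h3
    obtain ⟨j, hj⟩ := hko
    have hpk' : p ^ k ≡ p [MOD 2 ^ (a + 1)] := by
      have h5 : p ^ k = (p ^ 2) ^ j * p := by rw [hj, pow_succ, pow_mul]
      rw [h5]
      calc (p ^ 2) ^ j * p ≡ 1 ^ j * p [MOD 2 ^ (a + 1)] := (hsq.pow j).mul_right p
        _ = p := by rw [one_pow, one_mul]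
    have h3 : p ^ k + 1 ≡ p + 1 [MOD 2 ^ (a + 1)] := hpk'.add_right 1
    have h4 : 2 ^ (a + 1) ∣ p + 1 := by
      have := (Nat.modEq_zero_iff_dvd.2 h1).symm.trans h3
      exact Nat.modEq_zero_iff_dvd.1 this.symm
    rw [hpa] at h4
    have := Nat.le_of_dvd (by positivity) h4
    have : 2 ^ a < 2 ^ (a + 1) := Nat.pow_lt_pow_right (by omega) (by omega)
    omega

theorem orderOf_eq_of_ppd {q r n : ℕ} (hq : 1 ≤ q) (hn : 0 < n) (h1 : r ∣ q ^ n - 1)
    (h2 : ∀ k : ℕ, 0 < k → k < n → ¬ r ∣ q ^ k - 1) : orderOf (q : ZMod r) = n := by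
  have key : ∀ k : ℕ, (q : ZMod r) ^ k = 1 ↔ r ∣ q ^ k - 1 := by
    intro k
    have hk : 1 ≤ q ^ k := Nat.one_le_pow _ _ hq
    rw [← Nat.cast_pow, ← Nat.cast_one (R := ZMod r), ZMod.natCast_eq_natCast_iff, Nat.ModEq.comm,
      Nat.modEq_iff_dvd' hk]
  rw [orderOf_eq_iff hn]
  refine ⟨(key n).2 h1, fun m hm hm0 => ?_⟩
  rw [Ne, key m]
  exact h2 m hm0 hm

section
variable {F K : Type*} [Field F] [Fintype F] [Field K] [Fintype K] [Algebra F K]

/-- an irreducible divisor of `X ^ r - 1` has a root in `K` when `r ∣ |K| - 1` -/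
theorem exists_root_in (f : F[X]) (hf : Irreducible f) (r : ℕ) (hfr : f ∣ X ^ r - 1)
    (hr : r ∣ Fintype.card K - 1) : ∃ ζ : K, aeval ζ f = 0 := by
  have hcard : 1 < Fintype.card K := Fintype.one_lt_card
  set N := Fintype.card K with hN
  have h1 : (X ^ r - 1 : K[X]) ∣ X ^ (N - 1) - 1 := by
    obtain ⟨c, hc⟩ := hr
    rw [hc, pow_mul]
    exact sub_one_dvd_pow_sub_one (X ^ r) c
  have h2 : (X ^ (N - 1) - 1 : K[X]) ∣ X ^ N - X := by
    refine ⟨X, ?_⟩
    have : N = (N - 1) + 1 := by omega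
    conv_lhs => rw [this, pow_succ]
    ring
  have h3 : f.map (algebraMap F K) ∣ X ^ N - X := by
    have : f.map (algebraMap F K) ∣ (X ^ r - 1 : K[X]) := by
      have := Polynomial.map_dvd (algebraMap F K) hfr
      simpa using this
    exact this.trans (h1.trans h2)
  have hne : (X ^ N - X : K[X]) ≠ 0 := FiniteField.X_pow_card_sub_X_ne_zero K hcard
  have hsplit : (X ^ N - X : K[X]).Splits := by
    rw [splits_iff_card_roots, FiniteField.roots_X_pow_card_sub_X,
      FiniteField.X_pow_card_sub_X_natDegree_eq K hcard]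
    rfl
  have hs := hsplit.of_dvd hne h3
  have hdeg : (f.map (algebraMap F K)).degree ≠ 0 := by
    rw [degree_map]
    exact (Polynomial.degree_pos_of_irreducible hf).ne'
  obtain ⟨ζ, hζ⟩ := hs.exists_eval_eq_zero hdeg
  refine ⟨ζ, ?_⟩
  rw [aeval_def, ← eval_map]
  exact hζ

end

theorem result {F K : Type*} [Field F] [Fintype F] [Field K] [Fintype K] [Algebra F K] (n : ℕ) (hn : 2 ≤ n) (hdim : Module.finrank F K = n)
    (hex1 : ¬ (n = 6 ∧ Fintype.card F = 2))
    (hex2 : ¬ (n = 2 ∧ (Fintype.card F).Prime ∧ ∃ a : ℕ, Fintype.card F + 1 = 2 ^ a))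
    (U : Subgroup (Module.End F K)ˣ) (hU : IsMulCommutative U) (hcard : Nat.card U = Fintype.card K - 1) :
    ∃ g : (Module.End F K)ˣ, U.map (MulAut.conj g).toMonoidHom = (Units.map ((Algebra.lmul F K : K →ₐ[F] Module.End F K) : K →* Module.End F K)).range := by
  classical
  -- the characteristic
  obtain ⟨p, hpchar⟩ := CharP.exists F
  haveI : CharP F p := hpchar
  haveI : Fact p.Prime := ⟨CharP.char_is_prime F p⟩
  have hp : p.Prime := Fact.out
  set q := Fintype.card F with hq
  have hq1 : 1 < q := Fintype.one_lt_card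
  obtain ⟨k, hk, hqk⟩ := exists_card_pow (F := F) (p := p) (q := q) rfl
  have hKcard : Fintype.card K = q ^ n := by
    rw [Module.card_eq_pow_finrank (K := F) (V := K), hdim]
  -- a primitive prime divisor
  have hz2 : ¬ (n = 2 ∧ ∃ m : ℕ, q + 1 = 2 ^ m) := by
    rintro ⟨hn2, m, hm⟩
    apply hex2
    refine ⟨hn2, ?_, m, hm⟩
    have : k = 1 := exp_eq_one_of_pow_add_one hp hk (hqk ▸ hm)
    rw [hqk, this, pow_one]
    exact hp
  obtain ⟨r, hr, hrdvd, hrprim⟩ := Cfsg.Agent.Helper15.Zsig.zsigmondy q n hq1 (by omega)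
    (fun h => hex1 ⟨h.2, h.1⟩) hz2
  haveI : Fact r.Prime := ⟨hr⟩
  have hrp : r ≠ p := by
    rintro rfl
    have h1 : r ∣ q ^ n := by
      rw [hqk, ← pow_mul]
      exact dvd_pow_self r (by positivity)
    have h2 : r ∣ 1 := by
      have h3 : q ^ n - 1 + 1 = q ^ n := Nat.sub_add_cancel (Nat.one_le_pow _ _ (by omega))
      have := (Nat.dvd_add_right hrdvd).1 (h3 ▸ h1)
      exact this
    exact hr.one_lt.ne' (Nat.dvd_one.1 h2)
  have hord : orderOf (q : ZMod r) = Module.finrank F K := by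
    rw [hdim]
    exact orderOf_eq_of_ppd (by omega) (by omega) hrdvd hrprim
  -- an element of order r in U
  haveI : Finite (Module.End F K) :=
    Finite.of_injective (fun f => (f : K → K)) DFunLike.coe_injective
  obtain ⟨x, hx⟩ := exists_prime_orderOf_dvd_card' (G := U) r (by
    rw [hcard, hKcard]
    exact hrdvd)
  set xG : (Module.End F K)ˣ := (x : (Module.End F K)ˣ) with hxG
  set x₀ : Module.End F K := (xG : Module.End F K) with hx₀
  have hxGord : orderOf xG = r := by
    rw [hxG, Subgroup.orderOf_coe, hx]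
  have hx₀pow : x₀ ^ r = 1 := by
    rw [hx₀, ← Units.val_pow_eq_pow_val, ← hxGord, pow_orderOf_eq_one]
    rfl
  have hx₀ne : x₀ ≠ 1 := by
    intro h
    have : xG = 1 := Units.ext h
    rw [this, orderOf_one] at hxGord
    exact hr.one_lt.ne hxGord
  obtain ⟨f, hf, hfx⟩ := exists_factor_of_ppd (F := F) (V := K) (q := q) rfl hr hrp hord x₀
    hx₀pow hx₀ne
  have hfirr := cycFactors_irreducible hf
  have hfdeg : f.natDegree = Module.finrank F K := by
    rw [cycFactors_natDegree (q := q) rfl hr hrp hf, hord]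
  -- a root of f in K
  obtain ⟨ζ, hζ⟩ := exists_root_in (K := K) f hfirr r
    ((cycFactors_dvd hf).trans (cyclotomic.dvd_X_pow_sub_one r F)) (by rw [hKcard]; exact hrdvd)
  have hζ0 : ζ ≠ 0 := by
    rintro rfl
    have h1 : f ∣ X ^ r - 1 := (cycFactors_dvd hf).trans (cyclotomic.dvd_X_pow_sub_one r F)
    obtain ⟨c, hc⟩ := h1
    have h2 := congrArg (aeval (0 : K)) hc
    rw [map_mul, hζ, zero_mul, map_sub, map_pow, aeval_X, map_one, zero_pow hr.ne_zero,
      zero_sub] at h2
    exact one_ne_zero (neg_eq_zero.1 h2)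
  set M : Subgroup (Module.End F K)ˣ :=
    (Units.map ((Algebra.lmul F K : K →ₐ[F] Module.End F K) : K →* Module.End F K)).range with hM
  set x'G : (Module.End F K)ˣ :=
    Units.map ((Algebra.lmul F K : K →ₐ[F] Module.End F K) : K →* Module.End F K)
      (Units.mk0 ζ hζ0) with hx'G
  have hx'val : (x'G : Module.End F K) = Algebra.lmul F K ζ := rfl
  have hfx' : aeval (x'G : Module.End F K) f = 0 := by
    rw [hx'val, aeval_algHom_apply, hζ, map_zero]
  -- the intertwiner
  haveI : Fact (Irreducible f) := ⟨hfirr⟩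
  obtain ⟨T, hT⟩ := exists_equiv_of_irreducible f x₀ hfx (x'G : Module.End F K) hfx' rfl
  set g : (Module.End F K)ˣ := LinearMap.GeneralLinearGroup.ofLinearEquiv T with hg
  have hgx : g * xG * g⁻¹ = x'G := by
    rw [mul_inv_eq_iff_eq_mul]
    apply Units.ext
    apply LinearMap.ext
    intro v
    show T (x₀ v) = (x'G : Module.End F K) (T v)
    exact hT v
  -- U is the centraliser of xG
  have hcentU : U = Subgroup.centralizer ({xG} : Set (Module.End F K)ˣ) := by
    have hle : U ≤ Subgroup.centralizer ({xG} : Set (Module.End F K)ˣ) := by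
      intro u hu
      rw [Subgroup.mem_centralizer_iff]
      intro y hy
      rw [Set.mem_singleton_iff] at hy
      subst hy
      have := hU.is_comm.comm (⟨u, hu⟩ : U) x
      have h2 := congrArg Subtype.val this
      exact h2.symm
    have hbound := card_centralizer_le f hfirr hfdeg xG hfx
    rw [Nat.card_eq_fintype_card (α := K)] at hbound
    exact Subgroup.eq_of_le_of_card_ge hle (by rw [hcard]; exact hbound)
  have hMcard : Nat.card M = Fintype.card K - 1 := by
    rw [hM]
    have hinj : Function.Injective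
        (Units.map ((Algebra.lmul F K : K →ₐ[F] Module.End F K) : K →* Module.End F K)) := by
      apply Units.map_injective
      exact Algebra.lmul_injective
    rw [Nat.card_congr (MonoidHom.ofInjective hinj).toEquiv.symm, Nat.card_units,
      Nat.card_eq_fintype_card]
  have hcentM : M = Subgroup.centralizer ({x'G} : Set (Module.End F K)ˣ) := by
    have hle : M ≤ Subgroup.centralizer ({x'G} : Set (Module.End F K)ˣ) := by
      rintro _ ⟨u, rfl⟩
      rw [Subgroup.mem_centralizer_iff]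
      intro y hy
      rw [Set.mem_singleton_iff] at hy
      subst hy
      rw [hx'G, ← map_mul, ← map_mul, mul_comm]
    have hbound := card_centralizer_le f hfirr hfdeg x'G hfx'
    rw [Nat.card_eq_fintype_card (α := K)] at hbound
    exact Subgroup.eq_of_le_of_card_ge hle (by rw [hMcard]; exact hbound)
  refine ⟨g, ?_⟩
  rw [hcentM, hcentU]
  ext y
  rw [Subgroup.mem_map, Subgroup.mem_centralizer_iff]
  constructor
  · rintro ⟨z, hz, rfl⟩
    intro w hw
    rw [Set.mem_singleton_iff] at hw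
    subst hw
    have hzx : xG * z = z * xG := Subgroup.mem_centralizer_iff.1 hz xG rfl
    show x'G * (g * z * g⁻¹) = (g * z * g⁻¹) * x'G
    rw [← hgx]
    calc g * xG * g⁻¹ * (g * z * g⁻¹) = g * (xG * z) * g⁻¹ := by group
      _ = g * (z * xG) * g⁻¹ := by rw [hzx]
      _ = g * z * g⁻¹ * (g * xG * g⁻¹) := by group
  · intro hy
    have hyx : x'G * y = y * x'G := hy x'G rfl
    refine ⟨g⁻¹ * y * g, ?_, ?_⟩
    · rw [Subgroup.mem_centralizer_iff]
      intro w hw
      rw [Set.mem_singleton_iff] at hw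
      subst hw
      have hx2 : xG = g⁻¹ * x'G * g := by rw [← hgx]; group
      rw [hx2]
      calc g⁻¹ * x'G * g * (g⁻¹ * y * g) = g⁻¹ * (x'G * y) * g := by group
        _ = g⁻¹ * (y * x'G) * g := by rw [hyx]
        _ = g⁻¹ * y * g * (g⁻¹ * x'G * g) := by group
    · show g * (g⁻¹ * y * g) * g⁻¹ = y
      group

end Cfsg.Agent.S5947
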