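import Mathlib
import Cfsg.Statements.S5952

set_option autoImplicit false
open Cfsg
open Module

namespace Cfsg.Agent.S5952

variable {F V : Type*} [Field F] [AddCommGroup V] [Module F V] [FiniteDimensional F V]

/-- dimension of a disjoint sup -/
theorem finrank_sup_of_disjoint (s t : Submodule F V) (h : Disjoint s t) :
    finrank F ↥(s ⊔ t) = finrank F s + finrank F t := by
  have := Submodule.finrank_sup_add_finrank_inf_eq s t
  rw [disjoint_iff.mp h, finrank_bot, add_zero] at this
  exact this

/-- dimension of a finite sup of an independent family -/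
theorem finrank_biSup {ι : Type*} [DecidableEq ι] (t : ι → Submodule F V) (ht : iSupIndep t)
    (J : Finset ι) : finrank F ↥(⨆ i ∈ J, t i) = ∑ i ∈ J, finrank F (t i) := by
  induction J using Finset.induction_on with
  | empty => simp
  | insert i J hi ih =>
    rw [Finset.sum_insert hi, Finset.iSup_insert, finrank_sup_of_disjoint, ih]
    exact ht.disjoint_biSup (by simpa using hi)

/-- existence of a subspace of prescribed dimension inside a given one -/
theorem exists_le_finrank_eq (C : Submodule F V) (r : ℕ) (hr : r ≤ finrank F C) :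
    ∃ C' : Submodule F V, C' ≤ C ∧ finrank F C' = r := by
  obtain ⟨b, hb⟩ := exists_linearIndependent_of_le_finrank hr
  refine ⟨(Submodule.span F (Set.range b)).map C.subtype, ?_, ?_⟩
  · intro x hx
    obtain ⟨y, -, rfl⟩ := hx
    exact y.2
  · rw [(Submodule.equivMapOfInjective C.subtype C.injective_subtype _).symm.finrank_eq,
      finrank_span_eq_card hb, Fintype.card_fin]

/-- invariance of a supremum of invariant subspaces -/
theorem iSup_mem_invt {ι : Sort*} (f : V →ₗ[F] V) (t : ι → Submodule F V)
    (h : ∀ i, t i ∈ Module.End.invtSubmodule f) : (⨆ i, t i) ∈ Module.End.invtSubmodule f := by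
  rw [Module.End.mem_invtSubmodule]
  exact iSup_le fun i => ((Module.End.mem_invtSubmodule f).mp (h i)).trans
    (Submodule.comap_mono (le_iSup t i))

theorem biSup_mem_invt {ι : Type*} (f : V →ₗ[F] V) (t : ι → Submodule F V) (J : Finset ι)
    (h : ∀ i, t i ∈ Module.End.invtSubmodule f) : (⨆ i ∈ J, t i) ∈ Module.End.invtSubmodule f :=
  iSup_mem_invt f _ fun i => iSup_mem_invt f _ fun _ => h i

/-- invariant subspaces of a sum of irreducible invariant subspaces of dimension `a` have
dimension divisible by `a` -/
theorem dvd_finrank_of_le_biSup (f : V →ₗ[F] V) {s a : ℕ} (U : Fin s → Submodule F V)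
    (hUinv : ∀ j, U j ∈ Module.End.invtSubmodule f) (hUdim : ∀ j, finrank F ↥(U j) = a)
    (hUirr : ∀ j, ∀ W : Submodule F V, W ≤ U j → W ∈ Module.End.invtSubmodule f → W = ⊥ ∨ W = U j)
    (hind : iSupIndep U) (J : Finset (Fin s)) :
    ∀ X : Submodule F V, X ∈ Module.End.invtSubmodule f → X ≤ ⨆ j ∈ J, U j → a ∣ finrank F X := by
  induction J using Finset.induction_on with
  | empty =>
    intro X _ hX
    simp at hX
    rw [hX, finrank_bot]; exact dvd_zero a
  | insert j J hj ih =>
    intro X hXinv hX
    set T := ⨆ i ∈ J, U i with hT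
    have hTinv : T ∈ Module.End.invtSubmodule f := biSup_mem_invt f U J hUinv
    rw [Finset.iSup_insert] at hX
    have hdisj : Disjoint (U j) T := hind.disjoint_biSup (by simpa using hj)
    -- X ⊔ T = T ⊔ ((X ⊔ T) ⊓ U j)
    have hmod : X ⊔ T = T ⊔ ((X ⊔ T) ⊓ U j) := by
      have h1 : X ⊔ T ≤ T ⊔ U j := sup_le (hX.trans (by rw [sup_comm])) le_sup_left
      have h2 : (X ⊔ T) ⊓ (T ⊔ U j) = T ⊔ ((X ⊔ T) ⊓ U j) := by
        rw [inf_comm, sup_inf_assoc_of_le (U j) (le_sup_right : T ≤ X ⊔ T), inf_comm]
      rw [← h2, inf_eq_left.mpr h1]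
    have hYinv : (X ⊔ T) ⊓ U j ∈ Module.End.invtSubmodule f :=
      (Module.End.invtSubmodule f).inf_mem ((Module.End.invtSubmodule f).sup_mem hXinv hTinv) (hUinv j)
    have h3 := Submodule.finrank_sup_add_finrank_inf_eq X T
    have h4 : a ∣ finrank F ↥(X ⊓ T) :=
      ih (X ⊓ T) ((Module.End.invtSubmodule f).inf_mem hXinv hTinv) inf_le_right
    rcases hUirr j _ inf_le_right hYinv with h | h
    · rw [h, sup_bot_eq] at hmod
      rw [hmod] at h3
      have : finrank F ↥X = finrank F ↥(X ⊓ T) := by omega
      rw [this]; exact h4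
    · rw [h] at hmod
      rw [hmod, finrank_sup_of_disjoint T (U j) hdisj.symm, hUdim j] at h3
      have : finrank F ↥X = finrank F ↥(X ⊓ T) + a := by omega
      rw [this]; exact dvd_add h4 (dvd_refl a)

/-- Which dimensions of invariant subspaces a semisimple linear map has. Let `V` be a finite-dimensional vector space over a field `F` and `f` an invertible semisimple linear map of `V`. Suppose `V` is the internal direct sum of the fixed space `C_V(f)` (the eigenspace for 1) and subspaces `U_1, …, U_s`, each `f`-invariant of dimension `a ≥ 1` on which `f` acts irreducibly (no `f`-invariant subspaces other than 0 and `U_j`). Let `0 < m < dim V` and `ℓ = m mod a`. Then `f` leaves some `m`-dimensional subspace invariant if and only if `dim C_V(f) ≥ m`, or `a ≤ m` and `dim C_V(f) ≥ ℓ`. -/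
theorem result {F V : Type*} [Field F] [AddCommGroup V] [Module F V]
    [FiniteDimensional F V] (f : V →ₗ[F] V) (hf : Function.Bijective f) (hss : Module.End.IsSemisimple f)
    {s a : ℕ} (ha : 1 ≤ a) (U : Fin s → Submodule F V)
    (hUinv : ∀ j, (U j).map f ≤ U j) (hUdim : ∀ j, Module.finrank F ↥(U j) = a)
    (hUirr : ∀ j, ∀ W : Submodule F V, W ≤ U j → W.map f ≤ W → W = ⊥ ∨ W = U j)
    (hdec : DirectSum.IsInternal (fun o : Option (Fin s) => o.elim (Module.End.eigenspace f 1) U))
    (m : ℕ) (hm : 0 < m) (hmV : m < Module.finrank F V) :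
    (∃ W : Submodule F V, Module.finrank F ↥W = m ∧ W.map f ≤ W) ↔
    (m ≤ Module.finrank F ↥(Module.End.eigenspace f 1) ∨
      (a ≤ m ∧ m % a ≤ Module.finrank F ↥(Module.End.eigenspace f 1))) := by
  classical
  set C := Module.End.eigenspace f 1 with hC
  set t : Option (Fin s) → Submodule F V := fun o => o.elim C U with ht
  obtain ⟨hind, htop⟩ := (DirectSum.isInternal_submodule_iff_iSupIndep_and_iSup_eq_top t).mp hdec
  have hinv_iff : ∀ W : Submodule F V, W.map f ≤ W ↔ W ∈ Module.End.invtSubmodule f := by
    intro W
    rw [Module.End.mem_invtSubmodule, Submodule.map_le_iff_le_comap]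
  have hCinv : C ∈ Module.End.invtSubmodule f := by
    rw [← hinv_iff]
    rintro _ ⟨x, hx, rfl⟩
    have hx' : f x = x := by
      have := Module.End.mem_eigenspace_iff.mp hx
      simpa using this
    rw [hx']; exact hx
  have hUinv' : ∀ j, U j ∈ Module.End.invtSubmodule f := fun j => (hinv_iff _).mp (hUinv j)
  have hUirr' : ∀ j, ∀ W : Submodule F V, W ≤ U j → W ∈ Module.End.invtSubmodule f → W = ⊥ ∨ W = U j :=
    fun j W hW hWinv => hUirr j W hW ((hinv_iff _).mpr hWinv)
  have hindU : iSupIndep U := by
    have := hind.comp (f := fun j : Fin s => some j) (Option.some_injective _)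
    exact this
  -- the sum of the U's
  set T := ⨆ j, U j with hT
  have hTinv : T ∈ Module.End.invtSubmodule f := iSup_mem_invt f U hUinv'
  have hCT_disj : Disjoint C T := by
    have := hind none
    have h2 : (⨆ j, ⨆ (_ : j ≠ none), t j) = T := by
      apply le_antisymm
      · refine iSup_le fun o => iSup_le fun ho => ?_
        cases o with
        | none => exact absurd rfl ho
        | some j => exact le_iSup U j
      · refine iSup_le fun j => ?_
        exact le_iSup_of_le (some j) (le_iSup_of_le (by simp) le_rfl)
    rw [h2] at this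
    exact this
  have hCT_top : C ⊔ T = ⊤ := by
    rw [← htop]
    apply le_antisymm
    · refine sup_le (le_iSup t none) (iSup_le fun j => le_iSup t (some j))
    · refine iSup_le fun o => ?_
      cases o with
      | none => exact le_sup_left
      | some j => exact le_sup_of_le_right (le_iSup U j)
  have hTdim : finrank F T = s * a := by
    have h1 := finrank_biSup U hindU Finset.univ
    have h0 : (⨆ i ∈ (Finset.univ : Finset (Fin s)), U i) = T := by
      rw [hT]
      simp
    rw [h0] at h1
    rw [h1]
    simp [hUdim]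
  have hVdim : finrank F V = finrank F C + s * a := by
    rw [← hTdim, ← finrank_sup_of_disjoint C T hCT_disj, hCT_top, finrank_top]
  constructor
  · rintro ⟨W, hWdim, hWinv⟩
    rw [hinv_iff] at hWinv
    -- split W = (W ⊓ C) ⊕ W'
    have hWC : W ⊓ C ∈ Module.End.invtSubmodule f := (Module.End.invtSubmodule f).inf_mem hWinv hCinv
    obtain ⟨Q, hQinv, hQ⟩ := (Module.End.isSemisimple_iff.mp hss) (W ⊓ C) hWC
    set W' := W ⊓ Q with hW'
    have hW'inv : W' ∈ Module.End.invtSubmodule f := (Module.End.invtSubmodule f).inf_mem hWinv hQinv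
    have hWsplit : (W ⊓ C) ⊔ W' = W := by
      have := sup_inf_assoc_of_le Q (inf_le_left : W ⊓ C ≤ W)
      rw [hQ.sup_eq_top, top_inf_eq, inf_comm Q W] at this
      exact this.symm
    have hdisj1 : Disjoint (W ⊓ C) W' := hQ.disjoint.mono_right inf_le_right
    have hW'C : Disjoint W' C := by
      rw [disjoint_iff, hW', inf_assoc, inf_comm Q C, ← inf_assoc]
      exact hQ.inf_eq_bot
    set Y := (W' ⊔ C) ⊓ T with hY
    have hYinv : Y ∈ Module.End.invtSubmodule f :=
      (Module.End.invtSubmodule f).inf_mem ((Module.End.invtSubmodule f).sup_mem hW'inv hCinv) hTinv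
    have hYdvd : a ∣ finrank F Y := by
      apply dvd_finrank_of_le_biSup f U hUinv' hUdim hUirr' hindU Finset.univ Y hYinv
      have h0 : (⨆ i ∈ (Finset.univ : Finset (Fin s)), U i) = T := by
        rw [hT]
        simp
      rw [h0]
      exact inf_le_right
    have hmod : W' ⊔ C = C ⊔ Y := by
      have := sup_inf_assoc_of_le T (le_sup_right : C ≤ W' ⊔ C)
      rw [hCT_top, top_inf_eq, inf_comm T] at this
      exact this
    have hCY : Disjoint C Y := hCT_disj.mono_right inf_le_right
    have h1 : finrank F W' = finrank F Y := by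
      have e1 := finrank_sup_of_disjoint W' C hW'C
      have e2 := finrank_sup_of_disjoint C Y hCY
      rw [hmod] at e1
      omega
    have h2 : finrank F W = finrank F ↥(W ⊓ C) + finrank F W' := by
      rw [← finrank_sup_of_disjoint _ _ hdisj1, hWsplit]
    have h3 : finrank F ↥(W ⊓ C) ≤ finrank F C := Submodule.finrank_mono inf_le_right
    obtain ⟨k, hk⟩ := hYdvd
    rw [hWdim, h1, hk] at h2
    rcases Nat.eq_zero_or_pos k with hk0 | hk0
    · left
      rw [hk0, mul_zero, add_zero] at h2
      omega
    · right
      refine ⟨?_, ?_⟩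
      · have : a ≤ a * k := Nat.le_mul_of_pos_right a hk0
        omega
      · rw [h2, Nat.add_mul_mod_self_left]
        exact (Nat.mod_le _ _).trans h3
  · intro h
    -- invariance of subspaces of C
    have hCsub : ∀ C' : Submodule F V, C' ≤ C → C' ∈ Module.End.invtSubmodule f := by
      intro C' hC'
      rw [← hinv_iff]
      rintro _ ⟨x, hx, rfl⟩
      have hx' : f x = x := by
        have := Module.End.mem_eigenspace_iff.mp (hC' hx)
        simpa using this
      rw [hx']; exact hx
    rcases h with h | ⟨ham, hmod⟩
    · obtain ⟨C', hC'le, hC'dim⟩ := exists_le_finrank_eq C m h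
      exact ⟨C', hC'dim, (hinv_iff _).mpr (hCsub C' hC'le)⟩
    · set k := min s (m / a) with hk
      have hks : k ≤ s := min_le_left _ _
      have hkm : k * a ≤ m := by
        have : k ≤ m / a := min_le_right _ _
        calc k * a ≤ (m / a) * a := Nat.mul_le_mul_right a this
          _ ≤ m := Nat.div_mul_le_self m a
      have hr : m - k * a ≤ finrank F C := by
        rcases le_total (m / a) s with hle | hle
        · have : k = m / a := min_eq_right hle
          rw [this]
          have := Nat.div_add_mod m a
          have h2 : m - m / a * a = m % a := by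
            rw [mul_comm]; omega
          rw [h2]; exact hmod
        · have : k = s := min_eq_left hle
          rw [this]
          omega
      obtain ⟨C', hC'le, hC'dim⟩ := exists_le_finrank_eq C (m - k * a) hr
      obtain ⟨J, -, hJcard⟩ := Finset.exists_subset_card_eq (s := (Finset.univ : Finset (Fin s)))
        (n := k) (by simpa using hks)
      refine ⟨C' ⊔ ⨆ j ∈ J, U j, ?_, ?_⟩
      · have hle : (⨆ j ∈ J, U j) ≤ T := iSup_le fun j => iSup_le fun _ => le_iSup U j
        have hdisj : Disjoint C' (⨆ j ∈ J, U j) := hCT_disj.mono hC'le hle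
        rw [finrank_sup_of_disjoint _ _ hdisj, hC'dim, finrank_biSup U hindU J]
        simp only [hUdim, Finset.sum_const, smul_eq_mul, hJcard]
        omega
      · rw [hinv_iff]
        exact (Module.End.invtSubmodule f).sup_mem (hCsub C' hC'le) (biSup_mem_invt f U J hUinv')

end Cfsg.Agent.S5952
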