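import Mathlib
import Cfsg.Statements.S5961
import Cfsg.Agent.Lib.Helper13.SpDec2
import Cfsg.Agent.Lib.Helper13.SpDec7

set_option autoImplicit false
open scoped MatrixGroups
open Cfsg

namespace Cfsg.Agent.S5961

/-- Elements of odd prime order of PSp_n(q) and imprimitive subgroups. Here `T = PSp_n(q)`, `n = 2d ≥ 4`, `(n, q) ≠ (4, 2)`, realised through the symplectic matrices over the field `F` with `q` elements and the standard alternating form; `n = a·t` with `a` even and `t ≥ 2`, and Ω is the (nonempty) set of orthogonal decompositions of `F^n` into `t` nondegenerate subspaces of dimension `a` (unordered; counted as ordered ones divided by `t!`), whose stabilizers are the imprimitive subgroups of type Sp_a(q) ≀ S_t (maximality is not assumed); an element of `T` of prime order `r` (a symplectic matrix `x` with `x^r` scalar, `x` not scalar) fixes a point of Ω when it permutes the summands of some such decomposition. Let `r ≠ p` be an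 odd prime dividing the number of such decompositions, let `i` be the multiplicative order of `q` modulo `r`, `c = i` if `i` is even and `c = 2i` if `i` is odd, and write `k = n mod c`, `ℓ = a mod c`. Then every element of `T` of order `r` stabilizes such a decomposition if and only if `c ≤ a` and `k = t·ℓ`. -/
theorem result {F : Type*} [Field F] [Fintype F] {p : ℕ} [Fact p.Prime] [CharP F p] {q : ℕ} (hq : Fintype.card F = q)
    (d : ℕ) (hd : 2 ≤ d) (hT : (d, q) ≠ (2, 2))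
    (a t : ℕ) (hat : 2 * d = a * t) (ha : 2 ≤ a) (hae : Even a) (ht : 2 ≤ t)
    (r : ℕ) [Fact r.Prime] (hr2 : r ≠ 2) (hrp : r ≠ p) (hΩ : r ∣ Nat.card {D : Fin t → Submodule F (Fin d ⊕ Fin d → F) // (Cfsg.Geo.IsMDecomposition a D ∧ (∀ j, ∀ u ∈ D j, u ≠ 0 → ∃ v ∈ D j, Cfsg.sympForm d F u v ≠ 0) ∧
          (∀ j j', j ≠ j' → ∀ u ∈ D j, ∀ v ∈ D j', Cfsg.sympForm d F u v = 0))} / Nat.factorial t)
    (i c : ℕ) (hi : i = orderOf (q : ZMod r)) (hc : c = if Even i then i else 2 * i) :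
    (∀ x : ↥(Matrix.symplecticGroup (Fin d) F),
      (∃ z : F, ((x ^ r : ↥(Matrix.symplecticGroup (Fin d) F)) : Matrix (Fin d ⊕ Fin d) (Fin d ⊕ Fin d) F) = z • (1 : Matrix (Fin d ⊕ Fin d) (Fin d ⊕ Fin d) F)) →
      (∀ z : F, (x : Matrix (Fin d ⊕ Fin d) (Fin d ⊕ Fin d) F) ≠ z • (1 : Matrix (Fin d ⊕ Fin d) (Fin d ⊕ Fin d) F)) →
      ∃ D : Fin t → Submodule F (Fin d ⊕ Fin d → F), (Cfsg.Geo.IsMDecomposition a D ∧ (∀ j, ∀ u ∈ D j, u ≠ 0 → ∃ v ∈ D j, Cfsg.sympForm d F u v ≠ 0) ∧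
          (∀ j j', j ≠ j' → ∀ u ∈ D j, ∀ v ∈ D j', Cfsg.sympForm d F u v = 0)) ∧
        ∃ σ : Equiv.Perm (Fin t), ∀ j, (D j).map (Matrix.toLin' (x : Matrix (Fin d ⊕ Fin d) (Fin d ⊕ Fin d) F)) = D (σ j)) ↔
    (c ≤ a ∧ (2 * d) % c = t * (a % c)) := by
  have hr : r.Prime := Fact.out
  obtain ⟨s, hs⟩ := hae
  subst hs
  have hs0 : 0 < s := by omega
  have hdim : d + d = t * (s + s) := by
    rw [← two_mul, hat, mul_comm]
  have hcn : c ≤ 2 * d := by
    apply Cfsg.Agent.Helper13.SpDec.c_le_of_dvd_card hq r hr hrp d _ i c hi hc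
    exact Cfsg.Agent.Helper13.SpDec.dvd_card_symp hdim ht hs0 r hΩ
  constructor
  · intro hall
    by_contra hnot
    obtain ⟨x, hx, hxns, hbad⟩ := Cfsg.Agent.Helper13.SpDec.exists_bad hq hr hr2 hrp d s t hdim
      ht hs0 i c hi hc hcn hnot
    obtain ⟨D, hD, σ, hσ⟩ := hall x ⟨1, by rw [hx, one_smul]; rfl⟩ hxns
    obtain ⟨Φ, hΦ, hΦD⟩ := Cfsg.Agent.Helper13.SpDec.exists_iso_of_good hdim D hD
    subst hΦD
    exact hbad Φ hΦ σ hσ
  · rintro ⟨hca, hmod⟩ x ⟨z, hxz⟩ hxns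
    have hd0 : 0 < d := by omega
    have hrodd : Odd r := hr.eq_two_or_odd'.resolve_left hr2
    obtain ⟨x', hx', hmap⟩ := Cfsg.Agent.Helper13.SpDec.exists_normalized hd0 r hrodd x z hxz
    obtain ⟨Φ, hΦ, hstab⟩ := Cfsg.Agent.Helper13.SpDec.exists_stable_decomp hq hr hr2 hrp d s t
      hdim i c hi hc (by rw [← two_mul]; exact hmod) x' hx'
    refine ⟨Cfsg.Agent.Helper13.SpDec.decompOf Φ,
      Cfsg.Agent.Helper13.SpDec.good_decompOf ht hs0 Φ hΦ, 1, fun j => ?_⟩
    rw [← hmap, hstab j]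
    rfl

end Cfsg.Agent.S5961
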