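import Mathlib
import Cfsg.Statements.S5963
import Cfsg.Agent.Lib.Helper13.LagrangianCountSp
import Cfsg.Agent.Lib.Helper13.SympDerangeElt

set_option autoImplicit false
open scoped MatrixGroups
open Cfsg

namespace Cfsg.Agent.S5963

/-- Derangements of odd prime order of PSp_n(q), q odd, on pairs of complementary totally isotropic subspaces. Here `T = PSp_n(q)`, `n = 2d ≥ 4`, `q` odd, realised through the symplectic matrices over the field `F` with `q` elements; Ω is the set of unordered pairs `{U, W}` of complementary totally isotropic `d`-spaces (`F^n = U ⊕ W`), whose stabilizers are the subgroups of type GL_d(q).2 (maximal except in some small cases; maximality is not assumed); an element of `T` of prime order `r` (a symplectic matrix `x` with `x^r` scalar, `x` not scalar) fixes such a pair when it fixes or interchanges `U` and `W`. For every odd prime `r ≠ p` dividing the number of such pairs, some element of `T` of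 order `r` fixes no such pair (the action is never `r`-elusive for odd `r ≠ p`). -/
theorem result {F : Type*} [Field F] [Fintype F] {p : ℕ} [Fact p.Prime] [CharP F p] {q : ℕ} (hq : Fintype.card F = q)
    (d : ℕ) (hd : 2 ≤ d) (hT : (d, q) ≠ (2, 2)) (hodd : Odd q)
    (r : ℕ) [Fact r.Prime] (hr2 : r ≠ 2) (hrp : r ≠ p) (hΩ : r ∣ Nat.card {P : Submodule F (Fin d ⊕ Fin d → F) × Submodule F (Fin d ⊕ Fin d → F) // IsCompl P.1 P.2 ∧ (∀ u ∈ P.1, ∀ v ∈ P.1, Cfsg.sympForm d F u v = 0) ∧ (∀ u ∈ P.2, ∀ v ∈ P.2, Cfsg.sympForm d F u v = 0)} / 2) :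
    ∃ x : ↥(Matrix.symplecticGroup (Fin d) F),
      (∃ z : F, ((x ^ r : ↥(Matrix.symplecticGroup (Fin d) F)) : Matrix (Fin d ⊕ Fin d) (Fin d ⊕ Fin d) F) = z • (1 : Matrix (Fin d ⊕ Fin d) (Fin d ⊕ Fin d) F)) ∧
      (∀ z : F, (x : Matrix (Fin d ⊕ Fin d) (Fin d ⊕ Fin d) F) ≠ z • (1 : Matrix (Fin d ⊕ Fin d) (Fin d ⊕ Fin d) F)) ∧
      ¬ (∃ U W : Submodule F (Fin d ⊕ Fin d → F), IsCompl U W ∧ (∀ u ∈ U, ∀ v ∈ U, Cfsg.sympForm d F u v = 0) ∧ (∀ u ∈ W, ∀ v ∈ W, Cfsg.sympForm d F u v = 0) ∧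
        ((U.map (Matrix.toLin' (x : Matrix (Fin d ⊕ Fin d) (Fin d ⊕ Fin d) F)) = U ∧ W.map (Matrix.toLin' (x : Matrix (Fin d ⊕ Fin d) (Fin d ⊕ Fin d) F)) = W) ∨
         (U.map (Matrix.toLin' (x : Matrix (Fin d ⊕ Fin d) (Fin d ⊕ Fin d) F)) = W ∧ W.map (Matrix.toLin' (x : Matrix (Fin d ⊕ Fin d) (Fin d ⊕ Fin d) F)) = U))) := by
  classical
  have hr : r.Prime := Fact.out
  have hd1 : 1 ≤ d := by omega
  have hrF : (r : F) ≠ 0 := Cfsg.Agent.Helper13.SS.cast_ne_zero_of_prime_ne hr hrp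
  obtain ⟨j, hj1, hjd, hdvd⟩ :=
    Cfsg.Agent.Helper13.LagCount.exists_dvd_of_dvd_card_pairs (F := F) d hd1 (hq ▸ hodd) r hr hrp hΩ
  rw [hq] at hdvd
  obtain ⟨heven, hidvd⟩ :=
    Cfsg.Agent.Helper13.LagCount.even_orderOf_of_dvd_pow_add_one r hr2 q j hdvd
  have hle : orderOf (q : ZMod r) ≤ 2 * d := by
    have := Nat.le_of_dvd (by omega) hidvd
    omega
  obtain ⟨x, hxr, hxne, hxC⟩ :=
    Cfsg.Agent.Helper13.SympDer.exists_element hq r hr2 hrp d heven hle
  have hgr : (Matrix.toLin' (x : Matrix (Fin d ⊕ Fin d) (Fin d ⊕ Fin d) F)) ^ r = 1 := by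
    rw [← Matrix.toLin'_pow, ← SubmonoidClass.coe_pow, hxr]
    simp
    rfl
  have hC : Module.finrank F (Fin d ⊕ Fin d → F) <
      Module.finrank F (LinearMap.ker
        (Matrix.toLin' (x : Matrix (Fin d ⊕ Fin d) (Fin d ⊕ Fin d) F) - 1)) +
        2 * orderOf ((Fintype.card F : ℕ) : ZMod r) := by
    rw [Cfsg.Agent.Helper13.LagCount.finrank_std, hq]
    exact hxC
  have hno := Cfsg.Agent.Helper13.SympDer.no_lagrangian_pair r hr2 hrF
    (Cfsg.Agent.Helper28.SympIso.sympBil d F) (Cfsg.Agent.Helper13.SympFrame.sympBil_self d)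
    (Cfsg.Agent.Helper13.SympFrame.sympBil_sep d)
    (Matrix.toLin' (x : Matrix (Fin d ⊕ Fin d) (Fin d ⊕ Fin d) F))
    (Cfsg.Agent.Helper13.SympFrame.sympBil_toLin' d x) hgr hxne hC
  refine ⟨x, ⟨1, by rw [hxr, one_smul]; rfl⟩, ?_, ?_⟩
  · intro z hz
    apply hno
    have hz1 : z * z = 1 :=
      Cfsg.Agent.Helper13.SympFrame.scalar_mul_self_eq_one d hd1 x z 1 (by rw [pow_one]; exact hz)
    have hz0 : z ≠ 0 := by
      rintro rfl
      simp at hz1
    have hstd := Cfsg.Agent.Helper13.LagCount.isFrame_std (F := F) d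
    have hmap : ∀ U : Submodule F (Fin d ⊕ Fin d → F),
        U.map (Matrix.toLin' (x : Matrix (Fin d ⊕ Fin d) (Fin d ⊕ Fin d) F)) = U := by
      intro U
      have : Matrix.toLin' (x : Matrix (Fin d ⊕ Fin d) (Fin d ⊕ Fin d) F) =
          z • (LinearMap.id : (Fin d ⊕ Fin d → F) →ₗ[F] (Fin d ⊕ Fin d → F)) := by
        rw [hz, map_smul, Matrix.toLin'_one]
      rw [this, Submodule.map_smul _ _ _ hz0, Submodule.map_id]
    refine ⟨_, _, hstd.isCompl_span _ (Cfsg.Agent.Helper13.SympFrame.sympBil_self d), ?_, ?_,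
      Or.inl ⟨hmap _, hmap _⟩⟩
    · apply Cfsg.Agent.Helper13.SympFrame.eq_zero_of_span
      rintro _ ⟨i, rfl⟩ _ ⟨j, rfl⟩
      exact hstd.ee i j
    · apply Cfsg.Agent.Helper13.SympFrame.eq_zero_of_span
      rintro _ ⟨i, rfl⟩ _ ⟨j, rfl⟩
      exact hstd.ff i j
  · rintro ⟨U, W, hUW, hU, hW, hmap⟩
    apply hno
    refine ⟨U, W, hUW, ?_, ?_, hmap⟩
    · intro u hu v hv
      rw [Cfsg.Agent.Helper28.SympIso.sympBil_apply]
      exact hU u hu v hv
    · intro u hu v hv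
      rw [Cfsg.Agent.Helper28.SympIso.sympBil_apply]
      exact hW u hu v hv

end Cfsg.Agent.S5963
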