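import Mathlib
import Cfsg.Statements.S5967
import Cfsg.Agent.Lib.Helper13.SpSim2
import Cfsg.Agent.Lib.Helper13.SpSim3
import Cfsg.Agent.Lib.Helper13.SpSim4

set_option autoImplicit false
open scoped MatrixGroups
open Cfsg

namespace Cfsg.Agent.S5967

/-- Involutions of PSL_n(q) and the symplectic-type subgroups. Here `T = PSL_n(F)` for a field `F` with `q` elements, `n ≥ 4` even, `f` is a nondegenerate alternating form on `F^n`, and `H` is the subgroup of matrices of determinant 1 preserving `f` up to a scalar — a maximal subgroup of type Sp_n(q); Ω is the set of `T`-conjugates of `H` (cosets of `H`), so an element of `T` of prime order `r` (a matrix `x` of determinant 1 with `x^r` scalar, `x` not scalar) fixes a point of Ω when some conjugate of `x` by a matrix of determinant 1 preserves `f` up to a scalar. Suppose the index of `H` is even. Then every involution of `T` is conjugate in `T` into `H` if and only if `(q − 1)_2 ≤ (n)_2`. -/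
theorem result {F : Type*} [Field F] [Fintype F] {p : ℕ} [Fact p.Prime] [CharP F p] {q : ℕ} (hq : Fintype.card F = q)
    (n : ℕ) (hn : 4 ≤ n) (he : Even n) (f : (Fin n → F) → (Fin n → F) → F) (hf : Cfsg.Geo.IsSymplecticForm f)
    (hΩ : 2 ∣ ((Cfsg.Geo.similarityGroup f).comap (Matrix.SpecialLinearGroup.toGL : Matrix.SpecialLinearGroup (Fin n) F →* GL (Fin n) F)).index) :
    (∀ x : Matrix.SpecialLinearGroup (Fin n) F,
      (∃ z : F, ((x ^ 2 : Matrix.SpecialLinearGroup (Fin n) F) : Matrix (Fin n) (Fin n) F) = z • (1 : Matrix (Fin n) (Fin n) F)) →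
      (∀ z : F, (x : Matrix (Fin n) (Fin n) F) ≠ z • (1 : Matrix (Fin n) (Fin n) F)) →
      ∃ P : Matrix.SpecialLinearGroup (Fin n) F, P⁻¹ * x * P ∈ ((Cfsg.Geo.similarityGroup f).comap (Matrix.SpecialLinearGroup.toGL : Matrix.SpecialLinearGroup (Fin n) F →* GL (Fin n) F))) ↔
    padicValNat 2 (q - 1) ≤ padicValNat 2 n := by
  subst hq
  obtain ⟨m, hm⟩ := he
  have hn2 : n = 2 * m := by omega
  have hm1 : 1 ≤ m := by omega
  constructor
  · intro hall
    by_contra hv
    rw [not_le] at hv
    have hcard : 1 < Fintype.card F := Fintype.one_lt_card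
    have hodd : Odd (Fintype.card F) := by
      by_contra heven
      rw [Nat.not_odd_iff_even] at heven
      have h1 : ¬ 2 ∣ Fintype.card F - 1 := by
        obtain ⟨k, hk⟩ := heven
        omega
      rw [padicValNat.eq_zero_of_not_dvd h1] at hv
      omega
    have hp2 : p ≠ 2 := by
      rintro rfl
      have h1 := FiniteField.even_card_of_char_two (ringChar.eq F 2)
      exact (Nat.not_odd_iff_even.2 (Nat.even_iff.2 h1)) hodd
    have h2 : (2 : F) ≠ 0 := Cfsg.Agent.Helper13.FN.two_ne_zero_of_char_ne (p := p) hp2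
    obtain ⟨a, ha⟩ := Cfsg.Agent.Helper13.FN.exists_pow_eq_neg_one hodd n (by omega) hv
    have ha0 : a ≠ 0 := by
      intro h
      rw [h, zero_pow (by omega)] at ha
      exact zero_ne_one (neg_eq_zero.1 ha.symm).symm
    obtain ⟨x, hx2, hxns, u, φ, hφu, hxw⟩ :=
      Cfsg.Agent.Helper13.SpSim.exists_bad_refl (n := n) (by omega) h2 a ha
    obtain ⟨P, hP⟩ := hall x ⟨a ^ 2, hx2⟩ hxns
    exact Cfsg.Agent.Helper13.SpSim.not_conj_refl hf (by omega) x a ha0 u φ hφu hxw P hP
  · intro hv x hz _
    obtain ⟨z, hz⟩ := hz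
    by_cases hp2 : p = 2
    · subst hp2
      exact Cfsg.Agent.Helper13.SpSim.conj_invol_two hn2 hm1 hf x z hz
    · exact Cfsg.Agent.Helper13.SpSim.conj_invol_odd hp2 hn2 hm1 hf hv x z hz

end Cfsg.Agent.S5967
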