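import Mathlib
import Cfsg.Statements.S5968
import Cfsg.Agent.Lib.Helper13.SpSim5
import Cfsg.Agent.Lib.Helper13.SpSim6
import Cfsg.Agent.Lib.Helper13.SpSim7
import Cfsg.Agent.Lib.Helper13.SpSim8
import Cfsg.Agent.Lib.Helper13.FieldNorm8

set_option autoImplicit false
open scoped MatrixGroups
open Cfsg

namespace Cfsg.Agent.S5968

/-- Derangements of odd prime order of PSL_n(q) on the cosets of a symplectic-type subgroup. Here `T = PSL_n(F)` for a field `F` with `q` elements, `n ≥ 4` even, `f` is a nondegenerate alternating form on `F^n`, and `H` is the subgroup of matrices of determinant 1 preserving `f` up to a scalar — a maximal subgroup of type Sp_n(q); Ω is the set of `T`-conjugates of `H` (cosets of `H`), so an element of `T` of prime order `r` (a matrix `x` of determinant 1 with `x^r` scalar, `x` not scalar) fixes a point of Ω when some conjugate of `x` by a matrix of determinant 1 preserves `f` up to a scalar. For every odd prime `r` dividing the index of `H`, with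 `(n, r) ≠ (6, 3)`, there is an element of `T` of order `r` with no conjugate in `H`. (For `n = 6`, `r = 3` this can fail: when `(q − 1)_3 = 3` every element of order 3 is conjugate into `H`.) -/
theorem result {F : Type*} [Field F] [Fintype F] {p : ℕ} [Fact p.Prime] [CharP F p] {q : ℕ} (hq : Fintype.card F = q)
    (n : ℕ) (hn : 4 ≤ n) (he : Even n) (f : (Fin n → F) → (Fin n → F) → F) (hf : Cfsg.Geo.IsSymplecticForm f)
    (r : ℕ) [Fact r.Prime] (hr2 : r ≠ 2) (hgap : ¬ (n = 6 ∧ r = 3)) (hΩ : r ∣ ((Cfsg.Geo.similarityGroup f).comap (Matrix.SpecialLinearGroup.toGL : Matrix.SpecialLinearGroup (Fin n) F →* GL (Fin n) F)).index) :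
    ∃ x : Matrix.SpecialLinearGroup (Fin n) F,
      (∃ z : F, ((x ^ r : Matrix.SpecialLinearGroup (Fin n) F) : Matrix (Fin n) (Fin n) F) = z • (1 : Matrix (Fin n) (Fin n) F)) ∧
      (∀ z : F, (x : Matrix (Fin n) (Fin n) F) ≠ z • (1 : Matrix (Fin n) (Fin n) F)) ∧
      ∀ P : Matrix.SpecialLinearGroup (Fin n) F, P⁻¹ * x * P ∉ ((Cfsg.Geo.similarityGroup f).comap (Matrix.SpecialLinearGroup.toGL : Matrix.SpecialLinearGroup (Fin n) F →* GL (Fin n) F)) := by
  subst hq
  obtain ⟨m, hm⟩ := he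
  have hn2 : n = 2 * m := by omega
  have hm1 : 1 ≤ m := by omega
  have hr : r.Prime := Fact.out
  have hp : p.Prime := Fact.out
  obtain ⟨k, hk, hcard⟩ := Cfsg.Agent.Helper13.SS.exists_card_pow (p := p)
    (rfl : Fintype.card F = Fintype.card F)
  rcases Cfsg.Agent.Helper13.SpSim.prime_dvd_index_cases hf hn2 hm1 r hr hΩ with h | ⟨j, hj, hdiv⟩
  · have hrp : r = p := by
      rw [hcard] at h
      exact (Nat.prime_dvd_prime_iff_eq hr hp).1 (hr.dvd_of_dvd_pow h)
    subst hrp
    have h2 : (2 : F) ≠ 0 := Cfsg.Agent.Helper13.FN.two_ne_zero_of_char_ne (p := r) hr2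
    have hp3 : 3 ≤ r := by
      have := hr.two_le
      omega
    obtain ⟨x, hx1, hx2, N, hxN, hN3, i0, i2, hNN, hNe⟩ :=
      Cfsg.Agent.Helper13.SpSim.exists_J3 (F := F) (n := n) (by omega) r hp3
    exact ⟨x, ⟨1, hx1⟩, hx2, fun P =>
      Cfsg.Agent.Helper13.SpSim.not_conj_J3 hf h2 x N hxN hN3 i0 i2 hNN hNe P⟩
  · have hq1 : 1 ≤ Fintype.card F := Fintype.card_pos
    have hd := Cfsg.Agent.Helper12.orderOf_dvd_of_dvd_pow_sub_one hq1 hdiv
    have hodd : Odd (orderOf ((Fintype.card F : ℕ) : ZMod r)) :=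
      Odd.of_dvd_nat ⟨j + 1, by ring⟩ hd
    have hdn : orderOf ((Fintype.card F : ℕ) : ZMod r) < n := by
      have := Nat.le_of_dvd (by omega) hd
      omega
    have hrp : r ≠ p := by
      rintro rfl
      have h1 : r ∣ Fintype.card F ^ (2 * j + 3) := by
        rw [hcard, ← pow_mul]
        exact dvd_pow_self r (by
          have : 0 < k * (2 * j + 3) := Nat.mul_pos hk (by omega)
          omega)
      have h3 := Nat.dvd_sub h1 hdiv
      rw [Nat.sub_sub_self (Nat.one_le_pow _ _ hq1)] at h3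
      exact hr.one_lt.ne' (Nat.dvd_one.1 h3)
    by_cases hd2 : 2 ≤ orderOf ((Fintype.card F : ℕ) : ZMod r)
    · obtain ⟨x, hx1, hx2, hx3⟩ :=
        Cfsg.Agent.Helper13.SpSim.exists_bad_semisimple (p := p) hf hr2 hrp hodd hd2 hdn
      exact ⟨x, ⟨1, hx1⟩, hx2, hx3⟩
    · have hd1 : orderOf ((Fintype.card F : ℕ) : ZMod r) = 1 := by
        obtain ⟨t, ht⟩ := hodd
        omega
      have hrq : r ∣ Fintype.card F - 1 := by
        have := Cfsg.Agent.Helper12.dvd_pow_orderOf_sub_one (q := Fintype.card F) (r := r) hq1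
        rwa [hd1, pow_one] at this
      obtain ⟨x, hx1, hx2, hx3⟩ :=
        Cfsg.Agent.Helper13.SpSim.exists_bad_diag hf hn hn2 hr2 hrq hgap
      exact ⟨x, ⟨1, hx1⟩, hx2, hx3⟩

end Cfsg.Agent.S5968
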