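import Mathlib
import Cfsg.Statements.S5969
import Cfsg.Agent.Lib.Helper13.FieldNorm9

set_option autoImplicit false
open scoped MatrixGroups
open Cfsg

namespace Cfsg.Agent.S5969

/-- Involutions of PSL_n(q) and extension-field subgroups of degree 2. Here `T = PSL_n(F)` for a field `F` with `q = p^f` elements (`n ≥ 2`, `(n, q) ≠ (2, 2), (2, 3)`), `k` is a prime dividing `n`, `K` is a subalgebra of the `n × n` matrices that is a field of degree `k` over `F` (an extension-field structure F_{q^k} on `F^n`), and `H` is the subgroup of matrices of determinant 1 normalizing `K` — a subgroup of type GL_{n/k}(q^k) (maximal except in some small cases; maximality is not assumed); Ω is the set of cosets of `H` in `T`, so an element of `T` of prime order `r` (a matrix `x` of determinant 1 with `x^r` scalar, `x` not scalar) fixes a point of Ω when some conjugate of `x` by a matrix of determinant 1 normalizes `K`. Take `k = 2` and suppose the index of `H` is even. Then every involution of `T` is conjugate in `T`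 into `H` if and only if `n = 2`, or `q` is odd and `(q − 1)_2 ≤ (n)_2`. -/
theorem result {F : Type*} [Field F] [Fintype F] {p : ℕ} [Fact p.Prime] [CharP F p] {q : ℕ} (hq : Fintype.card F = q)
    (n : ℕ) (hn : 2 ≤ n) (hT : (n, q) ≠ (2, 2) ∧ (n, q) ≠ (2, 3))
    (k : ℕ) (hk : k.Prime) (hkn : k ∣ n) (K : Subalgebra F (Matrix (Fin n) (Fin n) F)) (hK : Cfsg.Geo.IsFieldSubalgebra k K) (hk2 : k = 2) (hΩ : 2 ∣ ((Cfsg.Geo.subalgebraNormalizer K).comap (Matrix.SpecialLinearGroup.toGL : Matrix.SpecialLinearGroup (Fin n) F →* GL (Fin n) F)).index) :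
    (∀ x : Matrix.SpecialLinearGroup (Fin n) F,
      (∃ z : F, ((x ^ 2 : Matrix.SpecialLinearGroup (Fin n) F) : Matrix (Fin n) (Fin n) F) = z • (1 : Matrix (Fin n) (Fin n) F)) →
      (∀ z : F, (x : Matrix (Fin n) (Fin n) F) ≠ z • (1 : Matrix (Fin n) (Fin n) F)) →
      ∃ P : Matrix.SpecialLinearGroup (Fin n) F, P⁻¹ * x * P ∈ ((Cfsg.Geo.subalgebraNormalizer K).comap (Matrix.SpecialLinearGroup.toGL : Matrix.SpecialLinearGroup (Fin n) F →* GL (Fin n) F))) ↔
    (n = 2 ∨ (Odd q ∧ padicValNat 2 (q - 1) ≤ padicValNat 2 n)) := by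
  subst hk2
  have hp : p.Prime := Fact.out
  have hne : Even n := even_iff_two_dvd.2 hkn
  have hn0 : 0 < n := by omega
  obtain ⟨e, he0, hqe⟩ := Cfsg.Agent.Helper13.SS.exists_card_pow (p := p) hq
  constructor
  · intro hall
    by_contra hcon
    push Not at hcon
    obtain ⟨hn2, hqv⟩ := hcon
    have hn4 : 4 ≤ n := by
      obtain ⟨m, hm⟩ := hne
      omega
    by_cases hp2 : p = 2
    · subst hp2
      obtain ⟨x, hx2, hns, l, u, φ, hu, hφ, hxw⟩ :=
        Cfsg.Agent.Helper13.FN.exists_bad_transvection (F := F) (n := n) (by omega)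
      obtain ⟨P, hP⟩ := hall x ⟨1, by rw [hx2, one_smul, Matrix.SpecialLinearGroup.coe_one]⟩ hns
      exact Cfsg.Agent.Helper13.FN.not_conj_of_rank_one (by omega) (le_refl 2) hK x l u φ hu hφ
        hxw P hP
    · have hqodd : Odd q := by
        rw [hqe]
        exact (hp.odd_of_ne_two hp2).pow
      have hlt : padicValNat 2 n < padicValNat 2 (q - 1) := by
        have := hqv hqodd
        omega
      have h2 : (2 : F) ≠ 0 := Cfsg.Agent.Helper13.FN.two_ne_zero_of_char_ne (p := p) hp2
      obtain ⟨a, ha⟩ := Cfsg.Agent.Helper13.FN.exists_pow_eq_neg_one (F := F)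
        (by rw [hq]; exact hqodd) n hn0 (by rw [hq]; exact hlt)
      obtain ⟨x, hx2, hns, l, u, φ, hu, hφ, hxw⟩ :=
        Cfsg.Agent.Helper13.FN.exists_bad_reflection (F := F) (n := n) (by omega) h2 a ha
      obtain ⟨P, hP⟩ := hall x ⟨a ^ 2, hx2⟩ hns
      exact Cfsg.Agent.Helper13.FN.not_conj_of_rank_one (by omega) (le_refl 2) hK x l u φ hu hφ
        hxw P hP
  · rintro (hn2 | ⟨hqodd, hv⟩) x ⟨z, hz⟩ hns
    · subst hn2
      by_cases hp2 : p = 2
      · subst hp2
        exact Cfsg.Agent.Helper13.FN.conj_two_even hK x z hz hns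
      · exact Cfsg.Agent.Helper13.FN.conj_two_odd (p := p) hp2 hK x z hz hns
    · have hp2 : p ≠ 2 := by
        intro h
        rw [hqe, h] at hqodd
        have : Even (2 ^ e) := (Nat.even_pow' (by omega)).2 even_two
        exact (Nat.not_odd_iff_even.2 this) hqodd
      by_cases hsq : IsSquare z
      · obtain ⟨a, rfl⟩ := hsq
        have ha : a ≠ 0 := by
          intro h0
          have h1 := congrArg Matrix.det hz
          haveI : Nonempty (Fin n) := ⟨⟨0, hn0⟩⟩
          rw [(x ^ 2).2, h0, mul_zero, zero_smul, Matrix.det_zero] at h1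
          exact one_ne_zero h1
        exact Cfsg.Agent.Helper13.FN.conj_of_sq_split (p := p) hp2 hn0 hne hK
          (by rw [hq]; exact hv) x a ha hz
      · exact Cfsg.Agent.Helper13.FN.conj_of_sq_nonsplit (p := p) hp2 hn0 hK x z hsq hz

end Cfsg.Agent.S5969
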