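import Mathlib
import Cfsg.Statements.S5979
import Cfsg.Agent.Lib.Helper28.BGT6
import Cfsg.Agent.Lib.Helper28.BGT7
import Cfsg.Agent.Lib.Helper28.BGO10

set_option autoImplicit false
open scoped MatrixGroups
open Cfsg

namespace Cfsg.Agent.S5979

open Cfsg.Agent.Helper28.BGT Cfsg.Agent.Helper28.BGO Cfsg.Agent.Helper13.SS
  Cfsg.Agent.Helper13.POS

/-- Elements of prime order of PSL_n(q) and the stabilizers of tensor decompositions with factors of different dimensions. Here `T = PSL_n(F)` for a field `F` with `q` elements and `n = a·b` with `2 ≤ a < b`; a tensor decomposition `F^n ≅ F^a ⊗ F^b` is given by a bijection `e` of index sets and a change of basis `P`, and `H` is the subgroup of matrices of determinant 1 in its stabilizer (the conjugate by `P` of the group of Kronecker products `g₁ ⊗ g₂`) — a subgroup of type GL_a(q) ⊗ GL_b(q) (maximality is not assumed); Ω is the set of cosets of `H` in `T`, so an element of `T` of prime order `r` (a matrix `x` of determinant 1 with `x^r` scalar, `x` not scalar) fixes a point of Ω exactly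 when some conjugate of `x` by a matrix of determinant 1 lies in `H`. Let `r` be a prime dividing the index of `H`. Then every element of `T` of order `r` fixes a point of Ω if and only if `r = 2`, `a = 2`, `q` is odd and `(q − 1)_2 ≤ (n)_2` (2-parts). -/
theorem result {F : Type*} [Field F] [Fintype F] {p : ℕ} [Fact p.Prime] [CharP F p] {q : ℕ} (hq : Fintype.card F = q)
    (n a b : ℕ) (hab : n = a * b) (ha : 2 ≤ a) (hlt : a < b) (e : Fin n ≃ Fin a × Fin b) (P : GL (Fin n) F)
    (r : ℕ) [Fact r.Prime]
    (hΩ : r ∣ (Cfsg.Geo.tensorProductSubgroup a b e P).relIndex (Cfsg.Geo.specialLinear (Fin n) F)) :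
    (∀ x ∈ Cfsg.Geo.specialLinear (Fin n) F, (∃ z : F, ((x ^ r : GL (Fin n) F) : Matrix (Fin n) (Fin n) F) = z • (1 : Matrix (Fin n) (Fin n) F)) →
      (∀ z : F, (x : Matrix (Fin n) (Fin n) F) ≠ z • (1 : Matrix (Fin n) (Fin n) F)) →
      ∃ g ∈ Cfsg.Geo.specialLinear (Fin n) F, g⁻¹ * x * g ∈ Cfsg.Geo.tensorProductSubgroup a b e P) ↔
    (r = 2 ∧ a = 2 ∧ Odd q ∧ padicValNat 2 (q - 1) ≤ padicValNat 2 n) := by
  classical
  subst hq
  have hp : p.Prime := Fact.out
  have hr : r.Prime := Fact.out
  have hb3 : 3 ≤ b := by omega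
  have hn6 : 6 ≤ n := by
    rw [hab]
    nlinarith
  obtain ⟨k, hk, hcard⟩ := exists_card_pow (p := p) (F := F) rfl
  have hoddq : p ≠ 2 → Odd (Fintype.card F) := by
    intro hp2
    rw [hcard]
    exact (hp.odd_of_ne_two hp2).pow
  constructor
  · intro hall
    by_contra hcon
    have key : ∃ x ∈ Cfsg.Geo.specialLinear (Fin n) F,
        (∃ z : F, ((x ^ r : GL (Fin n) F) : Matrix (Fin n) (Fin n) F) =
          z • (1 : Matrix (Fin n) (Fin n) F)) ∧
        (∀ z : F, (x : Matrix (Fin n) (Fin n) F) ≠ z • (1 : Matrix (Fin n) (Fin n) F)) ∧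
        ∀ g : GL (Fin n) F, g⁻¹ * x * g ∉ Cfsg.Geo.tensorProductSubgroup a b e P := by
      by_cases hrp : r = p
      · subst hrp
        exact exists_bad_transvection (by omega) ha (by omega) e P
      · by_cases hrq : r ∣ Fintype.card F - 1
        · by_cases hr2 : r = 2
          · subst hr2
            have hp2 : p ≠ 2 := fun h => hrp h.symm
            have h2 : (2 : F) ≠ 0 := Cfsg.Agent.Helper13.FN.two_ne_zero_of_char_ne (p := p) hp2
            by_cases ha2 : a = 2
            · have hv : padicValNat 2 n < padicValNat 2 (Fintype.card F - 1) := by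
                by_contra hv
                exact hcon ⟨rfl, ha2, hoddq hp2, not_lt.1 hv⟩
              exact exists_bad_invol h2 (by omega) hv ha (by omega) e P
            · exact exists_bad_diag 2 hrq hab ha hb3 (Or.inr ha2) e P
          · exact exists_bad_diag r hrq hab ha hb3 (Or.inl hr2) e P
        · obtain ⟨hi1, hin⟩ := order_le_of_dvd_relIndex (p := p) (by omega) hr hrp _ hΩ
          have hi2 : 2 ≤ orderOf ((Fintype.card F : ℕ) : ZMod r) := by
            by_contra h
            have h1 : orderOf ((Fintype.card F : ℕ) : ZMod r) = 1 := by omega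
            apply hrq
            have := (pow_card_eq_one_iff r (Fintype.card F) 1 Fintype.card_pos).2 (by rw [h1])
            rwa [pow_one] at this
          exact exists_bad_semisimple (p := p) hrp hi2 hin ha hlt e P
    obtain ⟨x, hx, hxr, hxs, hbad⟩ := key
    obtain ⟨g, -, hg⟩ := hall x hx hxr hxs
    exact hbad g hg
  · rintro ⟨rfl, rfl, hodd, hv⟩
    intro x hx ⟨z, hz⟩ _
    have hp2 : p ≠ 2 := by
      rintro rfl
      rw [hcard] at hodd
      have : Even (2 ^ k) := (Nat.even_pow' (by omega)).2 even_two
      exact (Nat.not_odd_iff_even.2 this) hodd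
    exact conj_invol_tensor hp2 hab (by omega) hv e P x hx z hz

end Cfsg.Agent.S5979
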