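import Mathlib
import Cfsg.Statements.S5981
import Cfsg.Agent.Lib.Helper28.BGO3
import Cfsg.Agent.Lib.Helper28.BGO4
import Cfsg.Agent.Lib.Helper28.BGO5
import Cfsg.Agent.Lib.Helper28.BGO7
import Cfsg.Agent.Lib.Helper28.BGO10
import Cfsg.Agent.Lib.Helper17.OmegaElts

set_option autoImplicit false
open scoped MatrixGroups
open Cfsg
open Cfsg.Agent.Helper28.BGO Cfsg.Agent.Helper17.OmegaElts

namespace Cfsg.Agent.S5981

/-- Elements of prime order of PSL_n(q), q odd, and the subgroups of orthogonal type. Here `T = PSL_n(F)` for a field `F` with `q` elements (`q` odd, `n ≥ 3`), `Q` is a non-degenerate quadratic form on `F^n`, and `H` is the subgroup of matrices of determinant 1 that preserve `Q` up to a scalar — a subgroup of type O^ε_n(q) (maximality is not assumed); Ω is the set of cosets of `H` in `T`, so an element of `T` of prime order `r` (a matrix `x` of determinant 1 with `x^r` scalar, `x` not scalar) fixes a point of Ω exactly when some conjugate of `x` by a matrix of determinant 1 preserves `Q` up to a scalar.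 Let `r` be a prime dividing the index of `H`, with `(n, r) ≠ (6, 3)`. Then every element of `T` of order `r` fixes a point of Ω if and only if either `r = 2`, or `r ∈ {3, 5}`, `n = r` and `(q − 1)_r = r`. (The case `(n, r) = (6, 3)` is not covered by this statement.) -/
theorem result {F : Type*} [Field F] [Fintype F] {p : ℕ} [Fact p.Prime] [CharP F p] {q : ℕ} (hq : Fintype.card F = q)
    (hodd : Odd q) (n : ℕ) (hn : 3 ≤ n) (Q : (Fin n → F) → F) (hQ : Cfsg.Geo.IsNondegenerateQuadraticForm Q)
    (r : ℕ) [Fact r.Prime] (hgap : ¬ (n = 6 ∧ r = 3))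
    (hΩ : r ∣ (Cfsg.Geo.quadSimilarityGroup Q).relIndex (Cfsg.Geo.specialLinear (Fin n) F)) :
    (∀ x ∈ Cfsg.Geo.specialLinear (Fin n) F, (∃ z : F, ((x ^ r : GL (Fin n) F) : Matrix (Fin n) (Fin n) F) = z • (1 : Matrix (Fin n) (Fin n) F)) →
      (∀ z : F, (x : Matrix (Fin n) (Fin n) F) ≠ z • (1 : Matrix (Fin n) (Fin n) F)) →
      ∃ g ∈ Cfsg.Geo.specialLinear (Fin n) F, g⁻¹ * x * g ∈ Cfsg.Geo.quadSimilarityGroup Q) ↔
    (r = 2 ∨ ((r = 3 ∨ r = 5) ∧ n = r ∧ padicValNat r (q - 1) = 1)) := by
  subst hq
  have hrpr : r.Prime := Fact.out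
  have hpp : p.Prime := Fact.out
  have hn1 : 1 ≤ n := by omega
  have hp2 : p ≠ 2 := by
    intro h
    obtain ⟨k, hk, hcard⟩ := Cfsg.Agent.Helper13.SS.exists_card_pow (p := p) (F := F) rfl
    rw [hcard, h] at hodd
    have h1 : Even (2 ^ k) := Nat.even_pow.2 ⟨even_two, hk.ne'⟩
    exact (Nat.not_odd_iff_even.2 h1) hodd
  have h2 : (2 : F) ≠ 0 := two_ne_zero' (p := p) hp2
  set Q' := toQF Q hQ with hQ'def
  have hQ' : (QuadraticMap.polarBilin Q').Nondegenerate := toQF_nondeg Q hQ
  have hcoe : ⇑Q' = Q := coe_toQF Q hQ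
  have hq1 : 1 < Fintype.card F := Fintype.one_lt_card
  constructor
  · intro hall
    by_cases hr2 : r = 2
    · exact Or.inl hr2
    · right
      by_cases hrp : r = p
      · exfalso
        obtain ⟨x, hx, hz, hns, hbad⟩ := exists_bad_transvection (p := p) Q' hp2 (by omega) hQ'
        rw [← hrp] at hz
        obtain ⟨g, hg, hgx⟩ := hall x hx hz hns
        exact hbad g hg hgx
      · obtain ⟨hd1, hdn⟩ := order_le_of_dvd_relIndex (p := p) hn1 hrpr hrp _ hΩ
        rcases Nat.even_or_odd (orderOf ((Fintype.card F : ℕ) : ZMod r)) with hdev | hdodd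
        · exfalso
          obtain ⟨t, ht1, hnt, htype⟩ := type_of_dvd_relIndex (p := p) Q' h2 hn1 hQ' hrpr hr2 hrp
            hΩ hdev
          obtain ⟨x, hx, hz, hns, hbad⟩ := exists_bad_semisimple_even (p := p) Q' hp2 hQ' hr2 hrp
            hdev (by omega) t ht1 hnt htype
          obtain ⟨g, hg, hgx⟩ := hall x hx hz hns
          exact hbad g hg hgx
        · by_cases hd2 : 2 ≤ orderOf ((Fintype.card F : ℕ) : ZMod r)
          · exfalso
            obtain ⟨x, hx, hz, hns, hbad⟩ := exists_bad_semisimple_odd (p := p) Q' hp2 hn1 hQ' hr2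
              hrp hdodd hd2 hdn
            obtain ⟨g, hg, hgx⟩ := hall x hx hz hns
            exact hbad g hg hgx
          · have hd : orderOf ((Fintype.card F : ℕ) : ZMod r) = 1 := by omega
            have hrq : r ∣ Fintype.card F - 1 := by
              rw [orderOf_eq_one_iff] at hd
              rw [← ZMod.natCast_eq_zero_iff, Nat.cast_sub hq1.le, hd, Nat.cast_one, sub_self]
            by_cases hex : (n = 5 ∧ r = 5) ∨ (n = 3 ∧ r = 3)
            · have hnr : n = r := by
                rcases hex with ⟨h1, h2'⟩ | ⟨h1, h2'⟩ <;> omega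
              have hr35 : r = 3 ∨ r = 5 := by
                rcases hex with ⟨h1, h2'⟩ | ⟨h1, h2'⟩
                · exact Or.inr h2'
                · exact Or.inl h2'
              refine ⟨hr35, hnr, ?_⟩
              by_contra hv
              have hq0 : Fintype.card F - 1 ≠ 0 := by omega
              have hv1 : 1 ≤ padicValNat r (Fintype.card F - 1) :=
                one_le_padicValNat_of_dvd hq0 hrq
              have hv2 : 2 ≤ padicValNat r (Fintype.card F - 1) := by omega
              have hr2q : r ^ 2 ∣ Fintype.card F - 1 := (padicValNat_dvd_iff_le hq0).2 hv2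
              obtain ⟨x, hx, hz, hns, hbad⟩ := exists_bad_diag2 Q' hQ' hn hr2 hnr hr2q
              obtain ⟨g, hg, hgx⟩ := hall x hx hz hns
              exact hbad g hg hgx
            · exfalso
              rw [not_or] at hex
              obtain ⟨x, hx, hz, hns, hbad⟩ := exists_bad_diag Q' hQ' hn hr2 hrq
                hex.1 hex.2 hgap
              obtain ⟨g, hg, hgx⟩ := hall x hx hz hns
              exact hbad g hg hgx
  · rintro (rfl | ⟨hr35, hnr, hv⟩)
    · intro x hx ⟨z, hz⟩ hns
      exact conj_invol (p := p) Q' hp2 hn1 hQ' x hx z hz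
    · intro x hx ⟨z, hz⟩ hns
      exact conj_special (p := p) Q' hp2 hQ' hr35 hnr hv x hx z hz
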