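import Mathlib
import Cfsg.Statements.S5982
import Cfsg.Agent.Lib.Helper28.BGQ15

set_option autoImplicit false
open scoped MatrixGroups
open Cfsg
open Cfsg.Agent.Helper28.BGQ

namespace Cfsg.Agent.S5982

/-- Elements of prime order of PSL_n(q), q = q₀², and the subgroups of unitary type. Here `T = PSL_n(F)` for a field `F` with `q = q₀²` elements (`n ≥ 3`), `f` is a non-degenerate unitary form on `F^n` for the involutory automorphism `x ↦ x^{q₀}`, and `H` is the subgroup of matrices of determinant 1 that preserve `f` up to a scalar — a subgroup of type GU_n(q₀) (maximality is not assumed); Ω is the set of cosets of `H` in `T`, so an element of `T` of prime order `r` (a matrix `x` of determinant 1 with `x^r` scalar, `x` not scalar) fixes a point of Ω exactly when some conjugate of `x` by a matrix of determinant 1 preserves `f` up to a scalar. Let `r` be a prime dividing the index of `H`, with `r = 2` or `r` different from the characteristic `p`, and with `(n, r) ≠ (6, 3)`. Then every element of `T`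 of order `r` fixes a point of Ω if and only if either `r = 2` and (`p = 2` or `(n)_2 ≤ (q − 1)_2`), or `r ∈ {3, 5}`, `n = r` and `(q₀ − 1)_r = r`. (Odd `r = p` and the case `(n, r) = (6, 3)` are not covered by this statement.) -/
theorem result {F : Type*} [Field F] [Fintype F] {p : ℕ} [Fact p.Prime] [CharP F p] {q : ℕ} (hq : Fintype.card F = q)
    (q₀ : ℕ) (hq₀ : q = q₀ ^ 2) (n : ℕ) (hn : 3 ≤ n) (f : (Fin n → F) → (Fin n → F) → F) (hf : Cfsg.Geo.IsUnitaryFormPow q₀ f)
    (r : ℕ) [Fact r.Prime] (hr : r = 2 ∨ r ≠ p) (hgap : ¬ (n = 6 ∧ r = 3))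
    (hΩ : r ∣ (Cfsg.Geo.similarityGroup f).relIndex (Cfsg.Geo.specialLinear (Fin n) F)) :
    (∀ x ∈ Cfsg.Geo.specialLinear (Fin n) F, (∃ z : F, ((x ^ r : GL (Fin n) F) : Matrix (Fin n) (Fin n) F) = z • (1 : Matrix (Fin n) (Fin n) F)) →
      (∀ z : F, (x : Matrix (Fin n) (Fin n) F) ≠ z • (1 : Matrix (Fin n) (Fin n) F)) →
      ∃ g ∈ Cfsg.Geo.specialLinear (Fin n) F, g⁻¹ * x * g ∈ Cfsg.Geo.similarityGroup f) ↔
    ((r = 2 ∧ (p = 2 ∨ padicValNat 2 n ≤ padicValNat 2 (q - 1))) ∨ ((r = 3 ∨ r = 5) ∧ n = r ∧ padicValNat r (q₀ - 1) = 1)) := by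
  subst hq₀
  have hK : Fintype.card F = q₀ ^ 2 := hq
  have hrpr : r.Prime := Fact.out
  have hpp : p.Prime := Fact.out
  have hq2 : 2 ≤ q₀ := Cfsg.Agent.Helper11.Herm.two_le_q hK
  have hn1 : 1 ≤ n := by omega
  rw [← hK]
  constructor
  · intro hall
    by_cases hr2 : r = 2
    · left
      refine ⟨hr2, ?_⟩
      by_cases hp2 : p = 2
      · exact Or.inl hp2
      · right
        by_contra hv
        push_neg at hv
        obtain ⟨x, hx, hz, hns, hbad⟩ := exists_bad_invol (p := p) hK hp2 hn1 hf hv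
        subst hr2
        obtain ⟨g, hg, hgx⟩ := hall x hx hz hns
        exact hbad g hg hgx
    · right
      have hrp : r ≠ p := hr.resolve_left hr2
      -- the main dichotomy
      have hcases := prime_dvd_relIndex_cases hK p hn1 hf r hrpr hΩ
      rcases hcases with hdq | ⟨k, hk2, hkn, hkd⟩
      · exact absurd (eq_char_of_dvd hK p r hrpr hdq) hrp
      · obtain ⟨hj4, hdn, hd1⟩ := order_facts q₀ n r k hrpr hr2 (by omega) hk2 hkn hkd
        by_cases hd2 : 2 ≤ orderOf ((q₀ ^ 2 : ℕ) : ZMod r)
        · exfalso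
          obtain ⟨x, hx, hz, hns, hbad⟩ := exists_bad_semisimple (p := p) hK hn1 hf hr2 hrp hj4
            (by rw [hK]; exact hd2) (by rw [hK]; exact hdn)
          obtain ⟨g, hg, hgx⟩ := hall x hx hz hns
          exact hbad g hg hgx
        · have hd : orderOf ((q₀ ^ 2 : ℕ) : ZMod r) = 1 := by omega
          have hrq : r ∣ q₀ - 1 := dvd_sub_one_of_order q₀ r hrpr (by omega) hj4 hd
          by_cases hex : (n = 5 ∧ r = 5) ∨ (n = 3 ∧ r = 3)
          · have hnr : n = r := by
              rcases hex with ⟨h1, h2⟩ | ⟨h1, h2⟩ <;> omega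
            have hr35 : r = 3 ∨ r = 5 := by
              rcases hex with ⟨h1, h2⟩ | ⟨h1, h2⟩
              · exact Or.inr h2
              · exact Or.inl h2
            refine ⟨hr35, hnr, ?_⟩
            by_contra hv
            have hq1 : q₀ - 1 ≠ 0 := by omega
            have hv1 : 1 ≤ padicValNat r (q₀ - 1) := one_le_padicValNat_of_dvd hq1 hrq
            have hv2 : 2 ≤ padicValNat r (q₀ - 1) := by omega
            have hr2q : r ^ 2 ∣ q₀ - 1 := (padicValNat_dvd_iff_le hq1).2 hv2
            obtain ⟨x, hx, hz, hns, hbad⟩ := exists_bad_diag2 hK p hf hn hr2 hnr hr2q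
            obtain ⟨g, hg, hgx⟩ := hall x hx hz hns
            exact hbad g hg hgx
          · exfalso
            push_neg at hex
            obtain ⟨x, hx, hz, hns, hbad⟩ := exists_bad_diag hK p hf hn hr2 hrq
              (fun h => hex.1 h.1 h.2) (fun h => hex.2 h.1 h.2) hgap
            obtain ⟨g, hg, hgx⟩ := hall x hx hz hns
            exact hbad g hg hgx
  · rintro (⟨rfl, h⟩ | ⟨hr35, hnr, hv⟩)
    · intro x hx ⟨z, hz⟩ hns
      by_cases hp2 : p = 2
      · subst hp2
        exact conj_invol_two hK hn1 hf x hx z hz hns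
      · exact conj_invol_odd (p := p) hK hp2 hn1 hf (h.resolve_left hp2) x hx z hz
    · intro x hx ⟨z, hz⟩ hns
      exact conj_special hK p hf hr35 hnr hv x hx z hz
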