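import Mathlib
import Cfsg.Statements.S5983
import Cfsg.Agent.Lib.Helper13.OrthSp5

set_option autoImplicit false
open scoped MatrixGroups
open Cfsg

namespace Cfsg.Agent.S5983

/-- Elements of prime order of PSp_n(q), q even, and the subgroups of orthogonal type. Here `T = Sp_{2d}(F)` for a field `F` of characteristic 2 with `q` elements (`d ≥ 2`, `(d, q) ≠ (2, 2)`), realised as the invertible matrices preserving the standard alternating form; `Q` is a non-degenerate quadratic form on `F^{2d}` whose polar form is that alternating form, and `H` is the subgroup of `T` preserving `Q` up to a scalar (equivalently preserving `Q`) — a subgroup of type O^±_{2d}(q) (maximality is not assumed); `Q` is of plus type when `F^{2d}` contains a `d`-dimensional subspace on which `Q` vanishes, of minus type otherwise. Ω is the set of cosets of `H` in `T`, so an element of `T` of prime order `r` (`x ∈ T` with `x^r` scalar, `x` not scalar) fixes a point of Ω exactly when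 some `T`-conjugate of `x` preserves `Q`. Let `r` be a prime dividing the index of `H`. Then every element of `T` of order `r` fixes a point of Ω if and only if `r = 2` and either `Q` is of plus type or `d` is odd. -/
theorem result {F : Type*} [Field F] [Fintype F] {p : ℕ} [Fact p.Prime] [CharP F p] {q : ℕ} (hq : Fintype.card F = q)
    (hp : p = 2) (d : ℕ) (hd : 2 ≤ d) (hT : (d, q) ≠ (2, 2)) (Q : (Fin d ⊕ Fin d → F) → F) (hQ : Cfsg.Geo.IsNondegenerateQuadraticForm Q)
    (hQf : ∀ u v, QuadraticMap.polar Q u v = Cfsg.sympForm d F u v)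
    (r : ℕ) [Fact r.Prime]
    (hΩ : r ∣ (Cfsg.Geo.quadSimilarityGroup Q).relIndex (Cfsg.spGL d F)) :
    (∀ x ∈ Cfsg.spGL d F, (∃ z : F, ((x ^ r : GL (Fin d ⊕ Fin d) F) : Matrix (Fin d ⊕ Fin d) (Fin d ⊕ Fin d) F) = z • (1 : Matrix (Fin d ⊕ Fin d) (Fin d ⊕ Fin d) F)) →
      (∀ z : F, (x : Matrix (Fin d ⊕ Fin d) (Fin d ⊕ Fin d) F) ≠ z • (1 : Matrix (Fin d ⊕ Fin d) (Fin d ⊕ Fin d) F)) →
      ∃ g ∈ Cfsg.spGL d F, g⁻¹ * x * g ∈ Cfsg.Geo.quadSimilarityGroup Q) ↔
    (r = 2 ∧ (Cfsg.Geo.IsPlusTypeOn Q ⊤ ∨ Odd d)) := by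
  classical
  have hpP : p.Prime := Fact.out
  have hrP : r.Prime := Fact.out
  have h2F : (2 : F) = 0 := by
    have h1 : ((2 : ℕ) : F) = 0 := by
      rw [CharP.cast_eq_zero_iff F p, hp]
    exact_mod_cast h1
  obtain ⟨k, rfl⟩ : ∃ k, d = k + 1 := ⟨d - 1, by omega⟩
  have hd1 : 1 ≤ k + 1 := by omega
  set Qb := Cfsg.Agent.Helper17.OmegaElts.toQF Q hQ with hQb
  have hpol : ∀ u v, QuadraticMap.polar (⇑Qb) u v = Cfsg.sympForm (k + 1) F u v := hQf
  have hplus : Cfsg.Geo.IsPlusTypeOn Q ⊤ ↔ Cfsg.Agent.Helper13.OrthSS.IsHyp Qb := by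
    constructor
    · rintro ⟨U, -, hU, hf⟩
      exact ⟨U, hU, by rw [hf, finrank_top]⟩
    · rintro ⟨L, hL, hf⟩
      exact ⟨L, le_top, hL, by rw [hf, finrank_top]⟩
  rw [hplus]
  have hΩ' : r ∣ (Cfsg.Geo.quadSimilarityGroup (⇑Qb)).relIndex (Cfsg.spGL (k + 1) F) := hΩ
  constructor
  · intro hall
    by_contra hcon
    by_cases hr2 : r = 2
    · have hnH : ¬ Cfsg.Agent.Helper13.OrthSS.IsHyp Qb := fun h => hcon ⟨hr2, Or.inl h⟩
      have hev : Even (k + 1) := by
        rcases Nat.even_or_odd (k + 1) with h | h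
        · exact h
        · exact absurd ⟨hr2, Or.inr h⟩ hcon
      subst hr2
      obtain ⟨x, hxS, hx2, hxns, hxH⟩ := Cfsg.Agent.Helper13.OrthSp.exists_bad_revInv h2F hev hd1
      obtain ⟨g, hg, hgx⟩ := hall x hxS ⟨1, by rw [hx2, one_smul]; rfl⟩ hxns
      obtain ⟨Q'', hpol'', hinv'', htype''⟩ :=
        Cfsg.Agent.Helper13.OrthSp.exists_invariant_of_conj hd1 Qb hpol x g hxS hg hgx
      exact hnH (htype''.1 (hxH Q'' hpol'' hinv''))
    · have hrp : r ≠ p := by rw [hp]; exact hr2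
      obtain ⟨n, hn, hqn⟩ := Cfsg.Agent.Helper13.SS.exists_card_pow (p := p) hq
      have hq2 : 2 ≤ q := by
        rw [hqn, hp]
        calc 2 = 2 ^ 1 := rfl
          _ ≤ 2 ^ n := Nat.pow_le_pow_right (by norm_num) hn
      have hrq : ¬ r ∣ q ^ (k + 1) := by
        intro h
        have h1 := hrP.dvd_of_dvd_pow h
        rw [hqn] at h1
        have h3 := hrP.dvd_of_dvd_pow h1
        exact hrp ((Nat.prime_dvd_prime_iff_eq hrP hpP).1 h3)
      by_cases hH : Cfsg.Agent.Helper13.OrthSS.IsHyp Qb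
      · have hidx := Cfsg.Agent.Helper13.OrthSp.two_mul_relIndex_plus k Qb hpol hH
        rw [hq] at hidx
        have hrd : r ∣ q ^ (k + 1) + 1 := by
          have h1 : r ∣ q ^ (k + 1) * (q ^ (k + 1) + 1) := by
            rw [← hidx]
            exact Dvd.dvd.mul_left hΩ' 2
          exact (hrP.dvd_mul.1 h1).resolve_left hrq
        obtain ⟨x, hxS, hxr, hxns, hxT⟩ :=
          Cfsg.Agent.Helper13.OrthSp.exists_bad_plus hq h2F hrP hr2 hrp k hrd
        obtain ⟨g, hg, hgx⟩ := hall x hxS ⟨1, by rw [hxr, one_smul]; rfl⟩ hxns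
        obtain ⟨Q'', hpol'', hinv'', htype''⟩ :=
          Cfsg.Agent.Helper13.OrthSp.exists_invariant_of_conj hd1 Qb hpol x g hxS hg hgx
        exact hxT Q'' hpol'' hinv'' (htype''.2 hH)
      · have hidx := Cfsg.Agent.Helper13.OrthSp.two_mul_relIndex_minus k Qb hpol hH
        rw [hq] at hidx
        have hrd : r ∣ q ^ (k + 1) - 1 := by
          have h1 : r ∣ q ^ (k + 1) * (q ^ (k + 1) - 1) := by
            rw [← hidx]
            exact Dvd.dvd.mul_left hΩ' 2
          exact (hrP.dvd_mul.1 h1).resolve_left hrq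
        obtain ⟨x, hxS, hxr, hxns, hxT⟩ :=
          Cfsg.Agent.Helper13.OrthSp.exists_bad_minus hq h2F hrP hr2 hrp k (by omega) hrd
        obtain ⟨g, hg, hgx⟩ := hall x hxS ⟨1, by rw [hxr, one_smul]; rfl⟩ hxns
        obtain ⟨Q'', hpol'', hinv'', htype''⟩ :=
          Cfsg.Agent.Helper13.OrthSp.exists_invariant_of_conj hd1 Qb hpol x g hxS hg hgx
        exact hH (htype''.1 (hxT Q'' hpol'' hinv''))
  · rintro ⟨hr2, hcase⟩ x hxS hxr hxns
    subst hr2
    obtain ⟨z, hz⟩ := hxr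
    have hx2 := Cfsg.Agent.Helper13.OrthSp.pow_two_eq_one_of_scalar h2F hd1 x hxS z hz
    exact Cfsg.Agent.Helper13.OrthSp.exists_conj_of_involution h2F Qb hpol hcase x hxS hx2

end Cfsg.Agent.S5983
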