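import Mathlib
import Cfsg.Statements.S5985
import Cfsg.Agent.Lib.Helper13.OrthElusive4

set_option autoImplicit false
open scoped MatrixGroups
open Cfsg

namespace Cfsg.Agent.S5985

/-- Elements of prime order of Ω⁺_n(q), q even, with no fixed nonsingular 1-space. Here `T = PΩ⁺_n(F)`, `n = 2d ≥ 8`, realised through `Ω⁺_n(q)`, the commutator subgroup of the isometry group of `Q = Σ xᵢyᵢ` over the field `F` with `q` elements; an element of `T` of prime order `r` is an element `x` of `Ω⁺_n(q)` with `x^r` scalar and `x` not scalar; `q` is even (so the centre is trivial). Let Ω be the set of 1-dimensional subspaces spanned by a vector `v` with `Q(v) ≠ 0`, and let `r` be a prime dividing their number. Then every element of `T` of order `r` fixes some nonsingular 1-space if and only if `r = 2` and `n ≡ 2 (mod 4)` (that is, `d` is odd). -/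
theorem result {F : Type*} [Field F] [Fintype F] {p : ℕ} [Fact p.Prime] [CharP F p] {q : ℕ} (hq : Fintype.card F = q)
    (hp : p = 2) (d : ℕ) (hd : 4 ≤ d) (r : ℕ) [Fact r.Prime]
    (hrΩ : r ∣ Nat.card {W : Submodule F (Fin d ⊕ Fin d → F) // Module.finrank F ↥W = 1 ∧ ∃ v ∈ W, Cfsg.quadFormPlus d F v ≠ 0}) :
    (∀ x : GL (Fin d ⊕ Fin d) F, x ∈ Cfsg.Geo.omegaGL (Cfsg.quadFormPlus d F) →
      (∃ z : F, ((x ^ r : GL (Fin d ⊕ Fin d) F) : Matrix (Fin d ⊕ Fin d) (Fin d ⊕ Fin d) F) = z • (1 : Matrix (Fin d ⊕ Fin d) (Fin d ⊕ Fin d) F)) →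
      (∀ z : F, (x : Matrix (Fin d ⊕ Fin d) (Fin d ⊕ Fin d) F) ≠ z • (1 : Matrix (Fin d ⊕ Fin d) (Fin d ⊕ Fin d) F)) →
      ∃ W : Submodule F (Fin d ⊕ Fin d → F), (Module.finrank F ↥W = 1 ∧ ∃ v ∈ W, Cfsg.quadFormPlus d F v ≠ 0) ∧ W.map (Matrix.toLin' (x : Matrix (Fin d ⊕ Fin d) (Fin d ⊕ Fin d) F)) ≤ W) ↔ (r = 2 ∧ Odd d) := by
  classical
  have hpP : p.Prime := Fact.out
  have hrP : r.Prime := Fact.out
  have hQeq := Cfsg.Agent.Helper2.Orth.quadFormPlus_eq (F := F) d
  have hQ := Cfsg.Agent.Helper2.Orth.nondeg_plus (F := F) d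
  have hhyp := Cfsg.Agent.Helper13.OrthSS.isHyp_plusMat (F := F) d
  have hcι : Fintype.card (Fin d ⊕ Fin d) = 2 * d := by
    simp
    omega
  have h2F : (2 : F) = 0 := by
    have h1 : ((2 : ℕ) : F) = 0 := by
      rw [CharP.cast_eq_zero_iff F p, hp]
    exact_mod_cast h1
  have hNs := Cfsg.Agent.Helper2.Orth.Nsing_plus (F := F) d
  rw [hq] at hNs
  unfold Cfsg.Agent.Helper2.Orth.Nsing at hNs
  rw [hQeq] at hrΩ hNs ⊢
  set Qf := Cfsg.Agent.Helper13.matQ (Cfsg.Agent.Helper13.plusMat d F) with hQf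
  have hex : Fintype.card F ≠ 2 ∨ Fintype.card (Fin d ⊕ Fin d) ≠ 4 := by
    right
    rw [hcι]
    omega
  constructor
  · intro hall
    by_contra hcon
    by_cases hr2 : r = 2
    · have hdev : Even d := by
        rcases Nat.even_or_odd d with h | h
        · exact h
        · exact absurd ⟨hr2, h⟩ hcon
      subst hr2
      obtain ⟨x, hxΩ, hxr, hxns, hxW⟩ :=
        Cfsg.Agent.Helper13.OrthEl.exists_bad_involution h2F hdev hd
      obtain ⟨W, ⟨hW1, v, hvW, hQv⟩, hWx⟩ := hall x hxΩ
        ⟨1, by rw [hxr, one_smul]; rfl⟩ hxns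
      exact hQv (hxW W hW1 hWx v hvW)
    · have hrodd : Odd r := hrP.odd_of_ne_two hr2
      have hrp : r ≠ p := by rw [hp]; exact hr2
      obtain ⟨n, hn, hqn⟩ := Cfsg.Agent.Helper13.SS.exists_card_pow (p := p) hq
      have hq2 : 2 ≤ q := by
        rw [hqn, hp]
        calc 2 = 2 ^ 1 := rfl
          _ ≤ 2 ^ n := Nat.pow_le_pow_right (by norm_num) hn
      -- the number of nonsingular lines
      have hlines := Cfsg.Agent.Helper13.OrthEl.card_lines_mul (F := F)
        (V := (Fin d ⊕ Fin d → F)) (fun v => Qf v ≠ 0)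
        (by
          intro c hc v hv
          show Qf (c • v) ≠ 0
          rw [QuadraticMap.map_smul, smul_eq_mul]
          exact mul_ne_zero (mul_ne_zero hc hc) hv)
        (by
          intro h
          exact h (map_zero Qf))
      rw [hq] at hlines
      have htot : Nat.card {v : Fin d ⊕ Fin d → F // Qf v = 0} +
          Nat.card {v : Fin d ⊕ Fin d → F // Qf v ≠ 0} = q ^ (2 * d) := by
        rw [← Nat.card_sum, Nat.card_congr (Equiv.sumCompl (fun v => Qf v = 0)),
          Nat.card_eq_fintype_card, Fintype.card_fun, hcι, hq]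
      obtain ⟨s, hs⟩ : ∃ s, q = s + 1 := ⟨q - 1, by omega⟩
      have hs0 : 0 < s := by omega
      have hL : Nat.card {W : Submodule F (Fin d ⊕ Fin d → F) //
          Module.finrank F ↥W = 1 ∧ ∃ v ∈ W, Qf v ≠ 0} + q ^ (d - 1) =
          q ^ (d - 1) * q ^ d := by
        apply Nat.eq_of_mul_eq_mul_right hs0
        have h1 : q - 1 = s := by omega
        rw [h1] at hlines
        rw [add_mul, hlines]
        have e1 : q ^ (2 * d) = q ^ 2 * (q ^ (d - 1)) ^ 2 := by
          rw [← pow_mul, ← pow_add]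
          congr 1
          omega
        have e3 : q ^ (d + 1) = q ^ 2 * q ^ (d - 1) := by
          rw [← pow_add]
          congr 1
          omega
        have e4 : q ^ d = q * q ^ (d - 1) := by
          rw [← pow_succ']
          congr 1
          omega
        rw [e1] at htot
        rw [e1, e3, e4] at hNs
        rw [e4]
        generalize q ^ (d - 1) = A at hNs htot ⊢
        generalize Nat.card {v : Fin d ⊕ Fin d → F // Qf v = 0} = N0 at hNs htot ⊢
        generalize Nat.card {v : Fin d ⊕ Fin d → F // Qf v ≠ 0} = N1 at htot ⊢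
        subst hs
        have hN0 : N0 + A = (s + 1) * A ^ 2 + (s + 1) * A := by
          apply Nat.eq_of_mul_eq_mul_left (Nat.succ_pos s)
          nlinarith [hNs]
        nlinarith [hN0, htot]
      have hL' : Nat.card {W : Submodule F (Fin d ⊕ Fin d → F) //
          Module.finrank F ↥W = 1 ∧ ∃ v ∈ W, Qf v ≠ 0} = q ^ (d - 1) * (q ^ d - 1) := by
        rw [Nat.mul_sub_one]
        omega
      rw [hL'] at hrΩ
      have hrq : ¬ r ∣ q ^ (d - 1) := by
        intro h
        have h1 := hrP.dvd_of_dvd_pow h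
        rw [hqn] at h1
        have h2 := hrP.dvd_of_dvd_pow h1
        exact hrp ((Nat.prime_dvd_prime_iff_eq hrP hpP).1 h2)
      have hrd : r ∣ q ^ d - 1 := (hrP.dvd_mul.1 hrΩ).resolve_left hrq
      have hid : orderOf (q : ZMod r) ∣ d :=
        Cfsg.Agent.Helper13.OrthSS.orderOf_dvd_of_dvd_pow_sub_one hrP (by omega) hrd
      have hi0 : 0 < orderOf (q : ZMod r) := Nat.pos_of_dvd_of_pos hid (by omega)
      set i := orderOf (q : ZMod r) with hi
      -- a cyclotomic factor
      have hcardΦ := Cfsg.Agent.Helper13.SS.cycFactors_card (F := F) hq hrP hrp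
      have hΦne : (Cfsg.Agent.Helper13.SS.cycFactors F r).Nonempty := by
        rw [← Finset.card_pos]
        rcases Nat.eq_zero_or_pos (Cfsg.Agent.Helper13.SS.cycFactors F r).card with h | h
        · rw [h, zero_mul] at hcardΦ
          have := hrP.two_le
          omega
        · exact h
      obtain ⟨a₀, ha₀⟩ := hΦne
      have hinv := Cfsg.Agent.Helper13.SympSS.starΦ_involutive (F := F) hrP hr2 hrp
      set σ := Cfsg.Agent.Helper13.SympSS.starΦ (F := F) hrP hr2 hrp with hσ
      set a : ↥(Cfsg.Agent.Helper13.SS.cycFactors F r) := ⟨a₀, ha₀⟩ with ha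
      set k : ↥(Cfsg.Agent.Helper13.SS.cycFactors F r) → ℕ :=
        fun c => (if c = a then d / i else 0) + (if c = σ a then d / i else 0) with hk
      have hksum : ∑ c, k c = d / i + d / i := by
        rw [hk, Finset.sum_add_distrib, Finset.sum_ite_eq' Finset.univ a,
          Finset.sum_ite_eq' Finset.univ (σ a)]
        simp
      have hk1 : ∀ c, k (σ c) = k c := by
        intro c
        have e1 : (σ c = a) ↔ (c = σ a) := by
          constructor
          · intro h
            rw [← h, hinv c]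
          · intro h
            rw [h, hinv a]
        have e2 : (σ c = σ a) ↔ (c = a) := hinv.injective.eq_iff
        show (if σ c = a then d / i else 0) + (if σ c = σ a then d / i else 0) =
          (if c = a then d / i else 0) + (if c = σ a then d / i else 0)
        rw [if_congr e1 rfl rfl, if_congr e2 rfl rfl, add_comm]
      obtain ⟨x, hxΩ, hxr, hxns, hxW⟩ := Cfsg.Agent.Helper13.OrthEl.exists_bad_element hq hrP hr2
        hrp hi0 Qf hQ (by rw [hcι]; exact even_two_mul d) hex (by rw [hcι]; omega) k hk1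
        (by
          rw [hksum, hcι, ← two_mul, ← mul_assoc, mul_comm i 2, mul_assoc,
            Nat.mul_div_cancel' hid])
        (by
          rw [hksum]
          exact iff_of_true (Or.inr ⟨_, rfl⟩) hhyp)
      obtain ⟨W, ⟨hW1, v, hvW, hQv⟩, hWx⟩ := hall x hxΩ
        ⟨1, by rw [hxr, one_smul]; rfl⟩ hxns
      exact hQv (hxW W hW1 hWx v hvW)
  · rintro ⟨hr2, hdodd⟩ x hxΩ hxr hxns
    subst hr2
    obtain ⟨h, hhΩ, rfl⟩ := (Cfsg.Agent.Helper17.OmegaElts.mem_omegaGL_iff Qf x).1 hxΩ
    obtain ⟨z, hz⟩ := hxr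
    set A : Module.End F (Fin d ⊕ Fin d → F) :=
      Cfsg.Agent.Helper17.Spinor.toEnd Qf h with hA
    have hAdef : ∀ v, A v = Matrix.toLin' ((h : GL (Fin d ⊕ Fin d) F) :
        Matrix (Fin d ⊕ Fin d) (Fin d ⊕ Fin d) F) v := fun v => rfl
    have hAQ : ∀ v, Qf (A v) = Qf v := fun v => by
      rw [hAdef, Matrix.toLin'_apply]
      exact h.2 v v
    have hAA : ∀ v, A (A v) = z • v := by
      intro v
      rw [hAdef, hAdef, ← LinearMap.comp_apply, ← Matrix.toLin'_mul, ← pow_two,
        ← Units.val_pow_eq_pow_val, hz, Matrix.toLin'_apply, Matrix.smul_mulVec,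
        Matrix.one_mulVec]
    obtain ⟨v₀, hv₀⟩ := Cfsg.Agent.Helper13.OrthEl.exists_nonsingular Qf hQ (by rw [hcι]; omega)
    have hz1 : z = 1 := by
      have h1 := hAQ (A v₀)
      rw [hAA, hAQ, QuadraticMap.map_smul, smul_eq_mul] at h1
      have h2 : z * z = 1 := by
        have h3 : (z * z - 1) * Qf v₀ = 0 := by linear_combination h1
        rcases mul_eq_zero.1 h3 with h4 | h4
        · exact sub_eq_zero.1 h4
        · exact absurd h4 hv₀
      have h5 : (z - 1) * (z - 1) = 0 := by linear_combination h2 + (1 - z) * h2F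
      rcases mul_eq_zero.1 h5 with h6 | h6 <;> exact sub_eq_zero.1 h6
    have hNN : (A - 1) * (A - 1) = 0 := by
      apply LinearMap.ext
      intro v
      rw [Module.End.mul_apply, LinearMap.sub_apply, LinearMap.sub_apply, Module.End.one_apply,
        Module.End.one_apply, map_sub, hAA, hz1, one_smul]
      rw [LinearMap.zero_apply]
      calc v - A v - (A v - v) = (2 : F) • v - (2 : F) • A v := by
            rw [two_smul, two_smul]; abel
        _ = 0 := by rw [h2F, zero_smul, zero_smul, sub_zero]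
    obtain ⟨v, hAv, hQv⟩ := Cfsg.Agent.Helper13.OrthEl.exists_nonsingular_fixed_plus h2F hdodd hd
      Qf hQf h hhΩ hNN
    have hv0 : v ≠ 0 := by
      rintro rfl
      exact hQv (map_zero Qf)
    refine ⟨Submodule.span F {v}, ⟨finrank_span_singleton hv0, v,
      Submodule.mem_span_singleton_self v, hQv⟩, ?_⟩
    rw [Submodule.map_span, Set.image_singleton]
    have hAv' : Matrix.toLin' ((h : GL (Fin d ⊕ Fin d) F) :
        Matrix (Fin d ⊕ Fin d) (Fin d ⊕ Fin d) F) v = v := hAv
    rw [hAv']

end Cfsg.Agent.S5985
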