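import Mathlib
import Cfsg.Statements.S5986
import Cfsg.Agent.Lib.Helper13.OrthElusive2

set_option autoImplicit false
open scoped MatrixGroups
open Cfsg

namespace Cfsg.Agent.S5986

/-- Elements of prime order of Ω⁻_n(q), q even, with no fixed nonsingular 1-space. Here `T = PΩ⁻_n(F)`, `n = 2d ≥ 8`, realised through `Ω⁻_n(q)`, the commutator subgroup of the isometry group of `Q = Σ_{i<d−1} xᵢyᵢ + z₁² + a z₁z₂ + b z₂²` with `z₁² + a z₁z₂ + b z₂²` anisotropic, over the field `F` with `q` elements; an element of `T` of prime order `r` is an element `x` of `Ω⁻_n(q)` with `x^r` scalar and `x` not scalar; `q` is even (so the centre is trivial). Let Ω be the set of 1-dimensional subspaces spanned by a vector `v` with `Q(v) ≠ 0`, and let `r` be a prime dividing their number. Then every element of `T` of order `r` fixes some nonsingular 1-space if and only if `r = 2`. -/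
theorem result {F : Type*} [Field F] [Fintype F] {p : ℕ} [Fact p.Prime] [CharP F p] {q : ℕ} (hq : Fintype.card F = q)
    (hp : p = 2) (d : ℕ) (hd : 4 ≤ d) (a b : F) (hab : ∀ x y : F, x ^ 2 + a * x * y + b * y ^ 2 = 0 → x = 0 ∧ y = 0) (r : ℕ) [Fact r.Prime]
    (hrΩ : r ∣ Nat.card {W : Submodule F ((Fin (d - 1) ⊕ Fin (d - 1)) ⊕ Fin 2 → F) // Module.finrank F ↥W = 1 ∧ ∃ v ∈ W, Cfsg.quadFormMinus (d - 1) F a b v ≠ 0}) :
    (∀ x : GL ((Fin (d - 1) ⊕ Fin (d - 1)) ⊕ Fin 2) F, x ∈ Cfsg.Geo.omegaGL (Cfsg.quadFormMinus (d - 1) F a b) →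
      (∃ z : F, ((x ^ r : GL ((Fin (d - 1) ⊕ Fin (d - 1)) ⊕ Fin 2) F) : Matrix ((Fin (d - 1) ⊕ Fin (d - 1)) ⊕ Fin 2) ((Fin (d - 1) ⊕ Fin (d - 1)) ⊕ Fin 2) F) = z • (1 : Matrix ((Fin (d - 1) ⊕ Fin (d - 1)) ⊕ Fin 2) ((Fin (d - 1) ⊕ Fin (d - 1)) ⊕ Fin 2) F)) →
      (∀ z : F, (x : Matrix ((Fin (d - 1) ⊕ Fin (d - 1)) ⊕ Fin 2) ((Fin (d - 1) ⊕ Fin (d - 1)) ⊕ Fin 2) F) ≠ z • (1 : Matrix ((Fin (d - 1) ⊕ Fin (d - 1)) ⊕ Fin 2) ((Fin (d - 1) ⊕ Fin (d - 1)) ⊕ Fin 2) F)) →
      ∃ W : Submodule F ((Fin (d - 1) ⊕ Fin (d - 1)) ⊕ Fin 2 → F), (Module.finrank F ↥W = 1 ∧ ∃ v ∈ W, Cfsg.quadFormMinus (d - 1) F a b v ≠ 0) ∧ W.map (Matrix.toLin' (x : Matrix ((Fin (d - 1) ⊕ Fin (d - 1)) ⊕ Fin 2) ((Fin (d - 1) ⊕ Fin (d - 1)) ⊕ Fin 2) F)) ≤ W) ↔ r = 2 := by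
  classical
  have hpP : p.Prime := Fact.out
  have hrP : r.Prime := Fact.out
  have hQeq := Cfsg.Agent.Helper2.Orth.quadFormMinus_eq (F := F) (m := d - 1) a b
  have hQ := Cfsg.Agent.Helper2.Orth.nondeg_minus (F := F) (d - 1) a b hab
  have hnh := Cfsg.Agent.Helper13.OrthSS.not_isHyp_minusMat (F := F) (d - 1) a b hab
  have hcι : Fintype.card ((Fin (d - 1) ⊕ Fin (d - 1)) ⊕ Fin 2) = 2 * d := by
    simp
    omega
  have h2F : (2 : F) = 0 := by
    have h1 : ((2 : ℕ) : F) = 0 := by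
      rw [CharP.cast_eq_zero_iff F p, hp]
    exact_mod_cast h1
  have hNs := Cfsg.Agent.Helper2.Orth.Nsing_minus (F := F) a b hab (d - 1)
  rw [hq] at hNs
  unfold Cfsg.Agent.Helper2.Orth.Nsing at hNs
  rw [hQeq] at hrΩ hNs ⊢
  set Qf := Cfsg.Agent.Helper13.matQ (Cfsg.Agent.Helper13.minusMat (d - 1) a b) with hQf
  have hex : Fintype.card F ≠ 2 ∨ Fintype.card ((Fin (d - 1) ⊕ Fin (d - 1)) ⊕ Fin 2) ≠ 4 := by
    right
    rw [hcι]
    omega
  constructor
  · intro hall
    by_contra hr2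
    have hrodd : Odd r := hrP.odd_of_ne_two hr2
    have hrp : r ≠ p := by rw [hp]; exact hr2
    obtain ⟨n, hn, hqn⟩ := Cfsg.Agent.Helper13.SS.exists_card_pow (p := p) hq
    have hq2 : 2 ≤ q := by
      rw [hqn, hp]
      calc 2 = 2 ^ 1 := rfl
        _ ≤ 2 ^ n := Nat.pow_le_pow_right (by norm_num) hn
    -- the number of nonsingular lines
    have hlines := Cfsg.Agent.Helper13.OrthEl.card_lines_mul (F := F)
      (V := ((Fin (d - 1) ⊕ Fin (d - 1)) ⊕ Fin 2 → F)) (fun v => Qf v ≠ 0)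
      (by
        intro c hc v hv
        show Qf (c • v) ≠ 0
        rw [QuadraticMap.map_smul, smul_eq_mul]
        exact mul_ne_zero (mul_ne_zero hc hc) hv)
      (by
        intro h
        exact h (map_zero Qf))
    rw [hq] at hlines
    have htot : Nat.card {v : (Fin (d - 1) ⊕ Fin (d - 1)) ⊕ Fin 2 → F // Qf v = 0} +
        Nat.card {v : (Fin (d - 1) ⊕ Fin (d - 1)) ⊕ Fin 2 → F // Qf v ≠ 0} = q ^ (2 * d) := by
      rw [← Nat.card_sum, Nat.card_congr (Equiv.sumCompl (fun v => Qf v = 0)),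
        Nat.card_eq_fintype_card, Fintype.card_fun, hcι, hq]
    obtain ⟨s, hs⟩ : ∃ s, q = s + 1 := ⟨q - 1, by omega⟩
    have hs0 : 0 < s := by omega
    have hL : Nat.card {W : Submodule F ((Fin (d - 1) ⊕ Fin (d - 1)) ⊕ Fin 2 → F) //
        Module.finrank F ↥W = 1 ∧ ∃ v ∈ W, Qf v ≠ 0} = q ^ (d - 1) * (q ^ d + 1) := by
      apply Nat.eq_of_mul_eq_mul_right hs0
      have h1 : q - 1 = s := by omega
      rw [h1] at hlines
      rw [hlines]
      have e1 : q ^ (2 * d) = q ^ 2 * (q ^ (d - 1)) ^ 2 := by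
        rw [← pow_mul, ← pow_add]
        congr 1
        omega
      have e2 : q ^ (2 * (d - 1) + 1) = q * (q ^ (d - 1)) ^ 2 := by ring
      have e3 : q ^ (d - 1 + 1) = q * q ^ (d - 1) := by ring
      have e4 : q ^ d = q * q ^ (d - 1) := by
        rw [← pow_succ']
        congr 1
        omega
      rw [e1] at htot
      rw [e2, e3] at hNs
      rw [e4]
      generalize q ^ (d - 1) = A at hNs htot ⊢
      generalize Nat.card {v : (Fin (d - 1) ⊕ Fin (d - 1)) ⊕ Fin 2 → F // Qf v = 0} = N0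
        at hNs htot ⊢
      generalize Nat.card {v : (Fin (d - 1) ⊕ Fin (d - 1)) ⊕ Fin 2 → F // Qf v ≠ 0} = N1
        at htot ⊢
      subst hs
      nlinarith [hNs, htot]
    rw [hL] at hrΩ
    have hrq : ¬ r ∣ q ^ (d - 1) := by
      intro h
      have h1 := hrP.dvd_of_dvd_pow h
      rw [hqn] at h1
      have h2 := hrP.dvd_of_dvd_pow h1
      exact hrp ((Nat.prime_dvd_prime_iff_eq hrP hpP).1 h2)
    have hrd : r ∣ q ^ d + 1 := (hrP.dvd_mul.1 hrΩ).resolve_left hrq
    -- the order of q modulo r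
    have hqd : (q : ZMod r) ^ d = -1 := by
      have h1 : ((q ^ d + 1 : ℕ) : ZMod r) = 0 := (ZMod.natCast_eq_zero_iff _ _).2 hrd
      rw [Nat.cast_add, Nat.cast_pow, Nat.cast_one] at h1
      exact eq_neg_of_add_eq_zero_left h1
    have hneg : (-1 : ZMod r) ≠ 1 := by
      intro h
      have h1 : ((2 : ℕ) : ZMod r) = 0 := by
        have : (1 : ZMod r) + 1 = 0 := by
          nth_rewrite 1 [← h]
          ring
        rw [Nat.cast_ofNat, ← one_add_one_eq_two]
        exact this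
      rw [ZMod.natCast_eq_zero_iff] at h1
      exact hr2 ((Nat.prime_dvd_prime_iff_eq hrP Nat.prime_two).1 h1)
    have hq2d : (q : ZMod r) ^ (2 * d) = 1 := by
      rw [mul_comm, pow_mul, hqd]
      ring
    have hi0 : 0 < orderOf (q : ZMod r) := by
      rw [orderOf_pos_iff, isOfFinOrder_iff_pow_eq_one]
      exact ⟨2 * d, by omega, hq2d⟩
    have hi2d : orderOf (q : ZMod r) ∣ 2 * d := orderOf_dvd_of_pow_eq_one hq2d
    have hid : ¬ orderOf (q : ZMod r) ∣ d := by
      intro h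
      rw [orderOf_dvd_iff_pow_eq_one, hqd] at h
      exact hneg h
    set i := orderOf (q : ZMod r) with hi
    have hiev : Even i := by
      rcases Nat.even_or_odd i with h | h
      · exact h
      · exfalso
        apply hid
        have hcop : Nat.Coprime i 2 := Nat.Coprime.symm (Nat.coprime_two_left.2 h)
        exact hcop.dvd_of_dvd_mul_left hi2d
    have hquot : ¬ Even (2 * d / i) := by
      rintro ⟨c, hc⟩
      apply hid
      have h1 : 2 * d = i * (2 * d / i) := (Nat.mul_div_cancel' hi2d).symm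
      rw [hc] at h1
      exact ⟨c, by linarith⟩
    -- a cyclotomic factor
    have hcardΦ := Cfsg.Agent.Helper13.SS.cycFactors_card (F := F) hq hrP hrp
    have hΦne : (Cfsg.Agent.Helper13.SS.cycFactors F r).Nonempty := by
      rw [← Finset.card_pos]
      rcases Nat.eq_zero_or_pos (Cfsg.Agent.Helper13.SS.cycFactors F r).card with h | h
      · rw [h, zero_mul] at hcardΦ
        have := hrP.two_le
        omega
      · exact h
    obtain ⟨a₀, ha₀⟩ := hΦne
    set k : ↥(Cfsg.Agent.Helper13.SS.cycFactors F r) → ℕ :=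
      fun c => if c = ⟨a₀, ha₀⟩ then 2 * d / i else 0 with hk
    have hksum : ∑ c, k c = 2 * d / i := by
      rw [hk, Finset.sum_ite_eq' Finset.univ (⟨a₀, ha₀⟩ : ↥(Cfsg.Agent.Helper13.SS.cycFactors F r))]
      simp
    have hstar : ∀ c : ↥(Cfsg.Agent.Helper13.SS.cycFactors F r),
        Cfsg.Agent.Helper13.SympSS.starΦ hrP hr2 hrp c = c := by
      intro c
      apply Subtype.ext
      exact Cfsg.Agent.Helper13.SympSS.dualPoly_eq_self_of_even hq hrP hi0 hiev c.2
    obtain ⟨x, hxΩ, hxr, hxns, hxW⟩ := Cfsg.Agent.Helper13.OrthEl.exists_bad_element hq hrP hr2 hrp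
      hi0 Qf hQ (by rw [hcι]; exact even_two_mul d) hex (by rw [hcι]; omega) k
      (fun c => by rw [hstar c])
      (by rw [hksum, hcι]; exact Nat.mul_div_cancel' hi2d)
      (by
        rw [hksum]
        apply iff_of_false _ hnh
        rintro (h | h)
        · exact (Nat.not_even_iff_odd.2 h) hiev
        · exact hquot h)
    obtain ⟨W, ⟨hW1, v, hvW, hQv⟩, hWx⟩ := hall x hxΩ
      ⟨1, by rw [hxr, one_smul]; rfl⟩ hxns
    exact hQv (hxW W hW1 hWx v hvW)
  · intro hr2 x hxΩ hxr hxns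
    subst hr2
    obtain ⟨h, hhΩ, rfl⟩ := (Cfsg.Agent.Helper17.OmegaElts.mem_omegaGL_iff Qf x).1 hxΩ
    obtain ⟨z, hz⟩ := hxr
    set A : Module.End F ((Fin (d - 1) ⊕ Fin (d - 1)) ⊕ Fin 2 → F) :=
      Matrix.toLin' ((h : GL ((Fin (d - 1) ⊕ Fin (d - 1)) ⊕ Fin 2) F) :
        Matrix ((Fin (d - 1) ⊕ Fin (d - 1)) ⊕ Fin 2) ((Fin (d - 1) ⊕ Fin (d - 1)) ⊕ Fin 2) F)
      with hA
    have hAQ : ∀ v, Qf (A v) = Qf v := fun v => by
      rw [hA, Matrix.toLin'_apply]
      exact h.2 v v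
    have hAA : ∀ v, A (A v) = z • v := by
      intro v
      rw [hA, ← LinearMap.comp_apply, ← Matrix.toLin'_mul, ← pow_two, ← Units.val_pow_eq_pow_val,
        hz, Matrix.toLin'_apply, Matrix.smul_mulVec, Matrix.one_mulVec]
    obtain ⟨v₀, hv₀⟩ := Cfsg.Agent.Helper13.OrthEl.exists_nonsingular Qf hQ (by rw [hcι]; omega)
    have hz1 : z = 1 := by
      have h1 := hAQ (A v₀)
      rw [hAA, hAQ, QuadraticMap.map_smul, smul_eq_mul] at h1
      have h2 : z * z = 1 := by
        have h3 : (z * z - 1) * Qf v₀ = 0 := by linear_combination h1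
        rcases mul_eq_zero.1 h3 with h4 | h4
        · exact sub_eq_zero.1 h4
        · exact absurd h4 hv₀
      have h5 : (z - 1) * (z - 1) = 0 := by linear_combination h2 + (1 - z) * h2F
      rcases mul_eq_zero.1 h5 with h6 | h6 <;> exact sub_eq_zero.1 h6
    have hNN : (A - 1) * (A - 1) = 0 := by
      apply LinearMap.ext
      intro v
      rw [Module.End.mul_apply, LinearMap.sub_apply, LinearMap.sub_apply, Module.End.one_apply,
        Module.End.one_apply, map_sub, hAA, hz1, one_smul]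
      have : (2 : F) • A v = 0 := by rw [h2F, zero_smul]
      rw [LinearMap.zero_apply]
      calc v - A v - (A v - v) = (2 : F) • v - (2 : F) • A v := by
            rw [two_smul, two_smul]; abel
        _ = 0 := by rw [h2F, zero_smul, zero_smul, sub_zero]
    obtain ⟨v, hvk, hQv⟩ := Cfsg.Agent.Helper13.OrthEl.exists_nonsingular_mem_ker Qf
      (by rw [Module.finrank_fintype_fun_eq_card, hcι]; exact even_two_mul d) hnh (A - 1) hNN
    have hAv : A v = v := by
      rw [LinearMap.mem_ker, LinearMap.sub_apply, Module.End.one_apply, sub_eq_zero] at hvk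
      exact hvk
    have hv0 : v ≠ 0 := by
      rintro rfl
      exact hQv (map_zero Qf)
    refine ⟨Submodule.span F {v}, ⟨finrank_span_singleton hv0, v,
      Submodule.mem_span_singleton_self v, hQv⟩, ?_⟩
    rw [Submodule.map_span, Set.image_singleton]
    show Submodule.span F {A v} ≤ _
    rw [hAv]

end Cfsg.Agent.S5986
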