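import Mathlib
import Cfsg.Statements.S5997
import Cfsg.Agent.Lib.Helper13.Q8Norm3

set_option autoImplicit false
open scoped MatrixGroups
open Cfsg

namespace Cfsg.Agent.S5997

/-- Elements of prime order of PSL_2(p) and the normalizer of a quaternion subgroup. Here `T = PSL_2(F)` for the field `F` with `p` elements, `p ≥ 5` prime; `R` is a subgroup of GL_2(F) isomorphic to the quaternion group of order 8 (an absolutely irreducible 2-group of symplectic type), and `H` is the subgroup of matrices of determinant 1 normalizing `R` — a subgroup of type 2^{1+2}.O₂⁻(2), isomorphic modulo scalars to A₄ or S₄ (maximality is not assumed). Ω is the set of cosets of `H` in `T`, so an element of `T` of prime order `r` (a matrix `x` of determinant 1 with `x^r` scalar, `x` not scalar) fixes a point of Ω exactly when some conjugate of `x` by a matrix of determinant 1 normalizes `R`. Let `r` be a prime dividing the index of `H`. Then every element of `T` of order `r` fixes a point of Ω if and only if `r = 2` or `r = 3`.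 -/
theorem result {F : Type*} [Field F] [Fintype F] {p : ℕ} [Fact p.Prime] [CharP F p] (hF : Fintype.card F = p) (hp : 5 ≤ p)
    (R : Subgroup (GL (Fin 2) F)) (hR : Nonempty (↥R ≃* QuaternionGroup 2))
    (r : ℕ) [Fact r.Prime]
    (hΩ : r ∣ (Cfsg.Geo.subgroupNormalizer R).relIndex (Cfsg.Geo.specialLinear (Fin 2) F)) :
    (∀ x ∈ Cfsg.Geo.specialLinear (Fin 2) F, (∃ z : F, ((x ^ r : GL (Fin 2) F) : Matrix (Fin 2) (Fin 2) F) = z • (1 : Matrix (Fin 2) (Fin 2) F)) →
      (∀ z : F, (x : Matrix (Fin 2) (Fin 2) F) ≠ z • (1 : Matrix (Fin 2) (Fin 2) F)) →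
      ∃ g ∈ Cfsg.Geo.specialLinear (Fin 2) F, g⁻¹ * x * g ∈ Cfsg.Geo.subgroupNormalizer R) ↔ (r = 2 ∨ r = 3) := by
  classical
  have hchar : ringChar F = p := ringChar.eq F p
  have hF2 : ringChar F ≠ 2 := by rw [hchar]; omega
  have h2 : (2 : F) ≠ 0 := Ring.two_ne_zero hF2
  have h3 : (3 : F) ≠ 0 := by
    intro h
    have h' : ((3 : ℕ) : F) = 0 := by exact_mod_cast h
    rw [CharP.cast_eq_zero_iff F p 3] at h'
    have := Nat.le_of_dvd (by norm_num) h'
    omega
  obtain ⟨a, b, hq⟩ := Cfsg.Agent.Helper13.Q8N.exists_qdata R hR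
  obtain ⟨e⟩ := hR
  haveI : Finite ↥R := Finite.of_equiv _ e.symm.toEquiv
  have hcard : Nat.card ↥R = 8 := by
    rw [Nat.card_congr e.toEquiv, Nat.card_eq_fintype_card, QuaternionGroup.card]
  constructor
  · intro hall
    by_contra hr
    have hr2 : r ≠ 2 := fun h => hr (Or.inl h)
    have hr3 : r ≠ 3 := fun h => hr (Or.inr h)
    have hrp : r.Prime := Fact.out
    have hr5 : 5 ≤ r := by
      have h2' := hrp.two_le
      by_contra hlt
      have : r = 4 := by omega
      rw [this] at hrp
      exact absurd hrp (by norm_num)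
    have hdvd : r ∣ Nat.card ↥(Cfsg.Geo.specialLinear (Fin 2) F) :=
      dvd_trans hΩ (Subgroup.index_dvd_card _)
    obtain ⟨x, hx⟩ := exists_prime_orderOf_dvd_card' r hdvd
    have hxr : (x : GL (Fin 2) F) ^ r = 1 := by
      have := pow_orderOf_eq_one x
      rw [hx] at this
      have h' := congrArg Subtype.val this
      simpa using h'
    have hdet := (Cfsg.Agent.Helper13.Q8N.mem_specialLinear_iff (x : GL (Fin 2) F)).1 x.2
    have hns : ∀ z : F, ((x : GL (Fin 2) F) : Matrix (Fin 2) (Fin 2) F) ≠
        z • (1 : Matrix (Fin 2) (Fin 2) F) := by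
      intro z hz
      rw [hz, Matrix.det_smul, Fintype.card_fin, Matrix.det_one, mul_one] at hdet
      have hsq : (x : GL (Fin 2) F) ^ 2 = 1 := by
        apply Units.ext
        rw [Units.val_pow_eq_pow_val, hz, sq, smul_mul_assoc, one_mul, smul_smul, ← sq, hdet,
          one_smul, Units.val_one]
      have hsq' : x ^ 2 = 1 := by
        apply Subtype.ext
        simpa using hsq
      have := orderOf_dvd_of_pow_eq_one hsq'
      rw [hx] at this
      have := Nat.le_of_dvd (by norm_num) this
      omega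
    obtain ⟨g, hg, hy⟩ := hall x x.2 ⟨1, by rw [hxr, one_smul, Units.val_one]⟩ hns
    obtain ⟨c, hc⟩ := Cfsg.Agent.Helper13.Q8N.scalar_of_conj_mem h2 hcard hq r hr5 _ hxr g hy
    exact hns c hc
  · rintro (rfl | rfl)
    · rintro x hx ⟨z, hz⟩ hns
      exact Cfsg.Agent.Helper13.Q8N.conj_of_sq hF2 hq x hx z hz hns
    · rintro x hx ⟨z, hz⟩ hns
      exact Cfsg.Agent.Helper13.Q8N.conj_of_cube hF2 h3 hq x hx z hz hns

end Cfsg.Agent.S5997
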