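import Mathlib
import Cfsg.Statements.S5998
import Cfsg.Agent.Lib.Helper13.E27Norm3

set_option autoImplicit false
open scoped MatrixGroups
open Cfsg

namespace Cfsg.Agent.S5998

/-- Elements of prime order of PSL_3(p), p ≡ 1 (mod 3), and the normalizer of an extraspecial subgroup of order 27. Here `T = PSL_3(F)` for the field `F` with `p` elements, `p` a prime with `p ≡ 1 (mod 3)`; `R` is a non-abelian subgroup of GL_3(F) of order 27 and exponent 3 (an extraspecial group 3^{1+2}, acting absolutely irreducibly), and `H` is the subgroup of matrices of determinant 1 normalizing `R` — a subgroup of type 3^{1+2}.Sp₂(3) (maximality is not assumed). Ω is the set of cosets of `H` in `T`, so an element of `T` of prime order `r` (a matrix `x` of determinant 1 with `x^r` scalar, `x` not scalar) fixes a point of Ω exactly when some conjugate of `x` by a matrix of determinant 1 normalizes `R`. Let `r` be a prime dividing the index of `H`. Then every element of `T` of order `r` fixes a point of Ω if and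 only if `r = 2`, or `r = 3` and `p ≡ 1 (mod 9)`. -/
theorem result {F : Type*} [Field F] [Fintype F] {p : ℕ} [Fact p.Prime] [CharP F p] (hF : Fintype.card F = p) (hp3 : p % 3 = 1)
    (R : Subgroup (GL (Fin 3) F)) (hR : Nat.card R = 27) (hRe : Monoid.exponent R = 3) (hRna : ¬ IsMulCommutative R)
    (r : ℕ) [Fact r.Prime]
    (hΩ : r ∣ (Cfsg.Geo.subgroupNormalizer R).relIndex (Cfsg.Geo.specialLinear (Fin 3) F)) :
    (∀ x ∈ Cfsg.Geo.specialLinear (Fin 3) F, (∃ z : F, ((x ^ r : GL (Fin 3) F) : Matrix (Fin 3) (Fin 3) F) = z • (1 : Matrix (Fin 3) (Fin 3) F)) →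
      (∀ z : F, (x : Matrix (Fin 3) (Fin 3) F) ≠ z • (1 : Matrix (Fin 3) (Fin 3) F)) →
      ∃ g ∈ Cfsg.Geo.specialLinear (Fin 3) F, g⁻¹ * x * g ∈ Cfsg.Geo.subgroupNormalizer R) ↔ (r = 2 ∨ (r = 3 ∧ p % 9 = 1)) := by
  classical
  have hpp : p.Prime := Fact.out
  have hp2 : p ≠ 2 := by
    rintro rfl
    omega
  have hp3' : p ≠ 3 := by
    rintro rfl
    omega
  have h3 : (3 : F) ≠ 0 := by
    intro h
    have h' : ((3 : ℕ) : F) = 0 := by exact_mod_cast h
    rw [CharP.cast_eq_zero_iff F p 3] at h'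
    have := (Nat.prime_dvd_prime_iff_eq hpp Nat.prime_three).1 h'
    exact hp3' this
  -- a primitive cube root of unity
  obtain ⟨γ₀, hγ₀⟩ : ∃ γ₀ : F, γ₀ ^ 2 + γ₀ + 1 = 0 := by
    haveI : Fact (Nat.Prime 3) := ⟨Nat.prime_three⟩
    have hdvd : 3 ∣ Nat.card Fˣ := by
      rw [Nat.card_eq_fintype_card, Fintype.card_units, hF]
      omega
    obtain ⟨u, hu⟩ := exists_prime_orderOf_dvd_card' 3 hdvd
    have hu3 : (u : F) ^ 3 = 1 := by
      rw [← Units.val_pow_eq_pow_val, ← hu, pow_orderOf_eq_one, Units.val_one]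
    have hu1 : (u : F) ≠ 1 := by
      intro h
      have : u = 1 := Units.ext h
      rw [this, orderOf_one] at hu
      norm_num at hu
    refine ⟨(u : F), ?_⟩
    have : ((u : F) - 1) * ((u : F) ^ 2 + u + 1) = 0 := by linear_combination hu3
    rcases mul_eq_zero.1 this with h | h
    · exact absurd (sub_eq_zero.1 h) hu1
    · exact h
  obtain ⟨γ, T, hE⟩ := Cfsg.Agent.Helper13.E27.exists_edata h3 hγ₀ R hR hRe hRna
  constructor
  · intro hall
    by_contra hr
    have hr2 : r ≠ 2 := fun h => hr (Or.inl h)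
    have hrp : r.Prime := Fact.out
    by_cases hr3 : r = 3
    · have hp9 : p % 9 ≠ 1 := fun h => hr (Or.inr ⟨hr3, h⟩)
      rw [hr3] at hΩ
      exact Cfsg.Agent.Helper13.E27.three_not_dvd_relIndex hF hp3 hp9 hR hE hΩ
    have hr5 : 5 ≤ r := by
      have h2' := hrp.two_le
      by_contra hlt
      have : r = 4 := by omega
      rw [this] at hrp
      exact absurd hrp (by norm_num)
    have hdvd : r ∣ Nat.card ↥(Cfsg.Geo.specialLinear (Fin 3) F) :=
      dvd_trans hΩ (Subgroup.index_dvd_card _)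
    obtain ⟨x, hx⟩ := exists_prime_orderOf_dvd_card' r hdvd
    have hxr : (x : GL (Fin 3) F) ^ r = 1 := by
      have := pow_orderOf_eq_one x
      rw [hx] at this
      have h' := congrArg Subtype.val this
      simpa using h'
    have hdet := (Cfsg.Agent.Helper13.E27.mem_specialLinear_iff3 (x : GL (Fin 3) F)).1 x.2
    have hns : ∀ z : F, ((x : GL (Fin 3) F) : Matrix (Fin 3) (Fin 3) F) ≠
        z • (1 : Matrix (Fin 3) (Fin 3) F) := by
      intro z hz
      rw [hz, Matrix.det_smul, Fintype.card_fin, Matrix.det_one, mul_one] at hdet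
      have hcube : (x : GL (Fin 3) F) ^ 3 = 1 := by
        apply Units.ext
        rw [Units.val_pow_eq_pow_val, hz, smul_pow, one_pow, hdet, one_smul, Units.val_one]
      have hcube' : x ^ 3 = 1 := by
        apply Subtype.ext
        simpa using hcube
      have := orderOf_dvd_of_pow_eq_one hcube'
      rw [hx] at this
      have := Nat.le_of_dvd (by norm_num) this
      omega
    obtain ⟨g, hg, hy⟩ := hall x x.2 ⟨1, by rw [hxr, one_smul, Units.val_one]⟩ hns
    obtain ⟨c, hc⟩ := Cfsg.Agent.Helper13.E27.scalar_of_conj_mem27 hR hE r hr5 _ hxr g hy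
    exact hns c hc
  · rintro (rfl | ⟨rfl, hp9⟩)
    · rintro x hx ⟨z, hz⟩ hns
      exact Cfsg.Agent.Helper13.E27.conj_of_sq3 (p := p) hp2 hp3' hE x hx z hz hns
    · rintro x hx ⟨z, hz⟩ hns
      have h9 : 9 ∣ Fintype.card F - 1 := by
        rw [hF]
        omega
      exact Cfsg.Agent.Helper13.E27.conj_of_cube3 (p := p) hp3' h9 hE x hx z hz

end Cfsg.Agent.S5998
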